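import Cfsg.Agent.H94.J3.Gen

/-! Generated certificate data for the Rudvalis group. -/

namespace H94.RU.D

open H94.J3

def paT_naaaaa : Tr := (.nd (.nd (.nd (.nd (.nd (.nd (.lf 0x2) (.lf 0x3b3e07c)) (.nd (.lf 0x2ce51bd) (.lf 0x1f7a052))) (.nd (.nd (.lf 0xc81338d) (.lf 0xb23838f)) (.nd (.lf 0xd58e81a) (.lf 0)))) (.nd (.nd (.nd (.lf 0x5952780) (.lf 0x120d7e3)) (.nd (.lf 0x3c8dee3) (.lf 0xa6c1096))) (.nd (.nd (.lf 0xb85f18f) (.lf 0x1a8c0f5)) (.nd (.lf 0x8a297a4) (.lf 0))))) (.nd (.nd (.nd (.nd (.lf 0xd6e22fb) (.lf 0x89ca55)) (.nd (.lf 0x5efed78) (.lf 0x3e0feb5))) (.nd (.nd (.lf 0xf5cda39) (.lf 0x8b85853)) (.nd (.lf 0xee0d09e) (.lf 0)))) (.nd (.nd (.nd (.lf 0x77d52a0) (.lf 0x1f660d6)) (.nd (.lf 0x959697f) (.lf 0x75b387d))) (.nd (.nd (.lf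 0xc1df12c) (.lf 0x5369f43)) (.nd (.lf 0x5924e69) (.lf 0)))))) (.nd (.nd (.nd (.nd (.nd (.lf 0x9d6e778) (.lf 0x2a430f4)) (.nd (.lf 0x3038f60) (.lf 0xa227de7))) (.nd (.nd (.lf 0x531832d) (.lf 0x8)) (.nd (.lf 0x535b6af) (.lf 0)))) (.nd (.nd (.nd (.lf 0x42de214) (.lf 0x1683ea6)) (.nd (.lf 0xb0b7f06) (.lf 0x47de19a))) (.nd (.nd (.lf 0x5c7d370) (.lf 0x32977fe)) (.nd (.lf 0xa04609) (.lf 0))))) (.nd (.nd (.nd (.nd (.lf 0x7fd6266) (.lf 0xea1895b)) (.nd (.lf 0xc013a73) (.lf 0x4f50e29))) (.nd (.nd (.lf 0x95eb315) (.lf 0xc53dfbb)) (.nd (.lf 0x999475d) (.lf 0)))) (.nd (.nd (.nd (.lf 0x8e8deb2) (.lf 0xfdd2b2)) (.nd (.lf 0x3a0cc7d) (.lf 0))) (.nd (.nd (.lf 0xb4ceee0) (.lf 0x2e93561)) (.nd (.lf 0x550a7cc) (.lf 0)))))))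
def paT_naaaab : Tr := (.nd (.nd (.nd (.nd (.nd (.nd (.lf 0x243cd4d) (.lf 0x382c9ea)) (.nd (.lf 0x965ddd5) (.lf 0xc6e3038))) (.nd (.nd (.lf 0x167c04a) (.lf 0xc585e9f)) (.nd (.lf 0x424b638) (.lf 0)))) (.nd (.nd (.nd (.lf 0xd5b263) (.lf 0x28f3ef2)) (.nd (.lf 0xed22090) (.lf 0x8edcf43))) (.nd (.nd (.lf 0xbd3bf32) (.lf 0x13e75fa)) (.nd (.lf 0xbeb4bd) (.lf 0))))) (.nd (.nd (.nd (.nd (.lf 0xfc8ede0) (.lf 0xaec9def)) (.nd (.lf 0x9f99b65) (.lf 0x555adec))) (.nd (.nd (.lf 0x592a495) (.lf 0x4754b93)) (.nd (.lf 0x52cccc1) (.lf 0)))) (.nd (.nd (.nd (.lf 0x10fbcc8) (.lf 0x2043222)) (.nd (.lf 0x9cde057) (.lf 0x20866e1))) (.nd (.nd (.lf 0xb95bea7) (.lf 0x26ca742)) (.nd (.lf 0xef5a074) (.lf 0)))))) (.nd (.nd (.nd (.nd (.nd (.lf 0x7cb4a77) (.lf 0x1558c77))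 (.nd (.lf 0x98085e) (.lf 0xd297426))) (.nd (.nd (.lf 0xa6bde35) (.lf 0x8aa23fb)) (.nd (.lf 0xb45dfb4) (.lf 0)))) (.nd (.nd (.nd (.lf 0xe1edae) (.lf 0xf1608b7)) (.nd (.lf 0x1a37a93) (.lf 0xbb3cb3e))) (.nd (.nd (.lf 0x5a10ed4) (.lf 0x2be00a9)) (.nd (.lf 0xbe24f91) (.lf 0))))) (.nd (.nd (.nd (.nd (.lf 0x53eff49) (.lf 0xeeeba03)) (.nd (.lf 0x92143a9) (.lf 0xd60ce0e))) (.nd (.nd (.lf 0x64d626) (.lf 0x12edea1)) (.nd (.lf 0xf46c516) (.lf 0)))) (.nd (.nd (.nd (.lf 0x8931e58) (.lf 0x13fbde6)) (.nd (.lf 0xbefb87e) (.lf 0))) (.nd (.nd (.lf 0x440d50) (.lf 0xbcf4a9f)) (.nd (.lf 0xcd2b157) (.lf 0)))))))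
def paT_naaaba : Tr := (.nd (.nd (.nd (.nd (.nd (.nd (.lf 0xd89579) (.lf 0x2a454dd)) (.nd (.lf 0x33bd60b) (.lf 0xcbd110b))) (.nd (.nd (.lf 0x86878b1) (.lf 0x20dee2d)) (.nd (.lf 0xf8af130) (.lf 0)))) (.nd (.nd (.nd (.lf 0x1e0665b) (.lf 0xbfdd838)) (.nd (.lf 0x89c6ec9) (.lf 0x390f506))) (.nd (.nd (.lf 0x14aed2b) (.lf 0x891a5ed)) (.nd (.lf 0x1caa435) (.lf 0))))) (.nd (.nd (.nd (.nd (.lf 0x5b889ee) (.lf 0x83cb395)) (.nd (.lf 0x2b9bda6) (.lf 0xe3ad613))) (.nd (.nd (.lf 0xe98c553) (.lf 0x8a0458e)) (.nd (.lf 0xa42913d) (.lf 0)))) (.nd (.nd (.nd (.lf 0xd4eb2a1) (.lf 0x2647ef4)) (.nd (.lf 0x7d5558a) (.lf 0x590b1a1))) (.nd (.nd (.lf 0x2169183) (.lf 0xf9a0871)) (.nd (.lf 0xfad7cfe) (.lf 0)))))) (.nd (.nd (.nd (.nd (.nd (.lf 0x30503bb) (.lf 0xecf9c63))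 (.nd (.lf 0x3304821) (.lf 0x725a192))) (.nd (.nd (.lf 0x9ec3d64) (.lf 0x34a06d2)) (.nd (.lf 0xed7d413) (.lf 0)))) (.nd (.nd (.nd (.lf 0x59b199c) (.lf 0xfa2104)) (.nd (.lf 0x6ee0287) (.lf 0xf786ffc))) (.nd (.nd (.lf 0xdc62f55) (.lf 0x7353c35)) (.nd (.lf 0x812c601) (.lf 0))))) (.nd (.nd (.nd (.nd (.lf 0xafb84f9) (.lf 0xfadde6b)) (.nd (.lf 0xc2091d0) (.lf 0xc228c42))) (.nd (.nd (.lf 0x9d2d601) (.lf 0x72865ff)) (.nd (.lf 0x30dfcee) (.lf 0)))) (.nd (.nd (.nd (.lf 0x70e7d03) (.lf 0x100)) (.nd (.lf 0xfcd14bb) (.lf 0))) (.nd (.nd (.lf 0xfdefc3d) (.lf 0xa131f1e)) (.nd (.lf 0xd7cc24) (.lf 0)))))))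
def paT_naaabb : Tr := (.nd (.nd (.nd (.nd (.nd (.nd (.lf 0x143aeb5) (.lf 0x4fa6120)) (.nd (.lf 0x4d8be2e) (.lf 0xad3418e))) (.nd (.nd (.lf 0xf905e1e) (.lf 0x3c60fd5)) (.nd (.lf 0xe5d2ef8) (.lf 0)))) (.nd (.nd (.nd (.lf 0x4ff9c89) (.lf 0x57f5c6e)) (.nd (.lf 0xcaf62d2) (.lf 0xc19a1e8))) (.nd (.nd (.lf 0xa407a7d) (.lf 0x73608b7)) (.nd (.lf 0xd1ed658) (.lf 0))))) (.nd (.nd (.nd (.nd (.lf 0x6601d7e) (.lf 0x39bbbbe)) (.nd (.lf 0x4a97ca5) (.lf 0x5ac0c5c))) (.nd (.nd (.lf 0x3639837) (.lf 0x919b82a)) (.nd (.lf 0xdb7982c) (.lf 0)))) (.nd (.nd (.nd (.lf 0x14971bb) (.lf 0x939e281)) (.nd (.lf 0xd7c28e8) (.lf 0x5d4eab8))) (.nd (.nd (.lf 0x50a9a6e) (.lf 0x77162e0)) (.nd (.lf 0xf864eb7) (.lf 0)))))) (.nd (.nd (.nd (.nd (.nd (.lf 0x2cc581d) (.lf 0x5782c6c))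 (.nd (.lf 0xd41b22a) (.lf 0x7234100))) (.nd (.nd (.lf 0xeb6d61b) (.lf 0x4f9878f)) (.nd (.lf 0x8000) (.lf 0)))) (.nd (.nd (.nd (.lf 0x2e2c9e9) (.lf 0x8a68f42)) (.nd (.lf 0x77550a0) (.lf 0x32d0326))) (.nd (.nd (.lf 0xefd5b88) (.lf 0x17d44d8)) (.nd (.lf 0xbba9de7) (.lf 0))))) (.nd (.nd (.nd (.nd (.lf 0xb252c55) (.lf 0xac19649)) (.nd (.lf 0x44fa7c3) (.lf 0xa12524a))) (.nd (.nd (.lf 0xc759313) (.lf 0x7900469)) (.nd (.lf 0xebf9c93) (.lf 0)))) (.nd (.nd (.nd (.lf 0x9076463) (.lf 0x883d89e)) (.nd (.lf 0x1f13ead) (.lf 0))) (.nd (.nd (.lf 0xbee6a9e) (.lf 0x4513568)) (.nd (.lf 0x7ec1292) (.lf 0)))))))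
def paT_naabaa : Tr := (.nd (.nd (.nd (.nd (.nd (.nd (.lf 0xd6bead7) (.lf 0x5f36677)) (.nd (.lf 0x123c2b0) (.lf 0xe40a967))) (.nd (.nd (.lf 0xbb31da9) (.lf 0xae4c8a7)) (.nd (.lf 0xa3cc3a4) (.lf 0)))) (.nd (.nd (.nd (.lf 0xad4b731) (.lf 0xf943aa5)) (.nd (.lf 0x113cd58) (.lf 0xcc3d3d6))) (.nd (.nd (.lf 0x5e7ba03) (.lf 0x1fef400)) (.nd (.lf 0x33ed2bf) (.lf 0))))) (.nd (.nd (.nd (.nd (.lf 0x1e3b07a) (.lf 0xb0871d7)) (.nd (.lf 0x85a55f7) (.lf 0x3b0736a))) (.nd (.nd (.lf 0xd330d65) (.lf 0xff717d8)) (.nd (.lf 0x2dcb731) (.lf 0)))) (.nd (.nd (.nd (.lf 0xdfa9fac) (.lf 0x2973da4)) (.nd (.lf 0xd8aca1) (.lf 0xed2a091))) (.nd (.nd (.lf 0xdf900f6) (.lf 0xaef9472)) (.nd (.lf 0x4c78ecd) (.lf 0)))))) (.nd (.nd (.nd (.nd (.nd (.lf 0x2cf10d1) (.lf 0x6a7f3b6))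 (.nd (.lf 0x9f4cb3a) (.lf 0x5fbf8b8))) (.nd (.nd (.lf 0x79e48a7) (.lf 0xda0f40c)) (.nd (.lf 0x77eb9b2) (.lf 0)))) (.nd (.nd (.nd (.lf 0x4a5493b) (.lf 0x8e8debb)) (.nd (.lf 0x41762c9) (.lf 0xad89bbe))) (.nd (.nd (.lf 0x16d22f3) (.lf 0x900504e)) (.nd (.lf 0x8d83c19) (.lf 0))))) (.nd (.nd (.nd (.nd (.lf 0x60360f4) (.lf 0xdba4682)) (.nd (.lf 0x979b63e) (.lf 0x4cf7cab))) (.nd (.nd (.lf 0x9b628dc) (.lf 0xb1338f1)) (.nd (.lf 0x256c4ce) (.lf 0)))) (.nd (.nd (.nd (.lf 0xe978d96) (.lf 0xf17ae88)) (.nd (.lf 0x4d915d8) (.lf 0))) (.nd (.nd (.lf 0xdabc48b) (.lf 0xf786bf4)) (.nd (.lf 0x6dca696) (.lf 0)))))))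
def paT_naabab : Tr := (.nd (.nd (.nd (.nd (.nd (.nd (.lf 0x319bf11) (.lf 0x5b2b1a1)) (.nd (.lf 0xba1ab78) (.lf 0x2257c19))) (.nd (.nd (.lf 0x1e2ab51) (.lf 0x3cdf8a4)) (.nd (.lf 0xfc80467) (.lf 0)))) (.nd (.nd (.nd (.lf 0x2b610a9) (.lf 0x4dae62)) (.nd (.lf 0xbeb7944) (.lf 0xd89722f))) (.nd (.nd (.lf 0xc5f517d) (.lf 0xf41131d)) (.nd (.lf 0x24d1049) (.lf 0))))) (.nd (.nd (.nd (.nd (.lf 0x586e382) (.lf 0xe09fda0)) (.nd (.lf 0x6803122) (.lf 0xf9f4848))) (.nd (.nd (.lf 0xa35f82f) (.lf 0x10d6b1a)) (.nd (.lf 0x8ea18e9) (.lf 0)))) (.nd (.nd (.nd (.lf 0x858e988) (.lf 0xa2f4a01)) (.nd (.lf 0xe5e753d) (.lf 0x6a7ac37))) (.nd (.nd (.lf 0x1a389f0) (.lf 0xc0cb7e3)) (.nd (.lf 0x400) (.lf 0)))))) (.nd (.nd (.nd (.nd (.nd (.lf 0x61f0f71) (.lf 0x7b2e19c))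 (.nd (.lf 0x90d61ff) (.lf 0x5796308))) (.nd (.nd (.lf 0xb96c993) (.lf 0xebdfcbc)) (.nd (.lf 0x64780d3) (.lf 0)))) (.nd (.nd (.nd (.lf 0xa9080e) (.lf 0xc22ccd5)) (.nd (.lf 0xcbeaf07) (.lf 0x71524ac))) (.nd (.nd (.lf 0xcb478a5) (.lf 0xcd2c529)) (.nd (.lf 0x9a2c790) (.lf 0))))) (.nd (.nd (.nd (.nd (.lf 0x4eb229b) (.lf 0x7296cd5)) (.nd (.lf 0x8d81503) (.lf 0x87f8b11))) (.nd (.nd (.lf 0x32dd57e) (.lf 0x67c9990)) (.nd (.lf 0xe778883) (.lf 0)))) (.nd (.nd (.nd (.lf 0xb4011d) (.lf 0x569a5fa)) (.nd (.lf 0xb31dfa0) (.lf 0))) (.nd (.nd (.lf 0x2d7c2) (.lf 0xd3efd49)) (.nd (.lf 0xa5e1a88) (.lf 0)))))))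
def paT_naabba : Tr := (.nd (.nd (.nd (.nd (.nd (.nd (.lf 0xb34532c) (.lf 0x93e1838)) (.nd (.lf 0x7eb75ad) (.lf 0xee0762c))) (.nd (.nd (.lf 0x808d6b2) (.lf 0xe283ca4)) (.nd (.lf 0x2bce14a) (.lf 0)))) (.nd (.nd (.nd (.lf 0x123d2b4) (.lf 0xc8c2ab2)) (.nd (.lf 0x216baa8) (.lf 0xe1faabe))) (.nd (.nd (.lf 0x710c62e) (.lf 0x2f3cb2f)) (.nd (.lf 0xeda257e) (.lf 0))))) (.nd (.nd (.nd (.nd (.lf 0xb56ea73) (.lf 0xc93eed5)) (.nd (.lf 0xac0e21b) (.lf 0xdec367e))) (.nd (.nd (.lf 0x2b9da4c) (.lf 0xd487b4)) (.nd (.lf 0xc3d3727) (.lf 0)))) (.nd (.nd (.nd (.lf 0x4c6b46c) (.lf 0x18887f6)) (.nd (.lf 0x96130bc) (.lf 0x531ff20))) (.nd (.nd (.lf 0xcaea5d7) (.lf 0xb212d2d)) (.nd (.lf 0xcc18490) (.lf 0)))))) (.nd (.nd (.nd (.nd (.nd (.lf 0xb846416) (.lf 0xfbdfc3c))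 (.nd (.lf 0x402e595) (.lf 0xb140b9a))) (.nd (.nd (.lf 0x94232e) (.lf 0x5fc74f)) (.nd (.lf 0x68eafed) (.lf 0)))) (.nd (.nd (.nd (.lf 0x16fa80d) (.lf 0xa3d0c44)) (.nd (.lf 0x17a2ed5) (.lf 0x46de215))) (.nd (.nd (.lf 0xf0cb83d) (.lf 0xa8e39a9)) (.nd (.lf 0x2be1326) (.lf 0))))) (.nd (.nd (.nd (.nd (.lf 0x543d0d9) (.lf 0xddd680d)) (.nd (.lf 0xec6923d) (.lf 0xa5d3189))) (.nd (.nd (.lf 0xe9ccb6a) (.lf 0x592b12b)) (.nd (.lf 0x394c89a) (.lf 0)))) (.nd (.nd (.nd (.lf 0x99d23f7) (.lf 0xdb3f82d)) (.nd (.lf 0x58a7461) (.lf 0))) (.nd (.nd (.lf 0x65b34d5) (.lf 0x6fd694e)) (.nd (.lf 0x3f26991) (.lf 0)))))))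
def paT_naabbb : Tr := (.nd (.nd (.nd (.nd (.nd (.nd (.lf 0x950cc7e) (.lf 0x3a85ccf)) (.nd (.lf 0xaf84713) (.lf 0x251276d))) (.nd (.nd (.lf 0xad86de) (.lf 0x6d8d6c2)) (.nd (.lf 0x46bc853) (.lf 0)))) (.nd (.nd (.nd (.lf 0x127dac) (.lf 0x2161083)) (.nd (.lf 0x78898a5) (.lf 0x8b9381c))) (.nd (.nd (.lf 0x74a46f6) (.lf 0x62ebf4c)) (.nd (.lf 0xa741f65) (.lf 0))))) (.nd (.nd (.nd (.nd (.lf 0xc1a8474) (.lf 0x80df68)) (.nd (.lf 0xfe8d33b) (.lf 0x74f9f6c))) (.nd (.nd (.lf 0xfafba79) (.lf 0xccbbca0)) (.nd (.lf 0x3c20bfe) (.lf 0)))) (.nd (.nd (.nd (.lf 0xe4e5ef0) (.lf 0x37c292e)) (.nd (.lf 0xcca7516) (.lf 0))) (.nd (.nd (.lf 0x898b44) (.lf 0x3ff89b9)) (.nd (.lf 0xff266df) (.lf 0)))))) (.nd (.nd (.nd (.nd (.nd (.lf 0x4525fef) (.lf 0xccf0c0d)) (.nd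 (.lf 0x43dc905) (.lf 0xcebd54e))) (.nd (.nd (.lf 0x8a4a8c2) (.lf 0x4d69ba3)) (.nd (.lf 0x894332e) (.lf 0)))) (.nd (.nd (.nd (.lf 0x85015b6) (.lf 0x4f46e66)) (.nd (.lf 0x6e89a36) (.lf 0x5283130))) (.nd (.nd (.lf 0x7825513) (.lf 0x4b2856a)) (.nd (.lf 0x67a43e1) (.lf 0))))) (.nd (.nd (.nd (.nd (.lf 0x6435df3) (.lf 0xc49aa16)) (.nd (.lf 0x2ced81a) (.lf 0xf965eb7))) (.nd (.nd (.lf 0x5d70c2) (.lf 0xf28f984)) (.nd (.lf 0xaab686a) (.lf 0)))) (.nd (.nd (.nd (.lf 0x6f57a3d) (.lf 0x870ea65)) (.nd (.lf 0x4b17620) (.lf 0))) (.nd (.nd (.lf 0x7905928) (.lf 0x868a9b7)) (.nd (.lf 0x85d1016) (.lf 0)))))))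
def paT_nabaaa : Tr := (.nd (.nd (.nd (.nd (.nd (.nd (.lf 0xafcacd) (.lf 0x6bd7029)) (.nd (.lf 0x6e401a4) (.lf 0x136f8a1))) (.nd (.nd (.lf 0x9fa4b2e) (.lf 0xdd71c0d)) (.nd (.lf 0xa74578b) (.lf 0)))) (.nd (.nd (.nd (.lf 0xc87725) (.lf 0xdb17e59)) (.nd (.lf 0x2e1c7e7) (.lf 0x885ff41))) (.nd (.nd (.lf 0x5062a1a) (.lf 0x6aebba4)) (.nd (.lf 0x8362fdf) (.lf 0))))) (.nd (.nd (.nd (.nd (.lf 0x3fe2074) (.lf 0x4575b34)) (.nd (.lf 0x43467ae) (.lf 0x24ae4ea))) (.nd (.nd (.lf 0x6e5adda) (.lf 0x567fd46)) (.nd (.lf 0x3d676f2) (.lf 0)))) (.nd (.nd (.nd (.lf 0x10) (.lf 0xe67d3c3)) (.nd (.lf 0xdde0a0b) (.lf 0xa3d9759))) (.nd (.nd (.lf 0x6e60cc1) (.lf 0xdac7cfa)) (.nd (.lf 0xe650400) (.lf 0)))))) (.nd (.nd (.nd (.nd (.nd (.lf 0x919640c) (.lf 0x57ec690))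 (.nd (.lf 0x354ffe8) (.lf 0xc216bbf))) (.nd (.nd (.lf 0xb1616fa) (.lf 0x88cc090)) (.nd (.lf 0xe006122) (.lf 0)))) (.nd (.nd (.nd (.lf 0x8c8f8ee) (.lf 0xe13d6dd)) (.nd (.lf 0x6c3f2bd) (.lf 0x497427c))) (.nd (.nd (.lf 0xeb75ed0) (.lf 0xfed5b88)) (.nd (.lf 0x90399b7) (.lf 0))))) (.nd (.nd (.nd (.nd (.lf 0x7e71ce7) (.lf 0x62ebb4d)) (.nd (.lf 0x5560929) (.lf 0x28cc46b))) (.nd (.nd (.lf 0x66a9c1) (.lf 0xb3053a6)) (.nd (.lf 0x5d85159) (.lf 0)))) (.nd (.nd (.nd (.lf 0xc7c60d) (.lf 0x5bf2f06)) (.nd (.lf 0xd56fc9e) (.lf 0))) (.nd (.nd (.lf 0xd039930) (.lf 0x7296cc4)) (.nd (.lf 0x6d3f132) (.lf 0)))))))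
def paT_nabaab : Tr := (.nd (.nd (.nd (.nd (.nd (.nd (.lf 0x984c0d) (.lf 0xa63e208)) (.nd (.lf 0x46b0237) (.lf 0xd999d86))) (.nd (.nd (.lf 0xeec94cf) (.lf 0x71ddafb)) (.nd (.lf 0x92e2083) (.lf 0)))) (.nd (.nd (.nd (.lf 0xe8a2e47) (.lf 0xcc9d364)) (.nd (.lf 0xea2d173) (.lf 0x1adeeec))) (.nd (.nd (.lf 0xe5e6539) (.lf 0x7c536c6)) (.nd (.lf 0xb71fbe6) (.lf 0))))) (.nd (.nd (.nd (.nd (.lf 0x8f9a030) (.lf 0x73cd912)) (.nd (.lf 0x98d55c1) (.lf 0x117f02e))) (.nd (.nd (.lf 0x5c3193f) (.lf 0xa293b09)) (.nd (.lf 0x672e48a) (.lf 0)))) (.nd (.nd (.nd (.lf 0xfa53fef) (.lf 0xc91fa50)) (.nd (.lf 0x423c594) (.lf 0x22d1b5f))) (.nd (.nd (.lf 0x623c3b0) (.lf 0xe0d466)) (.nd (.lf 0xe058994) (.lf 0)))))) (.nd (.nd (.nd (.nd (.nd (.lf 0x19bae55) (.lf 0x1f14dd6))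 (.nd (.lf 0x6026bbe) (.lf 0x887db74))) (.nd (.nd (.lf 0xe048ec1) (.lf 0x44e1929)) (.nd (.lf 0x43a6fed) (.lf 0)))) (.nd (.nd (.nd (.lf 0x4bedfa1) (.lf 0xd6b4f2a)) (.nd (.lf 0x948eee0) (.lf 0x23f8d5d))) (.nd (.nd (.lf 0x254da85) (.lf 0xfc45267)) (.nd (.lf 0xb9f4301) (.lf 0))))) (.nd (.nd (.nd (.nd (.lf 0x34ce6e0) (.lf 0x608f944)) (.nd (.lf 0xf530a7a) (.lf 0x1a05667))) (.nd (.nd (.lf 0x2ce51b7) (.lf 0x6dd8c0c)) (.nd (.lf 0x1b4c49f) (.lf 0)))) (.nd (.nd (.nd (.lf 0x188a029) (.lf 0xcf63c35)) (.nd (.lf 0x7d5addf) (.lf 0))) (.nd (.nd (.lf 0xb3b1f3c) (.lf 0x36bab1)) (.nd (.lf 0xd7b7400) (.lf 0)))))))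
def paT_nababa : Tr := (.nd (.nd (.nd (.nd (.nd (.nd (.lf 0xd5959e9) (.lf 0x41fe09a)) (.nd (.lf 0x71c4765) (.lf 0x922058c))) (.nd (.nd (.lf 0xa5e1a8b) (.lf 0x8170de)) (.nd (.lf 0x1528997) (.lf 0)))) (.nd (.nd (.nd (.lf 0x117f669) (.lf 0xd1ed6dc)) (.nd (.lf 0x5054a27) (.lf 0x5e73d78))) (.nd (.nd (.lf 0x10f2ed2) (.lf 0x3472e4e)) (.nd (.lf 0x853f522) (.lf 0))))) (.nd (.nd (.nd (.nd (.lf 0x1a51e5b) (.lf 0x1c46d49)) (.nd (.lf 0x33afe6d) (.lf 0xf5ab048))) (.nd (.nd (.lf 0xfb35c9f) (.lf 0xcc871ab)) (.nd (.lf 0x491b6d7) (.lf 0)))) (.nd (.nd (.nd (.lf 0x4dac66) (.lf 0x58832b4)) (.nd (.lf 0x61dbf25) (.lf 0xee6bce0))) (.nd (.nd (.lf 0x25467b) (.lf 0x60ed73e)) (.nd (.lf 0xf9f1980) (.lf 0)))))) (.nd (.nd (.nd (.nd (.nd (.lf 0x39f5219) (.lf 0xafe3959))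 (.nd (.lf 0x44dae63) (.lf 0xefb6188))) (.nd (.nd (.lf 0x7ceac45) (.lf 0xdc95b0)) (.nd (.lf 0xbc51774) (.lf 0)))) (.nd (.nd (.nd (.lf 0x9d590cb) (.lf 0xa1ee9ab)) (.nd (.lf 0xd698502) (.lf 0xb1c718d))) (.nd (.nd (.lf 0xc24ccd5) (.lf 0x53c1799)) (.nd (.lf 0xd7314e9) (.lf 0))))) (.nd (.nd (.nd (.nd (.lf 0xc7eec8e) (.lf 0xad1a2bd)) (.nd (.lf 0x414da5c) (.lf 0x38ebed0))) (.nd (.nd (.lf 0x8c3258b) (.lf 0x518baca)) (.nd (.lf 0xea56aae) (.lf 0)))) (.nd (.nd (.nd (.lf 0x4994d4d) (.lf 0x14a9126)) (.nd (.lf 0x5f24ffa) (.lf 0))) (.nd (.nd (.lf 0xc282c88) (.lf 0x659ec16)) (.nd (.lf 0x98df373) (.lf 0)))))))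
def paT_nababb : Tr := (.nd (.nd (.nd (.nd (.nd (.nd (.lf 0xb7563a3) (.lf 0xe7dcdb)) (.nd (.lf 0xe2563e3) (.lf 0x64499e8))) (.nd (.nd (.lf 0x668a0d) (.lf 0x44ec977)) (.nd (.lf 0x444b13a) (.lf 0)))) (.nd (.nd (.nd (.lf 0x4c4a149) (.lf 0x7c14f4a)) (.nd (.lf 0xbd735a1) (.lf 0xec2a291))) (.nd (.nd (.lf 0x3e7ed9) (.lf 0xedce494)) (.nd (.lf 0xa2b2eab) (.lf 0))))) (.nd (.nd (.nd (.nd (.lf 0x32e3654) (.lf 0x80c257e)) (.nd (.lf 0x75e13dc) (.lf 0x4711e93))) (.nd (.nd (.lf 0x5a9cf21) (.lf 0x5bb70b4)) (.nd (.lf 0x78c8bdd) (.lf 0)))) (.nd (.nd (.nd (.lf 0x6238ae6) (.lf 0xcc150dc)) (.nd (.lf 0x4193d93) (.lf 0xe07d8c4))) (.nd (.nd (.lf 0x72b5100) (.lf 0xd6b5400)) (.nd (.lf 0xddc5135) (.lf 0)))))) (.nd (.nd (.nd (.nd (.nd (.lf 0x52e1b43) (.lf 0x343b6ea))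 (.nd (.lf 0x599ae2e) (.lf 0xefc62f8))) (.nd (.nd (.lf 0x41644cb) (.lf 0xfdd2a3)) (.nd (.lf 0xd7ebd49) (.lf 0)))) (.nd (.nd (.nd (.lf 0xa713e1a) (.lf 0xc73f564)) (.nd (.lf 0x4e942b4) (.lf 0x7c2f29f))) (.nd (.nd (.lf 0xd454609) (.lf 0x7f82d47)) (.nd (.lf 0x5aad2b0) (.lf 0))))) (.nd (.nd (.nd (.nd (.lf 0x9b13c6b) (.lf 0x95f6884)) (.nd (.lf 0x323703d) (.lf 0xdff525d))) (.nd (.nd (.lf 0x3cf9946) (.lf 0x33f6f5a)) (.nd (.lf 0x2713365) (.lf 0)))) (.nd (.nd (.nd (.lf 0x6cc9d44) (.lf 0x47135e8)) (.nd (.lf 0x91f4e5) (.lf 0))) (.nd (.nd (.lf 0xfb31a89) (.lf 0x1f64dcc)) (.nd (.lf 0x81ef132) (.lf 0)))))))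
def paT_nabbaa : Tr := (.nd (.nd (.nd (.nd (.nd (.nd (.lf 0x42581c) (.lf 0xfa19384)) (.nd (.lf 0x3a830c6) (.lf 0x4ec0897))) (.nd (.nd (.lf 0x9673aed) (.lf 0x7b77868)) (.nd (.lf 0x8aadaa) (.lf 0)))) (.nd (.nd (.nd (.lf 0xec02191) (.lf 0x83563e3)) (.nd (.lf 0x4d90fdd) (.lf 0xaef7fdd))) (.nd (.nd (.lf 0x97ffce2) (.lf 0x915886a)) (.nd (.lf 0xb35522c) (.lf 0))))) (.nd (.nd (.nd (.nd (.lf 0xfbc3396) (.lf 0x5ee7642)) (.nd (.lf 0xb0a9e96) (.lf 0xa3ef132))) (.nd (.nd (.lf 0xf6bdabd) (.lf 0x767622)) (.nd (.lf 0x32dd57d) (.lf 0)))) (.nd (.nd (.nd (.lf 0x531f056) (.lf 0x5b6daf9)) (.nd (.lf 0x5d889e0) (.lf 0x492e46a))) (.nd (.nd (.lf 0xc0e6020) (.lf 0x8b335a0)) (.nd (.lf 0x10000) (.lf 0)))))) (.nd (.nd (.nd (.nd (.nd (.lf 0x2bd9831) (.lf 0x3211828))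 (.nd (.lf 0x4e4814a) (.lf 0xe49dc60))) (.nd (.nd (.lf 0x55e076f) (.lf 0x4ee6a22)) (.nd (.lf 0xd3cff43) (.lf 0)))) (.nd (.nd (.nd (.lf 0x27e45a8) (.lf 0xcfec2b4)) (.nd (.lf 0x5278e53) (.lf 0xfcdb89))) (.nd (.nd (.lf 0x3e9c293) (.lf 0x3eea234)) (.nd (.lf 0xfb215ca) (.lf 0))))) (.nd (.nd (.nd (.nd (.lf 0x82890bb) (.lf 0x3be7479)) (.nd (.lf 0x399d46b) (.lf 0xd05b85b))) (.nd (.nd (.lf 0xf2208f) (.lf 0xd80fca7)) (.nd (.lf 0x4b979dd) (.lf 0)))) (.nd (.nd (.nd (.lf 0x36c5af9) (.lf 0x6d1e8a2)) (.nd (.lf 0xce691d0) (.lf 0))) (.nd (.nd (.lf 0xc16a9f2) (.lf 0x309506e)) (.nd (.lf 0x4957647) (.lf 0)))))))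
def paT_nabbab : Tr := (.nd (.nd (.nd (.nd (.nd (.nd (.lf 0x5260177) (.lf 0x77b333a)) (.nd (.lf 0xcddcd33) (.lf 0x5c7d271))) (.nd (.nd (.lf 0x20ffc9) (.lf 0x66497ed)) (.nd (.lf 0xbaa31fb) (.lf 0)))) (.nd (.nd (.nd (.lf 0xbe37144) (.lf 0x796290f)) (.nd (.lf 0xbd8fee6) (.lf 0x1e2af59))) (.nd (.nd (.lf 0x967a80d) (.lf 0x99793)) (.nd (.lf 0x3be34c9) (.lf 0))))) (.nd (.nd (.nd (.nd (.lf 0x971b6be) (.lf 0xe2a5372)) (.nd (.lf 0x9d86ffe) (.lf 0x449b17b))) (.nd (.nd (.lf 0xeecddef) (.lf 0x20666b5)) (.nd (.lf 0x6d41b4) (.lf 0)))) (.nd (.nd (.nd (.lf 0x98b97bb) (.lf 0xc94fbef)) (.nd (.lf 0xf9d6d8) (.lf 0x799e8b0))) (.nd (.nd (.lf 0x8dc0bcf) (.lf 0xe5f572d)) (.nd (.lf 0x8074463) (.lf 0)))))) (.nd (.nd (.nd (.nd (.nd (.lf 0xfc49ed3) (.lf 0x438f098))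 (.nd (.lf 0x3eff2a4) (.lf 0xa95044a))) (.nd (.nd (.lf 0x7c0719f) (.lf 0x236b2ce)) (.nd (.lf 0xdcd1936) (.lf 0)))) (.nd (.nd (.nd (.lf 0xf56b048) (.lf 0x823e8ae)) (.nd (.lf 0xd46e2cc) (.lf 0x3805e88))) (.nd (.nd (.lf 0x9716138) (.lf 0xe838951)) (.nd (.lf 0x5c8640d) (.lf 0))))) (.nd (.nd (.nd (.nd (.lf 0xd0a0c20) (.lf 0x7a810f7)) (.nd (.lf 0x137d33a) (.lf 0xaab23a7))) (.nd (.nd (.lf 0x43f62f4) (.lf 0xb5e3a8b)) (.nd (.lf 0xf52efde) (.lf 0)))) (.nd (.nd (.nd (.lf 0xb65217d) (.lf 0xc654c74)) (.nd (.lf 0x4000000) (.lf 0))) (.nd (.nd (.lf 0x683a54f) (.lf 0x1116ed8)) (.nd (.lf 0x14d0743) (.lf 0)))))))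
def paT_nabbba : Tr := (.nd (.nd (.nd (.nd (.nd (.nd (.lf 0x697afcb) (.lf 0xe2975f2)) (.nd (.lf 0xe77be27) (.lf 0x968ddb2))) (.nd (.nd (.lf 0xb609130) (.lf 0xdfe7d77)) (.nd (.lf 0xd3e2905) (.lf 0)))) (.nd (.nd (.nd (.lf 0x81af558) (.lf 0x8258c4a)) (.nd (.lf 0x83ad20f) (.lf 0x8a1deb4))) (.nd (.nd (.lf 0xfba4c2e) (.lf 0x46d5a25)) (.nd (.lf 0x46b462d) (.lf 0))))) (.nd (.nd (.nd (.nd (.lf 0x4d8dc00) (.lf 0xaa65b36)) (.nd (.lf 0x456782e) (.lf 0x1e07e5b))) (.nd (.nd (.lf 0x67ae4aa) (.lf 0xde1da03)) (.nd (.lf 0xba4c92) (.lf 0)))) (.nd (.nd (.nd (.lf 0x4be560c) (.lf 0xff87b3)) (.nd (.lf 0x1de8099) (.lf 0xb03b0dd))) (.nd (.nd (.lf 0x94a9d8d) (.lf 0xf064538)) (.nd (.lf 0x80a7573) (.lf 0)))))) (.nd (.nd (.nd (.nd (.nd (.lf 0x8c0ce38) (.lf 0x4400b49))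 (.nd (.lf 0xd23031d) (.lf 0xd8ba09b))) (.nd (.nd (.lf 0xb0a1e52) (.lf 0xcf5756c)) (.nd (.lf 0xd4b12e0) (.lf 0)))) (.nd (.nd (.nd (.lf 0xeee70ce) (.lf 0x828d4b2)) (.nd (.lf 0x93b3e8e) (.lf 0x7dd14a8))) (.nd (.nd (.lf 0xca16bff) (.lf 0xd8cca96)) (.nd (.lf 0xff0b11c) (.lf 0))))) (.nd (.nd (.nd (.nd (.lf 0x234021c) (.lf 0x6b7987b)) (.nd (.lf 0x4b32914) (.lf 0x8edb0bb))) (.nd (.nd (.lf 0x5d6dcb8) (.lf 0xabaac5a)) (.nd (.lf 0xc0835f9) (.lf 0)))) (.nd (.nd (.nd (.lf 0xe537222) (.lf 0xa865bb6)) (.nd (.lf 0x4c3bfb4) (.lf 0))) (.nd (.nd (.lf 0x4c6ce8d) (.lf 0x5c2eb8b)) (.nd (.lf 0x8544b32) (.lf 0)))))))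
def paT_nabbbb : Tr := (.nd (.nd (.nd (.nd (.nd (.nd (.lf 0x47c255c) (.lf 0xb893272)) (.nd (.lf 0x42a7523) (.lf 0x251a703))) (.nd (.nd (.lf 0x4267bb7) (.lf 0x5d69f60)) (.nd (.lf 0x6589d82) (.lf 0)))) (.nd (.nd (.nd (.lf 0x40) (.lf 0xfb2245c)) (.nd (.lf 0xe8ebe4c) (.lf 0xb34cb02))) (.nd (.nd (.lf 0x10de564) (.lf 0x571dac4)) (.nd (.lf 0xb746ad1) (.lf 0))))) (.nd (.nd (.nd (.nd (.lf 0x6502057) (.lf 0xe38b1ff)) (.nd (.lf 0xefbcb8f) (.lf 0x9cd4a50))) (.nd (.nd (.lf 0xbfd9c22) (.lf 0xf236307)) (.nd (.lf 0x980504f) (.lf 0)))) (.nd (.nd (.nd (.lf 0xf7ff76) (.lf 0x9fe021a)) (.nd (.lf 0xbb2a2fb) (.lf 0))) (.nd (.nd (.lf 0x932c826) (.lf 0xd6007ba)) (.nd (.lf 0x8094b2c) (.lf 0)))))) (.nd (.nd (.nd (.nd (.nd (.lf 0xb493779) (.lf 0x6031659)) (.nd (.lf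 0x673d6f1) (.lf 0x36cbe56))) (.nd (.nd (.lf 0xf429f2b) (.lf 0x2cdc492)) (.nd (.lf 0xbcf1fd3) (.lf 0)))) (.nd (.nd (.nd (.lf 0x4ec9a36) (.lf 0x2b78636)) (.nd (.lf 0xfeb9a62) (.lf 0x3b80baf))) (.nd (.nd (.lf 0x7756260) (.lf 0xd2bc4f4)) (.nd (.lf 0xd285e1f) (.lf 0))))) (.nd (.nd (.nd (.nd (.lf 0x92d3439) (.lf 0xade73b7)) (.nd (.lf 0x756d1b3) (.lf 0xd3a8a53))) (.nd (.nd (.lf 0x8401ec) (.lf 0x6a2caf4)) (.nd (.lf 0xbc18309) (.lf 0)))) (.nd (.nd (.nd (.lf 0x75f1df2) (.lf 0xdc16712)) (.nd (.lf 0x6f764f2) (.lf 0))) (.nd (.nd (.lf 0xce5d166) (.lf 0xb764af)) (.nd (.lf 0xf5450aa) (.lf 0)))))))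
def paT_nbaaaa : Tr := (.nd (.nd (.nd (.nd (.nd (.nd (.lf 0xe12525a) (.lf 0xb873708)) (.nd (.lf 0x3fea034) (.lf 0x7fd694a))) (.nd (.nd (.lf 0x95962d5) (.lf 0x68cb5e6)) (.nd (.lf 0x574e92d) (.lf 0)))) (.nd (.nd (.nd (.lf 0x2b8b63a) (.lf 0xd039971)) (.nd (.lf 0xd3e6907) (.lf 0x3f95878))) (.nd (.nd (.lf 0x8d74541) (.lf 0x5b1f4be)) (.nd (.lf 0xf1408b3) (.lf 0))))) (.nd (.nd (.nd (.nd (.lf 0x5dbf0b8) (.lf 0x1b612ac)) (.nd (.lf 0x5879216) (.lf 0x1cdb472))) (.nd (.nd (.lf 0x3ab72a8) (.lf 0x95a9d0d)) (.nd (.lf 0x962db30) (.lf 0)))) (.nd (.nd (.nd (.lf 0x22d905f) (.lf 0x95fb314)) (.nd (.lf 0x5e2f286) (.lf 0x9b12d3c))) (.nd (.nd (.lf 0x597f043) (.lf 0x9aa33fb)) (.nd (.lf 0xeb196e8) (.lf 0)))))) (.nd (.nd (.nd (.nd (.nd (.lf 0x362a1ff) (.lf 0xf54da19))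 (.nd (.lf 0xb55932) (.lf 0xf5ae599))) (.nd (.nd (.lf 0xa9e441b) (.lf 0xb050804)) (.nd (.lf 0x9c5ea10) (.lf 0)))) (.nd (.nd (.nd (.lf 0xf3110ea) (.lf 0x472ad8a)) (.nd (.lf 0xe8f5f7e) (.lf 0xb14793e))) (.nd (.nd (.lf 0xb45dff5) (.lf 0x1780edf)) (.nd (.lf 0xe37ba09) (.lf 0))))) (.nd (.nd (.nd (.nd (.lf 0xbf0b545) (.lf 0xd1836ca)) (.nd (.lf 0x6fd9379) (.lf 0x79f501c))) (.nd (.nd (.lf 0x186cf9b) (.lf 0x6a6c80)) (.nd (.lf 0xca4903d) (.lf 0)))) (.nd (.nd (.nd (.lf 0x5b07902) (.lf 0xcc91202)) (.nd (.lf 0xb82880) (.lf 0))) (.nd (.nd (.lf 0xa18faa8) (.lf 0x2442b83)) (.nd (.lf 0x5260a1a) (.lf 0)))))))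
def paT_nbaaab : Tr := (.nd (.nd (.nd (.nd (.nd (.nd (.lf 0x9a5903b) (.lf 0x7bb0d0f)) (.nd (.lf 0xd8bd1bf) (.lf 0xe87720d))) (.nd (.nd (.lf 0x54de3d0) (.lf 0x7553732)) (.nd (.lf 0xb53fbec) (.lf 0)))) (.nd (.nd (.nd (.lf 0x8afaea) (.lf 0x6d2630)) (.nd (.lf 0xc9fc0bc) (.lf 0xdc5299a))) (.nd (.nd (.lf 0x921899f) (.lf 0xb6b7945)) (.nd (.lf 0x2c1943f) (.lf 0))))) (.nd (.nd (.nd (.nd (.lf 0xfdd1676) (.lf 0xfaf1769)) (.nd (.lf 0x2bb4b05) (.lf 0x1782e69))) (.nd (.nd (.lf 0x359e8a2) (.lf 0xb47b070)) (.nd (.lf 0x80ef2bd) (.lf 0)))) (.nd (.nd (.nd (.lf 0xd691414) (.lf 0x6df9b84)) (.nd (.lf 0xb3ecb26) (.lf 0x5f78c87))) (.nd (.nd (.lf 0xf78833) (.lf 0x98f9e26)) (.nd (.lf 0xf5339b0) (.lf 0)))))) (.nd (.nd (.nd (.nd (.nd (.lf 0x319ff10) (.lf 0xdbe0d7d))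 (.nd (.lf 0xd9e292f) (.lf 0x9eb804))) (.nd (.nd (.lf 0x24cd860) (.lf 0x8741ef4)) (.nd (.lf 0xbe1713e) (.lf 0)))) (.nd (.nd (.nd (.lf 0xcf3c6c0) (.lf 0x64d52bc)) (.nd (.lf 0x4ed3d7c) (.lf 0x364d8e8))) (.nd (.nd (.lf 0xc54ee1b) (.lf 0x3596f54)) (.nd (.lf 0xed79412) (.lf 0))))) (.nd (.nd (.nd (.nd (.lf 0x4c46cdb) (.lf 0x558de8d)) (.nd (.lf 0x53df8b8) (.lf 0xf1f9e24))) (.nd (.nd (.lf 0xea22e31) (.lf 0xf380fb3)) (.nd (.lf 0x203eda) (.lf 0)))) (.nd (.nd (.nd (.lf 0x595f0b6) (.lf 0xcb5756d)) (.nd (.lf 0x6193ebc) (.lf 0))) (.nd (.nd (.lf 0xa009d10) (.lf 0x643d544)) (.nd (.lf 0xbe28274) (.lf 0)))))))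
def paT_nbaaba : Tr := (.nd (.nd (.nd (.nd (.nd (.nd (.lf 0x8eb6924) (.lf 0x572c1ba)) (.nd (.lf 0xc1fbb14) (.lf 0x400000))) (.nd (.nd (.lf 0xc17c22) (.lf 0xe65d45e)) (.nd (.lf 0xe3bf049) (.lf 0)))) (.nd (.nd (.nd (.lf 0xeedb20) (.lf 0x9ab8ec9)) (.nd (.lf 0xeba2db1) (.lf 0xcac19e0))) (.nd (.nd (.lf 0x9262ebb) (.lf 0x57b116)) (.nd (.lf 0xf1c7597) (.lf 0))))) (.nd (.nd (.nd (.nd (.lf 0x535800b) (.lf 0xae38ec6)) (.nd (.lf 0x64f036b) (.lf 0xb7184fe))) (.nd (.nd (.lf 0xc8aca20) (.lf 0xb2efb5f)) (.nd (.lf 0x3b80dd) (.lf 0)))) (.nd (.nd (.nd (.lf 0x5d5afdf) (.lf 0xa9ffdd2)) (.nd (.lf 0xece4a0d) (.lf 0xebe78b1))) (.nd (.nd (.lf 0x9465686) (.lf 0x81aecd4)) (.nd (.lf 0x98a4bde) (.lf 0)))))) (.nd (.nd (.nd (.nd (.nd (.lf 0x7fd94f5) (.lf 0xd93a09b))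 (.nd (.lf 0x69991c7) (.lf 0xb818f2a))) (.nd (.nd (.lf 0x9ef7003) (.lf 0x2837ab0)) (.nd (.lf 0x66095d0) (.lf 0)))) (.nd (.nd (.nd (.lf 0xc3882d1) (.lf 0x81c86d8)) (.nd (.lf 0xcb7948c) (.lf 0x7fd690b))) (.nd (.nd (.lf 0x7f76130) (.lf 0x1c38b50)) (.nd (.lf 0x70a0790) (.lf 0))))) (.nd (.nd (.nd (.nd (.lf 0xdee9f33) (.lf 0x4e7aa6d)) (.nd (.lf 0xe1b55dd) (.lf 0x954e93f))) (.nd (.nd (.lf 0x65e57cb) (.lf 0xd19a941)) (.nd (.lf 0xe6664e3) (.lf 0)))) (.nd (.nd (.nd (.lf 0x809adb2) (.lf 0x6e5f492)) (.nd (.lf 0xe0511c6) (.lf 0))) (.nd (.nd (.lf 0x1116ed1) (.lf 0x41a215a)) (.nd (.lf 0x348e4e0) (.lf 0)))))))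
def paT_nbaabb : Tr := (.nd (.nd (.nd (.nd (.nd (.nd (.lf 0x85b2f70) (.lf 0x7f71146)) (.nd (.lf 0x5912d2e) (.lf 0xb778ad))) (.nd (.nd (.lf 0x414ba08) (.lf 0xcd370ac)) (.nd (.lf 0xae65b37) (.lf 0)))) (.nd (.nd (.nd (.lf 0xf85bd4c) (.lf 0xdb9326e)) (.nd (.lf 0xb68fd97) (.lf 0x5f79c89))) (.nd (.nd (.lf 0x19d044b) (.lf 0xbe52426)) (.nd (.lf 0x2b27bde) (.lf 0))))) (.nd (.nd (.nd (.nd (.lf 0xfdabf01) (.lf 0x77ce017)) (.nd (.lf 0x3556a71) (.lf 0xd80f566))) (.nd (.nd (.lf 0x6eaf883) (.lf 0x3d27dcb)) (.nd (.lf 0x6cee5f7) (.lf 0)))) (.nd (.nd (.nd (.lf 0x5ab8113) (.lf 0x9393911)) (.nd (.lf 0xb7cecfd) (.lf 0x1c4ed4b))) (.nd (.nd (.lf 0x71ad856) (.lf 0x5e00d0e)) (.nd (.lf 0x71106aa) (.lf 0)))))) (.nd (.nd (.nd (.nd (.nd (.lf 0x53eaa05) (.lf 0x6be5e73))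 (.nd (.lf 0x155e07e) (.lf 0x4524eb8))) (.nd (.nd (.lf 0x11ca5d3) (.lf 0xd2c80e4)) (.nd (.lf 0x77575a) (.lf 0)))) (.nd (.nd (.nd (.lf 0xd179df7) (.lf 0xfc50400)) (.nd (.lf 0xb149af8) (.lf 0x39350d9))) (.nd (.nd (.lf 0xff6b092) (.lf 0x7d915d8)) (.nd (.lf 0x6f88b6) (.lf 0))))) (.nd (.nd (.nd (.nd (.lf 0x295649e) (.lf 0x1e384c2)) (.nd (.lf 0xc387a7f) (.lf 0x2e5aef3))) (.nd (.nd (.lf 0x4123369) (.lf 0x8a2c794)) (.nd (.lf 0xb074a23) (.lf 0)))) (.nd (.nd (.nd (.lf 0x4a4aa4d) (.lf 0x50a477)) (.nd (.lf 0x3f9d816) (.lf 0))) (.nd (.nd (.lf 0xdb76ebf) (.lf 0x894a238)) (.nd (.lf 0xe5dacc0) (.lf 0)))))))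
def paT_nbabaa : Tr := (.nd (.nd (.nd (.nd (.nd (.nd (.lf 0x35e284a) (.lf 0x5fdf8b8)) (.nd (.lf 0x47b0176) (.lf 0xad07cf8))) (.nd (.nd (.lf 0xc8150dd) (.lf 0x8265eda)) (.nd (.lf 0x7961e95) (.lf 0)))) (.nd (.nd (.nd (.lf 0xa8fc8df) (.lf 0x4a4ec19)) (.nd (.lf 0xbf31249) (.lf 0xdaa2317))) (.nd (.nd (.lf 0x5f47e9f) (.lf 0xe283ca7)) (.nd (.lf 0x53664e2) (.lf 0))))) (.nd (.nd (.nd (.nd (.lf 0x4130978) (.lf 0x99c0fd8)) (.nd (.lf 0x90524cc) (.lf 0x8067aec))) (.nd (.nd (.lf 0x36e3d5c) (.lf 0xcab4615)) (.nd (.lf 0xd08cb3a) (.lf 0)))) (.nd (.nd (.nd (.lf 0x253c311) (.lf 0xa030f1e)) (.nd (.lf 0xedbeb3e) (.lf 0x9d4c6e7))) (.nd (.nd (.lf 0x605d8ce) (.lf 0x1aceeed)) (.nd (.lf 0x8b663f4) (.lf 0)))))) (.nd (.nd (.nd (.nd (.nd (.lf 0xb1484f4) (.lf 0x409d012))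 (.nd (.lf 0xfee0896) (.lf 0xcef7f2))) (.nd (.nd (.lf 0x7bf0dc6) (.lf 0x3747286)) (.nd (.lf 0xd767ef0) (.lf 0)))) (.nd (.nd (.nd (.lf 0x1b020d5) (.lf 0x869b156)) (.nd (.lf 0xb596c39) (.lf 0x197e416))) (.nd (.nd (.lf 0xb340647) (.lf 0x3e9bd16)) (.nd (.lf 0x18feeec) (.lf 0))))) (.nd (.nd (.nd (.nd (.lf 0x6f5f390) (.lf 0x6b5eff4)) (.nd (.lf 0xd7330e6) (.lf 0x89cf59d))) (.nd (.nd (.lf 0x81fba14) (.lf 0x6e2f2d5)) (.nd (.lf 0x3a3faf9) (.lf 0)))) (.nd (.nd (.nd (.lf 0x9cf32e3) (.lf 0xc93210a)) (.nd (.lf 0x5d3fd12) (.lf 0))) (.nd (.nd (.lf 0xed31958) (.lf 0x87b561e)) (.nd (.lf 0xb964983) (.lf 0)))))))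
def paT_nbabab : Tr := (.nd (.nd (.nd (.nd (.nd (.nd (.lf 0x814e9ae) (.lf 0xbb32fca)) (.nd (.lf 0x13f99e9) (.lf 0x2061ef8))) (.nd (.nd (.lf 0xdd041ee) (.lf 0x31cc297)) (.nd (.lf 0x8de640b) (.lf 0)))) (.nd (.nd (.nd (.lf 0x84c4286) (.lf 0xc616743)) (.nd (.lf 0x600b06) (.lf 0xc0f4255))) (.nd (.nd (.lf 0x6cd52ac) (.lf 0x8b5ce3f)) (.nd (.lf 0x5d424cd) (.lf 0))))) (.nd (.nd (.nd (.nd (.lf 0x3592b5d) (.lf 0xb5be99)) (.nd (.lf 0xce0ee06) (.lf 0x2c71a96))) (.nd (.nd (.lf 0xeb98032) (.lf 0x94b888b)) (.nd (.lf 0x1771b7f) (.lf 0)))) (.nd (.nd (.nd (.lf 0xeacb20) (.lf 0xfe210e9)) (.nd (.lf 0xf65846a) (.lf 0xde2362a))) (.nd (.nd (.lf 0xd6af3e9) (.lf 0x7831754)) (.nd (.lf 0x7f9b493) (.lf 0)))))) (.nd (.nd (.nd (.nd (.nd (.lf 0xf894541) (.lf 0x1096765))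 (.nd (.lf 0x668a871) (.lf 0x7c27c7f))) (.nd (.nd (.lf 0xa507911) (.lf 0x9207b23)) (.nd (.lf 0x73011f6) (.lf 0)))) (.nd (.nd (.nd (.lf 0x9960c8e) (.lf 0xb94a646)) (.nd (.lf 0x6af4340) (.lf 0xf0a0cdd))) (.nd (.nd (.lf 0x6751302) (.lf 0xd559f1)) (.nd (.lf 0xbdb84de) (.lf 0))))) (.nd (.nd (.nd (.nd (.lf 0x54de3d3) (.lf 0x2cf14d0)) (.nd (.lf 0x2ba7ed2) (.lf 0x385f2e2))) (.nd (.nd (.lf 0x9dd023f) (.lf 0x1fb3ead)) (.nd (.lf 0x4f996d8) (.lf 0)))) (.nd (.nd (.nd (.lf 0xf7edc9c) (.lf 0x8500e1b)) (.nd (.lf 0xc4b1669) (.lf 0))) (.nd (.nd (.lf 0x7c0eb4c) (.lf 0x767633)) (.nd (.lf 0xbf7ab18) (.lf 0)))))))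
def paT_nbabba : Tr := (.nd (.nd (.nd (.nd (.nd (.nd (.lf 0x8c460e4) (.lf 0x4fb401a)) (.nd (.lf 0xb3dc4be) (.lf 0x8b99bf7))) (.nd (.nd (.lf 0xa6ccb20) (.lf 0xeb47de3)) (.nd (.lf 0x26dd1b6) (.lf 0)))) (.nd (.nd (.nd (.lf 0x1bfad95) (.lf 0x867de7)) (.nd (.lf 0xded0a62) (.lf 0xf1b793))) (.nd (.nd (.lf 0xc06cdfb) (.lf 0x8a71d7f)) (.nd (.lf 0x62ffbed) (.lf 0))))) (.nd (.nd (.nd (.nd (.lf 0xfc2c4fb) (.lf 0x48aeb99)) (.nd (.lf 0xdbc9208) (.lf 0x71cb33e))) (.nd (.nd (.lf 0x58bf336) (.lf 0x80875f9)) (.nd (.lf 0xc217585) (.lf 0)))) (.nd (.nd (.nd (.lf 0xbd67ef2) (.lf 0x58dbcb2)) (.nd (.lf 0x491031b) (.lf 0xf0a295))) (.nd (.nd (.lf 0xc066dd8) (.lf 0x2cac785)) (.nd (.lf 0x432ae18) (.lf 0)))))) (.nd (.nd (.nd (.nd (.nd (.lf 0x63a5f87) (.lf 0x347d479))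 (.nd (.lf 0x7767ba2) (.lf 0x996adfc))) (.nd (.nd (.lf 0xf23a214) (.lf 0xefbdd2e)) (.nd (.lf 0x8d3a907) (.lf 0)))) (.nd (.nd (.nd (.lf 0xa7a546a) (.lf 0x137d23b)) (.nd (.lf 0x384f2e3) (.lf 0x5280db2))) (.nd (.nd (.lf 0x3e0af2c) (.lf 0x1cb9e01)) (.nd (.lf 0xe3c7bb0) (.lf 0))))) (.nd (.nd (.nd (.nd (.lf 0x39a7f17) (.lf 0xcfd2c88)) (.nd (.lf 0xe3b9d7e) (.lf 0x75df522))) (.nd (.nd (.lf 0xaeef23a) (.lf 0xe677156)) (.nd (.lf 0x558c0bf) (.lf 0)))) (.nd (.nd (.nd (.lf 0x69c3548) (.lf 0x7b646e7)) (.nd (.lf 0x5869bcf) (.lf 0))) (.nd (.nd (.lf 0x2a7725d) (.lf 0x1e0b51a)) (.nd (.lf 0x252c444) (.lf 0)))))))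
def paT_nbabbb : Tr := (.nd (.nd (.nd (.nd (.nd (.nd (.lf 0xcadd560) (.lf 0x4f46e6f)) (.nd (.lf 0x77c24d) (.lf 0x185d6a3))) (.nd (.nd (.lf 0x5072e13) (.lf 0xe8a1e47)) (.nd (.lf 0xfe82df4) (.lf 0)))) (.nd (.nd (.nd (.lf 0x5efd81c) (.lf 0xf19767e)) (.nd (.lf 0x768c487) (.lf 0x853297a))) (.nd (.nd (.lf 0x2dd10d1) (.lf 0x49534cd)) (.nd (.lf 0xe1dbab4) (.lf 0))))) (.nd (.nd (.nd (.nd (.lf 0x11bc31e) (.lf 0xacf9e66)) (.nd (.lf 0xb74f288) (.lf 0x5f59c8d))) (.nd (.nd (.lf 0x9530b9e) (.lf 0xe2d0c7d)) (.nd (.lf 0xea47d8a) (.lf 0)))) (.nd (.nd (.nd (.lf 0x192485b) (.lf 0x8cec443)) (.nd (.lf 0xdd4b2ed) (.lf 0))) (.nd (.nd (.lf 0x77ce01e) (.lf 0x3b53a0d)) (.nd (.lf 0x6d1a903) (.lf 0)))))) (.nd (.nd (.nd (.nd (.nd (.lf 0x3d31249) (.lf 0x2823a08)) (.nd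 (.lf 0x23b667b) (.lf 0x709798f))) (.nd (.nd (.lf 0x6c20d1d) (.lf 0x50503f6)) (.nd (.lf 0x72eec8f) (.lf 0)))) (.nd (.nd (.nd (.lf 0xd53e0cb) (.lf 0xd306a71)) (.nd (.lf 0x44eee74) (.lf 0xd9f0e94))) (.nd (.nd (.lf 0x53478ef) (.lf 0x73b337a)) (.nd (.lf 0xbfb0493) (.lf 0))))) (.nd (.nd (.nd (.nd (.lf 0x21ebd8e) (.lf 0x4773fb9)) (.nd (.lf 0xfdb380c) (.lf 0xe0417e6))) (.nd (.nd (.lf 0x255a5f2) (.lf 0xfacb49)) (.nd (.lf 0x6b4b20f) (.lf 0)))) (.nd (.nd (.nd (.lf 0x3db3b5) (.lf 0xb7173a3)) (.nd (.lf 0xda844f8) (.lf 0))) (.nd (.nd (.lf 0xb0245c) (.lf 0xda48dd)) (.nd (.lf 0x78bad1a) (.lf 0)))))))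
def paT_nbbaaa : Tr := (.nd (.nd (.nd (.nd (.nd (.nd (.lf 0x87db68c) (.lf 0x6a476c7)) (.nd (.lf 0x141cab6) (.lf 0xb6b0c4c))) (.nd (.nd (.lf 0x3778293) (.lf 0x29eb5bc)) (.nd (.lf 0x257fd06) (.lf 0)))) (.nd (.nd (.nd (.lf 0x3a9295a) (.lf 0x3905e08)) (.nd (.lf 0x92df20a) (.lf 0x72e3614))) (.nd (.nd (.lf 0x213da2d) (.lf 0x924081f)) (.nd (.lf 0xd478e87) (.lf 0))))) (.nd (.nd (.nd (.nd (.lf 0x67f6e22) (.lf 0xd3eb251)) (.nd (.lf 0x3596b5c) (.lf 0xe8cd4d9))) (.nd (.nd (.lf 0x5c0415d) (.lf 0xad59caa)) (.nd (.lf 0x192085a) (.lf 0)))) (.nd (.nd (.nd (.lf 0x69c0e59) (.lf 0x9ba8453)) (.nd (.lf 0xbaedf27) (.lf 0x7a39f17))) (.nd (.nd (.lf 0xdc6098b) (.lf 0xfc164de)) (.nd (.lf 0xd145c7c) (.lf 0)))))) (.nd (.nd (.nd (.nd (.nd (.lf 0x8f861d9) (.lf 0xde5e201))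 (.nd (.lf 0x1c0fb7b) (.lf 0x5a13bb0))) (.nd (.nd (.lf 0xedbfa69) (.lf 0x916f132)) (.nd (.lf 0x398c89a) (.lf 0)))) (.nd (.nd (.nd (.lf 0x7075c74) (.lf 0xbd47cf8)) (.nd (.lf 0xa9114f8) (.lf 0x13dfdfb))) (.nd (.nd (.lf 0x211a78e) (.lf 0xe855475)) (.nd (.lf 0xcd2c121) (.lf 0))))) (.nd (.nd (.nd (.nd (.lf 0x55159c4) (.lf 0xe7ac6f7)) (.nd (.lf 0x6e1e6fa) (.lf 0xd622a5f))) (.nd (.nd (.lf 0xa7adf6a) (.lf 0xec75129)) (.nd (.lf 0xd89422f) (.lf 0)))) (.nd (.nd (.nd (.lf 0x5932efb) (.lf 0x122f92f)) (.nd (.lf 0xbe0510e) (.lf 0))) (.nd (.nd (.lf 0x99f3a67) (.lf 0x348e4a1)) (.nd (.lf 0xcc44e86) (.lf 0)))))))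
def paT_nbbaab : Tr := (.nd (.nd (.nd (.nd (.nd (.nd (.lf 0xd47a047) (.lf 0x6d7600)) (.nd (.lf 0xe821c04) (.lf 0x860b550))) (.nd (.nd (.lf 0x86cdbe7) (.lf 0xb486030)) (.nd (.lf 0x806f132) (.lf 0)))) (.nd (.nd (.nd (.lf 0x1b140fe) (.lf 0x4d434cd)) (.nd (.lf 0x33cdfe7) (.lf 0x4482f0))) (.nd (.nd (.lf 0xea23e11) (.lf 0x9c85ef2)) (.nd (.lf 0x61d7ec7) (.lf 0))))) (.nd (.nd (.nd (.nd (.lf 0xd80c7b6) (.lf 0x3cdce00)) (.nd (.lf 0x76d0cf3) (.lf 0x7fdd79d))) (.nd (.nd (.lf 0x49ae9c0) (.lf 0xf1116aa)) (.nd (.lf 0xe062d0a) (.lf 0)))) (.nd (.nd (.nd (.lf 0xdec1fd7) (.lf 0x797bc5a)) (.nd (.lf 0xb9f75a5) (.lf 0xeff9c92))) (.nd (.nd (.lf 0x777426a) (.lf 0x98ebf4f)) (.nd (.lf 0xc5638e5) (.lf 0)))))) (.nd (.nd (.nd (.nd (.nd (.lf 0x9089c60) (.lf 0x6c8d5c0))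 (.nd (.lf 0x939be6a) (.lf 0x5a5474))) (.nd (.nd (.lf 0xef074e9) (.lf 0xd83bec9)) (.nd (.lf 0x7085065) (.lf 0)))) (.nd (.nd (.nd (.lf 0xf8f323a) (.lf 0x7a53cf7)) (.nd (.lf 0x6267ca4) (.lf 0x44c648a))) (.nd (.nd (.lf 0x9b0b06d) (.lf 0x3956f7a)) (.nd (.lf 0x48aef98) (.lf 0))))) (.nd (.nd (.nd (.nd (.lf 0x840d1dd) (.lf 0x50dbcb3)) (.nd (.lf 0x986430e) (.lf 0xf889a56))) (.nd (.nd (.lf 0x109e764) (.lf 0xf07aa53)) (.nd (.lf 0x75c9fde) (.lf 0)))) (.nd (.nd (.nd (.lf 0x4eacf79) (.lf 0x94e35d0)) (.nd (.lf 0xbdcdbd1) (.lf 0))) (.nd (.nd (.lf 0x12a705b) (.lf 0x4f82389)) (.nd (.lf 0xb2f16bd) (.lf 0)))))))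
def paT_nbbaba : Tr := (.nd (.nd (.nd (.nd (.nd (.nd (.lf 0xccb3ca1) (.lf 0x136e71e)) (.nd (.lf 0x643f95c) (.lf 0x347922d))) (.nd (.nd (.lf 0x5938f0e) (.lf 0xd69a06b)) (.nd (.lf 0x3570c19) (.lf 0)))) (.nd (.nd (.nd (.lf 0xe24ccf5) (.lf 0x4a3bf77)) (.nd (.lf 0x3e14acb) (.lf 0x90aa00e))) (.nd (.nd (.lf 0x16e01c0) (.lf 0x5a0ee56)) (.nd (.lf 0xa5724eb) (.lf 0))))) (.nd (.nd (.nd (.nd (.lf 0x3ff3209) (.lf 0x871d3ad)) (.nd (.lf 0x5e66a31) (.lf 0xfafba68))) (.nd (.nd (.lf 0x1f9c839) (.lf 0x194ca17)) (.nd (.lf 0x80d722c) (.lf 0)))) (.nd (.nd (.nd (.lf 0x331c5fa) (.lf 0x3af4a4b)) (.nd (.lf 0x42f2377) (.lf 0xf25b033))) (.nd (.nd (.lf 0x438f877) (.lf 0x392ac3c)) (.nd (.lf 0x4b8658e) (.lf 0)))))) (.nd (.nd (.nd (.nd (.nd (.lf 0x6a692e2) (.lf 0xd217e61))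 (.nd (.lf 0xb2ee74) (.lf 0x7571d72))) (.nd (.nd (.lf 0xc542487) (.lf 0x2888292)) (.nd (.lf 0xf5005e2) (.lf 0)))) (.nd (.nd (.nd (.lf 0xf33ad01) (.lf 0x7b327da)) (.nd (.lf 0x15e39a3) (.lf 0x6248ec8))) (.nd (.nd (.lf 0x1a24603) (.lf 0xeb488f1)) (.nd (.lf 0x6682dbe) (.lf 0))))) (.nd (.nd (.nd (.nd (.lf 0xd5c3b9b) (.lf 0xc5ae79c)) (.nd (.lf 0x5710172) (.lf 0xca6ea6))) (.nd (.nd (.lf 0x167b526) (.lf 0x63fbdcb)) (.nd (.lf 0xe4dd2c6) (.lf 0)))) (.nd (.nd (.nd (.lf 0xa8b1f1f) (.lf 0xda273c2)) (.nd (.lf 0x3a96d3d) (.lf 0))) (.nd (.nd (.lf 0xc265342) (.lf 0x97581c)) (.nd (.lf 0xc3802d0) (.lf 0)))))))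
def paT_nbbabb : Tr := (.nd (.nd (.nd (.nd (.nd (.nd (.lf 0x4df3cc9) (.lf 0x35ca2a5)) (.nd (.lf 0x1b435d6) (.lf 0xf656944))) (.nd (.nd (.lf 0x7af3cfd) (.lf 0xc536f49)) (.nd (.lf 0xd869ad0) (.lf 0)))) (.nd (.nd (.nd (.lf 0xf458009) (.lf 0xd3fc39c)) (.nd (.lf 0x98d0010) (.lf 0x69a43c2))) (.nd (.nd (.lf 0xc0e702e) (.lf 0x93d34cc)) (.nd (.lf 0xfeffe4d) (.lf 0))))) (.nd (.nd (.nd (.nd (.lf 0x10de465) (.lf 0xded8aa6)) (.nd (.lf 0x4004233) (.lf 0xb9b99e3))) (.nd (.nd (.lf 0x7c7639) (.lf 0xb736acb)) (.nd (.lf 0xbbabca3) (.lf 0)))) (.nd (.nd (.nd (.lf 0xe57542c) (.lf 0x68e6e4d)) (.nd (.lf 0xcc21bca) (.lf 0))) (.nd (.nd (.lf 0x88781ee) (.lf 0xc36563a)) (.nd (.lf 0xf287985) (.lf 0)))))) (.nd (.nd (.nd (.nd (.nd (.lf 0x80d723d) (.lf 0x91876ca)) (.nd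 (.lf 0x45d43a8) (.lf 0x2f3cb6e))) (.nd (.nd (.lf 0xa37ba08) (.lf 0xa713e13)) (.nd (.lf 0xf050805) (.lf 0)))) (.nd (.nd (.nd (.lf 0x800000) (.lf 0xac85e9d)) (.nd (.lf 0x65d6b07) (.lf 0xa7ddd43))) (.nd (.nd (.lf 0xf25d067) (.lf 0x21525f2)) (.nd (.lf 0xcf52c74) (.lf 0))))) (.nd (.nd (.nd (.nd (.lf 0x11b830e) (.lf 0x5ca2cf4)) (.nd (.lf 0xc4104af) (.lf 0x1116ad0))) (.nd (.nd (.lf 0xce72455) (.lf 0xa85f2f9)) (.nd (.lf 0x9f7ab38) (.lf 0)))) (.nd (.nd (.nd (.lf 0x55ddaca) (.lf 0x9b34b54)) (.nd (.lf 0x17a2ad4) (.lf 0))) (.nd (.nd (.lf 0xab3601b) (.lf 0xa52f347)) (.nd (.lf 0x82b0ac) (.lf 0)))))))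
def paT_nbbbaa : Tr := (.nd (.nd (.nd (.nd (.nd (.nd (.lf 0x2161080) (.lf 0x2b40263)) (.nd (.lf 0xe3bf8a6) (.lf 0xe68cf84))) (.nd (.nd (.lf 0xab69438) (.lf 0x357da25)) (.nd (.lf 0x3de1208) (.lf 0)))) (.nd (.nd (.nd (.lf 0x86cd9e3) (.lf 0xbdc172e)) (.nd (.lf 0x2f4f4aa) (.lf 0x34fc588))) (.nd (.nd (.lf 0xf1ba38e) (.lf 0x1aa06ae)) (.nd (.lf 0xaa36394) (.lf 0))))) (.nd (.nd (.nd (.nd (.lf 0x2c628f6) (.lf 0xfa58b23)) (.nd (.lf 0x9671c0d) (.lf 0x90f360a))) (.nd (.nd (.lf 0xd22e942) (.lf 0x290ec01)) (.nd (.lf 0xebd9895) (.lf 0)))) (.nd (.nd (.nd (.lf 0xa031c91) (.lf 0x432180f)) (.nd (.lf 0x9b731c7) (.lf 0x1510e9e))) (.nd (.nd (.lf 0x9796b7f) (.lf 0xd07f229)) (.nd (.lf 0xd28a9e) (.lf 0)))))) (.nd (.nd (.nd (.nd (.nd (.lf 0x4515165) (.lf 0x31a9a64))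 (.nd (.lf 0xd7d2e05) (.lf 0xd8be02b))) (.nd (.nd (.lf 0x750eed5) (.lf 0x9573aed)) (.nd (.lf 0x2a98211) (.lf 0)))) (.nd (.nd (.nd (.lf 0xdd3c6e7) (.lf 0x40fe53)) (.nd (.lf 0x4e8e57b) (.lf 0xa109e9f))) (.nd (.nd (.lf 0xb430477) (.lf 0x75d779)) (.nd (.lf 0x1e3ab50) (.lf 0))))) (.nd (.nd (.nd (.nd (.lf 0xa94044b) (.lf 0x4122d95)) (.nd (.lf 0xf5a3f26) (.lf 0x3d2afae))) (.nd (.nd (.lf 0x2c11d92) (.lf 0x8342377)) (.nd (.lf 0xc8b827c) (.lf 0)))) (.nd (.nd (.nd (.lf 0x411cb3a) (.lf 0x8877297)) (.nd (.lf 0x6fd16b6) (.lf 0))) (.nd (.nd (.lf 0xf054804) (.lf 0x5319b2d)) (.nd (.lf 0x547e8db) (.lf 0)))))))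
def paT_nbbbab : Tr := (.nd (.nd (.nd (.nd (.nd (.nd (.lf 0xd158c4e) (.lf 0x213fa9b)) (.nd (.lf 0x2846e07) (.lf 0x8cb6124))) (.nd (.nd (.lf 0x2c2638d) (.lf 0xfe5a4dd)) (.nd (.lf 0x94973b1) (.lf 0)))) (.nd (.nd (.nd (.lf 0x818944) (.lf 0x61fa604)) (.nd (.lf 0x87d4ab7) (.lf 0xe2920af))) (.nd (.nd (.lf 0x9cbd33f) (.lf 0xb438dda)) (.nd (.lf 0xef034d5) (.lf 0))))) (.nd (.nd (.nd (.nd (.lf 0x8375443) (.lf 0x4fcc0d6)) (.nd (.lf 0x6cd860) (.lf 0x62b82d0))) (.nd (.nd (.lf 0x4e1a03c) (.lf 0x8f38cb7)) (.nd (.lf 0x10ae233) (.lf 0)))) (.nd (.nd (.nd (.lf 0x137040c) (.lf 0xe73dd9b)) (.nd (.lf 0x1ca6e26) (.lf 0x5a36102))) (.nd (.nd (.lf 0xb4335ea) (.lf 0x70eb397)) (.nd (.lf 0xc70d71e) (.lf 0)))))) (.nd (.nd (.nd (.nd (.nd (.lf 0xab0ff41) (.lf 0xd2488e4))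 (.nd (.lf 0x32142b8) (.lf 0x79b8342))) (.nd (.nd (.lf 0xf8684a4) (.lf 0x3ed96b6)) (.nd (.lf 0x9a8c790) (.lf 0)))) (.nd (.nd (.nd (.lf 0xf0c10) (.lf 0xc1f1680)) (.nd (.lf 0x6550471) (.lf 0x97021ac))) (.nd (.nd (.lf 0x7283b87) (.lf 0x7f4ab24)) (.nd (.lf 0x20c33a9) (.lf 0))))) (.nd (.nd (.nd (.nd (.lf 0x4000) (.lf 0x5751dd)) (.nd (.lf 0xc2104a1) (.lf 0xa8afb36))) (.nd (.nd (.lf 0x68bb74b) (.lf 0xe9114f9)) (.nd (.lf 0x29af680) (.lf 0)))) (.nd (.nd (.nd (.lf 0xba4cafd) (.lf 0xb19930f)) (.nd (.lf 0xcd38936) (.lf 0))) (.nd (.nd (.lf 0xc21abc1) (.lf 0xe05c23)) (.nd (.lf 0x8c01947) (.lf 0)))))))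
def paT_nbbbba : Tr := (.nd (.nd (.nd (.nd (.nd (.nd (.lf 0x67d16b7) (.lf 0xb21af55)) (.nd (.lf 0x1454e27) (.lf 0xcaa6b3b))) (.nd (.nd (.lf 0xcf32a0d) (.lf 0xf36d89a)) (.nd (.lf 0xe49eac4) (.lf 0)))) (.nd (.nd (.nd (.lf 0x9aec833) (.lf 0xd596f4d)) (.nd (.lf 0xebec843) (.lf 0xf46d441))) (.nd (.nd (.lf 0xbee0897) (.lf 0xbf39b60)) (.nd (.lf 0x37f56d0) (.lf 0))))) (.nd (.nd (.nd (.nd (.lf 0xd114a70) (.lf 0xfd781f3)) (.nd (.lf 0x82d8272) (.lf 0xd4f0e8))) (.nd (.nd (.lf 0xec02090) (.lf 0x19b830f)) (.nd (.lf 0x9decc1e) (.lf 0)))) (.nd (.nd (.nd (.lf 0x83d86b0) (.lf 0xb9da3e3)) (.nd (.lf 0xdcdd777) (.lf 0x266edd))) (.nd (.nd (.lf 0x28bf676) (.lf 0xb3dc5bf)) (.nd (.lf 0x6792eb5) (.lf 0)))))) (.nd (.nd (.nd (.nd (.nd (.lf 0x474748a) (.lf 0xb438d5e))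 (.nd (.lf 0x2a7b223) (.lf 0x47599f6))) (.nd (.nd (.lf 0x88fe394) (.lf 0xe0fb8ce)) (.nd (.lf 0x3f07e19) (.lf 0)))) (.nd (.nd (.nd (.lf 0xcd5e81d) (.lf 0x76ebfea)) (.nd (.lf 0x918fb0b) (.lf 0x80a46))) (.nd (.nd (.lf 0x920cc8e) (.lf 0x25e843)) (.nd (.lf 0x5c841a1) (.lf 0))))) (.nd (.nd (.nd (.nd (.lf 0x92ceaa) (.lf 0xe90bde0)) (.nd (.lf 0x9c982e8) (.lf 0x7622cf))) (.nd (.nd (.lf 0x75dcb0c) (.lf 0xecddb38)) (.nd (.lf 0xe49ebd4) (.lf 0)))) (.nd (.nd (.nd (.lf 0x11fea1a) (.lf 0xd89766f)) (.nd (.lf 0x5d30c5b) (.lf 0))) (.nd (.nd (.lf 0xf8fa5d3) (.lf 0x8374463)) (.nd (.lf 0x8f1a320) (.lf 0)))))))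
def paT_nbbbbb : Tr := (.nd (.nd (.nd (.nd (.nd (.nd (.lf 0xc0def74) (.lf 0xe523a7e)) (.nd (.lf 0x887ca23) (.lf 0x5e025d0))) (.nd (.nd (.lf 0x48e9960) (.lf 0x56dc782)) (.nd (.lf 0xa09b539) (.lf 0)))) (.nd (.nd (.nd (.lf 0x5bc5fc7) (.lf 0xeb0bd73)) (.nd (.lf 0xc6be9a1) (.lf 0x2fafd87))) (.nd (.nd (.lf 0x34a0095) (.lf 0x85f4547)) (.nd (.lf 0x3516af1) (.lf 0))))) (.nd (.nd (.nd (.nd (.lf 0x89da63e) (.lf 0xbcb52bc)) (.nd (.lf 0xb3fd0a) (.lf 0x2adcac7))) (.nd (.nd (.lf 0x690ee04) (.lf 0xf58e879)) (.nd (.lf 0x9b9d125) (.lf 0)))) (.nd (.nd (.nd (.lf 0x758250) (.lf 0xf5466bf)) (.nd (.lf 0x93c2c59) (.lf 0))) (.nd (.nd (.lf 0x735e011) (.lf 0xc193f60)) (.nd (.lf 0x6c82737) (.lf 0)))))) (.nd (.nd (.nd (.nd (.nd (.lf 0xaf5a271) (.lf 0xdfe80bd)) (.nd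 (.lf 0x8e6c1e9) (.lf 0x14ae4ea))) (.nd (.nd (.lf 0x422fce4) (.lf 0xace53b7)) (.nd (.lf 0x907edce) (.lf 0)))) (.nd (.nd (.nd (.lf 0x40c31c) (.lf 0xf59acc0)) (.nd (.lf 0xdf645bb) (.lf 0x67c91ba))) (.nd (.nd (.lf 0xdb36003) (.lf 0xbd2a053)) (.nd (.lf 0x21545ef) (.lf 0))))) (.nd (.nd (.nd (.nd (.lf 0x3a2f731) (.lf 0x268e6fe)) (.nd (.lf 0x8dabb95) (.lf 0x42c50aa))) (.nd (.nd (.lf 0x73996bf) (.lf 0x4b1e79)) (.nd (.lf 0xe41edde) (.lf 0)))) (.nd (.nd (.nd (.lf 0x1a239b2) (.lf 0x1a15ea6)) (.nd (.lf 0xf34ea1f) (.lf 0))) (.nd (.nd (.lf 0x79cfb60) (.lf 0x686f3e2)) (.nd (.lf 0x12a1f4) (.lf 0)))))))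
def paT : Tr := (.nd (.nd (.nd (.nd (.nd paT_naaaaa paT_naaaab) (.nd paT_naaaba paT_naaabb)) (.nd (.nd paT_naabaa paT_naabab) (.nd paT_naabba paT_naabbb))) (.nd (.nd (.nd paT_nabaaa paT_nabaab) (.nd paT_nababa paT_nababb)) (.nd (.nd paT_nabbaa paT_nabbab) (.nd paT_nabbba paT_nabbbb)))) (.nd (.nd (.nd (.nd paT_nbaaaa paT_nbaaab) (.nd paT_nbaaba paT_nbaabb)) (.nd (.nd paT_nbabaa paT_nbabab) (.nd paT_nbabba paT_nbabbb))) (.nd (.nd (.nd paT_nbbaaa paT_nbbaab) (.nd paT_nbbaba paT_nbbabb)) (.nd (.nd paT_nbbbaa paT_nbbbab) (.nd paT_nbbbba paT_nbbbbb)))))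
def rkA_naaaaa : Tr := (.nd (.nd (.nd (.nd (.nd (.nd (.lf 0x0) (.lf 0x19b)) (.nd (.lf 0x13d) (.lf 0xe7))) (.nd (.nd (.lf 0x54d) (.lf 0x4bc)) (.nd (.lf 0x5ab) (.lf 0)))) (.nd (.nd (.nd (.lf 0x273) (.lf 0x8d)) (.nd (.lf 0x1a2) (.lf 0x478))) (.nd (.nd (.lf 0x4e7) (.lf 0xc8)) (.nd (.lf 0x3c6) (.lf 0))))) (.nd (.nd (.nd (.nd (.lf 0x5b9) (.lf 0x41)) (.nd (.lf 0x2a2) (.lf 0x1ac))) (.nd (.nd (.lf 0x69e) (.lf 0x3cf)) (.nd (.lf 0x664) (.lf 0)))) (.nd (.nd (.nd (.lf 0x347) (.lf 0xe6)) (.nd (.lf 0x417) (.lf 0x336))) (.nd (.nd (.lf 0x528) (.lf 0x249)) (.nd (.lf 0x26e) (.lf 0)))))) (.nd (.nd (.nd (.nd (.nd (.lf 0x450) (.lf 0x121)) (.nd (.lf 0x14b) (.lf 0x464))) (.nd (.nd (.lf 0x241) (.lf 0x1)) (.nd (.lf 0x247) (.lf 0)))) (.nd (.nd (.nd (.lf 0x1d0)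 (.lf 0xab)) (.nd (.lf 0x4b1) (.lf 0x1f8))) (.nd (.nd (.lf 0x28c) (.lf 0x156)) (.nd (.lf 0x4b) (.lf 0))))) (.nd (.nd (.nd (.nd (.lf 0x376) (.lf 0x63f)) (.nd (.lf 0x51b) (.lf 0x22b))) (.nd (.nd (.lf 0x419) (.lf 0x53e)) (.nd (.lf 0x434) (.lf 0)))) (.nd (.nd (.nd (.lf 0x3e1) (.lf 0x79)) (.nd (.lf 0x191) (.lf 0))) (.nd (.nd (.lf 0x4d3) (.lf 0x146)) (.nd (.lf 0x252) (.lf 0)))))))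
def rkA_naaaab : Tr := (.nd (.nd (.nd (.nd (.nd (.nd (.lf 0x102) (.lf 0x182)) (.nd (.lf 0x41e) (.lf 0x548))) (.nd (.nd (.lf 0xaa) (.lf 0x542)) (.nd (.lf 0x1cc) (.lf 0)))) (.nd (.nd (.nd (.lf 0x63) (.lf 0x11b)) (.nd (.lf 0x65a) (.lf 0x3e6))) (.nd (.nd (.lf 0x502) (.lf 0x99)) (.nd (.lf 0x59) (.lf 0))))) (.nd (.nd (.nd (.nd (.lf 0x6c8) (.lf 0x4a3)) (.nd (.lf 0x458) (.lf 0x254))) (.nd (.nd (.lf 0x26f) (.lf 0x1f3)) (.nd (.lf 0x23f) (.lf 0)))) (.nd (.nd (.nd (.lf 0x82) (.lf 0xeb)) (.nd (.lf 0x44b) (.lf 0xee))) (.nd (.nd (.lf 0x4eb) (.lf 0x111)) (.nd (.lf 0x66c) (.lf 0)))))) (.nd (.nd (.nd (.nd (.nd (.lf 0x368) (.lf 0xa6)) (.nd (.lf 0x48) (.lf 0x596))) (.nd (.nd (.lf 0x477) (.lf 0x3cb)) (.nd (.lf 0x4ce) (.lf 0)))) (.nd (.nd (.nd (.lf 0x6b) (.lf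 0x67b)) (.nd (.lf 0xc5) (.lf 0x4f9))) (.nd (.nd (.lf 0x279) (.lf 0x132)) (.nd (.lf 0x50c) (.lf 0))))) (.nd (.nd (.nd (.nd (.lf 0x24d) (.lf 0x669)) (.nd (.lf 0x3fc) (.lf 0x5b0))) (.nd (.nd (.lf 0x28) (.lf 0x92)) (.nd (.lf 0x68f) (.lf 0)))) (.nd (.nd (.nd (.lf 0x3be) (.lf 0x9b)) (.nd (.lf 0x513) (.lf 0))) (.nd (.nd (.lf 0x1c) (.lf 0x500)) (.nd (.lf 0x570) (.lf 0)))))))
def rkA_naaaba : Tr := (.nd (.nd (.nd (.nd (.nd (.nd (.lf 0x65) (.lf 0x122)) (.nd (.lf 0x15e) (.lf 0x562))) (.nd (.nd (.lf 0x3a9) (.lf 0xf0)) (.nd (.lf 0x6aa) (.lf 0)))) (.nd (.nd (.nd (.lf 0xdb) (.lf 0x51a)) (.nd (.lf 0x3c1) (.lf 0x187))) (.nd (.nd (.lf 0xa2) (.lf 0x3bd)) (.nd (.lf 0xd7) (.lf 0))))) (.nd (.nd (.nd (.nd (.lf 0x284) (.lf 0x39a)) (.nd (.lf 0x12c) (.lf 0x613)))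 (.nd (.nd (.lf 0x63d) (.lf 0x3c4)) (.nd (.lf 0x46f) (.lf 0)))) (.nd (.nd (.nd (.lf 0x5a8) (.lf 0x10f)) (.nd (.lf 0x36a) (.lf 0x26c))) (.nd (.nd (.lf 0xf8) (.lf 0x6b0)) (.nd (.lf 0x6b6) (.lf 0)))))) (.nd (.nd (.nd (.nd (.nd (.lf 0x14c) (.lf 0x659)) (.nd (.lf 0x15b) (.lf 0x321))) (.nd (.nd (.lf 0x454) (.lf 0x169)) (.nd (.lf 0x65e) (.lf 0)))) (.nd (.nd (.nd (.lf 0x277) (.lf 0x75)) (.nd (.lf 0x30c) (.lf 0x6a3))) (.nd (.nd (.lf 0x5e3) (.lf 0x32a)) (.nd (.lf 0x387) (.lf 0))))) (.nd (.nd (.nd (.nd (.lf 0x4a9) (.lf 0x6b7)) (.nd (.lf 0x52b) (.lf 0x530))) (.nd (.nd (.lf 0x44d) (.lf 0x323)) (.nd (.lf 0x14e) (.lf 0)))) (.nd (.nd (.nd (.lf 0x317) (.lf 0x4)) (.nd (.lf 0x6c9) (.lf 0))) (.nd (.nd (.lf 0x6ce) (.lf 0x461)) (.nd (.lf 0x64) (.lf 0)))))))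
def rkA_naaabb : Tr := (.nd (.nd (.nd (.nd (.nd (.nd (.lf 0x9d) (.lf 0x22f)) (.nd (.lf 0x219) (.lf 0x49b))) (.nd (.nd (.lf 0x6ad) (.lf 0x1a1)) (.nd (.lf 0x622) (.lf 0)))) (.nd (.nd (.nd (.lf 0x232) (.lf 0x264)) (.nd (.lf 0x55e) (.lf 0x526))) (.nd (.nd (.lf 0x46e) (.lf 0x32c)) (.nd (.lf 0x58f) (.lf 0))))) (.nd (.nd (.nd (.nd (.lf 0x2ce) (.lf 0x18f)) (.nd (.lf 0x208) (.lf 0x27f))) (.nd (.nd (.lf 0x178) (.lf 0x3f9)) (.nd (.lf 0x5db) (.lf 0)))) (.nd (.nd (.nd (.lf 0x9f) (.lf 0x407)) (.nd (.lf 0x5be) (.lf 0x293))) (.nd (.nd (.lf 0x237) (.lf 0x33f)) (.nd (.lf 0x6a6) (.lf 0)))))) (.nd (.nd (.nd (.nd (.nd (.lf 0x13a) (.lf 0x261)) (.nd (.lf 0x5a2) (.lf 0x320))) (.nd (.nd (.lf 0x649) (.lf 0x22d)) (.nd (.lf 0x7) (.lf 0)))) (.nd (.nd (.nd (.lf 0x144)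 (.lf 0x3c9)) (.nd (.lf 0x340) (.lf 0x157))) (.nd (.nd (.lf 0x671) (.lf 0xb4)) (.nd (.lf 0x4fa) (.lf 0))))) (.nd (.nd (.nd (.nd (.lf 0x4bd) (.lf 0x495)) (.nd (.lf 0x1e2) (.lf 0x460))) (.nd (.nd (.lf 0x54b) (.lf 0x34e)) (.nd (.lf 0x651) (.lf 0)))) (.nd (.nd (.nd (.lf 0x3ee) (.lf 0x3b5)) (.nd (.lf 0xe3) (.lf 0))) (.nd (.nd (.lf 0x512) (.lf 0x1e3)) (.nd (.lf 0x370) (.lf 0)))))))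
def rkA_naabaa : Tr := (.nd (.nd (.nd (.nd (.nd (.nd (.lf 0x5b8) (.lf 0x2a4)) (.nd (.lf 0x8f) (.lf 0x618))) (.nd (.nd (.lf 0x4f7) (.lf 0x4a1)) (.nd (.lf 0x46a) (.lf 0)))) (.nd (.nd (.nd (.lf 0x49c) (.lf 0x6ae)) (.nd (.lf 0x86) (.lf 0x567))) (.nd (.nd (.lf 0x29f) (.lf 0xea)) (.nd (.lf 0x160) (.lf 0))))) (.nd (.nd (.nd (.nd (.lf 0xe2) (.lf 0x4ae)) (.nd (.lf 0x3a4) (.lf 0x19a))) (.nd (.nd (.lf 0x59a) (.lf 0x6da)) (.nd (.lf 0x141) (.lf 0)))) (.nd (.nd (.nd (.lf 0x5f7) (.lf 0x11e)) (.nd (.lf 0x66) (.lf 0x65b))) (.nd (.nd (.lf 0x5f6) (.lf 0x4a6)) (.nd (.lf 0x215) (.lf 0)))))) (.nd (.nd (.nd (.nd (.nd (.lf 0x13f) (.lf 0x2ee)) (.nd (.lf 0x456) (.lf 0x2a9))) (.nd (.nd (.lf 0x356) (.lf 0x5d1)) (.nd (.lf 0x348) (.lf 0)))) (.nd (.nd (.nd (.lf 0x207)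 (.lf 0x3e2)) (.nd (.lf 0x1c6) (.lf 0x49e))) (.nd (.nd (.lf 0xac) (.lf 0x3eb)) (.nd (.lf 0x3dc) (.lf 0))))) (.nd (.nd (.nd (.nd (.lf 0x2ad) (.lf 0x5dd)) (.nd (.lf 0x427) (.lf 0x216))) (.nd (.nd (.lf 0x442) (.lf 0x4b2)) (.nd (.lf 0x10d) (.lf 0)))) (.nd (.nd (.nd (.lf 0x63c) (.lf 0x67c)) (.nd (.lf 0x21c) (.lf 0))) (.nd (.nd (.lf 0x5d5) (.lf 0x6a2)) (.nd (.lf 0x301) (.lf 0)))))))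
def rkA_naabab : Tr := (.nd (.nd (.nd (.nd (.nd (.nd (.lf 0x14f) (.lf 0x282)) (.nd (.lf 0x4f2) (.lf 0xfb))) (.nd (.nd (.lf 0xde) (.lf 0x1a4)) (.nd (.lf 0x6c7) (.lf 0)))) (.nd (.nd (.nd (.lf 0x129) (.lf 0x20)) (.nd (.lf 0x510) (.lf 0x5c7))) (.nd (.nd (.lf 0x544) (.lf 0x68c)) (.nd (.lf 0x106) (.lf 0))))) (.nd (.nd (.nd (.nd (.lf 0x266) (.lf 0x602)) (.nd (.lf 0x2dd) (.lf 0x6b2))) (.nd (.nd (.lf 0x468) (.lf 0x7e)) (.nd (.lf 0x3e3) (.lf 0)))) (.nd (.nd (.nd (.lf 0x3a3) (.lf 0x467)) (.nd (.lf 0x625) (.lf 0x2ed))) (.nd (.nd (.lf 0xc6) (.lf 0x51f)) (.nd (.lf 0x5) (.lf 0)))))) (.nd (.nd (.nd (.nd (.nd (.lf 0x2b4) (.lf 0x35c)) (.nd (.lf 0x3f2) (.lf 0x262))) (.nd (.nd (.lf 0x4ed) (.lf 0x64e)) (.nd (.lf 0x2c4) (.lf 0)))) (.nd (.nd (.nd (.lf 0x4c)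 (.lf 0x531)) (.nd (.lf 0x563) (.lf 0x31b))) (.nd (.nd (.lf 0x55f) (.lf 0x572)) (.nd (.lf 0x438) (.lf 0))))) (.nd (.nd (.nd (.nd (.lf 0x224) (.lf 0x325)) (.nd (.lf 0x3db) (.lf 0x3b4))) (.nd (.nd (.lf 0x159) (.lf 0x2da)) (.nd (.lf 0x62e) (.lf 0)))) (.nd (.nd (.nd (.lf 0x52) (.lf 0x25b)) (.nd (.lf 0x4c1) (.lf 0))) (.nd (.nd (.lf 0x9) (.lf 0x5a0)) (.nd (.lf 0x474) (.lf 0)))))))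
def rkA_naabba : Tr := (.nd (.nd (.nd (.nd (.nd (.nd (.lf 0x4c3) (.lf 0x40b)) (.nd (.lf 0x36f) (.lf 0x663))) (.nd (.nd (.lf 0x37f) (.lf 0x60b)) (.nd (.lf 0x130) (.lf 0)))) (.nd (.nd (.nd (.lf 0x90) (.lf 0x551)) (.nd (.lf 0xf9) (.lf 0x608))) (.nd (.nd (.lf 0x319) (.lf 0x147)) (.nd (.lf 0x65f) (.lf 0))))) (.nd (.nd (.nd (.nd (.lf 0x4d5) (.lf 0x554)) (.nd (.lf 0x494) (.lf 0x5f1))) (.nd (.nd (.lf 0x12d) (.lf 0x60)) (.nd (.lf 0x539) (.lf 0)))) (.nd (.nd (.nd (.lf 0x213) (.lf 0xb7)) (.nd (.lf 0x41c) (.lf 0x244))) (.nd (.nd (.lf 0x55d) (.lf 0x4ba)) (.nd (.lf 0x565) (.lf 0)))))) (.nd (.nd (.nd (.nd (.nd (.lf 0x4e6) (.lf 0x6c1)) (.nd (.lf 0x1bd) (.lf 0x4b3))) (.nd (.nd (.lf 0x46) (.lf 0x26)) (.nd (.lf 0x2e3) (.lf 0)))) (.nd (.nd (.nd (.lf 0xae)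 (.lf 0x46b)) (.nd (.lf 0xb3) (.lf 0x1ee))) (.nd (.nd (.lf 0x678) (.lf 0x485)) (.nd (.lf 0x133) (.lf 0))))) (.nd (.nd (.nd (.nd (.lf 0x24e) (.lf 0x5eb)) (.nd (.lf 0x655) (.lf 0x473))) (.nd (.nd (.lf 0x63e) (.lf 0x270)) (.nd (.lf 0x18a) (.lf 0)))) (.nd (.nd (.nd (.lf 0x436) (.lf 0x5d9)) (.nd (.lf 0x269) (.lf 0))) (.nd (.nd (.lf 0x2cb) (.lf 0x311)) (.nd (.lf 0x1b4) (.lf 0)))))))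
def rkA_naabbb : Tr := (.nd (.nd (.nd (.nd (.nd (.nd (.lf 0x412) (.lf 0x195)) (.nd (.lf 0x4a8) (.lf 0x107))) (.nd (.nd (.lf 0x4d) (.lf 0x300)) (.nd (.lf 0x1ec) (.lf 0)))) (.nd (.nd (.nd (.lf 0xd) (.lf 0xf7)) (.nd (.lf 0x34b) (.lf 0x3d0))) (.nd (.nd (.lf 0x330) (.lf 0x2bc)) (.nd (.lf 0x47c) (.lf 0))))) (.nd (.nd (.nd (.nd (.lf 0x527) (.lf 0x3a)) (.nd (.lf 0x6d2) (.lf 0x331))) (.nd (.nd (.lf 0x6ba) (.lf 0x56e)) (.nd (.lf 0x1a0) (.lf 0)))) (.nd (.nd (.nd (.lf 0x61e) (.lf 0x17f)) (.nd (.lf 0x56c) (.lf 0))) (.nd (.nd (.lf 0x40) (.lf 0x1ba)) (.nd (.lf 0x6d8) (.lf 0)))))) (.nd (.nd (.nd (.nd (.nd (.lf 0x1e6) (.lf 0x56f)) (.nd (.lf 0x1d8) (.lf 0x57b))) (.nd (.nd (.lf 0x3c8) (.lf 0x218)) (.nd (.lf 0x3bf) (.lf 0)))) (.nd (.nd (.nd (.lf 0x39f) (.lf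 0x229)) (.nd (.lf 0x30a) (.lf 0x23e))) (.nd (.nd (.lf 0x349) (.lf 0x20a)) (.nd (.lf 0x2d7) (.lf 0))))) (.nd (.nd (.nd (.nd (.lf 0x2c0) (.lf 0x53b)) (.nd (.lf 0x13e) (.lf 0x6af))) (.nd (.nd (.lf 0x25) (.lf 0x686)) (.nd (.lf 0x48f) (.lf 0)))) (.nd (.nd (.nd (.lf 0x30d) (.lf 0x3ae)) (.nd (.lf 0x209) (.lf 0))) (.nd (.nd (.lf 0x34f) (.lf 0x3aa)) (.nd (.lf 0x3a6) (.lf 0)))))))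
def rkA_nabaaa : Tr := (.nd (.nd (.nd (.nd (.nd (.nd (.lf 0x4e) (.lf 0x2f4)) (.nd (.lf 0x306) (.lf 0x94))) (.nd (.nd (.lf 0x459) (.lf 0x5e9)) (.nd (.lf 0x47d) (.lf 0)))) (.nd (.nd (.nd (.lf 0x5c) (.lf 0x5d7)) (.nd (.lf 0x143) (.lf 0x3b6))) (.nd (.nd (.lf 0x235) (.lf 0x2ef)) (.nd (.lf 0x396) (.lf 0))))) (.nd (.nd (.nd (.nd (.lf 0x1b7) (.lf 0x1e8)) (.nd (.lf 0x1d4) (.lf 0x104))) (.nd (.nd (.lf 0x307) (.lf 0x25a)) (.nd (.lf 0x1a9) (.lf 0)))) (.nd (.nd (.nd (.lf 0x2) (.lf 0x62b)) (.nd (.lf 0x5ec) (.lf 0x46c))) (.nd (.nd (.lf 0x309) (.lf 0x5d6)) (.nd (.lf 0x627) (.lf 0)))))) (.nd (.nd (.nd (.nd (.nd (.lf 0x3f8) (.lf 0x263)) (.nd (.lf 0x16d) (.lf 0x52d))) (.nd (.nd (.lf 0x4b7) (.lf 0x3bb)) (.nd (.lf 0x5fb) (.lf 0)))) (.nd (.nd (.nd (.lf 0x3d6)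 (.lf 0x605)) (.nd (.lf 0x2f7) (.lf 0x201))) (.nd (.nd (.lf 0x64a) (.lf 0x6d4)) (.nd (.lf 0x3ec) (.lf 0))))) (.nd (.nd (.nd (.nd (.lf 0x36e) (.lf 0x2bb)) (.nd (.lf 0x255) (.lf 0x11a))) (.nd (.nd (.lf 0x2a) (.lf 0x4c0)) (.nd (.lf 0x297) (.lf 0)))) (.nd (.nd (.nd (.lf 0x5b) (.lf 0x287)) (.nd (.lf 0x5aa) (.lf 0))) (.nd (.nd (.lf 0x583) (.lf 0x324)) (.nd (.lf 0x2ff) (.lf 0)))))))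
def rkA_nabaab : Tr := (.nd (.nd (.nd (.nd (.nd (.nd (.lf 0x49) (.lf 0x476)) (.nd (.lf 0x1ea) (.lf 0x5ce))) (.nd (.nd (.lf 0x666) (.lf 0x31f)) (.nd (.lf 0x403) (.lf 0)))) (.nd (.nd (.nd (.lf 0x636) (.lf 0x56b)) (.nd (.lf 0x642) (.lf 0xcb))) (.nd (.nd (.lf 0x624) (.lf 0x367)) (.nd (.lf 0x4df) (.lf 0))))) (.nd (.nd (.nd (.nd (.lf 0x3ea) (.lf 0x32f)) (.nd (.lf 0x42e) (.lf 0x87))) (.nd (.nd (.lf 0x28a) (.lf 0x465)) (.nd (.lf 0x2d3) (.lf 0)))) (.nd (.nd (.nd (.lf 0x6b4) (.lf 0x552)) (.nd (.lf 0x1cb) (.lf 0xfc))) (.nd (.nd (.lf 0x2b7) (.lf 0x6a)) (.nd (.lf 0x5ff) (.lf 0)))))) (.nd (.nd (.nd (.nd (.nd (.lf 0xbf) (.lf 0xe4)) (.nd (.lf 0x2ab) (.lf 0x3ba))) (.nd (.nd (.lf 0x5fd) (.lf 0x1df)) (.nd (.lf 0x1d7) (.lf 0)))) (.nd (.nd (.nd (.lf 0x20f)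 (.lf 0x5b6)) (.nd (.lf 0x40d) (.lf 0x101))) (.nd (.nd (.lf 0x10b) (.lf 0x6c4)) (.nd (.lf 0x4f0) (.lf 0))))) (.nd (.nd (.nd (.nd (.lf 0x16a) (.lf 0x2af)) (.nd (.lf 0x693) (.lf 0xc1))) (.nd (.nd (.lf 0x13c) (.lf 0x302)) (.nd (.lf 0xcf) (.lf 0)))) (.nd (.nd (.nd (.lf 0xb8) (.lf 0x580)) (.nd (.lf 0x36b) (.lf 0))) (.nd (.nd (.lf 0x4c6) (.lf 0x14)) (.nd (.lf 0x5bd) (.lf 0)))))))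
def rkA_nababa : Tr := (.nd (.nd (.nd (.nd (.nd (.nd (.lf 0x5ac) (.lf 0x1c9)) (.nd (.lf 0x31d) (.lf 0x3fe))) (.nd (.nd (.lf 0x475) (.lf 0x3b)) (.nd (.lf 0xa5) (.lf 0)))) (.nd (.nd (.nd (.lf 0x88) (.lf 0x590)) (.nd (.lf 0x234) (.lf 0x29e))) (.nd (.nd (.lf 0x81) (.lf 0x163)) (.nd (.lf 0x3a1) (.lf 0))))) (.nd (.nd (.nd (.nd (.lf 0xc7) (.lf 0xd4)) (.nd (.lf 0x15d) (.lf 0x69c))) (.nd (.nd (.lf 0x6be) (.lf 0x569)) (.nd (.lf 0x1fd) (.lf 0)))) (.nd (.nd (.nd (.lf 0x1f) (.lf 0x268)) (.nd (.lf 0x2b3) (.lf 0x665))) (.nd (.nd (.lf 0x11) (.lf 0x2b0)) (.nd (.lf 0x6b1) (.lf 0)))))) (.nd (.nd (.nd (.nd (.nd (.lf 0x190) (.lf 0x4aa)) (.nd (.lf 0x1de) (.lf 0x66d))) (.nd (.nd (.lf 0x369) (.lf 0x68)) (.nd (.lf 0x4fd) (.lf 0)))) (.nd (.nd (.nd (.lf 0x44f)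 (.lf 0x463)) (.nd (.lf 0x5b3) (.lf 0x4b9))) (.nd (.nd (.lf 0x532) (.lf 0x24a)) (.nd (.lf 0x5ba) (.lf 0))))) (.nd (.nd (.nd (.nd (.lf 0x54c) (.lf 0x49a)) (.nd (.lf 0x1c4) (.lf 0x185))) (.nd (.nd (.lf 0x3d4) (.lf 0x239)) (.nd (.lf 0x644) (.lf 0)))) (.nd (.nd (.nd (.lf 0x202) (.lf 0xa0)) (.nd (.lf 0x2a3) (.lf 0))) (.nd (.nd (.lf 0x534) (.lf 0x2ca)) (.nd (.lf 0x42f) (.lf 0)))))))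
def rkA_nababb : Tr := (.nd (.nd (.nd (.nd (.nd (.nd (.lf 0x4e3) (.lf 0x6c)) (.nd (.lf 0x60a) (.lf 0x2c3))) (.nd (.nd (.lf 0x29) (.lf 0x1e0)) (.nd (.lf 0x1db) (.lf 0)))) (.nd (.nd (.nd (.lf 0x212) (.lf 0x364)) (.nd (.lf 0x505) (.lf 0x654))) (.nd (.nd (.lf 0x17) (.lf 0x662)) (.nd (.lf 0x466) (.lf 0))))) (.nd (.nd (.nd (.nd (.lf 0x15a) (.lf 0x383)) (.nd (.lf 0x33a) (.lf 0x1ef))) (.nd (.nd (.lf 0x27c) (.lf 0x285)) (.nd (.lf 0x34d) (.lf 0)))) (.nd (.nd (.nd (.lf 0x2b6) (.lf 0x564)) (.nd (.lf 0x1c7) (.lf 0x601))) (.nd (.nd (.lf 0x326) (.lf 0x5b7)) (.nd (.lf 0x5ea) (.lf 0)))))) (.nd (.nd (.nd (.nd (.nd (.lf 0x240) (.lf 0x162)) (.nd (.lf 0x276) (.lf 0x670))) (.nd (.nd (.lf 0x1c5) (.lf 0x78)) (.nd (.lf 0x5c0) (.lf 0)))) (.nd (.nd (.nd (.lf 0x47b)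 (.lf 0x54a)) (.nd (.lf 0x222) (.lf 0x366))) (.nd (.nd (.lf 0x5a3) (.lf 0x374)) (.nd (.lf 0x27d) (.lf 0))))) (.nd (.nd (.nd (.nd (.lf 0x440) (.lf 0x41a)) (.nd (.lf 0x155) (.lf 0x5fa))) (.nd (.nd (.lf 0x1a5) (.lf 0x161)) (.nd (.lf 0x113) (.lf 0)))) (.nd (.nd (.nd (.lf 0x2fa) (.lf 0x1f0)) (.nd (.lf 0x44) (.lf 0))) (.nd (.nd (.lf 0x6bd) (.lf 0xe5)) (.nd (.lf 0x38c) (.lf 0)))))))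
def rkA_nabbaa : Tr := (.nd (.nd (.nd (.nd (.nd (.nd (.lf 0x1b) (.lf 0x6b3)) (.nd (.lf 0x194) (.lf 0x225))) (.nd (.nd (.lf 0x420) (.lf 0x35f)) (.nd (.lf 0x42) (.lf 0)))) (.nd (.nd (.nd (.lf 0x653) (.lf 0x395)) (.nd (.lf 0x21b) (.lf 0x4a5))) (.nd (.nd (.lf 0x428) (.lf 0x3f4)) (.nd (.lf 0x4c5) (.lf 0))))) (.nd (.nd (.nd (.nd (.lf 0x6c0) (.lf 0x2a0)) (.nd (.lf 0x4b0) (.lf 0x46d))) (.nd (.nd (.lf 0x6a1) (.lf 0x34)) (.nd (.lf 0x158) (.lf 0)))) (.nd (.nd (.nd (.lf 0x243) (.lf 0x283)) (.nd (.lf 0x298) (.lf 0x1fe))) (.nd (.nd (.lf 0x521) (.lf 0x3cc)) (.nd (.lf 0x8) (.lf 0)))))) (.nd (.nd (.nd (.nd (.nd (.lf 0x131) (.lf 0x153)) (.nd (.lf 0x21f) (.lf 0x61a))) (.nd (.nd (.lf 0x259) (.lf 0x228)) (.nd (.lf 0x59c) (.lf 0)))) (.nd (.nd (.nd (.lf 0x114)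 (.lf 0x582)) (.nd (.lf 0x23c) (.lf 0x77))) (.nd (.nd (.lf 0x1af) (.lf 0x1b1)) (.nd (.lf 0x6bb) (.lf 0))))) (.nd (.nd (.nd (.nd (.lf 0x391) (.lf 0x19f)) (.nd (.lf 0x18d) (.lf 0x585))) (.nd (.nd (.lf 0x71) (.lf 0x5c3)) (.nd (.lf 0x20d) (.lf 0)))) (.nd (.nd (.nd (.lf 0x17a) (.lf 0x2fe)) (.nd (.lf 0x579) (.lf 0))) (.nd (.nd (.lf 0x524) (.lf 0x14d)) (.nd (.lf 0x200) (.lf 0)))))))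
def rkA_nabbab : Tr := (.nd (.nd (.nd (.nd (.nd (.nd (.lf 0x23a) (.lf 0x344)) (.nd (.lf 0x576) (.lf 0x28b))) (.nd (.nd (.lf 0x10) (.lf 0x2d0)) (.nd (.lf 0x4f4) (.lf 0)))) (.nd (.nd (.nd (.lf 0x50e) (.lf 0x351)) (.nd (.lf 0x506) (.lf 0xdf))) (.nd (.nd (.lf 0x421) (.lf 0xb)) (.nd (.lf 0x19e) (.lf 0))))) (.nd (.nd (.nd (.nd (.lf 0x425) (.lf 0x60f)) (.nd (.lf 0x451) (.lf 0x1dc))) (.nd (.nd (.lf 0x667) (.lf 0xed)) (.nd (.lf 0x2e) (.lf 0)))) (.nd (.nd (.nd (.lf 0x42c) (.lf 0x555)) (.nd (.lf 0x74) (.lf 0x353))) (.nd (.nd (.lf 0x3de) (.lf 0x626)) (.nd (.lf 0x37d) (.lf 0)))))) (.nd (.nd (.nd (.nd (.nd (.lf 0x6c5) (.lf 0x1d5)) (.nd (.lf 0x1b2) (.lf 0x489))) (.nd (.nd (.lf 0x362) (.lf 0xff)) (.nd (.lf 0x5e4) (.lf 0)))) (.nd (.nd (.nd (.lf 0x698)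 (.lf 0x38e)) (.nd (.lf 0x5a4) (.lf 0x181))) (.nd (.nd (.lf 0x424) (.lf 0x632)) (.nd (.lf 0x28e) (.lf 0))))) (.nd (.nd (.nd (.nd (.lf 0x588) (.lf 0x35a)) (.nd (.lf 0x97) (.lf 0x48e))) (.nd (.nd (.lf 0x1d9) (.lf 0x4d7)) (.nd (.lf 0x692) (.lf 0)))) (.nd (.nd (.nd (.lf 0x4d9) (.lf 0x546)) (.nd (.lf 0x1bb) (.lf 0))) (.nd (.nd (.lf 0x2de) (.lf 0x85)) (.nd (.lf 0xa3) (.lf 0)))))))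
def rkA_nabbba : Tr := (.nd (.nd (.nd (.nd (.nd (.nd (.lf 0x2e5) (.lf 0x60e)) (.nd (.lf 0x62f) (.lf 0x422))) (.nd (.nd (.lf 0x4d8) (.lf 0x5f8)) (.nd (.lf 0x59d) (.lf 0)))) (.nd (.nd (.nd (.lf 0x38a) (.lf 0x38f)) (.nd (.lf 0x399) (.lf 0x3c5))) (.nd (.nd (.lf 0x6bf) (.lf 0x1ed)) (.nd (.lf 0x1eb) (.lf 0))))) (.nd (.nd (.nd (.nd (.lf 0x21a) (.lf 0x48d)) (.nd (.lf 0x1e7) (.lf 0xdc))) (.nd (.nd (.lf 0x2d8) (.lf 0x5ed)) (.nd (.lf 0x58) (.lf 0)))) (.nd (.nd (.nd (.lf 0x20e) (.lf 0x7a)) (.nd (.lf 0xda) (.lf 0x4ab))) (.nd (.nd (.lf 0x40f) (.lf 0x675)) (.nd (.lf 0x382) (.lf 0)))))) (.nd (.nd (.nd (.nd (.nd (.lf 0x3d3) (.lf 0x1da)) (.nd (.lf 0x593) (.lf 0x5c9))) (.nd (.nd (.lf 0x4af) (.lf 0x57f)) (.nd (.lf 0x5a7) (.lf 0)))) (.nd (.nd (.nd (.lf 0x668)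 (.lf 0x392)) (.nd (.lf 0x408) (.lf 0x36d))) (.nd (.nd (.lf 0x557) (.lf 0x5cc)) (.nd (.lf 0x6d7) (.lf 0))))) (.nd (.nd (.nd (.nd (.lf 0xfe) (.lf 0x2f3)) (.nd (.lf 0x20b) (.lf 0x3e5))) (.nd (.nd (.lf 0x296) (.lf 0x493)) (.nd (.lf 0x51e) (.lf 0)))) (.nd (.nd (.nd (.lf 0x620) (.lf 0x482)) (.nd (.lf 0x210) (.lf 0))) (.nd (.nd (.lf 0x214) (.lf 0x289)) (.nd (.lf 0x3a2) (.lf 0)))))))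
def rkA_nabbbb : Tr := (.nd (.nd (.nd (.nd (.nd (.nd (.lf 0x1f7) (.lf 0x4e9)) (.nd (.lf 0x1ce) (.lf 0x108))) (.nd (.nd (.lf 0x1cd) (.lf 0x295)) (.nd (.lf 0x2c9) (.lf 0)))) (.nd (.nd (.nd (.lf 0x3) (.lf 0x6bc)) (.nd (.lf 0x638) (.lf 0x4c4))) (.nd (.nd (.lf 0x80) (.lf 0x25e)) (.nd (.lf 0x4e1) (.lf 0))))) (.nd (.nd (.nd (.nd (.lf 0x2c7) (.lf 0x612)) (.nd (.lf 0x66e) (.lf 0x44a))) (.nd (.nd (.lf 0x519) (.lf 0x681)) (.nd (.lf 0x429) (.lf 0)))) (.nd (.nd (.nd (.lf 0x73) (.lf 0x45a)) (.nd (.lf 0x4f6) (.lf 0))) (.nd (.nd (.lf 0x404) (.lf 0x5af)) (.nd (.lf 0x380) (.lf 0)))))) (.nd (.nd (.nd (.nd (.nd (.lf 0x4d2) (.lf 0x2ac)) (.nd (.lf 0x2d4) (.lf 0x17b))) (.nd (.nd (.lf 0x68d) (.lf 0x13b)) (.nd (.lf 0x4ff) (.lf 0)))) (.nd (.nd (.nd (.lf 0x226)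 (.lf 0x12a)) (.nd (.lf 0x6d3) (.lf 0x19d))) (.nd (.nd (.lf 0x341) (.lf 0x597)) (.nd (.lf 0x595) (.lf 0))))) (.nd (.nd (.nd (.nd (.lf 0x401) (.lf 0x49f)) (.nd (.lf 0x334) (.lf 0x59b))) (.nd (.nd (.lf 0x3e) (.lf 0x2ea)) (.nd (.lf 0x4fc) (.lf 0)))) (.nd (.nd (.nd (.lf 0x33b) (.lf 0x5e0)) (.nd (.lf 0x30f) (.lf 0))) (.nd (.nd (.lf 0x578) (.lf 0x55)) (.nd (.lf 0x695) (.lf 0)))))))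
def rkA_nbaaaa : Tr := (.nd (.nd (.nd (.nd (.nd (.nd (.lf 0x604) (.lf 0x4e8)) (.nd (.lf 0x1b8) (.lf 0x378))) (.nd (.nd (.lf 0x416) (.lf 0x2e1)) (.nd (.lf 0x260) (.lf 0)))) (.nd (.nd (.nd (.lf 0x12b) (.lf 0x584)) (.nd (.lf 0x59e) (.lf 0x1b5))) (.nd (.nd (.lf 0x3da) (.lf 0x281)) (.nd (.lf 0x67a) (.lf 0))))) (.nd (.nd (.nd (.nd (.lf 0x299) (.lf 0xd0)) (.nd (.lf 0x267) (.lf 0xd9))) (.nd (.nd (.lf 0x198) (.lf 0x418)) (.nd (.lf 0x41d) (.lf 0)))) (.nd (.nd (.nd (.lf 0xfd) (.lf 0x41b)) (.nd (.lf 0x29c) (.lf 0x43f))) (.nd (.nd (.lf 0x275) (.lf 0x43b)) (.nd (.lf 0x646) (.lf 0)))))) (.nd (.nd (.nd (.nd (.nd (.lf 0x177) (.lf 0x697)) (.nd (.lf 0x53) (.lf 0x69d))) (.nd (.nd (.lf 0x48a) (.lf 0x4ac)) (.nd (.lf 0x446) (.lf 0)))) (.nd (.nd (.nd (.lf 0x687)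 (.lf 0x1f1)) (.nd (.lf 0x639) (.lf 0x4b4))) (.nd (.nd (.lf 0x4cf) (.lf 0xb0)) (.nd (.lf 0x611) (.lf 0))))) (.nd (.nd (.nd (.nd (.lf 0x514) (.lf 0x58d)) (.nd (.lf 0x312) (.lf 0x357))) (.nd (.nd (.lf 0xb6) (.lf 0x2b)) (.nd (.lf 0x558) (.lf 0)))) (.nd (.nd (.nd (.lf 0x280) (.lf 0x56a)) (.nd (.lf 0x57) (.lf 0))) (.nd (.nd (.lf 0x462) (.lf 0x103)) (.nd (.lf 0x23b) (.lf 0)))))))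
def rkA_nbaaab : Tr := (.nd (.nd (.nd (.nd (.nd (.nd (.lf 0x439) (.lf 0x360)) (.nd (.lf 0x5ca) (.lf 0x634))) (.nd (.nd (.lf 0x250) (.lf 0x333)) (.nd (.lf 0x4d4) (.lf 0)))) (.nd (.nd (.nd (.lf 0x43) (.lf 0x2d)) (.nd (.lf 0x556) (.lf 0x5e1))) (.nd (.nd (.lf 0x3fd) (.lf 0x4dc)) (.nd (.lf 0x135) (.lf 0))))) (.nd (.nd (.nd (.nd (.lf 0x6cd) (.lf 0x6b8)) (.nd (.lf 0x12f) (.lf 0xb1))) (.nd (.nd (.lf 0x174) (.lf 0x4d0)) (.nd (.lf 0x386) (.lf 0)))) (.nd (.nd (.nd (.lf 0x5b2) (.lf 0x303)) (.nd (.lf 0x4c9) (.lf 0x2a7))) (.nd (.nd (.lf 0x72) (.lf 0x431)) (.nd (.lf 0x694) (.lf 0)))))) (.nd (.nd (.nd (.nd (.nd (.lf 0x150) (.lf 0x5df)) (.nd (.lf 0x5cf) (.lf 0x4a))) (.nd (.nd (.lf 0x105) (.lf 0x3b0)) (.nd (.lf 0x50b) (.lf 0)))) (.nd (.nd (.nd (.lf 0x57d)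 (.lf 0x2c5)) (.nd (.lf 0x227) (.lf 0x179))) (.nd (.nd (.lf 0x540) (.lf 0x173)) (.nd (.lf 0x65d) (.lf 0))))) (.nd (.nd (.nd (.nd (.lf 0x211) (.lf 0x257)) (.nd (.lf 0x24b) (.lf 0x680))) (.nd (.nd (.lf 0x640) (.lf 0x68b)) (.nd (.lf 0xf) (.lf 0)))) (.nd (.nd (.nd (.lf 0x274) (.lf 0x560)) (.nd (.lf 0x2b1) (.lf 0))) (.nd (.nd (.lf 0x45b) (.lf 0x2c1)) (.nd (.lf 0x50d) (.lf 0)))))))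
def rkA_nbaaba : Tr := (.nd (.nd (.nd (.nd (.nd (.nd (.lf 0x3e4) (.lf 0x25f)) (.nd (.lf 0x52a) (.lf 0x18))) (.nd (.nd (.lf 0x5a) (.lf 0x628)) (.nd (.lf 0x615) (.lf 0)))) (.nd (.nd (.nd (.lf 0x6e) (.lf 0x43c)) (.nd (.lf 0x64c) (.lf 0x55b))) (.nd (.nd (.lf 0x400) (.lf 0x23)) (.nd (.lf 0x67f) (.lf 0))))) (.nd (.nd (.nd (.nd (.lf 0x246) (.lf 0x4a0)) (.nd (.lf 0x2c6) (.lf 0x4de))) (.nd (.nd (.lf 0x54f) (.lf 0x4be)) (.nd (.lf 0x15) (.lf 0)))) (.nd (.nd (.nd (.lf 0x294) (.lf 0x48b)) (.nd (.lf 0x658) (.lf 0x64f))) (.nd (.nd (.lf 0x40c) (.lf 0x389)) (.nd (.lf 0x42b) (.lf 0)))))) (.nd (.nd (.nd (.nd (.nd (.lf 0x379) (.lf 0x5cd)) (.nd (.lf 0x2e6) (.lf 0x4e5))) (.nd (.nd (.lf 0x455) (.lf 0x116)) (.nd (.lf 0x2cf) (.lf 0)))) (.nd (.nd (.nd (.lf 0x538)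 (.lf 0x38b)) (.nd (.lf 0x561) (.lf 0x377))) (.nd (.nd (.lf 0x373) (.lf 0xd3)) (.nd (.lf 0x316) (.lf 0))))) (.nd (.nd (.nd (.nd (.lf 0x5f4) (.lf 0x220)) (.nd (.lf 0x606) (.lf 0x414))) (.nd (.nd (.lf 0x2cd) (.lf 0x58e)) (.nd (.lf 0x629) (.lf 0)))) (.nd (.nd (.nd (.lf 0x381) (.lf 0x308)) (.nd (.lf 0x5fe) (.lf 0))) (.nd (.nd (.lf 0x84) (.lf 0x1c8)) (.nd (.lf 0x167) (.lf 0)))))))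
def rkA_nbaabb : Tr := (.nd (.nd (.nd (.nd (.nd (.nd (.lf 0x3a5) (.lf 0x372)) (.nd (.lf 0x26d) (.lf 0x56))) (.nd (.nd (.lf 0x1c3) (.lf 0x573)) (.nd (.lf 0x4a2) (.lf 0)))) (.nd (.nd (.nd (.lf 0x6a5) (.lf 0x5dc)) (.nd (.lf 0x4da) (.lf 0x2a8))) (.nd (.nd (.lf 0xc0) (.lf 0x50f)) (.nd (.lf 0x127) (.lf 0))))) (.nd (.nd (.nd (.nd (.lf 0x6cb) (.lf 0x345)) (.nd (.lf 0x16e) (.lf 0x5c2))) (.nd (.nd (.lf 0x30b) (.lf 0x1a6)) (.nd (.lf 0x2fc) (.lf 0)))) (.nd (.nd (.nd (.lf 0x27e) (.lf 0x405)) (.nd (.lf 0x4e4) (.lf 0xd5))) (.nd (.nd (.lf 0x31c) (.lf 0x29a)) (.nd (.lf 0x31a) (.lf 0)))))) (.nd (.nd (.nd (.nd (.nd (.lf 0x24c) (.lf 0x2f5)) (.nd (.lf 0xa7) (.lf 0x1e5))) (.nd (.nd (.lf 0x8b) (.lf 0x598)) (.nd (.lf 0x36) (.lf 0)))) (.nd (.nd (.nd (.lf 0x58c)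 (.lf 0x6c6)) (.nd (.lf 0x4b6) (.lf 0x189))) (.nd (.nd (.lf 0x6d9) (.lf 0x36c)) (.nd (.lf 0x30) (.lf 0))))) (.nd (.nd (.nd (.nd (.lf 0x11d) (.lf 0xe0)) (.nd (.lf 0x537) (.lf 0x145))) (.nd (.nd (.lf 0x1c1) (.lf 0x3c7)) (.nd (.lf 0x4ad) (.lf 0)))) (.nd (.nd (.nd (.lf 0x205) (.lf 0x21)) (.nd (.lf 0x1b6) (.lf 0))) (.nd (.nd (.lf 0x5da) (.lf 0x3c0)) (.nd (.lf 0x623) (.lf 0)))))))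
def rkA_nbabaa : Tr := (.nd (.nd (.nd (.nd (.nd (.nd (.lf 0x176) (.lf 0x2aa)) (.nd (.lf 0x1f6) (.lf 0x499))) (.nd (.nd (.lf 0x54e) (.lf 0x390)) (.nd (.lf 0x350) (.lf 0)))) (.nd (.nd (.nd (.lf 0x486) (.lf 0x206)) (.nd (.lf 0x515) (.lf 0x5d4))) (.nd (.nd (.lf 0x2a5) (.lf 0x60c)) (.nd (.lf 0x248) (.lf 0))))) (.nd (.nd (.nd (.nd (.lf 0x1c2) (.lf 0x435)) (.nd (.lf 0x3ed) (.lf 0x37b))) (.nd (.nd (.lf 0x17c) (.lf 0x55a)) (.nd (.lf 0x587) (.lf 0)))) (.nd (.nd (.nd (.lf 0x10a) (.lf 0x45c)) (.nd (.lf 0x660) (.lf 0x44e))) (.nd (.nd (.lf 0x2ae) (.lf 0xca)) (.nd (.lf 0x3ce) (.lf 0)))))) (.nd (.nd (.nd (.nd (.nd (.lf 0x4b5) (.lf 0x1be)) (.nd (.lf 0x6d5) (.lf 0x5e))) (.nd (.nd (.lf 0x361) (.lf 0x17d)) (.nd (.lf 0x5bc) (.lf 0)))) (.nd (.nd (.nd (.lf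 0xcc) (.lf 0x3ab)) (.nd (.lf 0x4d6) (.lf 0xbd))) (.nd (.nd (.lf 0x4c2) (.lf 0x1ae)) (.nd (.lf 0xb9) (.lf 0))))) (.nd (.nd (.nd (.nd (.lf 0x30e) (.lf 0x2f2)) (.nd (.lf 0x5bb) (.lf 0x3c2))) (.nd (.nd (.lf 0x38d) (.lf 0x305)) (.nd (.lf 0x193) (.lf 0)))) (.nd (.nd (.nd (.lf 0x44c) (.lf 0x553)) (.nd (.lf 0x291) (.lf 0))) (.nd (.nd (.lf 0x65c) (.lf 0x3b1)) (.nd (.lf 0x4ec) (.lf 0)))))))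
def rkA_nbabab : Tr := (.nd (.nd (.nd (.nd (.nd (.nd (.lf 0x388) (.lf 0x4f8)) (.nd (.lf 0x9a) (.lf 0xec))) (.nd (.nd (.lf 0x5e6) (.lf 0x152)) (.nd (.lf 0x3df) (.lf 0)))) (.nd (.nd (.nd (.lf 0x39d) (.lf 0x545)) (.nd (.lf 0x27) (.lf 0x523))) (.nd (.nd (.lf 0x2fb) (.lf 0x3cd)) (.nd (.lf 0x292) (.lf 0))))) (.nd (.nd (.nd (.nd (.lf 0x171) (.lf 0x54)) (.nd (.lf 0x577) (.lf 0x138))) (.nd (.nd (.lf 0x64b) (.lf 0x410)) (.nd (.lf 0xaf) (.lf 0)))) (.nd (.nd (.nd (.lf 0x6d) (.lf 0x6cf)) (.nd (.lf 0x6a0) (.lf 0x5ee))) (.nd (.nd (.lf 0x5b5) (.lf 0x34a)) (.nd (.lf 0x375) (.lf 0)))))) (.nd (.nd (.nd (.nd (.nd (.lf 0x6a9) (.lf 0x7b)) (.nd (.lf 0x2d2) (.lf 0x365))) (.nd (.nd (.lf 0x470) (.lf 0x3fa)) (.nd (.lf 0x329) (.lf 0)))) (.nd (.nd (.nd (.lf 0x432)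 (.lf 0x4ea)) (.nd (.lf 0x2f0) (.lf 0x677))) (.nd (.nd (.lf 0x2d5) (.lf 0x62)) (.nd (.lf 0x507) (.lf 0))))) (.nd (.nd (.nd (.nd (.lf 0x251) (.lf 0x140)) (.nd (.lf 0x12e) (.lf 0x184))) (.nd (.nd (.lf 0x452) (.lf 0xe9)) (.nd (.lf 0x22e) (.lf 0)))) (.nd (.nd (.nd (.lf 0x6a4) (.lf 0x39e)) (.nd (.lf 0x53c) (.lf 0))) (.nd (.nd (.lf 0x363) (.lf 0x35)) (.nd (.lf 0x517) (.lf 0)))))))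
def rkA_nbabba : Tr := (.nd (.nd (.nd (.nd (.nd (.nd (.lf 0x3d5) (.lf 0x230)) (.nd (.lf 0x4c7) (.lf 0x3d1))) (.nd (.nd (.lf 0x479) (.lf 0x647)) (.nd (.lf 0x112) (.lf 0)))) (.nd (.nd (.nd (.lf 0xd1) (.lf 0x3f)) (.nd (.lf 0x5f2) (.lf 0x70))) (.nd (.nd (.lf 0x51d) (.lf 0x3ca)) (.nd (.lf 0x2bd) (.lf 0))))) (.nd (.nd (.nd (.nd (.lf 0x6c3) (.lf 0x1f9)) (.nd (.lf 0x5de) (.lf 0x31e))) (.nd (.nd (.lf 0x26a) (.lf 0x37e)) (.nd (.lf 0x52e) (.lf 0)))) (.nd (.nd (.nd (.lf 0x504) (.lf 0x26b)) (.nd (.lf 0x1fc) (.lf 0x6f))) (.nd (.nd (.lf 0x51c) (.lf 0x139)) (.nd (.lf 0x1d3) (.lf 0)))))) (.nd (.nd (.nd (.nd (.nd (.lf 0x2be) (.lf 0x165)) (.nd (.lf 0x342) (.lf 0x433))) (.nd (.nd (.lf 0x682) (.lf 0x66f)) (.nd (.lf 0x3d9) (.lf 0)))) (.nd (.nd (.nd (.lf 0x47e)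 (.lf 0x96)) (.nd (.lf 0x183) (.lf 0x23d))) (.nd (.nd (.lf 0x1ab) (.lf 0xd8)) (.nd (.lf 0x617) (.lf 0))))) (.nd (.nd (.nd (.nd (.lf 0x18e) (.lf 0x581)) (.nd (.lf 0x614) (.lf 0x339))) (.nd (.nd (.lf 0x4a4) (.lf 0x62a)) (.nd (.lf 0x256) (.lf 0)))) (.nd (.nd (.nd (.lf 0x2e9) (.lf 0x35e)) (.nd (.lf 0x265) (.lf 0))) (.nd (.nd (.lf 0x123) (.lf 0xdd)) (.nd (.lf 0x109) (.lf 0)))))))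
def rkA_nbabbb : Tr := (.nd (.nd (.nd (.nd (.nd (.nd (.lf 0x55c) (.lf 0x22a)) (.nd (.lf 0x37) (.lf 0xb5))) (.nd (.nd (.lf 0x236) (.lf 0x635)) (.nd (.lf 0x6d1) (.lf 0)))) (.nd (.nd (.nd (.lf 0x2a1) (.lf 0x67d)) (.nd (.lf 0x33c) (.lf 0x3a0))) (.nd (.nd (.lf 0x142) (.lf 0x1ff)) (.nd (.lf 0x607) (.lf 0))))) (.nd (.nd (.nd (.nd (.lf 0x8a) (.lf 0x498)) (.nd (.lf 0x4e2) (.lf 0x2a6))) (.nd (.nd (.lf 0x413) (.lf 0x610)) (.nd (.lf 0x643) (.lf 0)))) (.nd (.nd (.nd (.lf 0xbb) (.lf 0x3d8)) (.nd (.lf 0x5e8) (.lf 0))) (.nd (.nd (.lf 0x346) (.lf 0x19c)) (.nd (.lf 0x2fd) (.lf 0)))))) (.nd (.nd (.nd (.nd (.nd (.lf 0x1a8) (.lf 0x115)) (.nd (.lf 0x100) (.lf 0x315))) (.nd (.nd (.lf 0x2f6) (.lf 0x233)) (.nd (.lf 0x328) (.lf 0)))) (.nd (.nd (.nd (.lf 0x5a9)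 (.lf 0x599)) (.nd (.lf 0x1e1) (.lf 0x5d0))) (.nd (.nd (.lf 0x245) (.lf 0x32e)) (.nd (.lf 0x518) (.lf 0))))) (.nd (.nd (.nd (.nd (.lf 0xfa) (.lf 0x1f5)) (.nd (.lf 0x6cc) (.lf 0x5fc))) (.nd (.nd (.lf 0x10c) (.lf 0x76)) (.nd (.lf 0x2f1) (.lf 0)))) (.nd (.nd (.nd (.lf 0x16) (.lf 0x4dd)) (.nd (.lf 0x5d3) (.lf 0))) (.nd (.nd (.lf 0x4f) (.lf 0x67)) (.nd (.lf 0x34c) (.lf 0)))))))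
def rkA_nbbaaa : Tr := (.nd (.nd (.nd (.nd (.nd (.nd (.lf 0x3b3) (.lf 0x2eb)) (.nd (.lf 0x9c) (.lf 0x4db))) (.nd (.nd (.lf 0x17e) (.lf 0x120)) (.nd (.lf 0x10e) (.lf 0)))) (.nd (.nd (.nd (.lf 0x196) (.lf 0x186)) (.nd (.lf 0x402) (.lf 0x327))) (.nd (.nd (.lf 0xf2) (.lf 0x3ff)) (.nd (.lf 0x5a5) (.lf 0))))) (.nd (.nd (.nd (.nd (.lf 0x2dc) (.lf 0x59f)) (.nd (.lf 0x172) (.lf 0x637))) (.nd (.nd (.lf 0x288) (.lf 0x49d)) (.nd (.lf 0xba) (.lf 0)))) (.nd (.nd (.nd (.lf 0x2e8) (.lf 0x445)) (.nd (.lf 0x4f5) (.lf 0x358))) (.nd (.nd (.lf 0x5e2) (.lf 0x6c2)) (.nd (.lf 0x58a) (.lf 0)))))) (.nd (.nd (.nd (.nd (.nd (.lf 0x3e9) (.lf 0x5ef)) (.nd (.lf 0xd2) (.lf 0x27a))) (.nd (.nd (.lf 0x661) (.lf 0x3f5)) (.nd (.lf 0x18c) (.lf 0)))) (.nd (.nd (.nd (.lf 0x313)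 (.lf 0x503)) (.nd (.lf 0x487) (.lf 0x98))) (.nd (.nd (.lf 0xf1) (.lf 0x633)) (.nd (.lf 0x571) (.lf 0))))) (.nd (.nd (.nd (.nd (.lf 0x253) (.lf 0x630)) (.nd (.lf 0x304) (.lf 0x5b1))) (.nd (.nd (.lf 0x47f) (.lf 0x656)) (.nd (.lf 0x5c6) (.lf 0)))) (.nd (.nd (.nd (.lf 0x271) (.lf 0x8e)) (.nd (.lf 0x50a) (.lf 0))) (.nd (.nd (.lf 0x437) (.lf 0x166)) (.nd (.lf 0x568) (.lf 0)))))))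
def rkA_nbbaab : Tr := (.nd (.nd (.nd (.nd (.nd (.nd (.lf 0x5a6) (.lf 0x2f)) (.nd (.lf 0x631) (.lf 0x3a8))) (.nd (.nd (.lf 0x3ad) (.lf 0x4d1)) (.nd (.lf 0x37c) (.lf 0)))) (.nd (.nd (.nd (.lf 0xcd) (.lf 0x217)) (.nd (.lf 0x15f) (.lf 0x1d))) (.nd (.nd (.lf 0x641) (.lf 0x447)) (.nd (.lf 0x2b2) (.lf 0))))) (.nd (.nd (.nd (.nd (.lf 0x5c1) (.lf 0x1a3)) (.nd (.lf 0x33d) (.lf 0x37a))) (.nd (.nd (.lf 0x203) (.lf 0x679)) (.nd (.lf 0x600) (.lf 0)))) (.nd (.nd (.nd (.lf 0x5f0) (.lf 0x352)) (.nd (.lf 0x4f1) (.lf 0x672))) (.nd (.nd (.lf 0x343) (.lf 0x430)) (.nd (.lf 0x541) (.lf 0)))))) (.nd (.nd (.nd (.nd (.nd (.lf 0x3f0) (.lf 0x2f9)) (.nd (.lf 0x406) (.lf 0x24))) (.nd (.nd (.lf 0x66b) (.lf 0x5c4)) (.nd (.lf 0x314) (.lf 0)))) (.nd (.nd (.nd (.lf 0x6ab)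 (.lf 0x359)) (.nd (.lf 0x2b9) (.lf 0x1dd))) (.nd (.nd (.lf 0x43e) (.lf 0x18b)) (.nd (.lf 0x1fa) (.lf 0))))) (.nd (.nd (.nd (.nd (.lf 0x39c) (.lf 0x238)) (.nd (.lf 0x42a) (.lf 0x6a8))) (.nd (.nd (.lf 0x7c) (.lf 0x676)) (.nd (.lf 0x337) (.lf 0)))) (.nd (.nd (.nd (.lf 0x223) (.lf 0x411)) (.nd (.lf 0x509) (.lf 0))) (.nd (.nd (.lf 0x91) (.lf 0x22c)) (.nd (.lf 0x4bf) (.lf 0)))))))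
def rkA_nbbaba : Tr := (.nd (.nd (.nd (.nd (.nd (.nd (.lf 0x56d) (.lf 0x93)) (.nd (.lf 0x2c2) (.lf 0x164))) (.nd (.nd (.lf 0x272) (.lf 0x5b4)) (.nd (.lf 0x16f) (.lf 0)))) (.nd (.nd (.nd (.lf 0x609) (.lf 0x204)) (.nd (.lf 0x1ad) (.lf 0x3f1))) (.nd (.nd (.lf 0xad) (.lf 0x278)) (.nd (.lf 0x472) (.lf 0))))) (.nd (.nd (.nd (.nd (.lf 0x1b9) (.lf 0x3af)) (.nd (.lf 0x29d) (.lf 0x6b9))) (.nd (.nd (.lf 0xe8) (.lf 0xbc)) (.nd (.lf 0x384) (.lf 0)))) (.nd (.nd (.nd (.lf 0x15c) (.lf 0x199)) (.nd (.lf 0x1d1) (.lf 0x683))) (.nd (.nd (.lf 0x1d6) (.lf 0x188)) (.nd (.lf 0x20c) (.lf 0)))))) (.nd (.nd (.nd (.nd (.nd (.lf 0x2ec) (.lf 0x591)) (.nd (.lf 0x50) (.lf 0x335))) (.nd (.nd (.lf 0x53f) (.lf 0x118)) (.nd (.lf 0x691) (.lf 0)))) (.nd (.nd (.nd (.lf 0x688)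 (.lf 0x35d)) (.nd (.lf 0xa8) (.lf 0x2b8))) (.nd (.nd (.lf 0xc4) (.lf 0x648)) (.nd (.lf 0x2d1) (.lf 0))))) (.nd (.nd (.nd (.nd (.lf 0x5ae) (.lf 0x543)) (.nd (.lf 0x25d) (.lf 0x5d))) (.nd (.nd (.lf 0xa9) (.lf 0x2bf)) (.nd (.lf 0x61d) (.lf 0)))) (.nd (.nd (.nd (.lf 0x484) (.lf 0x5d2)) (.nd (.lf 0x197) (.lf 0))) (.nd (.nd (.lf 0x533) (.lf 0x47)) (.nd (.lf 0x536) (.lf 0)))))))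
def rkA_nbbabb : Tr := (.nd (.nd (.nd (.nd (.nd (.nd (.lf 0x21d) (.lf 0x175)) (.nd (.lf 0xce) (.lf 0x69f))) (.nd (.nd (.lf 0x35b) (.lf 0x53d)) (.nd (.lf 0x5c5) (.lf 0)))) (.nd (.nd (.nd (.lf 0x68e) (.lf 0x5a1)) (.nd (.lf 0x42d) (.lf 0x2e7))) (.nd (.nd (.lf 0x522) (.lf 0x40a)) (.nd (.lf 0x6d6) (.lf 0))))) (.nd (.nd (.nd (.nd (.lf 0x7f) (.lf 0x5f3)) (.nd (.lf 0x1bc) (.lf 0x4ee))) (.nd (.nd (.lf 0x38) (.lf 0x4e0)) (.nd (.lf 0x4fb) (.lf 0)))) (.nd (.nd (.nd (.lf 0x621) (.lf 0x2e2)) (.nd (.lf 0x566) (.lf 0))) (.nd (.nd (.lf 0x3b8) (.lf 0x535)) (.nd (.lf 0x685) (.lf 0)))))) (.nd (.nd (.nd (.nd (.nd (.lf 0x385) (.lf 0x3f6)) (.nd (.lf 0x1e9) (.lf 0x148))) (.nd (.nd (.lf 0x469) (.lf 0x47a)) (.nd (.lf 0x673) (.lf 0)))) (.nd (.nd (.nd (.lf 0x39)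 (.lf 0x496)) (.nd (.lf 0x2cc) (.lf 0x480))) (.nd (.nd (.lf 0x684) (.lf 0xf4)) (.nd (.lf 0x57e) (.lf 0))))) (.nd (.nd (.nd (.nd (.lf 0x89) (.lf 0x28f)) (.nd (.lf 0x53a) (.lf 0x83))) (.nd (.nd (.lf 0x57a) (.lf 0x481)) (.nd (.lf 0x457) (.lf 0)))) (.nd (.nd (.nd (.lf 0x258) (.lf 0x441)) (.nd (.lf 0xb2) (.lf 0))) (.nd (.nd (.lf 0x491) (.lf 0x471)) (.nd (.lf 0x3d) (.lf 0)))))))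
def rkA_nbbbaa : Tr := (.nd (.nd (.nd (.nd (.nd (.nd (.lf 0xf6) (.lf 0x128)) (.nd (.lf 0x616) (.lf 0x62c))) (.nd (.nd (.lf 0x492) (.lf 0x170)) (.nd (.lf 0x1aa) (.lf 0)))) (.nd (.nd (.nd (.lf 0x3ac) (.lf 0x508)) (.nd (.lf 0x149) (.lf 0x16b))) (.nd (.nd (.lf 0x67e) (.lf 0xc9)) (.nd (.lf 0x48c) (.lf 0))))) (.nd (.nd (.nd (.nd (.lf 0x137) (.lf 0x6b5)) (.nd (.lf 0x41f) (.lf 0x3f3))) (.nd (.nd (.lf 0x592) (.lf 0x11c)) (.nd (.lf 0x64d) (.lf 0)))) (.nd (.nd (.nd (.lf 0x45d) (.lf 0x1d2)) (.nd (.lf 0x443) (.lf 0xa4))) (.nd (.nd (.lf 0x426) (.lf 0x586)) (.nd (.lf 0x5f) (.lf 0)))))) (.nd (.nd (.nd (.nd (.nd (.lf 0x1e4) (.lf 0x151)) (.nd (.lf 0x5bf) (.lf 0x5cb))) (.nd (.nd (.lf 0x332) (.lf 0x415)) (.nd (.lf 0x125) (.lf 0)))) (.nd (.nd (.nd (.lf 0x5e7)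 (.lf 0x1a)) (.nd (.lf 0x221) (.lf 0x45f))) (.nd (.nd (.lf 0x4ca) (.lf 0x32)) (.nd (.lf 0xe1) (.lf 0))))) (.nd (.nd (.nd (.nd (.lf 0x488) (.lf 0x1c0)) (.nd (.lf 0x69b) (.lf 0x1a7))) (.nd (.nd (.lf 0x134) (.lf 0x394)) (.nd (.lf 0x550) (.lf 0)))) (.nd (.nd (.nd (.lf 0x1bf) (.lf 0x3b7)) (.nd (.lf 0x310) (.lf 0))) (.nd (.nd (.lf 0x674) (.lf 0x242)) (.nd (.lf 0x24f) (.lf 0)))))))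
def rkA_nbbbab : Tr := (.nd (.nd (.nd (.nd (.nd (.nd (.lf 0x58b) (.lf 0xf3)) (.nd (.lf 0x117) (.lf 0x3d7))) (.nd (.nd (.lf 0x136) (.lf 0x6d0)) (.nd (.lf 0x40e) (.lf 0)))) (.nd (.nd (.nd (.lf 0x3c) (.lf 0x2b5)) (.nd (.lf 0x3b2) (.lf 0x60d))) (.nd (.nd (.lf 0x449) (.lf 0x4cd)) (.nd (.lf 0x66a) (.lf 0))))) (.nd (.nd (.nd (.nd (.lf 0x398) (.lf 0x231)) (.nd (.lf 0x2c) (.lf 0x2ba))) (.nd (.nd (.lf 0x21e) (.lf 0x3e8)) (.nd (.lf 0x7d) (.lf 0)))) (.nd (.nd (.nd (.lf 0x95) (.lf 0x62d)) (.nd (.lf 0xd6) (.lf 0x27b))) (.nd (.nd (.lf 0x4cb) (.lf 0x318)) (.nd (.lf 0x549) (.lf 0)))))) (.nd (.nd (.nd (.nd (.nd (.lf 0x490) (.lf 0x594)) (.nd (.lf 0x154) (.lf 0x354))) (.nd (.nd (.lf 0x6a7) (.lf 0x1b0)) (.nd (.lf 0x43a) (.lf 0)))) (.nd (.nd (.nd (.lf 0xc)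 (.lf 0x529)) (.nd (.lf 0x2c8) (.lf 0x423))) (.nd (.nd (.lf 0x322) (.lf 0x371)) (.nd (.lf 0xef) (.lf 0))))) (.nd (.nd (.nd (.nd (.lf 0x6) (.lf 0x22)) (.nd (.lf 0x52c) (.lf 0x483))) (.nd (.nd (.lf 0x2e0) (.lf 0x63b)) (.nd (.lf 0x11f) (.lf 0)))) (.nd (.nd (.nd (.lf 0x4f3) (.lf 0x4b8)) (.nd (.lf 0x574) (.lf 0))) (.nd (.nd (.lf 0x52f) (.lf 0x69)) (.nd (.lf 0x3d2) (.lf 0)))))))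
def rkA_nbbbba : Tr := (.nd (.nd (.nd (.nd (.nd (.nd (.lf 0x2db) (.lf 0x4bb)) (.nd (.lf 0x9e) (.lf 0x559))) (.nd (.nd (.lf 0x57c) (.lf 0x68a)) (.nd (.lf 0x61b) (.lf 0)))) (.nd (.nd (.nd (.lf 0x43d) (.lf 0x5ad)) (.nd (.lf 0x650) (.lf 0x690))) (.nd (.nd (.lf 0x511) (.lf 0x516)) (.nd (.lf 0x180) (.lf 0))))) (.nd (.nd (.nd (.nd (.lf 0x589) (.lf 0x6ca)) (.nd (.lf 0x393) (.lf 0x61))) (.nd (.nd (.lf 0x652) (.lf 0xbe)) (.nd (.lf 0x453) (.lf 0)))) (.nd (.nd (.nd (.lf 0x39b) (.lf 0x4ef)) (.nd (.lf 0x5e5) (.lf 0x13))) (.nd (.nd (.lf 0x119) (.lf 0x4c8)) (.nd (.lf 0x2d6) (.lf 0)))))) (.nd (.nd (.nd (.nd (.nd (.lf 0x1f2) (.lf 0x4cc)) (.nd (.lf 0x124) (.lf 0x1f4))) (.nd (.nd (.lf 0x3bc) (.lf 0x603)) (.nd (.lf 0x1b3) (.lf 0)))) (.nd (.nd (.nd (.lf 0x575)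 (.lf 0x33e)) (.nd (.lf 0x3f7) (.lf 0xa))) (.nd (.nd (.lf 0x3fb) (.lf 0x12)) (.nd (.lf 0x28d) (.lf 0))))) (.nd (.nd (.nd (.nd (.lf 0x45) (.lf 0x63a)) (.nd (.lf 0x448) (.lf 0x33))) (.nd (.nd (.lf 0x338) (.lf 0x657)) (.nd (.lf 0x61c) (.lf 0)))) (.nd (.nd (.nd (.lf 0x8c) (.lf 0x5c8)) (.nd (.lf 0x290) (.lf 0))) (.nd (.nd (.lf 0x6ac) (.lf 0x397)) (.nd (.lf 0x3e7) (.lf 0)))))))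
def rkA_nbbbbb : Tr := (.nd (.nd (.nd (.nd (.nd (.nd (.lf 0x520) (.lf 0x61f)) (.nd (.lf 0x3b9) (.lf 0x29b))) (.nd (.nd (.lf 0x1fb) (.lf 0x25c)) (.nd (.lf 0x45e) (.lf 0)))) (.nd (.nd (.nd (.lf 0x286) (.lf 0x645)) (.nd (.lf 0x547) (.lf 0x14a))) (.nd (.nd (.lf 0x168) (.lf 0x3a7)) (.nd (.lf 0x16c) (.lf 0))))) (.nd (.nd (.nd (.nd (.lf 0x3c3) (.lf 0x4fe)) (.nd (.lf 0x51) (.lf 0x126))) (.nd (.nd (.lf 0x2e4) (.lf 0x699)) (.nd (.lf 0x444) (.lf 0)))) (.nd (.nd (.nd (.lf 0x31) (.lf 0x696)) (.nd (.lf 0x409) (.lf 0))) (.nd (.nd (.lf 0x32b) (.lf 0x525)) (.nd (.lf 0x2f8) (.lf 0)))))) (.nd (.nd (.nd (.nd (.nd (.lf 0x4a7) (.lf 0x5f9)) (.nd (.lf 0x3e0) (.lf 0xa1))) (.nd (.nd (.lf 0x1ca) (.lf 0x497)) (.nd (.lf 0x3ef) (.lf 0)))) (.nd (.nd (.nd (.lf 0x19)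 (.lf 0x69a)) (.nd (.lf 0x5f5) (.lf 0x2d9))) (.nd (.nd (.lf 0x5d8) (.lf 0x501)) (.nd (.lf 0xf5) (.lf 0))))) (.nd (.nd (.nd (.nd (.lf 0x192) (.lf 0x110)) (.nd (.lf 0x3dd) (.lf 0x1cf))) (.nd (.nd (.lf 0x32d) (.lf 0x1e)) (.nd (.lf 0x619) (.lf 0)))) (.nd (.nd (.nd (.lf 0xc3) (.lf 0xc2)) (.nd (.lf 0x689) (.lf 0))) (.nd (.nd (.lf 0x355) (.lf 0x2df)) (.nd (.lf 0xe) (.lf 0)))))))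
def rkA : Tr := (.nd (.nd (.nd (.nd (.nd rkA_naaaaa rkA_naaaab) (.nd rkA_naaaba rkA_naaabb)) (.nd (.nd rkA_naabaa rkA_naabab) (.nd rkA_naabba rkA_naabbb))) (.nd (.nd (.nd rkA_nabaaa rkA_nabaab) (.nd rkA_nababa rkA_nababb)) (.nd (.nd rkA_nabbaa rkA_nabbab) (.nd rkA_nabbba rkA_nabbbb)))) (.nd (.nd (.nd (.nd rkA_nbaaaa rkA_nbaaab) (.nd rkA_nbaaba rkA_nbaabb)) (.nd (.nd rkA_nbabaa rkA_nbabab) (.nd rkA_nbabba rkA_nbabbb))) (.nd (.nd (.nd rkA_nbbaaa rkA_nbbaab) (.nd rkA_nbbaba rkA_nbbabb)) (.nd (.nd rkA_nbbbaa rkA_nbbbab) (.nd rkA_nbbbba rkA_nbbbbb)))))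
def srtA_naaaaa : Tr := (.nd (.nd (.nd (.nd (.nd (.nd (.lf 0x0) (.lf 0x189)) (.nd (.lf 0x3e6) (.lf 0x353))) (.nd (.nd (.lf 0x23d) (.lf 0x5f0)) (.nd (.lf 0x51c) (.lf 0)))) (.nd (.nd (.nd (.lf 0x19e) (.lf 0x6bb)) (.nd (.lf 0xe1) (.lf 0x671))) (.nd (.nd (.lf 0x38f) (.lf 0x4f2)) (.nd (.lf 0x3de) (.lf 0))))) (.nd (.nd (.nd (.nd (.lf 0x1dc) (.lf 0x7a)) (.nd (.lf 0x3a) (.lf 0x171))) (.nd (.nd (.lf 0x475) (.lf 0x1b1)) (.nd (.lf 0x2b8) (.lf 0)))) (.nd (.nd (.nd (.lf 0x199) (.lf 0x562)) (.nd (.lf 0x7c) (.lf 0x46))) (.nd (.nd (.lf 0x467) (.lf 0x33a)) (.nd (.lf 0x5f9) (.lf 0)))))) (.nd (.nd (.nd (.nd (.nd (.lf 0x494) (.lf 0x106)) (.nd (.lf 0x469) (.lf 0xee))) (.nd (.nd (.lf 0x503) (.lf 0x1f)) (.nd (.lf 0x638) (.lf 0)))) (.nd (.nd (.nd (.lf 0x4ea)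 (.lf 0x449)) (.nd (.lf 0x446) (.lf 0x2d5))) (.nd (.nd (.lf 0x35c) (.lf 0x5f4)) (.nd (.lf 0x69d) (.lf 0))))) (.nd (.nd (.nd (.nd (.lf 0x54c) (.lf 0x678)) (.nd (.lf 0x301) (.lf 0x2c5))) (.nd (.nd (.lf 0x384) (.lf 0x4f1)) (.nd (.lf 0x411) (.lf 0)))) (.nd (.nd (.nd (.lf 0x479) (.lf 0x55b)) (.nd (.lf 0x177) (.lf 0))) (.nd (.nd (.lf 0x51a) (.lf 0x4fe)) (.nd (.lf 0x23f) (.lf 0)))))))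
def srtA_naaaab : Tr := (.nd (.nd (.nd (.nd (.nd (.nd (.lf 0x116) (.lf 0x555)) (.nd (.lf 0x2ee) (.lf 0x55d))) (.nd (.nd (.lf 0x47f) (.lf 0x294)) (.nd (.lf 0x2e7) (.lf 0)))) (.nd (.nd (.nd (.lf 0x8c) (.lf 0x37)) (.nd (.lf 0x2ef) (.lf 0x68f))) (.nd (.nd (.lf 0x2a) (.lf 0x48a)) (.nd (.lf 0x505) (.lf 0))))) (.nd (.nd (.nd (.nd (.lf 0x22b) (.lf 0x20)) (.nd (.lf 0x111) (.lf 0x28f))) (.nd (.nd (.lf 0x31) (.lf 0x367)) (.nd (.lf 0x305) (.lf 0)))) (.nd (.nd (.nd (.lf 0x441) (.lf 0x551)) (.nd (.lf 0x516) (.lf 0x517))) (.nd (.nd (.lf 0xa0) (.lf 0x6bd)) (.nd (.lf 0x69c) (.lf 0)))))) (.nd (.nd (.nd (.nd (.nd (.lf 0x3b9) (.lf 0x5d3)) (.nd (.lf 0x40d) (.lf 0x463))) (.nd (.nd (.lf 0x30c) (.lf 0x668)) (.nd (.lf 0x19c) (.lf 0)))) (.nd (.nd (.nd (.lf 0x5a1)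 (.lf 0x246)) (.nd (.lf 0x5ca) (.lf 0x5c8))) (.nd (.nd (.lf 0x537) (.lf 0x670)) (.nd (.lf 0x531) (.lf 0))))) (.nd (.nd (.nd (.nd (.lf 0x68d) (.lf 0x135)) (.nd (.lf 0x56c) (.lf 0x63a))) (.nd (.nd (.lf 0x507) (.lf 0x3f0)) (.nd (.lf 0x3f8) (.lf 0)))) (.nd (.nd (.nd (.lf 0x508) (.lf 0x3b2)) (.nd (.lf 0x2b5) (.lf 0))) (.nd (.nd (.lf 0x4fa) (.lf 0xd3)) (.nd (.lf 0x33) (.lf 0)))))))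
def srtA_naaaba : Tr := (.nd (.nd (.nd (.nd (.nd (.nd (.lf 0x3c6) (.lf 0x2ae)) (.nd (.lf 0x258) (.lf 0x68c))) (.nd (.nd (.lf 0x61e) (.lf 0x487)) (.nd (.lf 0x4e9) (.lf 0)))) (.nd (.nd (.nd (.lf 0x8a) (.lf 0x67)) (.nd (.lf 0x143) (.lf 0xab))) (.nd (.nd (.lf 0x5cb) (.lf 0x76)) (.nd (.lf 0x15) (.lf 0))))) (.nd (.nd (.nd (.nd (.lf 0x230) (.lf 0x26f)) (.nd (.lf 0x385) (.lf 0x5ab))) (.nd (.nd (.lf 0x63b) (.lf 0x610)) (.nd (.lf 0x324) (.lf 0)))) (.nd (.nd (.nd (.lf 0x580) (.lf 0x5cf)) (.nd (.lf 0x2b7) (.lf 0x50))) (.nd (.nd (.lf 0x5e9) (.lf 0x4ef)) (.nd (.lf 0x13c) (.lf 0)))))) (.nd (.nd (.nd (.nd (.nd (.lf 0x170) (.lf 0x186)) (.nd (.lf 0x526) (.lf 0x509))) (.nd (.nd (.lf 0x407) (.lf 0x1c0)) (.nd (.lf 0x33d) (.lf 0)))) (.nd (.nd (.nd (.lf 0x2ab)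 (.lf 0x21c)) (.nd (.lf 0x699) (.lf 0x673))) (.nd (.nd (.lf 0x3d) (.lf 0xc8)) (.nd (.lf 0x613) (.lf 0))))) (.nd (.nd (.nd (.nd (.lf 0x52a) (.lf 0x154)) (.nd (.lf 0x4ca) (.lf 0xae))) (.nd (.nd (.lf 0x19f) (.lf 0x3e3)) (.nd (.lf 0x30) (.lf 0)))) (.nd (.nd (.nd (.lf 0x14b) (.lf 0x401)) (.nd (.lf 0xc3) (.lf 0))) (.nd (.nd (.lf 0x442) (.lf 0x2dd)) (.nd (.lf 0x557) (.lf 0)))))))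
def srtA_naaabb : Tr := (.nd (.nd (.nd (.nd (.nd (.nd (.lf 0x609) (.lf 0x541)) (.nd (.lf 0x53c) (.lf 0x604))) (.nd (.nd (.lf 0x52b) (.lf 0x3bd)) (.nd (.lf 0x5d7) (.lf 0)))) (.nd (.nd (.nd (.lf 0x6a3) (.lf 0x45d)) (.nd (.lf 0x2c6) (.lf 0xb6))) (.nd (.nd (.lf 0x141) (.lf 0x539)) (.nd (.lf 0x57) (.lf 0))))) (.nd (.nd (.nd (.nd (.lf 0x34e) (.lf 0x250)) (.nd (.lf 0xfb) (.lf 0x2c9))) (.nd (.nd (.lf 0x346) (.lf 0x361)) (.nd (.lf 0x6c3) (.lf 0)))) (.nd (.nd (.nd (.lf 0x5ad) (.lf 0x10e)) (.nd (.lf 0x14e) (.lf 0x3dc))) (.nd (.nd (.lf 0x23c) (.lf 0x1bf)) (.nd (.lf 0x4dd) (.lf 0)))))) (.nd (.nd (.nd (.nd (.nd (.lf 0x15b) (.lf 0x3b4)) (.nd (.lf 0x473) (.lf 0x29e))) (.nd (.nd (.lf 0x655) (.lf 0xa9)) (.nd (.lf 0x16f) (.lf 0)))) (.nd (.nd (.nd (.lf 0xf2)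 (.lf 0x4f7)) (.nd (.lf 0x6ab) (.lf 0x451))) (.nd (.nd (.lf 0x201) (.lf 0x4)) (.nd (.lf 0x1db) (.lf 0))))) (.nd (.nd (.nd (.nd (.lf 0x53a) (.lf 0x680)) (.nd (.lf 0x58b) (.lf 0x1ac))) (.nd (.nd (.lf 0x158) (.lf 0x1fe)) (.nd (.lf 0x601) (.lf 0)))) (.nd (.nd (.nd (.lf 0x1c8) (.lf 0x415)) (.nd (.lf 0x3df) (.lf 0))) (.nd (.nd (.lf 0x6a0) (.lf 0x50e)) (.nd (.lf 0x22) (.lf 0)))))))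
def srtA_naabaa : Tr := (.nd (.nd (.nd (.nd (.nd (.nd (.lf 0x4e8) (.lf 0x1de)) (.nd (.lf 0x48b) (.lf 0x1))) (.nd (.nd (.lf 0x642) (.lf 0xcd)) (.nd (.lf 0x263) (.lf 0)))) (.nd (.nd (.nd (.lf 0x1e9) (.lf 0xeb)) (.nd (.lf 0x48) (.lf 0x1bb))) (.nd (.nd (.lf 0x675) (.lf 0x481)) (.nd (.lf 0x34b) (.lf 0))))) (.nd (.nd (.nd (.nd (.lf 0x2fa) (.lf 0x35f)) (.nd (.lf 0x6cc) (.lf 0x36a))) (.nd (.nd (.lf 0xb8) (.lf 0x194)) (.nd (.lf 0x416) (.lf 0)))) (.nd (.nd (.nd (.lf 0x1ab) (.lf 0x69e)) (.nd (.lf 0x334) (.lf 0x5b2))) (.nd (.nd (.lf 0x26a) (.lf 0x533)) (.nd (.lf 0x548) (.lf 0)))))) (.nd (.nd (.nd (.nd (.nd (.lf 0x633) (.lf 0x1b6)) (.nd (.lf 0x74) (.lf 0x192))) (.nd (.nd (.lf 0x22f) (.lf 0x1e6)) (.nd (.lf 0x5e2) (.lf 0)))) (.nd (.nd (.nd (.lf 0x6c7)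 (.lf 0x16d)) (.nd (.lf 0x404) (.lf 0xf5))) (.nd (.nd (.lf 0x514) (.lf 0x2b6)) (.nd (.lf 0x244) (.lf 0))))) (.nd (.nd (.nd (.nd (.lf 0x3e8) (.lf 0x620)) (.nd (.lf 0x498) (.lf 0x340))) (.nd (.nd (.lf 0x60b) (.lf 0x4da)) (.nd (.lf 0x49a) (.lf 0)))) (.nd (.nd (.nd (.lf 0x432) (.lf 0x2d9)) (.nd (.lf 0x15f) (.lf 0))) (.nd (.nd (.lf 0x27) (.lf 0x336)) (.nd (.lf 0x9) (.lf 0)))))))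
def srtA_naabab : Tr := (.nd (.nd (.nd (.nd (.nd (.nd (.lf 0x5f2) (.lf 0x669)) (.nd (.lf 0x1ee) (.lf 0x26d))) (.nd (.nd (.lf 0xa6) (.lf 0x61)) (.nd (.lf 0x333) (.lf 0)))) (.nd (.nd (.nd (.lf 0x602) (.lf 0x24c)) (.nd (.lf 0xc9) (.lf 0x3d1))) (.nd (.nd (.lf 0x206) (.lf 0x437)) (.nd (.lf 0x567) (.lf 0))))) (.nd (.nd (.nd (.nd (.lf 0x455) (.lf 0x128)) (.nd (.lf 0x650) (.lf 0x69a))) (.nd (.nd (.lf 0x237) (.lf 0x44c)) (.nd (.lf 0x637) (.lf 0)))) (.nd (.nd (.nd (.lf 0x44a) (.lf 0x311)) (.nd (.lf 0x23e) (.lf 0x5a2))) (.nd (.nd (.lf 0x242) (.lf 0x685)) (.nd (.lf 0x16a) (.lf 0)))))) (.nd (.nd (.nd (.nd (.nd (.lf 0x546) (.lf 0x360)) (.nd (.lf 0x28a) (.lf 0x611))) (.nd (.nd (.lf 0x167) (.lf 0x1ea)) (.nd (.lf 0x27e) (.lf 0)))) (.nd (.nd (.nd (.lf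 0x5b8) (.lf 0x6a1)) (.nd (.lf 0x34) (.lf 0xd2))) (.nd (.nd (.lf 0x3ec) (.lf 0x50b)) (.nd (.lf 0x674) (.lf 0))))) (.nd (.nd (.nd (.nd (.lf 0x2d6) (.lf 0x3f4)) (.nd (.lf 0xf1) (.lf 0x1e7))) (.nd (.nd (.lf 0x151) (.lf 0x2f7)) (.nd (.lf 0x5ba) (.lf 0)))) (.nd (.nd (.nd (.lf 0x5bb) (.lf 0x316)) (.nd (.lf 0x402) (.lf 0))) (.nd (.nd (.lf 0x62f) (.lf 0x69)) (.nd (.lf 0x586) (.lf 0)))))))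
def srtA_naabba : Tr := (.nd (.nd (.nd (.nd (.nd (.nd (.lf 0xb7) (.lf 0x1c9)) (.nd (.lf 0x3cb) (.lf 0x585))) (.nd (.nd (.lf 0x17d) (.lf 0x3b0)) (.nd (.lf 0x2a8) (.lf 0)))) (.nd (.nd (.nd (.lf 0xef) (.lf 0x387)) (.nd (.lf 0x1a0) (.lf 0x594))) (.nd (.nd (.lf 0x323) (.lf 0xb9)) (.nd (.lf 0x3fa) (.lf 0))))) (.nd (.nd (.nd (.nd (.lf 0xb4) (.lf 0xe5)) (.nd (.lf 0x39) (.lf 0x289))) (.nd (.nd (.lf 0x28) (.lf 0x6a)) (.nd (.lf 0x3fd) (.lf 0)))) (.nd (.nd (.nd (.lf 0xa5) (.lf 0x42f)) (.nd (.lf 0x2bb) (.lf 0x27d))) (.nd (.nd (.lf 0x310) (.lf 0x5ae)) (.nd (.lf 0x5c6) (.lf 0)))))) (.nd (.nd (.nd (.nd (.nd (.lf 0x257) (.lf 0xd6)) (.nd (.lf 0x5f3) (.lf 0x607))) (.nd (.nd (.lf 0x248) (.lf 0x277)) (.nd (.lf 0x598) (.lf 0)))) (.nd (.nd (.nd (.lf 0x1a4)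 (.lf 0x521)) (.nd (.lf 0x43e) (.lf 0x1ef))) (.nd (.nd (.lf 0x640) (.lf 0xa)) (.nd (.lf 0x87) (.lf 0))))) (.nd (.nd (.nd (.nd (.lf 0x41a) (.lf 0x6c2)) (.nd (.lf 0x6c8) (.lf 0x3d0))) (.nd (.nd (.lf 0x39f) (.lf 0x2dc)) (.nd (.lf 0x5b9) (.lf 0)))) (.nd (.nd (.nd (.lf 0x615) (.lf 0x3e5)) (.nd (.lf 0x2b) (.lf 0))) (.nd (.nd (.lf 0x31c) (.lf 0x2c2)) (.nd (.lf 0x3a2) (.lf 0)))))))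
def srtA_naabbb : Tr := (.nd (.nd (.nd (.nd (.nd (.nd (.lf 0x1f0) (.lf 0x2cc)) (.nd (.lf 0x2e4) (.lf 0x36f))) (.nd (.nd (.lf 0x547) (.lf 0x1cd)) (.nd (.lf 0x1d9) (.lf 0)))) (.nd (.nd (.nd (.lf 0x203) (.lf 0x84)) (.nd (.lf 0x2c1) (.lf 0x64a))) (.nd (.nd (.lf 0x5dd) (.lf 0x326)) (.nd (.lf 0x73) (.lf 0))))) (.nd (.nd (.nd (.nd (.lf 0x82) (.lf 0x4c5)) (.nd (.lf 0x51f) (.lf 0x1e5))) (.nd (.nd (.lf 0xcb) (.lf 0x1d)) (.nd (.lf 0x434) (.lf 0)))) (.nd (.nd (.nd (.lf 0x64e) (.lf 0x591)) (.nd (.lf 0x43) (.lf 0))) (.nd (.nd (.lf 0x656) (.lf 0x499)) (.nd (.lf 0x3a4) (.lf 0)))))) (.nd (.nd (.nd (.nd (.nd (.lf 0x97) (.lf 0x489)) (.nd (.lf 0x2a6) (.lf 0xe4))) (.nd (.nd (.lf 0x172) (.lf 0x2f5)) (.nd (.lf 0x29d) (.lf 0)))) (.nd (.nd (.nd (.lf 0x54b) (.lf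 0x500)) (.nd (.lf 0x59c) (.lf 0x49e))) (.nd (.nd (.lf 0x25b) (.lf 0x325)) (.nd (.lf 0x12f) (.lf 0))))) (.nd (.nd (.nd (.nd (.lf 0x173) (.lf 0x39c)) (.nd (.lf 0x15a) (.lf 0x4e4))) (.nd (.nd (.lf 0x145) (.lf 0x10f)) (.nd (.lf 0x313) (.lf 0)))) (.nd (.nd (.nd (.lf 0x6d2) (.lf 0x37e)) (.nd (.lf 0x359) (.lf 0))) (.nd (.nd (.lf 0x2cd) (.lf 0x67d)) (.nd (.lf 0x270) (.lf 0)))))))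
def srtA_nabaaa : Tr := (.nd (.nd (.nd (.nd (.nd (.nd (.lf 0xc2) (.lf 0x283)) (.nd (.lf 0xea) (.lf 0x454))) (.nd (.nd (.lf 0x10) (.lf 0x190)) (.nd (.lf 0x572) (.lf 0)))) (.nd (.nd (.nd (.lf 0xd0) (.lf 0x4ee)) (.nd (.lf 0x414) (.lf 0x12d))) (.nd (.nd (.lf 0x410) (.lf 0x4a6)) (.nd (.lf 0x3ce) (.lf 0))))) (.nd (.nd (.nd (.nd (.lf 0x306) (.lf 0x164)) (.nd (.lf 0x5e7) (.lf 0x292))) (.nd (.nd (.lf 0x19d) (.lf 0x510)) (.nd (.lf 0x22d) (.lf 0)))) (.nd (.nd (.nd (.lf 0x4ff) (.lf 0x1a5)) (.nd (.lf 0x20b) (.lf 0x5c3))) (.nd (.nd (.lf 0x45) (.lf 0x659)) (.nd (.lf 0x665) (.lf 0)))))) (.nd (.nd (.nd (.nd (.nd (.lf 0x477) (.lf 0x60e)) (.nd (.lf 0x2ba) (.lf 0x318))) (.nd (.nd (.lf 0x408) (.lf 0x19b)) (.nd (.lf 0x1b7) (.lf 0)))) (.nd (.nd (.nd (.lf 0x188)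 (.lf 0x319)) (.nd (.lf 0x240) (.lf 0x5e4))) (.nd (.nd (.lf 0x280) (.lf 0x238)) (.nd (.lf 0x3ee) (.lf 0))))) (.nd (.nd (.nd (.nd (.lf 0x5b5) (.lf 0x1e1)) (.nd (.lf 0x634) (.lf 0x59a))) (.nd (.nd (.lf 0x43a) (.lf 0x608)) (.nd (.lf 0x136) (.lf 0)))) (.nd (.nd (.nd (.lf 0x44) (.lf 0x25d)) (.nd (.lf 0x4db) (.lf 0))) (.nd (.nd (.lf 0x278) (.lf 0x1c3)) (.nd (.lf 0x4a4) (.lf 0)))))))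
def srtA_nabaab : Tr := (.nd (.nd (.nd (.nd (.nd (.nd (.lf 0x5af) (.lf 0x1c)) (.nd (.lf 0x9a) (.lf 0x45e))) (.nd (.nd (.lf 0x30d) (.lf 0x1f8)) (.nd (.lf 0x261) (.lf 0)))) (.nd (.nd (.nd (.lf 0x570) (.lf 0x107)) (.nd (.lf 0x395) (.lf 0x376))) (.nd (.nd (.lf 0x7f) (.lf 0x147)) (.nd (.lf 0x4ae) (.lf 0))))) (.nd (.nd (.nd (.nd (.lf 0xf4) (.lf 0x175)) (.nd (.lf 0x3e0) (.lf 0x14f))) (.nd (.nd (.lf 0x515) (.lf 0x4d2)) (.nd (.lf 0x4d3) (.lf 0)))) (.nd (.nd (.nd (.lf 0x223) (.lf 0x3e)) (.nd (.lf 0x235) (.lf 0x25c))) (.nd (.nd (.lf 0x4c7) (.lf 0x4eb)) (.nd (.lf 0x3f7) (.lf 0)))))) (.nd (.nd (.nd (.nd (.nd (.lf 0x5a7) (.lf 0xb5)) (.nd (.lf 0x98) (.lf 0x5b6))) (.nd (.nd (.lf 0x5b0) (.lf 0x1aa)) (.nd (.lf 0x127) (.lf 0)))) (.nd (.nd (.nd (.lf 0x2fb)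 (.lf 0x564)) (.nd (.lf 0x393) (.lf 0x654))) (.nd (.nd (.lf 0x236) (.lf 0xd1)) (.nd (.lf 0x297) (.lf 0))))) (.nd (.nd (.nd (.nd (.lf 0x1d1) (.lf 0x38b)) (.nd (.lf 0x10b) (.lf 0x6d3))) (.nd (.nd (.lf 0x243) (.lf 0x5b4)) (.nd (.lf 0x419) (.lf 0)))) (.nd (.nd (.nd (.lf 0x183) (.lf 0x214)) (.nd (.lf 0x465) (.lf 0))) (.nd (.nd (.lf 0x2f) (.lf 0x28d)) (.nd (.lf 0x234) (.lf 0)))))))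
def srtA_nababa : Tr := (.nd (.nd (.nd (.nd (.nd (.nd (.lf 0x6af) (.lf 0x59b)) (.nd (.lf 0x5bc) (.lf 0x21a))) (.nd (.nd (.lf 0xc5) (.lf 0x2e3)) (.nd (.lf 0x2bc) (.lf 0)))) (.nd (.nd (.nd (.lf 0x5d) (.lf 0x121)) (.nd (.lf 0x152) (.lf 0x50f))) (.nd (.nd (.lf 0x36c) (.lf 0x3c3)) (.nd (.lf 0x8e) (.lf 0))))) (.nd (.nd (.nd (.nd (.lf 0x631) (.lf 0x65e)) (.nd (.lf 0x5aa) (.lf 0x1a2))) (.nd (.nd (.lf 0x69f) (.lf 0x4ba)) (.nd (.lf 0x5d5) (.lf 0)))) (.nd (.nd (.nd (.lf 0x5c5) (.lf 0x1a7)) (.nd (.lf 0x5ea) (.lf 0x44f))) (.nd (.nd (.lf 0x13f) (.lf 0x211)) (.nd (.lf 0x58d) (.lf 0)))))) (.nd (.nd (.nd (.nd (.nd (.lf 0x162) (.lf 0x273)) (.nd (.lf 0x41d) (.lf 0x56d))) (.nd (.nd (.lf 0x4be) (.lf 0x209)) (.nd (.lf 0x5a8) (.lf 0)))) (.nd (.nd (.nd (.lf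 0x110) (.lf 0x42a)) (.nd (.lf 0x405) (.lf 0x308))) (.nd (.nd (.lf 0x307) (.lf 0x2e2)) (.nd (.lf 0x5fc) (.lf 0))))) (.nd (.nd (.nd (.nd (.lf 0x5d2) (.lf 0x304)) (.nd (.lf 0x14d) (.lf 0x397))) (.nd (.nd (.lf 0x72) (.lf 0x4e1)) (.nd (.lf 0x2c8) (.lf 0)))) (.nd (.nd (.nd (.lf 0x584) (.lf 0x4b5)) (.nd (.lf 0x57e) (.lf 0))) (.nd (.nd (.lf 0x212) (.lf 0x3da)) (.nd (.lf 0x52) (.lf 0)))))))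
def srtA_nababb : Tr := (.nd (.nd (.nd (.nd (.nd (.nd (.lf 0x4a7) (.lf 0x47a)) (.nd (.lf 0x4e) (.lf 0x626))) (.nd (.nd (.lf 0x662) (.lf 0x488)) (.nd (.lf 0x3d9) (.lf 0)))) (.nd (.nd (.nd (.lf 0x215) (.lf 0x46a)) (.nd (.lf 0x5d9) (.lf 0x4bf))) (.nd (.nd (.lf 0x644) (.lf 0x144)) (.nd (.lf 0x448) (.lf 0))))) (.nd (.nd (.nd (.nd (.lf 0x109) (.lf 0x4de)) (.nd (.lf 0x542) (.lf 0x290))) (.nd (.nd (.lf 0x5a) (.lf 0x545)) (.nd (.lf 0x476) (.lf 0)))) (.nd (.nd (.nd (.lf 0x2ce) (.lf 0x299)) (.nd (.lf 0x574) (.lf 0x544))) (.nd (.nd (.lf 0x42e) (.lf 0x1f9)) (.nd (.lf 0x181) (.lf 0)))))) (.nd (.nd (.nd (.nd (.nd (.lf 0x45c) (.lf 0x337)) (.nd (.lf 0x16) (.lf 0x46f))) (.nd (.nd (.lf 0x38) (.lf 0x27b)) (.nd (.lf 0x25a) (.lf 0)))) (.nd (.nd (.nd (.lf 0x343)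 (.lf 0x5cc)) (.nd (.lf 0x657) (.lf 0x15c))) (.nd (.nd (.lf 0x5dc) (.lf 0x3aa)) (.nd (.lf 0x632) (.lf 0))))) (.nd (.nd (.nd (.nd (.lf 0x4ce) (.lf 0x53b)) (.nd (.lf 0x623) (.lf 0x381))) (.nd (.nd (.lf 0xe6) (.lf 0x17b)) (.nd (.lf 0x653) (.lf 0)))) (.nd (.nd (.nd (.lf 0x7d) (.lf 0x3b8)) (.nd (.lf 0xfa) (.lf 0))) (.nd (.nd (.lf 0x3b3) (.lf 0x67a)) (.nd (.lf 0x535) (.lf 0)))))))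
def srtA_nabbaa : Tr := (.nd (.nd (.nd (.nd (.nd (.nd (.lf 0x77) (.lf 0x233)) (.nd (.lf 0x485) (.lf 0x269))) (.nd (.nd (.lf 0x394) (.lf 0x296)) (.nd (.lf 0x202) (.lf 0)))) (.nd (.nd (.nd (.lf 0x284) (.lf 0x85)) (.nd (.lf 0x9f) (.lf 0x57c))) (.nd (.nd (.lf 0x483) (.lf 0x5c7)) (.nd (.lf 0x351) (.lf 0))))) (.nd (.nd (.nd (.nd (.lf 0x12c) (.lf 0x321)) (.nd (.lf 0x49) (.lf 0x3c1))) (.nd (.nd (.lf 0x5e0) (.lf 0x4f6)) (.nd (.lf 0x1dd) (.lf 0)))) (.nd (.nd (.nd (.lf 0x1d4) (.lf 0x1f2)) (.nd (.lf 0x249) (.lf 0x4b9))) (.nd (.nd (.lf 0x2a4) (.lf 0x363)) (.nd (.lf 0x380) (.lf 0)))))) (.nd (.nd (.nd (.nd (.nd (.lf 0x52c) (.lf 0x1c7)) (.nd (.lf 0xbe) (.lf 0x5d6))) (.nd (.nd (.lf 0x65f) (.lf 0x698)) (.nd (.lf 0x1da) (.lf 0)))) (.nd (.nd (.nd (.lf 0x430)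 (.lf 0x5c4)) (.nd (.lf 0x65d) (.lf 0x3d8))) (.nd (.nd (.lf 0x559) (.lf 0x13)) (.nd (.lf 0x3fc) (.lf 0))))) (.nd (.nd (.nd (.nd (.lf 0x2c4) (.lf 0x39a)) (.nd (.lf 0x54) (.lf 0x112))) (.nd (.nd (.lf 0x5e3) (.lf 0x2db)) (.nd (.lf 0x6ba) (.lf 0)))) (.nd (.nd (.nd (.lf 0x4c0) (.lf 0x2c)) (.nd (.lf 0x229) (.lf 0))) (.nd (.nd (.lf 0x3c) (.lf 0x115)) (.nd (.lf 0x690) (.lf 0)))))))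
def srtA_nabbab : Tr := (.nd (.nd (.nd (.nd (.nd (.nd (.lf 0xfd) (.lf 0x101)) (.nd (.lf 0x664) (.lf 0x207))) (.nd (.nd (.lf 0x529) (.lf 0x58f)) (.nd (.lf 0x3a9) (.lf 0)))) (.nd (.nd (.nd (.lf 0x4ad) (.lf 0x4bb)) (.nd (.lf 0x16e) (.lf 0x4df))) (.nd (.nd (.lf 0x83) (.lf 0x630)) (.nd (.lf 0x382) (.lf 0))))) (.nd (.nd (.nd (.nd (.lf 0x619) (.lf 0x224)) (.nd (.lf 0x36d) (.lf 0x563))) (.nd (.nd (.lf 0x5a0) (.lf 0x291)) (.nd (.lf 0x124) (.lf 0)))) (.nd (.nd (.nd (.lf 0x2d7) (.lf 0x2a5)) (.nd (.lf 0x3cf) (.lf 0x39b))) (.nd (.nd (.lf 0x1cb) (.lf 0x5c2)) (.nd (.lf 0xa2) (.lf 0)))))) (.nd (.nd (.nd (.nd (.nd (.lf 0x339) (.lf 0xec)) (.nd (.lf 0x11d) (.lf 0x92))) (.nd (.nd (.lf 0x117) (.lf 0x3eb)) (.nd (.lf 0x6c0) (.lf 0)))) (.nd (.nd (.nd (.lf 0x161)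 (.lf 0x2b9)) (.nd (.lf 0xda) (.lf 0x3c8))) (.nd (.nd (.lf 0x2f9) (.lf 0x4b2)) (.nd (.lf 0x682) (.lf 0))))) (.nd (.nd (.nd (.nd (.lf 0x57d) (.lf 0x412)) (.nd (.lf 0x23a) (.lf 0x573))) (.nd (.nd (.lf 0x5) (.lf 0x216)) (.nd (.lf 0x60) (.lf 0)))) (.nd (.nd (.nd (.lf 0x7) (.lf 0x2de)) (.nd (.lf 0x13d) (.lf 0))) (.nd (.nd (.lf 0x205) (.lf 0x1c4)) (.nd (.lf 0x43b) (.lf 0)))))))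
def srtA_nabbba : Tr := (.nd (.nd (.nd (.nd (.nd (.nd (.lf 0x3ff) (.lf 0x317)) (.nd (.lf 0xce) (.lf 0x40e))) (.nd (.nd (.lf 0x303) (.lf 0x96)) (.nd (.lf 0x65) (.lf 0)))) (.nd (.nd (.nd (.lf 0x4e3) (.lf 0x676)) (.nd (.lf 0x3b6) (.lf 0x9b))) (.nd (.nd (.lf 0x6d) (.lf 0x569)) (.nd (.lf 0x4b6) (.lf 0))))) (.nd (.nd (.nd (.nd (.lf 0x2) (.lf 0x6c5)) (.nd (.lf 0x6c) (.lf 0x534))) (.nd (.nd (.lf 0x368) (.lf 0x105)) (.nd (.lf 0x578) (.lf 0)))) (.nd (.nd (.nd (.lf 0x21b) (.lf 0x330)) (.nd (.lf 0x58) (.lf 0x1e8))) (.nd (.nd (.lf 0x21e) (.lf 0x612)) (.nd (.lf 0x3c5) (.lf 0)))))) (.nd (.nd (.nd (.nd (.nd (.lf 0x356) (.lf 0x252)) (.nd (.lf 0x375) (.lf 0x374))) (.nd (.nd (.lf 0x275) (.lf 0x34d)) (.nd (.lf 0x5bd) (.lf 0)))) (.nd (.nd (.nd (.lf 0xac)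 (.lf 0x444)) (.nd (.lf 0x1c5) (.lf 0x484))) (.nd (.nd (.lf 0x5a5) (.lf 0x6b)) (.nd (.lf 0x4fc) (.lf 0))))) (.nd (.nd (.nd (.nd (.lf 0x89) (.lf 0x198)) (.nd (.lf 0x3c0) (.lf 0x25e))) (.nd (.nd (.lf 0x259) (.lf 0x55c)) (.nd (.lf 0x62) (.lf 0)))) (.nd (.nd (.nd (.lf 0x6d0) (.lf 0x65b)) (.nd (.lf 0x424) (.lf 0))) (.nd (.nd (.lf 0x6ac) (.lf 0x6d5)) (.nd (.lf 0xf8) (.lf 0)))))))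
def srtA_nabbbb : Tr := (.nd (.nd (.nd (.nd (.nd (.nd (.lf 0x57f) (.lf 0x210)) (.nd (.lf 0x157) (.lf 0xdc))) (.nd (.nd (.lf 0x4c4) (.lf 0x36e)) (.nd (.lf 0x64d) (.lf 0)))) (.nd (.nd (.nd (.lf 0x20f) (.lf 0x6a4)) (.nd (.lf 0x68a) (.lf 0x140))) (.nd (.nd (.lf 0x396) (.lf 0x281)) (.nd (.lf 0x4f5) (.lf 0))))) (.nd (.nd (.nd (.nd (.lf 0x625) (.lf 0x31f)) (.nd (.lf 0x59e) (.lf 0x328))) (.nd (.nd (.lf 0x208) (.lf 0x298)) (.nd (.lf 0x4ed) (.lf 0)))) (.nd (.nd (.nd (.lf 0x114) (.lf 0x649)) (.nd (.lf 0x1f6) (.lf 0))) (.nd (.nd (.lf 0x22a) (.lf 0x24d)) (.nd (.lf 0x1d6) (.lf 0)))))) (.nd (.nd (.nd (.nd (.nd (.lf 0x17e) (.lf 0x1b3)) (.nd (.lf 0x6bc) (.lf 0x16c))) (.nd (.nd (.lf 0x27c) (.lf 0x560)) (.nd (.lf 0x4af) (.lf 0)))) (.nd (.nd (.nd (.lf 0x54f)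 (.lf 0x549)) (.nd (.lf 0x2d) (.lf 0x14a))) (.nd (.nd (.lf 0x425) (.lf 0x2d8)) (.nd (.lf 0xf0) (.lf 0))))) (.nd (.nd (.nd (.nd (.lf 0x554) (.lf 0xad)) (.nd (.lf 0xd9) (.lf 0x187))) (.nd (.nd (.lf 0x103) (.lf 0x3bb)) (.nd (.lf 0x54d) (.lf 0)))) (.nd (.nd (.nd (.lf 0x6e) (.lf 0x45f)) (.nd (.lf 0x4e6) (.lf 0))) (.nd (.nd (.lf 0x6c6) (.lf 0x2e9)) (.nd (.lf 0x60a) (.lf 0)))))))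
def srtA_nbaaaa : Tr := (.nd (.nd (.nd (.nd (.nd (.nd (.lf 0x520) (.lf 0x7e)) (.nd (.lf 0x6a2) (.lf 0x6da))) (.nd (.nd (.lf 0x6b2) (.lf 0x5bf)) (.nd (.lf 0x3e4) (.lf 0)))) (.nd (.nd (.nd (.lf 0x18a) (.lf 0x57b)) (.nd (.lf 0x581) (.lf 0x55e))) (.nd (.nd (.lf 0x6b6) (.lf 0x46d)) (.nd (.lf 0xe9) (.lf 0))))) (.nd (.nd (.nd (.nd (.lf 0x440) (.lf 0x4fb)) (.nd (.lf 0x120) (.lf 0x193))) (.nd (.nd (.lf 0x344) (.lf 0x3d3)) (.nd (.lf 0x1be) (.lf 0)))) (.nd (.nd (.nd (.lf 0x672) (.lf 0x2f4)) (.nd (.lf 0x5f1) (.lf 0x42c))) (.nd (.nd (.lf 0x179) (.lf 0x53)) (.nd (.lf 0x288) (.lf 0)))))) (.nd (.nd (.nd (.nd (.nd (.lf 0x4f9) (.lf 0x196)) (.nd (.lf 0x2a7) (.lf 0xdb))) (.nd (.nd (.lf 0x420) (.lf 0x1c6)) (.nd (.lf 0x628) (.lf 0)))) (.nd (.nd (.nd (.lf 0x63f)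 (.lf 0x504)) (.nd (.lf 0x9d) (.lf 0x146))) (.nd (.nd (.lf 0x518) (.lf 0x49b)) (.nd (.lf 0x38a) (.lf 0))))) (.nd (.nd (.nd (.nd (.lf 0x64f) (.lf 0x5e8)) (.nd (.lf 0x438) (.lf 0x123))) (.nd (.nd (.lf 0x57a) (.lf 0x2a9)) (.nd (.lf 0x125) (.lf 0)))) (.nd (.nd (.nd (.lf 0x3a7) (.lf 0x39e)) (.nd (.lf 0x501) (.lf 0))) (.nd (.nd (.lf 0x2bd) (.lf 0x691)) (.nd (.lf 0xe0) (.lf 0)))))))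
def srtA_nbaaab : Tr := (.nd (.nd (.nd (.nd (.nd (.nd (.lf 0x1ca) (.lf 0x4f3)) (.nd (.lf 0x71) (.lf 0x3a1))) (.nd (.nd (.lf 0x5d0) (.lf 0x18f)) (.nd (.lf 0x5ec) (.lf 0)))) (.nd (.nd (.nd (.lf 0x1f3) (.lf 0x1fb)) (.nd (.lf 0x2e5) (.lf 0x32b))) (.nd (.nd (.lf 0x2e0) (.lf 0x42b)) (.nd (.lf 0x66) (.lf 0))))) (.nd (.nd (.nd (.nd (.lf 0x25f) (.lf 0x256)) (.nd (.lf 0x75) (.lf 0x378))) (.nd (.nd (.lf 0x427) (.lf 0x48c)) (.nd (.lf 0x496) (.lf 0)))) (.nd (.nd (.nd (.lf 0x8d) (.lf 0x513)) (.nd (.lf 0x3ab) (.lf 0x31d))) (.nd (.nd (.lf 0x2cb) (.lf 0x524)) (.nd (.lf 0x60d) (.lf 0)))))) (.nd (.nd (.nd (.nd (.nd (.lf 0xdf) (.lf 0x5d1)) (.nd (.lf 0x457) (.lf 0x213))) (.nd (.nd (.lf 0x26) (.lf 0x4b4)) (.nd (.lf 0x65c) (.lf 0)))) (.nd (.nd (.nd (.lf 0x651)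 (.lf 0x2a0)) (.nd (.lf 0x2f1) (.lf 0x3ca))) (.nd (.nd (.lf 0x5a6) (.lf 0x663)) (.nd (.lf 0x5e5) (.lf 0))))) (.nd (.nd (.nd (.nd (.lf 0x166) (.lf 0x5fb)) (.nd (.lf 0xe3) (.lf 0x1b8))) (.nd (.nd (.lf 0x55) (.lf 0x3a3)) (.nd (.lf 0x5b7) (.lf 0)))) (.nd (.nd (.nd (.lf 0x1a3) (.lf 0x2d3)) (.nd (.lf 0x37d) (.lf 0))) (.nd (.nd (.lf 0x4a1) (.lf 0x64c)) (.nd (.lf 0x68b) (.lf 0)))))))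
def srtA_nbaaba : Tr := (.nd (.nd (.nd (.nd (.nd (.nd (.lf 0x1f4) (.lf 0x2df)) (.nd (.lf 0x2fc) (.lf 0x8b))) (.nd (.nd (.lf 0x3ed) (.lf 0x2f3)) (.nd (.lf 0x1c2) (.lf 0)))) (.nd (.nd (.nd (.lf 0x7b) (.lf 0x636)) (.nd (.lf 0x5ee) (.lf 0x2ff))) (.nd (.nd (.lf 0x6b9) (.lf 0x4f)) (.nd (.lf 0x5c9) (.lf 0))))) (.nd (.nd (.nd (.nd (.lf 0x12) (.lf 0x197)) (.nd (.lf 0x5c0) (.lf 0x138))) (.nd (.nd (.lf 0x287) (.lf 0x3d7)) (.nd (.lf 0x1bc) (.lf 0)))) (.nd (.nd (.nd (.lf 0x587) (.lf 0x2d1)) (.nd (.lf 0x31e) (.lf 0x2e8))) (.nd (.nd (.lf 0x40a) (.lf 0x62e)) (.nd (.lf 0x4b8) (.lf 0)))))) (.nd (.nd (.nd (.nd (.nd (.lf 0x11a) (.lf 0x35e)) (.nd (.lf 0x4bc) (.lf 0x369))) (.nd (.nd (.lf 0x94) (.lf 0x4b7)) (.nd (.lf 0x335) (.lf 0)))) (.nd (.nd (.nd (.lf 0x16b)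 (.lf 0x68)) (.nd (.lf 0x624) (.lf 0x35))) (.nd (.nd (.lf 0x342) (.lf 0xbd)) (.nd (.lf 0x108) (.lf 0))))) (.nd (.nd (.nd (.nd (.lf 0x5f7) (.lf 0x13b)) (.nd (.lf 0x2ec) (.lf 0x470))) (.nd (.nd (.lf 0x528) (.lf 0x54a)) (.nd (.lf 0x12a) (.lf 0)))) (.nd (.nd (.nd (.lf 0x575) (.lf 0x41e)) (.nd (.lf 0xed) (.lf 0))) (.nd (.nd (.lf 0x23b) (.lf 0x502)) (.nd (.lf 0x23) (.lf 0)))))))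
def srtA_nbaabb : Tr := (.nd (.nd (.nd (.nd (.nd (.nd (.lf 0xbf) (.lf 0x160)) (.nd (.lf 0x218) (.lf 0x37f))) (.nd (.nd (.lf 0x1cf) (.lf 0x15e)) (.nd (.lf 0x18c) (.lf 0)))) (.nd (.nd (.nd (.lf 0x590) (.lf 0x605)) (.nd (.lf 0x41) (.lf 0x55f))) (.nd (.nd (.lf 0x4cb) (.lf 0x4bd)) (.nd (.lf 0x28e) (.lf 0))))) (.nd (.nd (.nd (.nd (.lf 0x390) (.lf 0x102)) (.nd (.lf 0x126) (.lf 0x428))) (.nd (.nd (.lf 0x174) (.lf 0x60f)) (.nd (.lf 0x4b3) (.lf 0)))) (.nd (.nd (.nd (.lf 0x641) (.lf 0xf6)) (.nd (.lf 0x6bf) (.lf 0x1b9))) (.nd (.nd (.lf 0x176) (.lf 0x4ec)) (.nd (.lf 0x32d) (.lf 0)))))) (.nd (.nd (.nd (.nd (.nd (.lf 0xbb) (.lf 0x11)) (.nd (.lf 0x56a) (.lf 0x2a1))) (.nd (.nd (.lf 0x5cd) (.lf 0x34c)) (.nd (.lf 0x66d) (.lf 0)))) (.nd (.nd (.nd (.lf 0x3a5)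 (.lf 0x6aa)) (.nd (.lf 0x2b3) (.lf 0x64b))) (.nd (.nd (.lf 0x4b) (.lf 0x40)) (.nd (.lf 0x21f) (.lf 0))))) (.nd (.nd (.nd (.nd (.lf 0x4e0) (.lf 0x10d)) (.nd (.lf 0x1b0) (.lf 0x553))) (.nd (.nd (.lf 0x6b1) (.lf 0x2e6)) (.nd (.lf 0x29) (.lf 0)))) (.nd (.nd (.nd (.lf 0x28c) (.lf 0x6b0)) (.nd (.lf 0x433) (.lf 0))) (.nd (.nd (.lf 0x44d) (.lf 0x43f)) (.nd (.lf 0x558) (.lf 0)))))))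
def srtA_nbabaa : Tr := (.nd (.nd (.nd (.nd (.nd (.nd (.lf 0x3d4) (.lf 0x4d9)) (.nd (.lf 0xf9) (.lf 0x4a2))) (.nd (.nd (.lf 0x131) (.lf 0x29a)) (.nd (.lf 0x565) (.lf 0)))) (.nd (.nd (.nd (.lf 0x5f6) (.lf 0x5ac)) (.nd (.lf 0x55a) (.lf 0x3db))) (.nd (.nd (.lf 0x66a) (.lf 0x666)) (.nd (.lf 0x3b) (.lf 0))))) (.nd (.nd (.nd (.nd (.lf 0x6f) (.lf 0x4c3)) (.nd (.lf 0x1bd) (.lf 0x49f))) (.nd (.nd (.lf 0x679) (.lf 0x495)) (.nd (.lf 0x459) (.lf 0)))) (.nd (.nd (.nd (.lf 0x2b0) (.lf 0x386)) (.nd (.lf 0x4b1) (.lf 0x36))) (.nd (.nd (.lf 0x13a) (.lf 0x31b)) (.nd (.lf 0x68e) (.lf 0)))))) (.nd (.nd (.nd (.nd (.nd (.lf 0x17c) (.lf 0x56)) (.nd (.lf 0x606) (.lf 0x2d4))) (.nd (.nd (.lf 0x327) (.lf 0x5df)) (.nd (.lf 0x474) (.lf 0)))) (.nd (.nd (.nd (.lf 0x30a)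 (.lf 0x686)) (.nd (.lf 0x185) (.lf 0x99))) (.nd (.nd (.lf 0x17a) (.lf 0x383)) (.nd (.lf 0x19) (.lf 0))))) (.nd (.nd (.nd (.nd (.lf 0x8) (.lf 0x552)) (.nd (.lf 0x2ed) (.lf 0x6ca))) (.nd (.nd (.lf 0x42d) (.lf 0x3cc)) (.nd (.lf 0x635) (.lf 0)))) (.nd (.nd (.nd (.lf 0x5fa) (.lf 0x629)) (.nd (.lf 0xe) (.lf 0))) (.nd (.nd (.lf 0x639) (.lf 0x2cf)) (.nd (.lf 0x66e) (.lf 0)))))))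
def srtA_nbabab : Tr := (.nd (.nd (.nd (.nd (.nd (.nd (.lf 0x349) (.lf 0x527)) (.nd (.lf 0x3c4) (.lf 0x309))) (.nd (.nd (.lf 0x43d) (.lf 0x285)) (.nd (.lf 0x63d) (.lf 0)))) (.nd (.nd (.nd (.lf 0xd7) (.lf 0x478)) (.nd (.lf 0x51e) (.lf 0x3fe))) (.nd (.nd (.lf 0x41c) (.lf 0x3be)) (.nd (.lf 0x486) (.lf 0))))) (.nd (.nd (.nd (.nd (.lf 0x5fe) (.lf 0x129)) (.nd (.lf 0x262) (.lf 0x26c))) (.nd (.nd (.lf 0x27a) (.lf 0x4d6)) (.nd (.lf 0x1ff) (.lf 0)))) (.nd (.nd (.nd (.lf 0x6d9) (.lf 0x4c)) (.nd (.lf 0x1b5) (.lf 0x225))) (.nd (.nd (.lf 0x436) (.lf 0x1e4)) (.nd (.lf 0xd) (.lf 0)))))) (.nd (.nd (.nd (.nd (.nd (.lf 0x5f5) (.lf 0x445)) (.nd (.lf 0x182) (.lf 0x51d))) (.nd (.nd (.lf 0x391) (.lf 0x5db)) (.nd (.lf 0x62b) (.lf 0)))) (.nd (.nd (.nd (.lf 0x61d)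 (.lf 0x25)) (.nd (.lf 0x497) (.lf 0x447))) (.nd (.nd (.lf 0x681) (.lf 0x1d5)) (.nd (.lf 0x4f8) (.lf 0))))) (.nd (.nd (.nd (.nd (.lf 0x4a8) (.lf 0x10a)) (.nd (.lf 0x1c1) (.lf 0x5ce))) (.nd (.nd (.lf 0x41b) (.lf 0xaf)) (.nd (.lf 0x3d5) (.lf 0)))) (.nd (.nd (.nd (.lf 0x3bf) (.lf 0x2c3)) (.nd (.lf 0x439) (.lf 0))) (.nd (.nd (.lf 0x47d) (.lf 0x2bf)) (.nd (.lf 0x523) (.lf 0)))))))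
def srtA_nbabba : Tr := (.nd (.nd (.nd (.nd (.nd (.nd (.lf 0x9c) (.lf 0x2b2)) (.nd (.lf 0x366) (.lf 0x697))) (.nd (.nd (.lf 0x364) (.lf 0x3f1)) (.nd (.lf 0xfc) (.lf 0)))) (.nd (.nd (.nd (.lf 0x480) (.lf 0x44e)) (.nd (.lf 0x3af) (.lf 0x13e))) (.nd (.nd (.lf 0x266) (.lf 0x461)) (.nd (.lf 0x165) (.lf 0))))) (.nd (.nd (.nd (.nd (.lf 0x11c) (.lf 0x168)) (.nd (.lf 0x70) (.lf 0x347))) (.nd (.nd (.lf 0x5e6) (.lf 0x100)) (.nd (.lf 0x35a) (.lf 0)))) (.nd (.nd (.nd (.lf 0x93) (.lf 0x597)) (.nd (.lf 0x169) (.lf 0x51))) (.nd (.nd (.lf 0x11e) (.lf 0x429)) (.nd (.lf 0x595) (.lf 0)))))) (.nd (.nd (.nd (.nd (.nd (.lf 0x491) (.lf 0x29b)) (.nd (.lf 0x538) (.lf 0x4d7))) (.nd (.nd (.lf 0x14c) (.lf 0x622)) (.nd (.lf 0x17f) (.lf 0)))) (.nd (.nd (.nd (.lf 0x18b)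 (.lf 0x379)) (.nd (.lf 0x64) (.lf 0x118))) (.nd (.nd (.lf 0x28b) (.lf 0x48f)) (.nd (.lf 0x113) (.lf 0))))) (.nd (.nd (.nd (.nd (.lf 0xd5) (.lf 0x646)) (.nd (.lf 0x219) (.lf 0x62a))) (.nd (.nd (.lf 0x222) (.lf 0xb)) (.nd (.lf 0x6ae) (.lf 0)))) (.nd (.nd (.nd (.lf 0x556) (.lf 0x134)) (.nd (.lf 0x6d4) (.lf 0))) (.nd (.nd (.lf 0x58e) (.lf 0x54e)) (.nd (.lf 0x245) (.lf 0)))))))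
def srtA_nbabbb : Tr := (.nd (.nd (.nd (.nd (.nd (.nd (.lf 0x693) (.lf 0x341)) (.nd (.lf 0x1b) (.lf 0x36b))) (.nd (.nd (.lf 0x79) (.lf 0x18d)) (.nd (.lf 0x20a) (.lf 0)))) (.nd (.nd (.nd (.lf 0x18) (.lf 0x543)) (.nd (.lf 0x24b) (.lf 0x621))) (.nd (.nd (.lf 0x6be) (.lf 0x30e)) (.nd (.lf 0x95) (.lf 0))))) (.nd (.nd (.nd (.nd (.lf 0x66b) (.lf 0xc7)) (.nd (.lf 0x26b) (.lf 0x3b1))) (.nd (.nd (.lf 0x24a) (.lf 0x1cc)) (.nd (.lf 0x4ab) (.lf 0)))) (.nd (.nd (.nd (.lf 0x5ed) (.lf 0x4fd)) (.nd (.lf 0x254) (.lf 0))) (.nd (.nd (.lf 0x6b3) (.lf 0x464)) (.nd (.lf 0x27f) (.lf 0)))))) (.nd (.nd (.nd (.nd (.nd (.lf 0x3fb) (.lf 0x8f)) (.nd (.lf 0x6ad) (.lf 0x148))) (.nd (.nd (.lf 0x200) (.lf 0x51b)) (.nd (.lf 0x253) (.lf 0)))) (.nd (.nd (.nd (.lf 0x6a5)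 (.lf 0x78)) (.nd (.lf 0x38d) (.lf 0x1fa))) (.nd (.nd (.lf 0x22c) (.lf 0x3f2)) (.nd (.lf 0x588) (.lf 0))))) (.nd (.nd (.nd (.nd (.lf 0x357) (.lf 0x302)) (.nd (.lf 0x3ba) (.lf 0x49d))) (.nd (.nd (.lf 0x525) (.lf 0xb1)) (.nd (.lf 0x3d6) (.lf 0)))) (.nd (.nd (.nd (.lf 0xc1) (.lf 0x32a)) (.nd (.lf 0x3dd) (.lf 0))) (.nd (.nd (.lf 0x34a) (.lf 0x132)) (.nd (.lf 0x191) (.lf 0)))))))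
def srtA_nbbaaa : Tr := (.nd (.nd (.nd (.nd (.nd (.nd (.lf 0x9e) (.lf 0x312)) (.nd (.lf 0x153) (.lf 0x52f))) (.nd (.nd (.lf 0x5e1) (.lf 0x4a3)) (.nd (.lf 0x4d1) (.lf 0)))) (.nd (.nd (.nd (.lf 0x67b) (.lf 0x677)) (.nd (.lf 0x4c6) (.lf 0x6cb))) (.nd (.nd (.lf 0x2ad) (.lf 0x1e2)) (.nd (.lf 0x45a) (.lf 0))))) (.nd (.nd (.nd (.nd (.lf 0x91) (.lf 0x2c7)) (.nd (.lf 0xc6) (.lf 0x35d))) (.nd (.nd (.lf 0x282) (.lf 0x46b)) (.nd (.lf 0x1d3) (.lf 0)))) (.nd (.nd (.nd (.lf 0xff) (.lf 0xc)) (.nd (.lf 0x61a) (.lf 0x4d))) (.nd (.nd (.lf 0x119) (.lf 0x566)) (.nd (.lf 0x5f) (.lf 0)))))) (.nd (.nd (.nd (.nd (.nd (.lf 0x589) (.lf 0x6b7)) (.nd (.lf 0xf3) (.lf 0x3f9))) (.nd (.nd (.lf 0x1ed) (.lf 0x695)) (.nd (.lf 0x568) (.lf 0)))) (.nd (.nd (.nd (.lf 0x3f6)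 (.lf 0x450)) (.nd (.lf 0x2ea) (.lf 0x6a8))) (.nd (.nd (.lf 0x453) (.lf 0x1ba)) (.nd (.lf 0xd4) (.lf 0))))) (.nd (.nd (.nd (.nd (.lf 0x90) (.lf 0x4aa)) (.nd (.lf 0x422) (.lf 0x60c))) (.nd (.nd (.lf 0x58a) (.lf 0x2b4)) (.nd (.lf 0x1f5) (.lf 0)))) (.nd (.nd (.nd (.lf 0x2f8) (.lf 0x1a)) (.nd (.lf 0x32c) (.lf 0))) (.nd (.nd (.lf 0x5f8) (.lf 0x1a8)) (.nd (.lf 0x354) (.lf 0)))))))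
def srtA_nbbaab : Tr := (.nd (.nd (.nd (.nd (.nd (.nd (.lf 0x6cf) (.lf 0x15d)) (.nd (.lf 0xcc) (.lf 0x648))) (.nd (.nd (.lf 0x37a) (.lf 0x2f0)) (.nd (.lf 0xa3) (.lf 0)))) (.nd (.nd (.nd (.lf 0x40b) (.lf 0x56e)) (.nd (.lf 0x6d8) (.lf 0x272))) (.nd (.nd (.lf 0x365) (.lf 0x22e)) (.nd (.lf 0x24f) (.lf 0))))) (.nd (.nd (.nd (.nd (.lf 0x221) (.lf 0x34f)) (.nd (.lf 0x63) (.lf 0x86))) (.nd (.nd (.lf 0x426) (.lf 0x4e5)) (.nd (.lf 0x6d6) (.lf 0)))) (.nd (.nd (.nd (.lf 0x5a9) (.lf 0x1e0)) (.nd (.lf 0x352) (.lf 0x2be))) (.nd (.nd (.lf 0x3cd) (.lf 0x2fd)) (.nd (.lf 0x2e) (.lf 0)))))) (.nd (.nd (.nd (.nd (.nd (.lf 0x66f) (.lf 0x62d)) (.nd (.lf 0x53d) (.lf 0x5a3))) (.nd (.nd (.lf 0x3ac) (.lf 0x1eb)) (.nd (.lf 0x511) (.lf 0)))) (.nd (.nd (.nd (.lf 0x2ac)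 (.lf 0x62c)) (.nd (.lf 0x2ca) (.lf 0x406))) (.nd (.nd (.lf 0x32f) (.lf 0x2aa)) (.nd (.lf 0x3) (.lf 0))))) (.nd (.nd (.nd (.nd (.lf 0xde) (.lf 0x66c)) (.nd (.lf 0x80) (.lf 0x33b))) (.nd (.nd (.lf 0x5b1) (.lf 0x519)) (.nd (.lf 0x1a9) (.lf 0)))) (.nd (.nd (.nd (.lf 0x417) (.lf 0xf7)) (.nd (.lf 0x46e) (.lf 0))) (.nd (.nd (.lf 0x550) (.lf 0x45b)) (.nd (.lf 0x647) (.lf 0)))))))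
def srtA_nbbaba : Tr := (.nd (.nd (.nd (.nd (.nd (.nd (.lf 0x596) (.lf 0x40c)) (.nd (.lf 0x26e) (.lf 0x50c))) (.nd (.nd (.lf 0x1b2) (.lf 0x331)) (.nd (.lf 0x159) (.lf 0)))) (.nd (.nd (.nd (.lf 0x139) (.lf 0x4c9)) (.nd (.lf 0x616) (.lf 0x571))) (.nd (.nd (.lf 0x5b3) (.lf 0x17)) (.nd (.lf 0x4a9) (.lf 0))))) (.nd (.nd (.nd (.nd (.lf 0x3a0) (.lf 0x2d0)) (.nd (.lf 0x271) (.lf 0x155))) (.nd (.nd (.lf 0x220) (.lf 0x178)) (.nd (.lf 0x29c) (.lf 0)))) (.nd (.nd (.nd (.lf 0x692) (.lf 0x1d7)) (.nd (.lf 0x1ec) (.lf 0x59))) (.nd (.nd (.lf 0x2d2) (.lf 0x627)) (.nd (.lf 0x530) (.lf 0)))))) (.nd (.nd (.nd (.nd (.nd (.lf 0x561) (.lf 0x3c9)) (.nd (.lf 0x660) (.lf 0x4c2))) (.nd (.nd (.lf 0x81) (.lf 0x268)) (.nd (.lf 0x1df) (.lf 0)))) (.nd (.nd (.nd (.lf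 0x4a0) (.lf 0x6ce)) (.nd (.lf 0x232) (.lf 0xb3))) (.nd (.nd (.lf 0x1ad) (.lf 0x300)) (.nd (.lf 0x4a5) (.lf 0))))) (.nd (.nd (.nd (.nd (.lf 0xb0) (.lf 0x4ac)) (.nd (.lf 0x4cd) (.lf 0x133))) (.nd (.nd (.lf 0x687) (.lf 0x492)) (.nd (.lf 0x2f2) (.lf 0)))) (.nd (.nd (.nd (.lf 0x4d0) (.lf 0x1d0)) (.nd (.lf 0x403) (.lf 0))) (.nd (.nd (.lf 0x38e) (.lf 0x46c)) (.nd (.lf 0x5a4) (.lf 0)))))))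
def srtA_nbbabb : Tr := (.nd (.nd (.nd (.nd (.nd (.nd (.lf 0x6) (.lf 0x4c1)) (.nd (.lf 0x286) (.lf 0x30f))) (.nd (.nd (.lf 0x490) (.lf 0x260)) (.nd (.lf 0x6b4) (.lf 0)))) (.nd (.nd (.nd (.lf 0x4f0) (.lf 0x618)) (.nd (.lf 0x61f) (.lf 0x267))) (.nd (.nd (.lf 0x400) (.lf 0x67e)) (.nd (.lf 0xcf) (.lf 0))))) (.nd (.nd (.nd (.nd (.lf 0xe2) (.lf 0x1f1)) (.nd (.lf 0x4f4) (.lf 0x6c4))) (.nd (.nd (.lf 0x228) (.lf 0x689)) (.nd (.lf 0x11b) (.lf 0)))) (.nd (.nd (.nd (.lf 0x88) (.lf 0x603)) (.nd (.lf 0xf) (.lf 0))) (.nd (.nd (.lf 0x31a) (.lf 0x358)) (.nd (.lf 0x274) (.lf 0)))))) (.nd (.nd (.nd (.nd (.nd (.lf 0x50a) (.lf 0x5c1)) (.nd (.lf 0x3e1) (.lf 0x577))) (.nd (.nd (.lf 0x53e) (.lf 0x47c)) (.nd (.lf 0xfe) (.lf 0)))) (.nd (.nd (.nd (.lf 0xdd) (.lf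 0x40f)) (.nd (.lf 0x462) (.lf 0x3a6))) (.nd (.nd (.lf 0x2f6) (.lf 0x265)) (.nd (.lf 0x522) (.lf 0))))) (.nd (.nd (.nd (.nd (.lf 0x435) (.lf 0xba)) (.nd (.lf 0x6d7) (.lf 0x4b0))) (.nd (.nd (.lf 0x63e) (.lf 0x63c)) (.nd (.lf 0x645) (.lf 0)))) (.nd (.nd (.nd (.lf 0x614) (.lf 0x35b)) (.nd (.lf 0x195) (.lf 0))) (.nd (.nd (.lf 0x11f) (.lf 0x322)) (.nd (.lf 0x1af) (.lf 0)))))))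
def srtA_nbbbaa : Tr := (.nd (.nd (.nd (.nd (.nd (.nd (.lf 0x338) (.lf 0x4d8)) (.nd (.lf 0xa4) (.lf 0x39d))) (.nd (.nd (.lf 0x61c) (.lf 0x3b5)) (.nd (.lf 0x142) (.lf 0)))) (.nd (.nd (.nd (.lf 0x652) (.lf 0x2a3)) (.nd (.lf 0x4e2) (.lf 0xa1))) (.nd (.nd (.lf 0x688) (.lf 0x345)) (.nd (.lf 0x3a8) (.lf 0))))) (.nd (.nd (.nd (.nd (.lf 0x5eb) (.lf 0x593)) (.nd (.lf 0x320) (.lf 0x50d))) (.nd (.nd (.lf 0x58c) (.lf 0x29f)) (.nd (.lf 0xc0) (.lf 0)))) (.nd (.nd (.nd (.lf 0x4a) (.lf 0x20d)) (.nd (.lf 0x5e) (.lf 0x314))) (.nd (.nd (.lf 0x2da) (.lf 0x694)) (.nd (.lf 0x579) (.lf 0)))))) (.nd (.nd (.nd (.nd (.nd (.lf 0x295) (.lf 0x264)) (.nd (.lf 0x2b1) (.lf 0x3c2))) (.nd (.nd (.lf 0x399) (.lf 0x5c)) (.nd (.lf 0x683) (.lf 0)))) (.nd (.nd (.nd (.lf 0x239)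 (.lf 0x3f)) (.nd (.lf 0x6d1) (.lf 0x137))) (.nd (.nd (.lf 0x667) (.lf 0x32e)) (.nd (.lf 0x59f) (.lf 0))))) (.nd (.nd (.nd (.nd (.lf 0x5fd) (.lf 0x4d4)) (.nd (.lf 0x241) (.lf 0x156))) (.nd (.nd (.lf 0x3e9) (.lf 0x684)) (.nd (.lf 0x592) (.lf 0)))) (.nd (.nd (.nd (.lf 0x600) (.lf 0x180)) (.nd (.lf 0x69b) (.lf 0))) (.nd (.nd (.lf 0x24e) (.lf 0xa7)) (.nd (.lf 0x3ef) (.lf 0)))))))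
def srtA_nbbbab : Tr := (.nd (.nd (.nd (.nd (.nd (.nd (.lf 0x19a) (.lf 0x2c0)) (.nd (.lf 0x493) (.lf 0x3ad))) (.nd (.nd (.lf 0x217) (.lf 0x3f5)) (.nd (.lf 0xe8) (.lf 0)))) (.nd (.nd (.nd (.lf 0x276) (.lf 0x53f)) (.nd (.lf 0x362) (.lf 0x421))) (.nd (.nd (.lf 0x2eb) (.lf 0x5be)) (.nd (.lf 0x5ef) (.lf 0))))) (.nd (.nd (.nd (.nd (.lf 0x2e1) (.lf 0x37b)) (.nd (.lf 0x471) (.lf 0x56f))) (.nd (.nd (.lf 0x6b8) (.lf 0x1ae)) (.nd (.lf 0x661) (.lf 0)))) (.nd (.nd (.nd (.lf 0x388) (.lf 0x576)) (.nd (.lf 0x3bc) (.lf 0x3ae))) (.nd (.nd (.lf 0x332) (.lf 0x482)) (.nd (.lf 0x617) (.lf 0)))))) (.nd (.nd (.nd (.nd (.nd (.lf 0x21d) (.lf 0x1e3)) (.nd (.lf 0x1d8) (.lf 0x643))) (.nd (.nd (.lf 0x47) (.lf 0x279)) (.nd (.lf 0x373) (.lf 0)))) (.nd (.nd (.nd (.lf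 0x4cc) (.lf 0x122)) (.nd (.lf 0x1d2) (.lf 0x468))) (.nd (.nd (.lf 0x42) (.lf 0x5da)) (.nd (.lf 0x4e7) (.lf 0))))) (.nd (.nd (.nd (.nd (.lf 0x6a6) (.lf 0x130)) (.nd (.lf 0xa8) (.lf 0x6b5))) (.nd (.nd (.lf 0x21) (.lf 0x255)) (.nd (.lf 0x6a9) (.lf 0)))) (.nd (.nd (.nd (.lf 0x49c) (.lf 0x104)) (.nd (.lf 0x2a2) (.lf 0))) (.nd (.nd (.lf 0x1e) (.lf 0xc4)) (.nd (.lf 0x2af) (.lf 0)))))))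
def srtA_nbbbba : Tr := (.nd (.nd (.nd (.nd (.nd (.nd (.lf 0x371) (.lf 0x1ce)) (.nd (.lf 0xb2) (.lf 0x456))) (.nd (.nd (.lf 0x4c8) (.lf 0x599)) (.nd (.lf 0x2fe) (.lf 0)))) (.nd (.nd (.nd (.lf 0x204) (.lf 0x37c)) (.nd (.lf 0x47b) (.lf 0x370))) (.nd (.nd (.lf 0x458) (.lf 0x398)) (.nd (.lf 0x48e) (.lf 0))))) (.nd (.nd (.nd (.nd (.lf 0x1fd) (.lf 0xaa)) (.nd (.lf 0x3e7) (.lf 0x6c9))) (.nd (.nd (.lf 0x14) (.lf 0x149)) (.nd (.lf 0x1fc) (.lf 0)))) (.nd (.nd (.nd (.lf 0x372) (.lf 0x1a1)) (.nd (.lf 0x329) (.lf 0x4d5))) (.nd (.nd (.lf 0x67f) (.lf 0x231)) (.nd (.lf 0x540) (.lf 0)))))) (.nd (.nd (.nd (.nd (.nd (.lf 0x413) (.lf 0x3ea)) (.nd (.lf 0x418) (.lf 0x20e))) (.nd (.nd (.lf 0x251) (.lf 0x1f7)) (.nd (.lf 0x452) (.lf 0)))) (.nd (.nd (.nd (.lf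 0x355) (.lf 0x12e)) (.nd (.lf 0x472) (.lf 0x67c))) (.nd (.nd (.lf 0x1a6) (.lf 0x5de)) (.nd (.lf 0x44b) (.lf 0))))) (.nd (.nd (.nd (.nd (.lf 0x6cd) (.lf 0x348)) (.nd (.lf 0x150) (.lf 0x52d))) (.nd (.nd (.lf 0x30b) (.lf 0x43c)) (.nd (.lf 0x20c) (.lf 0)))) (.nd (.nd (.nd (.lf 0x3b7) (.lf 0x4cf)) (.nd (.lf 0x582) (.lf 0))) (.nd (.nd (.lf 0x65a) (.lf 0x423)) (.nd (.lf 0x33f) (.lf 0)))))))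
def srtA_nbbbbb : Tr := (.nd (.nd (.nd (.nd (.nd (.nd (.lf 0xca) (.lf 0x247)) (.nd (.lf 0x226) (.lf 0x41f))) (.nd (.nd (.lf 0x377) (.lf 0x5d4)) (.nd (.lf 0x512) (.lf 0)))) (.nd (.nd (.nd (.lf 0xd8) (.lf 0x47e)) (.nd (.lf 0x184) (.lf 0x61b))) (.nd (.nd (.lf 0x466) (.lf 0x443)) (.nd (.lf 0xbc) (.lf 0))))) (.nd (.nd (.nd (.nd (.lf 0x3c7) (.lf 0x6a7)) (.nd (.lf 0x409) (.lf 0x38c))) (.nd (.nd (.lf 0x293) (.lf 0x1b4)) (.nd (.lf 0x506) (.lf 0)))) (.nd (.nd (.nd (.lf 0x696) (.lf 0x392)) (.nd (.lf 0x5ff) (.lf 0))) (.nd (.nd (.lf 0x532) (.lf 0x431)) (.nd (.lf 0x315) (.lf 0)))))) (.nd (.nd (.nd (.nd (.nd (.lf 0x48d) (.lf 0x6c1)) (.nd (.lf 0x350) (.lf 0x460))) (.nd (.nd (.lf 0x24) (.lf 0x12b)) (.nd (.lf 0x5d8) (.lf 0)))) (.nd (.nd (.nd (.lf 0x32)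 (.lf 0x3f3)) (.nd (.lf 0x56b) (.lf 0x18e))) (.nd (.nd (.lf 0xe7) (.lf 0x227)) (.nd (.lf 0x33c) (.lf 0))))) (.nd (.nd (.nd (.nd (.lf 0x5b) (.lf 0x163)) (.nd (.lf 0x658) (.lf 0x389))) (.nd (.nd (.lf 0x4dc) (.lf 0x52e)) (.nd (.lf 0x10c) (.lf 0)))) (.nd (.nd (.nd (.lf 0x536) (.lf 0x33e)) (.nd (.lf 0x3e2) (.lf 0))) (.nd (.nd (.lf 0x59d) (.lf 0x3d2)) (.nd (.lf 0x583) (.lf 0)))))))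
def srtA : Tr := (.nd (.nd (.nd (.nd (.nd srtA_naaaaa srtA_naaaab) (.nd srtA_naaaba srtA_naaabb)) (.nd (.nd srtA_naabaa srtA_naabab) (.nd srtA_naabba srtA_naabbb))) (.nd (.nd (.nd srtA_nabaaa srtA_nabaab) (.nd srtA_nababa srtA_nababb)) (.nd (.nd srtA_nabbaa srtA_nabbab) (.nd srtA_nabbba srtA_nabbbb)))) (.nd (.nd (.nd (.nd srtA_nbaaaa srtA_nbaaab) (.nd srtA_nbaaba srtA_nbaabb)) (.nd (.nd srtA_nbabaa srtA_nbabab) (.nd srtA_nbabba srtA_nbabbb))) (.nd (.nd (.nd srtA_nbbaaa srtA_nbbaab) (.nd srtA_nbbaba srtA_nbbabb)) (.nd (.nd srtA_nbbbaa srtA_nbbbab) (.nd srtA_nbbbba srtA_nbbbbb)))))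
def parA_naaaaa : Tr := (.nd (.nd (.nd (.nd (.nd (.nd (.lf 0x0) (.lf 0x11b9)) (.nd (.lf 0xbc) (.lf 0x136e))) (.nd (.nd (.lf 0x2058) (.lf 0x268)) (.nd (.lf 0x1132) (.lf 0)))) (.nd (.nd (.nd (.lf 0x202a) (.lf 0x1210)) (.nd (.lf 0xf2) (.lf 0x2455))) (.nd (.nd (.lf 0x2088) (.lf 0x12e1)) (.nd (.lf 0x172) (.lf 0))))) (.nd (.nd (.nd (.nd (.lf 0x15) (.lf 0x11e6)) (.nd (.lf 0x20d6) (.lf 0x3e6))) (.nd (.nd (.lf 0x1071) (.lf 0x12a3)) (.nd (.lf 0x2150) (.lf 0)))) (.nd (.nd (.nd (.lf 0x1041) (.lf 0x2241)) (.nd (.lf 0x112) (.lf 0x1533))) (.nd (.nd (.lf 0x20a1) (.lf 0x322)) (.nd (.lf 0x1197) (.lf 0)))))) (.nd (.nd (.nd (.nd (.nd (.lf 0x100a) (.lf 0x1d0)) (.nd (.lf 0x10c8) (.lf 0x13a6))) (.nd (.nd (.lf 0x65) (.lf 0x282)) (.nd (.lf 0x2141) (.lf 0))))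 (.nd (.nd (.nd (.lf 0x1036) (.lf 0x122b)) (.nd (.lf 0x1102) (.lf 0x4bc))) (.nd (.nd (.lf 0x95) (.lf 0x302)) (.nd (.lf 0x186) (.lf 0))))) (.nd (.nd (.nd (.nd (.lf 0x201f) (.lf 0x1fa)) (.nd (.lf 0xe4) (.lf 0x141b))) (.nd (.nd (.lf 0x107c) (.lf 0x12c3)) (.nd (.lf 0x2160) (.lf 0)))) (.nd (.nd (.nd (.lf 0x4d) (.lf 0x256)) (.nd (.lf 0x122) (.lf 0))) (.nd (.nd (.lf 0xae) (.lf 0x342)) (.nd (.lf 0x1aa) (.lf 0)))))))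
def parA_naaaab : Tr := (.nd (.nd (.nd (.nd (.nd (.nd (.lf 0x5) (.lf 0x1c6)) (.nd (.lf 0xc2) (.lf 0x391))) (.nd (.nd (.lf 0x5f) (.lf 0x1277)) (.nd (.lf 0x2139) (.lf 0)))) (.nd (.nd (.nd (.lf 0x2030) (.lf 0x221a)) (.nd (.lf 0xfb) (.lf 0x486))) (.nd (.nd (.lf 0x8f) (.lf 0x2ec)) (.nd (.lf 0x217c) (.lf 0))))) (.nd (.nd (.nd (.nd (.lf 0x101a) (.lf 0x21f0)) (.nd (.lf 0x20dd) (.lf 0x13ff))) (.nd (.nd (.lf 0x2076) (.lf 0x2b5)) (.nd (.lf 0x2158) (.lf 0)))) (.nd (.nd (.nd (.lf 0x1047) (.lf 0x124c)) (.nd (.lf 0x11b) (.lf 0x15a0))) (.nd (.nd (.lf 0x20a7) (.lf 0x32e)) (.nd (.lf 0x11a1) (.lf 0)))))) (.nd (.nd (.nd (.nd (.nd (.lf 0x200f) (.lf 0x1db)) (.nd (.lf 0xd0) (.lf 0x23c1))) (.nd (.nd (.lf 0x106b) (.lf 0x2294)) (.nd (.lf 0x2149) (.lf 0)))) (.nd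 (.nd (.nd (.lf 0x203b) (.lf 0x1236)) (.nd (.lf 0x210a) (.lf 0x24f8))) (.nd (.nd (.lf 0x9b) (.lf 0x1311)) (.nd (.lf 0x118f) (.lf 0))))) (.nd (.nd (.nd (.nd (.lf 0x25) (.lf 0x205)) (.nd (.lf 0x10ec) (.lf 0x431))) (.nd (.nd (.lf 0x1082) (.lf 0x12d4)) (.nd (.lf 0x2168) (.lf 0)))) (.nd (.nd (.nd (.lf 0x1052) (.lf 0x25f)) (.nd (.lf 0x1129) (.lf 0))) (.nd (.nd (.lf 0xb6) (.lf 0x135a)) (.nd (.lf 0x21b0) (.lf 0)))))))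
def parA_naaaba : Tr := (.nd (.nd (.nd (.nd (.nd (.nd (.lf 0x1002) (.lf 0x21bd)) (.nd (.lf 0x10bf) (.lf 0x2385))) (.nd (.nd (.lf 0x205b) (.lf 0x1270)) (.nd (.lf 0x2135) (.lf 0)))) (.nd (.nd (.nd (.lf 0x2e) (.lf 0x215)) (.nd (.lf 0x20f6) (.lf 0x46e))) (.nd (.nd (.lf 0x108b) (.lf 0x12e7)) (.nd (.lf 0x176) (.lf 0))))) (.nd (.nd (.nd (.nd (.lf 0x2017) (.lf 0x21ea)) (.nd (.lf 0xda) (.lf 0x13f0))) (.nd (.nd (.lf 0x74) (.lf 0x2a9)) (.nd (.lf 0x1154) (.lf 0)))) (.nd (.nd (.nd (.lf 0x1044) (.lf 0x2245)) (.nd (.lf 0x1116) (.lf 0x2555))) (.nd (.nd (.lf 0x10a4) (.lf 0x2327)) (.nd (.lf 0x219d) (.lf 0)))))) (.nd (.nd (.nd (.nd (.nd (.lf 0xd) (.lf 0x1d7)) (.nd (.lf 0x10cd) (.lf 0x13b6))) (.nd (.nd (.lf 0x68) (.lf 0x289)) (.nd (.lf 0x145) (.lf 0))))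 (.nd (.nd (.nd (.lf 0x39) (.lf 0x2231)) (.nd (.lf 0x1106) (.lf 0x4d1))) (.nd (.nd (.lf 0x2097) (.lf 0x30a)) (.nd (.lf 0x118a) (.lf 0))))) (.nd (.nd (.nd (.nd (.lf 0x1022) (.lf 0x11ff)) (.nd (.lf 0x10e7) (.lf 0x429))) (.nd (.nd (.lf 0x7f) (.lf 0x2cb)) (.nd (.lf 0x165) (.lf 0)))) (.nd (.nd (.nd (.lf 0x204f) (.lf 0x225a)) (.nd (.lf 0x125) (.lf 0))) (.nd (.nd (.lf 0xb2) (.lf 0x34f)) (.nd (.lf 0x21ad) (.lf 0)))))))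
def parA_naaabb : Tr := (.nd (.nd (.nd (.nd (.nd (.nd (.lf 0x2007) (.lf 0x1cb)) (.nd (.lf 0x10c5) (.lf 0x39a))) (.nd (.nd (.lf 0x62) (.lf 0x127e)) (.nd (.lf 0x213c) (.lf 0)))) (.nd (.nd (.nd (.lf 0x2033) (.lf 0x2222)) (.nd (.lf 0xff) (.lf 0x24a6))) (.nd (.nd (.lf 0x2091) (.lf 0x22fa)) (.nd (.lf 0x1182) (.lf 0))))) (.nd (.nd (.nd (.nd (.lf 0x1d) (.lf 0x11f5)) (.nd (.lf 0xe1) (.lf 0x40e))) (.nd (.nd (.lf 0x2079) (.lf 0x12ba)) (.nd (.lf 0x15d) (.lf 0)))) (.nd (.nd (.nd (.lf 0x4a) (.lf 0x224f)) (.nd (.lf 0x111e) (.lf 0x264a))) (.nd (.nd (.lf 0x10aa) (.lf 0x133b)) (.nd (.lf 0x11a5) (.lf 0)))))) (.nd (.nd (.nd (.nd (.nd (.lf 0x1012) (.lf 0x11e1)) (.nd (.lf 0xd3) (.lf 0x3d8))) (.nd (.nd (.lf 0x106e) (.lf 0x229b)) (.nd (.lf 0x114d) (.lf 0))))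 (.nd (.nd (.nd (.lf 0x203e) (.lf 0x223b)) (.nd (.lf 0x210d) (.lf 0x150c))) (.nd (.nd (.lf 0x209d) (.lf 0x318)) (.nd (.lf 0x193) (.lf 0))))) (.nd (.nd (.nd (.nd (.lf 0x2027) (.lf 0x20a)) (.nd (.lf 0x10ef) (.lf 0x2443))) (.nd (.nd (.lf 0x86) (.lf 0x12db)) (.nd (.lf 0x216d) (.lf 0)))) (.nd (.nd (.nd (.lf 0x56) (.lf 0x2263)) (.nd (.lf 0x12d) (.lf 0))) (.nd (.nd (.lf 0xb9) (.lf 0x1363)) (.nd (.lf 0x11b4) (.lf 0)))))))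
def parA_naabaa : Tr := (.nd (.nd (.nd (.nd (.nd (.nd (.lf 0x1) (.lf 0x1bc)) (.nd (.lf 0xbe) (.lf 0x376))) (.nd (.nd (.lf 0x5a) (.lf 0x226a)) (.nd (.lf 0x134) (.lf 0)))) (.nd (.nd (.nd (.lf 0x102c) (.lf 0x1213)) (.nd (.lf 0x10f4) (.lf 0x1462))) (.nd (.nd (.lf 0x8a) (.lf 0x12e5)) (.nd (.lf 0x174) (.lf 0))))) (.nd (.nd (.nd (.nd (.lf 0x1016) (.lf 0x11e8)) (.nd (.lf 0xd8) (.lf 0x3eb))) (.nd (.nd (.lf 0x2072) (.lf 0x2a6)) (.nd (.lf 0x2152) (.lf 0)))) (.nd (.nd (.nd (.lf 0x43) (.lf 0x1244)) (.nd (.lf 0x2114) (.lf 0x2542))) (.nd (.nd (.lf 0xa3) (.lf 0x1325)) (.nd (.lf 0x119a) (.lf 0)))))) (.nd (.nd (.nd (.nd (.nd (.lf 0x200b) (.lf 0x21d2)) (.nd (.lf 0xcb) (.lf 0x13ad))) (.nd (.nd (.lf 0x1066) (.lf 0x286)) (.nd (.lf 0x1143) (.lf 0)))) (.nd (.nd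 (.nd (.lf 0x2037) (.lf 0x22e)) (.nd (.lf 0x105) (.lf 0x14c4))) (.nd (.nd (.lf 0x1096) (.lf 0x306)) (.nd (.lf 0x188) (.lf 0))))) (.nd (.nd (.nd (.nd (.lf 0x21) (.lf 0x21fc)) (.nd (.lf 0xe6) (.lf 0x421))) (.nd (.nd (.lf 0x207d) (.lf 0x12c5)) (.nd (.lf 0x1163) (.lf 0)))) (.nd (.nd (.nd (.lf 0x104e) (.lf 0x1259)) (.nd (.lf 0x1123) (.lf 0))) (.nd (.nd (.lf 0x20af) (.lf 0x2348)) (.nd (.lf 0x1ac) (.lf 0)))))))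
def parA_naabab : Tr := (.nd (.nd (.nd (.nd (.nd (.nd (.lf 0x1006) (.lf 0x21c7)) (.nd (.lf 0xc4) (.lf 0x1397))) (.nd (.nd (.lf 0x2060) (.lf 0x227a)) (.nd (.lf 0x113b) (.lf 0)))) (.nd (.nd (.nd (.lf 0x1032) (.lf 0x21e)) (.nd (.lf 0xfd) (.lf 0x2499))) (.nd (.nd (.lf 0x1090) (.lf 0x22f0)) (.nd (.lf 0x117e) (.lf 0))))) (.nd (.nd (.nd (.nd (.lf 0x201b) (.lf 0x11f3)) (.nd (.lf 0xdf) (.lf 0x407))) (.nd (.nd (.lf 0x1078) (.lf 0x12b7)) (.nd (.lf 0x215a) (.lf 0)))) (.nd (.nd (.nd (.lf 0x2048) (.lf 0x224d)) (.nd (.lf 0x111c) (.lf 0x15c7))) (.nd (.nd (.lf 0xa9) (.lf 0x2333)) (.nd (.lf 0x1a3) (.lf 0)))))) (.nd (.nd (.nd (.nd (.nd (.lf 0x11) (.lf 0x1de)) (.nd (.lf 0x20d1) (.lf 0x23cd))) (.nd (.nd (.lf 0x6d) (.lf 0x1297)) (.nd (.lf 0x214b) (.lf 0))))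 (.nd (.nd (.nd (.lf 0x103d) (.lf 0x1238)) (.nd (.lf 0x110c) (.lf 0x2502))) (.nd (.nd (.lf 0x109c) (.lf 0x1314)) (.nd (.lf 0x191) (.lf 0))))) (.nd (.nd (.nd (.nd (.lf 0x1026) (.lf 0x2206)) (.nd (.lf 0xee) (.lf 0x436))) (.nd (.nd (.lf 0x2084) (.lf 0x12d7)) (.nd (.lf 0x16c) (.lf 0)))) (.nd (.nd (.nd (.lf 0x54) (.lf 0x261)) (.nd (.lf 0x112b) (.lf 0))) (.nd (.nd (.lf 0x20b7) (.lf 0x361)) (.nd (.lf 0x21b2) (.lf 0)))))))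
def parA_naabba : Tr := (.nd (.nd (.nd (.nd (.nd (.nd (.lf 0x2003) (.lf 0x11bf)) (.nd (.lf 0x20c0) (.lf 0x238c))) (.nd (.nd (.lf 0x205d) (.lf 0x273)) (.nd (.lf 0x2137) (.lf 0)))) (.nd (.nd (.nd (.lf 0x102f) (.lf 0x1218)) (.nd (.lf 0x10f8) (.lf 0x2478))) (.nd (.nd (.lf 0x108d) (.lf 0x12e9)) (.nd (.lf 0x117a) (.lf 0))))) (.nd (.nd (.nd (.nd (.lf 0x19) (.lf 0x11ee)) (.nd (.lf 0x10db) (.lf 0x13fa))) (.nd (.nd (.lf 0x1075) (.lf 0x12b0)) (.nd (.lf 0x1156) (.lf 0)))) (.nd (.nd (.nd (.lf 0x46) (.lf 0x1248)) (.nd (.lf 0x1118) (.lf 0x1588))) (.nd (.nd (.lf 0x20a5) (.lf 0x2329)) (.nd (.lf 0x119f) (.lf 0)))))) (.nd (.nd (.nd (.nd (.nd (.lf 0x100e) (.lf 0x21d8)) (.nd (.lf 0x20ce) (.lf 0x13bc))) (.nd (.nd (.lf 0x1069) (.lf 0x28e)) (.nd (.lf 0x2147)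 (.lf 0)))) (.nd (.nd (.nd (.lf 0x103a) (.lf 0x1234)) (.nd (.lf 0x1109) (.lf 0x4e1))) (.nd (.nd (.lf 0x2099) (.lf 0x230e)) (.nd (.lf 0x118d) (.lf 0))))) (.nd (.nd (.nd (.nd (.lf 0x2023) (.lf 0x1201)) (.nd (.lf 0x20e9) (.lf 0x42c))) (.nd (.nd (.lf 0x1080) (.lf 0x12d1)) (.nd (.lf 0x2166) (.lf 0)))) (.nd (.nd (.nd (.lf 0x51) (.lf 0x25d)) (.nd (.lf 0x1127) (.lf 0))) (.nd (.nd (.lf 0x20b3) (.lf 0x2354)) (.nd (.lf 0x11af) (.lf 0)))))))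
def parA_naabbb : Tr := (.nd (.nd (.nd (.nd (.nd (.nd (.lf 0x9) (.lf 0x1cd)) (.nd (.lf 0x20c6) (.lf 0x139f))) (.nd (.nd (.lf 0x1063) (.lf 0x1280)) (.nd (.lf 0x213f) (.lf 0)))) (.nd (.nd (.nd (.lf 0x35) (.lf 0x2225)) (.nd (.lf 0x1100) (.lf 0x24ae))) (.nd (.nd (.lf 0x2093) (.lf 0x1300)) (.nd (.lf 0x2184) (.lf 0))))) (.nd (.nd (.nd (.nd (.lf 0x101e) (.lf 0x11f7)) (.nd (.lf 0x20e2) (.lf 0x1416))) (.nd (.nd (.lf 0x7b) (.lf 0x12bf)) (.nd (.lf 0x215e) (.lf 0)))) (.nd (.nd (.nd (.lf 0x104b) (.lf 0x254)) (.nd (.lf 0x1120) (.lf 0))) (.nd (.nd (.lf 0xac) (.lf 0x33f)) (.nd (.lf 0x11a8) (.lf 0)))))) (.nd (.nd (.nd (.nd (.nd (.lf 0x2013) (.lf 0x11e4)) (.nd (.lf 0x20d4) (.lf 0x13df))) (.nd (.nd (.lf 0x70) (.lf 0x229f)) (.nd (.lf 0x14f) (.lf 0)))) (.nd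 (.nd (.nd (.lf 0x40) (.lf 0x223e)) (.nd (.lf 0x210f) (.lf 0x251a))) (.nd (.nd (.lf 0x10a0) (.lf 0x31e)) (.nd (.lf 0x195) (.lf 0))))) (.nd (.nd (.nd (.nd (.lf 0x1029) (.lf 0x220c)) (.nd (.lf 0x20f0) (.lf 0x44e))) (.nd (.nd (.lf 0x1087) (.lf 0x22dd)) (.nd (.lf 0x16f) (.lf 0)))) (.nd (.nd (.nd (.lf 0x1057) (.lf 0x1265)) (.nd (.lf 0x1130) (.lf 0))) (.nd (.nd (.lf 0x20ba) (.lf 0x1368)) (.nd (.lf 0x1b7) (.lf 0)))))))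
def parA_nabaaa : Tr := (.nd (.nd (.nd (.nd (.nd (.nd (.lf 0x1000) (.lf 0x1bb)) (.nd (.lf 0x20bc) (.lf 0x2370))) (.nd (.nd (.lf 0x1059) (.lf 0x26a)) (.nd (.lf 0x133) (.lf 0)))) (.nd (.nd (.nd (.lf 0x202b) (.lf 0x212)) (.nd (.lf 0x20f2) (.lf 0x245b))) (.nd (.nd (.lf 0x1089) (.lf 0x2e4)) (.nd (.lf 0x1173) (.lf 0))))) (.nd (.nd (.nd (.nd (.lf 0x2015) (.lf 0x1e7)) (.nd (.lf 0x10d7) (.lf 0x23e8))) (.nd (.nd (.lf 0x72) (.lf 0x2a5)) (.nd (.lf 0x2151) (.lf 0)))) (.nd (.nd (.nd (.lf 0x1042) (.lf 0x1243)) (.nd (.lf 0x113) (.lf 0x153a))) (.nd (.nd (.lf 0x10a2) (.lf 0x324)) (.nd (.lf 0x2199) (.lf 0)))))) (.nd (.nd (.nd (.nd (.nd (.lf 0xb) (.lf 0x21d1)) (.nd (.lf 0xca) (.lf 0x3ac))) (.nd (.nd (.lf 0x2065) (.lf 0x1284)) (.nd (.lf 0x1142) (.lf 0))))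 (.nd (.nd (.nd (.lf 0x37) (.lf 0x22c)) (.nd (.lf 0x2103) (.lf 0x14c2))) (.nd (.nd (.lf 0x2095) (.lf 0x2302)) (.nd (.lf 0x2186) (.lf 0))))) (.nd (.nd (.nd (.nd (.lf 0x1020) (.lf 0x1fb)) (.nd (.lf 0xe5) (.lf 0x241e))) (.nd (.nd (.lf 0x7d) (.lf 0x22c4)) (.nd (.lf 0x1161) (.lf 0)))) (.nd (.nd (.nd (.lf 0x204d) (.lf 0x1257)) (.nd (.lf 0x2122) (.lf 0))) (.nd (.nd (.lf 0xaf) (.lf 0x345)) (.nd (.lf 0x1ab) (.lf 0)))))))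
def parA_nabaab : Tr := (.nd (.nd (.nd (.nd (.nd (.nd (.lf 0x2005) (.lf 0x21c6)) (.nd (.lf 0x20c2) (.lf 0x2396))) (.nd (.nd (.lf 0x205f) (.lf 0x1279)) (.nd (.lf 0x113a) (.lf 0)))) (.nd (.nd (.nd (.lf 0x1031) (.lf 0x221b)) (.nd (.lf 0xfc) (.lf 0x1496))) (.nd (.nd (.lf 0x208f) (.lf 0x2ed)) (.nd (.lf 0x217d) (.lf 0))))) (.nd (.nd (.nd (.nd (.lf 0x1b) (.lf 0x11f2)) (.nd (.lf 0x10de) (.lf 0x1405))) (.nd (.nd (.lf 0x1077) (.lf 0x2b6)) (.nd (.lf 0x15a) (.lf 0)))) (.nd (.nd (.nd (.lf 0x48) (.lf 0x24d)) (.nd (.lf 0x211b) (.lf 0x25ad))) (.nd (.nd (.lf 0x10a8) (.lf 0x1331)) (.nd (.lf 0x11a2) (.lf 0)))))) (.nd (.nd (.nd (.nd (.nd (.lf 0x1010) (.lf 0x21dc)) (.nd (.lf 0xd1) (.lf 0x3c5))) (.nd (.nd (.lf 0x106c) (.lf 0x296)) (.nd (.lf 0x214a) (.lf 0))))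 (.nd (.nd (.nd (.lf 0x103c) (.lf 0x2237)) (.nd (.lf 0x110b) (.lf 0x24fe))) (.nd (.nd (.lf 0x209b) (.lf 0x312)) (.nd (.lf 0x190) (.lf 0))))) (.nd (.nd (.nd (.nd (.lf 0x2025) (.lf 0x206)) (.nd (.lf 0xed) (.lf 0x432))) (.nd (.nd (.lf 0x83) (.lf 0x22d5)) (.nd (.lf 0x216a) (.lf 0)))) (.nd (.nd (.nd (.lf 0x53) (.lf 0x225f)) (.nd (.lf 0x212a) (.lf 0))) (.nd (.nd (.lf 0x20b6) (.lf 0x135c)) (.nd (.lf 0x11b1) (.lf 0)))))))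
def parA_nababa : Tr := (.nd (.nd (.nd (.nd (.nd (.nd (.lf 0x3) (.lf 0x11be)) (.nd (.lf 0xc0) (.lf 0x389))) (.nd (.nd (.lf 0x205c) (.lf 0x2271)) (.nd (.lf 0x2136) (.lf 0)))) (.nd (.nd (.nd (.lf 0x202e) (.lf 0x1217)) (.nd (.lf 0x10f7) (.lf 0x471))) (.nd (.nd (.lf 0x208c) (.lf 0x12e8)) (.nd (.lf 0x2177) (.lf 0))))) (.nd (.nd (.nd (.nd (.lf 0x1018) (.lf 0x11ed)) (.nd (.lf 0x20da) (.lf 0x23f7))) (.nd (.nd (.lf 0x2074) (.lf 0x2ac)) (.nd (.lf 0x155) (.lf 0)))) (.nd (.nd (.nd (.lf 0x45) (.lf 0x247)) (.nd (.lf 0x2117) (.lf 0x568))) (.nd (.nd (.lf 0xa5) (.lf 0x1328)) (.nd (.lf 0x219e) (.lf 0)))))) (.nd (.nd (.nd (.nd (.nd (.lf 0x200d) (.lf 0x21d7)) (.nd (.lf 0xce) (.lf 0x23b8))) (.nd (.nd (.lf 0x2068) (.lf 0x28c)) (.nd (.lf 0x146) (.lf 0)))) (.nd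 (.nd (.nd (.lf 0x2039) (.lf 0x233)) (.nd (.lf 0x1108) (.lf 0x14d5))) (.nd (.nd (.lf 0x1098) (.lf 0x230d)) (.nd (.lf 0x18c) (.lf 0))))) (.nd (.nd (.nd (.nd (.lf 0x23) (.lf 0x200)) (.nd (.lf 0x20e8) (.lf 0x142a))) (.nd (.nd (.lf 0x207f) (.lf 0x12ce)) (.nd (.lf 0x2165) (.lf 0)))) (.nd (.nd (.nd (.lf 0x1050) (.lf 0x225b)) (.nd (.lf 0x1126) (.lf 0))) (.nd (.nd (.lf 0x20b2) (.lf 0x352)) (.nd (.lf 0x11ae) (.lf 0)))))))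
def parA_nababb : Tr := (.nd (.nd (.nd (.nd (.nd (.nd (.lf 0x1008) (.lf 0x21cb)) (.nd (.lf 0xc6) (.lf 0x39d))) (.nd (.nd (.lf 0x2062) (.lf 0x27f)) (.nd (.lf 0x13e) (.lf 0)))) (.nd (.nd (.nd (.lf 0x1034) (.lf 0x2224)) (.nd (.lf 0x20ff) (.lf 0x14ad))) (.nd (.nd (.lf 0x2092) (.lf 0x2ff)) (.nd (.lf 0x1183) (.lf 0))))) (.nd (.nd (.nd (.nd (.lf 0x201d) (.lf 0x1f6)) (.nd (.lf 0xe2) (.lf 0x414))) (.nd (.nd (.lf 0x107a) (.lf 0x12bc)) (.nd (.lf 0x15e) (.lf 0)))) (.nd (.nd (.nd (.lf 0x204a) (.lf 0x1252)) (.nd (.lf 0x111f) (.lf 0x26a2))) (.nd (.nd (.lf 0x10ab) (.lf 0x133d)) (.nd (.lf 0x1a7) (.lf 0)))))) (.nd (.nd (.nd (.nd (.nd (.lf 0x13) (.lf 0x21e2)) (.nd (.lf 0x20d3) (.lf 0x13dc))) (.nd (.nd (.lf 0x6f) (.lf 0x29e)) (.nd (.lf 0x14e) (.lf 0))))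 (.nd (.nd (.nd (.lf 0x103f) (.lf 0x223d)) (.nd (.lf 0x210e) (.lf 0x510))) (.nd (.nd (.lf 0x9f) (.lf 0x131c)) (.nd (.lf 0x1194) (.lf 0))))) (.nd (.nd (.nd (.nd (.lf 0x2028) (.lf 0x20b)) (.nd (.lf 0xf0) (.lf 0x2449))) (.nd (.nd (.lf 0x2086) (.lf 0x2dd)) (.nd (.lf 0x116e) (.lf 0)))) (.nd (.nd (.nd (.lf 0x2056) (.lf 0x2264)) (.nd (.lf 0x212e) (.lf 0))) (.nd (.nd (.lf 0xba) (.lf 0x2365)) (.nd (.lf 0x11b5) (.lf 0)))))))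
def parA_nabbaa : Tr := (.nd (.nd (.nd (.nd (.nd (.nd (.lf 0x2001) (.lf 0x21bc)) (.nd (.lf 0x20be) (.lf 0x137e))) (.nd (.nd (.lf 0x5b) (.lf 0x26d)) (.nd (.lf 0x2134) (.lf 0)))) (.nd (.nd (.nd (.lf 0x102d) (.lf 0x214)) (.nd (.lf 0xf6) (.lf 0x2467))) (.nd (.nd (.lf 0x208a) (.lf 0x2e6)) (.nd (.lf 0x2174) (.lf 0))))) (.nd (.nd (.nd (.nd (.lf 0x17) (.lf 0x11e9)) (.nd (.lf 0x20d8) (.lf 0x23ef))) (.nd (.nd (.lf 0x1073) (.lf 0x2a7)) (.nd (.lf 0x2153) (.lf 0)))) (.nd (.nd (.nd (.lf 0x2043) (.lf 0x245)) (.nd (.lf 0x1115) (.lf 0x254b))) (.nd (.nd (.lf 0x20a3) (.lf 0x326)) (.nd (.lf 0x219b) (.lf 0)))))) (.nd (.nd (.nd (.nd (.nd (.lf 0x100c) (.lf 0x11d3)) (.nd (.lf 0x20cc) (.lf 0x13ae))) (.nd (.nd (.lf 0x67) (.lf 0x2286)) (.nd (.lf 0x144) (.lf 0))))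 (.nd (.nd (.nd (.lf 0x1038) (.lf 0x222f)) (.nd (.lf 0x2105) (.lf 0x4ce))) (.nd (.nd (.lf 0x97) (.lf 0x308)) (.nd (.lf 0x2189) (.lf 0))))) (.nd (.nd (.nd (.nd (.lf 0x2021) (.lf 0x21fd)) (.nd (.lf 0x20e6) (.lf 0x2424))) (.nd (.nd (.lf 0x107e) (.lf 0x22c9)) (.nd (.lf 0x1164) (.lf 0)))) (.nd (.nd (.nd (.lf 0x4f) (.lf 0x25a)) (.nd (.lf 0x1124) (.lf 0))) (.nd (.nd (.lf 0xb1) (.lf 0x134e)) (.nd (.lf 0x1ad) (.lf 0)))))))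
def parA_nabbab : Tr := (.nd (.nd (.nd (.nd (.nd (.nd (.lf 0x7) (.lf 0x1ca)) (.nd (.lf 0x20c4) (.lf 0x399))) (.nd (.nd (.lf 0x1061) (.lf 0x227c)) (.nd (.lf 0x13c) (.lf 0)))) (.nd (.nd (.nd (.lf 0x33) (.lf 0x221f)) (.nd (.lf 0xfe) (.lf 0x149a))) (.nd (.nd (.lf 0x91) (.lf 0x12f2)) (.nd (.lf 0x217f) (.lf 0))))) (.nd (.nd (.nd (.nd (.lf 0x101c) (.lf 0x21f4)) (.nd (.lf 0x10e0) (.lf 0x140b))) (.nd (.nd (.lf 0x79) (.lf 0x2b9)) (.nd (.lf 0x15c) (.lf 0)))) (.nd (.nd (.nd (.lf 0x1049) (.lf 0x224e)) (.nd (.lf 0x11d) (.lf 0x635))) (.nd (.nd (.lf 0x20a9) (.lf 0x233a)) (.nd (.lf 0x11a4) (.lf 0)))))) (.nd (.nd (.nd (.nd (.nd (.lf 0x2011) (.lf 0x21df)) (.nd (.lf 0x10d2) (.lf 0x3d5))) (.nd (.nd (.lf 0x206d) (.lf 0x229a)) (.nd (.lf 0x114c) (.lf 0)))) (.nd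 (.nd (.nd (.lf 0x3e) (.lf 0x23a)) (.nd (.lf 0x10d) (.lf 0x506))) (.nd (.nd (.lf 0x9d) (.lf 0x1316)) (.nd (.lf 0x2191) (.lf 0))))) (.nd (.nd (.nd (.nd (.lf 0x27) (.lf 0x2207)) (.nd (.lf 0x20ee) (.lf 0x143d))) (.nd (.nd (.lf 0x1085) (.lf 0x2d9)) (.nd (.lf 0x216c) (.lf 0)))) (.nd (.nd (.nd (.lf 0x2054) (.lf 0x1262)) (.nd (.lf 0x12c) (.lf 0))) (.nd (.nd (.lf 0x10b8) (.lf 0x362)) (.nd (.lf 0x21b3) (.lf 0)))))))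
def parA_nabbba : Tr := (.nd (.nd (.nd (.nd (.nd (.nd (.lf 0x1004) (.lf 0x11c1)) (.nd (.lf 0x10c1) (.lf 0x238d))) (.nd (.nd (.lf 0x105e) (.lf 0x1276)) (.nd (.lf 0x2138) (.lf 0)))) (.nd (.nd (.nd (.lf 0x30) (.lf 0x1219)) (.nd (.lf 0x20f9) (.lf 0x47b))) (.nd (.nd (.lf 0x8e) (.lf 0x2eb)) (.nd (.lf 0x17b) (.lf 0))))) (.nd (.nd (.nd (.nd (.lf 0x2019) (.lf 0x21ef)) (.nd (.lf 0xdc) (.lf 0x3fc))) (.nd (.nd (.lf 0x76) (.lf 0x12b2)) (.nd (.lf 0x2157) (.lf 0)))) (.nd (.nd (.nd (.lf 0x2046) (.lf 0x24b)) (.nd (.lf 0x11a) (.lf 0x1590))) (.nd (.nd (.lf 0x10a6) (.lf 0x32b)) (.nd (.lf 0x1a0) (.lf 0)))))) (.nd (.nd (.nd (.nd (.nd (.lf 0xf) (.lf 0x21d9)) (.nd (.lf 0x10cf) (.lf 0x13bf))) (.nd (.nd (.lf 0x6a) (.lf 0x2293)) (.nd (.lf 0x149) (.lf 0)))) (.nd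 (.nd (.nd (.lf 0x3b) (.lf 0x235)) (.nd (.lf 0x10a) (.lf 0x4e9))) (.nd (.nd (.lf 0x109a) (.lf 0x310)) (.nd (.lf 0x18e) (.lf 0))))) (.nd (.nd (.nd (.nd (.lf 0x1024) (.lf 0x2203)) (.nd (.lf 0x20eb) (.lf 0x42d))) (.nd (.nd (.lf 0x1081) (.lf 0x2d3)) (.nd (.lf 0x2167) (.lf 0)))) (.nd (.nd (.nd (.lf 0x2051) (.lf 0x125e)) (.nd (.lf 0x2128) (.lf 0))) (.nd (.nd (.lf 0xb5) (.lf 0x2357)) (.nd (.lf 0x1b0) (.lf 0)))))))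
def parA_nabbbb : Tr := (.nd (.nd (.nd (.nd (.nd (.nd (.lf 0x2009) (.lf 0x21cd)) (.nd (.lf 0x20c7) (.lf 0x3a3))) (.nd (.nd (.lf 0x64) (.lf 0x1281)) (.nd (.lf 0x1140) (.lf 0)))) (.nd (.nd (.nd (.lf 0x2035) (.lf 0x1228)) (.nd (.lf 0x2101) (.lf 0x24ba))) (.nd (.nd (.lf 0x1094) (.lf 0x301)) (.nd (.lf 0x1185) (.lf 0))))) (.nd (.nd (.nd (.nd (.lf 0x1f) (.lf 0x11f8)) (.nd (.lf 0x10e3) (.lf 0x2418))) (.nd (.nd (.lf 0x207b) (.lf 0x22c1)) (.nd (.lf 0x215f) (.lf 0)))) (.nd (.nd (.nd (.lf 0x4c) (.lf 0x2254)) (.nd (.lf 0x1121) (.lf 0))) (.nd (.nd (.lf 0xad) (.lf 0x1340)) (.nd (.lf 0x1a9) (.lf 0)))))) (.nd (.nd (.nd (.nd (.nd (.lf 0x1014) (.lf 0x21e5)) (.nd (.lf 0x10d5) (.lf 0x23e3))) (.nd (.nd (.lf 0x2070) (.lf 0x2a1)) (.nd (.lf 0x150) (.lf 0))))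 (.nd (.nd (.nd (.lf 0x2040) (.lf 0x240)) (.nd (.lf 0x111) (.lf 0x52b))) (.nd (.nd (.lf 0xa1) (.lf 0x1321)) (.nd (.lf 0x2196) (.lf 0))))) (.nd (.nd (.nd (.nd (.lf 0x2a) (.lf 0x120e)) (.nd (.lf 0x10f1) (.lf 0x450))) (.nd (.nd (.lf 0x88) (.lf 0x2e0)) (.nd (.lf 0x1171) (.lf 0)))) (.nd (.nd (.nd (.lf 0x58) (.lf 0x2266)) (.nd (.lf 0x1131) (.lf 0))) (.nd (.nd (.lf 0x10bb) (.lf 0x2369)) (.nd (.lf 0x1b8) (.lf 0)))))))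
def parA_nbaaaa : Tr := (.nd (.nd (.nd (.nd (.nd (.nd (.lf 0x0) (.lf 0x1ba)) (.nd (.lf 0x10bc) (.lf 0x1370))) (.nd (.nd (.lf 0x59) (.lf 0x269)) (.nd (.lf 0x2132) (.lf 0)))) (.nd (.nd (.nd (.lf 0x2b) (.lf 0x211)) (.nd (.lf 0x10f2) (.lf 0x145a))) (.nd (.nd (.lf 0x89) (.lf 0x2e3)) (.nd (.lf 0x173) (.lf 0))))) (.nd (.nd (.nd (.nd (.lf 0x1015) (.lf 0x21e6)) (.nd (.lf 0xd7) (.lf 0x13e8))) (.nd (.nd (.lf 0x2071) (.lf 0x22a3)) (.nd (.lf 0x1151) (.lf 0)))) (.nd (.nd (.nd (.lf 0x2041) (.lf 0x242)) (.nd (.lf 0x2112) (.lf 0x53a))) (.nd (.nd (.lf 0xa2) (.lf 0x1322)) (.nd (.lf 0x2197) (.lf 0)))))) (.nd (.nd (.nd (.nd (.nd (.lf 0x200a) (.lf 0x1d1)) (.nd (.lf 0x20c9) (.lf 0x23a6))) (.nd (.nd (.lf 0x1065) (.lf 0x283)) (.nd (.lf 0x142) (.lf 0)))) (.nd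 (.nd (.nd (.lf 0x2036) (.lf 0x222b)) (.nd (.lf 0x2102) (.lf 0x4bf))) (.nd (.nd (.lf 0x1095) (.lf 0x1302)) (.nd (.lf 0x1186) (.lf 0))))) (.nd (.nd (.nd (.nd (.lf 0x20) (.lf 0x21fa)) (.nd (.lf 0x20e4) (.lf 0x41c))) (.nd (.nd (.lf 0x207c) (.lf 0x12c4)) (.nd (.lf 0x161) (.lf 0)))) (.nd (.nd (.nd (.lf 0x104d) (.lf 0x257)) (.nd (.lf 0x1122) (.lf 0))) (.nd (.nd (.lf 0x20ae) (.lf 0x1344)) (.nd (.lf 0x21aa) (.lf 0)))))))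
def parA_nbaaab : Tr := (.nd (.nd (.nd (.nd (.nd (.nd (.lf 0x1005) (.lf 0x11c6)) (.nd (.lf 0x10c2) (.lf 0x1393))) (.nd (.nd (.lf 0x105f) (.lf 0x279)) (.nd (.lf 0x13a) (.lf 0)))) (.nd (.nd (.nd (.lf 0x31) (.lf 0x21b)) (.nd (.lf 0x20fb) (.lf 0x2486))) (.nd (.nd (.lf 0x108f) (.lf 0x12ec)) (.nd (.lf 0x117d) (.lf 0))))) (.nd (.nd (.nd (.nd (.lf 0x201a) (.lf 0x21f1)) (.nd (.lf 0xde) (.lf 0x405))) (.nd (.nd (.lf 0x77) (.lf 0x12b5)) (.nd (.lf 0x2159) (.lf 0)))) (.nd (.nd (.nd (.lf 0x2047) (.lf 0x224c)) (.nd (.lf 0x111b) (.lf 0x5a5))) (.nd (.nd (.lf 0xa8) (.lf 0x330)) (.nd (.lf 0x1a2) (.lf 0)))))) (.nd (.nd (.nd (.nd (.nd (.lf 0x10) (.lf 0x1dc)) (.nd (.lf 0x10d0) (.lf 0x13c3))) (.nd (.nd (.lf 0x206b) (.lf 0x295)) (.nd (.lf 0x14a) (.lf 0)))) (.nd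 (.nd (.nd (.lf 0x3c) (.lf 0x1237)) (.nd (.lf 0x10b) (.lf 0x14fa))) (.nd (.nd (.lf 0x109b) (.lf 0x2311)) (.nd (.lf 0x218f) (.lf 0))))) (.nd (.nd (.nd (.nd (.lf 0x1025) (.lf 0x1205)) (.nd (.lf 0x20ec) (.lf 0x2431))) (.nd (.nd (.lf 0x2082) (.lf 0x2d5)) (.nd (.lf 0x2169) (.lf 0)))) (.nd (.nd (.nd (.lf 0x2052) (.lf 0x125f)) (.nd (.lf 0x2129) (.lf 0))) (.nd (.nd (.lf 0x10b6) (.lf 0x235b)) (.nd (.lf 0x1b1) (.lf 0)))))))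
def parA_nbaaba : Tr := (.nd (.nd (.nd (.nd (.nd (.nd (.lf 0x2002) (.lf 0x1be)) (.nd (.lf 0x20bf) (.lf 0x1387))) (.nd (.nd (.lf 0x105c) (.lf 0x271)) (.nd (.lf 0x1136) (.lf 0)))) (.nd (.nd (.nd (.lf 0x102e) (.lf 0x1215)) (.nd (.lf 0xf7) (.lf 0x1470))) (.nd (.nd (.lf 0x208b) (.lf 0x22e7)) (.nd (.lf 0x177) (.lf 0))))) (.nd (.nd (.nd (.nd (.lf 0x18) (.lf 0x11ec)) (.nd (.lf 0x10da) (.lf 0x23f2))) (.nd (.nd (.lf 0x1074) (.lf 0x12aa)) (.nd (.lf 0x2154) (.lf 0)))) (.nd (.nd (.nd (.lf 0x2044) (.lf 0x2246)) (.nd (.lf 0x117) (.lf 0x2556))) (.nd (.nd (.lf 0x20a4) (.lf 0x328)) (.nd (.lf 0x119e) (.lf 0)))))) (.nd (.nd (.nd (.nd (.nd (.lf 0x100d) (.lf 0x11d7)) (.nd (.lf 0x20cd) (.lf 0x13b7))) (.nd (.nd (.lf 0x1068) (.lf 0x2289)) (.nd (.lf 0x2145) (.lf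 0)))) (.nd (.nd (.nd (.lf 0x1039) (.lf 0x2232)) (.nd (.lf 0x108) (.lf 0x4d4))) (.nd (.nd (.lf 0x98) (.lf 0x30c)) (.nd (.lf 0x218a) (.lf 0))))) (.nd (.nd (.nd (.nd (.lf 0x2022) (.lf 0x21ff)) (.nd (.lf 0xe8) (.lf 0x2429))) (.nd (.nd (.lf 0x107f) (.lf 0x2cc)) (.nd (.lf 0x1165) (.lf 0)))) (.nd (.nd (.nd (.lf 0x50) (.lf 0x25b)) (.nd (.lf 0x1125) (.lf 0))) (.nd (.nd (.lf 0x10b2) (.lf 0x350)) (.nd (.lf 0x1ae) (.lf 0)))))))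
def parA_nbaabb : Tr := (.nd (.nd (.nd (.nd (.nd (.nd (.lf 0x8) (.lf 0x11cb)) (.nd (.lf 0x20c5) (.lf 0x239a))) (.nd (.nd (.lf 0x1062) (.lf 0x227e)) (.nd (.lf 0x13d) (.lf 0)))) (.nd (.nd (.nd (.lf 0x34) (.lf 0x1223)) (.nd (.lf 0x10ff) (.lf 0x14ac))) (.nd (.nd (.lf 0x1092) (.lf 0x12fc)) (.nd (.lf 0x183) (.lf 0))))) (.nd (.nd (.nd (.nd (.lf 0x101d) (.lf 0x21f5)) (.nd (.lf 0x20e1) (.lf 0x140f))) (.nd (.nd (.lf 0x7a) (.lf 0x22ba)) (.nd (.lf 0x215d) (.lf 0)))) (.nd (.nd (.nd (.lf 0x104a) (.lf 0x1251)) (.nd (.lf 0x211e) (.lf 0x1674))) (.nd (.nd (.lf 0xab) (.lf 0x233b)) (.nd (.lf 0x21a6) (.lf 0)))))) (.nd (.nd (.nd (.nd (.nd (.lf 0x2012) (.lf 0x1e2)) (.nd (.lf 0x10d3) (.lf 0x23d8))) (.nd (.nd (.lf 0x206e) (.lf 0x129c)) (.nd (.lf 0x214d) (.lf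 0)))) (.nd (.nd (.nd (.lf 0x3f) (.lf 0x23d)) (.nd (.lf 0x10e) (.lf 0x50f))) (.nd (.nd (.lf 0x9e) (.lf 0x1319)) (.nd (.lf 0x2193) (.lf 0))))) (.nd (.nd (.nd (.nd (.lf 0x1028) (.lf 0x120a)) (.nd (.lf 0x20ef) (.lf 0x449))) (.nd (.nd (.lf 0x1086) (.lf 0x22dc)) (.nd (.lf 0x16e) (.lf 0)))) (.nd (.nd (.nd (.lf 0x1056) (.lf 0x264)) (.nd (.lf 0x112e) (.lf 0))) (.nd (.nd (.lf 0x20b9) (.lf 0x1364)) (.nd (.lf 0x21b4) (.lf 0)))))))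
def parA_nbabaa : Tr := (.nd (.nd (.nd (.nd (.nd (.nd (.lf 0x1001) (.lf 0x11bc)) (.nd (.lf 0x10be) (.lf 0x137c))) (.nd (.nd (.lf 0x105a) (.lf 0x226b)) (.nd (.lf 0x1134) (.lf 0)))) (.nd (.nd (.nd (.lf 0x2d) (.lf 0x2213)) (.nd (.lf 0x10f5) (.lf 0x464))) (.nd (.nd (.lf 0x108a) (.lf 0x22e5)) (.nd (.lf 0x1174) (.lf 0))))) (.nd (.nd (.nd (.nd (.lf 0x2016) (.lf 0x21e8)) (.nd (.lf 0x10d8) (.lf 0x23ee))) (.nd (.nd (.lf 0x73) (.lf 0x22a6)) (.nd (.lf 0x153) (.lf 0)))) (.nd (.nd (.nd (.lf 0x1043) (.lf 0x2244)) (.nd (.lf 0x115) (.lf 0x1548))) (.nd (.nd (.lf 0x10a3) (.lf 0x2325)) (.nd (.lf 0x19b) (.lf 0)))))) (.nd (.nd (.nd (.nd (.nd (.lf 0xc) (.lf 0x1d3)) (.nd (.lf 0x10cb) (.lf 0x3ae))) (.nd (.nd (.lf 0x2066) (.lf 0x1286)) (.nd (.lf 0x2143) (.lf 0))))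 (.nd (.nd (.nd (.lf 0x38) (.lf 0x22f)) (.nd (.lf 0x1105) (.lf 0x14cb))) (.nd (.nd (.lf 0x2096) (.lf 0x1307)) (.nd (.lf 0x2188) (.lf 0))))) (.nd (.nd (.nd (.nd (.lf 0x1021) (.lf 0x11fd)) (.nd (.lf 0x10e6) (.lf 0x422))) (.nd (.nd (.lf 0x7e) (.lf 0x12c9)) (.nd (.lf 0x2163) (.lf 0)))) (.nd (.nd (.nd (.lf 0x204e) (.lf 0x2259)) (.nd (.lf 0x124) (.lf 0))) (.nd (.nd (.lf 0x10b0) (.lf 0x2349)) (.nd (.lf 0x11ac) (.lf 0)))))))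
def parA_nbabab : Tr := (.nd (.nd (.nd (.nd (.nd (.nd (.lf 0x2006) (.lf 0x11c8)) (.nd (.lf 0x10c4) (.lf 0x2398))) (.nd (.nd (.lf 0x61) (.lf 0x227b)) (.nd (.lf 0x213b) (.lf 0)))) (.nd (.nd (.nd (.lf 0x2032) (.lf 0x121e)) (.nd (.lf 0x10fd) (.lf 0x49a))) (.nd (.nd (.lf 0x2090) (.lf 0x22f1)) (.nd (.lf 0x117f) (.lf 0))))) (.nd (.nd (.nd (.nd (.lf 0x1c) (.lf 0x11f4)) (.nd (.lf 0xe0) (.lf 0x40b))) (.nd (.nd (.lf 0x2078) (.lf 0x2b8)) (.nd (.lf 0x115b) (.lf 0)))) (.nd (.nd (.nd (.lf 0x49) (.lf 0x124e)) (.nd (.lf 0x211c) (.lf 0x5df))) (.nd (.nd (.lf 0x10a9) (.lf 0x2337)) (.nd (.lf 0x11a3) (.lf 0)))))) (.nd (.nd (.nd (.nd (.nd (.lf 0x1011) (.lf 0x11df)) (.nd (.lf 0xd2) (.lf 0x3d1))) (.nd (.nd (.lf 0x106d) (.lf 0x29a)) (.nd (.lf 0x14c) (.lf 0))))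 (.nd (.nd (.nd (.lf 0x203d) (.lf 0x239)) (.nd (.lf 0x210c) (.lf 0x1505))) (.nd (.nd (.lf 0x209c) (.lf 0x1315)) (.nd (.lf 0x1191) (.lf 0))))) (.nd (.nd (.nd (.nd (.lf 0x2026) (.lf 0x1207)) (.nd (.lf 0x10ee) (.lf 0x243c))) (.nd (.nd (.lf 0x85) (.lf 0x12d8)) (.nd (.lf 0x116c) (.lf 0)))) (.nd (.nd (.nd (.lf 0x1054) (.lf 0x262)) (.nd (.lf 0x212b) (.lf 0))) (.nd (.nd (.lf 0xb8) (.lf 0x1361)) (.nd (.lf 0x11b3) (.lf 0)))))))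
def parA_nbabba : Tr := (.nd (.nd (.nd (.nd (.nd (.nd (.lf 0x4) (.lf 0x21c0)) (.nd (.lf 0xc1) (.lf 0x138d))) (.nd (.nd (.lf 0x5e) (.lf 0x2273)) (.nd (.lf 0x1138) (.lf 0)))) (.nd (.nd (.nd (.lf 0x202f) (.lf 0x219)) (.nd (.lf 0x10f9) (.lf 0x1479))) (.nd (.nd (.lf 0x208d) (.lf 0x2ea)) (.nd (.lf 0x217a) (.lf 0))))) (.nd (.nd (.nd (.nd (.lf 0x1019) (.lf 0x21ee)) (.nd (.lf 0x20db) (.lf 0x13fb))) (.nd (.nd (.lf 0x2075) (.lf 0x22b1)) (.nd (.lf 0x2156) (.lf 0)))) (.nd (.nd (.nd (.lf 0x1046) (.lf 0x124a)) (.nd (.lf 0x2118) (.lf 0x258b))) (.nd (.nd (.lf 0xa6) (.lf 0x32a)) (.nd (.lf 0x219f) (.lf 0)))))) (.nd (.nd (.nd (.nd (.nd (.lf 0x200e) (.lf 0x11d9)) (.nd (.lf 0xcf) (.lf 0x3bd))) (.nd (.nd (.lf 0x2069) (.lf 0x2292)) (.nd (.lf 0x2148) (.lf 0))))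 (.nd (.nd (.nd (.lf 0x203a) (.lf 0x2234)) (.nd (.lf 0x2109) (.lf 0x4e6))) (.nd (.nd (.lf 0x9a) (.lf 0x230f)) (.nd (.lf 0x218d) (.lf 0))))) (.nd (.nd (.nd (.nd (.lf 0x24) (.lf 0x202)) (.nd (.lf 0xeb) (.lf 0x242c))) (.nd (.nd (.lf 0x2080) (.lf 0x22d1)) (.nd (.lf 0x1167) (.lf 0)))) (.nd (.nd (.nd (.lf 0x1051) (.lf 0x225d)) (.nd (.lf 0x1128) (.lf 0))) (.nd (.nd (.lf 0x10b4) (.lf 0x1357)) (.nd (.lf 0x21af) (.lf 0)))))))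
def parA_nbabbb : Tr := (.nd (.nd (.nd (.nd (.nd (.nd (.lf 0x1009) (.lf 0x11cd)) (.nd (.lf 0xc7) (.lf 0x3a0))) (.nd (.nd (.lf 0x2063) (.lf 0x2280)) (.nd (.lf 0x140) (.lf 0)))) (.nd (.nd (.nd (.lf 0x1035) (.lf 0x226)) (.nd (.lf 0x1101) (.lf 0x14b9))) (.nd (.nd (.lf 0x94) (.lf 0x2300)) (.nd (.lf 0x185) (.lf 0))))) (.nd (.nd (.nd (.nd (.lf 0x201e) (.lf 0x1f8)) (.nd (.lf 0xe3) (.lf 0x2416))) (.nd (.nd (.lf 0x107b) (.lf 0x12c1)) (.nd (.lf 0x15f) (.lf 0)))) (.nd (.nd (.nd (.lf 0x204b) (.lf 0x1254)) (.nd (.lf 0x2120) (.lf 0))) (.nd (.nd (.lf 0x20ac) (.lf 0x133f)) (.nd (.lf 0x21a8) (.lf 0)))))) (.nd (.nd (.nd (.nd (.nd (.lf 0x14) (.lf 0x11e5)) (.nd (.lf 0xd5) (.lf 0x3e1))) (.nd (.nd (.lf 0x1070) (.lf 0x12a0)) (.nd (.lf 0x114f) (.lf 0)))) (.nd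 (.nd (.nd (.lf 0x1040) (.lf 0x223f)) (.nd (.lf 0x2110) (.lf 0x1522))) (.nd (.nd (.lf 0x20a0) (.lf 0x320)) (.nd (.lf 0x1195) (.lf 0))))) (.nd (.nd (.nd (.nd (.lf 0x2029) (.lf 0x220d)) (.nd (.lf 0xf1) (.lf 0x144e))) (.nd (.nd (.lf 0x2087) (.lf 0x22de)) (.nd (.lf 0x171) (.lf 0)))) (.nd (.nd (.nd (.lf 0x2057) (.lf 0x1266)) (.nd (.lf 0x131) (.lf 0))) (.nd (.nd (.lf 0xbb) (.lf 0x1369)) (.nd (.lf 0x11b7) (.lf 0)))))))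
def parA_nbbaaa : Tr := (.nd (.nd (.nd (.nd (.nd (.nd (.lf 0x2000) (.lf 0x21bb)) (.nd (.lf 0x10bd) (.lf 0x371))) (.nd (.nd (.lf 0x2059) (.lf 0x126a)) (.nd (.lf 0x1133) (.lf 0)))) (.nd (.nd (.nd (.lf 0x2c) (.lf 0x2212)) (.nd (.lf 0x20f3) (.lf 0x145c))) (.nd (.nd (.lf 0x2089) (.lf 0x12e4)) (.nd (.lf 0x2173) (.lf 0))))) (.nd (.nd (.nd (.nd (.lf 0x16) (.lf 0x1e8)) (.nd (.lf 0x20d7) (.lf 0x3ea))) (.nd (.nd (.lf 0x1072) (.lf 0x12a5)) (.nd (.lf 0x1152) (.lf 0)))) (.nd (.nd (.nd (.lf 0x2042) (.lf 0x2243)) (.nd (.lf 0x1113) (.lf 0x2540))) (.nd (.nd (.lf 0x20a2) (.lf 0x2324)) (.nd (.lf 0x19a) (.lf 0)))))) (.nd (.nd (.nd (.nd (.nd (.lf 0x100b) (.lf 0x11d2)) (.nd (.lf 0x20ca) (.lf 0x3ad))) (.nd (.nd (.lf 0x66) (.lf 0x1285)) (.nd (.lf 0x2142) (.lf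 0)))) (.nd (.nd (.nd (.lf 0x1037) (.lf 0x22d)) (.nd (.lf 0x1104) (.lf 0x24c2))) (.nd (.nd (.lf 0x96) (.lf 0x1304)) (.nd (.lf 0x2187) (.lf 0))))) (.nd (.nd (.nd (.nd (.lf 0x2020) (.lf 0x1fc)) (.nd (.lf 0x20e5) (.lf 0x1420))) (.nd (.nd (.lf 0x107d) (.lf 0x2c5)) (.nd (.lf 0x163) (.lf 0)))) (.nd (.nd (.nd (.lf 0x4e) (.lf 0x1258)) (.nd (.lf 0x123) (.lf 0))) (.nd (.nd (.lf 0x10af) (.lf 0x2346)) (.nd (.lf 0x21ab) (.lf 0)))))))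
def parA_nbbaab : Tr := (.nd (.nd (.nd (.nd (.nd (.nd (.lf 0x6) (.lf 0x1c7)) (.nd (.lf 0x10c3) (.lf 0x397))) (.nd (.nd (.lf 0x1060) (.lf 0x127a)) (.nd (.lf 0x13b) (.lf 0)))) (.nd (.nd (.nd (.lf 0x32) (.lf 0x121d)) (.nd (.lf 0x20fc) (.lf 0x1498))) (.nd (.nd (.lf 0x90) (.lf 0x12ee)) (.nd (.lf 0x17e) (.lf 0))))) (.nd (.nd (.nd (.nd (.lf 0x101b) (.lf 0x21f2)) (.nd (.lf 0x20de) (.lf 0x2405))) (.nd (.nd (.lf 0x78) (.lf 0x12b6)) (.nd (.lf 0x115a) (.lf 0)))) (.nd (.nd (.nd (.lf 0x1048) (.lf 0x124d)) (.nd (.lf 0x11c) (.lf 0x15c1))) (.nd (.nd (.lf 0x20a8) (.lf 0x332)) (.nd (.lf 0x21a2) (.lf 0)))))) (.nd (.nd (.nd (.nd (.nd (.lf 0x2010) (.lf 0x11dd)) (.nd (.lf 0x10d1) (.lf 0x3cb))) (.nd (.nd (.lf 0x206c) (.lf 0x1296)) (.nd (.lf 0x114b) (.lf 0))))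 (.nd (.nd (.nd (.lf 0x3d) (.lf 0x238)) (.nd (.lf 0x210b) (.lf 0x24ff))) (.nd (.nd (.lf 0x9c) (.lf 0x313)) (.nd (.lf 0x1190) (.lf 0))))) (.nd (.nd (.nd (.nd (.lf 0x26) (.lf 0x1206)) (.nd (.lf 0x20ed) (.lf 0x2435))) (.nd (.nd (.lf 0x2083) (.lf 0x12d6)) (.nd (.lf 0x16b) (.lf 0)))) (.nd (.nd (.nd (.lf 0x1053) (.lf 0x2260)) (.nd (.lf 0x12b) (.lf 0))) (.nd (.nd (.lf 0xb7) (.lf 0x235e)) (.nd (.lf 0x11b2) (.lf 0)))))))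
def parA_nbbaba : Tr := (.nd (.nd (.nd (.nd (.nd (.nd (.lf 0x1003) (.lf 0x1bf)) (.nd (.lf 0x10c0) (.lf 0x1389))) (.nd (.nd (.lf 0x5d) (.lf 0x272)) (.nd (.lf 0x137) (.lf 0)))) (.nd (.nd (.nd (.lf 0x2f) (.lf 0x2217)) (.nd (.lf 0x20f7) (.lf 0x473))) (.nd (.nd (.lf 0x8d) (.lf 0x2e9)) (.nd (.lf 0x1178) (.lf 0))))) (.nd (.nd (.nd (.nd (.lf 0x2018) (.lf 0x21ed)) (.nd (.lf 0xdb) (.lf 0x23f9))) (.nd (.nd (.lf 0x75) (.lf 0x2ad)) (.nd (.lf 0x1155) (.lf 0)))) (.nd (.nd (.nd (.lf 0x2045) (.lf 0x1247)) (.nd (.lf 0x118) (.lf 0x581))) (.nd (.nd (.lf 0x10a5) (.lf 0x1329)) (.nd (.lf 0x19f) (.lf 0)))))) (.nd (.nd (.nd (.nd (.nd (.lf 0xe) (.lf 0x1d8)) (.nd (.lf 0x10ce) (.lf 0x23ba))) (.nd (.nd (.lf 0x69) (.lf 0x28d)) (.nd (.lf 0x2146) (.lf 0)))) (.nd (.nd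 (.nd (.lf 0x3a) (.lf 0x1233)) (.nd (.lf 0x2108) (.lf 0x14d8))) (.nd (.nd (.lf 0x2098) (.lf 0x30e)) (.nd (.lf 0x18d) (.lf 0))))) (.nd (.nd (.nd (.nd (.lf 0x1023) (.lf 0x201)) (.nd (.lf 0x10e9) (.lf 0x242b))) (.nd (.nd (.lf 0x80) (.lf 0x12d0)) (.nd (.lf 0x166) (.lf 0)))) (.nd (.nd (.nd (.lf 0x2050) (.lf 0x125c)) (.nd (.lf 0x2126) (.lf 0))) (.nd (.nd (.lf 0x10b3) (.lf 0x1352)) (.nd (.lf 0x21ae) (.lf 0)))))))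
def parA_nbbabb : Tr := (.nd (.nd (.nd (.nd (.nd (.nd (.lf 0x2008) (.lf 0x1cc)) (.nd (.lf 0x10c6) (.lf 0x39e))) (.nd (.nd (.lf 0x63) (.lf 0x280)) (.nd (.lf 0x113f) (.lf 0)))) (.nd (.nd (.nd (.lf 0x2034) (.lf 0x1225)) (.nd (.lf 0x100) (.lf 0x24ad))) (.nd (.nd (.lf 0x1093) (.lf 0x22ff)) (.nd (.lf 0x1184) (.lf 0))))) (.nd (.nd (.nd (.nd (.lf 0x1e) (.lf 0x1f7)) (.nd (.lf 0x10e2) (.lf 0x2415))) (.nd (.nd (.lf 0x207a) (.lf 0x22bc)) (.nd (.lf 0x115e) (.lf 0)))) (.nd (.nd (.nd (.lf 0x4b) (.lf 0x2253)) (.nd (.lf 0x120) (.lf 0))) (.nd (.nd (.lf 0x20ab) (.lf 0x33e)) (.nd (.lf 0x1a8) (.lf 0)))))) (.nd (.nd (.nd (.nd (.nd (.lf 0x1013) (.lf 0x21e3)) (.nd (.lf 0xd4) (.lf 0x3df))) (.nd (.nd (.lf 0x206f) (.lf 0x29f)) (.nd (.lf 0x214e) (.lf 0)))) (.nd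 (.nd (.nd (.lf 0x203f) (.lf 0x123e)) (.nd (.lf 0x10f) (.lf 0x513))) (.nd (.nd (.lf 0x109f) (.lf 0x231d)) (.nd (.lf 0x2194) (.lf 0))))) (.nd (.nd (.nd (.nd (.lf 0x29) (.lf 0x120b)) (.nd (.lf 0x10f0) (.lf 0x144b))) (.nd (.nd (.lf 0x87) (.lf 0x12dd)) (.nd (.lf 0x216e) (.lf 0)))) (.nd (.nd (.nd (.lf 0x57) (.lf 0x265)) (.nd (.lf 0x12f) (.lf 0))) (.nd (.nd (.lf 0x10ba) (.lf 0x2367)) (.nd (.lf 0x11b6) (.lf 0)))))))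
def parA_nbbbaa : Tr := (.nd (.nd (.nd (.nd (.nd (.nd (.lf 0x2) (.lf 0x1bd)) (.nd (.lf 0xbf) (.lf 0x2380))) (.nd (.nd (.lf 0x105b) (.lf 0x126e)) (.nd (.lf 0x1135) (.lf 0)))) (.nd (.nd (.nd (.lf 0x202d) (.lf 0x1214)) (.nd (.lf 0x10f6) (.lf 0x46d))) (.nd (.nd (.lf 0x8b) (.lf 0x22e6)) (.nd (.lf 0x175) (.lf 0))))) (.nd (.nd (.nd (.nd (.lf 0x1017) (.lf 0x1ea)) (.nd (.lf 0x20d9) (.lf 0x3f0))) (.nd (.nd (.lf 0x2073) (.lf 0x2a8)) (.nd (.lf 0x154) (.lf 0)))) (.nd (.nd (.nd (.lf 0x44) (.lf 0x1245)) (.nd (.lf 0x116) (.lf 0x1552))) (.nd (.nd (.lf 0xa4) (.lf 0x1327)) (.nd (.lf 0x119d) (.lf 0)))))) (.nd (.nd (.nd (.nd (.nd (.lf 0x200c) (.lf 0x21d6)) (.nd (.lf 0xcd) (.lf 0x3b4))) (.nd (.nd (.lf 0x1067) (.lf 0x1288)) (.nd (.lf 0x1144) (.lf 0)))) (.nd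 (.nd (.nd (.lf 0x2038) (.lf 0x1230)) (.nd (.lf 0x106) (.lf 0x14cf))) (.nd (.nd (.lf 0x1097) (.lf 0x1308)) (.nd (.lf 0x18a) (.lf 0))))) (.nd (.nd (.nd (.nd (.lf 0x22) (.lf 0x11fe)) (.nd (.lf 0xe7) (.lf 0x1425))) (.nd (.nd (.lf 0x207e) (.lf 0x22ca)) (.nd (.lf 0x2164) (.lf 0)))) (.nd (.nd (.nd (.lf 0x104f) (.lf 0x125a)) (.nd (.lf 0x2124) (.lf 0))) (.nd (.nd (.lf 0x10b1) (.lf 0x234e)) (.nd (.lf 0x11ad) (.lf 0)))))))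
def parA_nbbbab : Tr := (.nd (.nd (.nd (.nd (.nd (.nd (.lf 0x1007) (.lf 0x11ca)) (.nd (.lf 0xc5) (.lf 0x1399))) (.nd (.nd (.lf 0x2061) (.lf 0x227d)) (.nd (.lf 0x113c) (.lf 0)))) (.nd (.nd (.nd (.lf 0x1033) (.lf 0x1220)) (.nd (.lf 0x20fe) (.lf 0x4a2))) (.nd (.nd (.lf 0x1091) (.lf 0x22f3)) (.nd (.lf 0x2181) (.lf 0))))) (.nd (.nd (.nd (.nd (.lf 0x201c) (.lf 0x1f5)) (.nd (.lf 0x20e0) (.lf 0x240d))) (.nd (.nd (.lf 0x1079) (.lf 0x2ba)) (.nd (.lf 0x115c) (.lf 0)))) (.nd (.nd (.nd (.lf 0x2049) (.lf 0x124f)) (.nd (.lf 0x11e) (.lf 0x2642))) (.nd (.nd (.lf 0xaa) (.lf 0x33b)) (.nd (.lf 0x1a5) (.lf 0)))))) (.nd (.nd (.nd (.nd (.nd (.lf 0x12) (.lf 0x1e1)) (.nd (.lf 0x20d2) (.lf 0x13d5))) (.nd (.nd (.lf 0x6e) (.lf 0x129b)) (.nd (.lf 0x214c) (.lf 0))))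 (.nd (.nd (.nd (.lf 0x103e) (.lf 0x23b)) (.nd (.lf 0x110d) (.lf 0x507))) (.nd (.nd (.lf 0x109d) (.lf 0x317)) (.nd (.lf 0x2192) (.lf 0))))) (.nd (.nd (.nd (.nd (.lf 0x1027) (.lf 0x209)) (.nd (.lf 0xef) (.lf 0x143e))) (.nd (.nd (.lf 0x2085) (.lf 0x2db)) (.nd (.lf 0x116d) (.lf 0)))) (.nd (.nd (.nd (.lf 0x1055) (.lf 0x2262)) (.nd (.lf 0x112c) (.lf 0))) (.nd (.nd (.lf 0x20b8) (.lf 0x1362)) (.nd (.lf 0x1b4) (.lf 0)))))))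
def parA_nbbbba : Tr := (.nd (.nd (.nd (.nd (.nd (.nd (.lf 0x2004) (.lf 0x21c4)) (.nd (.lf 0x20c1) (.lf 0x38f))) (.nd (.nd (.lf 0x205e) (.lf 0x277)) (.nd (.lf 0x1139) (.lf 0)))) (.nd (.nd (.nd (.lf 0x1030) (.lf 0x2219)) (.nd (.lf 0x20fa) (.lf 0x47d))) (.nd (.nd (.lf 0x208e) (.lf 0x12eb)) (.nd (.lf 0x17c) (.lf 0))))) (.nd (.nd (.nd (.nd (.lf 0x1a) (.lf 0x11f0)) (.nd (.lf 0xdd) (.lf 0x23fe))) (.nd (.nd (.lf 0x1076) (.lf 0x12b3)) (.nd (.lf 0x158) (.lf 0)))) (.nd (.nd (.nd (.lf 0x47) (.lf 0x224b)) (.nd (.lf 0x211a) (.lf 0x2596))) (.nd (.nd (.lf 0xa7) (.lf 0x32d)) (.nd (.lf 0x1a1) (.lf 0)))))) (.nd (.nd (.nd (.nd (.nd (.lf 0x100f) (.lf 0x1da)) (.nd (.lf 0x20cf) (.lf 0x13c0))) (.nd (.nd (.lf 0x106a) (.lf 0x294)) (.nd (.lf 0x1149) (.lf 0))))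 (.nd (.nd (.nd (.lf 0x103b) (.lf 0x1235)) (.nd (.lf 0x110a) (.lf 0x4ea))) (.nd (.nd (.lf 0x209a) (.lf 0x1310)) (.nd (.lf 0x118e) (.lf 0))))) (.nd (.nd (.nd (.nd (.lf 0x2024) (.lf 0x2204)) (.nd (.lf 0xec) (.lf 0x42f))) (.nd (.nd (.lf 0x2081) (.lf 0x22d3)) (.nd (.lf 0x1168) (.lf 0)))) (.nd (.nd (.nd (.lf 0x52) (.lf 0x225e)) (.nd (.lf 0x129) (.lf 0))) (.nd (.nd (.lf 0x10b5) (.lf 0x2358)) (.nd (.lf 0x11b0) (.lf 0)))))))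
def parA_nbbbbb : Tr := (.nd (.nd (.nd (.nd (.nd (.nd (.lf 0xa) (.lf 0x1cf)) (.nd (.lf 0xc8) (.lf 0x23a5))) (.nd (.nd (.lf 0x1064) (.lf 0x2281)) (.nd (.lf 0x141) (.lf 0)))) (.nd (.nd (.nd (.lf 0x36) (.lf 0x1229)) (.nd (.lf 0x102) (.lf 0x24bb))) (.nd (.nd (.lf 0x2094) (.lf 0x2301)) (.nd (.lf 0x2185) (.lf 0))))) (.nd (.nd (.nd (.nd (.lf 0x101f) (.lf 0x21f9)) (.nd (.lf 0x20e3) (.lf 0x241a))) (.nd (.nd (.lf 0x7c) (.lf 0x22c2)) (.nd (.lf 0x160) (.lf 0)))) (.nd (.nd (.nd (.lf 0x204c) (.lf 0x1255)) (.nd (.lf 0x2121) (.lf 0))) (.nd (.nd (.lf 0x10ad) (.lf 0x2340)) (.nd (.lf 0x21a9) (.lf 0)))))) (.nd (.nd (.nd (.nd (.nd (.lf 0x2014) (.lf 0x1e6)) (.nd (.lf 0x20d5) (.lf 0x3e5))) (.nd (.nd (.lf 0x71) (.lf 0x22a1)) (.nd (.lf 0x1150) (.lf 0)))) (.nd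 (.nd (.nd (.lf 0x41) (.lf 0x1241)) (.nd (.lf 0x2111) (.lf 0x152e))) (.nd (.nd (.lf 0x10a1) (.lf 0x2321)) (.nd (.lf 0x197) (.lf 0))))) (.nd (.nd (.nd (.nd (.lf 0x102a) (.lf 0x210)) (.nd (.lf 0x20f1) (.lf 0x1451))) (.nd (.nd (.lf 0x1088) (.lf 0x12e0)) (.nd (.lf 0x2171) (.lf 0)))) (.nd (.nd (.nd (.lf 0x1058) (.lf 0x267)) (.nd (.lf 0x132) (.lf 0))) (.nd (.nd (.lf 0x20bb) (.lf 0x236a)) (.nd (.lf 0x11b8) (.lf 0)))))))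
def parA : Tr := (.nd (.nd (.nd (.nd (.nd parA_naaaaa parA_naaaab) (.nd parA_naaaba parA_naaabb)) (.nd (.nd parA_naabaa parA_naabab) (.nd parA_naabba parA_naabbb))) (.nd (.nd (.nd parA_nabaaa parA_nabaab) (.nd parA_nababa parA_nababb)) (.nd (.nd parA_nabbaa parA_nabbab) (.nd parA_nabbba parA_nabbbb)))) (.nd (.nd (.nd (.nd parA_nbaaaa parA_nbaaab) (.nd parA_nbaaba parA_nbaabb)) (.nd (.nd parA_nbabaa parA_nbabab) (.nd parA_nbabba parA_nbabbb))) (.nd (.nd (.nd parA_nbbaaa parA_nbbaab) (.nd parA_nbbaba parA_nbbabb)) (.nd (.nd parA_nbbbaa parA_nbbbab) (.nd parA_nbbbba parA_nbbbbb)))))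
def tabA0_naaaaa : Tr := (.nd (.nd (.nd (.nd (.nd (.nd (.lf 0x1) (.lf 0x3dd)) (.nd (.lf 0x46a) (.lf 0x441))) (.nd (.nd (.lf 0x29b) (.lf 0x3b7)) (.nd (.lf 0xd3) (.lf 0)))) (.nd (.nd (.nd (.lf 0x16b) (.lf 0x605)) (.nd (.lf 0x51b) (.lf 0x202))) (.nd (.nd (.lf 0x1ec) (.lf 0x3c1)) (.nd (.lf 0x139) (.lf 0))))) (.nd (.nd (.nd (.nd (.lf 0xbc) (.lf 0x158)) (.nd (.lf 0x4be) (.lf 0x527))) (.nd (.nd (.lf 0x31d) (.lf 0x3c4)) (.nd (.lf 0x3c6) (.lf 0)))) (.nd (.nd (.nd (.lf 0x20a) (.lf 0x25c)) (.nd (.lf 0x3a1) (.lf 0x11d))) (.nd (.nd (.lf 0x92) (.lf 0x299)) (.nd (.lf 0x1a8) (.lf 0)))))) (.nd (.nd (.nd (.nd (.nd (.lf 0x61) (.lf 0x364)) (.nd (.lf 0x48f) (.lf 0x109))) (.nd (.nd (.lf 0x2db) (.lf 0x495)) (.nd (.lf 0x5bd) (.lf 0)))) (.nd (.nd (.nd (.lf 0x8f)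 (.lf 0x138)) (.nd (.lf 0x52d) (.lf 0x60c))) (.nd (.nd (.lf 0x3ce) (.lf 0x351)) (.nd (.lf 0x61d) (.lf 0))))) (.nd (.nd (.nd (.nd (.lf 0xce) (.lf 0x391)) (.nd (.lf 0x448) (.lf 0x67d))) (.nd (.nd (.lf 0x35f) (.lf 0x464)) (.nd (.lf 0x469) (.lf 0)))) (.nd (.nd (.nd (.lf 0x255) (.lf 0x64f)) (.nd (.lf 0x57e) (.lf 0))) (.nd (.nd (.lf 0x56) (.lf 0x681)) (.nd (.lf 0x438) (.lf 0)))))))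
def tabA0_naaaab : Tr := (.nd (.nd (.nd (.nd (.nd (.nd (.lf 0x31) (.lf 0x14c)) (.nd (.lf 0x47f) (.lf 0x3d3))) (.nd (.nd (.lf 0x7f) (.lf 0x6ba)) (.nd (.lf 0x5ae) (.lf 0)))) (.nd (.nd (.nd (.lf 0x193) (.lf 0x102)) (.nd (.lf 0x2d5) (.lf 0x55e))) (.nd (.nd (.lf 0x3b2) (.lf 0x348)) (.nd (.lf 0x56a) (.lf 0))))) (.nd (.nd (.nd (.nd (.lf 0xe9) (.lf 0x67e)) (.nd (.lf 0xdc) (.lf 0x4de))) (.nd (.nd (.lf 0x33e) (.lf 0xfd)) (.nd (.lf 0x5e9) (.lf 0)))) (.nd (.nd (.nd (.lf 0x230) (.lf 0x4d0)) (.nd (.lf 0x37b) (.lf 0x259))) (.nd (.nd (.lf 0x420) (.lf 0x250)) (.nd (.lf 0x1d0) (.lf 0)))))) (.nd (.nd (.nd (.nd (.nd (.lf 0x8e) (.lf 0x4c5)) (.nd (.lf 0x215) (.lf 0x42e))) (.nd (.nd (.lf 0x2dd) (.lf 0x698)) (.nd (.lf 0x5d1) (.lf 0)))) (.nd (.nd (.nd (.lf 0x1b2)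 (.lf 0xaf)) (.nd (.lf 0x19c) (.lf 0x68d))) (.nd (.nd (.lf 0x3ee) (.lf 0x4bc)) (.nd (.lf 0x383) (.lf 0))))) (.nd (.nd (.nd (.nd (.lf 0x13c) (.lf 0x54e)) (.nd (.lf 0x1e3) (.lf 0x284))) (.nd (.nd (.lf 0x17c) (.lf 0x340)) (.nd (.lf 0x3d0) (.lf 0)))) (.nd (.nd (.nd (.lf 0x27a) (.lf 0x5f8)) (.nd (.lf 0x127) (.lf 0))) (.nd (.nd (.lf 0xbd) (.lf 0x173)) (.nd (.lf 0x647) (.lf 0)))))))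
def tabA0_naaaba : Tr := (.nd (.nd (.nd (.nd (.nd (.nd (.lf 0x19) (.lf 0x5f3)) (.nd (.lf 0x11a) (.lf 0x136))) (.nd (.nd (.lf 0x2a9) (.lf 0x398)) (.nd (.lf 0x5a6) (.lf 0)))) (.nd (.nd (.nd (.lf 0x17e) (.lf 0x484)) (.nd (.lf 0x50a) (.lf 0x60b))) (.nd (.nd (.lf 0x3a4) (.lf 0x13d)) (.nd (.lf 0x4ed) (.lf 0))))) (.nd (.nd (.nd (.nd (.lf 0xd2) (.lf 0x130)) (.nd (.lf 0x458) (.lf 0x4f1))) (.nd (.nd (.lf 0x2a1) (.lf 0x6f)) (.nd (.lf 0x144) (.lf 0)))) (.nd (.nd (.nd (.lf 0x21f) (.lf 0x5d4)) (.nd (.lf 0x26a) (.lf 0x56c))) (.nd (.nd (.lf 0x1c3) (.lf 0xc0)) (.nd (.lf 0x565) (.lf 0)))))) (.nd (.nd (.nd (.nd (.nd (.lf 0x2a) (.lf 0x4f2)) (.nd (.lf 0x2c8) (.lf 0x2cf))) (.nd (.nd (.lf 0x72) (.lf 0x4c7)) (.nd (.lf 0x5c9) (.lf 0)))) (.nd (.nd (.nd (.lf 0x1d1)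 (.lf 0x4cc)) (.nd (.lf 0x547) (.lf 0x682))) (.nd (.nd (.lf 0x3db) (.lf 0x6b3)) (.nd (.lf 0x2f4) (.lf 0))))) (.nd (.nd (.nd (.nd (.lf 0x128) (.lf 0x64d)) (.nd (.lf 0x500) (.lf 0x680))) (.nd (.nd (.lf 0x359) (.lf 0x6ca)) (.nd (.lf 0x2af) (.lf 0)))) (.nd (.nd (.nd (.lf 0x269) (.lf 0x157)) (.nd (.lf 0x205) (.lf 0))) (.nd (.nd (.lf 0x443) (.lf 0x5f9)) (.nd (.lf 0x2bd) (.lf 0)))))))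
def tabA0_naaabb : Tr := (.nd (.nd (.nd (.nd (.nd (.nd (.lf 0x49) (.lf 0x8c)) (.nd (.lf 0x27b) (.lf 0x90))) (.nd (.nd (.lf 0x2cb) (.lf 0x44a)) (.nd (.lf 0x5b8) (.lf 0)))) (.nd (.nd (.nd (.lf 0x1a9) (.lf 0x3ad)) (.nd (.lf 0x50d) (.lf 0x133))) (.nd (.nd (.lf 0x38d) (.lf 0x376)) (.nd (.lf 0x59f) (.lf 0))))) (.nd (.nd (.nd (.nd (.lf 0xfe) (.lf 0x1f9)) (.nd (.lf 0x354) (.lf 0x572))) (.nd (.nd (.lf 0x34f) (.lf 0x599)) (.nd (.lf 0x3ed) (.lf 0)))) (.nd (.nd (.nd (.lf 0x244) (.lf 0x5b4)) (.nd (.lf 0x4c9) (.lf 0x6cf))) (.nd (.nd (.lf 0x42b) (.lf 0x5f7)) (.nd (.lf 0x638) (.lf 0)))))) (.nd (.nd (.nd (.nd (.nd (.lf 0xa5) (.lf 0x396)) (.nd (.lf 0x4b3) (.lf 0x1d5))) (.nd (.nd (.lf 0x1ae) (.lf 0x5cc)) (.nd (.lf 0x417) (.lf 0)))) (.nd (.nd (.nd (.lf 0x1f5)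 (.lf 0x62c)) (.nd (.lf 0x555) (.lf 0x2))) (.nd (.nd (.lf 0x3fe) (.lf 0x5ef)) (.nd (.lf 0x435) (.lf 0))))) (.nd (.nd (.nd (.nd (.lf 0x153) (.lf 0x3f2)) (.nd (.lf 0x1a2) (.lf 0x5dd))) (.nd (.nd (.lf 0x199) (.lf 0x1b1)) (.nd (.lf 0x587) (.lf 0)))) (.nd (.nd (.nd (.lf 0x113) (.lf 0x1e4)) (.nd (.lf 0x58a) (.lf 0))) (.nd (.nd (.lf 0x45d) (.lf 0x5a2)) (.nd (.lf 0x4d3) (.lf 0)))))))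
def tabA0_naabaa : Tr := (.nd (.nd (.nd (.nd (.nd (.nd (.lf 0xd) (.lf 0x5ad)) (.nd (.lf 0x34b) (.lf 0x62b))) (.nd (.nd (.lf 0x1d6) (.lf 0x146)) (.nd (.lf 0x1e5) (.lf 0)))) (.nd (.nd (.nd (.lf 0x160) (.lf 0x170)) (.nd (.lf 0x33f) (.lf 0x3fb))) (.nd (.nd (.lf 0x282) (.lf 0x271)) (.nd (.lf 0xff) (.lf 0))))) (.nd (.nd (.nd (.nd (.lf 0xc7) (.lf 0x3b0)) (.nd (.lf 0x1ef) (.lf 0x4e7))) (.nd (.nd (.lf 0x326) (.lf 0x3ec)) (.nd (.lf 0x84) (.lf 0)))) (.nd (.nd (.nd (.lf 0x214) (.lf 0x30c)) (.nd (.lf 0x12a) (.lf 0x325))) (.nd (.nd (.lf 0x3e7) (.lf 0x309)) (.nd (.lf 0x3a2) (.lf 0)))))) (.nd (.nd (.nd (.nd (.nd (.lf 0x6d) (.lf 0x598)) (.nd (.lf 0x471) (.lf 0x560))) (.nd (.nd (.lf 0x2e5) (.lf 0x69b)) (.nd (.lf 0x5c2) (.lf 0)))) (.nd (.nd (.nd (.lf 0x1c7)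 (.lf 0x97)) (.nd (.lf 0x306) (.lf 0xf5))) (.nd (.nd (.lf 0x16a) (.lf 0x5fd)) (.nd (.lf 0x3a9) (.lf 0))))) (.nd (.nd (.nd (.nd (.lf 0x11e) (.lf 0x685)) (.nd (.lf 0x4f9) (.lf 0x1dd))) (.nd (.nd (.lf 0x25e) (.lf 0x2ee)) (.nd (.lf 0x4df) (.lf 0)))) (.nd (.nd (.nd (.lf 0x260) (.lf 0x639)) (.nd (.lf 0x582) (.lf 0))) (.nd (.nd (.lf 0x26) (.lf 0x26e)) (.nd (.lf 0x545) (.lf 0)))))))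
def tabA0_naabab : Tr := (.nd (.nd (.nd (.nd (.nd (.nd (.lf 0x3d) (.lf 0x65a)) (.nd (.lf 0x486) (.lf 0x5fb))) (.nd (.nd (.lf 0x68) (.lf 0x29a)) (.nd (.lf 0x392) (.lf 0)))) (.nd (.nd (.nd (.lf 0x19d) (.lf 0x30d)) (.nd (.lf 0x52f) (.lf 0xed))) (.nd (.nd (.lf 0x2b5) (.lf 0x479)) (.nd (.lf 0xe4) (.lf 0))))) (.nd (.nd (.nd (.nd (.lf 0xf4) (.lf 0x346)) (.nd (.lf 0x4dc) (.lf 0x39b))) (.nd (.nd (.lf 0x347) (.lf 0x147)) (.nd (.lf 0x403) (.lf 0)))) (.nd (.nd (.nd (.lf 0x23b) (.lf 0x6a9)) (.nd (.lf 0x2eb) (.lf 0x69))) (.nd (.nd (.lf 0x275) (.lf 0x66d)) (.nd (.lf 0x589) (.lf 0)))))) (.nd (.nd (.nd (.nd (.nd (.lf 0x99) (.lf 0x480)) (.nd (.lf 0x454) (.lf 0x3b3))) (.nd (.nd (.lf 0x304) (.lf 0x49a)) (.nd (.lf 0x155) (.lf 0)))) (.nd (.nd (.nd (.lf 0xf0)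 (.lf 0x5e5)) (.nd (.lf 0x4dd) (.lf 0x614))) (.nd (.nd (.lf 0x3f7) (.lf 0x56d)) (.nd (.lf 0x627) (.lf 0))))) (.nd (.nd (.nd (.nd (.lf 0x148) (.lf 0x329)) (.nd (.lf 0x1c5) (.lf 0x537))) (.nd (.nd (.lf 0x384) (.lf 0x621)) (.nd (.lf 0x5c5) (.lf 0)))) (.nd (.nd (.nd (.lf 0xbe) (.lf 0x683)) (.nd (.lf 0x42a) (.lf 0))) (.nd (.nd (.lf 0x1b) (.lf 0x634)) (.nd (.lf 0x474) (.lf 0)))))))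
def tabA0_naabba : Tr := (.nd (.nd (.nd (.nd (.nd (.nd (.lf 0x25) (.lf 0x87)) (.nd (.lf 0x1fc) (.lf 0x285))) (.nd (.nd (.lf 0x225) (.lf 0x82)) (.nd (.lf 0x5a9) (.lf 0)))) (.nd (.nd (.nd (.lf 0x188) (.lf 0x64c)) (.nd (.lf 0x52a) (.lf 0x32f))) (.nd (.nd (.lf 0x3aa) (.lf 0x5a1)) (.nd (.lf 0x513) (.lf 0))))) (.nd (.nd (.nd (.nd (.lf 0xde) (.lf 0x330)) (.nd (.lf 0x122) (.lf 0x317))) (.nd (.nd (.lf 0x335) (.lf 0x4f3)) (.nd (.lf 0x466) (.lf 0)))) (.nd (.nd (.nd (.lf 0x4e) (.lf 0x523)) (.nd (.lf 0x569) (.lf 0x467))) (.nd (.nd (.lf 0x41b) (.lf 0x4b2)) (.nd (.lf 0x339) (.lf 0)))))) (.nd (.nd (.nd (.nd (.nd (.lf 0x83) (.lf 0x66c)) (.nd (.lf 0x4a2) (.lf 0x3fa))) (.nd (.nd (.lf 0x2f6) (.lf 0x41d)) (.nd (.lf 0x17a) (.lf 0)))) (.nd (.nd (.nd (.lf 0x1dc)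 (.lf 0x336)) (.nd (.lf 0x54a) (.lf 0x43e))) (.nd (.nd (.lf 0x3e4) (.lf 0x6b)) (.nd (.lf 0x622) (.lf 0))))) (.nd (.nd (.nd (.nd (.lf 0x8) (.lf 0x5b0)) (.nd (.lf 0x2f5) (.lf 0xf7))) (.nd (.nd (.lf 0x374) (.lf 0x55f)) (.nd (.lf 0x2c4) (.lf 0)))) (.nd (.nd (.nd (.lf 0x26f) (.lf 0x57c)) (.nd (.lf 0x590) (.lf 0))) (.nd (.nd (.lf 0x36c) (.lf 0x32)) (.nd (.lf 0x242) (.lf 0)))))))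
def tabA0_naabbb : Tr := (.nd (.nd (.nd (.nd (.nd (.nd (.lf 0x55) (.lf 0x661)) (.nd (.lf 0x3e1) (.lf 0x456))) (.nd (.nd (.lf 0x2d3) (.lf 0x3d2)) (.nd (.lf 0x473) (.lf 0)))) (.nd (.nd (.nd (.lf 0x1b3) (.lf 0xc)) (.nd (.lf 0x496) (.lf 0x6c9))) (.nd (.nd (.lf 0xea) (.lf 0x1da)) (.nd (.lf 0x52e) (.lf 0))))) (.nd (.nd (.nd (.nd (.lf 0x5) (.lf 0x445)) (.nd (.lf 0x21) (.lf 0x689))) (.nd (.nd (.lf 0x356) (.lf 0x246)) (.nd (.lf 0x22c) (.lf 0)))) (.nd (.nd (.nd (.lf 0x24e) (.lf 0x4a6)) (.nd (.lf 0x575) (.lf 0))) (.nd (.nd (.lf 0x431) (.lf 0x385)) (.nd (.lf 0xe7) (.lf 0)))))) (.nd (.nd (.nd (.nd (.nd (.lf 0xb1) (.lf 0x257)) (.nd (.lf 0x377) (.lf 0x344))) (.nd (.nd (.lf 0x316) (.lf 0x663)) (.nd (.lf 0x2b0) (.lf 0)))) (.nd (.nd (.nd (.lf 0x200) (.lf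 0x6a0)) (.nd (.lf 0x149) (.lf 0x67b))) (.nd (.nd (.lf 0x404) (.lf 0x6cd)) (.nd (.lf 0x5c4) (.lf 0))))) (.nd (.nd (.nd (.nd (.lf 0x15f) (.lf 0x15)) (.nd (.lf 0xcb) (.lf 0x6b4))) (.nd (.nd (.lf 0x38f) (.lf 0x6a4)) (.nd (.lf 0x54f) (.lf 0)))) (.nd (.nd (.nd (.lf 0x292) (.lf 0x3b9)) (.nd (.lf 0x57b) (.lf 0))) (.nd (.nd (.lf 0x463) (.lf 0x36f)) (.nd (.lf 0x64e) (.lf 0)))))))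
def tabA0_nabaaa : Tr := (.nd (.nd (.nd (.nd (.nd (.nd (.lf 0x7) (.lf 0x75)) (.nd (.lf 0x46d) (.lf 0x2da))) (.nd (.nd (.lf 0x29f) (.lf 0x2cd)) (.nd (.lf 0x5a0) (.lf 0)))) (.nd (.nd (.nd (.lf 0xda) (.lf 0xb7)) (.nd (.lf 0x520) (.lf 0x3f4))) (.nd (.nd (.lf 0x2c1) (.lf 0x657)) (.nd (.lf 0x4d7) (.lf 0))))) (.nd (.nd (.nd (.nd (.lf 0x8d) (.lf 0x40d)) (.nd (.lf 0x4c1) (.lf 0x426))) (.nd (.nd (.lf 0x321) (.lf 0x649)) (.nd (.lf 0x5e0) (.lf 0)))) (.nd (.nd (.nd (.lf 0x210) (.lf 0x4cf)) (.nd (.lf 0x2ba) (.lf 0x320))) (.nd (.nd (.lf 0x132) (.lf 0x641)) (.nd (.lf 0x13e) (.lf 0)))))) (.nd (.nd (.nd (.nd (.nd (.lf 0x67) (.lf 0x665)) (.nd (.lf 0x394) (.lf 0x19b))) (.nd (.nd (.lf 0x2e0) (.lf 0x611)) (.nd (.lf 0x5c0) (.lf 0)))) (.nd (.nd (.nd (.lf 0x1c1)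 (.lf 0x697)) (.nd (.lf 0x167) (.lf 0x6d4))) (.nd (.nd (.lf 0x3d1) (.lf 0x659)) (.nd (.lf 0x312) (.lf 0))))) (.nd (.nd (.nd (.nd (.lf 0x118) (.lf 0x459)) (.nd (.lf 0x4f5) (.lf 0x44e))) (.nd (.nd (.lf 0x268) (.lf 0x3bb)) (.nd (.lf 0x5f6) (.lf 0)))) (.nd (.nd (.nd (.lf 0x25a) (.lf 0x2fc)) (.nd (.lf 0xbb) (.lf 0))) (.nd (.nd (.lf 0x439) (.lf 0x1e7)) (.nd (.lf 0x620) (.lf 0)))))))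
def tabA0_nabaab : Tr := (.nd (.nd (.nd (.nd (.nd (.nd (.lf 0x37) (.lf 0x40a)) (.nd (.lf 0x482) (.lf 0x37e))) (.nd (.nd (.lf 0x2c0) (.lf 0x61c)) (.nd (.lf 0x5b2) (.lf 0)))) (.nd (.nd (.nd (.lf 0xba) (.lf 0x212)) (.nd (.lf 0x21e) (.lf 0x36a))) (.nd (.nd (.lf 0x16d) (.lf 0x624)) (.nd (.lf 0x60e) (.lf 0))))) (.nd (.nd (.nd (.nd (.lf 0xef) (.lf 0x116)) (.nd (.lf 0x422) (.lf 0x51f))) (.nd (.nd (.lf 0x2a6) (.lf 0x143)) (.nd (.lf 0x5ea) (.lf 0)))) (.nd (.nd (.nd (.lf 0x235) (.lf 0x450)) (.nd (.lf 0xc9) (.lf 0x3d8))) (.nd (.nd (.lf 0x397) (.lf 0x4ef)) (.nd (.lf 0x28a) (.lf 0)))))) (.nd (.nd (.nd (.nd (.nd (.lf 0x93) (.lf 0x672)) (.nd (.lf 0x2b3) (.lf 0xa0))) (.nd (.nd (.lf 0x2ff) (.lf 0x1d)) (.nd (.lf 0x5d3) (.lf 0)))) (.nd (.nd (.nd (.lf 0x1e8)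 (.lf 0x591)) (.nd (.lf 0x218) (.lf 0x194))) (.nd (.nd (.lf 0x333) (.lf 0x3e3)) (.nd (.lf 0x5da) (.lf 0))))) (.nd (.nd (.nd (.nd (.lf 0x142) (.lf 0x386)) (.nd (.lf 0x50b) (.lf 0x676))) (.nd (.nd (.lf 0x380) (.lf 0x29d)) (.nd (.lf 0x503) (.lf 0)))) (.nd (.nd (.nd (.lf 0x280) (.lf 0x4e2)) (.nd (.lf 0x4a1) (.lf 0))) (.nd (.nd (.lf 0x247) (.lf 0x366)) (.nd (.lf 0x334) (.lf 0)))))))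
def tabA0_nababa : Tr := (.nd (.nd (.nd (.nd (.nd (.nd (.lf 0x1f) (.lf 0x278)) (.nd (.lf 0x478) (.lf 0x95))) (.nd (.nd (.lf 0x2ae) (.lf 0x3f0)) (.nd (.lf 0x5a8) (.lf 0)))) (.nd (.nd (.nd (.lf 0x184) (.lf 0x369)) (.nd (.lf 0xa7) (.lf 0x6d8))) (.nd (.nd (.lf 0x3a7) (.lf 0x209)) (.nd (.lf 0x5ec) (.lf 0))))) (.nd (.nd (.nd (.nd (.lf 0xd8) (.lf 0x429)) (.nd (.lf 0x7d) (.lf 0x105))) (.nd (.nd (.lf 0x331) (.lf 0xd4)) (.nd (.lf 0x3f9) (.lf 0)))) (.nd (.nd (.nd (.lf 0x222) (.lf 0x22e)) (.nd (.lf 0x4ea) (.lf 0x5a7))) (.nd (.nd (.lf 0x416) (.lf 0x270)) (.nd (.lf 0xb2) (.lf 0)))))) (.nd (.nd (.nd (.nd (.nd (.lf 0x7e) (.lf 0x4e8)) (.nd (.lf 0x16e) (.lf 0x538))) (.nd (.nd (.lf 0x1c6) (.lf 0x192)) (.nd (.lf 0x5cd) (.lf 0)))) (.nd (.nd (.nd (.lf 0x1d7)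 (.lf 0x43d)) (.nd (.lf 0x86) (.lf 0x362))) (.nd (.nd (.lf 0x3e0) (.lf 0x2df)) (.nd (.lf 0x497) (.lf 0))))) (.nd (.nd (.nd (.nd (.lf 0x12e) (.lf 0x4fa)) (.nd (.lf 0x502) (.lf 0x24a))) (.nd (.nd (.lf 0x1af) (.lf 0x6bc)) (.nd (.lf 0x4e5) (.lf 0)))) (.nd (.nd (.nd (.lf 0xa1) (.lf 0x6af)) (.nd (.lf 0x58d) (.lf 0))) (.nd (.nd (.lf 0x447) (.lf 0x21b)) (.nd (.lf 0x643) (.lf 0)))))))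
def tabA0_nababb : Tr := (.nd (.nd (.nd (.nd (.nd (.nd (.lf 0x4f) (.lf 0x62e)) (.nd (.lf 0x48e) (.lf 0x5f))) (.nd (.nd (.lf 0x2ce) (.lf 0x609)) (.nd (.lf 0x4d1) (.lf 0)))) (.nd (.nd (.nd (.lf 0x1ad) (.lf 0x695)) (.nd (.lf 0x535) (.lf 0x39))) (.nd (.nd (.lf 0x3c3) (.lf 0x34c)) (.nd (.lf 0x618) (.lf 0))))) (.nd (.nd (.nd (.nd (.lf 0x104) (.lf 0x164)) (.nd (.lf 0x4e6) (.lf 0x281))) (.nd (.nd (.lf 0x352) (.lf 0x63a)) (.nd (.lf 0x2f1) (.lf 0)))) (.nd (.nd (.nd (.lf 0x248) (.lf 0x35b)) (.nd (.lf 0x53f) (.lf 0x5a5))) (.nd (.nd (.lf 0x42f) (.lf 0x3ac)) (.nd (.lf 0x35e) (.lf 0)))))) (.nd (.nd (.nd (.nd (.nd (.lf 0xab) (.lf 0x5d9)) (.nd (.lf 0x4b6) (.lf 0x653))) (.nd (.nd (.lf 0x311) (.lf 0x6c1)) (.nd (.lf 0x252) (.lf 0)))) (.nd (.nd (.nd (.lf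 0x1fa) (.lf 0x5c3)) (.nd (.lf 0x557) (.lf 0x678))) (.nd (.nd (.lf 0x401) (.lf 0x44f)) (.nd (.lf 0x1f4) (.lf 0))))) (.nd (.nd (.nd (.nd (.lf 0x159) (.lf 0x1a4)) (.nd (.lf 0x2de) (.lf 0x5e3))) (.nd (.nd (.lf 0x10f) (.lf 0x45)) (.nd (.lf 0x1cb) (.lf 0)))) (.nd (.nd (.nd (.lf 0x245) (.lf 0x46e)) (.nd (.lf 0x540) (.lf 0))) (.nd (.nd (.lf 0x460) (.lf 0x49f)) (.nd (.lf 0x2ec) (.lf 0)))))))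
def tabA0_nabbaa : Tr := (.nd (.nd (.nd (.nd (.nd (.nd (.lf 0x13) (.lf 0x25f)) (.nd (.lf 0x472) (.lf 0x40c))) (.nd (.nd (.lf 0x2a7) (.lf 0x6b6)) (.nd (.lf 0x5a4) (.lf 0)))) (.nd (.nd (.nd (.lf 0x178) (.lf 0x690)) (.nd (.lf 0x524) (.lf 0x3c))) (.nd (.nd (.lf 0x3a0) (.lf 0x5df)) (.nd (.lf 0x51c) (.lf 0))))) (.nd (.nd (.nd (.nd (.lf 0xcc) (.lf 0x4d9)) (.nd (.lf 0xb4) (.lf 0x74))) (.nd (.nd (.lf 0x32a) (.lf 0x57)) (.nd (.lf 0x539) (.lf 0)))) (.nd (.nd (.nd (.lf 0x21a) (.lf 0x63)) (.nd (.lf 0x461) (.lf 0x6d7))) (.nd (.nd (.lf 0x410) (.lf 0x4d5)) (.nd (.lf 0x283) (.lf 0)))))) (.nd (.nd (.nd (.nd (.nd (.lf 0x73) (.lf 0x5fa)) (.nd (.lf 0x49d) (.lf 0x1eb))) (.nd (.nd (.lf 0x71) (.lf 0x43a)) (.nd (.lf 0x5c6) (.lf 0)))) (.nd (.nd (.nd (.lf 0x1cd)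 (.lf 0x55b)) (.nd (.lf 0x544) (.lf 0xd7))) (.nd (.nd (.lf 0x1ed) (.lf 0x179)) (.nd (.lf 0x5eb) (.lf 0))))) (.nd (.nd (.nd (.nd (.lf 0x123) (.lf 0x28e)) (.nd (.lf 0x415) (.lf 0x562))) (.nd (.nd (.lf 0x36b) (.lf 0x677)) (.nd (.lf 0x3e5) (.lf 0)))) (.nd (.nd (.nd (.lf 0x264) (.lf 0x6ad)) (.nd (.lf 0x586) (.lf 0))) (.nd (.nd (.lf 0x43f) (.lf 0x5f2)) (.nd (.lf 0x640) (.lf 0)))))))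
def tabA0_nabbab : Tr := (.nd (.nd (.nd (.nd (.nd (.nd (.lf 0x43) (.lf 0x3be)) (.nd (.lf 0x2aa) (.lf 0x63c))) (.nd (.nd (.lf 0x2c7) (.lf 0x61f)) (.nd (.lf 0x223) (.lf 0)))) (.nd (.nd (.nd (.lf 0x1a3) (.lf 0x16c)) (.nd (.lf 0x532) (.lf 0x195))) (.nd (.nd (.lf 0x220) (.lf 0x20)) (.nd (.lf 0x5f5) (.lf 0))))) (.nd (.nd (.nd (.nd (.lf 0xf8) (.lf 0x315)) (.nd (.lf 0x4e0) (.lf 0x3cc))) (.nd (.nd (.lf 0x256) (.lf 0x5d5)) (.nd (.lf 0xd6) (.lf 0)))) (.nd (.nd (.nd (.lf 0x12f) (.lf 0x28d)) (.nd (.lf 0x504) (.lf 0x4d8))) (.nd (.nd (.lf 0x2a5) (.lf 0x32b)) (.nd (.lf 0x37f) (.lf 0)))))) (.nd (.nd (.nd (.nd (.nd (.lf 0x9f) (.lf 0x674)) (.nd (.lf 0x297) (.lf 0x4ba))) (.nd (.nd (.lf 0x243) (.lf 0x341)) (.nd (.lf 0x62) (.lf 0)))) (.nd (.nd (.nd (.lf 0x1f0)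 (.lf 0x65b)) (.nd (.lf 0x552) (.lf 0x65c))) (.nd (.nd (.lf 0x1cc) (.lf 0x6c7)) (.nd (.lf 0x51d) (.lf 0))))) (.nd (.nd (.nd (.nd (.lf 0x14e) (.lf 0x652)) (.nd (.lf 0x1f2) (.lf 0x6d9))) (.nd (.nd (.lf 0x388) (.lf 0x4b0)) (.nd (.lf 0x604) (.lf 0)))) (.nd (.nd (.nd (.lf 0x286) (.lf 0x400)) (.nd (.lf 0x411) (.lf 0))) (.nd (.nd (.lf 0x45a) (.lf 0x15e)) (.nd (.lf 0x14d) (.lf 0)))))))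
def tabA0_nabbba : Tr := (.nd (.nd (.nd (.nd (.nd (.nd (.lf 0x2b) (.lf 0x658)) (.nd (.lf 0xf) (.lf 0x6d2))) (.nd (.nd (.lf 0x2b9) (.lf 0x1b7)) (.nd (.lf 0x5ab) (.lf 0)))) (.nd (.nd (.nd (.lf 0x18e) (.lf 0xe1)) (.nd (.lf 0x52c) (.lf 0x6aa))) (.nd (.nd (.lf 0x3ae) (.lf 0x5b6)) (.nd (.lf 0x15a) (.lf 0))))) (.nd (.nd (.nd (.nd (.lf 0xe3) (.lf 0x67c)) (.nd (.lf 0x46f) (.lf 0x1fb))) (.nd (.nd (.lf 0x33a) (.lf 0x67a)) (.nd (.lf 0x574) (.lf 0)))) (.nd (.nd (.nd (.lf 0x22a) (.lf 0x6a6)) (.nd (.lf 0x171) (.lf 0x375))) (.nd (.nd (.lf 0x314) (.lf 0x26b)) (.nd (.lf 0xb8) (.lf 0)))))) (.nd (.nd (.nd (.nd (.nd (.lf 0x88) (.lf 0x630)) (.nd (.lf 0x4a4) (.lf 0x6c2))) (.nd (.nd (.lf 0x1a) (.lf 0x1ea)) (.nd (.lf 0x5d0) (.lf 0)))) (.nd (.nd (.nd (.lf 0x1e0)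 (.lf 0x372)) (.nd (.lf 0x2a0) (.lf 0x229))) (.nd (.nd (.lf 0x3e9) (.lf 0x69a)) (.nd (.lf 0x625) (.lf 0))))) (.nd (.nd (.nd (.nd (.lf 0x137) (.lf 0x688)) (.nd (.lf 0x3b6) (.lf 0x3df))) (.nd (.nd (.lf 0x379) (.lf 0x2bf)) (.nd (.lf 0x2dc) (.lf 0)))) (.nd (.nd (.nd (.lf 0x274) (.lf 0xfa)) (.nd (.lf 0x23c) (.lf 0))) (.nd (.nd (.lf 0x100) (.lf 0x365)) (.nd (.lf 0x140) (.lf 0)))))))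
def tabA0_nabbbb : Tr := (.nd (.nd (.nd (.nd (.nd (.nd (.lf 0x5b) (.lf 0x4db)) (.nd (.lf 0x494) (.lf 0x65d))) (.nd (.nd (.lf 0x2d7) (.lf 0x3f6)) (.nd (.lf 0x5bc) (.lf 0)))) (.nd (.nd (.nd (.lf 0x1b9) (.lf 0x600)) (.nd (.lf 0x53a) (.lf 0x1d8))) (.nd (.nd (.lf 0x31b) (.lf 0x573)) (.nd (.lf 0x61b) (.lf 0))))) (.nd (.nd (.nd (.nd (.lf 0x10d) (.lf 0x522)) (.nd (.lf 0x17f) (.lf 0x13b))) (.nd (.nd (.lf 0x35a) (.lf 0x6b8)) (.nd (.lf 0x561) (.lf 0)))) (.nd (.nd (.nd (.lf 0x251) (.lf 0x6ab)) (.nd (.lf 0x15d) (.lf 0))) (.nd (.nd (.lf 0x434) (.lf 0x216)) (.nd (.lf 0x324) (.lf 0)))))) (.nd (.nd (.nd (.nd (.nd (.lf 0xb6) (.lf 0x43c)) (.nd (.lf 0x39a) (.lf 0x9d))) (.nd (.nd (.lf 0x31a) (.lf 0x485)) (.nd (.lf 0x5db) (.lf 0)))) (.nd (.nd (.nd (.lf 0x204)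 (.lf 0x1fe)) (.nd (.lf 0x3f) (.lf 0x24c))) (.nd (.nd (.lf 0x409) (.lf 0x408)) (.nd (.lf 0x28b) (.lf 0))))) (.nd (.nd (.nd (.nd (.lf 0x165) (.lf 0x161)) (.nd (.lf 0xc2) (.lf 0x51))) (.nd (.nd (.lf 0x393) (.lf 0x6b5)) (.nd (.lf 0x2e4) (.lf 0)))) (.nd (.nd (.nd (.lf 0x296) (.lf 0x449)) (.nd (.lf 0xe2) (.lf 0))) (.nd (.nd (.lf 0x23f) (.lf 0x1f7)) (.nd (.lf 0xdd) (.lf 0)))))))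
def tabA0_nbaaaa : Tr := (.nd (.nd (.nd (.nd (.nd (.nd (.lf 0x4) (.lf 0x54c)) (.nd (.lf 0x46b) (.lf 0x646))) (.nd (.nd (.lf 0x288) (.lf 0x3cd)) (.nd (.lf 0x59e) (.lf 0)))) (.nd (.nd (.nd (.lf 0x12d) (.lf 0x2b2)) (.nd (.lf 0x4b) (.lf 0x30e))) (.nd (.nd (.lf 0xe) (.lf 0x6cb)) (.nd (.lf 0x17d) (.lf 0))))) (.nd (.nd (.nd (.nd (.lf 0xbf) (.lf 0x5f1)) (.nd (.lf 0x414) (.lf 0x564))) (.nd (.nd (.lf 0x31f) (.lf 0x45c)) (.nd (.lf 0x4ee) (.lf 0)))) (.nd (.nd (.nd (.lf 0x20d) (.lf 0x12c)) (.nd (.lf 0x20e) (.lf 0x514))) (.nd (.nd (.lf 0x48) (.lf 0x62a)) (.nd (.lf 0x18a) (.lf 0)))))) (.nd (.nd (.nd (.nd (.nd (.lf 0x64) (.lf 0x664)) (.nd (.lf 0x79) (.lf 0x529))) (.nd (.nd (.lf 0x2ac) (.lf 0x455)) (.nd (.lf 0x1bd) (.lf 0)))) (.nd (.nd (.nd (.lf 0x1be)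 (.lf 0x44c)) (.nd (.lf 0x53e) (.lf 0x4da))) (.nd (.nd (.lf 0x3cf) (.lf 0x1bf)) (.nd (.lf 0x42c) (.lf 0))))) (.nd (.nd (.nd (.nd (.lf 0x115) (.lf 0x23)) (.nd (.lf 0x4f4) (.lf 0x451))) (.nd (.nd (.lf 0x361) (.lf 0x686)) (.nd (.lf 0x5f4) (.lf 0)))) (.nd (.nd (.nd (.lf 0x258) (.lf 0x6ac)) (.nd (.lf 0x554) (.lf 0))) (.nd (.nd (.lf 0x437) (.lf 0xd0)) (.nd (.lf 0x63d) (.lf 0)))))))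
def tabA0_nbaaab : Tr := (.nd (.nd (.nd (.nd (.nd (.nd (.lf 0x34) (.lf 0x593)) (.nd (.lf 0x481) (.lf 0x78))) (.nd (.nd (.lf 0x2be) (.lf 0x279)) (.nd (.lf 0x21c) (.lf 0)))) (.nd (.nd (.nd (.lf 0x196) (.lf 0x606)) (.nd (.lf 0x50) (.lf 0x303))) (.nd (.nd (.lf 0x3b4) (.lf 0x378)) (.nd (.lf 0x610) (.lf 0))))) (.nd (.nd (.nd (.nd (.lf 0xec) (.lf 0x239)) (.nd (.lf 0x3c0) (.lf 0x5aa))) (.nd (.nd (.lf 0x2bc) (.lf 0x2a8)) (.nd (.lf 0xd1) (.lf 0)))) (.nd (.nd (.nd (.lf 0x232) (.lf 0x6a8)) (.nd (.lf 0x11c) (.lf 0x54d))) (.nd (.nd (.lf 0x421) (.lf 0x673)) (.nd (.lf 0x635) (.lf 0)))))) (.nd (.nd (.nd (.nd (.nd (.lf 0x91) (.lf 0x670)) (.nd (.lf 0x16f) (.lf 0x585))) (.nd (.nd (.lf 0x2fd) (.lf 0x1ce)) (.nd (.lf 0x3eb) (.lf 0)))) (.nd (.nd (.nd (.lf 0x1e6)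 (.lf 0x64b)) (.nd (.lf 0x3ca) (.lf 0x510))) (.nd (.nd (.lf 0x3f1) (.lf 0x180)) (.nd (.lf 0x1a7) (.lf 0))))) (.nd (.nd (.nd (.nd (.lf 0x13f) (.lf 0x68a)) (.nd (.lf 0x509) (.lf 0x696))) (.nd (.nd (.lf 0x37d) (.lf 0x1e)) (.nd (.lf 0x603) (.lf 0)))) (.nd (.nd (.nd (.lf 0x27d) (.lf 0x675)) (.nd (.lf 0x33d) (.lf 0))) (.nd (.nd (.lf 0x3d9) (.lf 0x287)) (.nd (.lf 0x4b1) (.lf 0)))))))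
def tabA0_nbaaba : Tr := (.nd (.nd (.nd (.nd (.nd (.nd (.lf 0x1c) (.lf 0x3f8)) (.nd (.lf 0x477) (.lf 0x468))) (.nd (.nd (.lf 0x27f) (.lf 0x4cb)) (.nd (.lf 0x231) (.lf 0)))) (.nd (.nd (.nd (.lf 0x181) (.lf 0x2ea)) (.nd (.lf 0x528) (.lf 0x4f7))) (.nd (.nd (.lf 0x2f9) (.lf 0x578)) (.nd (.lf 0x60a) (.lf 0))))) (.nd (.nd (.nd (.nd (.lf 0xd5) (.lf 0x679)) (.nd (.lf 0x4a0) (.lf 0x666))) (.nd (.nd (.lf 0x32e) (.lf 0x206)) (.nd (.lf 0x596) (.lf 0)))) (.nd (.nd (.nd (.lf 0x3e) (.lf 0x1b4)) (.nd (.lf 0x301) (.lf 0x626))) (.nd (.nd (.lf 0xc3) (.lf 0x69e)) (.nd (.lf 0x276) (.lf 0)))))) (.nd (.nd (.nd (.nd (.nd (.lf 0x7b) (.lf 0x668)) (.nd (.lf 0xee) (.lf 0x6d0))) (.nd (.nd (.lf 0x2ef) (.lf 0x2f2)) (.nd (.lf 0x56b) (.lf 0)))) (.nd (.nd (.nd (.lf 0x1d4)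 (.lf 0x1c2)) (.nd (.lf 0x548) (.lf 0x3af))) (.nd (.nd (.lf 0x3de) (.lf 0x6a3)) (.nd (.lf 0x191) (.lf 0))))) (.nd (.nd (.nd (.nd (.lf 0x12b) (.lf 0xe5)) (.nd (.lf 0x501) (.lf 0x2d))) (.nd (.nd (.lf 0x234) (.lf 0x567)) (.nd (.lf 0x3ba) (.lf 0)))) (.nd (.nd (.nd (.lf 0x29) (.lf 0x6ae)) (.nd (.lf 0x58b) (.lf 0))) (.nd (.nd (.lf 0x1ff) (.lf 0x65f)) (.nd (.lf 0x47d) (.lf 0)))))))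
def tabA0_nbaabb : Tr := (.nd (.nd (.nd (.nd (.nd (.nd (.lf 0x4c) (.lf 0x507)) (.nd (.lf 0x48d) (.lf 0x69d))) (.nd (.nd (.lf 0xf1) (.lf 0x14)) (.nd (.lf 0x349) (.lf 0)))) (.nd (.nd (.nd (.lf 0x7c) (.lf 0x34d)) (.nd (.lf 0x446) (.lf 0x293))) (.nd (.nd (.lf 0x10a) (.lf 0x176)) (.nd (.lf 0x616) (.lf 0))))) (.nd (.nd (.nd (.nd (.lf 0x101) (.lf 0x2f7)) (.nd (.lf 0x125) (.lf 0x493))) (.nd (.nd (.lf 0x2fe) (.lf 0x424)) (.nd (.lf 0x516) (.lf 0)))) (.nd (.nd (.nd (.lf 0xeb) (.lf 0x5be)) (.nd (.lf 0x576) (.lf 0x343))) (.nd (.nd (.lf 0x186) (.lf 0xaa)) (.nd (.lf 0x174) (.lf 0)))))) (.nd (.nd (.nd (.nd (.nd (.lf 0xa8) (.lf 0xb5)) (.nd (.lf 0x4b5) (.lf 0x6c5))) (.nd (.nd (.lf 0x2c) (.lf 0x492)) (.nd (.lf 0x433) (.lf 0)))) (.nd (.nd (.nd (.lf 0x1f8)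 (.lf 0x1a5)) (.nd (.lf 0x556) (.lf 0x48a))) (.nd (.nd (.lf 0xc8) (.lf 0x5e6)) (.nd (.lf 0x4d) (.lf 0))))) (.nd (.nd (.nd (.nd (.lf 0x156) (.lf 0x129)) (.nd (.lf 0x511) (.lf 0x66a))) (.nd (.nd (.lf 0x1f6) (.lf 0x59c)) (.nd (.lf 0x5ca) (.lf 0)))) (.nd (.nd (.nd (.lf 0x54) (.lf 0x2c6)) (.nd (.lf 0x263) (.lf 0))) (.nd (.nd (.lf 0x419) (.lf 0x2cc)) (.nd (.lf 0x427) (.lf 0)))))))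
def tabA0_nbabaa : Tr := (.nd (.nd (.nd (.nd (.nd (.nd (.lf 0x10) (.lf 0x651)) (.nd (.lf 0x470) (.lf 0x60d))) (.nd (.nd (.lf 0x2a4) (.lf 0x62f)) (.nd (.lf 0x58c) (.lf 0)))) (.nd (.nd (.nd (.lf 0x175) (.lf 0x4e3)) (.nd (.lf 0x36e) (.lf 0x5ed))) (.nd (.nd (.lf 0x39d) (.lf 0x38c)) (.nd (.lf 0x154) (.lf 0))))) (.nd (.nd (.nd (.nd (.lf 0xca) (.lf 0x44b)) (.nd (.lf 0x4c6) (.lf 0x699))) (.nd (.nd (.lf 0x328) (.lf 0x512)) (.nd (.lf 0x5e2) (.lf 0)))) (.nd (.nd (.nd (.lf 0x217) (.lf 0x579)) (.nd (.lf 0x563) (.lf 0x602))) (.nd (.nd (.lf 0x42) (.lf 0x29c)) (.nd (.lf 0x632) (.lf 0)))))) (.nd (.nd (.nd (.nd (.nd (.lf 0x70) (.lf 0x213)) (.nd (.lf 0x1b8) (.lf 0x6c3))) (.nd (.nd (.lf 0x2e8) (.lf 0x4ad)) (.nd (.lf 0x53d) (.lf 0)))) (.nd (.nd (.nd (.lf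 0x1ca) (.lf 0x5b5)) (.nd (.lf 0x542) (.lf 0x53))) (.nd (.nd (.lf 0x3d7) (.lf 0x6d1)) (.nd (.lf 0x370) (.lf 0))))) (.nd (.nd (.nd (.nd (.lf 0x120) (.lf 0x597)) (.nd (.lf 0x4fb) (.lf 0x18f))) (.nd (.nd (.lf 0x368) (.lf 0x39f)) (.nd (.lf 0x4c4) (.lf 0)))) (.nd (.nd (.nd (.lf 0x262) (.lf 0x40e)) (.nd (.lf 0x9) (.lf 0))) (.nd (.nd (.lf 0x2e1) (.lf 0x50e)) (.nd (.lf 0x63f) (.lf 0)))))))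
def tabA0_nbabab : Tr := (.nd (.nd (.nd (.nd (.nd (.nd (.lf 0x40) (.lf 0x1db)) (.nd (.lf 0x488) (.lf 0x166))) (.nd (.nd (.lf 0x2c5) (.lf 0x570)) (.nd (.lf 0x436) (.lf 0)))) (.nd (.nd (.nd (.lf 0x1a0) (.lf 0x645)) (.nd (.lf 0x531) (.lf 0x9a))) (.nd (.nd (.lf 0x3bc) (.lf 0x55c)) (.nd (.lf 0x580) (.lf 0))))) (.nd (.nd (.nd (.nd (.lf 0xf3) (.lf 0x3b5)) (.nd (.lf 0x2f0) (.lf 0x4bf))) (.nd (.nd (.lf 0x34a) (.lf 0x182)) (.nd (.lf 0x541) (.lf 0)))) (.nd (.nd (.nd (.lf 0x23d) (.lf 0x4b8)) (.nd (.lf 0x571) (.lf 0x6bd))) (.nd (.nd (.lf 0x295) (.lf 0x64a)) (.nd (.lf 0x636) (.lf 0)))))) (.nd (.nd (.nd (.nd (.nd (.lf 0x9c) (.lf 0x5c7)) (.nd (.lf 0x4ae) (.lf 0x6d6))) (.nd (.nd (.lf 0x300) (.lf 0x42d)) (.nd (.lf 0x5b1) (.lf 0)))) (.nd (.nd (.nd (.lf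 0x1ee) (.lf 0xa9)) (.nd (.lf 0x550) (.lf 0x57d))) (.nd (.nd (.lf 0x3b) (.lf 0x2ed)) (.nd (.lf 0x5d8) (.lf 0))))) (.nd (.nd (.nd (.nd (.lf 0x14b) (.lf 0x453)) (.nd (.lf 0xa6) (.lf 0x69c))) (.nd (.nd (.lf 0x387) (.lf 0x327)) (.nd (.lf 0x353) (.lf 0)))) (.nd (.nd (.nd (.lf 0x17) (.lf 0x228)) (.nd (.lf 0x518) (.lf 0))) (.nd (.nd (.lf 0x457) (.lf 0x30a)) (.nd (.lf 0x3) (.lf 0)))))))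
def tabA0_nbabba : Tr := (.nd (.nd (.nd (.nd (.nd (.nd (.lf 0x28) (.lf 0x45e)) (.nd (.lf 0x117) (.lf 0x444))) (.nd (.nd (.lf 0x2b6) (.lf 0x483)) (.nd (.lf 0x475) (.lf 0)))) (.nd (.nd (.nd (.lf 0x18b) (.lf 0x5d6)) (.nd (.lf 0x52b) (.lf 0x6b2))) (.nd (.nd (.lf 0x3ab) (.lf 0x558)) (.nd (.lf 0x5e4) (.lf 0))))) (.nd (.nd (.nd (.nd (.lf 0xe0) (.lf 0x3a6)) (.nd (.lf 0x4d2) (.lf 0x58f))) (.nd (.nd (.lf 0xe8) (.lf 0x66)) (.nd (.lf 0x10c) (.lf 0)))) (.nd (.nd (.nd (.lf 0x227) (.lf 0x4c3)) (.nd (.lf 0x360) (.lf 0x3ef))) (.nd (.nd (.lf 0x41c) (.lf 0x508)) (.nd (.lf 0x476) (.lf 0)))))) (.nd (.nd (.nd (.nd (.nd (.lf 0x85) (.lf 0x66e)) (.nd (.lf 0x4a3) (.lf 0x525))) (.nd (.nd (.lf 0x2f8) (.lf 0x5de)) (.nd (.lf 0x5cf) (.lf 0)))) (.nd (.nd (.nd (.lf 0x1de)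 (.lf 0x59)) (.nd (.lf 0x54b) (.lf 0x6c4))) (.nd (.nd (.lf 0x3e6) (.lf 0x6cc)) (.nd (.lf 0x623) (.lf 0))))) (.nd (.nd (.nd (.nd (.lf 0x134) (.lf 0x687)) (.nd (.lf 0x506) (.lf 0x198))) (.nd (.nd (.lf 0x2d1) (.lf 0x412)) (.nd (.lf 0x566) (.lf 0)))) (.nd (.nd (.nd (.lf 0x272) (.lf 0x382)) (.nd (.lf 0x592) (.lf 0))) (.nd (.nd (.lf 0x3c9) (.lf 0x22f)) (.nd (.lf 0x595) (.lf 0)))))))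
def tabA0_nbabbb : Tr := (.nd (.nd (.nd (.nd (.nd (.nd (.lf 0x58) (.lf 0x4a9)) (.nd (.lf 0x318) (.lf 0x6c6))) (.nd (.nd (.lf 0x2d6) (.lf 0x28f)) (.nd (.lf 0x9b) (.lf 0)))) (.nd (.nd (.nd (.lf 0x1b6) (.lf 0x637)) (.nd (.lf 0x44d) (.lf 0x628))) (.nd (.nd (.lf 0x31c) (.lf 0x47b)) (.nd (.lf 0x61a) (.lf 0))))) (.nd (.nd (.nd (.nd (.lf 0x10b) (.lf 0x39c)) (.nd (.lf 0x4ec) (.lf 0x24d))) (.nd (.nd (.lf 0x358) (.lf 0x642)) (.nd (.lf 0x49b) (.lf 0)))) (.nd (.nd (.nd (.lf 0x24f) (.lf 0x20f)) (.nd (.lf 0x57a) (.lf 0))) (.nd (.nd (.lf 0x22b) (.lf 0x6b1)) (.nd (.lf 0x5d2) (.lf 0)))))) (.nd (.nd (.nd (.nd (.nd (.lf 0xb3) (.lf 0x543)) (.nd (.lf 0x4b9) (.lf 0x3ff))) (.nd (.nd (.lf 0x319) (.lf 0x7a)) (.nd (.lf 0x59d) (.lf 0)))) (.nd (.nd (.nd (.lf 0x65)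 (.lf 0x530)) (.nd (.lf 0x2b7) (.lf 0x553))) (.nd (.nd (.lf 0x407) (.lf 0x265)) (.nd (.lf 0x62d) (.lf 0))))) (.nd (.nd (.nd (.nd (.lf 0x162) (.lf 0x68f)) (.nd (.lf 0x41e) (.lf 0x5c1))) (.nd (.nd (.lf 0x2ad) (.lf 0x4d6)) (.nd (.lf 0x189) (.lf 0)))) (.nd (.nd (.nd (.lf 0x294) (.lf 0x601)) (.nd (.lf 0x45f) (.lf 0))) (.nd (.nd (.lf 0x3a5) (.lf 0x10e)) (.nd (.lf 0x583) (.lf 0)))))))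
def tabA0_nbbaaa : Tr := (.nd (.nd (.nd (.nd (.nd (.nd (.lf 0xa) (.lf 0x226)) (.nd (.lf 0x40f) (.lf 0x584))) (.nd (.nd (.lf 0xad) (.lf 0x12)) (.nd (.lf 0x440) (.lf 0)))) (.nd (.nd (.nd (.lf 0x172) (.lf 0x3d6)) (.nd (.lf 0x521) (.lf 0x201))) (.nd (.nd (.lf 0x399) (.lf 0x236)) (.nd (.lf 0x103) (.lf 0))))) (.nd (.nd (.nd (.nd (.lf 0xc4) (.lf 0x41)) (.nd (.lf 0x4ab) (.lf 0x499))) (.nd (.nd (.lf 0x30f) (.lf 0x6bf)) (.nd (.lf 0x39e) (.lf 0)))) (.nd (.nd (.nd (.lf 0x27) (.lf 0x4bb)) (.nd (.lf 0x15b) (.lf 0x390))) (.nd (.nd (.lf 0x8a) (.lf 0x6a2)) (.nd (.lf 0x4eb) (.lf 0)))))) (.nd (.nd (.nd (.nd (.nd (.lf 0x6a) (.lf 0x3d5)) (.nd (.lf 0x452) (.lf 0x5cb))) (.nd (.nd (.lf 0x2e3) (.lf 0x203)) (.nd (.lf 0x1c0) (.lf 0)))) (.nd (.nd (.nd (.lf 0x1c4)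 (.lf 0x619)) (.nd (.lf 0x323) (.lf 0x48c))) (.nd (.nd (.lf 0x3d4) (.lf 0x5ba)) (.nd (.lf 0x61e) (.lf 0))))) (.nd (.nd (.nd (.nd (.lf 0x11b) (.lf 0x5b9)) (.nd (.lf 0xcd) (.lf 0x80))) (.nd (.nd (.lf 0x363) (.lf 0x588)) (.nd (.lf 0xc5) (.lf 0)))) (.nd (.nd (.nd (.lf 0x25d) (.lf 0x607)) (.nd (.lf 0x581) (.lf 0))) (.nd (.nd (.lf 0x2a2) (.lf 0x629)) (.nd (.lf 0x5a3) (.lf 0)))))))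
def tabA0_nbbaab : Tr := (.nd (.nd (.nd (.nd (.nd (.nd (.lf 0x3a) (.lf 0x307)) (.nd (.lf 0x19e) (.lf 0x32d))) (.nd (.nd (.lf 0x2c2) (.lf 0x6bb)) (.nd (.lf 0x5b3) (.lf 0)))) (.nd (.nd (.nd (.lf 0x44) (.lf 0x19f)) (.nd (.lf 0x1c8) (.lf 0x5f0))) (.nd (.nd (.lf 0x3b8) (.lf 0x152)) (.nd (.lf 0x2b8) (.lf 0))))) (.nd (.nd (.nd (.nd (.lf 0xf2) (.lf 0x18d)) (.nd (.lf 0x112) (.lf 0x693))) (.nd (.nd (.lf 0x345) (.lf 0x32c)) (.nd (.lf 0x57f) (.lf 0)))) (.nd (.nd (.nd (.lf 0x238) (.lf 0x14f)) (.nd (.lf 0x56e) (.lf 0x6da))) (.nd (.nd (.lf 0x425) (.lf 0x3a8)) (.nd (.lf 0x2a3) (.lf 0)))))) (.nd (.nd (.nd (.nd (.nd (.lf 0x96) (.lf 0x2b4)) (.nd (.lf 0x4aa) (.lf 0x406))) (.nd (.nd (.lf 0x302) (.lf 0x177)) (.nd (.lf 0x519) (.lf 0)))) (.nd (.nd (.nd (.lf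 0x35) (.lf 0x135)) (.nd (.lf 0x4bd) (.lf 0x68c))) (.nd (.nd (.lf 0xb0) (.lf 0x4c2)) (.nd (.lf 0x517) (.lf 0))))) (.nd (.nd (.nd (.nd (.lf 0x145) (.lf 0x68b)) (.nd (.lf 0x50c) (.lf 0x34e))) (.nd (.nd (.lf 0x381) (.lf 0x3c8)) (.nd (.lf 0x1d3) (.lf 0)))) (.nd (.nd (.nd (.lf 0x1bb) (.lf 0x163)) (.nd (.lf 0x423) (.lf 0))) (.nd (.nd (.lf 0x169) (.lf 0x667)) (.nd (.lf 0x5bb) (.lf 0)))))))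
def tabA0_nbbaba : Tr := (.nd (.nd (.nd (.nd (.nd (.nd (.lf 0x22) (.lf 0x655)) (.nd (.lf 0x47a) (.lf 0x47c))) (.nd (.nd (.lf 0x2b1) (.lf 0x371)) (.nd (.lf 0x2ab) (.lf 0)))) (.nd (.nd (.nd (.lf 0x187) (.lf 0x5a)) (.nd (.lf 0x31e) (.lf 0x551))) (.nd (.nd (.lf 0x25b) (.lf 0x6c8)) (.nd (.lf 0x28c) (.lf 0))))) (.nd (.nd (.nd (.nd (.lf 0xdb) (.lf 0x49e)) (.nd (.lf 0x4ce) (.lf 0x33))) (.nd (.nd (.lf 0x124) (.lf 0x55a)) (.nd (.lf 0x3fd) (.lf 0)))) (.nd (.nd (.nd (.lf 0x224) (.lf 0x694)) (.nd (.lf 0x568) (.lf 0x6d3))) (.nd (.nd (.lf 0x418) (.lf 0x4e4)) (.nd (.lf 0x633) (.lf 0)))))) (.nd (.nd (.nd (.nd (.nd (.lf 0x81) (.lf 0x4f8)) (.nd (.lf 0x310) (.lf 0x490))) (.nd (.nd (.lf 0x2f3) (.lf 0x6be)) (.nd (.lf 0x5ce) (.lf 0)))) (.nd (.nd (.nd (.lf 0x1d9)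 (.lf 0x65e)) (.nd (.lf 0x9e) (.lf 0x3c7))) (.nd (.nd (.lf 0x3e2) (.lf 0x395)) (.nd (.lf 0x5e7) (.lf 0))))) (.nd (.nd (.nd (.nd (.lf 0xd9) (.lf 0x2ca)) (.nd (.lf 0xa4) (.lf 0x2d4))) (.nd (.nd (.lf 0x373) (.lf 0x3c2)) (.nd (.lf 0x432) (.lf 0)))) (.nd (.nd (.nd (.lf 0x26d) (.lf 0x332)) (.nd (.lf 0x58e) (.lf 0))) (.nd (.nd (.lf 0x1df) (.lf 0x692)) (.nd (.lf 0x644) (.lf 0)))))))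
def tabA0_nbbabb : Tr := (.nd (.nd (.nd (.nd (.nd (.nd (.lf 0x52) (.lf 0x63e)) (.nd (.lf 0x491) (.lf 0x615))) (.nd (.nd (.lf 0x2d0) (.lf 0x6a5)) (.nd (.lf 0x53c) (.lf 0)))) (.nd (.nd (.nd (.lf 0x1b0) (.lf 0x4d4)) (.nd (.lf 0x2d9) (.lf 0x66b))) (.nd (.nd (.lf 0x3c5) (.lf 0x4cd)) (.nd (.lf 0x114) (.lf 0))))) (.nd (.nd (.nd (.nd (.lf 0x106) (.lf 0x669)) (.nd (.lf 0x4e9) (.lf 0x18c))) (.nd (.nd (.lf 0x24) (.lf 0xdf)) (.nd (.lf 0x305) (.lf 0)))) (.nd (.nd (.nd (.lf 0x24b) (.lf 0x119)) (.nd (.lf 0x577) (.lf 0))) (.nd (.nd (.lf 0x430) (.lf 0x656)) (.nd (.lf 0x617) (.lf 0)))))) (.nd (.nd (.nd (.nd (.nd (.lf 0xae) (.lf 0x5c)) (.nd (.lf 0x4b7) (.lf 0x29e))) (.nd (.nd (.lf 0x313) (.lf 0x559)) (.nd (.lf 0x5d7) (.lf 0)))) (.nd (.nd (.nd (.lf 0x1fd)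 (.lf 0x337)) (.nd (.lf 0x2e6) (.lf 0x631))) (.nd (.nd (.lf 0x402) (.lf 0x648)) (.nd (.lf 0x48b) (.lf 0))))) (.nd (.nd (.nd (.nd (.lf 0x15c) (.lf 0x68e)) (.nd (.lf 0x211) (.lf 0x30))) (.nd (.nd (.lf 0x38e) (.lf 0x526)) (.nd (.lf 0x536) (.lf 0)))) (.nd (.nd (.nd (.lf 0x290) (.lf 0x350)) (.nd (.lf 0x291) (.lf 0))) (.nd (.nd (.lf 0x462) (.lf 0x6ce)) (.nd (.lf 0x261) (.lf 0)))))))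
def tabA0_nbbbaa : Tr := (.nd (.nd (.nd (.nd (.nd (.nd (.lf 0x16) (.lf 0x654)) (.nd (.lf 0x5d) (.lf 0x4fd))) (.nd (.nd (.lf 0x237) (.lf 0x6b7)) (.nd (.lf 0x219) (.lf 0)))) (.nd (.nd (.nd (.lf 0x17b) (.lf 0x43b)) (.nd (.lf 0x355) (.lf 0x26c))) (.nd (.nd (.lf 0x18) (.lf 0x660)) (.nd (.lf 0x56f) (.lf 0))))) (.nd (.nd (.nd (.nd (.lf 0xcf) (.lf 0x111)) (.nd (.lf 0x4ca) (.lf 0x3bd))) (.nd (.nd (.lf 0x2c3) (.lf 0x505)) (.nd (.lf 0xac) (.lf 0)))) (.nd (.nd (.nd (.lf 0x21d) (.lf 0x253)) (.nd (.lf 0x49c) (.lf 0xf6))) (.nd (.nd (.lf 0x413) (.lf 0x5fc)) (.nd (.lf 0x23a) (.lf 0)))))) (.nd (.nd (.nd (.nd (.nd (.lf 0x76) (.lf 0x5c8)) (.nd (.lf 0x208) (.lf 0x37a))) (.nd (.nd (.lf 0x107) (.lf 0x69f)) (.nd (.lf 0x46c) (.lf 0)))) (.nd (.nd (.nd (.lf 0x1cf)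 (.lf 0x5fe)) (.nd (.lf 0x546) (.lf 0x3dc))) (.nd (.nd (.lf 0x3da) (.lf 0x338)) (.nd (.lf 0x342) (.lf 0))))) (.nd (.nd (.nd (.nd (.lf 0x126) (.lf 0x36d)) (.nd (.lf 0x4ff) (.lf 0x67f))) (.nd (.nd (.lf 0x60) (.lf 0x691)) (.nd (.lf 0x534) (.lf 0)))) (.nd (.nd (.nd (.lf 0x267) (.lf 0x14a)) (.nd (.lf 0x4fc) (.lf 0))) (.nd (.nd (.lf 0x442) (.lf 0xfc)) (.nd (.lf 0x47e) (.lf 0)))))))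
def tabA0_nbbbab : Tr := (.nd (.nd (.nd (.nd (.nd (.nd (.lf 0x46) (.lf 0x4ac)) (.nd (.lf 0x36) (.lf 0x6c))) (.nd (.nd (.lf 0x2c9) (.lf 0xa3)) (.nd (.lf 0x5b7) (.lf 0)))) (.nd (.nd (.nd (.lf 0x1a6) (.lf 0x650)) (.nd (.lf 0xf9) (.lf 0x4c0))) (.nd (.nd (.lf 0x3bf) (.lf 0x249)) (.nd (.lf 0x613) (.lf 0))))) (.nd (.nd (.nd (.nd (.lf 0xfb) (.lf 0x533)) (.nd (.lf 0x4e1) (.lf 0x612))) (.nd (.nd (.lf 0x19a) (.lf 0x1b5)) (.nd (.lf 0x11f) (.lf 0)))) (.nd (.nd (.nd (.lf 0x241) (.lf 0x489)) (.nd (.lf 0x35c) (.lf 0x6))) (.nd (.nd (.lf 0x428) (.lf 0x183)) (.nd (.lf 0x2f) (.lf 0)))))) (.nd (.nd (.nd (.nd (.nd (.lf 0xa2) (.lf 0x3e8)) (.nd (.lf 0x2e7) (.lf 0xc6))) (.nd (.nd (.lf 0x30b) (.lf 0x1ac)) (.nd (.lf 0x4f6) (.lf 0)))) (.nd (.nd (.nd (.lf 0x1f3)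 (.lf 0x27e)) (.nd (.lf 0x4af) (.lf 0x273))) (.nd (.nd (.lf 0x3fc) (.lf 0x5ee)) (.nd (.lf 0x4fe) (.lf 0))))) (.nd (.nd (.nd (.nd (.lf 0x151) (.lf 0x89)) (.nd (.lf 0x50f) (.lf 0x141))) (.nd (.nd (.lf 0x389) (.lf 0x2d2)) (.nd (.lf 0x98) (.lf 0)))) (.nd (.nd (.nd (.lf 0x289) (.lf 0x5ac)) (.nd (.lf 0x4b4) (.lf 0))) (.nd (.nd (.lf 0x45b) (.lf 0x515)) (.nd (.lf 0xb) (.lf 0)))))))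
def tabA0_nbbbba : Tr := (.nd (.nd (.nd (.nd (.nd (.nd (.lf 0x2e) (.lf 0x4a8)) (.nd (.lf 0x150) (.lf 0x5e1))) (.nd (.nd (.lf 0x2bb) (.lf 0x6b9)) (.nd (.lf 0x3f5) (.lf 0)))) (.nd (.nd (.nd (.lf 0x190) (.lf 0x487)) (.nd (.lf 0x4c8) (.lf 0x5bf))) (.nd (.nd (.lf 0x1c9) (.lf 0x1ab)) (.nd (.lf 0x60f) (.lf 0))))) (.nd (.nd (.nd (.nd (.lf 0xe6) (.lf 0x2fa)) (.nd (.lf 0x3ea) (.lf 0x4a))) (.nd (.nd (.lf 0x33c) (.lf 0x671)) (.nd (.lf 0x5e8) (.lf 0)))) (.nd (.nd (.nd (.lf 0x22d) (.lf 0x608)) (.nd (.lf 0x1a1) (.lf 0x131))) (.nd (.nd (.lf 0x41f) (.lf 0x1d2)) (.nd (.lf 0x47) (.lf 0)))))) (.nd (.nd (.nd (.nd (.nd (.lf 0x8b) (.lf 0x66f)) (.nd (.lf 0x4a5) (.lf 0x94))) (.nd (.nd (.lf 0x2fb) (.lf 0x5af)) (.nd (.lf 0x1aa) (.lf 0)))) (.nd (.nd (.nd (.lf 0x1e2)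 (.lf 0x594)) (.nd (.lf 0x0) (.lf 0x684))) (.nd (.nd (.lf 0x2e9) (.lf 0x6b0)) (.nd (.lf 0x11) (.lf 0))))) (.nd (.nd (.nd (.nd (.lf 0x13a) (.lf 0x77)) (.nd (.lf 0x3a3) (.lf 0x266))) (.nd (.nd (.lf 0x37c) (.lf 0x4a7)) (.nd (.lf 0x23e) (.lf 0)))) (.nd (.nd (.nd (.lf 0x277) (.lf 0x59b)) (.nd (.lf 0x1e1) (.lf 0))) (.nd (.nd (.lf 0x221) (.lf 0x38a)) (.nd (.lf 0x38) (.lf 0)))))))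
def tabA0_nbbbbb : Tr := (.nd (.nd (.nd (.nd (.nd (.nd (.lf 0x5e) (.lf 0x549)) (.nd (.lf 0x357) (.lf 0x185))) (.nd (.nd (.lf 0x6e) (.lf 0x51e)) (.nd (.lf 0x1bc) (.lf 0)))) (.nd (.nd (.nd (.lf 0x1ba) (.lf 0x55d)) (.nd (.lf 0x53b) (.lf 0x367))) (.nd (.nd (.lf 0x3cb) (.lf 0x6c0)) (.nd (.lf 0xc1) (.lf 0))))) (.nd (.nd (.nd (.nd (.lf 0x110) (.lf 0x27c)) (.nd (.lf 0x4f0) (.lf 0x41a))) (.nd (.nd (.lf 0x35d) (.lf 0x20b)) (.nd (.lf 0x33b) (.lf 0)))) (.nd (.nd (.nd (.lf 0x254) (.lf 0x2e2)) (.nd (.lf 0x197) (.lf 0))) (.nd (.nd (.lf 0x3f3) (.lf 0x6d5)) (.nd (.lf 0x63b) (.lf 0)))))) (.nd (.nd (.nd (.nd (.nd (.lf 0xb9) (.lf 0x3b1)) (.nd (.lf 0x405) (.lf 0x5ff))) (.nd (.nd (.lf 0x2d8) (.lf 0x498)) (.nd (.lf 0x5dc) (.lf 0)))) (.nd (.nd (.nd (.lf 0x207)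 (.lf 0x6a1)) (.nd (.lf 0x38b) (.lf 0x6a7))) (.nd (.nd (.lf 0x40b) (.lf 0x465)) (.nd (.lf 0x240) (.lf 0))))) (.nd (.nd (.nd (.nd (.lf 0x168) (.lf 0x121)) (.nd (.lf 0x51a) (.lf 0x322))) (.nd (.nd (.lf 0x1e9) (.lf 0x662)) (.nd (.lf 0x1f1) (.lf 0)))) (.nd (.nd (.nd (.lf 0x298) (.lf 0x233)) (.nd (.lf 0x59a) (.lf 0))) (.nd (.nd (.lf 0x308) (.lf 0x20c)) (.nd (.lf 0x108) (.lf 0)))))))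
def tabA0 : Tr := (.nd (.nd (.nd (.nd (.nd tabA0_naaaaa tabA0_naaaab) (.nd tabA0_naaaba tabA0_naaabb)) (.nd (.nd tabA0_naabaa tabA0_naabab) (.nd tabA0_naabba tabA0_naabbb))) (.nd (.nd (.nd tabA0_nabaaa tabA0_nabaab) (.nd tabA0_nababa tabA0_nababb)) (.nd (.nd tabA0_nabbaa tabA0_nabbab) (.nd tabA0_nabbba tabA0_nabbbb)))) (.nd (.nd (.nd (.nd tabA0_nbaaaa tabA0_nbaaab) (.nd tabA0_nbaaba tabA0_nbaabb)) (.nd (.nd tabA0_nbabaa tabA0_nbabab) (.nd tabA0_nbabba tabA0_nbabbb))) (.nd (.nd (.nd tabA0_nbbaaa tabA0_nbbaab) (.nd tabA0_nbbaba tabA0_nbbabb)) (.nd (.nd tabA0_nbbbaa tabA0_nbbbab) (.nd tabA0_nbbbba tabA0_nbbbbb)))))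
def tabA1_naaaaa : Tr := (.nd (.nd (.nd (.nd (.nd (.nd (.lf 0x2) (.lf 0x502)) (.nd (.lf 0x1a0) (.lf 0x665))) (.nd (.nd (.lf 0x29c) (.lf 0x27c)) (.nd (.lf 0x59c) (.lf 0)))) (.nd (.nd (.nd (.lf 0x16c) (.lf 0xc)) (.nd (.lf 0x51c) (.lf 0x662))) (.nd (.nd (.lf 0xe6) (.lf 0x4c3)) (.nd (.lf 0x33b) (.lf 0))))) (.nd (.nd (.nd (.nd (.lf 0xbd) (.lf 0x15e)) (.nd (.lf 0x3e6) (.lf 0x3fe))) (.nd (.nd (.lf 0x31e) (.lf 0x5fb)) (.nd (.lf 0x5de) (.lf 0)))) (.nd (.nd (.nd (.lf 0x20b) (.lf 0x347)) (.nd (.lf 0x380) (.lf 0x6d6))) (.nd (.nd (.lf 0x226) (.lf 0x3)) (.nd (.lf 0x62f) (.lf 0)))))) (.nd (.nd (.nd (.nd (.nd (.lf 0x62) (.lf 0x663)) (.nd (.lf 0x497) (.lf 0x3a9))) (.nd (.nd (.lf 0x2dc) (.lf 0x421)) (.nd (.lf 0x461) (.lf 0)))) (.nd (.nd (.nd (.lf 0x1bc)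 (.lf 0xc9)) (.nd (.lf 0x53d) (.lf 0x4ce))) (.nd (.nd (.lf 0x376) (.lf 0x6d0)) (.nd (.lf 0x592) (.lf 0))))) (.nd (.nd (.nd (.nd (.lf 0x113) (.lf 0x2c2)) (.nd (.lf 0x13b) (.lf 0x6a9))) (.nd (.nd (.lf 0xe3) (.lf 0x2bd)) (.nd (.lf 0x1ac) (.lf 0)))) (.nd (.nd (.nd (.lf 0x256) (.lf 0x4ed)) (.nd (.lf 0x57f) (.lf 0))) (.nd (.nd (.lf 0x1f7) (.lf 0x21e)) (.nd (.lf 0x30c) (.lf 0)))))))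
def tabA1_naaaab : Tr := (.nd (.nd (.nd (.nd (.nd (.nd (.lf 0x32) (.lf 0x61b)) (.nd (.lf 0x480) (.lf 0x632))) (.nd (.nd (.lf 0x1c9) (.lf 0x595)) (.nd (.lf 0x5af) (.lf 0)))) (.nd (.nd (.nd (.lf 0x194) (.lf 0x186)) (.nd (.lf 0x3b6) (.lf 0x32e))) (.nd (.nd (.lf 0x3b3) (.lf 0x6ce)) (.nd (.lf 0x436) (.lf 0))))) (.nd (.nd (.nd (.nd (.lf 0xea) (.lf 0x12d)) (.nd (.lf 0x44b) (.lf 0x630))) (.nd (.nd (.lf 0x33f) (.lf 0x3aa)) (.nd (.lf 0x1de) (.lf 0)))) (.nd (.nd (.nd (.lf 0x231) (.lf 0x66f)) (.nd (.lf 0x56b) (.lf 0x69e))) (.nd (.nd (.lf 0x19d) (.lf 0x158)) (.nd (.lf 0xfe) (.lf 0)))))) (.nd (.nd (.nd (.nd (.nd (.lf 0x8f) (.lf 0x647)) (.nd (.lf 0x4a7) (.lf 0x190))) (.nd (.nd (.lf 0x2fc) (.lf 0x67c)) (.nd (.lf 0x393) (.lf 0)))) (.nd (.nd (.nd (.lf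 0x1e5) (.lf 0x68b)) (.nd (.lf 0x54c) (.lf 0x9e))) (.nd (.nd (.lf 0x3ef) (.lf 0x351)) (.nd (.lf 0x50d) (.lf 0))))) (.nd (.nd (.nd (.nd (.lf 0x13d) (.lf 0x689)) (.nd (.lf 0x508) (.lf 0x6af))) (.nd (.nd (.lf 0x1ea) (.lf 0x2c5)) (.nd (.lf 0x601) (.lf 0)))) (.nd (.nd (.nd (.lf 0x27b) (.lf 0x413)) (.nd (.lf 0x262) (.lf 0))) (.nd (.nd (.lf 0x44f) (.lf 0x2a)) (.nd (.lf 0x648) (.lf 0)))))))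
def tabA1_naaaba : Tr := (.nd (.nd (.nd (.nd (.nd (.nd (.lf 0x1a) (.lf 0x2b)) (.nd (.lf 0x16f) (.lf 0x687))) (.nd (.nd (.lf 0x2aa) (.lf 0x24d)) (.nd (.lf 0x5a7) (.lf 0)))) (.nd (.nd (.nd (.lf 0x17f) (.lf 0x51d)) (.nd (.lf 0x527) (.lf 0x1c3))) (.nd (.nd (.lf 0x57) (.lf 0x6cc)) (.nd (.lf 0xd) (.lf 0))))) (.nd (.nd (.nd (.nd (.lf 0xd3) (.lf 0x476)) (.nd (.lf 0x4cc) (.lf 0x316))) (.nd (.nd (.lf 0x16d) (.lf 0x6c5)) (.nd (.lf 0x2ef) (.lf 0)))) (.nd (.nd (.nd (.lf 0x220) (.lf 0x3d7)) (.nd (.lf 0x50a) (.lf 0x20a))) (.nd (.nd (.lf 0x415) (.lf 0x3e8)) (.nd (.lf 0x39f) (.lf 0)))))) (.nd (.nd (.nd (.nd (.nd (.lf 0x79) (.lf 0x60)) (.nd (.lf 0x49e) (.lf 0x56f))) (.nd (.nd (.lf 0x2ed) (.lf 0x2bf)) (.nd (.lf 0x5ca) (.lf 0)))) (.nd (.nd (.nd (.lf 0x1d2)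 (.lf 0x579)) (.nd (.lf 0x3f) (.lf 0x6b2))) (.nd (.nd (.lf 0x3dc) (.lf 0x581)) (.nd (.lf 0x1e1) (.lf 0))))) (.nd (.nd (.nd (.nd (.lf 0x129) (.lf 0x141)) (.nd (.lf 0x23d) (.lf 0x4fa))) (.nd (.nd (.lf 0x36f) (.lf 0x6ba)) (.nd (.lf 0x5fc) (.lf 0)))) (.nd (.nd (.nd (.lf 0x117) (.lf 0x293)) (.nd (.lf 0x58a) (.lf 0))) (.nd (.nd (.lf 0x444) (.lf 0x4f9)) (.nd (.lf 0x641) (.lf 0)))))))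
def tabA1_naaabb : Tr := (.nd (.nd (.nd (.nd (.nd (.nd (.lf 0x4a) (.lf 0x3a3)) (.nd (.lf 0x48c) (.lf 0x69f))) (.nd (.nd (.lf 0x2cc) (.lf 0x3b9)) (.nd (.lf 0x4b9) (.lf 0)))) (.nd (.nd (.nd (.lf 0x1aa) (.lf 0x693)) (.nd (.lf 0x4b7) (.lf 0x4ec))) (.nd (.nd (.lf 0x126) (.lf 0x221)) (.nd (.lf 0x45b) (.lf 0))))) (.nd (.nd (.nd (.nd (.lf 0xff) (.lf 0x3df)) (.nd (.lf 0x4e3) (.lf 0xde))) (.nd (.nd (.lf 0x8d) (.lf 0x156)) (.nd (.lf 0x52f) (.lf 0)))) (.nd (.nd (.nd (.lf 0x245) (.lf 0x6ab)) (.nd (.lf 0x575) (.lf 0x42a))) (.nd (.nd (.lf 0x2dd) (.lf 0x2c0)) (.nd (.lf 0x49a) (.lf 0)))))) (.nd (.nd (.nd (.nd (.nd (.lf 0xa6) (.lf 0x370)) (.nd (.lf 0x4b4) (.lf 0xc3))) (.nd (.nd (.lf 0x30d) (.lf 0x3d)) (.nd (.lf 0x320) (.lf 0)))) (.nd (.nd (.nd (.lf 0x1f6)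 (.lf 0x492)) (.nd (.lf 0x4ef) (.lf 0x42c))) (.nd (.nd (.lf 0x3ff) (.lf 0x232)) (.nd (.lf 0x1c) (.lf 0))))) (.nd (.nd (.nd (.nd (.lf 0x154) (.lf 0x3f0)) (.nd (.lf 0x46b) (.lf 0x54d))) (.nd (.nd (.lf 0x38b) (.lf 0x6ad)) (.nd (.lf 0x33a) (.lf 0)))) (.nd (.nd (.nd (.lf 0x28c) (.lf 0x26a)) (.nd (.lf 0x7a) (.lf 0))) (.nd (.nd (.lf 0x45e) (.lf 0x60f)) (.nd (.lf 0x10d) (.lf 0)))))))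
def tabA1_naabaa : Tr := (.nd (.nd (.nd (.nd (.nd (.nd (.lf 0xe) (.lf 0x319)) (.nd (.lf 0x296) (.lf 0x6cd))) (.nd (.nd (.lf 0x2a3) (.lf 0x5d9)) (.nd (.lf 0x5a3) (.lf 0)))) (.nd (.nd (.nd (.lf 0x28) (.lf 0x655)) (.nd (.lf 0x522) (.lf 0x4a6))) (.nd (.nd (.lf 0x39b) (.lf 0x53e)) (.nd (.lf 0x365) (.lf 0))))) (.nd (.nd (.nd (.nd (.lf 0xc8) (.lf 0x500)) (.nd (.lf 0x4c4) (.lf 0xb5))) (.nd (.nd (.lf 0x327) (.lf 0x155)) (.nd (.lf 0x5e1) (.lf 0)))) (.nd (.nd (.nd (.lf 0x215) (.lf 0x6a4)) (.nd (.lf 0x561) (.lf 0x53a))) (.nd (.nd (.lf 0x274) (.lf 0x3bb)) (.nd (.lf 0x162) (.lf 0)))))) (.nd (.nd (.nd (.nd (.nd (.lf 0x6e) (.lf 0x516)) (.nd (.lf 0x48) (.lf 0x638))) (.nd (.nd (.lf 0x2e6) (.lf 0x392)) (.nd (.lf 0x344) (.lf 0)))) (.nd (.nd (.nd (.lf 0x1c8)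 (.lf 0x501)) (.nd (.lf 0x219) (.lf 0x6cb))) (.nd (.nd (.lf 0x3d6) (.lf 0x167)) (.nd (.lf 0xd2) (.lf 0))))) (.nd (.nd (.nd (.nd (.lf 0x11f) (.lf 0x7d)) (.nd (.lf 0x36c) (.lf 0x37b))) (.nd (.nd (.lf 0x366) (.lf 0x61d)) (.nd (.lf 0x5f9) (.lf 0)))) (.nd (.nd (.nd (.lf 0x137) (.lf 0x120)) (.nd (.lf 0x583) (.lf 0))) (.nd (.nd (.lf 0x43c) (.lf 0x31d)) (.nd (.lf 0xdb) (.lf 0)))))))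
def tabA1_naabab : Tr := (.nd (.nd (.nd (.nd (.nd (.nd (.lf 0x3e) (.lf 0x2e0)) (.nd (.lf 0x487) (.lf 0x19))) (.nd (.nd (.lf 0xd1) (.lf 0x2e)) (.nd (.lf 0x5b4) (.lf 0)))) (.nd (.nd (.nd (.lf 0x19e) (.lf 0x5f4)) (.nd (.lf 0x2d0) (.lf 0xaa))) (.nd (.nd (.lf 0x3ba) (.lf 0x32b)) (.nd (.lf 0x459) (.lf 0))))) (.nd (.nd (.nd (.nd (.lf 0xf5) (.lf 0x4de)) (.nd (.lf 0x4dd) (.lf 0x1a5))) (.nd (.nd (.lf 0x348) (.lf 0x3a0)) (.nd (.lf 0x402) (.lf 0)))) (.nd (.nd (.nd (.lf 0x93) (.lf 0x528)) (.nd (.lf 0x570) (.lf 0x594))) (.nd (.nd (.lf 0x198) (.lf 0x5d7)) (.nd (.lf 0x529) (.lf 0)))))) (.nd (.nd (.nd (.nd (.nd (.lf 0x9a) (.lf 0x110)) (.nd (.lf 0x4ac) (.lf 0x472))) (.nd (.nd (.lf 0x305) (.lf 0x690)) (.nd (.lf 0x59d) (.lf 0)))) (.nd (.nd (.nd (.lf 0x1ed)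 (.lf 0x2d3)) (.nd (.lf 0x23f) (.lf 0x3a2))) (.nd (.nd (.lf 0x3f8) (.lf 0x33)) (.nd (.lf 0x4ea) (.lf 0))))) (.nd (.nd (.nd (.nd (.lf 0x149) (.lf 0x350)) (.nd (.lf 0x200) (.lf 0x6d9))) (.nd (.nd (.lf 0x385) (.lf 0x14d)) (.nd (.lf 0x36b) (.lf 0)))) (.nd (.nd (.nd (.lf 0x284) (.lf 0x3cb)) (.nd (.lf 0x192) (.lf 0))) (.nd (.nd (.lf 0x455) (.lf 0x47c)) (.nd (.lf 0x2c7) (.lf 0)))))))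
def tabA1_naabba : Tr := (.nd (.nd (.nd (.nd (.nd (.nd (.lf 0x26) (.lf 0x40)) (.nd (.lf 0x83) (.lf 0x3a4))) (.nd (.nd (.lf 0x2b4) (.lf 0x6b8)) (.nd (.lf 0x40f) (.lf 0)))) (.nd (.nd (.nd (.lf 0xb8) (.lf 0x214)) (.nd (.lf 0x12a) (.lf 0x150))) (.nd (.nd (.lf 0x85) (.lf 0x227)) (.nd (.lf 0x24a) (.lf 0))))) (.nd (.nd (.nd (.nd (.lf 0x5e) (.lf 0x1fa)) (.nd (.lf 0x4d0) (.lf 0x5b8))) (.nd (.nd (.lf 0x336) (.lf 0x38f)) (.nd (.lf 0x3f4) (.lf 0)))) (.nd (.nd (.nd (.lf 0xa1) (.lf 0x3f9)) (.nd (.lf 0x3e2) (.lf 0x5a9))) (.nd (.nd (.lf 0x416) (.lf 0x68c)) (.nd (.lf 0x374) (.lf 0)))))) (.nd (.nd (.nd (.nd (.nd (.lf 0x84) (.lf 0x506)) (.nd (.lf 0x2e5) (.lf 0x5b1))) (.nd (.nd (.lf 0x2f7) (.lf 0x67e)) (.nd (.lf 0x57a) (.lf 0)))) (.nd (.nd (.nd (.lf 0x1d6)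 (.lf 0x699)) (.nd (.lf 0x545) (.lf 0x5d6))) (.nd (.nd (.lf 0x3e5) (.lf 0x234)) (.nd (.lf 0x173) (.lf 0))))) (.nd (.nd (.nd (.nd (.lf 0x132) (.lf 0x555)) (.nd (.lf 0x4) (.lf 0x57d))) (.nd (.nd (.lf 0x375) (.lf 0x5b3)) (.nd (.lf 0x5ec) (.lf 0)))) (.nd (.nd (.nd (.lf 0x270) (.lf 0x271)) (.nd (.lf 0x591) (.lf 0))) (.nd (.nd (.lf 0x449) (.lf 0x38a)) (.nd (.lf 0x291) (.lf 0)))))))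
def tabA1_naabbb : Tr := (.nd (.nd (.nd (.nd (.nd (.nd (.lf 0x56) (.lf 0x590)) (.nd (.lf 0x379) (.lf 0xcb))) (.nd (.nd (.lf 0x2d4) (.lf 0x2df)) (.nd (.lf 0x5ba) (.lf 0)))) (.nd (.nd (.nd (.lf 0x1b4) (.lf 0x464)) (.nd (.lf 0x539) (.lf 0x6d5))) (.nd (.nd (.lf 0x273) (.lf 0x604)) (.nd (.lf 0x4c) (.lf 0))))) (.nd (.nd (.nd (.nd (.lf 0x109) (.lf 0x683)) (.nd (.lf 0x4eb) (.lf 0x11d))) (.nd (.nd (.lf 0x357) (.lf 0x2cf)) (.nd (.lf 0x5f2) (.lf 0)))) (.nd (.nd (.nd (.lf 0x1f8) (.lf 0x1d4)) (.nd (.lf 0x4c5) (.lf 0))) (.nd (.nd (.lf 0x1dc) (.lf 0x330)) (.nd (.lf 0x63a) (.lf 0)))))) (.nd (.nd (.nd (.nd (.nd (.lf 0xb2) (.lf 0x3d4)) (.nd (.lf 0x15b) (.lf 0x4b8))) (.nd (.nd (.lf 0x317) (.lf 0x6ae)) (.nd (.lf 0x34a) (.lf 0)))) (.nd (.nd (.nd (.lf 0x201)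 (.lf 0xca)) (.nd (.lf 0x55a) (.lf 0xc1))) (.nd (.nd (.lf 0x405) (.lf 0x526)) (.nd (.lf 0x62c) (.lf 0))))) (.nd (.nd (.nd (.nd (.lf 0x160) (.lf 0x633)) (.nd (.lf 0x3b2) (.lf 0x11a))) (.nd (.nd (.lf 0x331) (.lf 0x48f)) (.nd (.lf 0x605) (.lf 0)))) (.nd (.nd (.nd (.lf 0x20d) (.lf 0x1ec)) (.nd (.lf 0x599) (.lf 0))) (.nd (.nd (.lf 0x165) (.lf 0x598)) (.nd (.lf 0x5d3) (.lf 0)))))))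
def tabA1_nabaaa : Tr := (.nd (.nd (.nd (.nd (.nd (.nd (.lf 0x8) (.lf 0x279)) (.nd (.lf 0x35f) (.lf 0x482))) (.nd (.nd (.lf 0x2a0) (.lf 0x2e8)) (.nd (.lf 0x5a1) (.lf 0)))) (.nd (.nd (.nd (.lf 0x170) (.lf 0xe8)) (.nd (.lf 0x1bd) (.lf 0x18))) (.nd (.nd (.lf 0x398) (.lf 0x653)) (.nd (.lf 0x450) (.lf 0))))) (.nd (.nd (.nd (.nd (.lf 0xc2) (.lf 0xfd)) (.nd (.lf 0x3c2) (.lf 0x64b))) (.nd (.nd (.lf 0x322) (.lf 0x6ac)) (.nd (.lf 0x46a) (.lf 0)))) (.nd (.nd (.nd (.lf 0x211) (.lf 0x6a2)) (.nd (.lf 0x428) (.lf 0x649))) (.nd (.nd (.lf 0x21) (.lf 0x5a4)) (.nd (.lf 0x13f) (.lf 0)))))) (.nd (.nd (.nd (.nd (.nd (.lf 0x68) (.lf 0x2f6)) (.nd (.lf 0x2b5) (.lf 0x566))) (.nd (.nd (.lf 0x2e1) (.lf 0x6bd)) (.nd (.lf 0x5c1) (.lf 0)))) (.nd (.nd (.nd (.lf 0x1c2)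 (.lf 0x547)) (.nd (.lf 0x4c0) (.lf 0x6cf))) (.nd (.nd (.lf 0x3d2) (.lf 0x3e4)) (.nd (.lf 0x56d) (.lf 0))))) (.nd (.nd (.nd (.nd (.lf 0x119) (.lf 0x684)) (.nd (.lf 0x4f6) (.lf 0x381))) (.nd (.nd (.lf 0x282) (.lf 0x4e8)) (.nd (.lf 0x5f7) (.lf 0)))) (.nd (.nd (.nd (.lf 0x25b) (.lf 0x3e1)) (.nd (.lf 0x4e5) (.lf 0))) (.nd (.nd (.lf 0x389) (.lf 0x58d)) (.nd (.lf 0xb6) (.lf 0)))))))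
def tabA1_nabaab : Tr := (.nd (.nd (.nd (.nd (.nd (.nd (.lf 0x38) (.lf 0x424)) (.nd (.lf 0x3f1) (.lf 0x6ca))) (.nd (.nd (.lf 0x49) (.lf 0x356)) (.nd (.lf 0x538) (.lf 0)))) (.nd (.nd (.nd (.lf 0x199) (.lf 0x67a)) (.nd (.lf 0x34d) (.lf 0x6d7))) (.nd (.nd (.lf 0x15) (.lf 0x9c)) (.nd (.lf 0x250) (.lf 0))))) (.nd (.nd (.nd (.nd (.lf 0xf0) (.lf 0x329)) (.nd (.lf 0x4da) (.lf 0x2ee))) (.nd (.nd (.lf 0x343) (.lf 0x6c7)) (.nd (.lf 0x5eb) (.lf 0)))) (.nd (.nd (.nd (.lf 0x236) (.lf 0x6a8)) (.nd (.lf 0x531) (.lf 0x2b9))) (.nd (.nd (.lf 0x423) (.lf 0x360)) (.nd (.lf 0x2eb) (.lf 0)))))) (.nd (.nd (.nd (.nd (.nd (.lf 0x94) (.lf 0x664)) (.nd (.lf 0x3bf) (.lf 0x64e))) (.nd (.nd (.lf 0x300) (.lf 0x41c)) (.nd (.lf 0x3c5) (.lf 0)))) (.nd (.nd (.nd (.lf 0x1e9)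 (.lf 0x10f)) (.nd (.lf 0x54e) (.lf 0x668))) (.nd (.nd (.lf 0x3f3) (.lf 0x174)) (.nd (.lf 0xc7) (.lf 0))))) (.nd (.nd (.nd (.nd (.lf 0x143) (.lf 0x222)) (.nd (.lf 0x0) (.lf 0x3dd))) (.nd (.nd (.lf 0x304) (.lf 0x437)) (.nd (.lf 0x15c) (.lf 0)))) (.nd (.nd (.nd (.lf 0x281) (.lf 0x673)) (.nd (.lf 0x596) (.lf 0))) (.nd (.nd (.lf 0x452) (.lf 0x5ea)) (.nd (.lf 0x5e2) (.lf 0)))))))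
def tabA1_nababa : Tr := (.nd (.nd (.nd (.nd (.nd (.nd (.lf 0x20) (.lf 0x292)) (.nd (.lf 0x479) (.lf 0x550))) (.nd (.nd (.lf 0x2af) (.lf 0x66e)) (.nd (.lf 0x2f2) (.lf 0)))) (.nd (.nd (.nd (.lf 0x185) (.lf 0x504)) (.nd (.lf 0x47d) (.lf 0x670))) (.nd (.nd (.lf 0x3a8) (.lf 0x451)) (.nd (.lf 0x2fa) (.lf 0))))) (.nd (.nd (.nd (.nd (.lf 0xd9) (.lf 0x16a)) (.nd (.lf 0x4cd) (.lf 0x546))) (.nd (.nd (.lf 0x2d6) (.lf 0x5f1)) (.nd (.lf 0x43) (.lf 0)))) (.nd (.nd (.nd (.lf 0x195) (.lf 0x26f)) (.nd (.lf 0x51f) (.lf 0x691))) (.nd (.nd (.lf 0x417) (.lf 0x4fe)) (.nd (.lf 0x31a) (.lf 0)))))) (.nd (.nd (.nd (.nd (.nd (.lf 0x7f) (.lf 0x66a)) (.nd (.lf 0x96) (.lf 0xa2))) (.nd (.nd (.lf 0x75) (.lf 0x3a5)) (.nd (.lf 0x325) (.lf 0)))) (.nd (.nd (.nd (.lf 0x1d8)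 (.lf 0x49c)) (.nd (.lf 0x549) (.lf 0x4f4))) (.nd (.nd (.lf 0x1e4) (.lf 0x22c)) (.nd (.lf 0x441) (.lf 0))))) (.nd (.nd (.nd (.nd (.lf 0x12f) (.lf 0x95)) (.nd (.lf 0x503) (.lf 0x556))) (.nd (.nd (.lf 0x13a) (.lf 0x294)) (.nd (.lf 0x1) (.lf 0)))) (.nd (.nd (.nd (.lf 0x269) (.lf 0x39)) (.nd (.lf 0x6a) (.lf 0))) (.nd (.nd (.lf 0x3b4) (.lf 0x4f8)) (.nd (.lf 0x1c7) (.lf 0)))))))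
def tabA1_nababb : Tr := (.nd (.nd (.nd (.nd (.nd (.nd (.lf 0x50) (.lf 0x639)) (.nd (.lf 0x470) (.lf 0x3c1))) (.nd (.nd (.lf 0x21a) (.lf 0x6a6)) (.nd (.lf 0x2f3) (.lf 0)))) (.nd (.nd (.nd (.lf 0x1ae) (.lf 0x696)) (.nd (.lf 0x4be) (.lf 0x10b))) (.nd (.nd (.lf 0x3c4) (.lf 0xa5)) (.nd (.lf 0x542) (.lf 0))))) (.nd (.nd (.nd (.nd (.lf 0x105) (.lf 0x681)) (.nd (.lf 0x4e7) (.lf 0xad))) (.nd (.nd (.lf 0x353) (.lf 0x18d)) (.nd (.lf 0x5f0) (.lf 0)))) (.nd (.nd (.nd (.lf 0x249) (.lf 0x217)) (.nd (.lf 0x568) (.lf 0x301))) (.nd (.nd (.lf 0x3ca) (.lf 0x76)) (.nd (.lf 0x521) (.lf 0)))))) (.nd (.nd (.nd (.nd (.nd (.lf 0xac) (.lf 0x5f6)) (.nd (.lf 0x24b) (.lf 0x61f))) (.nd (.nd (.lf 0x312) (.lf 0x6c2)) (.nd (.lf 0x589) (.lf 0)))) (.nd (.nd (.nd (.lf 0x1fb)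 (.lf 0xfa)) (.nd (.lf 0x558) (.lf 0x18e))) (.nd (.nd (.lf 0x318) (.lf 0x675)) (.nd (.lf 0x59b) (.lf 0))))) (.nd (.nd (.nd (.nd (.lf 0x15a) (.lf 0x511)) (.nd (.lf 0x513) (.lf 0x14e))) (.nd (.nd (.lf 0x38c) (.lf 0xf6)) (.nd (.lf 0x187) (.lf 0)))) (.nd (.nd (.nd (.lf 0x51) (.lf 0x6b1)) (.nd (.lf 0x4e) (.lf 0))) (.nd (.nd (.lf 0x18b) (.lf 0x430)) (.nd (.lf 0x64c) (.lf 0)))))))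
def tabA1_nabbaa : Tr := (.nd (.nd (.nd (.nd (.nd (.nd (.lf 0x14) (.lf 0x131)) (.nd (.lf 0x473) (.lf 0x640))) (.nd (.nd (.lf 0x2a8) (.lf 0xd4)) (.nd (.lf 0x496) (.lf 0)))) (.nd (.nd (.nd (.lf 0x179) (.lf 0x42b)) (.nd (.lf 0x525) (.lf 0x1d3))) (.nd (.nd (.lf 0x3a1) (.lf 0x5fa)) (.nd (.lf 0x52c) (.lf 0))))) (.nd (.nd (.nd (.nd (.lf 0xcd) (.lf 0x5d4)) (.nd (.lf 0x283) (.lf 0x35d))) (.nd (.nd (.lf 0xb0) (.lf 0x9b)) (.nd (.lf 0x23a) (.lf 0)))) (.nd (.nd (.nd (.lf 0x21b) (.lf 0x63b)) (.nd (.lf 0x368) (.lf 0x607))) (.nd (.nd (.lf 0x411) (.lf 0x646)) (.nd (.lf 0x2ce) (.lf 0)))))) (.nd (.nd (.nd (.nd (.nd (.lf 0x74) (.lf 0x41b)) (.nd (.lf 0x21d) (.lf 0x73))) (.nd (.nd (.lf 0x2ea) (.lf 0x52)) (.nd (.lf 0x332) (.lf 0)))) (.nd (.nd (.nd (.lf 0x1ce)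 (.lf 0x2d2)) (.nd (.lf 0x25f) (.lf 0x32d))) (.nd (.nd (.lf 0x112) (.lf 0x5c6)) (.nd (.lf 0x620) (.lf 0))))) (.nd (.nd (.nd (.nd (.lf 0x124) (.lf 0x557)) (.nd (.lf 0x4fd) (.lf 0x328))) (.nd (.nd (.lf 0x259) (.lf 0x26e)) (.nd (.lf 0x151) (.lf 0)))) (.nd (.nd (.nd (.lf 0x265) (.lf 0x562)) (.nd (.lf 0xd7) (.lf 0))) (.nd (.nd (.lf 0x440) (.lf 0x378)) (.nd (.lf 0x61a) (.lf 0)))))))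
def tabA1_nabbab : Tr := (.nd (.nd (.nd (.nd (.nd (.nd (.lf 0x44) (.lf 0x65c)) (.nd (.lf 0x3cd) (.lf 0x610))) (.nd (.nd (.lf 0x2c8) (.lf 0x661)) (.nd (.lf 0x5b6) (.lf 0)))) (.nd (.nd (.nd (.lf 0x1a4) (.lf 0x692)) (.nd (.lf 0x533) (.lf 0x390))) (.nd (.nd (.lf 0xec) (.lf 0x694)) (.nd (.lf 0x52a) (.lf 0))))) (.nd (.nd (.nd (.nd (.lf 0xf9) (.lf 0x26d)) (.nd (.lf 0x2e3) (.lf 0x288))) (.nd (.nd (.lf 0x34c) (.lf 0x244)) (.nd (.lf 0x4ff) (.lf 0)))) (.nd (.nd (.nd (.lf 0x1cd) (.lf 0x5ee)) (.nd (.lf 0x573) (.lf 0x6c3))) (.nd (.nd (.lf 0x41a) (.lf 0x536)) (.nd (.lf 0x52d) (.lf 0)))))) (.nd (.nd (.nd (.nd (.nd (.lf 0xa0) (.lf 0x5c9)) (.nd (.lf 0x4b0) (.lf 0x4db))) (.nd (.nd (.lf 0x309) (.lf 0x69c)) (.nd (.lf 0x4fb) (.lf 0)))) (.nd (.nd (.nd (.lf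 0x1f1) (.lf 0x62b)) (.nd (.lf 0x553) (.lf 0x39c))) (.nd (.nd (.lf 0x3fb) (.lf 0x229)) (.nd (.lf 0x628) (.lf 0))))) (.nd (.nd (.nd (.nd (.lf 0x14f) (.lf 0x627)) (.nd (.lf 0x50e) (.lf 0x3ae))) (.nd (.nd (.lf 0x315) (.lf 0x65d)) (.nd (.lf 0x51a) (.lf 0)))) (.nd (.nd (.nd (.lf 0x287) (.lf 0x4a8)) (.nd (.lf 0x572) (.lf 0))) (.nd (.nd (.lf 0x386) (.lf 0x56e)) (.nd (.lf 0x24f) (.lf 0)))))))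
def tabA1_nabbba : Tr := (.nd (.nd (.nd (.nd (.nd (.nd (.lf 0x2c) (.lf 0x101)) (.nd (.lf 0x47e) (.lf 0x623))) (.nd (.nd (.lf 0x235) (.lf 0x541)) (.nd (.lf 0x34e) (.lf 0)))) (.nd (.nd (.nd (.lf 0xfb) (.lf 0x678)) (.nd (.lf 0x403) (.lf 0x3f6))) (.nd (.nd (.lf 0x3af) (.lf 0x6c6)) (.nd (.lf 0x290) (.lf 0))))) (.nd (.nd (.nd (.nd (.lf 0xe4) (.lf 0x67d)) (.nd (.lf 0x4d5) (.lf 0x69b))) (.nd (.nd (.lf 0x1f5) (.lf 0x34f)) (.nd (.lf 0x5e6) (.lf 0)))) (.nd (.nd (.nd (.lf 0x22b) (.lf 0x177)) (.nd (.lf 0x56a) (.lf 0x5ac))) (.nd (.nd (.lf 0x223) (.lf 0x6b6)) (.nd (.lf 0x58) (.lf 0)))))) (.nd (.nd (.nd (.nd (.nd (.lf 0x89) (.lf 0x354)) (.nd (.lf 0x17e) (.lf 0x6bb))) (.nd (.nd (.lf 0x2f9) (.lf 0x6bf)) (.nd (.lf 0x2f8) (.lf 0)))) (.nd (.nd (.nd (.lf 0x99)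 (.lf 0x308)) (.nd (.lf 0x352) (.lf 0x161))) (.nd (.nd (.lf 0x3ea) (.lf 0x64f)) (.nd (.lf 0x626) (.lf 0))))) (.nd (.nd (.nd (.nd (.lf 0x138) (.lf 0x106)) (.nd (.lf 0x507) (.lf 0x363))) (.nd (.nd (.lf 0x37a) (.lf 0x1e2)) (.nd (.lf 0x600) (.lf 0)))) (.nd (.nd (.nd (.lf 0x275) (.lf 0x388)) (.nd (.lf 0x593) (.lf 0))) (.nd (.nd (.lf 0x44c) (.lf 0x5cc)) (.nd (.lf 0x206) (.lf 0)))))))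
def tabA1_nabbbb : Tr := (.nd (.nd (.nd (.nd (.nd (.nd (.lf 0x5c) (.lf 0x55b)) (.nd (.lf 0x495) (.lf 0x3cf))) (.nd (.nd (.lf 0x2d8) (.lf 0x10)) (.nd (.lf 0x13c) (.lf 0)))) (.nd (.nd (.nd (.lf 0xe0) (.lf 0x1a2)) (.nd (.lf 0x505) (.lf 0x6c9))) (.nd (.nd (.lf 0x3c9) (.lf 0x6c8)) (.nd (.lf 0x3d9) (.lf 0))))) (.nd (.nd (.nd (.nd (.lf 0x10e) (.lf 0x1f2)) (.nd (.lf 0x4ee) (.lf 0x65a))) (.nd (.nd (.lf 0x35b) (.lf 0x313)) (.nd (.lf 0x8b) (.lf 0)))) (.nd (.nd (.nd (.lf 0x252) (.lf 0x616)) (.nd (.lf 0x469) (.lf 0))) (.nd (.nd (.lf 0x361) (.lf 0x46e)) (.nd (.lf 0x4bd) (.lf 0)))))) (.nd (.nd (.nd (.nd (.nd (.lf 0xb7) (.lf 0x677)) (.nd (.lf 0x4bb) (.lf 0x310))) (.nd (.nd (.lf 0x1fc) (.lf 0x383)) (.nd (.lf 0x210) (.lf 0)))) (.nd (.nd (.nd (.lf 0x205)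 (.lf 0x90)) (.nd (.lf 0x24e) (.lf 0x15f))) (.nd (.nd (.lf 0x40a) (.lf 0x3da)) (.nd (.lf 0x108) (.lf 0))))) (.nd (.nd (.nd (.nd (.lf 0x166) (.lf 0x67)) (.nd (.lf 0x518) (.lf 0xf))) (.nd (.nd (.lf 0x394) (.lf 0x6b9)) (.nd (.lf 0x606) (.lf 0)))) (.nd (.nd (.nd (.lf 0x1ca) (.lf 0x666)) (.nd (.lf 0xb3) (.lf 0))) (.nd (.nd (.lf 0x467) (.lf 0x276)) (.nd (.lf 0x5e8) (.lf 0)))))))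
def tabA1_nbaaaa : Tr := (.nd (.nd (.nd (.nd (.nd (.nd (.lf 0x5) (.lf 0x4ad)) (.nd (.lf 0x46c) (.lf 0x520))) (.nd (.nd (.lf 0x29d) (.lf 0x686)) (.nd (.lf 0x4d2) (.lf 0)))) (.nd (.nd (.nd (.lf 0x16e) (.lf 0x5b7)) (.nd (.lf 0x51e) (.lf 0x613))) (.nd (.nd (.lf 0x2b0) (.lf 0x3de)) (.nd (.lf 0x59e) (.lf 0))))) (.nd (.nd (.nd (.nd (.lf 0xc0) (.lf 0x60a)) (.nd (.lf 0x4bf) (.lf 0xee))) (.nd (.nd (.lf 0x142) (.lf 0x3ee)) (.nd (.lf 0x5a8) (.lf 0)))) (.nd (.nd (.nd (.lf 0x20e) (.lf 0x22a)) (.nd (.lf 0x55d) (.lf 0x412))) (.nd (.nd (.lf 0x40e) (.lf 0x6d3)) (.nd (.lf 0x240) (.lf 0)))))) (.nd (.nd (.nd (.nd (.nd (.lf 0x65) (.lf 0x18a)) (.nd (.lf 0x3eb) (.lf 0x64a))) (.nd (.nd (.lf 0x2de) (.lf 0x5c5)) (.nd (.lf 0x5be) (.lf 0)))) (.nd (.nd (.nd (.lf 0x1bf)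 (.lf 0x422)) (.nd (.lf 0xcc) (.lf 0x306))) (.nd (.nd (.lf 0x3d0) (.lf 0x1d0)) (.nd (.lf 0x586) (.lf 0))))) (.nd (.nd (.nd (.nd (.lf 0x116) (.lf 0x9f)) (.nd (.lf 0x260) (.lf 0x643))) (.nd (.nd (.lf 0x362) (.lf 0x602)) (.nd (.lf 0x5f5) (.lf 0)))) (.nd (.nd (.nd (.lf 0x1dd) (.lf 0x139)) (.nd (.lf 0x580) (.lf 0))) (.nd (.nd (.lf 0x438) (.lf 0x311)) (.nd (.lf 0x16b) (.lf 0)))))))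
def tabA1_nbaaab : Tr := (.nd (.nd (.nd (.nd (.nd (.nd (.lf 0x35) (.lf 0x98)) (.nd (.lf 0x3ab) (.lf 0x32a))) (.nd (.nd (.lf 0x7) (.lf 0x3c)) (.nd (.lf 0x5b0) (.lf 0)))) (.nd (.nd (.nd (.lf 0x197) (.lf 0x612)) (.nd (.lf 0xbf) (.lf 0x5cf))) (.nd (.nd (.lf 0x3b5) (.lf 0x6bc)) (.nd (.lf 0x40d) (.lf 0))))) (.nd (.nd (.nd (.nd (.lf 0xed) (.lf 0x67f)) (.nd (.lf 0x4d9) (.lf 0x47f))) (.nd (.nd (.lf 0x341) (.lf 0x38d)) (.nd (.lf 0x72) (.lf 0)))) (.nd (.nd (.nd (.lf 0x233) (.lf 0x302)) (.nd (.lf 0x56c) (.lf 0x490))) (.nd (.nd (.lf 0x145) (.lf 0x28e)) (.nd (.lf 0x63) (.lf 0)))))) (.nd (.nd (.nd (.nd (.nd (.lf 0x92) (.lf 0x5bd)) (.nd (.lf 0x1f) (.lf 0x23b))) (.nd (.nd (.lf 0x2fe) (.lf 0x247)) (.nd (.lf 0x5d2) (.lf 0)))) (.nd (.nd (.nd (.lf 0x1e7)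 (.lf 0x636)) (.nd (.lf 0x1b6) (.lf 0x6da))) (.nd (.nd (.lf 0x3f2) (.lf 0x644)) (.nd (.lf 0x453) (.lf 0))))) (.nd (.nd (.nd (.nd (.lf 0x140) (.lf 0x5d1)) (.nd (.lf 0x2cb) (.lf 0x125))) (.nd (.nd (.lf 0x37e) (.lf 0x5ae)) (.nd (.lf 0x2ae) (.lf 0)))) (.nd (.nd (.nd (.lf 0x27e) (.lf 0x406)) (.nd (.lf 0x46d) (.lf 0))) (.nd (.nd (.lf 0x17d) (.lf 0x6c1)) (.nd (.lf 0x2be) (.lf 0)))))))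
def tabA1_nbaaba : Tr := (.nd (.nd (.nd (.nd (.nd (.nd (.lf 0x1d) (.lf 0x298)) (.nd (.lf 0x401) (.lf 0x175))) (.nd (.nd (.lf 0x2ac) (.lf 0x22d)) (.nd (.lf 0x147) (.lf 0)))) (.nd (.nd (.nd (.lf 0x182) (.lf 0x457)) (.nd (.lf 0x387) (.lf 0x28b))) (.nd (.nd (.lf 0x230) (.lf 0x43e)) (.nd (.lf 0x60b) (.lf 0))))) (.nd (.nd (.nd (.nd (.lf 0xd6) (.lf 0x4f0)) (.nd (.lf 0x18f) (.lf 0x372))) (.nd (.nd (.lf 0x32f) (.lf 0x5bf)) (.nd (.lf 0x514) (.lf 0)))) (.nd (.nd (.nd (.lf 0xdf) (.lf 0x65e)) (.nd (.lf 0x565) (.lf 0x685))) (.nd (.nd (.lf 0x2b1) (.lf 0x654)) (.nd (.lf 0xf2) (.lf 0)))))) (.nd (.nd (.nd (.nd (.nd (.lf 0x7c) (.lf 0x286)) (.nd (.lf 0x49f) (.lf 0xd5))) (.nd (.nd (.lf 0x2f0) (.lf 0x1c6)) (.nd (.lf 0x5cb) (.lf 0)))) (.nd (.nd (.nd (.lf 0x1d5)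 (.lf 0x2a7)) (.nd (.lf 0x277) (.lf 0x4a4))) (.nd (.nd (.lf 0x7e) (.lf 0x625)) (.nd (.lf 0x29b) (.lf 0))))) (.nd (.nd (.nd (.nd (.lf 0x12c) (.lf 0x62a)) (.nd (.lf 0x272) (.lf 0x3b1))) (.nd (.nd (.lf 0x37) (.lf 0x642)) (.nd (.lf 0x5fd) (.lf 0)))) (.nd (.nd (.nd (.lf 0x26b) (.lf 0x60c)) (.nd (.lf 0x58c) (.lf 0))) (.nd (.nd (.lf 0x446) (.lf 0x43b)) (.nd (.lf 0x1e) (.lf 0)))))))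
def tabA1_nbaabb : Tr := (.nd (.nd (.nd (.nd (.nd (.nd (.lf 0x4d) (.lf 0x280)) (.nd (.lf 0x48e) (.lf 0x81))) (.nd (.nd (.lf 0x254) (.lf 0x4e6)) (.nd (.lf 0x5b9) (.lf 0)))) (.nd (.nd (.nd (.lf 0x16) (.lf 0x408)) (.nd (.lf 0x43f) (.lf 0x532))) (.nd (.nd (.lf 0x45) (.lf 0x5c0)) (.nd (.lf 0x617) (.lf 0))))) (.nd (.nd (.nd (.nd (.lf 0x102) (.lf 0x445)) (.nd (.lf 0x4e4) (.lf 0x1d1))) (.nd (.nd (.lf 0x171) (.lf 0x634)) (.nd (.lf 0x207) (.lf 0)))) (.nd (.nd (.nd (.lf 0x1c0) (.lf 0x5aa)) (.nd (.lf 0x30b) (.lf 0xa))) (.nd (.nd (.lf 0x42d) (.lf 0x658)) (.nd (.lf 0x1cc) (.lf 0)))))) (.nd (.nd (.nd (.nd (.nd (.lf 0xa9) (.lf 0x41f)) (.nd (.lf 0x326) (.lf 0x25d))) (.nd (.nd (.lf 0x30f) (.lf 0x4e0)) (.nd (.lf 0x42e) (.lf 0)))) (.nd (.nd (.nd (.lf 0x64)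 (.lf 0x69d)) (.nd (.lf 0x43a) (.lf 0x1a8))) (.nd (.nd (.lf 0x400) (.lf 0x21c)) (.nd (.lf 0x2b3) (.lf 0))))) (.nd (.nd (.nd (.nd (.lf 0x157) (.lf 0x68d)) (.nd (.lf 0x512) (.lf 0x4ae))) (.nd (.nd (.lf 0x1ab) (.lf 0x22)) (.nd (.lf 0x11e) (.lf 0)))) (.nd (.nd (.nd (.lf 0x28d) (.lf 0x159)) (.nd (.lf 0x3be) (.lf 0))) (.nd (.nd (.lf 0x371) (.lf 0x5ff)) (.nd (.lf 0x5bc) (.lf 0)))))))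
def tabA1_nbabaa : Tr := (.nd (.nd (.nd (.nd (.nd (.nd (.lf 0x11) (.lf 0x652)) (.nd (.lf 0x471) (.lf 0x4c1))) (.nd (.nd (.lf 0x2a5) (.lf 0x6b5)) (.nd (.lf 0x515) (.lf 0)))) (.nd (.nd (.nd (.lf 0x176) (.lf 0x23c)) (.nd (.lf 0x523) (.lf 0x2a2))) (.nd (.nd (.lf 0x39e) (.lf 0x410)) (.nd (.lf 0x70) (.lf 0))))) (.nd (.nd (.nd (.nd (.lf 0x31) (.lf 0x2c9)) (.nd (.lf 0x4c7) (.lf 0x3b8))) (.nd (.nd (.lf 0x10a) (.lf 0x55e)) (.nd (.lf 0x53b) (.lf 0)))) (.nd (.nd (.nd (.lf 0x218) (.lf 0x1a9)) (.nd (.lf 0x564) (.lf 0x196))) (.nd (.nd (.lf 0x35a) (.lf 0x6a0)) (.nd (.lf 0x20f) (.lf 0)))))) (.nd (.nd (.nd (.nd (.nd (.lf 0x71) (.lf 0x667)) (.nd (.lf 0x49b) (.lf 0x672))) (.nd (.nd (.lf 0x2e9) (.lf 0x615)) (.nd (.lf 0x5c4) (.lf 0)))) (.nd (.nd (.nd (.lf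 0x1cb) (.lf 0x5b2)) (.nd (.lf 0x543) (.lf 0x462))) (.nd (.nd (.lf 0x3d8) (.lf 0x103)) (.nd (.lf 0xef) (.lf 0))))) (.nd (.nd (.nd (.nd (.lf 0x121) (.lf 0x517)) (.nd (.lf 0x4fc) (.lf 0x491))) (.nd (.nd (.lf 0x369) (.lf 0xcf)) (.nd (.lf 0x4a2) (.lf 0)))) (.nd (.nd (.nd (.lf 0x1c1) (.lf 0x3c6)) (.nd (.lf 0x584) (.lf 0))) (.nd (.nd (.lf 0x43d) (.lf 0x153)) (.nd (.lf 0x3db) (.lf 0)))))))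
def tabA1_nbabab : Tr := (.nd (.nd (.nd (.nd (.nd (.nd (.lf 0x41) (.lf 0x17a)) (.nd (.lf 0x489) (.lf 0x571))) (.nd (.nd (.lf 0x2c6) (.lf 0x34)) (.nd (.lf 0x5b5) (.lf 0)))) (.nd (.nd (.nd (.lf 0x1a1) (.lf 0x2a4)) (.nd (.lf 0x3a7) (.lf 0x78))) (.nd (.nd (.lf 0x3bd) (.lf 0x442)) (.nd (.lf 0x128) (.lf 0))))) (.nd (.nd (.nd (.nd (.lf 0xf7) (.lf 0x524)) (.nd (.lf 0x4df) (.lf 0x535))) (.nd (.nd (.lf 0x34b) (.lf 0x567)) (.nd (.lf 0x485) (.lf 0)))) (.nd (.nd (.nd (.lf 0x23e) (.lf 0x6aa)) (.nd (.lf 0x4d8) (.lf 0x183))) (.nd (.nd (.lf 0x82) (.lf 0x1b2)) (.nd (.lf 0x637) (.lf 0)))))) (.nd (.nd (.nd (.nd (.nd (.lf 0x9d) (.lf 0x481)) (.nd (.lf 0x4af) (.lf 0x1a6))) (.nd (.nd (.lf 0x307) (.lf 0x3ad)) (.nd (.lf 0x4f2) (.lf 0)))) (.nd (.nd (.nd (.lf 0x1ef)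 (.lf 0x4d4)) (.nd (.lf 0x551) (.lf 0x671))) (.nd (.nd (.lf 0x3fa) (.lf 0x5d0)) (.nd (.lf 0x289) (.lf 0))))) (.nd (.nd (.nd (.nd (.lf 0x14c) (.lf 0x619)) (.nd (.lf 0x2f1) (.lf 0x31f))) (.nd (.nd (.lf 0x30) (.lf 0x404)) (.nd (.lf 0x5df) (.lf 0)))) (.nd (.nd (.nd (.lf 0x285) (.lf 0x1b0)) (.nd (.lf 0x4dc) (.lf 0))) (.nd (.nd (.lf 0x458) (.lf 0x172)) (.nd (.lf 0x3a) (.lf 0)))))))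
def tabA1_nbabba : Tr := (.nd (.nd (.nd (.nd (.nd (.nd (.lf 0x29) (.lf 0x118)) (.nd (.lf 0x2ff) (.lf 0x559))) (.nd (.nd (.lf 0x2b7) (.lf 0xa8)) (.nd (.lf 0x32c) (.lf 0)))) (.nd (.nd (.nd (.lf 0x18c) (.lf 0x483)) (.nd (.lf 0x2c1) (.lf 0x680))) (.nd (.nd (.lf 0x3ac) (.lf 0x621)) (.nd (.lf 0x60d) (.lf 0))))) (.nd (.nd (.nd (.nd (.lf 0xe1) (.lf 0x434)) (.nd (.lf 0x4d3) (.lf 0x44d))) (.nd (.nd (.lf 0x338) (.lf 0x5e0)) (.nd (.lf 0x494) (.lf 0)))) (.nd (.nd (.nd (.lf 0x228) (.lf 0x657)) (.nd (.lf 0x36) (.lf 0x323))) (.nd (.nd (.lf 0x41d) (.lf 0x68f)) (.nd (.lf 0x37f) (.lf 0)))))) (.nd (.nd (.nd (.nd (.nd (.lf 0x86) (.lf 0x488)) (.nd (.lf 0x38e) (.lf 0x5c8))) (.nd (.nd (.lf 0x2bc) (.lf 0x37c)) (.nd (.lf 0x1c4) (.lf 0)))) (.nd (.nd (.nd (.lf 0x1df)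 (.lf 0x69a)) (.nd (.lf 0x29a) (.lf 0x5bb))) (.nd (.nd (.lf 0x3e7) (.lf 0x4f)) (.nd (.lf 0x624) (.lf 0))))) (.nd (.nd (.nd (.nd (.lf 0x135) (.lf 0x62d)) (.nd (.lf 0xab) (.lf 0x679))) (.nd (.nd (.lf 0x377) (.lf 0x58e)) (.nd (.lf 0x122) (.lf 0)))) (.nd (.nd (.nd (.lf 0x123) (.lf 0x569)) (.nd (.lf 0x4a9) (.lf 0))) (.nd (.nd (.lf 0x44a) (.lf 0x6c4)) (.nd (.lf 0x552) (.lf 0)))))))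
def tabA1_nbabbb : Tr := (.nd (.nd (.nd (.nd (.nd (.nd (.lf 0x59) (.lf 0x49d)) (.nd (.lf 0x493) (.lf 0x3d1))) (.nd (.nd (.lf 0x8a) (.lf 0x698)) (.nd (.lf 0x204) (.lf 0)))) (.nd (.nd (.nd (.lf 0x1b7) (.lf 0x635)) (.nd (.lf 0x432) (.lf 0x6b7))) (.nd (.nd (.lf 0x3c7) (.lf 0x48d)) (.nd (.lf 0x57c) (.lf 0))))) (.nd (.nd (.nd (.nd (.lf 0x5d) (.lf 0x618)) (.nd (.lf 0x1b3) (.lf 0x486))) (.nd (.nd (.lf 0x263) (.lf 0x645)) (.nd (.lf 0x4a3) (.lf 0)))) (.nd (.nd (.nd (.lf 0xdd) (.lf 0x674)) (.nd (.lf 0x57b) (.lf 0))) (.nd (.nd (.lf 0x433) (.lf 0x5e3)) (.nd (.lf 0x2fd) (.lf 0)))))) (.nd (.nd (.nd (.nd (.nd (.lf 0xb4) (.lf 0x676)) (.nd (.lf 0x414) (.lf 0x1b9))) (.nd (.nd (.lf 0x25c) (.lf 0x5e5)) (.nd (.lf 0x5da) (.lf 0)))) (.nd (.nd (.nd (.lf 0x203)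 (.lf 0x164)) (.nd (.lf 0x460) (.lf 0x40b))) (.nd (.nd (.lf 0xc6) (.lf 0x3bc)) (.nd (.lf 0x4bc) (.lf 0))))) (.nd (.nd (.nd (.nd (.lf 0x163) (.lf 0x55)) (.nd (.lf 0xe9) (.lf 0x144))) (.nd (.nd (.lf 0x391) (.lf 0x448)) (.nd (.lf 0x7b) (.lf 0)))) (.nd (.nd (.nd (.lf 0x295) (.lf 0x608)) (.nd (.lf 0x2e7) (.lf 0))) (.nd (.nd (.lf 0x465) (.lf 0x5d5)) (.nd (.lf 0x36a) (.lf 0)))))))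
def tabA1_nbbaaa : Tr := (.nd (.nd (.nd (.nd (.nd (.nd (.lf 0xb) (.lf 0x2b6)) (.nd (.lf 0x2a1) (.lf 0x2ad))) (.nd (.nd (.lf 0x267) (.lf 0x6b3)) (.nd (.lf 0x1e8) (.lf 0)))) (.nd (.nd (.nd (.lf 0x6d) (.lf 0x1ad)) (.nd (.lf 0x384) (.lf 0x407))) (.nd (.nd (.lf 0x39a) (.lf 0x63f)) (.nd (.lf 0x251) (.lf 0))))) (.nd (.nd (.nd (.nd (.lf 0xc5) (.lf 0x35e)) (.nd (.lf 0x4c2) (.lf 0x54a))) (.nd (.nd (.lf 0x324) (.lf 0x19f)) (.nd (.lf 0x27) (.lf 0)))) (.nd (.nd (.nd (.lf 0x213) (.lf 0x5c2)) (.nd (.lf 0x560) (.lf 0x5e4))) (.nd (.nd (.lf 0x3c8) (.lf 0x397)) (.nd (.lf 0x631) (.lf 0)))))) (.nd (.nd (.nd (.nd (.nd (.lf 0x6b) (.lf 0xda)) (.nd (.lf 0x499) (.lf 0x1e0))) (.nd (.nd (.lf 0x2e4) (.lf 0x54)) (.nd (.lf 0x367) (.lf 0)))) (.nd (.nd (.nd (.lf 0x1c5)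 (.lf 0x597)) (.nd (.lf 0x540) (.lf 0x12e))) (.nd (.nd (.lf 0x3d5) (.lf 0x474)) (.nd (.lf 0x1b) (.lf 0))))) (.nd (.nd (.nd (.nd (.lf 0x11c) (.lf 0x35c)) (.nd (.lf 0x37d) (.lf 0x27d))) (.nd (.nd (.lf 0x364) (.lf 0xf8)) (.nd (.lf 0x5f8) (.lf 0)))) (.nd (.nd (.nd (.lf 0x25e) (.lf 0x65f)) (.nd (.lf 0x2d5) (.lf 0))) (.nd (.nd (.lf 0x13) (.lf 0x4d6)) (.nd (.lf 0x576) (.lf 0)))))))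
def tabA1_nbbaab : Tr := (.nd (.nd (.nd (.nd (.nd (.nd (.lf 0x3b) (.lf 0x180)) (.nd (.lf 0x484) (.lf 0x695))) (.nd (.nd (.lf 0x2c3) (.lf 0x2c4)) (.nd (.lf 0x3e9) (.lf 0)))) (.nd (.nd (.nd (.lf 0x19b) (.lf 0x682)) (.nd (.lf 0x4e1) (.lf 0x4f5))) (.nd (.nd (.lf 0x80) (.lf 0x2cd)) (.nd (.lf 0x611) (.lf 0))))) (.nd (.nd (.nd (.nd (.lf 0xf3) (.lf 0x51b)) (.nd (.lf 0x1f4) (.lf 0x4cf))) (.nd (.nd (.lf 0x9) (.lf 0xbe)) (.nd (.lf 0x297) (.lf 0)))) (.nd (.nd (.nd (.lf 0x239) (.lf 0x548)) (.nd (.lf 0x46f) (.lf 0x48b))) (.nd (.nd (.lf 0x426) (.lf 0x5ab)) (.nd (.lf 0x42f) (.lf 0)))))) (.nd (.nd (.nd (.nd (.nd (.lf 0x97) (.lf 0x5c3)) (.nd (.lf 0x4ab) (.lf 0x1be))) (.nd (.nd (.lf 0x303) (.lf 0x6c0)) (.nd (.lf 0x334) (.lf 0)))) (.nd (.nd (.nd (.lf 0x1eb)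 (.lf 0x1db)) (.nd (.lf 0x54f) (.lf 0x463))) (.nd (.nd (.lf 0x3f5) (.lf 0x31c)) (.nd (.lf 0x5e7) (.lf 0))))) (.nd (.nd (.nd (.nd (.lf 0x146) (.lf 0x53f)) (.nd (.lf 0x5b) (.lf 0x3b7))) (.nd (.nd (.lf 0x382) (.lf 0xce)) (.nd (.lf 0x2d9) (.lf 0)))) (.nd (.nd (.nd (.lf 0x8e) (.lf 0x530)) (.nd (.lf 0x21f) (.lf 0))) (.nd (.nd (.lf 0x454) (.lf 0x587)) (.nd (.lf 0x13e) (.lf 0)))))))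
def tabA1_nbbaba : Tr := (.nd (.nd (.nd (.nd (.nd (.nd (.lf 0x23) (.lf 0x656)) (.nd (.lf 0x47b) (.lf 0x6d2))) (.nd (.nd (.lf 0x2b2) (.lf 0x1b8)) (.nd (.lf 0x104) (.lf 0)))) (.nd (.nd (.nd (.lf 0x188) (.lf 0x1ff)) (.nd (.lf 0x4f3) (.lf 0x4f7))) (.nd (.nd (.lf 0x266) (.lf 0x478)) (.nd (.lf 0x25) (.lf 0))))) (.nd (.nd (.nd (.nd (.lf 0xdc) (.lf 0x67b)) (.nd (.lf 0x1f9) (.lf 0x100))) (.nd (.nd (.lf 0x333) (.lf 0x59a)) (.nd (.lf 0x2ab) (.lf 0)))) (.nd (.nd (.nd (.lf 0x225) (.lf 0x6a5)) (.nd (.lf 0x1d9) (.lf 0x6d8))) (.nd (.nd (.lf 0x419) (.lf 0x4b)) (.nd (.lf 0x212) (.lf 0)))))) (.nd (.nd (.nd (.nd (.nd (.lf 0x12) (.lf 0xe2)) (.nd (.lf 0x4a0) (.lf 0x6b4))) (.nd (.nd (.lf 0x2f4) (.lf 0x6be)) (.nd (.lf 0x44e) (.lf 0)))) (.nd (.nd (.nd (.lf 0x1da)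 (.lf 0x651)) (.nd (.lf 0x544) (.lf 0x6b0))) (.nd (.nd (.lf 0x1e6) (.lf 0x4a1)) (.nd (.lf 0x42) (.lf 0))))) (.nd (.nd (.nd (.nd (.lf 0x130) (.lf 0x2b8)) (.nd (.lf 0xd8) (.lf 0x189))) (.nd (.nd (.lf 0x257) (.lf 0x2e2)) (.nd (.lf 0x5a) (.lf 0)))) (.nd (.nd (.nd (.lf 0x1a3) (.lf 0x4a5)) (.nd (.lf 0x58f) (.lf 0))) (.nd (.nd (.lf 0x2a6) (.lf 0x346)) (.nd (.lf 0x59f) (.lf 0)))))))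
def tabA1_nbbabb : Tr := (.nd (.nd (.nd (.nd (.nd (.nd (.lf 0x53) (.lf 0x660)) (.nd (.lf 0x2bb) (.lf 0x2db))) (.nd (.nd (.lf 0x2d1) (.lf 0x669)) (.nd (.lf 0x66) (.lf 0)))) (.nd (.nd (.nd (.lf 0x1b1) (.lf 0x688)) (.nd (.lf 0x537) (.lf 0x1f3))) (.nd (.nd (.lf 0x2fb) (.lf 0x603)) (.nd (.lf 0x409) (.lf 0))))) (.nd (.nd (.nd (.nd (.lf 0x107) (.lf 0x50f)) (.nd (.lf 0x22f) (.lf 0x5cd))) (.nd (.nd (.lf 0x355) (.lf 0x1cf)) (.nd (.lf 0x2d) (.lf 0)))) (.nd (.nd (.nd (.lf 0x24c) (.lf 0x6f)) (.nd (.lf 0x578) (.lf 0))) (.nd (.nd (.lf 0x246) (.lf 0x373)) (.nd (.lf 0x87) (.lf 0)))))) (.nd (.nd (.nd (.nd (.nd (.lf 0xaf) (.lf 0x57e)) (.nd (.lf 0x3ce) (.lf 0xf1))) (.nd (.nd (.lf 0x314) (.lf 0x184)) (.nd (.lf 0x5d8) (.lf 0)))) (.nd (.nd (.nd (.lf 0x1fe)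 (.lf 0x335)) (.nd (.lf 0x19a) (.lf 0x1b5))) (.nd (.nd (.lf 0x2d7) (.lf 0x697)) (.nd (.lf 0x5dc) (.lf 0))))) (.nd (.nd (.nd (.nd (.lf 0x15d) (.lf 0x12b)) (.nd (.lf 0x248) (.lf 0x253))) (.nd (.nd (.lf 0xae) (.lf 0x30a)) (.nd (.lf 0xe5) (.lf 0)))) (.nd (.nd (.nd (.lf 0x27f) (.lf 0x563)) (.nd (.lf 0x50c) (.lf 0))) (.nd (.nd (.lf 0x340) (.lf 0x5db)) (.nd (.lf 0x64d) (.lf 0)))))))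
def tabA1_nbbbaa : Tr := (.nd (.nd (.nd (.nd (.nd (.nd (.lf 0x17) (.lf 0x447)) (.nd (.lf 0x475) (.lf 0x4b6))) (.nd (.nd (.lf 0x238) (.lf 0x28f)) (.nd (.lf 0x5a5) (.lf 0)))) (.nd (.nd (.nd (.lf 0x17c) (.lf 0x33c)) (.nd (.lf 0x24) (.lf 0x1ee))) (.nd (.nd (.lf 0x359) (.lf 0x4d1)) (.nd (.lf 0x609) (.lf 0))))) (.nd (.nd (.nd (.nd (.lf 0xd0) (.lf 0x60e)) (.nd (.lf 0x4cb) (.lf 0x6d1))) (.nd (.nd (.lf 0x255) (.lf 0x4b3)) (.nd (.lf 0x5a0) (.lf 0)))) (.nd (.nd (.nd (.lf 0x133) (.lf 0x420)) (.nd (.lf 0x4ca) (.lf 0x66c))) (.nd (.nd (.lf 0x134) (.lf 0x6d4)) (.nd (.lf 0x5f3) (.lf 0)))))) (.nd (.nd (.nd (.nd (.nd (.lf 0x77) (.lf 0x88)) (.nd (.lf 0x29e) (.lf 0x3ed))) (.nd (.nd (.lf 0x2ec) (.lf 0xf4)) (.nd (.lf 0x5c7) (.lf 0)))) (.nd (.nd (.nd (.lf 0xbc)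 (.lf 0x91)) (.nd (.lf 0x427) (.lf 0x52e))) (.nd (.nd (.lf 0x261) (.lf 0x45d)) (.nd (.lf 0x2a9) (.lf 0))))) (.nd (.nd (.nd (.nd (.lf 0x127) (.lf 0x237)) (.nd (.lf 0x20c) (.lf 0x3f7))) (.nd (.nd (.lf 0x36d) (.lf 0x466)) (.nd (.lf 0x6c) (.lf 0)))) (.nd (.nd (.nd (.lf 0x268) (.lf 0x5a6)) (.nd (.lf 0x588) (.lf 0))) (.nd (.nd (.lf 0x399) (.lf 0x50b)) (.nd (.lf 0x14b) (.lf 0)))))))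
def tabA1_nbbbab : Tr := (.nd (.nd (.nd (.nd (.nd (.nd (.lf 0x47) (.lf 0x342)) (.nd (.lf 0x48a) (.lf 0xb1))) (.nd (.nd (.lf 0x27a) (.lf 0x622)) (.nd (.lf 0x178) (.lf 0)))) (.nd (.nd (.nd (.lf 0x1a7) (.lf 0x17b)) (.nd (.lf 0x534) (.lf 0x585))) (.nd (.nd (.lf 0x3c0) (.lf 0x25a)) (.nd (.lf 0x614) (.lf 0))))) (.nd (.nd (.nd (.nd (.lf 0xfc) (.lf 0xc4)) (.nd (.lf 0x4e2) (.lf 0xa4))) (.nd (.nd (.lf 0x26c) (.lf 0xa7)) (.nd (.lf 0x5ed) (.lf 0)))) (.nd (.nd (.nd (.lf 0x242) (.lf 0x65b)) (.nd (.lf 0x574) (.lf 0x68a))) (.nd (.nd (.lf 0x429) (.lf 0x47a)) (.nd (.lf 0x168) (.lf 0)))))) (.nd (.nd (.nd (.nd (.nd (.lf 0xa3) (.lf 0x3fc)) (.nd (.lf 0x4b1) (.lf 0x55f))) (.nd (.nd (.lf 0x264) (.lf 0x358)) (.nd (.lf 0x345) (.lf 0)))) (.nd (.nd (.nd (.lf 0x6)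 (.lf 0x337)) (.nd (.lf 0x554) (.lf 0x39d))) (.nd (.nd (.lf 0x3fd) (.lf 0x4c9)) (.nd (.lf 0x629) (.lf 0))))) (.nd (.nd (.nd (.nd (.lf 0x152) (.lf 0x61e)) (.nd (.lf 0x510) (.lf 0x30e))) (.nd (.nd (.lf 0x321) (.lf 0x509)) (.nd (.lf 0x439) (.lf 0)))) (.nd (.nd (.nd (.lf 0x28a) (.lf 0x4e9)) (.nd (.lf 0x498) (.lf 0))) (.nd (.nd (.lf 0x45c) (.lf 0x216)) (.nd (.lf 0x148) (.lf 0)))))))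
def tabA1_nbbbba : Tr := (.nd (.nd (.nd (.nd (.nd (.nd (.lf 0x2f) (.lf 0x659)) (.nd (.lf 0x224) (.lf 0x61))) (.nd (.nd (.lf 0x114) (.lf 0x349)) (.nd (.lf 0x519) (.lf 0)))) (.nd (.nd (.nd (.lf 0x191) (.lf 0x1ba)) (.nd (.lf 0x1fd) (.lf 0x5ef))) (.nd (.nd (.lf 0x3b0) (.lf 0x46)) (.nd (.lf 0x29f) (.lf 0))))) (.nd (.nd (.nd (.nd (.lf 0xe7) (.lf 0x4b5)) (.nd (.lf 0x4d7) (.lf 0x1d7))) (.nd (.nd (.lf 0x33d) (.lf 0x4c6)) (.nd (.lf 0x209) (.lf 0)))) (.nd (.nd (.nd (.lf 0x22e) (.lf 0x6a7)) (.nd (.lf 0x1f0) (.lf 0x243))) (.nd (.nd (.lf 0x3d3) (.lf 0x36e)) (.nd (.lf 0x41e) (.lf 0)))))) (.nd (.nd (.nd (.nd (.nd (.lf 0x8c) (.lf 0x477)) (.nd (.lf 0x3e3) (.lf 0x66b))) (.nd (.nd (.lf 0x2f5) (.lf 0x45f)) (.nd (.lf 0x33e) (.lf 0)))) (.nd (.nd (.nd (.lf 0x1e3)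 (.lf 0x5ce)) (.nd (.lf 0x3e0) (.lf 0x6a1))) (.nd (.nd (.lf 0x3ec) (.lf 0x136)) (.nd (.lf 0xb9) (.lf 0))))) (.nd (.nd (.nd (.nd (.lf 0xbb) (.lf 0x19c)) (.nd (.lf 0x2ba) (.lf 0x202))) (.nd (.nd (.lf 0x2ca) (.lf 0x577)) (.nd (.lf 0x4c8) (.lf 0)))) (.nd (.nd (.nd (.lf 0x278) (.lf 0x396)) (.nd (.lf 0x45a) (.lf 0))) (.nd (.nd (.lf 0x431) (.lf 0x68e)) (.nd (.lf 0x69) (.lf 0)))))))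
def tabA1_nbbbbb : Tr := (.nd (.nd (.nd (.nd (.nd (.nd (.lf 0x5f) (.lf 0x425)) (.nd (.lf 0x456) (.lf 0x5e9))) (.nd (.nd (.lf 0x2da) (.lf 0x1af)) (.nd (.lf 0x11b) (.lf 0)))) (.nd (.nd (.nd (.lf 0x1bb) (.lf 0x58b)) (.nd (.lf 0x258) (.lf 0x66d))) (.nd (.nd (.lf 0x3cc) (.lf 0x115)) (.nd (.lf 0x61c) (.lf 0))))) (.nd (.nd (.nd (.nd (.lf 0x111) (.lf 0x3a6)) (.nd (.lf 0x4f1) (.lf 0x181))) (.nd (.nd (.lf 0xeb) (.lf 0x52b)) (.nd (.lf 0x5a2) (.lf 0)))) (.nd (.nd (.nd (.lf 0x14a) (.lf 0x63e)) (.nd (.lf 0x54b) (.lf 0))) (.nd (.nd (.lf 0x435) (.lf 0x10c)) (.nd (.lf 0x63c) (.lf 0)))))) (.nd (.nd (.nd (.nd (.nd (.lf 0xba) (.lf 0x3c3)) (.nd (.lf 0x193) (.lf 0x4ba))) (.nd (.nd (.lf 0x31b) (.lf 0x5fe)) (.nd (.lf 0x5dd) (.lf 0)))) (.nd (.nd (.nd (.lf 0x208)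 (.lf 0x582)) (.nd (.lf 0x55c) (.lf 0x241))) (.nd (.nd (.lf 0x40c) (.lf 0x6a3)) (.nd (.lf 0x62e) (.lf 0))))) (.nd (.nd (.nd (.nd (.lf 0x169) (.lf 0x4b2)) (.nd (.lf 0x418) (.lf 0x63d))) (.nd (.nd (.lf 0x395) (.lf 0x5ad)) (.nd (.lf 0x53c) (.lf 0)))) (.nd (.nd (.nd (.lf 0x299) (.lf 0x339)) (.nd (.lf 0x443) (.lf 0))) (.nd (.nd (.lf 0x468) (.lf 0x4aa)) (.nd (.lf 0x650) (.lf 0)))))))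
def tabA1 : Tr := (.nd (.nd (.nd (.nd (.nd tabA1_naaaaa tabA1_naaaab) (.nd tabA1_naaaba tabA1_naaabb)) (.nd (.nd tabA1_naabaa tabA1_naabab) (.nd tabA1_naabba tabA1_naabbb))) (.nd (.nd (.nd tabA1_nabaaa tabA1_nabaab) (.nd tabA1_nababa tabA1_nababb)) (.nd (.nd tabA1_nabbaa tabA1_nabbab) (.nd tabA1_nabbba tabA1_nabbbb)))) (.nd (.nd (.nd (.nd tabA1_nbaaaa tabA1_nbaaab) (.nd tabA1_nbaaba tabA1_nbaabb)) (.nd (.nd tabA1_nbabaa tabA1_nbabab) (.nd tabA1_nbabba tabA1_nbabbb))) (.nd (.nd (.nd tabA1_nbbaaa tabA1_nbbaab) (.nd tabA1_nbbaba tabA1_nbbabb)) (.nd (.nd tabA1_nbbbaa tabA1_nbbbab) (.nd tabA1_nbbbba tabA1_nbbbbb)))))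
def tabA2_naaaaa : Tr := (.nd (.nd (.nd (.nd (.nd (.nd (.lf 0x3) (.lf 0x13d)) (.nd (.lf 0x415) (.lf 0x5be))) (.nd (.nd (.lf 0x256) (.lf 0x5b0)) (.nd (.lf 0x59d) (.lf 0)))) (.nd (.nd (.nd (.lf 0x16d) (.lf 0x3c9)) (.nd (.lf 0x51d) (.lf 0x2ac))) (.nd (.nd (.lf 0x128) (.lf 0x58a)) (.nd (.lf 0x607) (.lf 0))))) (.nd (.nd (.nd (.nd (.lf 0xbe) (.lf 0x404)) (.nd (.lf 0x265) (.lf 0x3dc))) (.nd (.nd (.lf 0x14) (.lf 0x6c3)) (.nd (.lf 0x5df) (.lf 0)))) (.nd (.nd (.nd (.lf 0x20c) (.lf 0x635)) (.nd (.lf 0xf7) (.lf 0x62e))) (.nd (.nd (.lf 0x40d) (.lf 0x3a8)) (.nd (.lf 0x154) (.lf 0)))))) (.nd (.nd (.nd (.nd (.nd (.lf 0x63) (.lf 0x46a)) (.nd (.lf 0x1a1) (.lf 0x5d1))) (.nd (.nd (.lf 0x2dd) (.lf 0x53)) (.nd (.lf 0x4ac) (.lf 0)))) (.nd (.nd (.nd (.lf 0x1bd)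 (.lf 0x512)) (.nd (.lf 0x6b) (.lf 0x4af))) (.nd (.nd (.lf 0x1ce) (.lf 0x689)) (.nd (.lf 0x501) (.lf 0))))) (.nd (.nd (.nd (.nd (.lf 0x114) (.lf 0x650)) (.nd (.lf 0x4f3) (.lf 0x317))) (.nd (.nd (.lf 0x360) (.lf 0x6a4)) (.nd (.lf 0x284) (.lf 0)))) (.nd (.nd (.nd (.lf 0x257) (.lf 0x18b)) (.nd (.lf 0x54a) (.lf 0))) (.nd (.nd (.lf 0x375) (.lf 0x6d5)) (.nd (.lf 0x625) (.lf 0)))))))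
def tabA2_naaaab : Tr := (.nd (.nd (.nd (.nd (.nd (.nd (.lf 0x33) (.lf 0x41c)) (.nd (.lf 0x47a) (.lf 0x53e))) (.nd (.nd (.lf 0x2bd) (.lf 0x61e)) (.nd (.lf 0x22) (.lf 0)))) (.nd (.nd (.nd (.lf 0x195) (.lf 0x499)) (.nd (.lf 0x379) (.lf 0xfc))) (.nd (.nd (.lf 0x381) (.lf 0x163)) (.nd (.lf 0x531) (.lf 0))))) (.nd (.nd (.nd (.nd (.lf 0xeb) (.lf 0x324)) (.nd (.lf 0x1f5) (.lf 0x326))) (.nd (.nd (.lf 0x340) (.lf 0x251)) (.nd (.lf 0x15a) (.lf 0)))) (.nd (.nd (.nd (.lf 0x6a) (.lf 0x35a)) (.nd (.lf 0x14e) (.lf 0xcc))) (.nd (.nd (.lf 0x215) (.lf 0x56e)) (.nd (.lf 0x58f) (.lf 0)))))) (.nd (.nd (.nd (.nd (.nd (.lf 0x90) (.lf 0x3ff)) (.nd (.lf 0x38b) (.lf 0x663))) (.nd (.nd (.lf 0x105) (.lf 0x4dc)) (.nd (.lf 0x37) (.lf 0)))) (.nd (.nd (.nd (.lf 0x176)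 (.lf 0x3f7)) (.nd (.lf 0x20d) (.lf 0x674))) (.nd (.nd (.lf 0x3f0) (.lf 0x127)) (.nd (.lf 0x4ee) (.lf 0))))) (.nd (.nd (.nd (.nd (.lf 0x13e) (.lf 0x623)) (.nd (.lf 0x4c4) (.lf 0x2d6))) (.nd (.nd (.lf 0x31b) (.lf 0x6af)) (.nd (.lf 0x602) (.lf 0)))) (.nd (.nd (.nd (.lf 0x27c) (.lf 0x19)) (.nd (.lf 0x594) (.lf 0))) (.nd (.nd (.lf 0x450) (.lf 0x194)) (.nd (.lf 0x1d) (.lf 0)))))))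
def tabA2_naaaba : Tr := (.nd (.nd (.nd (.nd (.nd (.nd (.lf 0x1b) (.lf 0x605)) (.nd (.lf 0x182) (.lf 0xe0))) (.nd (.nd (.lf 0x2ab) (.lf 0x60d)) (.nd (.lf 0x471) (.lf 0)))) (.nd (.nd (.nd (.lf 0x180) (.lf 0x3c7)) (.nd (.lf 0x4a7) (.lf 0x22a))) (.nd (.nd (.lf 0x3a5) (.lf 0x34a)) (.nd (.lf 0x544) (.lf 0))))) (.nd (.nd (.nd (.nd (.lf 0xd4) (.lf 0x5e)) (.nd (.lf 0x1c) (.lf 0x2d0))) (.nd (.nd (.lf 0x32d) (.lf 0x2bb)) (.nd (.lf 0x5e4) (.lf 0)))) (.nd (.nd (.nd (.lf 0x21d) (.lf 0x3fb)) (.nd (.lf 0x42d) (.lf 0x65c))) (.nd (.nd (.lf 0x1cd) (.lf 0xd0)) (.nd (.lf 0x62c) (.lf 0)))))) (.nd (.nd (.nd (.nd (.nd (.lf 0x7a) (.lf 0x4e6)) (.nd (.lf 0x37c) (.lf 0x549))) (.nd (.nd (.lf 0x2ee) (.lf 0x389)) (.nd (.lf 0xa2) (.lf 0)))) (.nd (.nd (.nd (.lf 0x1d3)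 (.lf 0x27a)) (.nd (.lf 0x465) (.lf 0x34))) (.nd (.nd (.lf 0x3dd) (.lf 0x5e1)) (.nd (.lf 0x586) (.lf 0))))) (.nd (.nd (.nd (.nd (.lf 0x12a) (.lf 0x5ae)) (.nd (.lf 0x14c) (.lf 0x681))) (.nd (.nd (.lf 0x370) (.lf 0x14f)) (.nd (.lf 0x148) (.lf 0)))) (.nd (.nd (.nd (.lf 0x26a) (.lf 0x1a9)) (.nd (.lf 0x377) (.lf 0))) (.nd (.nd (.lf 0x445) (.lf 0x15f)) (.nd (.lf 0x642) (.lf 0)))))))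
def tabA2_naaabb : Tr := (.nd (.nd (.nd (.nd (.nd (.nd (.lf 0x4b) (.lf 0x65e)) (.nd (.lf 0x31) (.lf 0x52f))) (.nd (.nd (.lf 0x2cd) (.lf 0x584)) (.nd (.lf 0x52b) (.lf 0)))) (.nd (.nd (.nd (.lf 0x1ab) (.lf 0x5b4)) (.nd (.lf 0xb7) (.lf 0x6c7))) (.nd (.nd (.lf 0x34c) (.lf 0x455)) (.nd (.lf 0x615) (.lf 0))))) (.nd (.nd (.nd (.nd (.lf 0x100) (.lf 0x25b)) (.nd (.lf 0x4da) (.lf 0x506))) (.nd (.nd (.lf 0x350) (.lf 0x236)) (.nd (.lf 0x5ef) (.lf 0)))) (.nd (.nd (.nd (.lf 0x246) (.lf 0x5eb)) (.nd (.lf 0x113) (.lf 0x4fd))) (.nd (.nd (.lf 0x42c) (.lf 0x6c5)) (.nd (.lf 0x639) (.lf 0)))))) (.nd (.nd (.nd (.nd (.nd (.lf 0xa7) (.lf 0xde)) (.nd (.lf 0x362) (.lf 0xf2))) (.nd (.nd (.lf 0x30e) (.lf 0x53b)) (.nd (.lf 0x475) (.lf 0)))) (.nd (.nd (.nd (.lf 0x1f7)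 (.lf 0x211)) (.nd (.lf 0x487) (.lf 0x1d7))) (.nd (.nd (.lf 0xb) (.lf 0x508)) (.nd (.lf 0x62a) (.lf 0))))) (.nd (.nd (.nd (.nd (.lf 0x155) (.lf 0x68c)) (.nd (.lf 0x2f7) (.lf 0x4a4))) (.nd (.nd (.lf 0x21f) (.lf 0x138)) (.nd (.lf 0x1b4) (.lf 0)))) (.nd (.nd (.nd (.lf 0xd6) (.lf 0x6b0)) (.nd (.lf 0x7c) (.lf 0))) (.nd (.nd (.lf 0x336) (.lf 0x636)) (.nd (.lf 0x287) (.lf 0)))))))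
def tabA2_naabaa : Tr := (.nd (.nd (.nd (.nd (.nd (.nd (.lf 0xf) (.lf 0x5cd)) (.nd (.lf 0x46f) (.lf 0x331))) (.nd (.nd (.lf 0x49) (.lf 0x10d)) (.nd (.lf 0x522) (.lf 0)))) (.nd (.nd (.nd (.lf 0x174) (.lf 0x493)) (.nd (.lf 0x2e1) (.lf 0x5dd))) (.nd (.nd (.lf 0x39c) (.lf 0x8)) (.nd (.lf 0x4b0) (.lf 0))))) (.nd (.nd (.nd (.nd (.lf 0xc9) (.lf 0x2db)) (.nd (.lf 0x4c5) (.lf 0x693))) (.nd (.nd (.lf 0xf8) (.lf 0x5b7)) (.nd (.lf 0x1c7) (.lf 0)))) (.nd (.nd (.nd (.lf 0x216) (.lf 0x658)) (.nd (.lf 0x562) (.lf 0x593))) (.nd (.nd (.lf 0x40f) (.lf 0x5b2)) (.nd (.lf 0x58e) (.lf 0)))))) (.nd (.nd (.nd (.nd (.nd (.lf 0x6f) (.lf 0x666)) (.nd (.lf 0x49a) (.lf 0x5cb))) (.nd (.nd (.lf 0x2e7) (.lf 0x5a1)) (.nd (.lf 0x5c3) (.lf 0)))) (.nd (.nd (.nd (.lf 0x1c9)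 (.lf 0xd3)) (.nd (.lf 0x33e) (.lf 0x399))) (.nd (.nd (.lf 0x2f9) (.lf 0x6b1)) (.nd (.lf 0x3e2) (.lf 0))))) (.nd (.nd (.nd (.nd (.lf 0x47) (.lf 0xbd)) (.nd (.lf 0x4fa) (.lf 0x2a4))) (.nd (.nd (.lf 0x367) (.lf 0x68f)) (.nd (.lf 0xba) (.lf 0)))) (.nd (.nd (.nd (.lf 0x261) (.lf 0xf4)) (.nd (.lf 0x218) (.lf 0))) (.nd (.nd (.lf 0x3c3) (.lf 0x611)) (.nd (.lf 0x437) (.lf 0)))))))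
def tabA2_naabab : Tr := (.nd (.nd (.nd (.nd (.nd (.nd (.lf 0x3f) (.lf 0x225)) (.nd (.lf 0x3f8) (.lf 0x58b))) (.nd (.nd (.lf 0x2c4) (.lf 0x23)) (.nd (.lf 0x4b9) (.lf 0)))) (.nd (.nd (.nd (.lf 0x19f) (.lf 0x352)) (.nd (.lf 0x530) (.lf 0x3d7))) (.nd (.nd (.lf 0x3bb) (.lf 0x604)) (.nd (.lf 0x51c) (.lf 0))))) (.nd (.nd (.nd (.nd (.lf 0xf6) (.lf 0x214)) (.nd (.lf 0x4de) (.lf 0x42b))) (.nd (.nd (.lf 0x349) (.lf 0x56b)) (.nd (.lf 0x5ec) (.lf 0)))) (.nd (.nd (.nd (.lf 0x23c) (.lf 0xea)) (.nd (.lf 0x429) (.lf 0x2fb))) (.nd (.nd (.lf 0x1df) (.lf 0x656)) (.nd (.lf 0x56a) (.lf 0)))))) (.nd (.nd (.nd (.nd (.nd (.lf 0x9b) (.lf 0x4d0)) (.nd (.lf 0x4ad) (.lf 0x17b))) (.nd (.nd (.lf 0x306) (.lf 0x5b5)) (.nd (.lf 0x542) (.lf 0)))) (.nd (.nd (.nd (.lf 0x123)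 (.lf 0xd8)) (.nd (.lf 0x35b) (.lf 0x2a9))) (.nd (.nd (.lf 0x3f9) (.lf 0x59a)) (.nd (.lf 0x481) (.lf 0))))) (.nd (.nd (.nd (.nd (.lf 0x14a) (.lf 0x1ad)) (.nd (.lf 0x497) (.lf 0x4f0))) (.nd (.nd (.lf 0x386) (.lf 0x5d7)) (.nd (.lf 0x460) (.lf 0)))) (.nd (.nd (.nd (.lf 0x25d) (.lf 0xbf)) (.nd (.lf 0x43c) (.lf 0))) (.nd (.nd (.lf 0x456) (.lf 0x270)) (.nd (.lf 0x34f) (.lf 0)))))))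
def tabA2_naabba : Tr := (.nd (.nd (.nd (.nd (.nd (.nd (.lf 0x27) (.lf 0x617)) (.nd (.lf 0x47c) (.lf 0x2b7))) (.nd (.nd (.lf 0x2b5) (.lf 0x1d2)) (.nd (.lf 0x513) (.lf 0)))) (.nd (.nd (.nd (.lf 0x18a) (.lf 0x479)) (.nd (.lf 0x292) (.lf 0x5f4))) (.nd (.nd (.lf 0x394) (.lf 0x5b3)) (.nd (.lf 0x60c) (.lf 0))))) (.nd (.nd (.nd (.nd (.lf 0xdf) (.lf 0x428)) (.nd (.lf 0x4d1) (.lf 0x2d7))) (.nd (.nd (.lf 0x337) (.lf 0x373)) (.nd (.lf 0x4bf) (.lf 0)))) (.nd (.nd (.nd (.lf 0x226) (.lf 0x17c)) (.nd (.lf 0x89) (.lf 0x2e3))) (.nd (.nd (.lf 0x1f6) (.lf 0x241)) (.nd (.lf 0x235) (.lf 0)))))) (.nd (.nd (.nd (.nd (.nd (.lf 0x77) (.lf 0x66d)) (.nd (.lf 0x1e3) (.lf 0x6b7))) (.nd (.nd (.lf 0x23e) (.lf 0x6be)) (.nd (.lf 0x4e1) (.lf 0)))) (.nd (.nd (.nd (.lf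 0x1dd) (.lf 0x146)) (.nd (.lf 0x96) (.lf 0x395))) (.nd (.nd (.lf 0x151) (.lf 0x59)) (.nd (.lf 0x278) (.lf 0))))) (.nd (.nd (.nd (.nd (.lf 0x133) (.lf 0x648)) (.nd (.lf 0x357) (.lf 0x5c6))) (.nd (.nd (.lf 0x376) (.lf 0x85)) (.nd (.lf 0x552) (.lf 0)))) (.nd (.nd (.nd (.lf 0x271) (.lf 0x62f)) (.nd (.lf 0x149) (.lf 0))) (.nd (.nd (.lf 0x2f4) (.lf 0x5cf)) (.nd (.lf 0x1b6) (.lf 0)))))))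
def tabA2_naabbb : Tr := (.nd (.nd (.nd (.nd (.nd (.nd (.lf 0x57) (.lf 0x213)) (.nd (.lf 0x168) (.lf 0x280))) (.nd (.nd (.lf 0x2d5) (.lf 0x603)) (.nd (.lf 0x535) (.lf 0)))) (.nd (.nd (.nd (.lf 0x1b5) (.lf 0x40c)) (.nd (.lf 0x269) (.lf 0x695))) (.nd (.nd (.lf 0x2ea) (.lf 0x68a)) (.nd (.lf 0x1fe) (.lf 0))))) (.nd (.nd (.nd (.nd (.lf 0x10a) (.lf 0x3da)) (.nd (.lf 0x88) (.lf 0x4b5))) (.nd (.nd (.lf 0x298) (.lf 0x3d4)) (.nd (.lf 0x143) (.lf 0)))) (.nd (.nd (.nd (.lf 0x0) (.lf 0x137)) (.nd (.lf 0x579) (.lf 0))) (.nd (.nd (.lf 0x432) (.lf 0x433)) (.nd (.lf 0x22e) (.lf 0)))))) (.nd (.nd (.nd (.nd (.nd (.lf 0x84) (.lf 0x675)) (.nd (.lf 0x29b) (.lf 0x537))) (.nd (.nd (.lf 0x318) (.lf 0x467)) (.nd (.lf 0xcf) (.lf 0)))) (.nd (.nd (.nd (.lf 0x202)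 (.lf 0x679)) (.nd (.lf 0x55b) (.lf 0x222))) (.nd (.nd (.lf 0x406) (.lf 0x69d)) (.nd (.lf 0x614) (.lf 0))))) (.nd (.nd (.nd (.nd (.lf 0x161) (.lf 0xab)) (.nd (.lf 0x516) (.lf 0x699))) (.nd (.nd (.lf 0x390) (.lf 0x16c)) (.nd (.lf 0x47e) (.lf 0)))) (.nd (.nd (.nd (.lf 0x293) (.lf 0x327)) (.nd (.lf 0x39b) (.lf 0))) (.nd (.nd (.lf 0x464) (.lf 0x5e9)) (.nd (.lf 0x2b1) (.lf 0)))))))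
def tabA2_nabaaa : Tr := (.nd (.nd (.nd (.nd (.nd (.nd (.lf 0x9) (.lf 0x458)) (.nd (.lf 0x9f) (.lf 0x489))) (.nd (.nd (.lf 0x2a1) (.lf 0x6b4)) (.nd (.lf 0x5a2) (.lf 0)))) (.nd (.nd (.nd (.lf 0x171) (.lf 0x40b)) (.nd (.lf 0x2a7) (.lf 0x5de))) (.nd (.nd (.lf 0xe) (.lf 0x6b9)) (.nd (.lf 0x4e7) (.lf 0))))) (.nd (.nd (.nd (.nd (.lf 0xc3) (.lf 0x59e)) (.nd (.lf 0x2ff) (.lf 0x6d7))) (.nd (.nd (.lf 0x323) (.lf 0x6c4)) (.nd (.lf 0x272) (.lf 0)))) (.nd (.nd (.nd (.lf 0x212) (.lf 0x6a3)) (.nd (.lf 0x55f) (.lf 0x66a))) (.nd (.nd (.lf 0x2e9) (.lf 0x5af)) (.nd (.lf 0x4e4) (.lf 0)))))) (.nd (.nd (.nd (.nd (.nd (.lf 0x69) (.lf 0xca)) (.nd (.lf 0x498) (.lf 0x66c))) (.nd (.nd (.lf 0x2e2) (.lf 0x3a0)) (.nd (.lf 0x434) (.lf 0)))) (.nd (.nd (.nd (.lf 0x1c3)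 (.lf 0x4f9)) (.nd (.lf 0x426) (.lf 0x6da))) (.nd (.nd (.lf 0x3d3) (.lf 0x27b)) (.nd (.lf 0x563) (.lf 0))))) (.nd (.nd (.nd (.nd (.lf 0x11a) (.lf 0x4ce)) (.nd (.lf 0x4f7) (.lf 0x590))) (.nd (.nd (.lf 0x43) (.lf 0x50e)) (.nd (.lf 0x27e) (.lf 0)))) (.nd (.nd (.nd (.lf 0x25c) (.lf 0x12c)) (.nd (.lf 0x2e) (.lf 0))) (.nd (.nd (.lf 0x43a) (.lf 0x3fd)) (.nd (.lf 0x54f) (.lf 0)))))))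
def tabA2_nabaab : Tr := (.nd (.nd (.nd (.nd (.nd (.nd (.lf 0x39) (.lf 0x525)) (.nd (.lf 0x483) (.lf 0x696))) (.nd (.nd (.lf 0x2c1) (.lf 0x119)) (.nd (.lf 0x3e4) (.lf 0)))) (.nd (.nd (.nd (.lf 0x19a) (.lf 0x685)) (.nd (.lf 0x52d) (.lf 0x238))) (.nd (.nd (.lf 0x3b7) (.lf 0x4a5)) (.nd (.lf 0x3d2) (.lf 0))))) (.nd (.nd (.nd (.nd (.lf 0xf1) (.lf 0x99)) (.nd (.lf 0x26) (.lf 0x61c))) (.nd (.nd (.lf 0x344) (.lf 0x5db)) (.nd (.lf 0x120) (.lf 0)))) (.nd (.nd (.nd (.lf 0x237) (.lf 0x178)) (.nd (.lf 0x34b) (.lf 0x4a3))) (.nd (.nd (.lf 0x424) (.lf 0x2ae)) (.nd (.lf 0x208) (.lf 0)))))) (.nd (.nd (.nd (.nd (.nd (.lf 0x95) (.lf 0xac)) (.nd (.lf 0x4a9) (.lf 0x1a3))) (.nd (.nd (.lf 0x301) (.lf 0x35)) (.nd (.lf 0x203) (.lf 0)))) (.nd (.nd (.nd (.lf 0x1ea)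 (.lf 0x4fc)) (.nd (.lf 0x4b4) (.lf 0xe6))) (.nd (.nd (.lf 0x3f4) (.lf 0x629)) (.nd (.lf 0x1a0) (.lf 0))))) (.nd (.nd (.nd (.nd (.lf 0x144) (.lf 0x230)) (.nd (.lf 0x4d9) (.lf 0x7))) (.nd (.nd (.lf 0xdc) (.lf 0x3bf)) (.nd (.lf 0x57a) (.lf 0)))) (.nd (.nd (.nd (.lf 0x282) (.lf 0x491)) (.nd (.lf 0x107) (.lf 0))) (.nd (.nd (.lf 0x453) (.lf 0x41b)) (.nd (.lf 0x649) (.lf 0)))))))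
def tabA2_nababa : Tr := (.nd (.nd (.nd (.nd (.nd (.nd (.lf 0x21) (.lf 0x274)) (.nd (.lf 0x231) (.lf 0x6a5))) (.nd (.nd (.lf 0x2b0) (.lf 0x63a)) (.nd (.lf 0x341) (.lf 0)))) (.nd (.nd (.nd (.lf 0x186) (.lf 0x2d1)) (.nd (.lf 0x295) (.lf 0xa9))) (.nd (.nd (.lf 0x3a9) (.lf 0x5b)) (.nd (.lf 0x2c8) (.lf 0))))) (.nd (.nd (.nd (.nd (.lf 0xda) (.lf 0x220)) (.nd (.lf 0x48a) (.lf 0x6d8))) (.nd (.nd (.lf 0x332) (.lf 0x46c)) (.nd (.lf 0x574) (.lf 0)))) (.nd (.nd (.nd (.lf 0x223) (.lf 0xe7)) (.nd (.lf 0x567) (.lf 0x533))) (.nd (.nd (.lf 0x35d) (.lf 0x570)) (.nd (.lf 0x305) (.lf 0)))))) (.nd (.nd (.nd (.nd (.nd (.lf 0x80) (.lf 0x4e2)) (.nd (.lf 0x1fb) (.lf 0x6ab))) (.nd (.nd (.lf 0x2f2) (.lf 0x41d)) (.nd (.lf 0x58d) (.lf 0)))) (.nd (.nd (.nd (.lf 0x1b0)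 (.lf 0x664)) (.nd (.lf 0x46) (.lf 0x6a9))) (.nd (.nd (.lf 0x3e1) (.lf 0x67b)) (.nd (.lf 0x539) (.lf 0))))) (.nd (.nd (.nd (.nd (.lf 0xd2) (.lf 0x647)) (.nd (.lf 0x504) (.lf 0x92))) (.nd (.nd (.lf 0x372) (.lf 0x402)) (.nd (.lf 0x5ff) (.lf 0)))) (.nd (.nd (.nd (.lf 0x56) (.lf 0x411)) (.nd (.lf 0x580) (.lf 0))) (.nd (.nd (.lf 0x448) (.lf 0x3fc)) (.nd (.lf 0x3ef) (.lf 0)))))))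
def tabA2_nababb : Tr := (.nd (.nd (.nd (.nd (.nd (.nd (.lf 0x51) (.lf 0x65f)) (.nd (.lf 0x490) (.lf 0x94))) (.nd (.nd (.lf 0x2cf) (.lf 0x6bc)) (.nd (.lf 0x227) (.lf 0)))) (.nd (.nd (.nd (.lf 0x1af) (.lf 0x5d2)) (.nd (.lf 0x536) (.lf 0x609))) (.nd (.nd (.lf 0x36d) (.lf 0xf9)) (.nd (.lf 0x619) (.lf 0))))) (.nd (.nd (.nd (.nd (.lf 0x5) (.lf 0x248)) (.nd (.lf 0x4e8) (.lf 0x49b))) (.nd (.nd (.lf 0x354) (.lf 0x11e)) (.nd (.lf 0x345) (.lf 0)))) (.nd (.nd (.nd (.lf 0x24a) (.lf 0x616)) (.nd (.lf 0x19e) (.lf 0x244))) (.nd (.nd (.lf 0x3c0) (.lf 0x488)) (.nd (.lf 0x21a) (.lf 0)))))) (.nd (.nd (.nd (.nd (.nd (.lf 0xad) (.lf 0x11)) (.nd (.lf 0x24e) (.lf 0x11c))) (.nd (.nd (.lf 0x312) (.lf 0x53d)) (.nd (.lf 0x5d6) (.lf 0)))) (.nd (.nd (.nd (.lf 0x1fc)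 (.lf 0x69e)) (.nd (.lf 0x559) (.lf 0x19d))) (.nd (.nd (.lf 0x3fa) (.lf 0x2cc)) (.nd (.lf 0x62b) (.lf 0))))) (.nd (.nd (.nd (.nd (.lf 0x15b) (.lf 0x5fd)) (.nd (.lf 0x514) (.lf 0x363))) (.nd (.nd (.lf 0x38d) (.lf 0x224)) (.nd (.lf 0x5da) (.lf 0)))) (.nd (.nd (.nd (.lf 0x28f) (.lf 0x31f)) (.nd (.lf 0x598) (.lf 0))) (.nd (.nd (.lf 0x461) (.lf 0x1c8)) (.nd (.lf 0x40e) (.lf 0)))))))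
def tabA2_nabbaa : Tr := (.nd (.nd (.nd (.nd (.nd (.nd (.lf 0x15) (.lf 0x217)) (.nd (.lf 0x474) (.lf 0x5a9))) (.nd (.nd (.lf 0x289) (.lf 0x626)) (.nd (.lf 0x142) (.lf 0)))) (.nd (.nd (.nd (.lf 0x17a) (.lf 0x691)) (.nd (.lf 0x526) (.lf 0x435))) (.nd (.nd (.lf 0x3a2) (.lf 0x115)) (.nd (.lf 0x16) (.lf 0))))) (.nd (.nd (.nd (.nd (.lf 0xce) (.lf 0x38c)) (.nd (.lf 0x4c9) (.lf 0x304))) (.nd (.nd (.lf 0x32b) (.lf 0x86)) (.nd (.lf 0x5e3) (.lf 0)))) (.nd (.nd (.nd (.lf 0x21c) (.lf 0x640)) (.nd (.lf 0x157) (.lf 0x3db))) (.nd (.nd (.lf 0x412) (.lf 0x569)) (.nd (.lf 0x254) (.lf 0)))))) (.nd (.nd (.nd (.nd (.nd (.lf 0x75) (.lf 0x578)) (.nd (.lf 0x249) (.lf 0x478))) (.nd (.nd (.lf 0x2eb) (.lf 0x3ac)) (.nd (.lf 0x130) (.lf 0)))) (.nd (.nd (.nd (.lf 0xfb)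 (.lf 0x698)) (.nd (.lf 0x545) (.lf 0x48e))) (.nd (.nd (.lf 0x3d9) (.lf 0x668)) (.nd (.lf 0x621) (.lf 0))))) (.nd (.nd (.nd (.nd (.lf 0x125) (.lf 0x4e9)) (.nd (.lf 0x4fe) (.lf 0x296))) (.nd (.nd (.lf 0x36c) (.lf 0x1bf)) (.nd (.lf 0x2c7) (.lf 0)))) (.nd (.nd (.nd (.lf 0x266) (.lf 0x431)) (.nd (.lf 0x587) (.lf 0))) (.nd (.nd (.lf 0x441) (.lf 0x644)) (.nd (.lf 0x2b9) (.lf 0)))))))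
def tabA2_nabbab : Tr := (.nd (.nd (.nd (.nd (.nd (.nd (.lf 0x45) (.lf 0x65d)) (.nd (.lf 0x207) (.lf 0x534))) (.nd (.nd (.lf 0x41) (.lf 0x1d4)) (.nd (.lf 0x4f5) (.lf 0)))) (.nd (.nd (.nd (.lf 0x1a5) (.lf 0x582)) (.nd (.lf 0x44f) (.lf 0x73))) (.nd (.nd (.lf 0x3be) (.lf 0x6cf)) (.nd (.lf 0x612) (.lf 0))))) (.nd (.nd (.nd (.nd (.lf 0xfa) (.lf 0x661)) (.nd (.lf 0x1f3) (.lf 0x74))) (.nd (.nd (.lf 0x34d) (.lf 0x6c9)) (.nd (.lf 0x524) (.lf 0)))) (.nd (.nd (.nd (.lf 0x240) (.lf 0x355)) (.nd (.lf 0x258) (.lf 0x6a0))) (.nd (.nd (.lf 0x427) (.lf 0x6bf)) (.nd (.lf 0x3ea) (.lf 0)))))) (.nd (.nd (.nd (.nd (.nd (.lf 0xa1) (.lf 0x65a)) (.nd (.lf 0x3ae) (.lf 0x335))) (.nd (.nd (.lf 0x30a) (.lf 0x568)) (.nd (.lf 0x16b) (.lf 0)))) (.nd (.nd (.nd (.lf 0x1f2)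 (.lf 0x651)) (.nd (.lf 0x26d) (.lf 0x79))) (.nd (.nd (.lf 0x8e) (.lf 0x3de)) (.nd (.lf 0x571) (.lf 0))))) (.nd (.nd (.nd (.nd (.lf 0x150) (.lf 0x17e)) (.nd (.lf 0x1a4) (.lf 0x52c))) (.nd (.nd (.lf 0x21b) (.lf 0x4a)) (.nd (.lf 0x45e) (.lf 0)))) (.nd (.nd (.nd (.lf 0x288) (.lf 0x5a4)) (.nd (.lf 0x3cc) (.lf 0))) (.nd (.nd (.lf 0x3bd) (.lf 0x366)) (.nd (.lf 0x319) (.lf 0)))))))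
def tabA2_nabbba : Tr := (.nd (.nd (.nd (.nd (.nd (.nd (.lf 0x2d) (.lf 0x70)) (.nd (.lf 0xd9) (.lf 0x245))) (.nd (.nd (.lf 0x2ba) (.lf 0x4f1)) (.nd (.lf 0x5ac) (.lf 0)))) (.nd (.nd (.nd (.lf 0x18f) (.lf 0x477)) (.nd (.lf 0x51a) (.lf 0x185))) (.nd (.nd (.lf 0x348) (.lf 0x285)) (.nd (.lf 0x45c) (.lf 0))))) (.nd (.nd (.nd (.nd (.lf 0xe5) (.lf 0x5f0)) (.nd (.lf 0x4d6) (.lf 0x260))) (.nd (.nd (.lf 0x33b) (.lf 0x565)) (.nd (.lf 0x5e7) (.lf 0)))) (.nd (.nd (.nd (.lf 0x22c) (.lf 0x57b)) (.nd (.lf 0x1f1) (.lf 0x6d6))) (.nd (.nd (.lf 0x393) (.lf 0x511)) (.nd (.lf 0x507) (.lf 0)))))) (.nd (.nd (.nd (.nd (.nd (.lf 0x8a) (.lf 0x313)) (.nd (.lf 0x2cb) (.lf 0x63c))) (.nd (.nd (.lf 0x2fa) (.lf 0x29c)) (.nd (.lf 0x39d) (.lf 0)))) (.nd (.nd (.nd (.lf 0x1e1)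 (.lf 0x69c)) (.nd (.lf 0x7f) (.lf 0x110))) (.nd (.nd (.lf 0x3eb) (.lf 0x28a)) (.nd (.lf 0x5e6) (.lf 0))))) (.nd (.nd (.nd (.nd (.lf 0x139) (.lf 0x333)) (.nd (.lf 0x20e) (.lf 0x6bd))) (.nd (.nd (.lf 0x37b) (.lf 0x419)) (.nd (.lf 0x3af) (.lf 0)))) (.nd (.nd (.nd (.lf 0x276) (.lf 0x311)) (.nd (.lf 0x463) (.lf 0))) (.nd (.nd (.lf 0x44d) (.lf 0x39e)) (.nd (.lf 0x645) (.lf 0)))))))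
def tabA2_nabbbb : Tr := (.nd (.nd (.nd (.nd (.nd (.nd (.lf 0x5d) (.lf 0x662)) (.nd (.lf 0x37a) (.lf 0x5bc))) (.nd (.nd (.lf 0x2d9) (.lf 0x5ce)) (.nd (.lf 0x200) (.lf 0)))) (.nd (.nd (.nd (.lf 0x14b) (.lf 0x60f)) (.nd (.lf 0x1c4) (.lf 0x262))) (.nd (.nd (.lf 0x3ca) (.lf 0x697)) (.nd (.lf 0x5c4) (.lf 0))))) (.nd (.nd (.nd (.nd (.lf 0x10f) (.lf 0x494)) (.nd (.lf 0x4ef) (.lf 0x502))) (.nd (.nd (.lf 0x35c) (.lf 0x480)) (.nd (.lf 0x5f3) (.lf 0)))) (.nd (.nd (.nd (.lf 0x253) (.lf 0x4b1)) (.nd (.lf 0x57d) (.lf 0))) (.nd (.nd (.lf 0x2d8) (.lf 0x2b)) (.nd (.lf 0x1bb) (.lf 0)))))) (.nd (.nd (.nd (.nd (.nd (.lf 0xb8) (.lf 0x667)) (.nd (.lf 0x4bc) (.lf 0x9c))) (.nd (.nd (.lf 0x2c3) (.lf 0x592)) (.nd (.lf 0x4bb) (.lf 0)))) (.nd (.nd (.nd (.lf 0x206)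 (.lf 0x503)) (.nd (.lf 0x1c5) (.lf 0x5c2))) (.nd (.nd (.lf 0x2ed) (.lf 0x4c)) (.nd (.lf 0x1ed) (.lf 0))))) (.nd (.nd (.nd (.nd (.lf 0x167) (.lf 0x68e)) (.nd (.lf 0x519) (.lf 0x3a1))) (.nd (.nd (.lf 0x2f8) (.lf 0x8f)) (.nd (.lf 0x1eb) (.lf 0)))) (.nd (.nd (.nd (.lf 0x297) (.lf 0x6b2)) (.nd (.lf 0x39a) (.lf 0))) (.nd (.nd (.lf 0x3a) (.lf 0x83)) (.nd (.lf 0x64f) (.lf 0)))))))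
def tabA2_nbaaaa : Tr := (.nd (.nd (.nd (.nd (.nd (.nd (.lf 0x6) (.lf 0xdb)) (.nd (.lf 0x3ba) (.lf 0x4cd))) (.nd (.nd (.lf 0x29e) (.lf 0x3d6)) (.nd (.lf 0x59f) (.lf 0)))) (.nd (.nd (.nd (.lf 0x16f) (.lf 0x275)) (.nd (.lf 0x51f) (.lf 0xfe))) (.nd (.nd (.lf 0x397) (.lf 0x48c)) (.nd (.lf 0x321) (.lf 0))))) (.nd (.nd (.nd (.nd (.lf 0xc1) (.lf 0x3d5)) (.nd (.lf 0x4c0) (.lf 0x6ce))) (.nd (.nd (.lf 0x320) (.lf 0xef)) (.nd (.lf 0x561) (.lf 0)))) (.nd (.nd (.nd (.lf 0x20f) (.lf 0x49d)) (.nd (.lf 0x55e) (.lf 0x624))) (.nd (.nd (.lf 0x9a) (.lf 0xc5)) (.nd (.lf 0x630) (.lf 0)))))) (.nd (.nd (.nd (.nd (.nd (.lf 0x66) (.lf 0x7e)) (.nd (.lf 0x3b4) (.lf 0x688))) (.nd (.nd (.lf 0x2df) (.lf 0x191)) (.nd (.lf 0x5bf) (.lf 0)))) (.nd (.nd (.nd (.lf 0x1c0)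 (.lf 0x166)) (.nd (.lf 0x53f) (.lf 0x6a6))) (.nd (.nd (.lf 0x3e) (.lf 0x692)) (.nd (.lf 0x40a) (.lf 0))))) (.nd (.nd (.nd (.nd (.lf 0x117) (.lf 0x548)) (.nd (.lf 0x32e) (.lf 0x6ca))) (.nd (.nd (.lf 0xc4) (.lf 0x328)) (.nd (.lf 0x3e9) (.lf 0)))) (.nd (.nd (.nd (.lf 0x259) (.lf 0x17f)) (.nd (.lf 0x179) (.lf 0))) (.nd (.nd (.lf 0xa3) (.lf 0x67c)) (.nd (.lf 0x61d) (.lf 0)))))))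
def tabA2_nbaaab : Tr := (.nd (.nd (.nd (.nd (.nd (.nd (.lf 0x36) (.lf 0x55c)) (.nd (.lf 0x5c) (.lf 0x527))) (.nd (.nd (.lf 0x2bf) (.lf 0x500)) (.nd (.lf 0x5b1) (.lf 0)))) (.nd (.nd (.nd (.lf 0x198) (.lf 0x66e)) (.nd (.lf 0x129) (.lf 0x69a))) (.nd (.nd (.lf 0x3b6) (.lf 0x50f)) (.nd (.lf 0x13f) (.lf 0))))) (.nd (.nd (.nd (.nd (.lf 0xee) (.lf 0x30f)) (.nd (.lf 0x4d7) (.lf 0x2c))) (.nd (.nd (.lf 0x342) (.lf 0x1d9)) (.nd (.lf 0x44c) (.lf 0)))) (.nd (.nd (.nd (.lf 0x234) (.lf 0x1d5)) (.nd (.lf 0x56d) (.lf 0x3d0))) (.nd (.nd (.lf 0x422) (.lf 0x18e)) (.nd (.lf 0x4f4) (.lf 0)))))) (.nd (.nd (.nd (.nd (.nd (.lf 0x4) (.lf 0x671)) (.nd (.lf 0x4a8) (.lf 0x482))) (.nd (.nd (.lf 0x8c) (.lf 0x61)) (.nd (.lf 0x2f0) (.lf 0)))) (.nd (.nd (.nd (.lf 0x111)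 (.lf 0x33d)) (.nd (.lf 0x54d) (.lf 0x68b))) (.nd (.nd (.lf 0x58) (.lf 0x4e3)) (.nd (.lf 0xb6) (.lf 0))))) (.nd (.nd (.nd (.nd (.lf 0x141) (.lf 0x5a5)) (.nd (.lf 0x50a) (.lf 0x553))) (.nd (.nd (.lf 0x37f) (.lf 0x190)) (.nd (.lf 0x591) (.lf 0)))) (.nd (.nd (.nd (.lf 0x27f) (.lf 0x29d)) (.nd (.lf 0x595) (.lf 0))) (.nd (.nd (.lf 0x451) (.lf 0x2e8)) (.nd (.lf 0x51b) (.lf 0)))))))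
def tabA2_nbaaba : Tr := (.nd (.nd (.nd (.nd (.nd (.nd (.lf 0x1e) (.lf 0x1fa)) (.nd (.lf 0x10b) (.lf 0x5f7))) (.nd (.nd (.lf 0x2ad) (.lf 0x4c6)) (.nd (.lf 0x384) (.lf 0)))) (.nd (.nd (.nd (.lf 0x183) (.lf 0x162)) (.nd (.lf 0x529) (.lf 0x71))) (.nd (.nd (.lf 0x3a6) (.lf 0x4c7)) (.nd (.lf 0x49e) (.lf 0))))) (.nd (.nd (.nd (.nd (.lf 0xd7) (.lf 0x67a)) (.nd (.lf 0x76) (.lf 0x4b7))) (.nd (.nd (.lf 0x330) (.lf 0x181)) (.nd (.lf 0x5e5) (.lf 0)))) (.nd (.nd (.nd (.lf 0x221) (.lf 0x2fe)) (.nd (.lf 0x566) (.lf 0x5c7))) (.nd (.nd (.lf 0x338) (.lf 0x6cb)) (.nd (.lf 0xf3) (.lf 0)))))) (.nd (.nd (.nd (.nd (.nd (.lf 0x7d) (.lf 0x669)) (.nd (.lf 0x50) (.lf 0xe9))) (.nd (.nd (.lf 0x2f1) (.lf 0x3ee)) (.nd (.lf 0x5cc) (.lf 0)))) (.nd (.nd (.nd (.lf 0x1d6)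 (.lf 0x57f)) (.nd (.lf 0x368) (.lf 0x2f))) (.nd (.nd (.lf 0x3df) (.lf 0x63f)) (.nd (.lf 0xc8) (.lf 0))))) (.nd (.nd (.nd (.nd (.lf 0x12d) (.lf 0x470)) (.nd (.lf 0x4c1) (.lf 0x4e0))) (.nd (.nd (.lf 0x371) (.lf 0x63b)) (.nd (.lf 0x5fe) (.lf 0)))) (.nd (.nd (.nd (.lf 0x26c) (.lf 0x45a)) (.nd (.lf 0x2d3) (.lf 0))) (.nd (.nd (.lf 0x233) (.lf 0x430)) (.nd (.lf 0x2be) (.lf 0)))))))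
def tabA2_nbaabb : Tr := (.nd (.nd (.nd (.nd (.nd (.nd (.lf 0x4e) (.lf 0x622)) (.nd (.lf 0x48f) (.lf 0x2b2))) (.nd (.nd (.lf 0x169) (.lf 0x356)) (.nd (.lf 0x3f3) (.lf 0)))) (.nd (.nd (.nd (.lf 0x1ac) (.lf 0x694)) (.nd (.lf 0x104) (.lf 0x6a2))) (.nd (.nd (.lf 0x3c2) (.lf 0x659)) (.nd (.lf 0x444) (.lf 0))))) (.nd (.nd (.nd (.nd (.lf 0x103) (.lf 0x672)) (.nd (.lf 0x4e5) (.lf 0x121))) (.nd (.nd (.lf 0x351) (.lf 0x6c2)) (.nd (.lf 0x4ca) (.lf 0)))) (.nd (.nd (.nd (.lf 0x247) (.lf 0x4df)) (.nd (.lf 0x281) (.lf 0x6c1))) (.nd (.nd (.lf 0x42e) (.lf 0x2e0)) (.nd (.lf 0x13c) (.lf 0)))))) (.nd (.nd (.nd (.nd (.nd (.lf 0xaa) (.lf 0x66f)) (.nd (.lf 0x35f) (.lf 0x3d1))) (.nd (.nd (.lf 0x310) (.lf 0x3fe)) (.nd (.lf 0x380) (.lf 0)))) (.nd (.nd (.nd (.lf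 0x1f9) (.lf 0x654)) (.nd (.lf 0x3b0) (.lf 0x425))) (.nd (.nd (.lf 0x1b1) (.lf 0x5b9)) (.nd (.lf 0x509) (.lf 0))))) (.nd (.nd (.nd (.nd (.lf 0x158) (.lf 0x48d)) (.nd (.lf 0x197) (.lf 0x6b8))) (.nd (.nd (.lf 0x267) (.lf 0x400)) (.nd (.lf 0x44a) (.lf 0)))) (.nd (.nd (.nd (.lf 0x28e) (.lf 0x599)) (.nd (.lf 0x1ca) (.lf 0))) (.nd (.nd (.lf 0x45f) (.lf 0x643)) (.nd (.lf 0x64b) (.lf 0)))))))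
def tabA2_nbabaa : Tr := (.nd (.nd (.nd (.nd (.nd (.nd (.lf 0x12) (.lf 0x653)) (.nd (.lf 0x1e6) (.lf 0x454))) (.nd (.nd (.lf 0x2a6) (.lf 0x29)) (.nd (.lf 0x302) (.lf 0)))) (.nd (.nd (.nd (.lf 0x177) (.lf 0x665)) (.nd (.lf 0x3a7) (.lf 0x405))) (.nd (.nd (.lf 0x39f) (.lf 0x2d4)) (.nd (.lf 0x608) (.lf 0))))) (.nd (.nd (.nd (.nd (.lf 0xcb) (.lf 0x31a)) (.nd (.lf 0x4c8) (.lf 0xbc))) (.nd (.nd (.lf 0x329) (.lf 0x374)) (.nd (.lf 0x473) (.lf 0)))) (.nd (.nd (.nd (.lf 0x219) (.lf 0x5a8)) (.nd (.lf 0x3cf) (.lf 0x55a))) (.nd (.nd (.lf 0x3aa) (.lf 0x37e)) (.nd (.lf 0x388) (.lf 0)))))) (.nd (.nd (.nd (.nd (.nd (.lf 0x72) (.lf 0x64d)) (.nd (.lf 0x49c) (.lf 0xaf))) (.nd (.nd (.lf 0x255) (.lf 0x239)) (.nd (.lf 0x5c5) (.lf 0)))) (.nd (.nd (.nd (.lf 0x1cc)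 (.lf 0x610)) (.nd (.lf 0x33a) (.lf 0x18c))) (.nd (.nd (.lf 0x12e) (.lf 0x2c6)) (.nd (.lf 0x61f) (.lf 0))))) (.nd (.nd (.nd (.nd (.lf 0x122) (.lf 0x60a)) (.nd (.lf 0x38f) (.lf 0x52a))) (.nd (.nd (.lf 0x36a) (.lf 0x641)) (.nd (.lf 0x5fa) (.lf 0)))) (.nd (.nd (.nd (.lf 0x263) (.lf 0xb3)) (.nd (.lf 0x585) (.lf 0))) (.nd (.nd (.lf 0x43e) (.lf 0x343)) (.nd (.lf 0x462) (.lf 0)))))))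
def tabA2_nbabab : Tr := (.nd (.nd (.nd (.nd (.nd (.nd (.lf 0x42) (.lf 0x65b)) (.nd (.lf 0x472) (.lf 0x29f))) (.nd (.nd (.lf 0x232) (.lf 0x2da)) (.nd (.lf 0x49f) (.lf 0)))) (.nd (.nd (.nd (.lf 0x1a2) (.lf 0x628)) (.nd (.lf 0x196) (.lf 0x6d9))) (.nd (.nd (.lf 0x2e4) (.lf 0x43f)) (.nd (.lf 0x22b) (.lf 0))))) (.nd (.nd (.nd (.nd (.lf 0x8b) (.lf 0x680)) (.nd (.lf 0x449) (.lf 0x67e))) (.nd (.nd (.lf 0x172) (.lf 0x6c8)) (.nd (.lf 0x443) (.lf 0)))) (.nd (.nd (.nd (.lf 0x23f) (.lf 0x387)) (.nd (.lf 0x572) (.lf 0x2de))) (.nd (.nd (.lf 0xb4) (.lf 0x1dc)) (.nd (.lf 0x600) (.lf 0)))))) (.nd (.nd (.nd (.nd (.nd (.lf 0x9e) (.lf 0x673)) (.nd (.lf 0x32f) (.lf 0x3d))) (.nd (.nd (.lf 0x308) (.lf 0x64e)) (.nd (.lf 0x3e0) (.lf 0)))) (.nd (.nd (.nd (.lf 0x145)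 (.lf 0x555)) (.nd (.lf 0x520) (.lf 0x540))) (.nd (.nd (.lf 0x10) (.lf 0x633)) (.nd (.lf 0x523) (.lf 0))))) (.nd (.nd (.nd (.nd (.lf 0x14d) (.lf 0x2ec)) (.nd (.lf 0x4d5) (.lf 0xe1))) (.nd (.nd (.lf 0x175) (.lf 0x684)) (.nd (.lf 0x1b9) (.lf 0)))) (.nd (.nd (.nd (.lf 0x32) (.lf 0x67f)) (.nd (.lf 0x554) (.lf 0))) (.nd (.nd (.lf 0x459) (.lf 0x676)) (.nd (.lf 0x4f) (.lf 0)))))))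
def tabA2_nbabba : Tr := (.nd (.nd (.nd (.nd (.nd (.nd (.lf 0x2a) (.lf 0x657)) (.nd (.lf 0x47d) (.lf 0x2b4))) (.nd (.nd (.lf 0x2b8) (.lf 0x632)) (.nd (.lf 0x5aa) (.lf 0)))) (.nd (.nd (.nd (.lf 0x18d) (.lf 0x347)) (.nd (.lf 0x1cf) (.lf 0x6d1))) (.nd (.nd (.lf 0x3ad) (.lf 0x4fb)) (.nd (.lf 0x60e) (.lf 0))))) (.nd (.nd (.nd (.nd (.lf 0xe2) (.lf 0x4be)) (.nd (.lf 0x4d4) (.lf 0x4d2))) (.nd (.nd (.lf 0x339) (.lf 0xe4)) (.nd (.lf 0x421) (.lf 0)))) (.nd (.nd (.nd (.lf 0x229) (.lf 0x5ba)) (.nd (.lf 0x6e) (.lf 0x3bc))) (.nd (.nd (.lf 0x41e) (.lf 0x264)) (.nd (.lf 0x634) (.lf 0)))))) (.nd (.nd (.nd (.nd (.nd (.lf 0x87) (.lf 0x416)) (.nd (.lf 0x38) (.lf 0xb2))) (.nd (.nd (.lf 0x118) (.lf 0x486)) (.nd (.lf 0x418) (.lf 0)))) (.nd (.nd (.nd (.lf 0x1de)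 (.lf 0x69b)) (.nd (.lf 0x228) (.lf 0x309))) (.nd (.nd (.lf 0x3e8) (.lf 0x6d2)) (.nd (.lf 0x3b5) (.lf 0))))) (.nd (.nd (.nd (.nd (.lf 0x136) (.lf 0x547)) (.nd (.lf 0x1ba) (.lf 0x59c))) (.nd (.nd (.lf 0x378) (.lf 0x4b3)) (.nd (.lf 0x10e) (.lf 0)))) (.nd (.nd (.nd (.lf 0x273) (.lf 0x484)) (.nd (.lf 0x1b3) (.lf 0))) (.nd (.nd (.lf 0x44b) (.lf 0x1d1)) (.nd (.lf 0x307) (.lf 0)))))))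
def tabA2_nbabbb : Tr := (.nd (.nd (.nd (.nd (.nd (.nd (.lf 0x5a) (.lf 0x61b)) (.nd (.lf 0x2a0) (.lf 0x364))) (.nd (.nd (.lf 0x12f) (.lf 0x652)) (.nd (.lf 0x5bb) (.lf 0)))) (.nd (.nd (.nd (.lf 0x1b8) (.lf 0x690)) (.nd (.lf 0x1f) (.lf 0x3ce))) (.nd (.nd (.lf 0x3c8) (.lf 0x601)) (.nd (.lf 0x5ea) (.lf 0))))) (.nd (.nd (.nd (.nd (.lf 0x10c) (.lf 0x4eb)) (.nd (.lf 0x4ed) (.lf 0x56c))) (.nd (.nd (.lf 0x359) (.lf 0x47b)) (.nd (.lf 0x1a) (.lf 0)))) (.nd (.nd (.nd (.lf 0x250) (.lf 0x91)) (.nd (.lf 0x57c) (.lf 0))) (.nd (.nd (.lf 0x268) (.lf 0x1a6)) (.nd (.lf 0x126) (.lf 0)))))) (.nd (.nd (.nd (.nd (.nd (.lf 0xb5) (.lf 0x4ae)) (.nd (.lf 0x4ba) (.lf 0x6c0))) (.nd (.nd (.lf 0x13a) (.lf 0x3cb)) (.nd (.lf 0x4cb) (.lf 0)))) (.nd (.nd (.nd (.lf 0x1aa)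 (.lf 0xed)) (.nd (.lf 0x439) (.lf 0x11f))) (.nd (.nd (.lf 0x408) (.lf 0x606)) (.nd (.lf 0x132) (.lf 0))))) (.nd (.nd (.nd (.nd (.lf 0x164) (.lf 0x23b)) (.nd (.lf 0x517) (.lf 0x67d))) (.nd (.nd (.lf 0x392) (.lf 0x6a1)) (.nd (.lf 0x581) (.lf 0)))) (.nd (.nd (.nd (.lf 0x1fd) (.lf 0x6ad)) (.nd (.lf 0x2f6) (.lf 0))) (.nd (.nd (.lf 0x466) (.lf 0x50b)) (.nd (.lf 0x60b) (.lf 0)))))))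
def tabA2_nbbaaa : Tr := (.nd (.nd (.nd (.nd (.nd (.nd (.lf 0xc) (.lf 0x5b6)) (.nd (.lf 0x46e) (.lf 0x2a8))) (.nd (.nd (.lf 0x2a2) (.lf 0x134)) (.nd (.lf 0x1be) (.lf 0)))) (.nd (.nd (.nd (.lf 0x173) (.lf 0x1c1)) (.nd (.lf 0x5f) (.lf 0x369))) (.nd (.nd (.lf 0x300) (.lf 0x620)) (.nd (.lf 0x5f9) (.lf 0))))) (.nd (.nd (.nd (.nd (.lf 0xc6) (.lf 0x678)) (.nd (.lf 0x4c3) (.lf 0x683))) (.nd (.nd (.lf 0x325) (.lf 0x294)) (.nd (.lf 0x4c2) (.lf 0)))) (.nd (.nd (.nd (.lf 0x153) (.lf 0x27d)) (.nd (.lf 0x2b6) (.lf 0x6bb))) (.nd (.nd (.lf 0x6d) (.lf 0x677)) (.nd (.lf 0x5f8) (.lf 0)))))) (.nd (.nd (.nd (.nd (.nd (.lf 0x6c) (.lf 0x655)) (.nd (.lf 0x242) (.lf 0x140))) (.nd (.nd (.lf 0x201) (.lf 0x6aa)) (.nd (.lf 0x1ee) (.lf 0)))) (.nd (.nd (.nd (.lf 0x1c6)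 (.lf 0x2ef)) (.nd (.lf 0x541) (.lf 0x1da))) (.nd (.nd (.lf 0xd5) (.lf 0x45b)) (.nd (.lf 0x61a) (.lf 0))))) (.nd (.nd (.nd (.nd (.lf 0x11d) (.lf 0x4d)) (.nd (.lf 0x4f8) (.lf 0x2a3))) (.nd (.nd (.lf 0x365) (.lf 0x65)) (.nd (.lf 0xa) (.lf 0)))) (.nd (.nd (.nd (.lf 0x25f) (.lf 0x26f)) (.nd (.lf 0x64) (.lf 0))) (.nd (.nd (.lf 0x43b) (.lf 0x1)) (.nd (.lf 0x63e) (.lf 0)))))))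
def tabA2_nbbaab : Tr := (.nd (.nd (.nd (.nd (.nd (.nd (.lf 0x3c) (.lf 0x5c0)) (.nd (.lf 0x485) (.lf 0x19b))) (.nd (.nd (.lf 0x184) (.lf 0x3e7)) (.nd (.lf 0x3e5) (.lf 0)))) (.nd (.nd (.nd (.lf 0x19c) (.lf 0x199)) (.nd (.lf 0x52e) (.lf 0x64c))) (.nd (.nd (.lf 0x3b9) (.lf 0x532)) (.nd (.lf 0x3b2) (.lf 0))))) (.nd (.nd (.nd (.nd (.lf 0x2) (.lf 0x3ec)) (.nd (.lf 0x4db) (.lf 0x3b))) (.nd (.nd (.lf 0x346) (.lf 0x159)) (.nd (.lf 0x26b) (.lf 0)))) (.nd (.nd (.nd (.lf 0x23a) (.lf 0xc7)) (.nd (.lf 0x56f) (.lf 0x12b))) (.nd (.nd (.lf 0x314) (.lf 0x4ec)) (.nd (.lf 0x62) (.lf 0)))))) (.nd (.nd (.nd (.nd (.nd (.lf 0x98) (.lf 0x2aa)) (.nd (.lf 0x2af) (.lf 0x670))) (.nd (.nd (.lf 0x20a) (.lf 0x15c)) (.nd (.lf 0x5d4) (.lf 0)))) (.nd (.nd (.nd (.lf 0x1ec)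 (.lf 0x576)) (.nd (.lf 0x3d8) (.lf 0x23d))) (.nd (.nd (.lf 0x3f6) (.lf 0x46d)) (.nd (.lf 0x11b) (.lf 0))))) (.nd (.nd (.nd (.nd (.lf 0x147) (.lf 0x170)) (.nd (.lf 0x50d) (.lf 0x398))) (.nd (.nd (.lf 0x383) (.lf 0x391)) (.nd (.lf 0x37d) (.lf 0)))) (.nd (.nd (.nd (.lf 0x283) (.lf 0x573)) (.nd (.lf 0x597) (.lf 0))) (.nd (.nd (.lf 0x1e0) (.lf 0x28d)) (.nd (.lf 0x36f) (.lf 0)))))))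
def tabA2_nbbaba : Tr := (.nd (.nd (.nd (.nd (.nd (.nd (.lf 0x24) (.lf 0x30d)) (.nd (.lf 0xe3) (.lf 0x6ae))) (.nd (.nd (.lf 0x2b3) (.lf 0x55d)) (.nd (.lf 0x2f3) (.lf 0)))) (.nd (.nd (.nd (.lf 0x189) (.lf 0x1bc)) (.nd (.lf 0x41f) (.lf 0x4f6))) (.nd (.nd (.lf 0x1b7) (.lf 0x6cd)) (.nd (.lf 0x22d) (.lf 0))))) (.nd (.nd (.nd (.nd (.lf 0xdd) (.lf 0x468)) (.nd (.lf 0x4cf) (.lf 0xd))) (.nd (.nd (.lf 0x334) (.lf 0x6c6)) (.nd (.lf 0x3b3) (.lf 0)))) (.nd (.nd (.nd (.lf 0x13) (.lf 0x613)) (.nd (.lf 0x193) (.lf 0x4aa))) (.nd (.nd (.lf 0x41a) (.lf 0x43d)) (.nd (.lf 0x1f0) (.lf 0)))))) (.nd (.nd (.nd (.nd (.nd (.lf 0x82) (.lf 0x66b)) (.nd (.lf 0x4a1) (.lf 0x24c))) (.nd (.nd (.lf 0x2f5) (.lf 0x575)) (.nd (.lf 0x5a0) (.lf 0)))) (.nd (.nd (.nd (.lf 0x1db)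 (.lf 0x68)) (.nd (.lf 0x93) (.lf 0x97))) (.nd (.nd (.lf 0x3e3) (.lf 0x556)) (.nd (.lf 0x156) (.lf 0))))) (.nd (.nd (.nd (.nd (.lf 0x131) (.lf 0x638)) (.nd (.lf 0x505) (.lf 0x577))) (.nd (.nd (.lf 0x2c2) (.lf 0x316)) (.nd (.lf 0x446) (.lf 0)))) (.nd (.nd (.nd (.lf 0x26e) (.lf 0x618)) (.nd (.lf 0x3b8) (.lf 0))) (.nd (.nd (.lf 0x7b) (.lf 0x81)) (.nd (.lf 0x5e8) (.lf 0)))))))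
def tabA2_nbbabb : Tr := (.nd (.nd (.nd (.nd (.nd (.nd (.lf 0x54) (.lf 0x5f5)) (.nd (.lf 0x492) (.lf 0x410))) (.nd (.nd (.lf 0x2d2) (.lf 0x510)) (.nd (.lf 0x322) (.lf 0)))) (.nd (.nd (.nd (.lf 0x1b2) (.lf 0xf0)) (.nd (.lf 0x538) (.lf 0x6cc))) (.nd (.nd (.lf 0x3c6) (.lf 0x5ed)) (.nd (.lf 0x564) (.lf 0))))) (.nd (.nd (.nd (.nd (.lf 0x108) (.lf 0x682)) (.nd (.lf 0x4ea) (.lf 0x3c4))) (.nd (.nd (.lf 0x16e) (.lf 0x62d)) (.nd (.lf 0x5f1) (.lf 0)))) (.nd (.nd (.nd (.lf 0x24d) (.lf 0x1c2)) (.nd (.lf 0x54b) (.lf 0))) (.nd (.nd (.lf 0xb9) (.lf 0x6ac)) (.nd (.lf 0x560) (.lf 0)))))) (.nd (.nd (.nd (.nd (.nd (.lf 0xb0) (.lf 0x5dc)) (.nd (.lf 0x4b8) (.lf 0x5d0))) (.nd (.nd (.lf 0x315) (.lf 0x6a7)) (.nd (.lf 0x5d9) (.lf 0)))) (.nd (.nd (.nd (.lf 0x1ff)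 (.lf 0x69f)) (.nd (.lf 0x2c9) (.lf 0x45d))) (.nd (.nd (.lf 0x403) (.lf 0x160)) (.nd (.lf 0x5d3) (.lf 0))))) (.nd (.nd (.nd (.nd (.lf 0x15e) (.lf 0x204)) (.nd (.lf 0x515) (.lf 0x277))) (.nd (.nd (.lf 0x187) (.lf 0x551)) (.nd (.lf 0x1e9) (.lf 0)))) (.nd (.nd (.nd (.lf 0x291) (.lf 0x407)) (.nd (.lf 0x25e) (.lf 0))) (.nd (.nd (.lf 0x55) (.lf 0x353)) (.nd (.lf 0x546) (.lf 0)))))))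
def tabA2_nbbbaa : Tr := (.nd (.nd (.nd (.nd (.nd (.nd (.lf 0x18) (.lf 0x25a)) (.nd (.lf 0x476) (.lf 0x687))) (.nd (.nd (.lf 0x165) (.lf 0x3f1)) (.nd (.lf 0xc2) (.lf 0)))) (.nd (.nd (.nd (.lf 0x17d) (.lf 0x3f5)) (.nd (.lf 0xa0) (.lf 0x252))) (.nd (.nd (.lf 0x3a3) (.lf 0x51e)) (.nd (.lf 0x44) (.lf 0))))) (.nd (.nd (.nd (.nd (.lf 0xd1) (.lf 0x631)) (.nd (.lf 0xcd) (.lf 0x5a7))) (.nd (.nd (.lf 0x32c) (.lf 0x58c)) (.nd (.lf 0x54c) (.lf 0)))) (.nd (.nd (.nd (.lf 0x21e) (.lf 0x4b6)) (.nd (.lf 0x1f8) (.lf 0x660))) (.nd (.nd (.lf 0x414) (.lf 0x5ab)) (.nd (.lf 0x627) (.lf 0)))))) (.nd (.nd (.nd (.nd (.nd (.lf 0x78) (.lf 0x1d8)) (.nd (.lf 0x3c5) (.lf 0x4d3))) (.nd (.nd (.lf 0x2e6) (.lf 0x583)) (.nd (.lf 0x5c8) (.lf 0)))) (.nd (.nd (.nd (.lf 0x1d0)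 (.lf 0x518)) (.nd (.lf 0x188) (.lf 0x17))) (.nd (.nd (.lf 0xb1) (.lf 0x420)) (.nd (.lf 0x31e) (.lf 0))))) (.nd (.nd (.nd (.nd (.lf 0xa5) (.lf 0x686)) (.nd (.lf 0x31d) (.lf 0x63d))) (.nd (.nd (.lf 0x36e) (.lf 0x4cc)) (.nd (.lf 0x5fb) (.lf 0)))) (.nd (.nd (.nd (.lf 0x15d) (.lf 0x440)) (.nd (.lf 0x589) (.lf 0))) (.nd (.nd (.lf 0xa6) (.lf 0x135)) (.nd (.lf 0x543) (.lf 0)))))))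
def tabA2_nbbbab : Tr := (.nd (.nd (.nd (.nd (.nd (.nd (.lf 0x48) (.lf 0x5d8)) (.nd (.lf 0x48b) (.lf 0x152))) (.nd (.nd (.lf 0x2ca) (.lf 0x299)) (.nd (.lf 0x33c) (.lf 0)))) (.nd (.nd (.nd (.lf 0x1a8) (.lf 0x557)) (.nd (.lf 0x47f) (.lf 0x6ba))) (.nd (.nd (.lf 0x3c1) (.lf 0x286)) (.nd (.lf 0x3a4) (.lf 0))))) (.nd (.nd (.nd (.nd (.lf 0xfd) (.lf 0x528)) (.nd (.lf 0x385) (.lf 0x1e2))) (.nd (.nd (.lf 0x34e) (.lf 0x423)) (.nd (.lf 0x5ee) (.lf 0)))) (.nd (.nd (.nd (.lf 0x243) (.lf 0x4dd)) (.nd (.lf 0x558) (.lf 0x40))) (.nd (.nd (.lf 0x42a) (.lf 0x6d4)) (.nd (.lf 0x38e) (.lf 0)))))) (.nd (.nd (.nd (.nd (.nd (.lf 0xa4) (.lf 0x2dc)) (.nd (.lf 0x4b2) (.lf 0x4a0))) (.nd (.nd (.lf 0x30c) (.lf 0x1e5)) (.nd (.lf 0x5d5) (.lf 0)))) (.nd (.nd (.nd (.lf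 0x1f4) (.lf 0x36b)) (.nd (.lf 0x3f2) (.lf 0x442))) (.nd (.nd (.lf 0x2e5) (.lf 0x1e8)) (.nd (.lf 0x5bd) (.lf 0))))) (.nd (.nd (.nd (.nd (.lf 0x124) (.lf 0x5e0)) (.nd (.lf 0x447) (.lf 0x53a))) (.nd (.nd (.lf 0x38a) (.lf 0xa8)) (.nd (.lf 0x5b8) (.lf 0)))) (.nd (.nd (.nd (.lf 0x28b) (.lf 0x33f)) (.nd (.lf 0x30b) (.lf 0))) (.nd (.nd (.lf 0x290) (.lf 0x28c)) (.nd (.lf 0x64a) (.lf 0)))))))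
def tabA2_nbbbba : Tr := (.nd (.nd (.nd (.nd (.nd (.nd (.lf 0x30) (.lf 0x101)) (.nd (.lf 0x2c0) (.lf 0x52))) (.nd (.nd (.lf 0x2bc) (.lf 0x637)) (.nd (.lf 0x5ad) (.lf 0)))) (.nd (.nd (.nd (.lf 0x192) (.lf 0x5fc)) (.nd (.lf 0x401) (.lf 0x2fc))) (.nd (.nd (.lf 0x3b1) (.lf 0x68d)) (.nd (.lf 0x25) (.lf 0))))) (.nd (.nd (.nd (.nd (.lf 0xe8) (.lf 0x24b)) (.nd (.lf 0x4d8) (.lf 0x361))) (.nd (.nd (.lf 0x1cb) (.lf 0x495)) (.nd (.lf 0x596) (.lf 0)))) (.nd (.nd (.nd (.lf 0x22f) (.lf 0x50c)) (.nd (.lf 0xf5) (.lf 0x6a8))) (.nd (.nd (.lf 0x1ae) (.lf 0x6b6)) (.nd (.lf 0x5a6) (.lf 0)))))) (.nd (.nd (.nd (.nd (.nd (.lf 0x8d) (.lf 0x54e)) (.nd (.lf 0x4a6) (.lf 0x1ef))) (.nd (.nd (.lf 0x20) (.lf 0x6b5)) (.nd (.lf 0x5ca) (.lf 0)))) (.nd (.nd (.nd (.lf 0x1e4)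 (.lf 0x42f)) (.nd (.lf 0x28) (.lf 0x2fd))) (.nd (.nd (.lf 0x3ed) (.lf 0x5f2)) (.nd (.lf 0x3ab) (.lf 0))))) (.nd (.nd (.nd (.nd (.lf 0x13b) (.lf 0x210)) (.nd (.lf 0x3e6) (.lf 0x5e2))) (.nd (.nd (.lf 0x102) (.lf 0x438)) (.nd (.lf 0x303) (.lf 0)))) (.nd (.nd (.nd (.lf 0x279) (.lf 0x588)) (.nd (.lf 0x2ce) (.lf 0))) (.nd (.nd (.lf 0x44e) (.lf 0x4a2)) (.nd (.lf 0x646) (.lf 0)))))))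
def tabA2_nbbbbb : Tr := (.nd (.nd (.nd (.nd (.nd (.nd (.lf 0x60) (.lf 0x116)) (.nd (.lf 0x496) (.lf 0x46b))) (.nd (.nd (.lf 0x20b) (.lf 0x417)) (.nd (.lf 0x382) (.lf 0)))) (.nd (.nd (.nd (.lf 0x106) (.lf 0x9d)) (.nd (.lf 0x53c) (.lf 0x5c9))) (.nd (.nd (.lf 0x3cd) (.lf 0x67)) (.nd (.lf 0x109) (.lf 0))))) (.nd (.nd (.nd (.nd (.lf 0x112) (.lf 0xc0)) (.nd (.lf 0x4f2) (.lf 0xff))) (.nd (.nd (.lf 0x35e) (.lf 0x5f6)) (.nd (.lf 0xae) (.lf 0)))) (.nd (.nd (.nd (.lf 0x205) (.lf 0x452)) (.nd (.lf 0x358) (.lf 0))) (.nd (.nd (.lf 0x436) (.lf 0x6d0)) (.nd (.lf 0x32a) (.lf 0)))))) (.nd (.nd (.nd (.nd (.nd (.lf 0xbb) (.lf 0x1e7)) (.nd (.lf 0x4bd) (.lf 0x57e))) (.nd (.nd (.lf 0x31c) (.lf 0x24f)) (.nd (.lf 0x4ff) (.lf 0)))) (.nd (.nd (.nd (.lf 0x209)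 (.lf 0x550)) (.nd (.lf 0x1a7) (.lf 0x2a5))) (.nd (.nd (.lf 0x409) (.lf 0x521)) (.nd (.lf 0xec) (.lf 0))))) (.nd (.nd (.nd (.nd (.lf 0x16a) (.lf 0x2c5)) (.nd (.lf 0x457) (.lf 0x6d3))) (.nd (.nd (.lf 0x396) (.lf 0x413)) (.nd (.lf 0x5a3) (.lf 0)))) (.nd (.nd (.nd (.lf 0x29a) (.lf 0x6b3)) (.nd (.lf 0x59b) (.lf 0))) (.nd (.nd (.lf 0x469) (.lf 0x4ab)) (.nd (.lf 0x5c1) (.lf 0)))))))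
def tabA2 : Tr := (.nd (.nd (.nd (.nd (.nd tabA2_naaaaa tabA2_naaaab) (.nd tabA2_naaaba tabA2_naaabb)) (.nd (.nd tabA2_naabaa tabA2_naabab) (.nd tabA2_naabba tabA2_naabbb))) (.nd (.nd (.nd tabA2_nabaaa tabA2_nabaab) (.nd tabA2_nababa tabA2_nababb)) (.nd (.nd tabA2_nabbaa tabA2_nabbab) (.nd tabA2_nabbba tabA2_nabbbb)))) (.nd (.nd (.nd (.nd tabA2_nbaaaa tabA2_nbaaab) (.nd tabA2_nbaaba tabA2_nbaabb)) (.nd (.nd tabA2_nbabaa tabA2_nbabab) (.nd tabA2_nbabba tabA2_nbabbb))) (.nd (.nd (.nd tabA2_nbbaaa tabA2_nbbaab) (.nd tabA2_nbbaba tabA2_nbbabb)) (.nd (.nd tabA2_nbbbaa tabA2_nbbbab) (.nd tabA2_nbbbba tabA2_nbbbbb)))))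

end H94.RU.D
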