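import Mathlib
import Cfsg.Agent.H94.J3.Gen

/-! Normal subgroups of a transitive group with a certified suborbit list. -/

namespace H94.RU

theorem relIndex_dvd_index_normal {Γ : Type*} [Group Γ] [Finite Γ] (S M : Subgroup Γ) [M.Normal] :
    S.relIndex M ∣ S.index := by
  have hS : S ≤ S ⊔ M := le_sup_left
  have hM : M ≤ S ⊔ M := le_sup_right
  have h1 := Subgroup.relIndex_mul_relIndex ⊥ (S ⊓ M) M bot_le inf_le_right
  have h2 := Subgroup.relIndex_mul_relIndex ⊥ (M ⊓ S) S bot_le inf_le_right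
  have h3 := Subgroup.relIndex_mul_relIndex ⊥ S (S ⊔ M) bot_le hS
  have h4 := Subgroup.relIndex_mul_relIndex ⊥ M (S ⊔ M) bot_le hM
  rw [Subgroup.inf_relIndex_right, Subgroup.relIndex_bot_left, Subgroup.relIndex_bot_left] at h1 h2
  rw [Subgroup.relIndex_bot_left, Subgroup.relIndex_bot_left] at h3 h4
  rw [Subgroup.relIndex_sup_right] at h4
  rw [inf_comm M S] at h2
  have hpos : 0 < Nat.card S := Nat.card_pos
  have he : S.relIndex (S ⊔ M) = S.relIndex M := by
    refine Nat.eq_of_mul_eq_mul_left hpos ?_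
    rw [h3, ← h4, ← h1, ← h2]
    ring
  rw [← he]
  exact Subgroup.relIndex_dvd_index_of_le hS

theorem range_filter_card (n : ℕ) (p : ℕ → Bool) :
    ((Finset.range n).filter fun i => p i = true).card = (List.range' 0 n).countP p := by
  rw [← List.range_eq_range', List.countP_eq_length_filter]
  simp [Finset.card, Finset.filter, Finset.range, Multiset.range]

theorem fin_filter_card (n : ℕ) (B : Finset (Fin n)) (p : ℕ → Bool)
    (h : ∀ i : Fin n, i ∈ B ↔ p i = true) :
    B.card = ((Finset.range n).filter fun i => p i = true).card := by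
  rw [← Finset.card_map Fin.valEmbedding]
  congr 1
  ext m
  simp only [Finset.mem_map, Fin.valEmbedding_apply, Finset.mem_filter, Finset.mem_range]
  constructor
  · rintro ⟨i, hi, rfl⟩
    exact ⟨i.isLt, (h i).1 hi⟩
  · rintro ⟨hm, ht⟩
    exact ⟨⟨m, hm⟩, (h ⟨m, hm⟩).2 ht, rfl⟩

theorem normal_dichotomy {Γ : Type*} [Group Γ] [Finite Γ] {n ng nt : ℕ}
    (ρ : Γ →* Equiv.Perm (Fin n)) (z0 : Fin n) (trans : ∀ i, ∃ g, ρ g z0 = i)
    (h : Fin ng → Γ) (hfix : ∀ k, ρ (h k) z0 = z0) (lab dep : ℕ → ℕ) (rep sz : List ℕ)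
    (sub : ∀ i : Fin n, lab i < nt ∧ ((dep i = 0 ∧ rep.getD (lab i) 0 = i) ∨
      ∃ (k : Fin ng) (q : Fin n), dep q < dep i ∧ lab q = lab i ∧ ρ (h k) q = i))
    (sizes : ∀ t < nt, (List.range' 0 n).countP (fun i => lab i == t) = sz.getD t 0)
    (sums : ∀ T < 2 ^ nt, T.testBit 0 = true →
      n % ((List.range nt).map fun t => bif T.testBit t then sz.getD t 0 else 0).sum = 0 →
      T = 1 ∨ T = 2 ^ nt - 1)
    (lab0 : lab z0 = 0) (sz0 : sz.getD 0 0 = 1) (hnt : 0 < nt)
    (M : Subgroup Γ) [M.Normal] : (∀ m ∈ M, ρ m = 1) ∨ n ∣ Nat.card M := by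
  classical
  set B : Finset (Fin n) := Finset.univ.filter fun i => ∃ m ∈ M, ρ m z0 = i with hB
  have memB : ∀ i, i ∈ B ↔ ∃ m ∈ M, ρ m z0 = i := fun i => by simp [hB]
  have B_inv : ∀ g : Γ, ρ g z0 = z0 → ∀ i ∈ B, ρ g i ∈ B := by
    intro g hg i hi
    obtain ⟨m, hm, rfl⟩ := (memB i).1 hi
    refine (memB _).2 ⟨g * m * g⁻¹, Subgroup.Normal.conj_mem inferInstance m hm g, ?_⟩
    have hg' : ρ g⁻¹ z0 = z0 := by
      rw [map_inv, Equiv.Perm.inv_eq_iff_eq]; exact hg.symm
    simp only [map_mul, Equiv.Perm.mul_apply, hg']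
  have B_iff : ∀ g : Γ, ρ g z0 = z0 → ∀ i, i ∈ B ↔ ρ g i ∈ B := by
    intro g hg i
    refine ⟨B_inv g hg i, fun hi => ?_⟩
    have := B_inv g⁻¹ (by rw [map_inv, Equiv.Perm.inv_eq_iff_eq]; exact hg.symm) _ hi
    simpa [map_inv] using this
  have hsub : ∀ i : Fin n, ∃ hr : rep.getD (lab i) 0 < n, (i ∈ B ↔ (⟨_, hr⟩ : Fin n) ∈ B) := by
    intro i
    induction hd : dep i using Nat.strong_induction_on generalizing i with
    | _ d ih =>
      rcases (sub i).2 with ⟨-, he⟩ | ⟨k, q, hdq, hl, hmap⟩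
      · refine ⟨by rw [he]; exact i.isLt, ?_⟩
        rw [show (⟨rep.getD (lab i) 0, by rw [he]; exact i.isLt⟩ : Fin n) = i from Fin.ext he]
      · obtain ⟨hr, hiff⟩ := ih _ (hd ▸ hdq) q rfl
        refine ⟨by rw [← hl]; exact hr, ?_⟩
        have hfe := B_iff (h k) (hfix k) q
        rw [hmap] at hfe
        rw [← hfe, hiff]
        simp only [hl]
  let f : Fin nt → Bool := fun t =>
    decide (∃ hr : rep.getD t 0 < n, (⟨_, hr⟩ : Fin n) ∈ B)
  set T : ℕ := Nat.ofBits f with hT
  have hT' : ∀ i : Fin n, i ∈ B ↔ T.testBit (lab i) = true := by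
    intro i
    obtain ⟨hr, hiff⟩ := hsub i
    rw [hT, Nat.testBit_ofBits_lt f _ (sub i).1, hiff]
    simp only [f, decide_eq_true_eq]
    exact ⟨fun h => ⟨hr, h⟩, fun ⟨_, h⟩ => h⟩
  have hcard : B.card = ((List.range nt).map fun t => bif T.testBit t then sz.getD t 0 else 0).sum := by
    have h1 := fin_filter_card n B (fun i => T.testBit (lab i)) hT'
    have hlab : ∀ i ∈ (Finset.range n).filter (fun i => T.testBit (lab i) = true),
        lab i ∈ Finset.range nt := by
      intro i hi
      exact Finset.mem_range.2 (sub ⟨i, Finset.mem_range.1 (Finset.mem_filter.1 hi).1⟩).1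
    rw [h1, Finset.card_eq_sum_card_fiberwise hlab]
    have e : ∀ t ∈ Finset.range nt,
        (((Finset.range n).filter fun i => T.testBit (lab i) = true).filter
          fun i => lab i = t).card = bif T.testBit t then sz.getD t 0 else 0 := by
      intro t ht
      have hcnt : ((Finset.range n).filter fun i => lab i = t).card = sz.getD t 0 := by
        rw [← sizes t (Finset.mem_range.1 ht), ← range_filter_card n (fun i => lab i == t)]
        simp
      cases hb : T.testBit t
      · rw [cond_false, Finset.card_eq_zero, Finset.filter_eq_empty_iff]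
        intro i hi he
        rw [Finset.mem_filter, he, hb] at hi
        simp at hi
      · rw [cond_true, ← hcnt, Finset.filter_filter]
        exact congrArg Finset.card
          (Finset.filter_congr fun i _ => ⟨fun h => h.2, fun h => ⟨by rw [h, hb], h⟩⟩)
    rw [Finset.sum_congr rfl e]
    rfl
  letI act : MulAction M (Fin n) := MulAction.compHom (Fin n) (ρ.comp M.subtype)
  let S : Subgroup Γ :=
    { carrier := {g | ρ g z0 = z0}
      one_mem' := by simp
      mul_mem' := fun {a b} ha hb => by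
        show ρ (a * b) z0 = z0
        rw [map_mul, Equiv.Perm.mul_apply, show ρ b z0 = z0 from hb]; exact ha
      inv_mem' := fun {a} ha => by
        show ρ a⁻¹ z0 = z0
        rw [map_inv, Equiv.Perm.inv_eq_iff_eq]; exact (show ρ a z0 = z0 from ha).symm }
  have hrel : B.card = S.relIndex M := by
    have horb : MulAction.orbit M z0 = (B : Set (Fin n)) := by
      ext i
      rw [Finset.mem_coe, memB, MulAction.mem_orbit_iff]
      exact ⟨fun ⟨m, hm⟩ => ⟨m, m.2, hm⟩, fun ⟨m, hm, he⟩ => ⟨⟨m, hm⟩, he⟩⟩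
    have hst : MulAction.stabilizer M z0 = S.subgroupOf M := by
      ext m
      rw [MulAction.mem_stabilizer_iff, Subgroup.mem_subgroupOf]
      exact Iff.rfl
    rw [Subgroup.relIndex, ← hst, MulAction.index_stabilizer, horb, Set.ncard_coe_finset]
  have hS : S.index = n := by
    letI : MulAction Γ (Fin n) := MulAction.compHom (Fin n) ρ
    have htr : MulAction.IsPretransitive Γ (Fin n) := by
      refine ⟨fun a b => ?_⟩
      obtain ⟨g, hg⟩ := trans a
      obtain ⟨k, hk⟩ := trans b
      refine ⟨k * g⁻¹, ?_⟩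
      show ρ (k * g⁻¹) a = b
      rw [← hg, map_mul, map_inv, Equiv.Perm.mul_apply, Equiv.Perm.inv_def, Equiv.symm_apply_apply]
      exact hk
    rw [show S = MulAction.stabilizer Γ z0 from rfl, MulAction.index_stabilizer_of_transitive,
      Nat.card_fin]
  have hdvd : B.card ∣ n := by
    rw [hrel]
    exact (relIndex_dvd_index_normal S M).trans (by rw [hS])
  have h0 : T.testBit 0 = true := by
    have := (hT' z0).1 ((memB z0).2 ⟨1, M.one_mem, by simp⟩)
    rwa [lab0] at this
  have hTlt : T < 2 ^ nt := by rw [hT]; exact Nat.ofBits_lt_two_pow f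
  rcases sums T hTlt h0 (by rw [← hcard]; exact Nat.mod_eq_zero_of_dvd hdvd) with hT1 | hT2
  · left
    have hB1 : ∀ i, i ∈ B → i = z0 := by
      have hc : B.card = 1 := by
        rw [hcard, hT1]
        obtain ⟨k, rfl⟩ : ∃ k, nt = k + 1 := ⟨nt - 1, by omega⟩
        rw [List.range_succ_eq_map, List.map_cons, List.sum_cons, List.map_map]
        have : ((List.range k).map ((fun t => bif Nat.testBit 1 t then sz.getD t 0 else 0) ∘ Nat.succ)).sum = 0 :=
          List.sum_eq_zero (by
            intro x hx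
            obtain ⟨t, -, rfl⟩ := List.mem_map.1 hx
            simp [Nat.testBit_succ])
        rw [this, show Nat.testBit 1 0 = true from rfl, cond_true, sz0]
      obtain ⟨a, ha⟩ := Finset.card_eq_one.1 hc
      have hz : z0 ∈ B := (memB z0).2 ⟨1, M.one_mem, by simp⟩
      intro i hi
      rw [ha, Finset.mem_singleton] at hz hi
      rw [hi, hz]
    intro m hm
    refine Equiv.ext fun i => ?_
    obtain ⟨g, rfl⟩ := trans i
    have hm' : g⁻¹ * m * g ∈ M := by
      simpa using Subgroup.Normal.conj_mem inferInstance m hm g⁻¹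
    have := hB1 _ ((memB _).2 ⟨_, hm', rfl⟩)
    rw [map_mul, map_mul, map_inv, Equiv.Perm.mul_apply, Equiv.Perm.mul_apply,
      Equiv.Perm.inv_eq_iff_eq] at this
    exact this
  · right
    have hn : B.card = n := by
      have hall : B = Finset.univ := by
        refine Finset.eq_univ_of_forall fun i => (hT' i).2 ?_
        rw [hT2, Nat.testBit_two_pow_sub_one]
        simp [(sub i).1]
      rw [hall, Finset.card_univ, Fintype.card_fin]
    calc n = B.card := hn.symm
      _ ∣ Nat.card M := by rw [hrel]; exact Subgroup.relIndex_dvd_card _ _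

end H94.RU
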