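import Mathlib
import Cfsg.Agent.H94.RU.Chk.All
import Cfsg.Agent.H94.RU.Prim

/-! The certified stabiliser chain of the Rudvalis group. -/

namespace H94.RU

open H94.J3 (allIn allIn_spec level level_bot card_eq_mul Tr)

set_option exponentiation.threshold 1000 in
set_option maxRecDepth 10000 in
theorem Xc_lt : Xc < 2 ^ 784 := of_decide_eq_true (by decide +kernel)

attribute [local irreducible] Tr.get H94.RU.mul eye

abbrev GA := GL (Fin 28) (ZMod 2)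

/-- The matrix of `g` applied to a point code. -/
def app (g : GA) (v : ℕ) : Fin 28 → ZMod 2 :=
  Matrix.mulVec (g : Matrix (Fin 28) (Fin 28) (ZMod 2)) (toVec v)

theorem app_rep {g : GA} {x : ℕ} (hg : Rep g x) (v : ℕ) : app g v = toVec (mul v x) := hg.app v

theorem app_mul (g h : GA) (v : ℕ) :
    app (g * h) v = Matrix.mulVec (g : Matrix (Fin 28) (Fin 28) (ZMod 2)) (app h v) := by
  simp [app, Matrix.mulVec_mulVec]

theorem app_mul_of (g h : GA) {v w : ℕ} (hh : app h v = toVec w) : app (g * h) v = app g w := by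
  rw [app_mul, hh]; rfl

theorem app_one (v : ℕ) : app 1 v = toVec v := by simp [app]

theorem fix_mem {s : Set GA} {v : ℕ} (hs : ∀ g ∈ s, app g v = toVec v) {g : GA}
    (hg : g ∈ Subgroup.closure s) : app g v = toVec v := by
  rw [← Subgroup.mem_toSubmonoid, Subgroup.closure_toSubmonoid_of_finite] at hg
  induction hg using Submonoid.closure_induction_left with
  | one => exact app_one v
  | mul_left x hx y _ ih => rw [app_mul_of x y ih]; exact hs x hx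

section Tree

theorem tree_exists {ng n : ℕ} {gens U par : ℕ → ℕ} (g : Fin ng → GA) (hg : ∀ k, Rep (g k) (gens k))
    (hchk : ∀ i < n, treeChk ng gens U par i = true) :
    ∀ i < n, ∃ u : GA, Rep u (U i) ∧ u ∈ Subgroup.closure (Set.range g) := by
  intro i
  induction i using Nat.strong_induction_on with
  | _ i ih =>
    intro hi
    have h := hchk i hi
    unfold treeChk at h
    rcases Nat.eq_zero_or_pos i with rfl | hpos
    · simp at h
      exact ⟨1, by rw [h]; exact rep_one, Subgroup.one_mem _⟩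
    · have hne : (i == 0) = false := by simp; omega
      simp only [hne, cond_false, Bool.and_eq_true, decide_eq_true_eq] at h
      obtain ⟨⟨hq, hk⟩, hU⟩ := h
      obtain ⟨v, hv, hvm⟩ := ih _ hq (by omega)
      refine ⟨g ⟨_, hk⟩ * v, ?_, Subgroup.mul_mem _ (Subgroup.subset_closure ⟨_, rfl⟩) hvm⟩
      rw [eq_of_beq hU]
      exact (hg ⟨_, hk⟩).mul hv

theorem pt_facts {n : ℕ} {pt U rk srt : ℕ → ℕ} (h : ∀ i < n, ptChk n pt U rk srt i = true) :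
    (∀ i < n, pt i < 2 ^ 28 ∧ mul (pt 0) (U i) = pt i) ∧
      ∀ i < n, ∀ j < n, toVec (pt i) = toVec (pt j) → i = j := by
  simp only [ptChk, Bool.and_eq_true, Bool.or_eq_true, decide_eq_true_eq] at h
  refine ⟨fun i hi => ⟨(h i hi).1.1.1.1, eq_of_beq (h i hi).2⟩, fun i hi j hj he => ?_⟩
  have he' : pt i = pt j := toVec_inj (h i hi).1.1.1.1 (h j hj).1.1.1.1 he
  have hmono : ∀ b, b < n → ∀ a < b, pt (srt a) < pt (srt b) := by
    intro b
    induction b with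
    | zero => omega
    | succ b ih =>
      intro hb a hab
      have hs : pt (srt b) < pt (srt (b + 1)) :=
        (h b (by omega)).1.2.resolve_left fun e => by have := eq_of_beq e; omega
      rcases Nat.lt_succ_iff_lt_or_eq.1 hab with hab' | rfl
      · exact lt_trans (ih (by omega) a hab') hs
      · exact hs
  have si := eq_of_beq (h i hi).1.1.2
  have sj := eq_of_beq (h j hj).1.1.2
  rcases lt_trichotomy (rk i) (rk j) with hl | hl | hl
  · have := hmono _ (h j hj).1.1.1.2 _ hl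
    rw [si, sj, he'] at this
    exact absurd this (lt_irrefl _)
  · rw [← si, ← sj, hl]
  · have := hmono _ (h i hi).1.1.1.2 _ hl
    rw [si, sj, he'] at this
    exact absurd this (lt_irrefl _)

theorem map_of_chk {n x : ℕ} {pt tab : ℕ → ℕ} {g : GA} (hg : Rep g x) {i : ℕ}
    (h : mapChk n pt x tab i = true) : tab i < n ∧ app g (pt i) = toVec (pt (tab i)) := by
  simp only [mapChk, Bool.and_eq_true, decide_eq_true_eq] at h
  exact ⟨h.1, by rw [app_rep hg, eq_of_beq h.2]⟩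

end Tree

theorem all_of {n : ℕ} {f : ℕ → Bool} (h : (List.range n).all f = true) (k : Fin n) : f k = true :=
  List.all_eq_true.1 h k (List.mem_range.2 k.isLt)

/-- Witnesses for the chain. -/
structure Chain where
  s : Fin 2 → GA
  g1 : Fin 2 → GA
  t : Fin 3 → GA
  gq : Fin 2 → GA
  gk : Fin 2 → GA
  ga : Fin 2 → GA
  u : Fin 4060 → GA
  w : Fin 2304 → GA
  v : Fin 975 → GA
  au : Fin 1755 → GA
  kk : Fin 8 → GA
  xx : Fin 2 → GA
  rep_s : ∀ k, Rep (s k) (gS k)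
  rep_g1 : ∀ k, Rep (g1 k) (gG k)
  rep_t : ∀ k, Rep (t k) (gT k)
  rep_gq : ∀ k, Rep (gq k) (gQ k)
  rep_gk : ∀ k, Rep (gk k) (gK k)
  rep_ga : ∀ k, Rep (ga k) (gA k)
  rep_u : ∀ i : Fin 4060, Rep (u i) (U i)
  rep_w : ∀ i : Fin 2304, Rep (w i) (W i)
  rep_v : ∀ i : Fin 975, Rep (v i) (V i)
  rep_au : ∀ i : Fin 1755, Rep (au i) (Au i)
  rep_kk : ∀ m : Fin 8, Rep (kk m) (K m)
  rep_xx : ∀ j : Fin 2, Rep (xx j) (Xj j)
  g1_mem : ∀ k, g1 k ∈ Subgroup.closure (Set.range s)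
  t_mem : ∀ k, t k ∈ Subgroup.closure (Set.range g1)
  gq_mem : ∀ k, gq k ∈ Subgroup.closure (Set.range t)
  gk_mem : ∀ k, gk k ∈ Subgroup.closure (Set.range gq)
  ga_mem : ∀ k, ga k ∈ Subgroup.closure (Set.range t)
  u_mem : ∀ i, u i ∈ Subgroup.closure (Set.range s)
  w_mem : ∀ i, w i ∈ Subgroup.closure (Set.range t)
  v_mem : ∀ i, v i ∈ Subgroup.closure (Set.range gq)
  au_mem : ∀ i, au i ∈ Subgroup.closure (Set.range t)
  kk_mem : ∀ m, kk m ∈ Subgroup.closure (Set.range gk)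
  xx_mem : ∀ j, xx j ∈ Subgroup.closure (Set.range g1)

theorem u_parts (i : ℕ) (hi : i < 4060) :
    treeChk 2 gS U D.parT.get i = true ∧ ptChk 4060 Pt U D.rkT.get D.srtT.get i = true ∧
      ∀ k : Fin 2, mapChk 4060 Pt (gS k) (tabU k) i = true ∧ uSch k i = true := by
  have h := uu_spec i hi
  unfold uChk at h
  simp only [Bool.and_eq_true] at h
  obtain ⟨⟨⟨⟨⟨h1, h2⟩, h3⟩, h4⟩, h5⟩, h6⟩ := h
  refine ⟨h1, h2, fun k => ?_⟩
  fin_cases k
  · exact ⟨h3, h5⟩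
  · exact ⟨h4, h6⟩

theorem w_parts (i : ℕ) (hi : i < 2304) :
    treeChk 3 gT W D.parQ.get i = true ∧ ptChk 2304 Qt W D.rkQ.get D.srtQ.get i = true ∧
      ∀ k : Fin 3, mapChk 2304 Qt (gT k) (tabW k) i = true ∧ wSch k i = true := by
  have h := ww_spec i hi
  unfold wChk at h
  simp only [Bool.and_eq_true] at h
  obtain ⟨⟨⟨⟨⟨⟨⟨h1, h2⟩, h3⟩, h4⟩, h5⟩, h6⟩, h7⟩, h8⟩ := h
  refine ⟨h1, h2, fun k => ?_⟩
  fin_cases k
  · exact ⟨h3, h6⟩
  · exact ⟨h4, h7⟩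
  · exact ⟨h5, h8⟩

theorem v_parts (i : ℕ) (hi : i < 975) :
    treeChk 2 gQ V D.parR.get i = true ∧ ptChk 975 Rt V D.rkR.get D.srtR.get i = true ∧
      ∀ k : Fin 2, mapChk 975 Rt (gQ k) (tabV k) i = true ∧ vSch k i = true := by
  have h := vv_spec i hi
  unfold vChk at h
  simp only [Bool.and_eq_true] at h
  obtain ⟨⟨⟨⟨⟨h1, h2⟩, h3⟩, h4⟩, h5⟩, h6⟩ := h
  refine ⟨h1, h2, fun k => ?_⟩
  fin_cases k
  · exact ⟨h3, h5⟩
  · exact ⟨h4, h6⟩

theorem a_parts (i : ℕ) (hi : i < 1755) :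
    treeChk 3 gT Au D.parA.get i = true ∧ ptChk 1755 Apt Au D.rkA.get D.srtA.get i = true ∧
      ∀ k : Fin 3, mapChk 1755 Apt (gT k) (tabA k) i = true := by
  have h := aa_spec i hi
  unfold aChk at h
  simp only [Bool.and_eq_true] at h
  obtain ⟨⟨⟨⟨h1, h2⟩, h3⟩, h4⟩, h5⟩ := h
  refine ⟨h1, h2, fun k => ?_⟩
  fin_cases k <;> assumption

theorem k_parts (m : ℕ) (hm : m < 8) :
    treeChk 2 gK K (fun t => D.kPar.getD t 0) m = true ∧ K m < 2 ^ 784 ∧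
      (∀ l < 8, m = l ∨ K m ≠ K l) ∧
      ∀ k < 2, D.kTab.getD (8 * k + m) 0 < 8 ∧ mul (K m) (gK k) = K (D.kTab.getD (8 * k + m) 0) := by
  have h := k_ok
  unfold kChk at h
  simp only [Bool.and_eq_true, List.all_eq_true, List.mem_range, decide_eq_true_eq, Bool.or_eq_true,
    beq_iff_eq, bne_iff_ne] at h
  obtain ⟨⟨⟨h1, h2⟩, h3⟩, h4⟩ := h.2 m hm
  exact ⟨h1, h2, h3, h4⟩

theorem gen_parts :
    (∀ k : Fin 2, mul (gS k) (D.sInv.getD k 0) = eye ∧ mul (D.sInv.getD k 0) (gS k) = eye) ∧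
    (∀ k : Fin 2, D.gSrc.getD k 0 / 4096 < 2 ∧ D.gSrc.getD k 0 % 4096 < 4060 ∧
      mul (gG k) (U (tabU (D.gSrc.getD k 0 / 4096) (D.gSrc.getD k 0 % 4096))) =
        mul (U (D.gSrc.getD k 0 % 4096)) (gS (D.gSrc.getD k 0 / 4096)) ∧
      mul (Pt 0) (gG k) = Pt 0 ∧
      ∀ j : Fin 2, ok1 (D.witG.get (2 * k + j)) = true ∧
        mul (Xj j) (gG k) = word1 (D.witG.get (2 * k + j))) ∧
    D.xIdx < 2 ∧
    (∀ k : Fin 3, D.tSrc.getD k 0 / 4 < 2 ∧
      mul (gT k) (Xj (D.tSrc.getD k 0 % 2)) =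
        mul (Xj (D.tSrc.getD k 0 / 2 % 2)) (gG (D.tSrc.getD k 0 / 4))) ∧
    (∀ k : Fin 2, D.qSrc.getD k 0 / 4096 < 3 ∧ D.qSrc.getD k 0 % 4096 < 2304 ∧
      mul (gQ k) (W (tabW (D.qSrc.getD k 0 / 4096) (D.qSrc.getD k 0 % 4096))) =
        mul (W (D.qSrc.getD k 0 % 4096)) (gT (D.qSrc.getD k 0 / 4096)) ∧
      mul (Qt 0) (gQ k) = Qt 0) ∧
    (∀ k : Fin 2, D.kSrc.getD k 0 / 4096 < 2 ∧ D.kSrc.getD k 0 % 4096 < 975 ∧
      mul (gK k) (V (tabV (D.kSrc.getD k 0 / 4096) (D.kSrc.getD k 0 % 4096))) =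
        mul (V (D.kSrc.getD k 0 % 4096)) (gQ (D.kSrc.getD k 0 / 4096)) ∧
      mul (Rt 0) (gK k) = Rt 0) ∧
    (∀ k : Fin 2, D.aSrc.getD k 0 / 4096 < 3 ∧ D.aSrc.getD k 0 % 4096 < 1755 ∧
      mul (gA k) (Au (tabA (D.aSrc.getD k 0 / 4096) (D.aSrc.getD k 0 % 4096))) =
        mul (Au (D.aSrc.getD k 0 % 4096)) (gT (D.aSrc.getD k 0 / 4096)) ∧
      mul (Apt 0) (gA k) = Apt 0) ∧
    (∀ k : Fin 3, mul (Pt 0) (gT k) = Pt 0) ∧
    mul (Qt 0) Xc = Qt D.xA ∧ D.xA < 2304 := by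
  have h := gen_ok
  unfold genChk at h
  simp only [Bool.and_eq_true, decide_eq_true_eq] at h
  obtain ⟨⟨⟨⟨⟨⟨⟨⟨⟨a1, a2⟩, a3⟩, a4⟩, a5⟩, a6⟩, a7⟩, a8⟩, a9⟩, a10⟩ := h
  refine ⟨fun k => ?_, fun k => ?_, a3, fun k => ?_, fun k => ?_, fun k => ?_, fun k => ?_,
    fun k => eq_of_beq (all_of a8 k), eq_of_beq a9, a10⟩
  · have := all_of a1 k
    simp only [Bool.and_eq_true] at this
    exact ⟨eq_of_beq this.1, eq_of_beq this.2⟩
  · have := all_of a2 k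
    simp only [Bool.and_eq_true, decide_eq_true_eq] at this
    obtain ⟨⟨⟨⟨b1, b2⟩, b3⟩, b4⟩, b5⟩ := this
    refine ⟨b1, b2, eq_of_beq b3, eq_of_beq b4, fun j => ?_⟩
    have := all_of b5 j
    simp only [Bool.and_eq_true] at this
    exact ⟨this.1, eq_of_beq this.2⟩
  · have := all_of a4 k
    simp only [Bool.and_eq_true, decide_eq_true_eq] at this
    exact ⟨this.1, eq_of_beq this.2⟩
  · have := all_of a5 k
    simp only [Bool.and_eq_true, decide_eq_true_eq] at this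
    exact ⟨this.1.1.1, this.1.1.2, eq_of_beq this.1.2, eq_of_beq this.2⟩
  · have := all_of a6 k
    simp only [Bool.and_eq_true, decide_eq_true_eq] at this
    exact ⟨this.1.1.1, this.1.1.2, eq_of_beq this.1.2, eq_of_beq this.2⟩
  · have := all_of a7 k
    simp only [Bool.and_eq_true, decide_eq_true_eq] at this
    exact ⟨this.1.1.1, this.1.1.2, eq_of_beq this.1.2, eq_of_beq this.2⟩

/-- A Schreier element `u_j⁻¹ * (s * u_i)` with its code. -/
theorem schreier_exists {n : ℕ} {x z : ℕ} {s : GA} (hs : Rep s x) {T : Subgroup GA} (hsT : s ∈ T)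
    {Uc : ℕ → ℕ} {tab : ℕ → ℕ} (u : ∀ i < n, ∃ u : GA, Rep u (Uc i) ∧ u ∈ T)
    {i : ℕ} (hi : i < n) (hj : tab i < n) (he : mul z (Uc (tab i)) = mul (Uc i) x) :
    ∃ g : GA, Rep g z ∧ g ∈ T := by
  obtain ⟨a, ha, ham⟩ := u i hi
  obtain ⟨b, hb, hbm⟩ := u _ hj
  exact ⟨b⁻¹ * (s * a), rep_cancel hb (hs.mul ha) he,
    T.mul_mem (T.inv_mem hbm) (T.mul_mem hsT ham)⟩

theorem nonempty_chain : Nonempty Chain := by
  obtain ⟨hS, hG, hx, hT, hQ, hK, hA, -, -, -⟩ := gen_parts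
  choose s hs using fun k : Fin 2 => exists_rep (hS k).1 (hS k).2
  have hu := tree_exists s hs fun i hi => (u_parts i hi).1
  have hg1 : ∀ k : Fin 2, ∃ g : GA, Rep g (gG k) ∧ g ∈ Subgroup.closure (Set.range s) := fun k => by
    obtain ⟨h1, h2, h3, -, -⟩ := hG k
    exact schreier_exists (hs ⟨_, h1⟩) (Subgroup.subset_closure ⟨_, rfl⟩) hu h2
      (map_of_chk (hs ⟨_, h1⟩) ((u_parts _ h2).2.2 ⟨_, h1⟩).1).1 h3
  choose g1 hg1r hg1m using hg1
  have hxx : ∀ j : ℕ, ∃ g : GA, Rep g (Xj j) ∧ g ∈ Subgroup.closure (Set.range g1) := fun j => by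
    unfold Xj
    rcases Nat.eq_zero_or_pos j with rfl | hj
    · exact ⟨1, rep_one, Subgroup.one_mem _⟩
    · rw [show (j == 0) = false by simp; omega, cond_false]
      exact ⟨g1 ⟨_, hx⟩, hg1r ⟨_, hx⟩, Subgroup.subset_closure ⟨_, rfl⟩⟩
  have ht : ∀ k : Fin 3, ∃ g : GA, Rep g (gT k) ∧ g ∈ Subgroup.closure (Set.range g1) := fun k => by
    obtain ⟨h1, h2⟩ := hT k
    obtain ⟨a, ha, ham⟩ := hxx (D.tSrc.getD k 0 / 2 % 2)
    obtain ⟨b, hb, hbm⟩ := hxx (D.tSrc.getD k 0 % 2)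
    exact ⟨b⁻¹ * (g1 ⟨_, h1⟩ * a), rep_cancel hb ((hg1r ⟨_, h1⟩).mul ha) h2,
      Subgroup.mul_mem _ (Subgroup.inv_mem _ hbm)
        (Subgroup.mul_mem _ (Subgroup.subset_closure ⟨_, rfl⟩) ham)⟩
  choose t htr htm using ht
  have hw := tree_exists t htr fun i hi => (w_parts i hi).1
  have hgq : ∀ k : Fin 2, ∃ g : GA, Rep g (gQ k) ∧ g ∈ Subgroup.closure (Set.range t) := fun k => by
    obtain ⟨h1, h2, h3, -⟩ := hQ k
    exact schreier_exists (htr ⟨_, h1⟩) (Subgroup.subset_closure ⟨_, rfl⟩) hw h2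
      (map_of_chk (htr ⟨_, h1⟩) ((w_parts _ h2).2.2 ⟨_, h1⟩).1).1 h3
  choose gq hgqr hgqm using hgq
  have hv := tree_exists gq hgqr fun i hi => (v_parts i hi).1
  have hgk : ∀ k : Fin 2, ∃ g : GA, Rep g (gK k) ∧ g ∈ Subgroup.closure (Set.range gq) := fun k => by
    obtain ⟨h1, h2, h3, -⟩ := hK k
    exact schreier_exists (hgqr ⟨_, h1⟩) (Subgroup.subset_closure ⟨_, rfl⟩) hv h2
      (map_of_chk (hgqr ⟨_, h1⟩) ((v_parts _ h2).2.2 ⟨_, h1⟩).1).1 h3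
  choose gk hgkr hgkm using hgk
  have hau := tree_exists t htr fun i hi => (a_parts i hi).1
  have hga : ∀ k : Fin 2, ∃ g : GA, Rep g (gA k) ∧ g ∈ Subgroup.closure (Set.range t) := fun k => by
    obtain ⟨h1, h2, h3, -⟩ := hA k
    exact schreier_exists (htr ⟨_, h1⟩) (Subgroup.subset_closure ⟨_, rfl⟩) hau h2
      (map_of_chk (htr ⟨_, h1⟩) ((a_parts _ h2).2.2 ⟨_, h1⟩)).1 h3
  choose ga hgar hgam using hga
  have hkk := tree_exists gk hgkr fun m hm => (k_parts m hm).1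
  choose u hur hum using hu
  choose w hwr hwm using hw
  choose v hvr hvm using hv
  choose au haur haum using hau
  choose kk hkkr hkkm using hkk
  choose xx hxxr hxxm using hxx
  exact ⟨{
    s := s, g1 := g1, t := t, gq := gq, gk := gk, ga := ga
    u := fun i => u i i.isLt
    w := fun i => w i i.isLt
    v := fun i => v i i.isLt
    au := fun i => au i i.isLt
    kk := fun i => kk i i.isLt
    xx := fun j => xx j
    rep_s := hs, rep_g1 := hg1r, rep_t := htr, rep_gq := hgqr, rep_gk := hgkr, rep_ga := hgar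
    rep_u := fun i => hur i i.isLt
    rep_w := fun i => hwr i i.isLt
    rep_v := fun i => hvr i i.isLt
    rep_au := fun i => haur i i.isLt
    rep_kk := fun i => hkkr i i.isLt
    rep_xx := fun j => hxxr j
    g1_mem := hg1m, t_mem := htm, gq_mem := hgqm, gk_mem := hgkm, ga_mem := hgam
    u_mem := fun i => hum i i.isLt
    w_mem := fun i => hwm i i.isLt
    v_mem := fun i => hvm i i.isLt
    au_mem := fun i => haum i i.isLt
    kk_mem := fun i => hkkm i i.isLt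
    xx_mem := fun j => hxxm j }⟩

namespace Chain

variable (C : Chain)

def G : Subgroup GA := Subgroup.closure (Set.range C.s)
def G1 : Subgroup GA := Subgroup.closure (Set.range C.g1)
def T : Subgroup GA := Subgroup.closure (Set.range C.t)
def Tq : Subgroup GA := Subgroup.closure (Set.range C.gq)
def K' : Subgroup GA := Subgroup.closure (Set.range C.gk)

theorem G1_le : C.G1 ≤ C.G := (Subgroup.closure_le _).2 (by rintro _ ⟨k, rfl⟩; exact C.g1_mem k)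
theorem T_le : C.T ≤ C.G1 := (Subgroup.closure_le _).2 (by rintro _ ⟨k, rfl⟩; exact C.t_mem k)
theorem Tq_le : C.Tq ≤ C.T := (Subgroup.closure_le _).2 (by rintro _ ⟨k, rfl⟩; exact C.gq_mem k)
theorem K_le : C.K' ≤ C.Tq := (Subgroup.closure_le _).2 (by rintro _ ⟨k, rfl⟩; exact C.gk_mem k)

theorem xx_zero : C.xx 0 = 1 := Rep.eq (C.rep_xx 0) (by
  show Rep 1 (Xj 0)
  unfold Xj
  exact rep_one)

theorem u_zero : C.u ⟨0, by norm_num⟩ = 1 := Rep.eq (C.rep_u _) (by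
  show Rep 1 (U 0)
  rw [eq_of_beq (show (U 0 == eye) = true from (u_parts 0 (by norm_num)).1)]; exact rep_one)

theorem w_zero : C.w ⟨0, by norm_num⟩ = 1 := Rep.eq (C.rep_w _) (by
  show Rep 1 (W 0)
  rw [eq_of_beq (show (W 0 == eye) = true from (w_parts 0 (by norm_num)).1)]; exact rep_one)

theorem v_zero : C.v ⟨0, by norm_num⟩ = 1 := Rep.eq (C.rep_v _) (by
  show Rep 1 (V 0)
  rw [eq_of_beq (show (V 0 == eye) = true from (v_parts 0 (by norm_num)).1)]; exact rep_one)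

theorem kk_zero : C.kk 0 = 1 := Rep.eq (C.rep_kk _) (by
  show Rep 1 (K 0)
  rw [eq_of_beq (show (K 0 == eye) = true from (k_parts 0 (by norm_num)).1)]; exact rep_one)

theorem word2_rep {w : ℕ} (h : ok2 w = true) :
    ∃ a : Fin 975, ∃ m : Fin 8, (a : ℕ) = w / 8 ∧ (m : ℕ) = w % 8 ∧
      Rep (C.v a * C.kk m) (word2 w) := by
  simp only [ok2, Bool.and_eq_true, decide_eq_true_eq] at h
  exact ⟨⟨_, h.1⟩, ⟨_, h.2⟩, rfl, rfl, (C.rep_v _).mul (C.rep_kk _)⟩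

theorem wordT_rep {w : ℕ} (h : okT w = true) : ∃ g ∈ C.T, Rep g (wordT w) := by
  simp only [okT, Bool.and_eq_true, decide_eq_true_eq] at h
  obtain ⟨a, m, -, -, hr⟩ := C.word2_rep h.2
  exact ⟨C.w ⟨_, h.1⟩ * (C.v a * C.kk m),
    C.T.mul_mem (C.w_mem _) (C.Tq_le (C.Tq.mul_mem (C.v_mem a) (C.K_le (C.kk_mem m)))),
    (C.rep_w _).mul hr⟩

theorem word1_rep {w : ℕ} (h : ok1 w = true) :
    ∃ j : Fin 2, ∃ l ∈ C.T, Rep (C.xx j * l) (word1 w) := by
  unfold ok1 at h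
  simp only [Bool.and_eq_true, decide_eq_true_eq] at h
  obtain ⟨l, hl, hr⟩ := C.wordT_rep h.2
  exact ⟨⟨_, h.1⟩, l, hl, (C.rep_xx ⟨_, h.1⟩).mul hr⟩

theorem word0_rep {w : ℕ} (h : ok0 w = true) : ∃ g ∈ C.G, Rep g (word0 w) := by
  unfold ok0 at h
  simp only [Bool.and_eq_true, decide_eq_true_eq] at h
  obtain ⟨j, l, hl, hr⟩ := C.word1_rep h.2
  exact ⟨C.u ⟨_, h.1⟩ * (C.xx j * l),
    C.G.mul_mem (C.u_mem _) (C.G1_le (C.G1.mul_mem (C.xx_mem j) (C.T_le hl))),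
    (C.rep_u ⟨_, h.1⟩).mul hr⟩

theorem cover_K {g : GA} (hg : g ∈ C.K') : ∃ m, g = C.kk m := by
  refine level_bot _ C.kk 0 C.kk_zero ?_ hg
  rintro _ ⟨k, rfl⟩ m
  obtain ⟨hlt, he⟩ := (k_parts m m.isLt).2.2.2 k k.isLt
  refine ⟨⟨_, hlt⟩, Rep.eq ((C.rep_gk k).mul (C.rep_kk m)) ?_⟩
  rw [he]
  exact C.rep_kk ⟨_, hlt⟩

theorem cover_Tq {g : GA} (hg : g ∈ C.Tq) : ∃ a, ∃ l ∈ C.K', g = C.v a * l := by
  refine level _ C.K' C.v ⟨0, by norm_num⟩ C.v_zero ?_ hg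
  rintro _ ⟨k, rfl⟩ a
  obtain ⟨hm, h⟩ := (v_parts a a.isLt).2.2 k
  obtain ⟨hj, -⟩ := map_of_chk (C.rep_gq k) hm
  simp only [vSch, Bool.and_eq_true, decide_eq_true_eq] at h
  refine ⟨⟨_, hj⟩, C.kk ⟨_, h.1⟩, C.kk_mem _, Rep.eq ((C.rep_gq k).mul (C.rep_v a)) ?_⟩
  refine Eq.mpr (congrArg (Rep _) (eq_of_beq h.2)) ?_
  exact (C.rep_v ⟨_, hj⟩).mul (C.rep_kk ⟨_, h.1⟩)

theorem cover_T {g : GA} (hg : g ∈ C.T) : ∃ a, ∃ l ∈ C.Tq, g = C.w a * l := by
  refine level _ C.Tq C.w ⟨0, by norm_num⟩ C.w_zero ?_ hg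
  rintro _ ⟨k, rfl⟩ a
  obtain ⟨hm, h⟩ := (w_parts a a.isLt).2.2 k
  obtain ⟨hj, -⟩ := map_of_chk (C.rep_t k) hm
  unfold wSch at h
  simp only [Bool.and_eq_true] at h
  obtain ⟨b, m, -, -, hr⟩ := C.word2_rep h.1
  refine ⟨⟨_, hj⟩, C.v b * C.kk m, C.Tq.mul_mem (C.v_mem b) (C.K_le (C.kk_mem m)),
    Rep.eq ((C.rep_t k).mul (C.rep_w a)) ?_⟩
  rw [eq_of_beq h.2]
  exact (C.rep_w ⟨_, hj⟩).mul hr

theorem cover_G1 {g : GA} (hg : g ∈ C.G1) : ∃ j, ∃ l ∈ C.T, g = C.xx j * l := by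
  refine level _ C.T C.xx 0 C.xx_zero ?_ hg
  rintro _ ⟨k, rfl⟩ j
  obtain ⟨hok, he⟩ := (gen_parts.2.1 k).2.2.2.2 j
  obtain ⟨j', l, hl, hr⟩ := C.word1_rep hok
  refine ⟨j', l, hl, Rep.eq ((C.rep_g1 k).mul (C.rep_xx j)) ?_⟩
  rw [he]
  exact hr

theorem cover_G {g : GA} (hg : g ∈ C.G) : ∃ i, ∃ l ∈ C.G1, g = C.u i * l := by
  refine level _ C.G1 C.u ⟨0, by norm_num⟩ C.u_zero ?_ hg
  rintro _ ⟨k, rfl⟩ i
  obtain ⟨hm, h⟩ := (u_parts i i.isLt).2.2 k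
  obtain ⟨hj, -⟩ := map_of_chk (C.rep_s k) hm
  unfold uSch at h
  simp only [Bool.and_eq_true] at h
  obtain ⟨j, l, hl, hr⟩ := C.word1_rep h.1
  refine ⟨⟨_, hj⟩, C.xx j * l, C.G1.mul_mem (C.xx_mem j) (C.T_le hl),
    Rep.eq ((C.rep_s k).mul (C.rep_u i)) ?_⟩
  rw [eq_of_beq h.2]
  exact (C.rep_u ⟨_, hj⟩).mul hr

theorem fix_Pt {g : GA} (hg : g ∈ C.G1) : app g (Pt 0) = toVec (Pt 0) := by
  refine fix_mem ?_ hg
  rintro _ ⟨k, rfl⟩
  rw [app_rep (C.rep_g1 k), (gen_parts.2.1 k).2.2.2.1]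

theorem fix_Qt {g : GA} (hg : g ∈ C.Tq) : app g (Qt 0) = toVec (Qt 0) := by
  refine fix_mem ?_ hg
  rintro _ ⟨k, rfl⟩
  rw [app_rep (C.rep_gq k), (gen_parts.2.2.2.2.1 k).2.2.2]

theorem fix_Rt {g : GA} (hg : g ∈ C.K') : app g (Rt 0) = toVec (Rt 0) := by
  refine fix_mem ?_ hg
  rintro _ ⟨k, rfl⟩
  rw [app_rep (C.rep_gk k), (gen_parts.2.2.2.2.2.1 k).2.2.2]

theorem u_app (i : Fin 4060) : app (C.u i) (Pt 0) = toVec (Pt i) := by
  rw [app_rep (C.rep_u i), ((pt_facts fun j hj => (u_parts j hj).2.1).1 i i.isLt).2]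

theorem w_app (i : Fin 2304) : app (C.w i) (Qt 0) = toVec (Qt i) := by
  rw [app_rep (C.rep_w i), ((pt_facts fun j hj => (w_parts j hj).2.1).1 i i.isLt).2]

theorem v_app (i : Fin 975) : app (C.v i) (Rt 0) = toVec (Rt i) := by
  rw [app_rep (C.rep_v i), ((pt_facts fun j hj => (v_parts j hj).2.1).1 i i.isLt).2]

theorem au_app (i : Fin 1755) : app (C.au i) (Apt 0) = toVec (Apt i) := by
  rw [app_rep (C.rep_au i), ((pt_facts fun j hj => (a_parts j hj).2.1).1 i i.isLt).2]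

theorem card_K : Nat.card C.K' = 8 := by
  rw [card_eq_mul C.K' ⊥ C.kk C.kk_mem bot_le
    (fun g hg => by
      obtain ⟨m, rfl⟩ := C.cover_K hg
      exact ⟨m, 1, Subgroup.one_mem _, (mul_one _).symm⟩)
    (fun i j h => by
      rw [Subgroup.mem_bot, inv_mul_eq_one] at h
      have he : K i = K j := by
        refine toMat_inj (k_parts i i.isLt).2.1 (k_parts j j.isLt).2.1 ?_
        rw [← C.rep_kk i, ← C.rep_kk j, h]
      exact Fin.ext (((k_parts i i.isLt).2.2.1 j j.isLt).resolve_right fun hne => hne he))]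
  simp

theorem card_Tq : Nat.card C.Tq = 7800 := by
  rw [card_eq_mul C.Tq C.K' C.v C.v_mem C.K_le (fun g hg => C.cover_Tq hg) (fun a b h => ?_),
    C.card_K]
  · simp
  · have h1 := app_mul_of (C.v a) _ (C.fix_Rt h)
    rw [mul_inv_cancel_left, C.v_app, C.v_app] at h1
    exact Fin.ext (((pt_facts fun j hj => (v_parts j hj).2.1).2 b b.isLt a a.isLt h1).symm)

theorem card_T : Nat.card C.T = 17971200 := by
  rw [card_eq_mul C.T C.Tq C.w C.w_mem C.Tq_le (fun g hg => C.cover_T hg) (fun a b h => ?_),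
    C.card_Tq]
  · simp
  · have h1 := app_mul_of (C.w a) _ (C.fix_Qt h)
    rw [mul_inv_cancel_left, C.w_app, C.w_app] at h1
    exact Fin.ext (((pt_facts fun j hj => (w_parts j hj).2.1).2 b b.isLt a a.isLt h1).symm)

theorem xx_one_notMem : C.xx 1 ∉ C.T := by
  intro h
  obtain ⟨a, l, hl, he⟩ := C.cover_T h
  obtain ⟨b, l', hl', rfl⟩ := C.cover_Tq hl
  obtain ⟨m, rfl⟩ := C.cover_K hl'
  have hrx : Rep (C.xx 1) Xc := C.rep_xx 1
  obtain ⟨-, -, -, -, -, -, -, -, hxq, hxA⟩ := gen_parts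
  have h1 : app (C.xx 1) (Qt 0) = toVec (Qt a) := by
    rw [he, app_mul_of _ _ (C.fix_Qt (C.Tq.mul_mem (C.v_mem b) (C.K_le hl'))), C.w_app]
  rw [app_rep hrx, hxq] at h1
  have ha : (a : ℕ) = D.xA :=
    ((pt_facts fun j hj => (w_parts j hj).2.1).2 _ hxA a a.isLt h1).symm
  have hn := nt_spec (8 * (b : ℕ) + m) (by omega)
  unfold notTChk at hn
  simp only [bne_iff_ne] at hn
  refine hn ?_
  have hr : Rep (C.w a * (C.v b * C.kk m)) (mul (word2 (8 * (b : ℕ) + m)) (W D.xA)) := by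
    rw [← ha]
    refine (C.rep_w a).mul ?_
    unfold word2
    rw [show (8 * (b : ℕ) + m) % 8 = m by omega, show (8 * (b : ℕ) + m) / 8 = b by omega]
    exact (C.rep_v b).mul (C.rep_kk m)
  rw [← he] at hr
  exact toMat_inj (mul_lt _ _) Xc_lt (hr.symm.trans hrx)

theorem card_G1 : Nat.card C.G1 = 35942400 := by
  rw [card_eq_mul C.G1 C.T C.xx C.xx_mem C.T_le (fun g hg => C.cover_G1 hg) (fun i j h => ?_),
    C.card_T]
  · simp
  · fin_cases i <;> fin_cases j <;> simp [C.xx_zero] at h ⊢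
    · exact C.xx_one_notMem h
    · exact C.xx_one_notMem h

theorem card_G : Nat.card C.G = 145926144000 := by
  rw [card_eq_mul C.G C.G1 C.u C.u_mem C.G1_le (fun g hg => C.cover_G hg) (fun a b h => ?_),
    C.card_G1]
  · simp
  · have h1 := app_mul_of (C.u a) _ (C.fix_Pt h)
    rw [mul_inv_cancel_left, C.u_app, C.u_app] at h1
    exact Fin.ext (((pt_facts fun j hj => (u_parts j hj).2.1).2 b b.isLt a a.isLt h1).symm)

end Chain

end H94.RU
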