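import Mathlib
import Cfsg.Agent.H94.RU.Group

/-! Permutation actions of the certified groups and linear consequences of fixing points. -/

namespace H94.RU

attribute [local irreducible] H94.J3.Tr.get H94.RU.mul eye

open H94.J3 (allIn_spec Tr)

/-- A subgroup permutes the listed points. -/
structure PAct (n : ℕ) (pt : ℕ → ℕ) (H : Subgroup GA) : Prop where
  inj : ∀ i j : Fin n, toVec (pt i) = toVec (pt j) → i = j
  total : ∀ g ∈ H, ∀ i : Fin n, ∃ j : Fin n, app g (pt i) = toVec (pt j)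

theorem pact_closure {n ng : ℕ} {pt : ℕ → ℕ} (gens : Fin ng → GA)
    (inj : ∀ i < n, ∀ j < n, toVec (pt i) = toVec (pt j) → i = j)
    (h : ∀ k, ∀ i : Fin n, ∃ j : Fin n, app (gens k) (pt i) = toVec (pt j)) :
    PAct n pt (Subgroup.closure (Set.range gens)) := by
  refine ⟨fun i j he => Fin.ext (inj i i.isLt j j.isLt he), fun g hg => ?_⟩
  rw [← Subgroup.mem_toSubmonoid, Subgroup.closure_toSubmonoid_of_finite] at hg
  induction hg using Submonoid.closure_induction_left with
  | one => exact fun i => ⟨i, app_one _⟩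
  | mul_left x hx y _ ih =>
    obtain ⟨k, rfl⟩ := hx
    intro i
    obtain ⟨j, hj⟩ := ih i
    obtain ⟨l, hl⟩ := h k j
    exact ⟨l, by rw [app_mul_of _ _ hj, hl]⟩

variable {n : ℕ} {pt : ℕ → ℕ} {H : Subgroup GA}

noncomputable def PAct.img (A : PAct n pt H) (g : H) (i : Fin n) : Fin n :=
  (A.total g g.2 i).choose

theorem PAct.img_spec (A : PAct n pt H) (g : H) (i : Fin n) :
    app (g : GA) (pt i) = toVec (pt (A.img g i)) :=
  (A.total g g.2 i).choose_spec

theorem PAct.img_eq (A : PAct n pt H) {g : H} {i j : Fin n}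
    (h : app (g : GA) (pt i) = toVec (pt j)) : A.img g i = j :=
  A.inj _ _ ((A.img_spec g i).symm.trans h)

theorem PAct.img_one (A : PAct n pt H) (i : Fin n) : A.img 1 i = i :=
  A.img_eq (by simpa using app_one (pt i))

theorem PAct.img_mul (A : PAct n pt H) (g h : H) (i : Fin n) :
    A.img (g * h) i = A.img g (A.img h i) :=
  A.img_eq (by rw [Subgroup.coe_mul, app_mul_of _ _ (A.img_spec h i)]; exact A.img_spec g _)

/-- The permutation representation on the listed points. -/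
noncomputable def PAct.hom (A : PAct n pt H) : H →* Equiv.Perm (Fin n) where
  toFun g :=
    { toFun := A.img g
      invFun := A.img g⁻¹
      left_inv := fun i => by rw [← A.img_mul, inv_mul_cancel, A.img_one]
      right_inv := fun i => by rw [← A.img_mul, mul_inv_cancel, A.img_one] }
  map_one' := Equiv.ext fun i => A.img_one i
  map_mul' g h := Equiv.ext fun i => A.img_mul g h i

theorem PAct.hom_eq (A : PAct n pt H) {g : H} {i j : Fin n}
    (h : app (g : GA) (pt i) = toVec (pt j)) : A.hom g i = j :=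
  A.img_eq h

theorem PAct.fix_of_hom (A : PAct n pt H) {g : H} (h : A.hom g = 1) (i : ℕ) (hi : i < n) :
    app (g : GA) (pt i) = toVec (pt i) := by
  have h' : A.img g ⟨i, hi⟩ = ⟨i, hi⟩ := Equiv.congr_fun h ⟨i, hi⟩
  have := A.img_spec g ⟨i, hi⟩
  rwa [h'] at this

theorem xorPts_mem (pt : ℕ → ℕ) (Q : (Fin 28 → ZMod 2) → Prop) (h0 : Q 0)
    (hadd : ∀ v w, Q v → Q w → Q (v + w)) :
    ∀ l : List ℕ, (∀ i ∈ l, Q (toVec (pt i))) → Q (toVec (xorPts pt l))
  | [], _ => by
    show Q (toVec 0)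
    rw [toVec_zero]; exact h0
  | a :: l, hl => by
    show Q (toVec (pt a ^^^ xorPts pt l))
    rw [toVec_xor]
    exact hadd _ _ (hl a (by simp)) (xorPts_mem pt Q h0 hadd l fun i hi => hl i (by simp [hi]))

theorem all_vec (Q : (Fin 28 → ZMod 2) → Prop) (h0 : Q 0) (hadd : ∀ v w, Q v → Q w → Q (v + w))
    (hk : ∀ k : Fin 28, Q (toVec (2 ^ (k : ℕ)))) (v : Fin 28 → ZMod 2) : Q v := by
  rw [← Finset.univ_sum_single v]
  refine Finset.sum_induction _ Q hadd h0 fun k _ => ?_
  have hv : v k = 0 ∨ v k = 1 := by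
    generalize v k = z
    revert z
    decide
  rcases hv with h | h <;> rw [h]
  · rw [Pi.single_zero]; exact h0
  · rw [← toVec_pow]; exact hk k

theorem eq_one_of_fix {g : GA}
    (h : ∀ v, Matrix.mulVec (g : Matrix (Fin 28) (Fin 28) (ZMod 2)) v = v) : g = 1 := by
  refine Units.ext ?_
  apply Matrix.toLin'.injective
  refine LinearMap.ext fun v => ?_
  simp [Matrix.toLin'_apply, h v]

/-- An element fixing the spanning set is trivial. -/
theorem eq_one_of_span {g : GA} (pt : ℕ → ℕ) (comb : Fin 28 → List ℕ)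
    (hc : ∀ k : Fin 28, xorPts pt (comb k) = 2 ^ (k : ℕ))
    (hf : ∀ k : Fin 28, ∀ i ∈ comb k, app g (pt i) = toVec (pt i)) : g = 1 := by
  let Q : (Fin 28 → ZMod 2) → Prop := fun v =>
    Matrix.mulVec (g : Matrix (Fin 28) (Fin 28) (ZMod 2)) v = v
  have h0 : Q 0 := Matrix.mulVec_zero _
  have hadd : ∀ v w, Q v → Q w → Q (v + w) := fun v w hv hw => by
    show Matrix.mulVec _ (v + w) = v + w
    rw [Matrix.mulVec_add, hv, hw]
  refine eq_one_of_fix fun v => all_vec Q h0 hadd (fun k => ?_) v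
  rw [← hc k]
  exact xorPts_mem pt Q h0 hadd _ fun i hi => hf k i hi

/-- An element fixing a hyperplane squares to the identity. -/
theorem sq_eq_one_of_span {g : GA} (pt : ℕ → ℕ) (m : ℕ) (comb : Fin 28 → List ℕ)
    (hc : ∀ k : Fin 28, xorPts pt (comb k) = 2 ^ (k : ℕ))
    (hf : ∀ k : Fin 28, ∀ i ∈ comb k, i ≠ m → app g (pt i) = toVec (pt i)) : g * g = 1 := by
  set M : Matrix (Fin 28) (Fin 28) (ZMod 2) := (g : Matrix (Fin 28) (Fin 28) (ZMod 2)) with hM
  have two : ∀ v : Fin 28 → ZMod 2, v + v = 0 := fun v => funext fun j => CharTwo.add_self_eq_zero _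
  set a := M.mulVec (toVec (pt m)) + toVec (pt m) with ha
  let Q : (Fin 28 → ZMod 2) → Prop := fun v => M.mulVec v = v ∨ M.mulVec v = v + a
  have h0 : Q 0 := Or.inl (Matrix.mulVec_zero _)
  have hadd : ∀ v w, Q v → Q w → Q (v + w) := by
    rintro v w (hv | hv) (hw | hw)
    · left; rw [Matrix.mulVec_add, hv, hw]
    · right; rw [Matrix.mulVec_add, hv, hw, add_assoc]
    · right; rw [Matrix.mulVec_add, hv, hw, add_right_comm]
    · left; rw [Matrix.mulVec_add, hv, hw, add_add_add_comm, two a, add_zero]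
  have hk : ∀ k : Fin 28, Q (toVec (2 ^ (k : ℕ))) := fun k => by
    rw [← hc k]
    refine xorPts_mem pt Q h0 hadd _ fun i hi => ?_
    rcases eq_or_ne i m with rfl | hne
    · right
      rw [ha, add_left_comm, two, add_zero]
    · exact Or.inl (hf k i hi hne)
  have hall := all_vec Q h0 hadd hk
  have hinv : M.mulVec a = 0 → a = 0 := fun h => by
    have := congrArg (Matrix.mulVec ((g⁻¹ : GA) : Matrix (Fin 28) (Fin 28) (ZMod 2))) h
    rwa [Matrix.mulVec_mulVec, Matrix.mulVec_zero, hM, Units.inv_mul, Matrix.one_mulVec] at this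
  have hfix : M.mulVec a = a := by
    rcases hall a with h | h
    · exact h
    · rw [two a] at h
      rw [hinv h, Matrix.mulVec_zero]
  refine eq_one_of_fix fun v => ?_
  rw [Units.val_mul, ← Matrix.mulVec_mulVec, ← hM]
  rcases hall v with h | h
  · rw [h, h]
  · rw [h, Matrix.mulVec_add, h, hfix, add_assoc, two a, add_zero]

theorem mem_of_pow {Γ : Type*} [Group Γ] {M : Subgroup Γ} [M.Normal] {x : Γ} {p N e : ℕ}
    (hx : x ^ p = 1) (hN : M.index ∣ N) (he : N * e % p = 1) : x ∈ M := by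
  obtain ⟨d, rfl⟩ := hN
  have h : x ^ (M.index * d * e) ∈ M := by
    rw [pow_mul, pow_mul]
    exact M.pow_mem (M.pow_mem (M.pow_index_mem x) _) _
  rwa [pow_eq_pow_mod _ hx, he, pow_one] at h

theorem index_dvd {Γ : Type*} [Group Γ] [Finite Γ] {M : Subgroup Γ} {n N : ℕ}
    (hc : Nat.card Γ = n * N) (hn : n ∣ Nat.card M) : M.index ∣ N := by
  obtain ⟨d, hd⟩ := hn
  have h := M.card_mul_index
  rw [hd, hc] at h
  have hpos : 0 < n := by
    rcases Nat.eq_zero_or_pos n with rfl | h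
    · simp [Nat.card_pos.ne'] at hc
    · exact h
  exact ⟨d, Nat.eq_of_mul_eq_mul_left hpos (by rw [← h]; ring)⟩

theorem sub_of_chk {n ng nt : ℕ} {gens pt lab dep ph : ℕ → ℕ} {rep : List ℕ}
    (hchk : ∀ i < n, subChk n ng nt gens pt lab dep ph rep i = true) {H : Subgroup GA}
    (A : PAct n pt H) (h : Fin ng → H) (hr : ∀ k, Rep (h k : GA) (gens k)) (i : Fin n) :
    lab i < nt ∧ ((dep i = 0 ∧ rep.getD (lab i) 0 = i) ∨
      ∃ (k : Fin ng) (q : Fin n), dep q < dep i ∧ lab q = lab i ∧ A.hom (h k) q = i) := by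
  have hi := hchk i i.isLt
  unfold subChk at hi
  simp only [Bool.and_eq_true, decide_eq_true_eq] at hi
  refine ⟨hi.1, ?_⟩
  rcases Nat.eq_zero_or_pos (dep i) with h0 | hpos
  · rw [h0] at hi
    exact Or.inl ⟨h0, eq_of_beq hi.2⟩
  · rw [show (dep i == 0) = false by simp; omega, cond_false] at hi
    simp only [Bool.and_eq_true, decide_eq_true_eq] at hi
    obtain ⟨⟨⟨⟨hk, hq⟩, hd⟩, hl⟩, hm⟩ := hi.2
    exact Or.inr ⟨⟨_, hk⟩, ⟨_, hq⟩, hd, eq_of_beq hl,
      A.hom_eq (by rw [app_rep (hr ⟨_, hk⟩)]; exact congrArg toVec (eq_of_beq hm))⟩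

end H94.RU
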