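import Mathlib
import Cfsg.Agent.H94.J3.Gen

/-! Bit-packed 28×28 matrices over the field with two elements. -/

namespace H94.RU

set_option exponentiation.threshold 1000

def colMask : ℕ := (2 ^ 784 - 1) / (2 ^ 28 - 1)
def rowMask : ℕ := 2 ^ 28 - 1

/-- `sp n f` has bit `28 i` equal to `f i` for `i < n`. -/
def sp : ℕ → (ℕ → Bool) → ℕ
  | 0, _ => 0
  | n + 1, f => 2 ^ 28 * sp n (fun i => f (i + 1)) + (f 0).toNat

theorem sp_mul_testBit (r : ℕ) (hr : r < 2 ^ 28) :
    ∀ (n : ℕ) (f : ℕ → Bool) (t : ℕ),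
      (sp n f * r).testBit t = (decide (t / 28 < n) && f (t / 28) && r.testBit (t % 28))
  | 0, f, t => by simp [sp]
  | n + 1, f, t => by
    have hlt : (f 0).toNat * r < 2 ^ 28 := by cases f 0 <;> simpa using hr
    rw [sp, Nat.add_mul, mul_assoc, Nat.testBit_two_pow_mul_add _ hlt]
    split_ifs with h
    · rw [Nat.div_eq_of_lt h, Nat.mod_eq_of_lt h]
      cases f 0 <;> simp
    · rw [sp_mul_testBit r hr n _ (t - 28)]
      have h1 : t / 28 = (t - 28) / 28 + 1 := by omega
      have h2 : t % 28 = (t - 28) % 28 := by omega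
      rw [h1, h2]
      simp

theorem sp_testBit (n : ℕ) (f : ℕ → Bool) (t : ℕ) :
    (sp n f).testBit t = (decide (t / 28 < n) && f (t / 28) && decide (t % 28 = 0)) := by
  have h := sp_mul_testBit 1 (by norm_num) n f t
  rw [mul_one] at h
  rw [h]
  congr 1
  rw [Bool.eq_iff_iff, Nat.testBit_one_eq_true_iff_self_eq_zero, decide_eq_true_iff]

theorem colMask_eq : colMask = sp 28 (fun _ => true) := by decide +kernel

theorem colsel_eq (a k : ℕ) :
    k < 28 → (a >>> k) &&& colMask = sp 28 (fun i => a.testBit (28 * i + k)) := by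
  intro _
  apply Nat.eq_of_testBit_eq
  intro t
  rw [Nat.testBit_and, Nat.testBit_shiftRight, colMask_eq, sp_testBit, sp_testBit]
  by_cases h : t % 28 = 0
  · have : 28 * (t / 28) + k = k + t := by omega
    rw [this]
    simp [h, Bool.and_comm]
  · simp [h]

def term (a b k : ℕ) : ℕ := ((a >>> k) &&& colMask) * ((b >>> (28 * k)) &&& rowMask)

theorem term_testBit (a b : ℕ) (k i j : Fin 28) :
    (term a b k).testBit (28 * i + j) = (a.testBit (28 * i + k) && b.testBit (28 * k + j)) := by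
  have hr : (b >>> (28 * (k : ℕ))) &&& rowMask < 2 ^ 28 :=
    lt_of_le_of_lt Nat.and_le_right (by decide)
  have h1 : (28 * (i : ℕ) + j) / 28 = i := by omega
  have h2 : (28 * (i : ℕ) + j) % 28 = j := by omega
  rw [term, colsel_eq a k k.isLt, sp_mul_testBit _ hr, h1, h2, Nat.testBit_and,
    Nat.testBit_shiftRight, rowMask, Nat.testBit_two_pow_sub_one]
  simp [i.isLt, j.isLt]

theorem term_lt (a b k : ℕ) : term a b k < 2 ^ 784 := by
  have h1 : (a >>> k) &&& colMask ≤ colMask := Nat.and_le_right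
  have h2 : (b >>> (28 * k)) &&& rowMask ≤ rowMask := Nat.and_le_right
  calc term a b k ≤ colMask * rowMask := Nat.mul_le_mul h1 h2
    _ < 2 ^ 784 := by decide +kernel

def xs : ℕ → (ℕ → ℕ) → ℕ
  | 0, _ => 0
  | n + 1, f => xs n f ^^^ f n

theorem xs_lt (n : ℕ) (f : ℕ → ℕ) (h : ∀ k, f k < 2 ^ 784) : xs n f < 2 ^ 784 := by
  induction n with
  | zero => exact Nat.two_pow_pos _
  | succ n ih => exact Nat.xor_lt_two_pow ih (h n)

/-- Product of bit matrices (row `i` in bits `28 i … 28 i + 27`). -/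
def mul (a b : ℕ) : ℕ := xs 28 (term a b)

theorem mul_lt (a b : ℕ) : mul a b < 2 ^ 784 := xs_lt _ _ (term_lt a b)

def bc (b : Bool) : ZMod 2 := if b then 1 else 0

theorem bc_xor : ∀ a b : Bool, bc (a ^^ b) = bc a + bc b := by decide
theorem bc_and : ∀ a b : Bool, bc (a && b) = bc a * bc b := by decide
theorem bc_inj : ∀ a b : Bool, bc a = bc b → a = b := by decide

theorem bc_xs (n : ℕ) (f : ℕ → ℕ) (t : ℕ) :
    bc ((xs n f).testBit t) = ∑ k ∈ Finset.range n, bc ((f k).testBit t) := by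
  induction n with
  | zero => simp [xs, bc]
  | succ n ih => rw [xs, Nat.testBit_xor, bc_xor, ih, Finset.sum_range_succ]

def toMat (x : ℕ) : Matrix (Fin 28) (Fin 28) (ZMod 2) :=
  fun i j => bc (x.testBit (28 * (i : ℕ) + j))

/-- A row vector code as a vector. -/
def toVec (v : ℕ) : Fin 28 → ZMod 2 := fun j => bc (v.testBit j)

theorem toMat_mul (x y : ℕ) : toMat (mul x y) = toMat x * toMat y := by
  ext i j
  rw [Matrix.mul_apply]
  simp only [toMat, mul, bc_xs, Finset.sum_range (fun k => bc ((term x y k).testBit _)),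
    term_testBit, bc_and]

theorem toMat_inj {x y : ℕ} (hx : x < 2 ^ 784) (hy : y < 2 ^ 784) (h : toMat x = toMat y) :
    x = y := by
  apply Nat.eq_of_testBit_eq
  intro t
  by_cases ht : t < 784
  · have h' := congrFun (congrFun h ⟨t / 28, by omega⟩) ⟨t % 28, by omega⟩
    simp only [toMat] at h'
    rw [show 28 * (t / 28) + t % 28 = t by omega] at h'
    exact bc_inj _ _ h'
  · have hp : (2 : ℕ) ^ 784 ≤ 2 ^ t := Nat.pow_le_pow_right (by norm_num) (by omega)
    rw [Nat.testBit_eq_false_of_lt (lt_of_lt_of_le hx hp),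
      Nat.testBit_eq_false_of_lt (lt_of_lt_of_le hy hp)]

theorem toVec_inj {v w : ℕ} (hv : v < 2 ^ 28) (hw : w < 2 ^ 28) (h : toVec v = toVec w) : v = w := by
  apply Nat.eq_of_testBit_eq
  intro t
  by_cases ht : t < 28
  · exact bc_inj _ _ (congrFun h ⟨t, ht⟩)
  · have hp : (2 : ℕ) ^ 28 ≤ 2 ^ t := Nat.pow_le_pow_right (by norm_num) (by omega)
    rw [Nat.testBit_eq_false_of_lt (lt_of_lt_of_le hv hp),
      Nat.testBit_eq_false_of_lt (lt_of_lt_of_le hw hp)]

theorem toVec_xor (v w : ℕ) : toVec (v ^^^ w) = toVec v + toVec w := by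
  funext j
  simp [toVec, Nat.testBit_xor, bc_xor]

theorem toVec_zero : toVec 0 = 0 := by
  funext j
  simp [toVec, bc]

/-- Multiplying a row vector code by a matrix code. -/
theorem toVec_mul (v x : ℕ) : toVec (mul v x) = Matrix.vecMul (toVec v) (toMat x) := by
  funext j
  have h := congrFun (congrFun (toMat_mul v x) 0) j
  simp only [toMat, Matrix.mul_apply, Fin.val_zero, mul_zero, zero_add] at h
  simp only [toVec, toMat, Matrix.vecMul, dotProduct]
  exact h

theorem toVec_pow (k : Fin 28) : toVec (2 ^ (k : ℕ)) = Pi.single k 1 := by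
  funext j
  simp only [toVec, Nat.testBit_two_pow, Pi.single_apply, bc, Fin.ext_iff]
  by_cases h : (k : ℕ) = j <;> simp [h, eq_comm]

def eye : ℕ := xs 28 (fun k => 2 ^ (29 * k))

theorem toMat_eye : toMat eye = 1 := by
  have key : ∀ i j : Fin 28, eye.testBit (28 * (i : ℕ) + j) = decide (i = j) := by decide +kernel
  ext i j
  simp only [toMat, key, Matrix.one_apply, bc]
  by_cases h : i = j <;> simp [h]

/-- The group element `g` has (transposed) code `x`: row `k` of the code is the image of `e_k`. -/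
def Rep (g : GL (Fin 28) (ZMod 2)) (x : ℕ) : Prop :=
  (g : Matrix (Fin 28) (Fin 28) (ZMod 2)).transpose = toMat x

theorem rep_one : Rep 1 eye := by rw [Rep, toMat_eye]; simp

theorem Rep.mul {g h : GL (Fin 28) (ZMod 2)} {x y : ℕ} (hg : Rep g x) (hh : Rep h y) :
    Rep (g * h) (H94.RU.mul y x) := by
  unfold Rep at *
  rw [Units.val_mul, Matrix.transpose_mul, hg, hh, toMat_mul]

theorem Rep.eq {g h : GL (Fin 28) (ZMod 2)} {x : ℕ} (hg : Rep g x) (hh : Rep h x) : g = h :=
  Units.ext (Matrix.transpose_injective (hg.trans hh.symm))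

theorem exists_rep {x y : ℕ} (h1 : H94.RU.mul x y = eye) (h2 : H94.RU.mul y x = eye) :
    ∃ g : GL (Fin 28) (ZMod 2), Rep g x := by
  refine ⟨⟨(toMat x).transpose, (toMat y).transpose, ?_, ?_⟩, by simp [Rep]⟩
  · rw [← Matrix.transpose_mul, ← toMat_mul, h2, toMat_eye, Matrix.transpose_one]
  · rw [← Matrix.transpose_mul, ← toMat_mul, h1, toMat_eye, Matrix.transpose_one]

theorem rep_cancel {g h : GL (Fin 28) (ZMod 2)} {x y z : ℕ} (hg : Rep g x) (hh : Rep h y)
    (he : H94.RU.mul z x = y) : Rep (g⁻¹ * h) z := by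
  unfold Rep at *
  rw [← he, toMat_mul, ← hg] at hh
  have e := congrArg Matrix.transpose hh
  rw [Matrix.transpose_transpose, Matrix.transpose_mul, Matrix.transpose_transpose] at e
  rw [Units.val_mul, e, ← mul_assoc, Units.inv_mul, one_mul, Matrix.transpose_transpose]

/-- The image of a row vector code. -/
theorem Rep.app {g : GL (Fin 28) (ZMod 2)} {x : ℕ} (hg : Rep g x) (v : ℕ) :
    Matrix.mulVec (g : Matrix (Fin 28) (Fin 28) (ZMod 2)) (toVec v) = toVec (H94.RU.mul v x) := by
  rw [toVec_mul, ← hg, Matrix.vecMul_transpose]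

end H94.RU
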