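import Cfsg.Agent.H94.J3.Gen

/-! Generated certificate data for the Rudvalis group. -/

namespace H94.RU.D

open H94.J3

def ptT_naaaaaa : Tr := (.nd (.nd (.nd (.nd (.nd (.nd (.lf 0x1) (.lf 0x43a275e)) (.nd (.lf 0x9ed42e7) (.lf 0x45bd0db))) (.nd (.nd (.lf 0x1bdc839) (.lf 0x6dccd65)) (.nd (.lf 0x65b3dd5) (.lf 0x954e93f)))) (.nd (.nd (.nd (.lf 0x4d1adc6) (.lf 0x137d33a)) (.nd (.lf 0xc94fbef) (.lf 0xe3bf76d))) (.nd (.nd (.lf 0x948eee0) (.lf 0x1702cdc)) (.nd (.lf 0x661dc88) (.lf 0x690ee04))))) (.nd (.nd (.nd (.nd (.lf 0x156695f) (.lf 0xd21f6fd)) (.nd (.lf 0xce6af0a) (.lf 0x3a378d7))) (.nd (.nd (.lf 0xdc6fa99) (.lf 0x986430e)) (.nd (.lf 0x9e917e7) (.lf 0xf9f4848)))) (.nd (.nd (.nd (.lf 0x32eab11) (.lf 0x7c5c2d3)) (.nd (.lf 0x4529b74) (.lf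 0xd828862))) (.nd (.nd (.lf 0xd65fff7) (.lf 0x7c94a67)) (.nd (.lf 0xb04f786) (.lf 0xf4ffeee)))))) (.nd (.nd (.nd (.nd (.nd (.lf 0x47de19a) (.lf 0x6589d82)) (.nd (.lf 0x3e9bd16) (.lf 0x36c5af9))) (.nd (.nd (.lf 0xb82880) (.lf 0x2c89773)) (.nd (.lf 0xd19a941) (.lf 0x17502c5)))) (.nd (.nd (.nd (.lf 0xbcb52bc) (.lf 0xef8f2bc)) (.nd (.lf 0x4a97ca5) (.lf 0xc3c309d))) (.nd (.nd (.lf 0x2909269) (.lf 0x6f88b6)) (.nd (.lf 0x92143a9) (.lf 0x1f86ea0))))) (.nd (.nd (.nd (.nd (.lf 0x5a5474) (.lf 0xc5638e5)) (.nd (.lf 0x5032cb5) (.lf 0xd2488e4))) (.nd (.nd (.lf 0x464f69) (.lf 0x5e73d78)) (.nd (.lf 0xcf63c4) (.lf 0x85d1016)))) (.nd (.nd (.nd (.lf 0xe6af6ed) (.lf 0x9d2d601)) (.nd (.lf 0x2161080) (.lf 0x492e46a))) (.nd (.nd (.lf 0x1000000) (.lf 0x144d2be))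 (.nd (.lf 0xda8722f) (.lf 0xbc9d870)))))))
def ptT_naaaaab : Tr := (.nd (.nd (.nd (.nd (.nd (.nd (.lf 0xeb488f1) (.lf 0xdd623f2)) (.nd (.lf 0x3b95ac8) (.lf 0x6e60cc1))) (.nd (.nd (.lf 0x7cd341c) (.lf 0x36cbe56)) (.nd (.lf 0x5696d40) (.lf 0x2c912a7)))) (.nd (.nd (.nd (.lf 0x756d1b3) (.lf 0xc8d3018)) (.nd (.lf 0x42ebc9) (.lf 0x3f67cc7))) (.nd (.nd (.lf 0xa649f52) (.lf 0x614f536)) (.nd (.lf 0xe75ebbc) (.lf 0x167c04a))))) (.nd (.nd (.nd (.nd (.lf 0xe2517c2) (.lf 0x2824a92)) (.nd (.lf 0xb962464) (.lf 0xb9a9be3))) (.nd (.nd (.lf 0xb71fbe6) (.lf 0xec0e21f)) (.nd (.lf 0x6a7f3b6) (.lf 0xbaf3b7e)))) (.nd (.nd (.nd (.lf 0x32e247f) (.lf 0xa65b6df)) (.nd (.lf 0x10000) (.lf 0xd7a031))) (.nd (.nd (.lf 0x535800b) (.lf 0xdcd1936)) (.nd (.lf 0xf4c2fa6)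 (.lf 0x9f7ab38)))))) (.nd (.nd (.nd (.nd (.nd (.lf 0x79cfb60) (.lf 0xec75129)) (.nd (.lf 0x8d8e07) (.lf 0x729974d))) (.nd (.nd (.lf 0x2000a) (.lf 0xa4ca427)) (.nd (.lf 0x98222a3) (.lf 0x13fd0f9)))) (.nd (.nd (.nd (.lf 0xc94b238) (.lf 0xe3ad613)) (.nd (.lf 0x40) (.lf 0x4798037))) (.nd (.nd (.lf 0x58dbcb2) (.lf 0x136f8a1)) (.nd (.lf 0x5710172) (.lf 0x7e12b80))))) (.nd (.nd (.nd (.nd (.lf 0xfdd1676) (.lf 0xfd8ad13)) (.nd (.lf 0xf33ad01) (.lf 0x5280db2))) (.nd (.nd (.lf 0x6713165) (.lf 0x3c20bfe)) (.nd (.lf 0x963aee1) (.lf 0x4eb229b)))) (.nd (.nd (.nd (.lf 0x2061ef8) (.lf 0x9decc1e)) (.nd (.lf 0x15e39a3) (.lf 0x8522ebd))) (.nd (.nd (.lf 0xa0fd4f7) (.lf 0xb7cecfd)) (.nd (.lf 0xe2975f2) (.lf 0)))))))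
def ptT_naaaaba : Tr := (.nd (.nd (.nd (.nd (.nd (.nd (.lf 0x90d61ff) (.lf 0xa90f2a)) (.nd (.lf 0x384f2e3) (.lf 0x543acb5))) (.nd (.nd (.lf 0x32c3e7c) (.lf 0xe3e811b)) (.nd (.lf 0x1868fbb) (.lf 0x9b2da7a)))) (.nd (.nd (.nd (.lf 0x624aac1) (.lf 0x7e2d3d3)) (.nd (.lf 0x34a06d2) (.lf 0xb51ffef))) (.nd (.nd (.lf 0xb85f18f) (.lf 0xbb0d1c0)) (.nd (.lf 0xeee9371) (.lf 0x8f9a030))))) (.nd (.nd (.nd (.nd (.lf 0x5560929) (.lf 0x3778293)) (.nd (.lf 0x7bc2ea2) (.lf 0xd9cc728))) (.nd (.nd (.lf 0xddd680d) (.lf 0x62ebf4c)) (.nd (.lf 0xdd91bf) (.lf 0xc4fcdf2)))) (.nd (.nd (.nd (.lf 0xd90b424) (.lf 0x6bf8297)) (.nd (.lf 0x66a9c1) (.lf 0xd83bec9))) (.nd (.nd (.lf 0xc2da1cd) (.lf 0x43cf837)) (.nd (.lf 0x9dcde05) (.lf 0xded0a62)))))) (.nd (.nd (.nd (.nd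 (.nd (.lf 0x6f764f2) (.lf 0xea22e31)) (.nd (.lf 0x80d723d) (.lf 0x920cad7))) (.nd (.nd (.lf 0x98b97bb) (.lf 0x25e843)) (.nd (.lf 0x99b5fae) (.lf 0xbeb4bd)))) (.nd (.nd (.nd (.lf 0x66c9ff2) (.lf 0xb7563a3)) (.nd (.lf 0xdfd9fc4) (.lf 0xb1c4708))) (.nd (.nd (.lf 0xa843ba0) (.lf 0xf8fa5d3)) (.nd (.lf 0x28cc46b) (.lf 0x71feb5a))))) (.nd (.nd (.nd (.nd (.lf 0xffab29b) (.lf 0x999475d)) (.nd (.lf 0xf050805) (.lf 0x25a547c))) (.nd (.nd (.lf 0xa42913d) (.lf 0x414da5c)) (.nd (.lf 0x7ceac45) (.lf 0x48f03da)))) (.nd (.nd (.nd (.lf 0x7c14f4a) (.lf 0x555adec)) (.nd (.lf 0x7234100) (.lf 0x47110fa))) (.nd (.nd (.lf 0x33d6f1a) (.lf 0xacaf336)) (.nd (.lf 0x6d8d6c2) (.lf 0xae18edc)))))))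
def ptT_naaaabb : Tr := (.nd (.nd (.nd (.nd (.nd (.nd (.lf 0xdd1a6c5) (.lf 0x15a990d)) (.nd (.lf 0x21cb743) (.lf 0x1c38b50))) (.nd (.nd (.lf 0x103ae35) (.lf 0x3d4099f)) (.nd (.lf 0x4513568) (.lf 0x464b488)))) (.nd (.nd (.nd (.lf 0x7a810f7) (.lf 0xd02e7a)) (.nd (.lf 0xb149af8) (.lf 0xb778ad))) (.nd (.nd (.lf 0xb89b072) (.lf 0x6751302)) (.nd (.lf 0x2cf64f0) (.lf 0x9352386))))) (.nd (.nd (.nd (.nd (.lf 0x2f6f4b0) (.lf 0xc8aca20)) (.nd (.lf 0x5ea9027) (.lf 0x7441cab))) (.nd (.nd (.lf 0xf889010) (.lf 0xfc50400)) (.nd (.lf 0x1584edf) (.lf 0xabd8505)))) (.nd (.nd (.nd (.lf 0x581b4cc) (.lf 0xd2268c1)) (.nd (.lf 0xfba55f6) (.lf 0xd20ce8e))) (.nd (.nd (.lf 0x29c8d4) (.lf 0x1c7d5ca)) (.nd (.lf 0x1de8099) (.lf 0xbb31da9)))))) (.nd (.nd (.nd (.nd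 (.nd (.lf 0x6d8d5c2) (.lf 0x9139d2)) (.nd (.lf 0xd28a9e) (.lf 0xc752487))) (.nd (.nd (.lf 0x20c33a9) (.lf 0x8284ba3)) (.nd (.lf 0x3c8b019) (.lf 0xa5d3189)))) (.nd (.nd (.nd (.lf 0x76ebfea) (.lf 0x3e99d14)) (.nd (.lf 0xefcdc4c) (.lf 0x21525f2))) (.nd (.nd (.lf 0x8cd5703) (.lf 0xbdc172e)) (.nd (.lf 0x9a94017) (.lf 0xf6188c6))))) (.nd (.nd (.nd (.nd (.lf 0xcf3c684) (.lf 0x85f4547)) (.nd (.lf 0x980504f) (.lf 0xdac7cfa))) (.nd (.nd (.lf 0x80a7573) (.lf 0xb76d709)) (.nd (.lf 0xe70fe30) (.lf 0x2812a46)))) (.nd (.nd (.nd (.lf 0x2cee62) (.lf 0x98a4bde)) (.nd (.lf 0xc6e3038) (.lf 0xf06a9b1))) (.nd (.nd (.lf 0xa057805) (.lf 0xfacc725)) (.nd (.lf 0xbb637b5) (.lf 0)))))))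
def ptT_naaabaa : Tr := (.nd (.nd (.nd (.nd (.nd (.nd (.lf 0x13c28aa) (.lf 0xff87b3)) (.nd (.lf 0x4e531a) (.lf 0x2d1bb21))) (.nd (.nd (.lf 0x7a126f3) (.lf 0x3a96d3d)) (.nd (.lf 0x8edb0bb) (.lf 0x22d905f)))) (.nd (.nd (.nd (.lf 0x149da75) (.lf 0x7d32edc)) (.nd (.lf 0x438f877) (.lf 0xfe2d51d))) (.nd (.nd (.lf 0x68816fc) (.lf 0xe8fbc63)) (.nd (.lf 0x6fd9379) (.lf 0xcf56564))))) (.nd (.nd (.nd (.nd (.lf 0x8fb84f1) (.lf 0x3cdce00)) (.nd (.lf 0xa8185ca) (.lf 0x5e9a5da))) (.nd (.nd (.lf 0xfc49ed3) (.lf 0xb19930f)) (.nd (.lf 0x80ef2bd) (.lf 0x53eaa05)))) (.nd (.nd (.nd (.lf 0xed43867) (.lf 0xa507911)) (.nd (.lf 0x609d01a) (.lf 0x7c0d3d3))) (.nd (.nd (.lf 0xd50d6dd) (.lf 0x422fce4)) (.nd (.lf 0xdeef642) (.lf 0x4d8810d)))))) (.nd (.nd (.nd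 (.nd (.nd (.lf 0xdba4682) (.lf 0x383f094)) (.nd (.lf 0x155e569) (.lf 0x7b81fdb))) (.nd (.nd (.lf 0x4a4ec19) (.lf 0x7319ef9)) (.nd (.lf 0x7a39f17) (.lf 0xec20bf0)))) (.nd (.nd (.nd (.lf 0xcab9a09) (.lf 0x47135e8)) (.nd (.lf 0xfeb9a62) (.lf 0x7d5addf))) (.nd (.nd (.lf 0xf748107) (.lf 0x891f0e5)) (.nd (.lf 0x834d574) (.lf 0x8362fdf))))) (.nd (.nd (.nd (.nd (.lf 0xd69a06b) (.lf 0x43f62f4)) (.nd (.lf 0x2e458f2) (.lf 0x41644cb))) (.nd (.nd (.lf 0x3f9d816) (.lf 0xeec9dcf)) (.nd (.lf 0x7b2a95a) (.lf 0x9c82700)))) (.nd (.nd (.nd (.lf 0x750eed5) (.lf 0x19d6542)) (.nd (.lf 0xa90ec09) (.lf 0xb2ffbe3))) (.nd (.nd (.lf 0xa7a546a) (.lf 0x8957a76)) (.nd (.lf 0x4c0ccfb) (.lf 0xc68f9ef)))))))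
def ptT_naaabab : Tr := (.nd (.nd (.nd (.nd (.nd (.nd (.lf 0x48aef98) (.lf 0x33e9b68)) (.nd (.lf 0x8877297) (.lf 0xaa59f0))) (.nd (.nd (.lf 0xcefea4d) (.lf 0xafde537)) (.nd (.lf 0xbe52426) (.lf 0xfe210e9)))) (.nd (.nd (.nd (.lf 0xd3e2905) (.lf 0x4ec9a36)) (.nd (.lf 0xfdefc3d) (.lf 0x6b6ff9c))) (.nd (.nd (.lf 0x3556a71) (.lf 0xf5d37c6)) (.nd (.lf 0x3e7a258) (.lf 0x5b1f4be))))) (.nd (.nd (.nd (.nd (.lf 0x7bb0d0f) (.lf 0x789491e)) (.nd (.lf 0xe5e753d) (.lf 0x389327a))) (.nd (.nd (.lf 0xe1edae) (.lf 0xf4b8e34)) (.nd (.lf 0x57b116) (.lf 0xfe38280)))) (.nd (.nd (.nd (.lf 0xfd858d5) (.lf 0xed7d413)) (.nd (.lf 0xb3ecb26) (.lf 0x9814081))) (.nd (.nd (.lf 0xa3bb749) (.lf 0xfcdb89)) (.nd (.lf 0x1a639d7) (.lf 0xc12a677)))))) (.nd (.nd (.nd (.nd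 (.nd (.lf 0xbefb87e) (.lf 0xc8f22d2)) (.nd (.lf 0x9adf946) (.lf 0xc37402e))) (.nd (.nd (.lf 0x1956f14) (.lf 0x29a987a)) (.nd (.lf 0x6b95b5a) (.lf 0x61fa604)))) (.nd (.nd (.nd (.lf 0x75730aa) (.lf 0xcd667e5)) (.nd (.lf 0x8d25924) (.lf 0x208fe6b))) (.nd (.nd (.lf 0x6add992) (.lf 0xf7daca3)) (.nd (.lf 0x216baa8) (.lf 0x4ed3d7c))))) (.nd (.nd (.nd (.nd (.lf 0x6e98c29) (.lf 0x5369f43)) (.nd (.lf 0xb31dfa0) (.lf 0x261afc))) (.nd (.nd (.lf 0x14ae4ea) (.lf 0xe09fda0)) (.nd (.lf 0x70e8a7) (.lf 0x197e416)))) (.nd (.nd (.nd (.lf 0xfc69ec3) (.lf 0x95a9d0d)) (.nd (.lf 0xfb215ca) (.lf 0x6eaf883))) (.nd (.nd (.lf 0x1a51e5b) (.lf 0x778be8d)) (.nd (.lf 0x4f49802) (.lf 0)))))))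
def ptT_naaabba : Tr := (.nd (.nd (.nd (.nd (.nd (.nd (.lf 0x868a9b7) (.lf 0x6409)) (.nd (.lf 0xb609130) (.lf 0x5fd8d05))) (.nd (.nd (.lf 0xd5c3b9b) (.lf 0x255a5f2)) (.nd (.lf 0xbe460d2) (.lf 0x3d676f2)))) (.nd (.nd (.nd (.lf 0x5072e13) (.lf 0xa28d064)) (.nd (.lf 0x42a7523) (.lf 0xf0c10))) (.nd (.nd (.lf 0x1782e69) (.lf 0x7e4ea40)) (.nd (.lf 0xbc41f64) (.lf 0x58f76d))))) (.nd (.nd (.nd (.nd (.lf 0x101b2be) (.lf 0xa4223df)) (.nd (.lf 0x60d3639) (.lf 0x5120a3f))) (.nd (.nd (.lf 0xa109e9f) (.lf 0x270db89)) (.nd (.lf 0x5b7ab5d) (.lf 0xc17c22)))) (.nd (.nd (.nd (.lf 0x4c9e3f9) (.lf 0x5d8b6c3)) (.nd (.lf 0xb4e4a33) (.lf 0x8c3258b))) (.nd (.nd (.lf 0x3e0feb5) (.lf 0x14971bb)) (.nd (.lf 0xb0f0a82) (.lf 0xcb76a98)))))) (.nd (.nd (.nd (.nd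 (.nd (.lf 0x154144c) (.lf 0x36e3d5c)) (.nd (.lf 0x62de3d0) (.lf 0x192485b))) (.nd (.nd (.lf 0xbaff2fc) (.lf 0xd691414)) (.nd (.lf 0x600c615) (.lf 0xe8fa4e6)))) (.nd (.nd (.nd (.lf 0x477d3a5) (.lf 0xe2b1326)) (.nd (.lf 0xd9e292f) (.lf 0xcc1e091))) (.nd (.nd (.lf 0xaceafaf) (.lf 0x74dc154)) (.nd (.lf 0x69c0e59) (.lf 0xdc62f55))))) (.nd (.nd (.nd (.nd (.lf 0x8375443) (.lf 0xe8a1e47)) (.nd (.lf 0xe283ca7) (.lf 0x86137ce))) (.nd (.nd (.lf 0x9caa68) (.lf 0x24d1049)) (.nd (.lf 0xe27c040) (.lf 0x3c8efed)))) (.nd (.nd (.nd (.lf 0x99f3a67) (.lf 0x8ea4924)) (.nd (.lf 0xbbabca3) (.lf 0x297e1a9))) (.nd (.nd (.lf 0xe915cf9) (.lf 0xcc97b6)) (.nd (.lf 0x50f8750) (.lf 0xbcf4a9f)))))))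
def ptT_naaabbb : Tr := (.nd (.nd (.nd (.nd (.nd (.nd (.lf 0xb212d2d) (.lf 0x50655ae)) (.nd (.lf 0x9aa33fb) (.lf 0x878e8a7))) (.nd (.nd (.lf 0xe6664e3) (.lf 0x7b646e7)) (.nd (.lf 0xa393443) (.lf 0x1d812fa)))) (.nd (.nd (.nd (.lf 0xa94044b) (.lf 0xeed5a88)) (.nd (.lf 0x1c42dc9) (.lf 0xe4f1f63))) (.nd (.nd (.lf 0xf943aa5) (.lf 0xeb47de3)) (.nd (.lf 0xbbf7afd) (.lf 0x1c8eaab))))) (.nd (.nd (.nd (.nd (.lf 0xd2da294) (.lf 0xfc80467)) (.nd (.lf 0x14ba473) (.lf 0xf4333e1))) (.nd (.nd (.lf 0x8e6a1e9) (.lf 0x2c628f6)) (.nd (.lf 0x96c66b1) (.lf 0x32142b8)))) (.nd (.nd (.nd (.lf 0x9d4041e) (.lf 0xf3f0c41)) (.nd (.lf 0x45d43a8) (.lf 0x9bf3c63))) (.nd (.nd (.lf 0x3699291) (.lf 0x4e033a6)) (.nd (.lf 0x150cd67) (.lf 0xc73f564)))))) (.nd (.nd (.nd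 (.nd (.nd (.lf 0x370886e) (.lf 0xe89530a)) (.nd (.lf 0x31e1e48) (.lf 0x41f0bb4))) (.nd (.nd (.lf 0xd7b7400) (.lf 0x73b337a)) (.nd (.lf 0xfabd21f) (.lf 0x68d3629)))) (.nd (.nd (.nd (.lf 0x80df68) (.lf 0xc22ccd5)) (.nd (.lf 0xca6ea6) (.lf 0x98d0010))) (.nd (.nd (.lf 0xcef6f82) (.lf 0x98085e)) (.nd (.lf 0x6e5adda) (.lf 0xc5fb314))))) (.nd (.nd (.nd (.nd (.lf 0xd0455a4) (.lf 0xb846416)) (.nd (.lf 0x19bae55) (.lf 0x710bbb9))) (.nd (.nd (.lf 0x8535f70) (.lf 0xdd57897)) (.nd (.lf 0x5f79c89) (.lf 0x8bad22f)))) (.nd (.nd (.nd (.lf 0x4cee490) (.lf 0x4d90fdd)) (.nd (.lf 0x438f098) (.lf 0x46ac1b8))) (.nd (.nd (.lf 0xfba4c2e) (.lf 0xa88e8c6)) (.nd (.lf 0x80) (.lf 0)))))))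
def ptT_naabaaa : Tr := (.nd (.nd (.nd (.nd (.nd (.nd (.lf 0x2be2dfc) (.lf 0x740c133)) (.nd (.lf 0x20) (.lf 0x4c3afbc))) (.nd (.nd (.lf 0xedbeb3e) (.lf 0xdbb05ca)) (.nd (.lf 0x1ad37a2) (.lf 0x48aeb99)))) (.nd (.nd (.nd (.lf 0x3c9b8a4) (.lf 0x186cf9b)) (.nd (.lf 0xda6cdd) (.lf 0x2888292))) (.nd (.nd (.lf 0x64f52a6) (.lf 0x48aed9a)) (.nd (.lf 0x8e1a344) (.lf 0x1e4d4b7))))) (.nd (.nd (.nd (.nd (.lf 0xf7ff76) (.lf 0x8f605b9)) (.nd (.lf 0xa7e8961) (.lf 0x25b16f7))) (.nd (.nd (.lf 0xe3bf8a6) (.lf 0x520c5e4)) (.nd (.lf 0x61f0f71) (.lf 0xa74578b)))) (.nd (.nd (.nd (.lf 0xd8a2205) (.lf 0x4fcc9d6)) (.nd (.lf 0x713325a) (.lf 0x40b6084))) (.nd (.nd (.lf 0x1a389f0) (.lf 0x447a585)) (.nd (.lf 0x5d6dcb8) (.lf 0x4773fb9)))))) (.nd (.nd (.nd (.nd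 (.nd (.lf 0xd194236) (.lf 0xc90063f)) (.nd (.lf 0xdac0c54) (.lf 0x17d44d8))) (.nd (.nd (.lf 0x873064b) (.lf 0x4c21a39)) (.nd (.lf 0x92d3439) (.lf 0x9891724)))) (.nd (.nd (.nd (.lf 0x3dc903b) (.lf 0xd80fca7)) (.nd (.lf 0xed58609) (.lf 0x52cccc1))) (.nd (.nd (.lf 0x5e00d0e) (.lf 0x8fa8d4f)) (.nd (.lf 0x7072541) (.lf 0x9739bec))))) (.nd (.nd (.nd (.nd (.lf 0x12edea1) (.lf 0x390f506)) (.nd (.lf 0xd158c4e) (.lf 0xd698502))) (.nd (.nd (.lf 0x35cffa8) (.lf 0x9bd44d0)) (.nd (.lf 0x5e2d1c) (.lf 0x5aad2b0)))) (.nd (.nd (.nd (.lf 0xd41b22a) (.lf 0x2afa3f3)) (.nd (.lf 0x58f1119) (.lf 0x8a2c794))) (.nd (.nd (.lf 0x4df3cc9) (.lf 0xc8b883a)) (.nd (.lf 0x70cf6a2) (.lf 0xb0a1e52)))))))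
def ptT_naabaab : Tr := (.nd (.nd (.nd (.nd (.nd (.nd (.lf 0xce13749) (.lf 0xcaac47a)) (.nd (.lf 0x77e8008) (.lf 0x4d107c1))) (.nd (.nd (.lf 0x18887f6) (.lf 0x83ad20f)) (.nd (.lf 0x13e75fa) (.lf 0x234021c)))) (.nd (.nd (.nd (.lf 0xd8be02b) (.lf 0x818944)) (.nd (.lf 0xe3da5c6) (.lf 0x303a5ff))) (.nd (.nd (.lf 0xf962550) (.lf 0x5062a1a)) (.nd (.lf 0xf58327b) (.lf 0x46bc853))))) (.nd (.nd (.nd (.nd (.lf 0x7d5558a) (.lf 0xae99f4a)) (.nd (.lf 0x6d39cc7) (.lf 0x7efd6b4))) (.nd (.nd (.lf 0x364d8e8) (.lf 0xc217481)) (.nd (.lf 0x7af3cfd) (.lf 0x27e45a8)))) (.nd (.nd (.nd (.lf 0x9207b23) (.lf 0x4000)) (.nd (.lf 0xf894227) (.lf 0x75dcb0c))) (.nd (.nd (.lf 0xce5d166) (.lf 0x8cb6124)) (.nd (.lf 0xd07f229) (.lf 0x26920ed)))))) (.nd (.nd (.nd (.nd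 (.nd (.lf 0x945256a) (.lf 0x9c85ef2)) (.nd (.lf 0x6af4340) (.lf 0x8a8561b))) (.nd (.nd (.lf 0x73099ac) (.lf 0x66f0dbe)) (.nd (.lf 0x5a0ee56) (.lf 0x6044274)))) (.nd (.nd (.nd (.lf 0x30503bb) (.lf 0x359e8a2)) (.nd (.lf 0xfa19384) (.lf 0xacf7f9d))) (.nd (.nd (.lf 0x8342377) (.lf 0x4744b13)) (.nd (.lf 0xb340647) (.lf 0x122f92f))))) (.nd (.nd (.nd (.nd (.lf 0xff6b092) (.lf 0x224f746)) (.nd (.lf 0x67ba6b0) (.lf 0xdc6098b))) (.nd (.nd (.lf 0xd767ef0) (.lf 0x37d2b2e)) (.nd (.lf 0x5b1cf95) (.lf 0x253deee)))) (.nd (.nd (.nd (.lf 0x9ab8ec9) (.lf 0xad89bbe)) (.nd (.lf 0xe838951) (.lf 0x9c4568c))) (.nd (.nd (.lf 0xfac7b68) (.lf 0xc51ca21)) (.nd (.lf 0xa3ef132) (.lf 0)))))))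
def ptT_naababa : Tr := (.nd (.nd (.nd (.nd (.nd (.nd (.lf 0xff6d493) (.lf 0xea345ed)) (.nd (.lf 0x6333554) (.lf 0xf1608b7))) (.nd (.nd (.lf 0xc16a9f2) (.lf 0x78d7867)) (.nd (.lf 0x1f4d1cf) (.lf 0xc542583)))) (.nd (.nd (.nd (.lf 0x3de7447) (.lf 0x1ca6e26)) (.nd (.lf 0xcaea5d7) (.lf 0xf85bd4c))) (.nd (.nd (.lf 0x47599f6) (.lf 0x3038f60)) (.nd (.lf 0x8c0d470) (.lf 0x3b53a0d))))) (.nd (.nd (.nd (.nd (.lf 0x141efda) (.lf 0x8e1c800)) (.nd (.lf 0x323388e) (.lf 0x1a239b2))) (.nd (.nd (.lf 0xd622a5f) (.lf 0x8877a76)) (.nd (.lf 0x5e4f5aa) (.lf 0x5f17c1e)))) (.nd (.nd (.nd (.lf 0x686f3e2) (.lf 0x5945c7c)) (.nd (.lf 0xa897217) (.lf 0x409d012))) (.nd (.nd (.lf 0x79f501c) (.lf 0x5fb576e)) (.nd (.lf 0x58bf336) (.lf 0x1e3b07a)))))) (.nd (.nd (.nd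 (.nd (.nd (.lf 0xe0511c6) (.lf 0xd1ab90f)) (.nd (.lf 0xfdd2a3) (.lf 0x6df9b84))) (.nd (.nd (.lf 0x7b3902a) (.lf 0x423c594)) (.nd (.lf 0x693d6dd) (.lf 0xa802307)))) (.nd (.nd (.nd (.lf 0x3d31249) (.lf 0x2e93561)) (.nd (.lf 0x9260817) (.lf 0x9d590cb))) (.nd (.nd (.lf 0x2e2c9e9) (.lf 0xa37ba08)) (.nd (.lf 0xb1484f4) (.lf 0xa7bdf35))))) (.nd (.nd (.nd (.nd (.lf 0x75c9fde) (.lf 0x1b459c3)) (.nd (.lf 0x82890bb) (.lf 0x3a830c6))) (.nd (.nd (.lf 0x61abb05) (.lf 0x1ce216d)) (.nd (.lf 0xdd606a7) (.lf 0xb9b0e7a)))) (.nd (.nd (.nd (.lf 0x2dae629) (.lf 0x623c3b0)) (.nd (.lf 0x1d9011b) (.lf 0x2a422d7))) (.nd (.nd (.lf 0xda0f40c) (.lf 0x6c20d1d)) (.nd (.lf 0xb2937c1) (.lf 0x2a537d1)))))))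
def ptT_naababb : Tr := (.nd (.nd (.nd (.nd (.nd (.nd (.lf 0x64499e8) (.lf 0xe3d7029)) (.nd (.lf 0x41308f8) (.lf 0xaf31b60))) (.nd (.nd (.lf 0xbfdd838) (.lf 0x2f490b3)) (.nd (.lf 0xbeb7944) (.lf 0xf36d89a)))) (.nd (.nd (.nd (.lf 0x33afe6d) (.lf 0x10498a4)) (.nd (.lf 0x5152ce2) (.lf 0xb6a990d))) (.nd (.nd (.lf 0x62efb6d) (.lf 0xcc1a6c5)) (.nd (.lf 0x4dc0fdd) (.lf 0x45694a7))))) (.nd (.nd (.nd (.nd (.lf 0xeb6d61b) (.lf 0x800)) (.nd (.lf 0xb361457) (.lf 0xc90bfbd))) (.nd (.nd (.lf 0xce8282) (.lf 0x75d779)) (.nd (.lf 0xa2a38b4) (.lf 0xfbd051b)))) (.nd (.nd (.nd (.lf 0xb41c8c1) (.lf 0xcd8ddf3)) (.nd (.lf 0x23af328) (.lf 0x400926b))) (.nd (.nd (.lf 0xcbd110b) (.lf 0xcc9d364)) (.nd (.lf 0x25fafbe) (.lf 0x256c4ce)))))) (.nd (.nd (.nd (.nd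 (.nd (.lf 0xc26924f) (.lf 0xa35f82f)) (.nd (.lf 0x4c743fa) (.lf 0xcbbba09))) (.nd (.nd (.lf 0xc49aa16) (.lf 0xe537222)) (.nd (.lf 0x357da25) (.lf 0x81d0bc9)))) (.nd (.nd (.nd (.lf 0x432ae18) (.lf 0xde476aa)) (.nd (.lf 0x88c86c1) (.lf 0x5e0a71d))) (.nd (.nd (.lf 0x14aed2b) (.lf 0xe24ccf5)) (.nd (.lf 0x753a638) (.lf 0x5fa5e21))))) (.nd (.nd (.nd (.nd (.lf 0x1e2c5ab) (.lf 0xff0b11c)) (.nd (.lf 0x5077b86) (.lf 0xa2eb227))) (.nd (.nd (.lf 0x95962d5) (.lf 0x8cda7e0)) (.nd (.lf 0x1b6fb08) (.lf 0x3905e08)))) (.nd (.nd (.nd (.lf 0xcadd560) (.lf 0xe38b1ff)) (.nd (.lf 0xda273c2) (.lf 0xcac19e0))) (.nd (.nd (.lf 0x54940c9) (.lf 0x21a4cfb)) (.nd (.lf 0x2cf6f9d) (.lf 0)))))))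
def ptT_naabbaa : Tr := (.nd (.nd (.nd (.nd (.nd (.nd (.lf 0xe74feba) (.lf 0x2d62368)) (.nd (.lf 0x8e113b6) (.lf 0x3ce0379))) (.nd (.nd (.lf 0xe49ebd4) (.lf 0x36ddd7e)) (.nd (.lf 0xde3a31f) (.lf 0x1df9874)))) (.nd (.nd (.nd (.lf 0x9feb1cf) (.lf 0xd1741eb)) (.nd (.lf 0x894332e) (.lf 0x35ca2a5))) (.nd (.nd (.lf 0xd49244f) (.lf 0xd6007ba)) (.nd (.lf 0x1c6cd2b) (.lf 0x6cc9d44))))) (.nd (.nd (.nd (.nd (.lf 0x6ce9947) (.lf 0x68aab46)) (.nd (.lf 0x32dd57e) (.lf 0x1b24601))) (.nd (.nd (.lf 0x1b24ff) (.lf 0x18fc3e)) (.nd (.lf 0x8fa5776) (.lf 0xf9f1980)))) (.nd (.nd (.nd (.lf 0x91c8ff1) (.lf 0xd58e81a)) (.nd (.lf 0xa293b09) (.lf 0xd6e22fb))) (.nd (.nd (.lf 0xa982087) (.lf 0x99d23f7)) (.nd (.lf 0x9d731a1) (.lf 0xc1f1680)))))) (.nd (.nd (.nd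 (.nd (.nd (.lf 0xe006122) (.lf 0x3e99679)) (.nd (.lf 0x87d4ab7) (.lf 0xcf1fdcb))) (.nd (.nd (.lf 0x194da89) (.lf 0x4c6b46c)) (.nd (.lf 0xc0e6020) (.lf 0x64780d3)))) (.nd (.nd (.nd (.lf 0x6a7f447) (.lf 0x2d1bb2b)) (.nd (.lf 0xf52bdfd) (.lf 0x78dc895))) (.nd (.nd (.lf 0xac85e9d) (.lf 0x4579bd)) (.nd (.lf 0x9e595b0) (.lf 0x523f096))))) (.nd (.nd (.nd (.nd (.lf 0xcc48611) (.lf 0x33d7c95)) (.nd (.lf 0x9401177) (.lf 0xf8833b3))) (.nd (.nd (.lf 0x5b17333) (.lf 0xfae9f14)) (.nd (.lf 0x37648f) (.lf 0xb14793e)))) (.nd (.nd (.nd (.lf 0x181000) (.lf 0x2c2638d)) (.nd (.lf 0xd85dfc9) (.lf 0x758df8d))) (.nd (.nd (.lf 0xad511a8) (.lf 0x194f62b)) (.nd (.lf 0x71884a5) (.lf 0xc57565e)))))))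
def ptT_naabbab : Tr := (.nd (.nd (.nd (.nd (.nd (.nd (.lf 0x4fa7128) (.lf 0xe289eeb)) (.nd (.lf 0x65287e7) (.lf 0xee6bce0))) (.nd (.nd (.lf 0x5c31939) (.lf 0x8e1e8b6)) (.nd (.lf 0xa7e9b38) (.lf 0xbf3ade5)))) (.nd (.nd (.nd (.lf 0x1683ea6) (.lf 0x8a55df1)) (.nd (.lf 0xfeffe4d) (.lf 0x2aed267))) (.nd (.nd (.lf 0xa1b1d58) (.lf 0xf58e879)) (.nd (.lf 0x440d50) (.lf 0x4805bd6))))) (.nd (.nd (.nd (.nd (.lf 0x32975fc) (.lf 0x6a2caf4)) (.nd (.lf 0x11ca5d3) (.lf 0xd217e61))) (.nd (.nd (.lf 0xc21abc1) (.lf 0xfc45267)) (.nd (.lf 0x5d22463) (.lf 0x76e6aa2)))) (.nd (.nd (.nd (.lf 0x3f07e19) (.lf 0xe7dcdb)) (.nd (.lf 0xce4f434) (.lf 0xdab066b))) (.nd (.nd (.lf 0x16da1b3) (.lf 0xebd9895)) (.nd (.lf 0xfee0896) (.lf 0x29b8a2)))))) (.nd (.nd (.nd (.nd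 (.nd (.lf 0x920cc8e) (.lf 0x4d434cd)) (.nd (.lf 0xb486030) (.lf 0x550a7cc))) (.nd (.nd (.lf 0xd4eb2a1) (.lf 0x45e60cc)) (.nd (.lf 0x39cbc60) (.lf 0xe2a38a4)))) (.nd (.nd (.nd (.lf 0x9fe021a) (.lf 0xaef7fdd)) (.nd (.lf 0xfcb1a39) (.lf 0x932c826))) (.nd (.nd (.lf 0xdf645bb) (.lf 0x86f75c5)) (.nd (.lf 0xd559629) (.lf 0xcddbdc7))))) (.nd (.nd (.nd (.nd (.lf 0x9dd023f) (.lf 0x7f9b493)) (.nd (.lf 0xc54ee1b) (.lf 0x319bf11))) (.nd (.nd (.lf 0x4e4814a) (.lf 0x3b80baf)) (.nd (.lf 0x3be34c9) (.lf 0x29c7e0f)))) (.nd (.nd (.nd (.lf 0xa57442c) (.lf 0x2b9da4c)) (.nd (.lf 0x7c92a33) (.lf 0x67ae4aa))) (.nd (.nd (.lf 0x87db68c) (.lf 0xd77c69)) (.nd (.lf 0x919b82a) (.lf 0)))))))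
def ptT_naabbba : Tr := (.nd (.nd (.nd (.nd (.nd (.nd (.lf 0xa6bde35) (.lf 0x793bc1a)) (.nd (.lf 0xc7619a9) (.lf 0x1140768))) (.nd (.nd (.lf 0x3c52cb1) (.lf 0x5a9cf21)) (.nd (.lf 0xefc62f8) (.lf 0x2713365)))) (.nd (.nd (.nd (.lf 0xc789bf2) (.lf 0x11f5374)) (.nd (.lf 0x3f24b11) (.lf 0xc542487))) (.nd (.nd (.lf 0x86cdbe7) (.lf 0xb9b99e3)) (.nd (.lf 0x251dce4) (.lf 0x63648d2))))) (.nd (.nd (.nd (.nd (.lf 0xcf3c6c0) (.lf 0xe41edde)) (.nd (.lf 0x990b464) (.lf 0xc585e9f))) (.nd (.nd (.lf 0x8b335a0) (.lf 0x5c3193f)) (.nd (.lf 0x94be671) (.lf 0xd596f4d)))) (.nd (.nd (.nd (.lf 0xaa65b36) (.lf 0xf194a49)) (.nd (.lf 0x3fd5838) (.lf 0x3211828))) (.nd (.nd (.lf 0x1380a1c) (.lf 0x3894a37)) (.nd (.lf 0xaa54c94) (.lf 0xbd2a053)))))) (.nd (.nd (.nd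 (.nd (.nd (.lf 0xe54d0aa) (.lf 0x1667cd6)) (.nd (.lf 0xef00250) (.lf 0x5dbf0b8))) (.nd (.nd (.lf 0x455bda9) (.lf 0x78c5b65)) (.nd (.lf 0xdd91221) (.lf 0xb95bea7)))) (.nd (.nd (.nd (.lf 0x853297a) (.lf 0x99eafba)) (.nd (.lf 0xaa36394) (.lf 0x2000000))) (.nd (.nd (.lf 0xf58cd4c) (.lf 0x491031b)) (.nd (.lf 0x95fb314) (.lf 0x3f95878))))) (.nd (.nd (.nd (.nd (.lf 0xbf31249) (.lf 0x20666b5)) (.nd (.lf 0x8ba8d0f) (.lf 0x743922d))) (.nd (.nd (.lf 0xc7e6883) (.lf 0xb0b7f06)) (.nd (.lf 0xdc95b6) (.lf 0xbb32fca)))) (.nd (.nd (.nd (.lf 0xebdfcbc) (.lf 0x88105a0)) (.nd (.lf 0x29a1878) (.lf 0xbdb84de))) (.nd (.nd (.lf 0xd9049ee) (.lf 0xf18e350)) (.nd (.lf 0x2d5bba1) (.lf 0)))))))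
def ptT_naabbbb : Tr := (.nd (.nd (.nd (.nd (.nd (.nd (.lf 0xe6a8d21) (.lf 0x197a496)) (.nd (.lf 0xcd2c529) (.lf 0x75b387d))) (.nd (.nd (.lf 0xb1df60a) (.lf 0x56d057b)) (.nd (.lf 0xf1f9724) (.lf 0x1c0fb7b)))) (.nd (.nd (.nd (.lf 0x4505e6b) (.lf 0xbb0e674)) (.nd (.lf 0x39fb937) (.lf 0x59e8805))) (.nd (.nd (.lf 0xbad134e) (.lf 0xf694465)) (.nd (.lf 0x100000) (.lf 0xbdba5de))))) (.nd (.nd (.nd (.nd (.lf 0x79ba62e) (.lf 0x67b6e06)) (.nd (.lf 0xcfec2b4) (.lf 0x899a5ad))) (.nd (.nd (.lf 0xcc2a81f) (.lf 0xb02a35)) (.nd (.lf 0x449b17b) (.lf 0x49853a7)))) (.nd (.nd (.nd (.lf 0x94232e) (.lf 0xd14ee1b)) (.nd (.lf 0x6f83479) (.lf 0xa7ddd43))) (.nd (.nd (.lf 0xce2c403) (.lf 0x6568210)) (.nd (.lf 0x200000) (.lf 0xf59acc0)))))) (.nd (.nd (.nd (.nd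 (.nd (.lf 0x848e228) (.lf 0xec6923d)) (.nd (.lf 0xdc4e2cc) (.lf 0xab0ff41))) (.nd (.nd (.lf 0xef423e1) (.lf 0x243e9a)) (.nd (.lf 0x5c868a4) (.lf 0x88781ee)))) (.nd (.nd (.nd (.lf 0x6495273) (.lf 0x5d3fd12)) (.nd (.lf 0x2b55dae) (.lf 0x630821e))) (.nd (.nd (.lf 0xf453835) (.lf 0xf3d5f83)) (.nd (.lf 0xbdcdbd1) (.lf 0x1555ddd))))) (.nd (.nd (.nd (.nd (.lf 0x5f24ffa) (.lf 0x6bd706d)) (.nd (.lf 0x4d2b057) (.lf 0x54122b3))) (.nd (.nd (.lf 0x323b84a) (.lf 0xe0183c6)) (.nd (.lf 0x2cf10d1) (.lf 0xbf7ab18)))) (.nd (.nd (.nd (.lf 0x2b78636) (.lf 0xe56b17d)) (.nd (.lf 0x4e3b227) (.lf 0x8782999))) (.nd (.nd (.lf 0x608a40a) (.lf 0x7a73cbd)) (.nd (.lf 0x6dd8c0c) (.lf 0)))))))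
def ptT_nabaaaa : Tr := (.nd (.nd (.nd (.nd (.nd (.nd (.lf 0xb3dc4be) (.lf 0x5a13bb0)) (.nd (.lf 0xf5450aa) (.lf 0x355d781))) (.nd (.nd (.lf 0xab1d2a6) (.lf 0x922058c)) (.nd (.lf 0x2c1943f) (.lf 0xed17222)))) (.nd (.nd (.nd (.lf 0x6031659) (.lf 0x98df373)) (.nd (.lf 0x1cdb472) (.lf 0x35c8b9e))) (.nd (.nd (.lf 0xde6de68) (.lf 0x8d60a4d)) (.nd (.lf 0x1f13ead) (.lf 0x3ab1c52))))) (.nd (.nd (.nd (.nd (.lf 0x47a2b12) (.lf 0x902e3cc)) (.nd (.lf 0xb632e44) (.lf 0x6dee62))) (.nd (.nd (.lf 0x9de8199) (.lf 0x9a74043)) (.nd (.lf 0xd02e2cc) (.lf 0x7eb6fe5)))) (.nd (.nd (.nd (.lf 0x809adb2) (.lf 0x85e417e)) (.nd (.lf 0x2f476aa) (.lf 0x4bc58b5))) (.nd (.nd (.lf 0xdb882c3) (.lf 0xe0417e6)) (.nd (.lf 0x6d26423) (.lf 0x5b6daf9)))))) (.nd (.nd (.nd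 (.nd (.nd (.lf 0xef92d1) (.lf 0xa031c91)) (.nd (.lf 0xe278614) (.lf 0xe0129c1))) (.nd (.nd (.lf 0x1786e5b) (.lf 0x1745143)) (.nd (.lf 0xc1bac4c) (.lf 0x7ed2dd)))) (.nd (.nd (.nd (.lf 0x78432f7) (.lf 0x3530e6b)) (.nd (.lf 0x2cac785) (.lf 0x193b496))) (.nd (.nd (.lf 0x17cb272) (.lf 0xd8cca96)) (.nd (.lf 0x5c60b3e) (.lf 0xd9baec1))))) (.nd (.nd (.nd (.nd (.lf 0xc759313) (.lf 0x6be5e73)) (.nd (.lf 0xdb3f82d) (.lf 0x33cdfe7))) (.nd (.nd (.lf 0xf474cc) (.lf 0xd730663)) (.nd (.lf 0x623841) (.lf 0xf17ae88)))) (.nd (.nd (.nd (.lf 0x3747286) (.lf 0x733e0f4)) (.nd (.lf 0xc9ff126) (.lf 0x869b156))) (.nd (.nd (.lf 0x785186d) (.lf 0x44fa7c3)) (.nd (.lf 0xd86c57) (.lf 0x6c3f2bd)))))))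
def ptT_nabaaab : Tr := (.nd (.nd (.nd (.nd (.nd (.nd (.lf 0xce691d0) (.lf 0x5ae2a6b)) (.nd (.lf 0x15cc308) (.lf 0x8544b32))) (.nd (.nd (.lf 0x939e281) (.lf 0x27cdb89)) (.nd (.lf 0x74bb444) (.lf 0x4)))) (.nd (.nd (.nd (.lf 0x54f9ab8) (.lf 0x2bd9831)) (.nd (.lf 0x5869bcf) (.lf 0xd970c89))) (.nd (.nd (.lf 0xa24b171) (.lf 0x22760cc)) (.nd (.lf 0x887db74) (.lf 0x260044f))))) (.nd (.nd (.nd (.nd (.lf 0x185d6a3) (.lf 0x3c23a08)) (.nd (.lf 0xd46e2cc) (.lf 0x7fd94f5))) (.nd (.nd (.lf 0xa9080e) (.lf 0xd179df7)) (.nd (.lf 0xfa97cbd) (.lf 0xe5095d2)))) (.nd (.nd (.nd (.lf 0xbd3bf32) (.lf 0x4d097d7)) (.nd (.lf 0x1b435d6) (.lf 0x918fb0b))) (.nd (.nd (.lf 0xd3e2885) (.lf 0x1786edf)) (.nd (.lf 0xe6960b3) (.lf 0xa3b15dc)))))) (.nd (.nd (.nd (.nd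 (.nd (.lf 0xf380fb3) (.lf 0xcaac48b)) (.nd (.lf 0x11fea1a) (.lf 0x41a215a))) (.nd (.nd (.lf 0x70b10bb) (.lf 0xf33f235)) (.nd (.lf 0xfc8ede0) (.lf 0xa01f093)))) (.nd (.nd (.nd (.lf 0xb9ee170) (.lf 0xbc18309)) (.nd (.lf 0x34ce6e0) (.lf 0x7905928))) (.nd (.nd (.lf 0x70eb397) (.lf 0xc5bd7be)) (.nd (.lf 0x9e8d9c9) (.lf 0xccef531))))) (.nd (.nd (.nd (.nd (.lf 0xc9ac47a) (.lf 0xb2f16bd)) (.nd (.lf 0x6248ece) (.lf 0x38ebed0))) (.nd (.nd (.lf 0x1528997) (.lf 0x53664e2)) (.nd (.lf 0xf429f2b) (.lf 0xf1e0aba)))) (.nd (.nd (.nd (.lf 0x3a2f731) (.lf 0x8792b1a)) (.nd (.lf 0xe91b12e) (.lf 0xeb07df1))) (.nd (.nd (.lf 0x6d1a903) (.lf 0x54de3d3)) (.nd (.lf 0x432180f) (.lf 0)))))))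
def ptT_nabaaba : Tr := (.nd (.nd (.nd (.nd (.nd (.nd (.lf 0x8b59b37) (.lf 0xf0a7255)) (.nd (.lf 0x243cd4d) (.lf 0xf6fe785))) (.nd (.nd (.lf 0xd3101ad) (.lf 0xfd7c21a)) (.nd (.lf 0x2ced81a) (.lf 0x44c648a)))) (.nd (.nd (.nd (.lf 0xe821d84) (.lf 0xe4b3ca1)) (.nd (.lf 0xf9740ef) (.lf 0x1a8c0f5))) (.nd (.nd (.lf 0xf5005e2) (.lf 0x2c2cc5b)) (.nd (.lf 0x6d41b4) (.lf 0x9de7c53))))) (.nd (.nd (.nd (.nd (.lf 0x6193451) (.lf 0x90978b7)) (.nd (.lf 0xe261913) (.lf 0x8cec443))) (.nd (.nd (.lf 0x3a3faf9) (.lf 0x74d3463)) (.nd (.lf 0x5ad4b7b) (.lf 0xfdb380c)))) (.nd (.nd (.nd (.lf 0x9fa9f8c) (.lf 0x7ea4440)) (.nd (.lf 0x7ee05fc) (.lf 0x92ceaa))) (.nd (.nd (.lf 0x1c46d49) (.lf 0x8d479ac)) (.nd (.lf 0xac6b4c9) (.lf 0x80de9e0)))))) (.nd (.nd (.nd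 (.nd (.nd (.lf 0x2a454dd) (.lf 0x3ff89b9)) (.nd (.lf 0xf22feb2) (.lf 0xd306a71))) (.nd (.nd (.lf 0x6e2f2d5) (.lf 0xc8b8378)) (.nd (.lf 0x43467ae) (.lf 0x3be7479)))) (.nd (.nd (.nd (.lf 0x1816c9f) (.lf 0x6be7a73)) (.nd (.lf 0x3b2188d) (.lf 0x77cc41e))) (.nd (.nd (.lf 0xd8ec39) (.lf 0x31cc297)) (.nd (.lf 0x4d9ae3) (.lf 0x79f9b84))))) (.nd (.nd (.nd (.nd (.lf 0x140e76d) (.lf 0xca1213d)) (.nd (.lf 0x3d079cb) (.lf 0x1f9c839))) (.nd (.nd (.lf 0xcaa7aad) (.lf 0x3ccc996)) (.nd (.lf 0x7622cf) (.lf 0x155e07e)))) (.nd (.nd (.nd (.lf 0x80ceeb5) (.lf 0xc91fa50)) (.nd (.lf 0x98a9ffb) (.lf 0x89cf59d))) (.nd (.nd (.lf 0x29ceb8d) (.lf 0x2cbf7d0)) (.nd (.lf 0x5dfa147) (.lf 0xefbcb8f)))))))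
def ptT_nabaabb : Tr := (.nd (.nd (.nd (.nd (.nd (.nd (.lf 0xccf0c0d) (.lf 0x4b2856a)) (.nd (.lf 0x567fd46) (.lf 0xab3601b))) (.nd (.nd (.lf 0x251a703) (.lf 0x72b5100)) (.nd (.lf 0x97021ac) (.lf 0x36bab1)))) (.nd (.nd (.nd (.lf 0x6fa7623) (.lf 0xf54da19)) (.nd (.lf 0xb29845b) (.lf 0x66de390))) (.nd (.nd (.lf 0x569a5fa) (.lf 0x3a9295a)) (.nd (.lf 0x64d52bc) (.lf 0xfbdfc3c))))) (.nd (.nd (.nd (.nd (.lf 0xafe3959) (.lf 0x4b1691e)) (.nd (.lf 0x2) (.lf 0x4123369))) (.nd (.nd (.lf 0xa407a7d) (.lf 0xa9178ed)) (.nd (.lf 0x7bcf737) (.lf 0xd0502f6)))) (.nd (.nd (.nd (.lf 0x14ab823) (.lf 0x6a6c80)) (.nd (.lf 0xe3b3d7e) (.lf 0x3fe2074))) (.nd (.nd (.lf 0x94e35d0) (.lf 0x3805e88)) (.nd (.lf 0x9f99b65) (.lf 0x1454e27)))))) (.nd (.nd (.nd (.nd (.nd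 (.lf 0x72e7b07) (.lf 0x9991524)) (.nd (.lf 0x354f6e8) (.lf 0x8aa23fb))) (.nd (.nd (.lf 0x6cd52ac) (.lf 0xc616743)) (.nd (.lf 0xf6a2a74) (.lf 0x50e0819)))) (.nd (.nd (.nd (.lf 0x5d4eab8) (.lf 0xd08cb3a)) (.nd (.lf 0xe3e9079) (.lf 0xb7173a3))) (.nd (.nd (.lf 0xafb3a5e) (.lf 0x37053fe)) (.nd (.lf 0xe9d39d8) (.lf 0x2b69029))))) (.nd (.nd (.nd (.nd (.lf 0xd719084) (.lf 0x64d6457)) (.nd (.lf 0x172430a) (.lf 0x851ddf7))) (.nd (.nd (.lf 0x44d49f9) (.lf 0x3db3b5)) (.nd (.lf 0x8adeea) (.lf 0x34b56f5)))) (.nd (.nd (.nd (.lf 0x510a66a) (.lf 0x3f55ff4)) (.nd (.lf 0xaa50c24) (.lf 0x19551))) (.nd (.nd (.lf 0x3b94ac6) (.lf 0xb0871d7)) (.nd (.lf 0x725a192) (.lf 0)))))))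
def ptT_nababaa : Tr := (.nd (.nd (.nd (.nd (.nd (.nd (.lf 0x4e0a719) (.lf 0x6c1275b)) (.nd (.lf 0x7f24bb3) (.lf 0x39a7f17))) (.nd (.nd (.lf 0xe277bde) (.lf 0x21ebd8e)) (.nd (.lf 0x2000) (.lf 0x5c0415d)))) (.nd (.nd (.nd (.lf 0xf19767e) (.lf 0x8ea2970)) (.nd (.lf 0x9b27df4) (.lf 0x4d4cd75))) (.nd (.nd (.lf 0x34e8304) (.lf 0x491b6d7)) (.nd (.lf 0x4f7980) (.lf 0x2e10ea6))))) (.nd (.nd (.nd (.nd (.lf 0xf7d27c7) (.lf 0xd50bc57)) (.nd (.lf 0x50dbcb3) (.lf 0xae8b6c7))) (.nd (.nd (.lf 0xe07d8c4) (.lf 0x48e9960)) (.nd (.lf 0x860b550) (.lf 0x5c9c4da)))) (.nd (.nd (.nd (.lf 0x16d22f3) (.lf 0x1538e01)) (.nd (.lf 0x37d434a) (.lf 0xe120004))) (.nd (.nd (.lf 0xe801c4e) (.lf 0xe2a5372)) (.nd (.lf 0xb94a646) (.lf 0xd8aca1)))))) (.nd (.nd (.nd (.nd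 (.nd (.lf 0x420bc6a) (.lf 0x28a5774)) (.nd (.lf 0x5f63b00) (.lf 0xc22b361))) (.nd (.nd (.lf 0x7283b87) (.lf 0x3a63052)) (.nd (.lf 0x4525fef) (.lf 0xc0e702e)))) (.nd (.nd (.nd (.lf 0xf2a9eb8) (.lf 0xe0db8cc)) (.nd (.lf 0xefbdd2e) (.lf 0x10053c7))) (.nd (.nd (.lf 0x483cbfb) (.lf 0xad7d234)) (.nd (.lf 0x7dd14a8) (.lf 0x61dbf25))))) (.nd (.nd (.nd (.nd (.lf 0x8f40104) (.lf 0x705ca00)) (.nd (.lf 0x32e7c27) (.lf 0x677f18))) (.nd (.nd (.lf 0xc0def74) (.lf 0x6ec9fe2)) (.nd (.lf 0xbaa31fb) (.lf 0x65fabe7)))) (.nd (.nd (.nd (.lf 0xab69438) (.lf 0x6e5f492)) (.nd (.lf 0xeee70ce) (.lf 0x43c7f4c))) (.nd (.nd (.lf 0xf34ea1f) (.lf 0x365df7e)) (.nd (.lf 0x2c4a733) (.lf 0x9cbd33f)))))))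
def ptT_nababab : Tr := (.nd (.nd (.nd (.nd (.nd (.nd (.lf 0x7cd416b) (.lf 0x10fbcc8)) (.nd (.lf 0xf005835) (.lf 0x77eb9b2))) (.nd (.nd (.lf 0x20ffc9) (.lf 0x33ed2bf)) (.nd (.lf 0x8f2a79a) (.lf 0x429a333)))) (.nd (.nd (.nd (.lf 0xb84261e) (.lf 0xfb35c9f)) (.nd (.lf 0x96e00d9) (.lf 0xad07cf8))) (.nd (.nd (.lf 0x81fd30a) (.lf 0x348e4a1)) (.nd (.lf 0xa53c28e) (.lf 0x35b3ec7))))) (.nd (.nd (.nd (.nd (.lf 0xc6fd8c6) (.lf 0x1e4c497)) (.nd (.lf 0x6c7dbd0) (.lf 0x4c1adaf))) (.nd (.nd (.lf 0x236b4e0) (.lf 0x52301df)) (.nd (.lf 0x4e7aa6d) (.lf 0x971b6be)))) (.nd (.nd (.nd (.lf 0xc529af7) (.lf 0x6267ca4)) (.nd (.lf 0xca16bff) (.lf 0x2b610a9))) (.nd (.nd (.lf 0x4fa6120) (.lf 0x5820602)) (.nd (.lf 0xa7da08d) (.lf 0x1adeeec)))))) (.nd (.nd (.nd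 (.nd (.nd (.lf 0x5b6c043) (.lf 0xeb1f6e8)) (.nd (.lf 0x5240574) (.lf 0x7fbca90))) (.nd (.nd (.lf 0xb893272) (.lf 0x2613d3f)) (.nd (.lf 0x7c24043) (.lf 0x6c5be7)))) (.nd (.nd (.nd (.lf 0xa040804) (.lf 0x91a8474)) (.nd (.lf 0x79996d8) (.lf 0xb5e3a8b))) (.nd (.nd (.lf 0x3a1af55) (.lf 0x24701c5)) (.nd (.lf 0x23e7132) (.lf 0x1de316d))))) (.nd (.nd (.nd (.nd (.lf 0x998b26e) (.lf 0x69991c7)) (.nd (.lf 0xa2d33a6) (.lf 0x178ee9f))) (.nd (.nd (.lf 0xba6b9c6) (.lf 0x7bf0dc6)) (.nd (.lf 0x5f63a10) (.lf 0x7d3fd7c)))) (.nd (.nd (.nd (.lf 0x71ddafb) (.lf 0x71a9864)) (.nd (.lf 0x4fee71a) (.lf 0x7a34446))) (.nd (.nd (.lf 0x98d55c1) (.lf 0x91876ca)) (.nd (.lf 0x318b2b1) (.lf 0)))))))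
def ptT_nababba : Tr := (.nd (.nd (.nd (.nd (.nd (.nd (.lf 0x3516af1) (.lf 0x71106aa)) (.nd (.lf 0xb1a15a3) (.lf 0x9716138))) (.nd (.nd (.lf 0x7e5d17e) (.lf 0x6b7987b)) (.nd (.lf 0xdcc4236) (.lf 0xdd9f4ac)))) (.nd (.nd (.nd (.lf 0xec5b585) (.lf 0x65b34d5)) (.nd (.lf 0xbfbdbd3) (.lf 0x4f82389))) (.nd (.nd (.lf 0x5dba52d) (.lf 0x469a281)) (.nd (.lf 0x192085a) (.lf 0x6792eb5))))) (.nd (.nd (.nd (.nd (.lf 0xd769754) (.lf 0x5c82cbe)) (.nd (.lf 0xfc164de) (.lf 0x2ac4e31))) (.nd (.nd (.lf 0x8ddc59a) (.lf 0xec02090)) (.nd (.lf 0x977064b) (.lf 0x961c90d)))) (.nd (.nd (.nd (.lf 0x5ec8f82) (.lf 0x5347bef)) (.nd (.lf 0x39f5219) (.lf 0x8edcf43))) (.nd (.nd (.lf 0x5688dc2) (.lf 0xea23e11)) (.nd (.lf 0xa8b1f1f) (.lf 0xebec843)))))) (.nd (.nd (.nd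 (.nd (.nd (.lf 0xfbdde69) (.lf 0x1371b32)) (.nd (.lf 0xdfe80bd) (.lf 0xd7d2e05))) (.nd (.nd (.lf 0x8cc9943) (.lf 0x5260a1a)) (.nd (.lf 0xef5a074) (.lf 0x4b1e79)))) (.nd (.nd (.nd (.lf 0xea47d8a) (.lf 0xb58fb2c)) (.nd (.lf 0x63a5f87) (.lf 0xba4c35c))) (.nd (.nd (.lf 0xbbb1751) (.lf 0x7854186)) (.nd (.lf 0x8c8f8ee) (.lf 0xa030f1e))))) (.nd (.nd (.nd (.nd (.lf 0xf904456) (.lf 0xf0cb83d)) (.nd (.lf 0xdb38799) (.lf 0x82b0ac))) (.nd (.nd (.lf 0x77b333a) (.lf 0x2f3cb2f)) (.nd (.lf 0x7128624) (.lf 0x3b39c3c)))) (.nd (.nd (.nd (.lf 0x32977fe) (.lf 0xa29b130)) (.nd (.lf 0xe89fcf4) (.lf 0xd7c28e8))) (.nd (.nd (.lf 0x120d7e3) (.lf 0x330e821)) (.nd (.lf 0xc2e64db) (.lf 0x7f2ba7e)))))))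
def ptT_nababbb : Tr := (.nd (.nd (.nd (.nd (.nd (.nd (.lf 0xef52e29) (.lf 0xbe28274)) (.nd (.lf 0x1667439) (.lf 0xe2648f))) (.nd (.nd (.lf 0xcd38936) (.lf 0x323c3b0)) (.nd (.lf 0x67b1886) (.lf 0xbd6ad9a)))) (.nd (.nd (.nd (.lf 0x23f6673) (.lf 0x3b80dd)) (.nd (.lf 0x100e58) (.lf 0xccfdd81))) (.nd (.nd (.lf 0x6207429) (.lf 0x3252125)) (.nd (.lf 0xade415d) (.lf 0x10))))) (.nd (.nd (.nd (.nd (.lf 0xcf32a0d) (.lf 0x9b92ffe)) (.nd (.lf 0x42f2377) (.lf 0xefb6188))) (.nd (.nd (.lf 0x6b39888) (.lf 0x474748a)) (.nd (.lf 0x8d4c19c) (.lf 0x6a0881)))) (.nd (.nd (.nd (.lf 0x95eb315) (.lf 0xdff525d)) (.nd (.lf 0x9f5ccfd) (.lf 0x6c75213))) (.nd (.nd (.lf 0x385f2e2) (.lf 0x165c048)) (.nd (.lf 0xce88564) (.lf 0x558c0bf)))))) (.nd (.nd (.nd (.nd (.nd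 (.lf 0xc6bf3e9) (.lf 0x4060dd7)) (.nd (.lf 0xed31958) (.lf 0xa03629))) (.nd (.nd (.lf 0xf656944) (.lf 0x41762c9)) (.nd (.lf 0xc19f47d) (.lf 0xa1b1ddc)))) (.nd (.nd (.nd (.lf 0x68c94e6) (.lf 0xe9eab2e)) (.nd (.lf 0x5ad0b79) (.lf 0xf46cffb))) (.nd (.nd (.lf 0xbaccabd) (.lf 0xdc5299a)) (.nd (.lf 0x8d1273b) (.lf 0x592b12b))))) (.nd (.nd (.nd (.nd (.lf 0x1e2af59) (.lf 0x3360e0d)) (.nd (.lf 0x3901e28) (.lf 0x4eacf79))) (.nd (.nd (.lf 0x7ed14ad) (.lf 0xd297426)) (.nd (.lf 0x68e6e4d) (.lf 0x30bfa99)))) (.nd (.nd (.nd (.lf 0x79b009c) (.lf 0xba9012)) (.nd (.lf 0x5ee7642) (.lf 0xc4d0cd1))) (.nd (.nd (.lf 0x72e3614) (.lf 0x772d64a)) (.nd (.lf 0x117f669) (.lf 0)))))))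
def ptT_nabbaaa : Tr := (.nd (.nd (.nd (.nd (.nd (.nd (.lf 0x29f95bc) (.lf 0x100)) (.nd (.lf 0x318fd58) (.lf 0x6e5e6f2))) (.nd (.nd (.lf 0xe75fbb8) (.lf 0xbb9c653)) (.nd (.lf 0xfaffecd) (.lf 0xde696ab)))) (.nd (.nd (.nd (.lf 0x8fd58eb) (.lf 0x7e971ae)) (.nd (.lf 0x62b82d0) (.lf 0x77ce017))) (.nd (.nd (.lf 0x5c0ed4b) (.lf 0x92b1f5d)) (.nd (.lf 0xbe3f30d) (.lf 0x6bd7029))))) (.nd (.nd (.nd (.nd (.lf 0x32d0326) (.lf 0x1342339)) (.nd (.lf 0x43a6fed) (.lf 0xc2bb555))) (.nd (.nd (.lf 0xe978d96) (.lf 0x8ea18e9)) (.nd (.lf 0x45e7796) (.lf 0xba81cb)))) (.nd (.nd (.nd (.lf 0xd114a70) (.lf 0xd80f566)) (.nd (.lf 0x840d1dd) (.lf 0xb493779))) (.nd (.nd (.lf 0x758250) (.lf 0x203fa99)) (.nd (.lf 0xbc3cd97) (.lf 0xc9ebac7)))))) (.nd (.nd (.nd (.nd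 (.nd (.lf 0x1771b7f) (.lf 0xd56bcac)) (.nd (.lf 0x5ab8113) (.lf 0x95baf70))) (.nd (.nd (.lf 0xafbfb4d) (.lf 0x52a9c9b)) (.nd (.lf 0x62d9c28) (.lf 0x4d196d7)))) (.nd (.nd (.nd (.lf 0x64d626) (.lf 0x3cdf8a4)) (.nd (.lf 0x23b667b) (.lf 0xb2ee74))) (.nd (.nd (.lf 0xd559f1) (.lf 0x17a2ed5)) (.nd (.lf 0x49ae9c0) (.lf 0x8b663f4))))) (.nd (.nd (.nd (.nd (.lf 0x94b888b) (.lf 0x71a383)) (.nd (.lf 0xbf731a1) (.lf 0x3e7f789))) (.nd (.nd (.lf 0x50a477) (.lf 0x25467b)) (.nd (.lf 0x3c8dee3) (.lf 0x4e1a03c)))) (.nd (.nd (.nd (.lf 0xe5d7988) (.lf 0x69b55dd)) (.nd (.lf 0x887ae3a) (.lf 0xc8b827c))) (.nd (.nd (.lf 0x263fb64) (.lf 0x98ebf4f)) (.nd (.lf 0x44eee74) (.lf 0x5b2b1a1)))))))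
def ptT_nabbaab : Tr := (.nd (.nd (.nd (.nd (.nd (.nd (.lf 0xb6e5342) (.lf 0x382c9ea)) (.nd (.lf 0x4292448) (.lf 0x605d8ce))) (.nd (.nd (.lf 0x9465686) (.lf 0x2708917)) (.nd (.lf 0xc7c60d) (.lf 0xa85f2f9)))) (.nd (.nd (.nd (.lf 0x85015b6) (.lf 0x9e16121)) (.nd (.lf 0x79b8342) (.lf 0x34e0306))) (.nd (.nd (.lf 0x5c8640d) (.lf 0x8b5ce3f)) (.nd (.lf 0xaeef23a) (.lf 0x2ce51b7))))) (.nd (.nd (.nd (.nd (.lf 0x7d873de) (.lf 0xdc10de0)) (.nd (.lf 0x8de441b) (.lf 0x17a811a))) (.nd (.nd (.lf 0x1b8e5fa) (.lf 0x668a4c9)) (.nd (.lf 0x2aa9ab1) (.lf 0xf3ed2d8)))) (.nd (.nd (.nd (.lf 0x77550a0) (.lf 0x7c0eb4c)) (.nd (.lf 0x90524cc) (.lf 0x6803122))) (.nd (.nd (.lf 0x2dd10d1) (.lf 0x2a7725d)) (.nd (.lf 0xb94ccb4) (.lf 0xabce54a)))))) (.nd (.nd (.nd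 (.nd (.nd (.lf 0xc93eed5) (.lf 0x2bce14a)) (.nd (.lf 0x2434958) (.lf 0x4c6ce8d))) (.nd (.nd (.lf 0x44c4df0) (.lf 0x213da2d)) (.nd (.lf 0xb65217d) (.lf 0xd92eed5)))) (.nd (.nd (.nd (.lf 0xd2c80e4) (.lf 0xeff9c92)) (.nd (.lf 0x42581c) (.lf 0x81af558))) (.nd (.nd (.lf 0xafb84f9) (.lf 0x11bc31e)) (.nd (.lf 0xb372d27) (.lf 0xb438d5e))))) (.nd (.nd (.nd (.nd (.lf 0x482f980) (.lf 0x9336b54)) (.nd (.lf 0x600b06) (.lf 0x23fc0c1))) (.nd (.nd (.lf 0xa7aca80) (.lf 0xc22114f)) (.nd (.lf 0xd3e6907) (.lf 0x40492a2)))) (.nd (.nd (.nd (.lf 0x768c487) (.lf 0xe95f092)) (.nd (.lf 0x5e06d0e) (.lf 0xe628ddd))) (.nd (.nd (.lf 0x2823a08) (.lf 0x23f8d5d)) (.nd (.lf 0x35e284a) (.lf 0)))))))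
def ptT_nabbaba : Tr := (.nd (.nd (.nd (.nd (.nd (.nd (.lf 0xeecddef) (.lf 0xb1ae330)) (.nd (.lf 0xa12524a) (.lf 0x3f1daa3))) (.nd (.nd (.lf 0x1cb420c) (.lf 0x7a53cf7)) (.nd (.lf 0x47c255c) (.lf 0x6ebd8a5)))) (.nd (.nd (.nd (.lf 0x392ac3c) (.lf 0x2dd5067)) (.nd (.lf 0x364d9bc) (.lf 0x5b07902))) (.nd (.nd (.lf 0x4524eb8) (.lf 0x277d5fc)) (.nd (.lf 0x558de8d) (.lf 0xa393553))))) (.nd (.nd (.nd (.nd (.lf 0x238aa12) (.lf 0x15bc312)) (.nd (.lf 0xd472135) (.lf 0xf2a8677))) (.nd (.nd (.lf 0x32dd57d) (.lf 0xd5b263)) (.nd (.lf 0x3304821) (.lf 0xcebd54e)))) (.nd (.nd (.nd (.lf 0x9fa4b2e) (.lf 0x44370c4)) (.nd (.lf 0x8b85853) (.lf 0xf25d067))) (.nd (.nd (.lf 0xfb67ffb) (.lf 0x2e1c7e7)) (.nd (.lf 0xd8bd1bf) (.lf 0x5d7cf9b)))))) (.nd (.nd (.nd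 (.nd (.nd (.lf 0xea2d173) (.lf 0x26ca742)) (.nd (.lf 0xe49dc60) (.lf 0xdb828c4))) (.nd (.nd (.lf 0x962db30) (.lf 0x599ae2e)) (.nd (.lf 0xb6c2ded) (.lf 0x968ddb2)))) (.nd (.nd (.nd (.lf 0x8f1a320) (.lf 0x590b1a1)) (.nd (.lf 0x1f1656) (.lf 0x21541eb))) (.nd (.nd (.lf 0x45b02be) (.lf 0x56338d3)) (.nd (.lf 0xe77943d) (.lf 0x6dca696))))) (.nd (.nd (.nd (.nd (.lf 0xde16208) (.lf 0x6d7600)) (.nd (.lf 0x4193d93) (.lf 0x226bde2))) (.nd (.nd (.lf 0xb920a7c) (.lf 0x828d4b2)) (.nd (.lf 0xc336e36) (.lf 0xda73d61)))) (.nd (.nd (.nd (.lf 0x9545773) (.lf 0x184493c)) (.nd (.lf 0x7c7639) (.lf 0xbeca73b))) (.nd (.nd (.lf 0x53df8b8) (.lf 0x54de3d0)) (.nd (.lf 0xedce696) (.lf 0x89c6ec9)))))))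
def ptT_nabbabb : Tr := (.nd (.nd (.nd (.nd (.nd (.nd (.lf 0xdcfe94a) (.lf 0xdbbcef)) (.nd (.lf 0x75e13dc) (.lf 0x309506e))) (.nd (.nd (.lf 0xb16ca5) (.lf 0x66a18b6)) (.nd (.lf 0x7b2e19c) (.lf 0x533f016)))) (.nd (.nd (.nd (.lf 0xb3caea) (.lf 0xf55f633)) (.nd (.lf 0x63326db) (.lf 0xbfabf03))) (.nd (.nd (.lf 0x99ddc67) (.lf 0xe5dacc0)) (.nd (.lf 0xf530a7a) (.lf 0xe4dd2c6))))) (.nd (.nd (.nd (.nd (.lf 0x1e3ab50) (.lf 0x5a3be42)) (.nd (.lf 0xadb232f) (.lf 0x7c0719f))) (.nd (.nd (.lf 0x1e38f59) (.lf 0x34334ea)) (.nd (.lf 0xf82984d) (.lf 0x74b272)))) (.nd (.nd (.nd (.lf 0xd454609) (.lf 0x1d68c35)) (.nd (.lf 0xed7bb94) (.lf 0x5df1ae7))) (.nd (.nd (.lf 0x67d16b7) (.lf 0x7894a27)) (.nd (.lf 0xb964983) (.lf 0xcd370ac)))))) (.nd (.nd (.nd (.nd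 (.nd (.lf 0x343b6ea) (.lf 0xad4f711)) (.nd (.lf 0x331c5fa) (.lf 0x42de214))) (.nd (.nd (.lf 0xb7d64f6) (.lf 0xcb478a5)) (.nd (.lf 0x921899f) (.lf 0x200)))) (.nd (.nd (.nd (.lf 0x4553039) (.lf 0x123c2b0)) (.nd (.lf 0x78bad1a) (.lf 0x4e21239))) (.nd (.nd (.lf 0xa65269b) (.lf 0x947305e)) (.nd (.lf 0xee0762c) (.lf 0x5405b07))))) (.nd (.nd (.nd (.nd (.lf 0xf8eed2a) (.lf 0x5efed78)) (.nd (.lf 0x657634d) (.lf 0x14a9126))) (.nd (.nd (.lf 0xed828da) (.lf 0xf1408b3)) (.nd (.lf 0xd330d65) (.lf 0xbe124df)))) (.nd (.nd (.nd (.lf 0x4c66cc1) (.lf 0x6825920)) (.nd (.lf 0x8401ec) (.lf 0xbf1d046))) (.nd (.nd (.lf 0x4994d4d) (.lf 0x24c6bb5)) (.nd (.lf 0xc4daca1) (.lf 0)))))))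
def ptT_nabbbaa : Tr := (.nd (.nd (.nd (.nd (.nd (.nd (.lf 0xd3538bc) (.lf 0x80a46)) (.nd (.lf 0x55159c4) (.lf 0x89da63e))) (.nd (.nd (.lf 0x8947a3e) (.lf 0x25b56f5)) (.nd (.lf 0xfacb49) (.lf 0xb764af)))) (.nd (.nd (.nd (.lf 0x79ec827) (.lf 0x7fdd79d)) (.nd (.lf 0x2dcb731) (.lf 0x706a947))) (.nd (.nd (.lf 0x3180a05) (.lf 0xf458009)) (.nd (.lf 0xb074a23) (.lf 0x1adcb80))))) (.nd (.nd (.nd (.nd (.lf 0x2169183) (.lf 0x1611dd0)) (.nd (.lf 0x77162e0) (.lf 0xe523a7e))) (.nd (.nd (.lf 0x3b0ecc9) (.lf 0xe398101)) (.nd (.lf 0x4711e93) (.lf 0x3472e4e)))) (.nd (.nd (.nd (.lf 0x9d7b707) (.lf 0x31a9a64)) (.nd (.lf 0x23327db) (.lf 0xac4b733))) (.nd (.nd (.lf 0x712965c) (.lf 0xdafc15f)) (.nd (.lf 0xe82e28d) (.lf 0xa5cb137)))))) (.nd (.nd (.nd (.nd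 (.nd (.lf 0x891a5ed) (.lf 0xf56b048)) (.nd (.lf 0x5f59c8d) (.lf 0xb050804))) (.nd (.nd (.lf 0x81ef132) (.lf 0xc06cdfb)) (.nd (.lf 0x1570e44) (.lf 0x572c1ba)))) (.nd (.nd (.nd (.lf 0x99fa1c4) (.lf 0xedbfa69)) (.nd (.lf 0x2cf74d0) (.lf 0xa6ccb20))) (.nd (.nd (.lf 0x4ec0897) (.lf 0x520db94)) (.nd (.lf 0xefbb6df) (.lf 0x5be0a6b))))) (.nd (.nd (.nd (.nd (.lf 0xa52f347) (.lf 0x3823720)) (.nd (.lf 0x9130f5d) (.lf 0x9a0d800))) (.nd (.nd (.lf 0xcbec312) (.lf 0x45e9956)) (.nd (.lf 0x398c89a) (.lf 0xf5d2983)))) (.nd (.nd (.nd (.lf 0x2908ad8) (.lf 0x6438d7d)) (.nd (.lf 0x97ffce2) (.lf 0x735e011))) (.nd (.nd (.lf 0x88fe394) (.lf 0xecddb38)) (.nd (.lf 0x61d0f31) (.lf 0x73f3eb3)))))))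
def ptT_nabbbab : Tr := (.nd (.nd (.nd (.nd (.nd (.nd (.lf 0xf1b793) (.lf 0xe821c04)) (.nd (.lf 0x419c178) (.lf 0xc6531c))) (.nd (.nd (.lf 0xbd47cf8) (.lf 0x4130395)) (.nd (.lf 0x8e8deb2) (.lf 0xb2efb5f)))) (.nd (.nd (.nd (.lf 0xe855475) (.lf 0x2d9843d)) (.nd (.lf 0x93c7d94) (.lf 0x47fa38))) (.nd (.nd (.lf 0x5f47e9f) (.lf 0x8067aec)) (.nd (.lf 0x9530b9e) (.lf 0x4130978))))) (.nd (.nd (.nd (.nd (.lf 0xb009c10) (.lf 0x474ed0a)) (.nd (.lf 0x71ad856) (.lf 0x6e1ae49))) (.nd (.nd (.lf 0xdbc9208) (.lf 0x5fde92c)) (.nd (.lf 0x28f3ef2) (.lf 0xc4091ee)))) (.nd (.nd (.nd (.lf 0x472ad8a) (.lf 0x2f92d1)) (.nd (.lf 0xc36563a) (.lf 0x7b5bc1c))) (.nd (.nd (.lf 0x4606f83) (.lf 0x7296cd5)) (.nd (.lf 0xae2df1b) (.lf 0x6e835e0)))))) (.nd (.nd (.nd (.nd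 (.nd (.lf 0xbf0b545) (.lf 0x721d91b)) (.nd (.lf 0xbe3b3bd) (.lf 0x55e076f))) (.nd (.nd (.lf 0x9393911) (.lf 0xdef3a30)) (.nd (.lf 0x9b53c63) (.lf 0x3596f54)))) (.nd (.nd (.nd (.lf 0x8400119) (.lf 0x321743d)) (.nd (.lf 0xfb31a89) (.lf 0x7edcbdd))) (.nd (.nd (.lf 0x5034591) (.lf 0xca8163f)) (.nd (.lf 0x99793) (.lf 0x4ee6a22))))) (.nd (.nd (.nd (.nd (.lf 0xd8c0876) (.lf 0x12a1f4)) (.nd (.lf 0xb6d06a3) (.lf 0x5938f0e))) (.nd (.nd (.lf 0x84c4286) (.lf 0x5c7d370)) (.nd (.lf 0x22dbc6d) (.lf 0x8a0458e)))) (.nd (.nd (.nd (.lf 0xadc0e1b) (.lf 0xeb196e8)) (.nd (.lf 0x6601d7e) (.lf 0x36fc03a))) (.nd (.nd (.lf 0xbc51774) (.lf 0x43a255a)) (.nd (.lf 0xa4b0da) (.lf 0)))))))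
def ptT_nabbbba : Tr := (.nd (.nd (.nd (.nd (.nd (.nd (.lf 0xf3f4f89) (.lf 0xe3bf049)) (.nd (.lf 0xe884beb) (.lf 0x78c8bdd))) (.nd (.nd (.lf 0xf278562) (.lf 0x29af680)) (.nd (.lf 0x3bfd3a9) (.lf 0xc19a1ac)))) (.nd (.nd (.nd (.lf 0xed22090) (.lf 0xc83b7e0)) (.nd (.lf 0x99f28ed) (.lf 0xb7f9c22))) (.nd (.nd (.lf 0xe2d0c7d) (.lf 0xb74f288)) (.nd (.lf 0x70c7d49) (.lf 0xa667097))))) (.nd (.nd (.nd (.nd (.lf 0x59b199c) (.lf 0xee0d09e)) (.nd (.lf 0x8000) (.lf 0xccc76fd))) (.nd (.nd (.lf 0x86878b1) (.lf 0x856026f)) (.nd (.lf 0xebd889d) (.lf 0x56c8fc2)))) (.nd (.nd (.nd (.lf 0x90aa00e) (.lf 0x6682dbe)) (.nd (.lf 0xb6568aa) (.lf 0xb8279f))) (.nd (.nd (.lf 0x2be00a9) (.lf 0xc228c42)) (.nd (.lf 0x203eda) (.lf 0x47b0176)))))) (.nd (.nd (.nd (.nd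 (.nd (.lf 0xeda257e) (.lf 0xefcec2)) (.nd (.lf 0xee7fa42) (.lf 0xdfad7b5))) (.nd (.nd (.lf 0x1780edf) (.lf 0xb68fd97)) (.nd (.lf 0x705456e) (.lf 0xc454f55)))) (.nd (.nd (.nd (.lf 0x4f46e66) (.lf 0x7571d72)) (.nd (.lf 0x70a0790) (.lf 0xde7642))) (.nd (.nd (.lf 0x5143a08) (.lf 0x7900469)) (.nd (.lf 0x536812f) (.lf 0xabaac5a))))) (.nd (.nd (.nd (.nd (.lf 0x540ad94) (.lf 0x54bd5f4)) (.nd (.lf 0x8094b2c) (.lf 0x716006e))) (.nd (.nd (.lf 0xf77f633) (.lf 0xce0ee06)) (.nd (.lf 0xd152607) (.lf 0x5054a27)))) (.nd (.nd (.nd (.lf 0x7e45ab2) (.lf 0x20866e1)) (.nd (.lf 0x139bb91) (.lf 0xcf63c35))) (.nd (.nd (.lf 0x1f7a052) (.lf 0xb218e0d)) (.nd (.lf 0xa6ef867) (.lf 0)))))))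
def ptT_nabbbbb : Tr := (.nd (.nd (.nd (.nd (.nd (.nd (.lf 0xcee26d7) (.lf 0xcd96fff)) (.nd (.lf 0x555e79f) (.lf 0xaf6882))) (.nd (.nd (.lf 0xbc4cf3a) (.lf 0x28d1787)) (.nd (.lf 0x231a038) (.lf 0xdb7982c)))) (.nd (.nd (.nd (.lf 0xb4011d) (.lf 0x30bbba7)) (.nd (.lf 0xdeddfae) (.lf 0xd6af3e9))) (.nd (.nd (.lf 0x5be8a05) (.lf 0xc0835f9)) (.nd (.lf 0xb712a6a) (.lf 0x77967cd))))) (.nd (.nd (.nd (.nd (.lf 0xd035efc) (.lf 0xad59caa)) (.nd (.lf 0x60cfbb8) (.lf 0xaa479b1))) (.nd (.nd (.lf 0x83cb395) (.lf 0xb45dff5)) (.nd (.lf 0x83d86b0) (.lf 0x56dc782)))) (.nd (.nd (.nd (.lf 0x34fc588) (.lf 0x22db533)) (.nd (.lf 0xd67fff3) (.lf 0xc5ee457))) (.nd (.nd (.lf 0x1ca0a8d) (.lf 0xfa2104)) (.nd (.lf 0x4dfeee) (.lf 0x7ffd2ba)))))) (.nd (.nd (.nd (.nd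 (.nd (.lf 0x416c938) (.lf 0xa7adf6a)) (.nd (.lf 0xe4e5ef0) (.lf 0xe0810af))) (.nd (.nd (.lf 0x4dac66) (.lf 0xaaf779)) (.nd (.lf 0x2161083) (.lf 0x4c4a149)))) (.nd (.nd (.nd (.lf 0x2a430f4) (.lf 0x13fbde6)) (.nd (.lf 0x7cb4a77) (.lf 0x46d5a25))) (.nd (.nd (.lf 0x38e5774) (.lf 0x24b469b)) (.nd (.lf 0x14cb0c4) (.lf 0x72c6c8f))))) (.nd (.nd (.nd (.nd (.lf 0xc0f8f62) (.lf 0xed2a091)) (.nd (.lf 0x62ebb4d) (.lf 0x252c444))) (.nd (.nd (.lf 0x8e7b908) (.lf 0x4803fdb)) (.nd (.lf 0xa65369f) (.lf 0x3592b5d)))) (.nd (.nd (.nd (.lf 0x64f036b) (.lf 0xf943b1b)) (.nd (.lf 0xafcacd) (.lf 0x33f768a))) (.nd (.nd (.lf 0x25116f7) (.lf 0xad4b731)) (.nd (.lf 0x9595b9) (.lf 0)))))))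
def ptT_nbaaaaa : Tr := (.nd (.nd (.nd (.nd (.nd (.nd (.lf 0xf9d861b) (.lf 0xd19a8c1)) (.nd (.lf 0xe6d17a2) (.lf 0x91785ce))) (.nd (.nd (.lf 0x5e7ba03) (.lf 0x3b3e07c)) (.nd (.lf 0x8c0ce38) (.lf 0x72eec8f)))) (.nd (.nd (.nd (.lf 0xc45b0d2) (.lf 0x913344c)) (.nd (.lf 0xa131f1e) (.lf 0xd869ad6))) (.nd (.nd (.lf 0x543aeb1) (.lf 0x964482f)) (.nd (.lf 0x10e46b) (.lf 0xa9114f8))))) (.nd (.nd (.nd (.nd (.lf 0xf4b6c95) (.lf 0x98ba621)) (.nd (.lf 0xfa83e36) (.lf 0x919640c))) (.nd (.nd (.lf 0xb438dda) (.lf 0x2539cf)) (.nd (.lf 0xa09b539) (.lf 0xda48dd)))) (.nd (.nd (.nd (.lf 0xeb0bd73) (.lf 0xfadde6b)) (.nd (.lf 0xea874e4) (.lf 0x7006d30))) (.nd (.nd (.lf 0xf5a3f26) (.lf 0x33e3525)) (.nd (.lf 0xda429b) (.lf 0xb029cee)))))) (.nd (.nd (.nd (.nd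 (.nd (.lf 0xeb8b1df) (.lf 0x95f6884)) (.nd (.lf 0xf2636e0) (.lf 0xc9138b0))) (.nd (.nd (.lf 0x877fe7) (.lf 0xa2f4a01)) (.nd (.lf 0x1782ad6) (.lf 0x45cb79a)))) (.nd (.nd (.nd (.lf 0x592a495) (.lf 0x2ba7ed2)) (.nd (.lf 0x9c20d5d) (.lf 0xe048ec1))) (.nd (.nd (.lf 0x8374463) (.lf 0xf7edc9c)) (.nd (.lf 0x57ec690) (.lf 0x5d5afdf))))) (.nd (.nd (.nd (.nd (.lf 0xb53fbec) (.lf 0xf1c1870)) (.nd (.lf 0xa675173) (.lf 0x5ad6f74))) (.nd (.nd (.lf 0x9ad81eb) (.lf 0xae5db94)) (.nd (.lf 0xded8ae2) (.lf 0xe13d6dd)))) (.nd (.nd (.nd (.lf 0x80dae21) (.lf 0xb70903a)) (.nd (.lf 0xa1a2139) (.lf 0xb9da3e3))) (.nd (.nd (.lf 0x9a0ba3c) (.lf 0xb34cb02)) (.nd (.lf 0x900504e) (.lf 0x43226d5)))))))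
def ptT_nbaaaab : Tr := (.nd (.nd (.nd (.nd (.nd (.nd (.lf 0x211da3d) (.lf 0x9158c6e)) (.nd (.lf 0xc6be9a1) (.lf 0xf1da74))) (.nd (.nd (.lf 0x6957a24) (.lf 0xae49f2d)) (.nd (.lf 0x2286cd4) (.lf 0xf5f9ae7)))) (.nd (.nd (.nd (.lf 0xf5cda39) (.lf 0xb0245c)) (.nd (.lf 0xb4ceee0) (.lf 0xb9f75a5))) (.nd (.nd (.lf 0xc216bbf) (.lf 0xcc18490)) (.nd (.lf 0xb77178d) (.lf 0xf2208f))))) (.nd (.nd (.nd (.nd (.lf 0x75580db) (.lf 0xe49eac4)) (.nd (.lf 0xb7ebeaf) (.lf 0xee75f73))) (.nd (.nd (.lf 0xf8cacd) (.lf 0xa70bc7c)) (.nd (.lf 0x4b3f79) (.lf 0xc70d71e)))) (.nd (.nd (.nd (.lf 0x8300) (.lf 0xe5af02d)) (.nd (.lf 0xf14ec1b) (.lf 0x5ee3371))) (.nd (.nd (.lf 0x535b6af) (.lf 0x71f49cf)) (.nd (.lf 0xc8150dd) (.lf 0xf0a295)))))) (.nd (.nd (.nd (.nd (.nd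 (.lf 0x3dca285) (.lf 0xe3b9d7e)) (.nd (.lf 0x2516eba) (.lf 0x13e5019))) (.nd (.nd (.lf 0x39734f8) (.lf 0x965ddd5)) (.nd (.lf 0x8b9ad60) (.lf 0xd87d229)))) (.nd (.nd (.nd (.lf 0xb4bc0bb) (.lf 0x19d044b)) (.nd (.lf 0xaec9def) (.lf 0xcca7516))) (.nd (.nd (.lf 0x767633) (.lf 0x7d1b127)) (.nd (.lf 0xcb9ebde) (.lf 0x9262ebb))))) (.nd (.nd (.nd (.nd (.lf 0xde48556) (.lf 0x812c601)) (.nd (.lf 0xc01b0e8) (.lf 0xb3c318d))) (.nd (.nd (.lf 0x134eaba) (.lf 0xdcddbcf)) (.nd (.lf 0xf864eb7) (.lf 0x3ed5640)))) (.nd (.nd (.nd (.lf 0x7bfb559) (.lf 0x77fd797)) (.nd (.lf 0x806f132) (.lf 0x89ca55))) (.nd (.nd (.lf 0x2491f37) (.lf 0x5848ab6)) (.nd (.lf 0x5d424cd) (.lf 0)))))))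
def ptT_nbaaaba : Tr := (.nd (.nd (.nd (.nd (.nd (.nd (.lf 0xa40d1b3) (.lf 0x8d3458e)) (.nd (.lf 0xc9fc0bc) (.lf 0xd6b4f2a))) (.nd (.nd (.lf 0x9cd4a50) (.lf 0xab695b8)) (.nd (.lf 0x7ee9960) (.lf 0xaefdfdd)))) (.nd (.nd (.nd (.lf 0x70e7d03) (.lf 0x9e85eb2)) (.nd (.lf 0xe87720d) (.lf 0x254da85))) (.nd (.nd (.lf 0x42c50aa) (.lf 0xdb76ebf)) (.nd (.lf 0xd34ccb6) (.lf 0x797bc5a))))) (.nd (.nd (.nd (.nd (.lf 0x32e3654) (.lf 0xa04609)) (.nd (.lf 0xf46d441) (.lf 0x9cd965d))) (.nd (.nd (.lf 0xc1834f9) (.lf 0x8a71d7f)) (.nd (.lf 0x5eea267) (.lf 0x7fd6266)))) (.nd (.nd (.nd (.lf 0xe3ed61b) (.lf 0xf1dfec8)) (.nd (.lf 0x93c2c59) (.lf 0x9671c0d))) (.nd (.nd (.lf 0xdbfafb5) (.lf 0x9d86ffe)) (.nd (.lf 0x9102c3) (.lf 0x4a49288)))))) (.nd (.nd (.nd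 (.nd (.nd (.lf 0x4387e64) (.lf 0xb47b070)) (.nd (.lf 0x5782c6c) (.lf 0xd78662c))) (.nd (.nd (.lf 0xbd735a1) (.lf 0xf554e87)) (.nd (.lf 0x9615a8a) (.lf 0xc81338d)))) (.nd (.nd (.nd (.lf 0xb7e285c) (.lf 0xc998436)) (.nd (.lf 0xb9f4301) (.lf 0xd05b85b))) (.nd (.nd (.lf 0x5342379) (.lf 0xa9138fd)) (.nd (.lf 0xa2bd533) (.lf 0xe650400))))) (.nd (.nd (.nd (.nd (.lf 0x645be15) (.lf 0x46de215)) (.nd (.lf 0x7f71146) (.lf 0xa3d0c44))) (.nd (.nd (.lf 0xded8aa6) (.lf 0x1f64dcc)) (.nd (.lf 0x5db723d) (.lf 0xce53def)))) (.nd (.nd (.nd (.lf 0xe57542c) (.lf 0x8d68f69)) (.nd (.lf 0x7c6ac05) (.lf 0x3ca3ae7))) (.nd (.nd (.lf 0xec9d30a) (.lf 0xae38ec6)) (.nd (.lf 0xe2920af) (.lf 0x6aa6bde)))))))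
def ptT_nbaaabb : Tr := (.nd (.nd (.nd (.nd (.nd (.nd (.lf 0xd487b4) (.lf 0x8fa7e2c)) (.nd (.lf 0x6a476c7) (.lf 0xa8e39a9))) (.nd (.nd (.lf 0xbe1710e) (.lf 0x3e2c8e9)) (.nd (.lf 0x2b8ba61) (.lf 0xa5e1a88)))) (.nd (.nd (.nd (.lf 0xa0091b3) (.lf 0xdb986ca)) (.nd (.lf 0x98f9e26) (.lf 0xcc3d3d6))) (.nd (.nd (.lf 0xc719080) (.lf 0x2c405ed)) (.nd (.lf 0xcb7948c) (.lf 0xc668912))))) (.nd (.nd (.nd (.nd (.lf 0x37c292e) (.lf 0x29eb5bc)) (.nd (.lf 0x385f5c6) (.lf 0xd7a7f99))) (.nd (.nd (.lf 0x4be2006) (.lf 0xf8f323a)) (.nd (.lf 0x58e4e2) (.lf 0x8ec245a)))) (.nd (.nd (.nd (.lf 0xb09e09d) (.lf 0xeef73f3)) (.nd (.lf 0x1ff07ba) (.lf 0xe68bfa4))) (.nd (.nd (.lf 0x958fe6a) (.lf 0xe68cf84)) (.nd (.lf 0xa1ee9ab) (.lf 0x60dee0d)))))) (.nd (.nd (.nd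 (.nd (.nd (.lf 0x950cc7e) (.lf 0x4515165)) (.nd (.lf 0x1f14dd6) (.lf 0x2f2ee12))) (.nd (.nd (.lf 0xd3eb251) (.lf 0x3a9d790)) (.nd (.lf 0x2c71a96) (.lf 0xf92ba1a)))) (.nd (.nd (.nd (.lf 0xa3be205) (.lf 0xbfd9c22)) (.nd (.lf 0x1af1c52) (.lf 0x2a98211))) (.nd (.nd (.lf 0xe1bfe13) (.lf 0xf78833)) (.nd (.lf 0x3a0cc7d) (.lf 0xf23a214))))) (.nd (.nd (.nd (.nd (.lf 0x33f6f5a) (.lf 0xccbbca0)) (.nd (.lf 0x77d52a0) (.lf 0x47e40cc))) (.nd (.nd (.lf 0xcb5756d) (.lf 0x5d85159)) (.nd (.lf 0x1f0b1b9) (.lf 0x414ba08)))) (.nd (.nd (.nd (.lf 0x82acb47) (.lf 0xbba9de7)) (.nd (.lf 0x40fe53) (.lf 0x592ec26))) (.nd (.nd (.lf 0xf07aa53) (.lf 0xa42a473)) (.nd (.lf 0x672e48a) (.lf 0)))))))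
def ptT_nbaabaa : Tr := (.nd (.nd (.nd (.nd (.nd (.nd (.lf 0xe5f572d) (.lf 0xab3cb36)) (.nd (.lf 0xb104b9a) (.lf 0xe90bde0))) (.nd (.nd (.lf 0x9ec3d64) (.lf 0x80448d6)) (.nd (.lf 0x80d299e) (.lf 0xdbb327e)))) (.nd (.nd (.nd (.lf 0x1a15ea6) (.lf 0xd47a047)) (.nd (.lf 0x75774b0) (.lf 0x622590a))) (.nd (.nd (.lf 0xbdbdd93) (.lf 0xfd22098)) (.nd (.lf 0xea097d5) (.lf 0xea21c44))))) (.nd (.nd (.nd (.nd (.lf 0xf743b38) (.lf 0x992cf4e)) (.nd (.lf 0x1df3b7c) (.lf 0x137d23b))) (.nd (.nd (.lf 0x6b4b20f) (.lf 0xd1836ca)) (.nd (.lf 0x4593f23) (.lf 0xd3efd49)))) (.nd (.nd (.nd (.lf 0xf87b646) (.lf 0x96130bc)) (.nd (.lf 0xf0a0cdd) (.lf 0x8540bcf))) (.nd (.nd (.lf 0xdebb11b) (.lf 0x54a6c3d)) (.nd (.lf 0x94973b1) (.lf 0xcab4615)))))) (.nd (.nd (.nd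 (.nd (.nd (.lf 0x1c4ed4b) (.lf 0xcd5adc7)) (.nd (.lf 0xc46ad43) (.lf 0xb3b1f3c))) (.nd (.nd (.lf 0x192d71a) (.lf 0xd23031d)) (.nd (.lf 0x9a5903b) (.lf 0x2bb4b05)))) (.nd (.nd (.nd (.lf 0xd5d2f4d) (.lf 0x9a2c790)) (.nd (.lf 0x77c24d) (.lf 0xbf335cb))) (.nd (.nd (.lf 0xd501b90) (.lf 0x9e74f5b)) (.nd (.lf 0x251276d) (.lf 0xf67d2c3))))) (.nd (.nd (.nd (.nd (.lf 0x1fb3ead) (.lf 0xc013a73)) (.nd (.lf 0xdb0722f) (.lf 0x2cdc492))) (.nd (.nd (.lf 0xdecff77) (.lf 0xb873708)) (.nd (.lf 0xb34532c) (.lf 0xeedb20)))) (.nd (.nd (.nd (.lf 0xb3dc5bf) (.lf 0x6238ae6)) (.nd (.lf 0xb252c55) (.lf 0xd9c5c7c))) (.nd (.nd (.lf 0xfb2d379) (.lf 0xecf9c63)) (.nd (.lf 0x9690ee) (.lf 0xdc149e9)))))))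
def ptT_nbaabab : Tr := (.nd (.nd (.nd (.nd (.nd (.nd (.lf 0x2c3df11) (.lf 0xd1ed6dc)) (.nd (.lf 0x486d2b7) (.lf 0xd80c7b6))) (.nd (.nd (.lf 0x1153a3) (.lf 0x25015eb)) (.nd (.lf 0x7296cc4) (.lf 0xacc882f)))) (.nd (.nd (.nd (.lf 0x1096765) (.lf 0x1d40037)) (.nd (.lf 0x697afcb) (.lf 0x16f45cf))) (.nd (.nd (.lf 0x9358113) (.lf 0xfb107f7)) (.nd (.lf 0x6a692e2) (.lf 0x57354e9))))) (.nd (.nd (.nd (.nd (.lf 0x22fa2bb) (.lf 0x5a34100)) (.nd (.lf 0x44b5d83) (.lf 0xcbeaf07))) (.nd (.nd (.lf 0x10de564) (.lf 0x117f02e)) (.nd (.lf 0xfb535b7) (.lf 0x2f3cb6e)))) (.nd (.nd (.nd (.lf 0x5c2eb8b) (.lf 0x62ffbed)) (.nd (.lf 0x2a7b223) (.lf 0xaaea1fa))) (.nd (.nd (.lf 0x6a6b3e2) (.lf 0x2fbbecf)) (.nd (.lf 0xe0db539) (.lf 0x35a3f7e)))))) (.nd (.nd (.nd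 (.nd (.nd (.lf 0xefb4ce8) (.lf 0x16fa80d)) (.nd (.lf 0x61e8616) (.lf 0xefcc711))) (.nd (.nd (.lf 0x71c4765) (.lf 0xf9d2c88)) (.nd (.lf 0x9673aed) (.lf 0xdec1fd7)))) (.nd (.nd (.nd (.lf 0x5796308) (.lf 0x854b518)) (.nd (.lf 0x1116ad0) (.lf 0xd22e942))) (.nd (.nd (.lf 0x853f9c2) (.lf 0x3e14acb)) (.nd (.lf 0xf8684a4) (.lf 0x9fd16a5))))) (.nd (.nd (.nd (.nd (.lf 0xab43f37) (.lf 0x773b5a2)) (.nd (.lf 0x7e26d04) (.lf 0x137040c))) (.nd (.nd (.lf 0x444b13a) (.lf 0x6e89a36)) (.nd (.lf 0x8802b5) (.lf 0x5f42b0a)))) (.nd (.nd (.nd (.lf 0xf7c6e70) (.lf 0xe778883)) (.nd (.lf 0x60380d3) (.lf 0x4fb401a))) (.nd (.nd (.lf 0xb96c993) (.lf 0x2409a5f)) (.nd (.lf 0xd16dc9e) (.lf 0)))))))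
def ptT_nbaabba : Tr := (.nd (.nd (.nd (.nd (.nd (.nd (.lf 0x341d346) (.lf 0x51b2c5e)) (.nd (.lf 0xc8c2ab2) (.lf 0x3672405))) (.nd (.nd (.lf 0x9425649) (.lf 0xe53ef2f)) (.nd (.lf 0x4b32914) (.lf 0x6825134)))) (.nd (.nd (.nd (.lf 0x7c4a387) (.lf 0x7dff395)) (.nd (.lf 0x4a4aa4d) (.lf 0x2846e07))) (.nd (.nd (.lf 0x955811d) (.lf 0x7fd694a)) (.nd (.lf 0x1589cba) (.lf 0x8b3f818))))) (.nd (.nd (.nd (.nd (.lf 0xf905e1e) (.lf 0x959697f)) (.nd (.lf 0x6b9e65f) (.lf 0x4f996d8))) (.nd (.nd (.lf 0x5ac0e5e) (.lf 0xabda8ac)) (.nd (.lf 0xaf62889) (.lf 0x3e7ed9)))) (.nd (.nd (.nd (.lf 0x858e988) (.lf 0xf9d6d8)) (.nd (.lf 0xb709030) (.lf 0x4ff109a))) (.nd (.nd (.lf 0x20ec46b) (.lf 0xe76bea7)) (.nd (.lf 0xbd8fee6) (.lf 0xc19fce5)))))) (.nd (.nd (.nd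 (.nd (.nd (.lf 0x3a9c274) (.lf 0xbdbd9d3)) (.nd (.lf 0x8c460e4) (.lf 0x74a46f6))) (.nd (.nd (.lf 0x574e92d) (.lf 0x42ac3b5)) (.nd (.lf 0x8cbee44) (.lf 0x1b020d5)))) (.nd (.nd (.nd (.lf 0x894a238) (.lf 0x845702b)) (.nd (.lf 0x1d89d94) (.lf 0xcd2b157))) (.nd (.nd (.lf 0xe283ca4) (.lf 0xda01055)) (.nd (.lf 0x9796b7f) (.lf 0x3ee2174))))) (.nd (.nd (.nd (.nd (.lf 0x597f043) (.lf 0x44630d0)) (.nd (.lf 0x9ab8690) (.lf 0xc93210a))) (.nd (.nd (.lf 0x5d4b7b5) (.lf 0x491f892)) (.nd (.lf 0x8f861d9) (.lf 0xb23838f)))) (.nd (.nd (.nd (.lf 0x13046d1) (.lf 0x81fba14)) (.nd (.lf 0x53478ef) (.lf 0xf1c7597))) (.nd (.nd (.lf 0xcc150dc) (.lf 0xad13fb0)) (.nd (.lf 0x1116ed8) (.lf 0x49f40f4)))))))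
def ptT_nbaabbb : Tr := (.nd (.nd (.nd (.nd (.nd (.nd (.lf 0x531f056) (.lf 0x186bfbb)) (.nd (.lf 0x1c2ba62) (.lf 0x6c8d5c0))) (.nd (.nd (.lf 0xc43722) (.lf 0x71cb33e)) (.nd (.lf 0x4d915d8) (.lf 0x5035d91)))) (.nd (.nd (.nd (.lf 0xc2104a1) (.lf 0x5bb70b4)) (.nd (.lf 0x5898e9a) (.lf 0x2cf14d0))) (.nd (.nd (.lf 0x93be289) (.lf 0x5a8fc4f)) (.nd (.lf 0xccb3ca1) (.lf 0xb34560f))))) (.nd (.nd (.nd (.nd (.lf 0x24a5415) (.lf 0x4400b49)) (.nd (.lf 0x7767ba2) (.lf 0xadafd6a))) (.nd (.nd (.lf 0x40000) (.lf 0xc536f49)) (.nd (.lf 0x122d92d) (.lf 0x4957647)))) (.nd (.nd (.nd (.lf 0x4c3742c) (.lf 0x65c0250)) (.nd (.lf 0x31544da) (.lf 0x819e774))) (.nd (.nd (.lf 0xdba0cf1) (.lf 0x2e4ed64)) (.nd (.lf 0xc6b20e9) (.lf 0x64856ac)))))) (.nd (.nd (.nd (.nd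 (.nd (.lf 0x47f51f6) (.lf 0xc5f517d)) (.nd (.lf 0x3bc74c3) (.lf 0x68fbfe4))) (.nd (.nd (.lf 0x7f49718) (.lf 0x4c78ecd)) (.nd (.lf 0x1831230) (.lf 0xeeeba03)))) (.nd (.nd (.nd (.lf 0x99c0fd8) (.lf 0x398c6f3)) (.nd (.lf 0x1e07c13) (.lf 0x808bbad))) (.nd (.nd (.lf 0x639baf4) (.lf 0xd609fc)) (.nd (.lf 0xd89422f) (.lf 0xa4d3df3))))) (.nd (.nd (.nd (.nd (.lf 0xf28f3af) (.lf 0x400000)) (.nd (.lf 0xb1c718d) (.lf 0x3b29266))) (.nd (.nd (.lf 0xa5154ca) (.lf 0xb736acb)) (.nd (.lf 0x3a85ccf) (.lf 0x12142b0)))) (.nd (.nd (.nd (.lf 0x2ad066d) (.lf 0x984c0d)) (.nd (.lf 0xd830464) (.lf 0xfed5b88))) (.nd (.nd (.lf 0x402e595) (.lf 0x10de465)) (.nd (.lf 0x915e58d) (.lf 0)))))))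
def ptT_nbabaaa : Tr := (.nd (.nd (.nd (.nd (.nd (.nd (.lf 0x1385269) (.lf 0xb430477)) (.nd (.lf 0x5f0812f) (.lf 0x17b365e))) (.nd (.nd (.lf 0xdfe7e77) (.lf 0x4314643)) (.nd (.lf 0x271236d) (.lf 0xd478e87)))) (.nd (.nd (.nd (.lf 0xfa4de07) (.lf 0xebf9c93)) (.nd (.lf 0x56ba8f) (.lf 0x9e0d39f))) (.nd (.nd (.lf 0xd9b599c) (.lf 0x9e1a032)) (.nd (.lf 0x7961e95) (.lf 0x4cf7cab))))) (.nd (.nd (.nd (.nd (.lf 0x616d1b3) (.lf 0x6ce1929)) (.nd (.lf 0x4998014) (.lf 0xdabc48b))) (.nd (.nd (.lf 0x323b0cb) (.lf 0x26dd1b6)) (.nd (.lf 0x3e9c293) (.lf 0x3ed96b6)))) (.nd (.nd (.nd (.lf 0xa08fc61) (.lf 0x65e57cb)) (.nd (.lf 0xf1eb61c) (.lf 0x8eb6924))) (.nd (.nd (.lf 0xfef5b80) (.lf 0x551d21d)) (.nd (.lf 0x64f69b7) (.lf 0xd60ce0e)))))) (.nd (.nd (.nd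 (.nd (.nd (.lf 0x6b5eff4) (.lf 0xcc871ab)) (.nd (.lf 0xae2ae1) (.lf 0x3ab72a8))) (.nd (.nd (.lf 0x874d3ad) (.lf 0xb332dca)) (.nd (.lf 0x8) (.lf 0xa9e9012)))) (.nd (.nd (.nd (.lf 0xdec367e) (.lf 0x14b703f)) (.nd (.lf 0x3e5b5d0) (.lf 0x2c4da9c))) (.nd (.nd (.lf 0xb3053a6) (.lf 0x30e82e5)) (.nd (.lf 0x98c308a) (.lf 0xf8a7e09))))) (.nd (.nd (.nd (.nd (.lf 0x167b526) (.lf 0x93301d6)) (.nd (.lf 0x721028b) (.lf 0x925dbf3))) (.nd (.nd (.lf 0x6dff69b) (.lf 0x2442b83)) (.nd (.lf 0xd6bead7) (.lf 0x2876766)))) (.nd (.nd (.nd (.lf 0x2f64c80) (.lf 0x9ac2703)) (.nd (.lf 0x5f05d77) (.lf 0x1f660d6))) (.nd (.nd (.lf 0x67a43e1) (.lf 0xe3a831b)) (.nd (.lf 0xc282c88) (.lf 0xc23a08)))))))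
def ptT_nbabaab : Tr := (.nd (.nd (.nd (.nd (.nd (.nd (.lf 0x7d9ee40) (.lf 0x14ce212)) (.nd (.lf 0xeb043b9) (.lf 0xca4903d))) (.nd (.nd (.lf 0xf965eb7) (.lf 0xd4f0e8)) (.nd (.lf 0xc387a7f) (.lf 0x94a9d8d)))) (.nd (.nd (.nd (.lf 0xcc91202) (.lf 0xd1ed658)) (.nd (.lf 0x80875f9) (.lf 0x136e71e))) (.nd (.nd (.lf 0xcd5e81d) (.lf 0x9b4ca9c)) (.nd (.lf 0xf4983d4) (.lf 0x21fe5fe))))) (.nd (.nd (.nd (.nd (.lf 0xd8ba09b) (.lf 0xd6b5400)) (.nd (.lf 0x4aedc3) (.lf 0xb6b7945))) (.nd (.nd (.lf 0x2423858) (.lf 0x887fb76)) (.nd (.lf 0x956bd7) (.lf 0xd32a6c7)))) (.nd (.nd (.nd (.lf 0x979fa95) (.lf 0x29d4cc7)) (.nd (.lf 0x9089c60) (.lf 0xd89579))) (.nd (.nd (.lf 0x5ca2cf4) (.lf 0xb2ba451)) (.nd (.lf 0xa3db749) (.lf 0x5932efb)))))) (.nd (.nd (.nd (.nd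 (.nd (.lf 0xea27ffc) (.lf 0xe9ccb6a)) (.nd (.lf 0x2b3d8ac) (.lf 0x6064ca))) (.nd (.nd (.lf 0xb1571e1) (.lf 0x4e38bed)) (.nd (.lf 0xfdf20d9) (.lf 0xcce9938)))) (.nd (.nd (.nd (.lf 0x2b40263) (.lf 0xb38ef0)) (.nd (.lf 0x41e43e8) (.lf 0xa104f13))) (.nd (.nd (.lf 0xebcfeec) (.lf 0x1000)) (.nd (.lf 0xd8b9bcc) (.lf 0x4d765a6))))) (.nd (.nd (.nd (.nd (.lf 0x187e240) (.lf 0x6e1e6fa)) (.nd (.lf 0xee4dacc) (.lf 0xa315a9f))) (.nd (.nd (.lf 0xae6320c) (.lf 0x7f4402e)) (.nd (.lf 0x5fbb1a8) (.lf 0xcf5756c)))) (.nd (.nd (.nd (.lf 0xd1ba8c5) (.lf 0xeef2f50)) (.nd (.lf 0x43e1949) (.lf 0x43dc905))) (.nd (.nd (.lf 0x871d3ad) (.lf 0x266edd)) (.nd (.lf 0x72228f) (.lf 0)))))))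
def ptT_nbababa : Tr := (.nd (.nd (.nd (.nd (.nd (.nd (.lf 0x63d0bb) (.lf 0x595f0b6)) (.nd (.lf 0xa2caf29) (.lf 0xf3dc9e))) (.nd (.nd (.lf 0xc53dfbb) (.lf 0x347d479)) (.nd (.lf 0xb55932) (.lf 0x74e8536)))) (.nd (.nd (.nd (.lf 0x55cedad) (.lf 0x49eec14)) (.nd (.lf 0xc0de53) (.lf 0xf3bf46e))) (.nd (.nd (.lf 0x885ff41) (.lf 0xb1cb36d)) (.nd (.lf 0xe058994) (.lf 0x66497ed))))) (.nd (.nd (.nd (.nd (.lf 0x379678d) (.lf 0xc217585)) (.nd (.lf 0x5a099c1) (.lf 0xa3bca80))) (.nd (.nd (.lf 0x2fafd87) (.lf 0x497427c)) (.nd (.lf 0x283e6ec) (.lf 0x7490c1f)))) (.nd (.nd (.nd (.lf 0x7af2a3d) (.lf 0x939be6a)) (.nd (.lf 0x30b9eb0) (.lf 0x9cd691f))) (.nd (.nd (.lf 0xe77be27) (.lf 0x74f9f6c)) (.nd (.lf 0xda67b6d) (.lf 0x1116ed1)))))) (.nd (.nd (.nd (.nd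 (.nd (.lf 0x57f5c6e) (.lf 0x5bd692c)) (.nd (.lf 0x4e942b4) (.lf 0x86cd9e3))) (.nd (.nd (.lf 0x673d6f1) (.lf 0xc5a825)) (.nd (.lf 0x6c28b8a) (.lf 0xed79412)))) (.nd (.nd (.nd (.lf 0x344ec26) (.lf 0x1a02647)) (.nd (.lf 0xb49ec61) (.lf 0x1c02d49))) (.nd (.nd (.lf 0x8afaea) (.lf 0xae32b19)) (.nd (.lf 0x6fd16b6) (.lf 0x668a0d))))) (.nd (.nd (.nd (.nd (.lf 0x315429d) (.lf 0x89e8899)) (.nd (.lf 0xff46c30) (.lf 0x7f82d47))) (.nd (.nd (.lf 0xec7d269) (.lf 0x10d6b1a)) (.nd (.lf 0x85b2f70) (.lf 0xfcd14bb)))) (.nd (.nd (.nd (.lf 0xa4f23b8) (.lf 0x55ddaca)) (.nd (.lf 0x8f829d9) (.lf 0x662b60f))) (.nd (.nd (.lf 0xb4335ea) (.lf 0x468e215)) (.nd (.lf 0x4e8e57b) (.lf 0xef074e9)))))))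
def ptT_nbababb : Tr := (.nd (.nd (.nd (.nd (.nd (.nd (.lf 0xa227de7) (.lf 0xe8f5f7e)) (.nd (.lf 0xfb45137) (.lf 0xe2b58eb))) (.nd (.nd (.lf 0xc3d3727) (.lf 0xd6122d7)) (.nd (.lf 0xbacc37c) (.lf 0x8b5e4cf)))) (.nd (.nd (.nd (.lf 0x5ceb326) (.lf 0x5283130)) (.nd (.lf 0x5d30c5b) (.lf 0xb8d4688))) (.nd (.nd (.lf 0x9073d76) (.lf 0xa19ca8a)) (.nd (.lf 0x5bcd8df) (.lf 0x127dac))))) (.nd (.nd (.nd (.nd (.lf 0xeca9164) (.lf 0x688592a)) (.nd (.lf 0xd89722f) (.lf 0x781b6b))) (.nd (.nd (.lf 0x5fbf8b8) (.lf 0x35b3360)) (.nd (.lf 0x60ed73e) (.lf 0x7831754)))) (.nd (.nd (.nd (.lf 0x800000) (.lf 0x6217326)) (.nd (.lf 0x2b9ec4d) (.lf 0xf1f9e24))) (.nd (.nd (.lf 0xb45dfb4) (.lf 0x3f6473)) (.nd (.lf 0x9076463) (.lf 0x3ed963e)))))) (.nd (.nd (.nd (.nd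 (.nd (.lf 0x4ed427b) (.lf 0x504df12)) (.nd (.lf 0x5218db8) (.lf 0x98d318a))) (.nd (.nd (.lf 0x23c28aa) (.lf 0x9460313)) (.nd (.lf 0x7a73ce7) (.lf 0x39d09e5)))) (.nd (.nd (.nd (.lf 0x209a847) (.lf 0xcf10bf)) (.nd (.lf 0x16f774d) (.lf 0xe70caca))) (.nd (.nd (.lf 0x514e556) (.lf 0xe65d45e)) (.nd (.lf 0x3d6aaff) (.lf 0xeacb20))))) (.nd (.nd (.nd (.nd (.lf 0xf5a8f6b) (.lf 0xb5be99)) (.nd (.lf 0x8931e58) (.lf 0x767622))) (.nd (.nd (.lf 0x6c213a4) (.lf 0x3fea034)) (.nd (.lf 0x284b147) (.lf 0xdd987e)))) (.nd (.nd (.nd (.lf 0xe57abe7) (.lf 0xc19a1e8)) (.nd (.lf 0xcb92c9) (.lf 0xd039971))) (.nd (.nd (.lf 0x643d544) (.lf 0x5192e54)) (.nd (.lf 0xd7cc24) (.lf 0)))))))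
def ptT_nbabbaa : Tr := (.nd (.nd (.nd (.nd (.nd (.nd (.lf 0x3c393c5) (.lf 0xdbbc4ed)) (.nd (.lf 0x14a3126) (.lf 0x67c91ba))) (.nd (.nd (.lf 0xa9abcc0) (.lf 0x8dd9cda)) (.nd (.lf 0x39350d9) (.lf 0xc36e7ce)))) (.nd (.nd (.nd (.lf 0x7e71ce7) (.lf 0xac4bd69)) (.nd (.lf 0x80000) (.lf 0xe4d7fd0))) (.nd (.nd (.lf 0x1ac36a2) (.lf 0xf786ffc)) (.nd (.lf 0x5d70c2) (.lf 0x1e3922f))))) (.nd (.nd (.nd (.nd (.lf 0x7c4c3d3) (.lf 0x30dfcee)) (.nd (.lf 0x924081f) (.lf 0xf9eca27))) (.nd (.nd (.lf 0x5e025d0) (.lf 0x4c46cdb)) (.nd (.lf 0x9573aed) (.lf 0x97dbc6c)))) (.nd (.nd (.nd (.lf 0x377aea9) (.lf 0xc4731cc)) (.nd (.lf 0x860dc4e) (.lf 0x5e16799))) (.nd (.nd (.lf 0x5d3cbf1) (.lf 0x675af9d)) (.nd (.lf 0x8741ef4) (.lf 0x5bf0603)))))) (.nd (.nd (.nd (.nd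 (.nd (.lf 0x558d235) (.lf 0x9304dd4)) (.nd (.lf 0x8e8debb) (.lf 0xc5312e2))) (.nd (.nd (.lf 0x20bea60) (.lf 0xec02191)) (.nd (.lf 0xe73dd9b) (.lf 0xc0e8bc)))) (.nd (.nd (.nd (.lf 0xdc16712) (.lf 0xa999644)) (.nd (.lf 0xb35522c) (.lf 0x33ad4c7))) (.nd (.nd (.lf 0x6aff9ed) (.lf 0x7c09605)) (.nd (.lf 0xbb6dc53) (.lf 0xa796dc6))))) (.nd (.nd (.nd (.nd (.lf 0xc2dc045) (.lf 0xfad7cfe)) (.nd (.lf 0x93b3e8e) (.lf 0xcd65cb7))) (.nd (.nd (.lf 0xf385e7e) (.lf 0x199fea3)) (.nd (.lf 0x2adcac7) (.lf 0x6fd694e)))) (.nd (.nd (.nd (.lf 0x50c2986) (.lf 0x2043222)) (.nd (.lf 0x6d2630) (.lf 0x95969f7))) (.nd (.nd (.lf 0x304515c) (.lf 0xb7184fe)) (.nd (.lf 0x2dcd328) (.lf 0xf571972)))))))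
def ptT_nbabbab : Tr := (.nd (.nd (.nd (.nd (.nd (.nd (.lf 0x13dfdfb) (.lf 0xedc5e22)) (.nd (.lf 0x2a32737) (.lf 0x5451f19))) (.nd (.nd (.lf 0x1f878d6) (.lf 0x857152)) (.nd (.lf 0x4326c2e) (.lf 0xb4b6c85)))) (.nd (.nd (.nd (.lf 0x257fd06) (.lf 0x979b63e)) (.nd (.lf 0xd119b80) (.lf 0xa63e208))) (.nd (.nd (.lf 0x6ee0287) (.lf 0xc93618a)) (.nd (.lf 0x571dac4) (.lf 0x4e76fbf))))) (.nd (.nd (.nd (.nd (.lf 0x9960c8e) (.lf 0xb56ea73)) (.nd (.lf 0x755f7b0) (.lf 0x883d89e))) (.nd (.nd (.lf 0x236b2ce) (.lf 0xa8e51f4)) (.nd (.lf 0x75f1df2) (.lf 0xfdd2b2)))) (.nd (.nd (.nd (.lf 0xdc6fed9) (.lf 0x2aae5ce)) (.nd (.lf 0x1a0730b) (.lf 0x915886a))) (.nd (.nd (.lf 0xf5eff6) (.lf 0x4ea12b9)) (.nd (.lf 0xb0a9e96) (.lf 0x4cde330)))))) (.nd (.nd (.nd (.nd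 (.nd (.lf 0xd926690) (.lf 0x3403852)) (.nd (.lf 0x1b4c49f) (.lf 0x9b2b54a))) (.nd (.nd (.lf 0xd0ba868) (.lf 0x3837e97)) (.nd (.lf 0xa2c7332) (.lf 0x22d3213)))) (.nd (.nd (.nd (.lf 0x5319b2d) (.lf 0x5952780)) (.nd (.lf 0x78474a3) (.lf 0x6c82737))) (.nd (.nd (.lf 0x7071cc2) (.lf 0x68eafed)) (.nd (.lf 0xf2aa278) (.lf 0x82d3386))))) (.nd (.nd (.nd (.nd (.lf 0xfaf1769) (.lf 0x49332ba)) (.nd (.lf 0x9092c8f) (.lf 0x55672ce))) (.nd (.nd (.lf 0xe52727e) (.lf 0xbe1713e)) (.nd (.lf 0xadc971b) (.lf 0x8aadaa)))) (.nd (.nd (.nd (.lf 0xdc95b0) (.lf 0x5bc5fc7)) (.nd (.lf 0xdb9326e) (.lf 0xe8ebe4c))) (.nd (.nd (.lf 0xf28f984) (.lf 0x18ea961)) (.nd (.lf 0x42095d0) (.lf 0)))))))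
def ptT_nbabbba : Tr := (.nd (.nd (.nd (.nd (.nd (.nd (.lf 0x97581c) (.lf 0xb818f2a)) (.nd (.lf 0x21545ef) (.lf 0x1b612ac))) (.nd (.nd (.lf 0x8a68f42) (.lf 0xa5017eb)) (.nd (.lf 0x6ae1ba4) (.lf 0x8265eda)))) (.nd (.nd (.nd (.lf 0x6248ec8) (.lf 0x73011f6)) (.nd (.lf 0x8160e93) (.lf 0xdba48eb))) (.nd (.nd (.lf 0x6b048f4) (.lf 0x12dcc8d)) (.nd (.lf 0x79e22d) (.lf 0x2816c12))))) (.nd (.nd (.nd (.nd (.lf 0x73996bf) (.lf 0x44f9e7b)) (.nd (.lf 0xc3802d0) (.lf 0x4bedfa1))) (.nd (.nd (.lf 0x323703d) (.lf 0xf5ae599)) (.nd (.lf 0xa19fd3e) (.lf 0x9ef7003)))) (.nd (.nd (.nd (.lf 0xc5ae79c) (.lf 0xeb0b7d5)) (.nd (.lf 0x7f76130) (.lf 0xea2e20d))) (.nd (.nd (.lf 0x6e401a4) (.lf 0x71524ac)) (.nd (.lf 0xf25b033) (.lf 0x1334ce8)))))) (.nd (.nd (.nd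 (.nd (.nd (.lf 0x169a479) (.lf 0x45360c4)) (.nd (.lf 0x20dee2d) (.lf 0x68bb74b))) (.nd (.nd (.lf 0x620e21) (.lf 0xde98e4e)) (.nd (.lf 0x5efd81c) (.lf 0xc1df12c)))) (.nd (.nd (.nd (.lf 0x9810520) (.lf 0x9d4c6e7)) (.nd (.lf 0x411cb3a) (.lf 0xe0d466))) (.nd (.nd (.lf 0x77367c7) (.lf 0x319ff10)) (.nd (.lf 0x3eca274) (.lf 0xbe99e79))))) (.nd (.nd (.nd (.nd (.lf 0x446feee) (.lf 0xad1a2bd)) (.nd (.lf 0xe995d72) (.lf 0x394c89a))) (.nd (.nd (.lf 0xffb1054) (.lf 0x53eff49)) (.nd (.lf 0xc7eec8e) (.lf 0x8a4a8c2)))) (.nd (.nd (.nd (.lf 0xcf52c74) (.lf 0xdb96a4f)) (.nd (.lf 0x8f3c6c4) (.lf 0xfc2c4fb))) (.nd (.nd (.lf 0xbbab01b) (.lf 0xd285e1f)) (.nd (.lf 0x1c7cee0) (.lf 0)))))))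
def ptT_nbabbbb : Tr := (.nd (.nd (.nd (.nd (.nd (.nd (.lf 0x4a5493b) (.lf 0xf1ba38e)) (.nd (.lf 0x3a2c17) (.lf 0x1f762d6))) (.nd (.nd (.lf 0x1f124c8) (.lf 0x64adc1)) (.nd (.lf 0x3eea234) (.lf 0x93e1838)))) (.nd (.nd (.nd (.lf 0xffc6e30) (.lf 0x3fe463)) (.nd (.lf 0xe81ae9d) (.lf 0x83f89a1))) (.nd (.nd (.lf 0xbe24f91) (.lf 0x5f32645)) (.nd (.lf 0xaf5a271) (.lf 0xcd372ae))))) (.nd (.nd (.nd (.nd (.lf 0x7756260) (.lf 0x692e3f8)) (.nd (.lf 0xc887aad) (.lf 0x98a212c))) (.nd (.nd (.lf 0x348e4e0) (.lf 0xe68ef94)) (.nd (.lf 0xcd342ae) (.lf 0x3cf9946)))) (.nd (.nd (.nd (.lf 0x9496c8f) (.lf 0x39bbbbe)) (.nd (.lf 0x4f52c7c) (.lf 0x1bb86bd))) (.nd (.nd (.lf 0x7c536c6) (.lf 0x3956f7a)) (.nd (.lf 0xa3b6a24) (.lf 0xdcd506)))))) (.nd (.nd (.nd (.nd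 (.nd (.lf 0x4b17620) (.lf 0x3d18cca)) (.nd (.lf 0xcfd2c88) (.lf 0xc5902b4))) (.nd (.nd (.lf 0x6193ebc) (.lf 0x61fefd3)) (.nd (.lf 0x8f38cb7) (.lf 0x31a589d)))) (.nd (.nd (.nd (.lf 0xd73c451) (.lf 0x5cda9e2)) (.nd (.lf 0x2837ab0) (.lf 0x657d1b3))) (.nd (.nd (.lf 0x90f360a) (.lf 0x5fd098a)) (.nd (.lf 0xb691e04) (.lf 0x4dae62))))) (.nd (.nd (.nd (.nd (.lf 0xaef9472) (.lf 0xe1788bd)) (.nd (.lf 0xaab23a7) (.lf 0xc1a8474))) (.nd (.nd (.lf 0xf453e72) (.lf 0x9393999)) (.nd (.lf 0xeb9ca41) (.lf 0x97ad661)))) (.nd (.nd (.nd (.lf 0xebe78b1) (.lf 0x4d8be2e)) (.nd (.lf 0xe8cd4d9) (.lf 0xb21af55))) (.nd (.nd (.lf 0x1aa06ae) (.lf 0xde2362a)) (.nd (.lf 0xf3110ea) (.lf 0)))))))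
def ptT_nbbaaaa : Tr := (.nd (.nd (.nd (.nd (.nd (.nd (.lf 0xc04a81f) (.lf 0xa5a78bc)) (.nd (.lf 0x3a3f014) (.lf 0xbe2a61))) (.nd (.nd (.lf 0xbd5ebed) (.lf 0x3eff2a4)) (.nd (.lf 0x44ec977) (.lf 0x88cc090)))) (.nd (.nd (.nd (.lf 0xc4654d9) (.lf 0xe6bc496)) (.nd (.lf 0x9e06e72) (.lf 0x9c5c315))) (.nd (.nd (.lf 0x8d3a907) (.lf 0xba56416)) (.nd (.lf 0xb430e9a) (.lf 0x8c8dabb))))) (.nd (.nd (.nd (.nd (.lf 0xacead7d) (.lf 0xe5e5abb)) (.nd (.lf 0x76d6114) (.lf 0xf6a9244))) (.nd (.nd (.lf 0xc014c79) (.lf 0x7a071a1)) (.nd (.lf 0x5ef76d) (.lf 0x91f4e5)))) (.nd (.nd (.nd (.lf 0x5260177) (.lf 0xb31c738)) (.nd (.lf 0x4c52eaf) (.lf 0x37139e3))) (.nd (.nd (.lf 0xdaa2317) (.lf 0x7825513)) (.nd (.lf 0xd327699) (.lf 0x9b628dc)))))) (.nd (.nd (.nd (.nd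 (.nd (.lf 0x8115a2c) (.lf 0xd0a0c20)) (.nd (.lf 0xfb6ed6e) (.lf 0x3af4a4b))) (.nd (.nd (.lf 0x11b830e) (.lf 0xb0ebefc)) (.nd (.lf 0xb6b0c4c) (.lf 0x65da09f)))) (.nd (.nd (.nd (.lf 0xb4b51ad) (.lf 0xa009d10)) (.nd (.lf 0x3de1208) (.lf 0x5e2f286))) (.nd (.nd (.lf 0xba4c92) (.lf 0x7924bbd)) (.nd (.lf 0x123d2b4) (.lf 0x5251139))))) (.nd (.nd (.nd (.nd (.lf 0x33bd60b) (.lf 0x8715a8a)) (.nd (.lf 0x8d83c19) (.lf 0x8c5a368))) (.nd (.nd (.lf 0x4b8658e) (.lf 0xd039930)) (.nd (.lf 0xf889a56) (.lf 0x9d6e778)))) (.nd (.nd (.nd (.lf 0xefeacd) (.lf 0xa5d9e5f)) (.nd (.lf 0xd999d86) (.lf 0x81c86d8))) (.nd (.nd (.lf 0x842a9cb) (.lf 0x4fcc0d6)) (.nd (.lf 0xa4994f4) (.lf 0x8f8e159)))))))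
def ptT_nbbaaab : Tr := (.nd (.nd (.nd (.nd (.nd (.nd (.lf 0xd307039) (.lf 0xd869ad0)) (.nd (.lf 0x8df252) (.lf 0xc654c74))) (.nd (.nd (.lf 0xe12515a) (.lf 0x607d937)) (.nd (.lf 0x1e8b239) (.lf 0xdd71c0d)))) (.nd (.nd (.nd (.lf 0xdd041ee) (.lf 0x46b0237)) (.nd (.lf 0x967a80d) (.lf 0xb1616fa))) (.nd (.nd (.lf 0x53c1799) (.lf 0x5f78c87)) (.nd (.lf 0x4267bb7) (.lf 0x19b830f))))) (.nd (.nd (.nd (.nd (.lf 0xf5339b0) (.lf 0xe56817d)) (.nd (.lf 0x62a7423) (.lf 0xd3fc39c))) (.nd (.nd (.lf 0xebd9893) (.lf 0x7c8bcd0)) (.nd (.lf 0x710c62e) (.lf 0x211a78e)))) (.nd (.nd (.nd (.lf 0x4e0d462) (.lf 0xbc51dda)) (.nd (.lf 0x799e8b0) (.lf 0x4c3bfb4))) (.nd (.nd (.lf 0x2b98f44) (.lf 0x2cc581d)) (.nd (.lf 0x5ac0c5c) (.lf 0x9aec833)))))) (.nd (.nd (.nd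 (.nd (.nd (.lf 0x456381c) (.lf 0x6315157)) (.nd (.lf 0xcddcd33) (.lf 0x194ca17))) (.nd (.nd (.lf 0x187fe76) (.lf 0xd3e2801)) (.nd (.lf 0xbba9da3) (.lf 0x1c1efca)))) (.nd (.nd (.nd (.lf 0xf34142c) (.lf 0x17ac37a)) (.nd (.lf 0xe37ba09) (.lf 0x1bd4757))) (.nd (.nd (.lf 0x70d3ddd) (.lf 0x9b9fea3)) (.nd (.lf 0x8353386) (.lf 0x9cf32e3))))) (.nd (.nd (.nd (.nd (.lf 0x3d27dcb) (.lf 0x58832b4)) (.nd (.lf 0xf4719f2) (.lf 0x916f132))) (.nd (.nd (.lf 0xcd914c1) (.lf 0x165f52c)) (.nd (.lf 0x7f9ca11) (.lf 0x2cbc56)))) (.nd (.nd (.nd (.lf 0x5d71dfe) (.lf 0xf0ba017)) (.nd (.lf 0x8a797a4) (.lf 0x5c95d73))) (.nd (.nd (.lf 0xf786bf4) (.lf 0x25440a3)) (.nd (.lf 0xc3882d1) (.lf 0)))))))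
def ptT_nbbaaba : Tr := (.nd (.nd (.nd (.nd (.nd (.nd (.lf 0x2d3018e) (.lf 0x8aac2b9)) (.nd (.lf 0x823e8ae) (.lf 0x8de640b))) (.nd (.nd (.lf 0xccdb0d4) (.lf 0x9b0b06d)) (.nd (.lf 0xbd67ef2) (.lf 0xb746ad1)))) (.nd (.nd (.nd (.lf 0xc627a11) (.lf 0x4482f0)) (.nd (.lf 0xadba33f) (.lf 0x6f57a3d))) (.nd (.nd (.lf 0x2647ef4) (.lf 0x9c11c8b)) (.nd (.lf 0x75da0c) (.lf 0x5ef67d))))) (.nd (.nd (.nd (.nd (.lf 0x2960c96) (.lf 0xcb3f918)) (.nd (.lf 0x3ce9e63) (.lf 0xdeba294))) (.nd (.nd (.lf 0x68cb5e6) (.lf 0x4cad346)) (.nd (.lf 0x110f46b) (.lf 0x40c31c)))) (.nd (.nd (.nd (.lf 0xc066dd8) (.lf 0x85a55f7)) (.nd (.lf 0x77575a) (.lf 0xd93a09b))) (.nd (.nd (.lf 0xefdd217) (.lf 0xe13ac7a)) (.nd (.lf 0xcaf62d2) (.lf 0x867de7)))))) (.nd (.nd (.nd (.nd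 (.nd (.lf 0x8ac72e3) (.lf 0xece4a0d)) (.nd (.lf 0x7c7a856) (.lf 0x5e66a31))) (.nd (.nd (.lf 0xf5466bf) (.lf 0xd8ac29)) (.nd (.lf 0xc79294c) (.lf 0xb973162)))) (.nd (.nd (.nd (.lf 0x14a3863) (.lf 0x7eb75ad)) (.nd (.lf 0xb6d7aa4) (.lf 0xfc9dc29))) (.nd (.nd (.lf 0xd06c516) (.lf 0xfec8da1)) (.nd (.lf 0x7ec5718) (.lf 0x707df34))))) (.nd (.nd (.nd (.nd (.lf 0x2b4b1b6) (.lf 0x672ac8a)) (.nd (.lf 0x66095d0) (.lf 0x2d6b83c))) (.nd (.nd (.lf 0x195b34c) (.lf 0x9cde057)) (.nd (.lf 0x787405c) (.lf 0xfe82df4)))) (.nd (.nd (.nd (.lf 0x63fbdcb) (.lf 0x92e2083)) (.nd (.lf 0x5629092) (.lf 0x908c93a))) (.nd (.nd (.lf 0xfe8d33b) (.lf 0x709798f)) (.nd (.lf 0xaf84713) (.lf 0x51d13fe)))))))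
def ptT_nbbaabb : Tr := (.nd (.nd (.nd (.nd (.nd (.nd (.lf 0xa9154ca) (.lf 0xbcd07ee)) (.nd (.lf 0x67f2d3a) (.lf 0xeba2db1))) (.nd (.nd (.lf 0xa1d9994) (.lf 0xac81be6)) (.nd (.lf 0x67f6e22) (.lf 0x792a5e)))) (.nd (.nd (.nd (.lf 0xee7c75d) (.lf 0x4a8ebb0)) (.nd (.lf 0x531832d) (.lf 0xe12525a))) (.nd (.nd (.lf 0xc4b1669) (.lf 0xd3978ec)) (.nd (.lf 0x79aedb) (.lf 0xda844f8))))) (.nd (.nd (.nd (.nd (.lf 0xd89766f) (.lf 0x9b13c6b)) (.nd (.lf 0xfafba79) (.lf 0x13f99e9))) (.nd (.nd (.lf 0xb545964) (.lf 0x92df20a)) (.nd (.lf 0x1fef400) (.lf 0xa9c4401)))) (.nd (.nd (.nd (.lf 0x6026bbe) (.lf 0x5879216)) (.nd (.lf 0x200806e) (.lf 0x73038f3))) (.nd (.nd (.lf 0x8089c7b) (.lf 0x1a27101)) (.nd (.lf 0x7054329) (.lf 0xeb57a24)))))) (.nd (.nd (.nd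 (.nd (.nd (.lf 0xb3c86f7) (.lf 0xf905458)) (.nd (.lf 0x50503f6) (.lf 0x7553732))) (.nd (.nd (.lf 0x1aceeed) (.lf 0xbdd62ff)) (.nd (.lf 0x683a54f) (.lf 0x4be560c)))) (.nd (.nd (.nd (.lf 0x8500e1b) (.lf 0x4e2e564)) (.nd (.lf 0x3b5d3a9) (.lf 0xba86457))) (.nd (.nd (.lf 0xf89d331) (.lf 0x1f12c27)) (.nd (.lf 0x554ed2d) (.lf 0xf65846a))))) (.nd (.nd (.nd (.nd (.lf 0xe5d2ef8) (.lf 0x3b0736a)) (.nd (.lf 0xdc8cfc6) (.lf 0x4692291))) (.nd (.nd (.lf 0x8b9381c) (.lf 0xfd781f3)) (.nd (.lf 0x93d34cc) (.lf 0x8dc0bcf)))) (.nd (.nd (.nd (.lf 0x5912d2e) (.lf 0x55e2b2a)) (.nd (.lf 0x7b77868) (.lf 0x49b6b5e))) (.nd (.nd (.lf 0x320de21) (.lf 0x1c3af59)) (.nd (.lf 0x5a36102) (.lf 0)))))))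
def ptT_nbbabaa : Tr := (.nd (.nd (.nd (.nd (.nd (.nd (.lf 0x3d3335) (.lf 0x33cf4be)) (.nd (.lf 0x1558c77) (.lf 0xa1ed5a8))) (.nd (.nd (.lf 0xbe52416) (.lf 0x42ddd48)) (.nd (.lf 0x4e34afe) (.lf 0x37f56d0)))) (.nd (.nd (.nd (.lf 0xa369f74) (.lf 0xf9854d8)) (.nd (.lf 0xc834a2a) (.lf 0xce7ea6d))) (.nd (.nd (.lf 0x8fa4c5c) (.lf 0x44f1ebf)) (.nd (.lf 0x5beca15) (.lf 0x60dc770))))) (.nd (.nd (.nd (.nd (.lf 0x81aecd4) (.lf 0x848f902)) (.nd (.lf 0x681d674) (.lf 0x7b327da))) (.nd (.nd (.lf 0x4ff9c89) (.lf 0x7605b1e)) (.nd (.lf 0x143aeb5) (.lf 0xd564008)))) (.nd (.nd (.nd (.lf 0x1cacd2b) (.lf 0x4709d5e)) (.nd (.lf 0x362a1ff) (.lf 0x47d8935))) (.nd (.nd (.lf 0x75df522) (.lf 0x440f13a)) (.nd (.lf 0xe98c553) (.lf 0xd3a8a53)))))) (.nd (.nd (.nd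 (.nd (.nd (.lf 0x7ee920d) (.lf 0x11096fc)) (.nd (.lf 0x887ca23) (.lf 0x8c1176f))) (.nd (.nd (.lf 0x8170de) (.lf 0x107e6e3)) (.nd (.lf 0xd53e0cb) (.lf 0x80e1076)))) (.nd (.nd (.nd (.lf 0xa695e35) (.lf 0xdf900f6)) (.nd (.lf 0x48152fc) (.lf 0xcc44e86))) (.nd (.nd (.lf 0x7a4e733) (.lf 0xb915e4)) (.nd (.lf 0xe062d0a) (.lf 0x5dbd0a8))))) (.nd (.nd (.nd (.nd (.lf 0xa9fc308) (.lf 0xa380ac)) (.nd (.lf 0x313da25) (.lf 0x1922c5a))) (.nd (.nd (.lf 0x77ce01e) (.lf 0xaab686a)) (.nd (.lf 0x9e7b6a) (.lf 0x5514a33)))) (.nd (.nd (.nd (.lf 0xdb36003) (.lf 0xfff3b63)) (.nd (.lf 0xc410ee9) (.lf 0x651fcd5))) (.nd (.nd (.lf 0x400) (.lf 0xbb3cb3e)) (.nd (.lf 0xa9dc30c) (.lf 0x4c7ba60)))))))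
def ptT_nbbabab : Tr := (.nd (.nd (.nd (.nd (.nd (.nd (.lf 0xc7cb963) (.lf 0x80da7e0)) (.nd (.lf 0x6e97d60) (.lf 0x691d77a))) (.nd (.nd (.lf 0x10f2ed2) (.lf 0xf6bdabd)) (.nd (.lf 0x1c0fa7f) (.lf 0x7cc4841)))) (.nd (.nd (.nd (.lf 0xa7d95e9) (.lf 0xa0362f9)) (.nd (.lf 0xeec94cf) (.lf 0xf34ee1b))) (.nd (.nd (.lf 0x5751dd) (.lf 0x4754b93)) (.nd (.lf 0x1fb4c54) (.lf 0x60360f4))))) (.nd (.nd (.nd (.nd (.lf 0xe5e6539) (.lf 0x8000000)) (.nd (.lf 0xdfa9fac) (.lf 0xf1e495e))) (.nd (.nd (.lf 0x2576390) (.lf 0x3596b5c)) (.nd (.lf 0x556d0b0) (.lf 0xc6f8ca4)))) (.nd (.nd (.nd (.lf 0x69a43c2) (.lf 0x7359e79)) (.nd (.lf 0x6d3f132) (.lf 0x1a05667))) (.nd (.nd (.lf 0x21b3a60) (.lf 0x44d2ea9)) (.nd (.lf 0xed41d33) (.lf 0x18418d9)))))) (.nd (.nd (.nd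 (.nd (.nd (.lf 0xbe37144) (.lf 0x52a0c36)) (.nd (.lf 0x5ac06b1) (.lf 0xea56aae))) (.nd (.nd (.lf 0xa5724eb) (.lf 0x46b462d)) (.nd (.lf 0xe40a967) (.lf 0x347922d)))) (.nd (.nd (.nd (.lf 0x3e0af2c) (.lf 0x1cb9e01)) (.nd (.lf 0xa1106a4) (.lf 0x626f36d))) (.nd (.nd (.lf 0x3f26991) (.lf 0x12a705b)) (.nd (.lf 0xe7ac6f7) (.lf 0x9170d5d))))) (.nd (.nd (.nd (.nd (.lf 0xd56fc9e) (.lf 0xeb4b0ba)) (.nd (.lf 0xcfef32e) (.lf 0xc1fbb14))) (.nd (.nd (.lf 0xff266df) (.lf 0x630021c)) (.nd (.lf 0x4721e54) (.lf 0xdbe0d7d)))) (.nd (.nd (.nd (.lf 0xe78764c) (.lf 0xb6b0b30)) (.nd (.lf 0xcd2c121) (.lf 0x33c818b))) (.nd (.nd (.lf 0x475e9dc) (.lf 0xc9002a1)) (.nd (.lf 0xa3e7332) (.lf 0)))))))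
def ptT_nbbabba : Tr := (.nd (.nd (.nd (.nd (.nd (.nd (.lf 0x2e200e0) (.lf 0xa2b2eab)) (.nd (.lf 0xc0cb7e3) (.lf 0x28bf676))) (.nd (.nd (.lf 0x3d6caab) (.lf 0x16e01c0)) (.nd (.lf 0x1a24603) (.lf 0xf82a85f)))) (.nd (.nd (.nd (.lf 0xd5672b) (.lf 0x8917555)) (.nd (.lf 0xf733423) (.lf 0xf7e9c1c))) (.nd (.nd (.lf 0x16c9464) (.lf 0xb29db8)) (.nd (.lf 0xe3c7bb0) (.lf 0x2be1326))))) (.nd (.nd (.nd (.nd (.lf 0x51bac4e) (.lf 0xbb2a2fb)) (.nd (.lf 0x2c8c2a2) (.lf 0x50a9a6e))) (.nd (.nd (.lf 0xdfd84ee) (.lf 0x7085065)) (.nd (.lf 0x6cd860) (.lf 0xb614b4c)))) (.nd (.nd (.nd (.lf 0x816f2f1) (.lf 0x1e384c2)) (.nd (.lf 0xd145c7c) (.lf 0xf236307))) (.nd (.nd (.lf 0x58a7461) (.lf 0xfacf241)) (.nd (.lf 0x620f42b) (.lf 0xfc82d62)))))) (.nd (.nd (.nd (.nd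 (.nd (.lf 0xb9f5a23) (.lf 0xdb17e59)) (.nd (.lf 0xe3cb073) (.lf 0x35d124a))) (.nd (.nd (.lf 0x8d74541) (.lf 0x76cea46)) (.nd (.lf 0x7c8f8d9) (.lf 0x69c3548)))) (.nd (.nd (.nd (.lf 0x3b87449) (.lf 0x6a7ac37)) (.nd (.lf 0x87b561e) (.lf 0x8865f70))) (.nd (.nd (.lf 0x3639837) (.lf 0x5bf5512)) (.nd (.lf 0x354164c) (.lf 0x1bfad95))))) (.nd (.nd (.nd (.nd (.lf 0x1b832cc) (.lf 0xef034d5)) (.nd (.lf 0x6550471) (.lf 0x4f3945e))) (.nd (.nd (.lf 0x586e382) (.lf 0x141cab6)) (.nd (.lf 0xa659669) (.lf 0x2f95c5f)))) (.nd (.nd (.nd (.lf 0x4923f72) (.lf 0xfbc3396)) (.nd (.lf 0x1697fcf) (.lf 0x61b6540))) (.nd (.nd (.lf 0x2c11d92) (.lf 0xf785edc)) (.nd (.lf 0xca93fb2) (.lf 0x403e252)))))))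
def ptT_nbbabbb : Tr := (.nd (.nd (.nd (.nd (.nd (.nd (.lf 0xe9114f9) (.lf 0x109e764)) (.nd (.lf 0xeb43905) (.lf 0x40c05ad))) (.nd (.nd (.lf 0x55bc0db) (.lf 0x8b99bf7)) (.nd (.lf 0x3570c19) (.lf 0x52e1b43)))) (.nd (.nd (.nd (.lf 0xc2091d0) (.lf 0xd4b12e0)) (.nd (.lf 0xa226c55) (.lf 0xb8622a3))) (.nd (.nd (.lf 0xee7642) (.lf 0x2368354)) (.nd (.lf 0x8c01947) (.lf 0xa5e1a8b))))) (.nd (.nd (.nd (.nd (.lf 0xedce494) (.lf 0xe64217c)) (.nd (.lf 0x26ad75f) (.lf 0x5e871b))) (.nd (.nd (.lf 0x39b849d) (.lf 0x8a7560d)) (.nd (.lf 0x659ec16) (.lf 0xff717d8)))) (.nd (.nd (.nd (.lf 0x4fc0020) (.lf 0xea63905)) (.nd (.lf 0x8a65f36) (.lf 0x5837eda))) (.nd (.nd (.lf 0xc7a68a2) (.lf 0xc91f6e8)) (.nd (.lf 0xf35c5a) (.lf 0xc623361)))))) (.nd (.nd (.nd (.nd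 (.nd (.lf 0xe6cac4) (.lf 0x6dad9cb)) (.nd (.lf 0x2dc0d9c) (.lf 0x3377e8a))) (.nd (.nd (.lf 0xfa9dfe7) (.lf 0xc1cd126)) (.nd (.lf 0x774df46) (.lf 0xf94c12c)))) (.nd (.nd (.nd (.lf 0xd56fcae) (.lf 0xfe5a4dd)) (.nd (.lf 0x749a840) (.lf 0x4698237))) (.nd (.nd (.lf 0x46d3630) (.lf 0x57ebd77)) (.nd (.lf 0xb140b9a) (.lf 0x188a029))))) (.nd (.nd (.nd (.nd (.lf 0x668a871) (.lf 0xf41131d)) (.nd (.lf 0x58d4a27) (.lf 0x55e4723))) (.nd (.nd (.lf 0xed04833) (.lf 0xe5f9e24)) (.nd (.lf 0x9530a90) (.lf 0xd7ebd49)))) (.nd (.nd (.nd (.lf 0x4681746) (.lf 0x5b889ee)) (.nd (.lf 0xe677156) (.lf 0xba4b278))) (.nd (.nd (.lf 0x41fe09a) (.lf 0xcaa6b3b)) (.nd (.lf 0xe651782) (.lf 0)))))))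
def ptT_nbbbaaa : Tr := (.nd (.nd (.nd (.nd (.nd (.nd (.lf 0x3187897) (.lf 0xd7c5680)) (.nd (.lf 0x714c1fd) (.lf 0xace53b7))) (.nd (.nd (.lf 0x4004233) (.lf 0xbfb0493)) (.nd (.lf 0xb1338f1) (.lf 0x7702cf)))) (.nd (.nd (.nd (.lf 0x83563e3) (.lf 0xe467516)) (.nd (.lf 0xe2563e3) (.lf 0xe1faabe))) (.nd (.nd (.lf 0x24cd860) (.lf 0xa741f65)) (.nd (.lf 0x34f0453) (.lf 0xac19649))))) (.nd (.nd (.nd (.nd (.lf 0x958fc6e) (.lf 0x3ccbaed)) (.nd (.lf 0x3d67c47) (.lf 0xbee0897))) (.nd (.nd (.lf 0xfdabf01) (.lf 0x2973da4)) (.nd (.lf 0x33a2ed5) (.lf 0x506be53)))) (.nd (.nd (.nd (.lf 0x79e48a7) (.lf 0xbcf1fd3)) (.nd (.lf 0x8dabb95) (.lf 0xb3fd0a))) (.nd (.nd (.lf 0x8e6c1e9) (.lf 0xbe08d12)) (.nd (.lf 0xf287985) (.lf 0xab3b4ce)))))) (.nd (.nd (.nd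 (.nd (.nd (.lf 0xfcb46f4) (.lf 0xfafba68)) (.nd (.lf 0x2bc823) (.lf 0xa9ffdd2))) (.nd (.nd (.lf 0xe73cb8f) (.lf 0x8368d93)) (.nd (.lf 0xe708107) (.lf 0x519f5e2)))) (.nd (.nd (.nd (.lf 0x2a212e0) (.lf 0x9c982e8)) (.nd (.lf 0x58608ac) (.lf 0x8c8defb))) (.nd (.nd (.lf 0x796290f) (.lf 0x9ab7003)) (.nd (.lf 0x7905e0c) (.lf 0xb858785))))) (.nd (.nd (.nd (.nd (.lf 0x4d8dc00) (.lf 0xa8afb36)) (.nd (.lf 0x35c8fde) (.lf 0x1a37a93))) (.nd (.nd (.lf 0x547e8db) (.lf 0x7075c74)) (.nd (.lf 0xf63188c) (.lf 0xdccdfc6)))) (.nd (.nd (.nd (.lf 0xa3d9759) (.lf 0x5226b46)) (.nd (.lf 0x39583f3) (.lf 0x586281a))) (.nd (.nd (.lf 0x6563eb6) (.lf 0x853f522)) (.nd (.lf 0x6b9c84b) (.lf 0x34a0095)))))))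
def ptT_nbbbaab : Tr := (.nd (.nd (.nd (.nd (.nd (.nd (.lf 0x268e6fe) (.lf 0x4ef9998)) (.nd (.lf 0x78efd2a) (.lf 0xefedcc6))) (.nd (.nd (.lf 0xaefbbf4) (.lf 0x9b12d3c)) (.nd (.lf 0x80e6000) (.lf 0xda501a4)))) (.nd (.nd (.nd (.lf 0xf4af5c) (.lf 0xcef3eb9)) (.nd (.lf 0x7ec1292) (.lf 0xa29f9e9))) (.nd (.nd (.lf 0xdfe7d77) (.lf 0x950ec6e)) (.nd (.lf 0xbee6a9e) (.lf 0xc265342))))) (.nd (.nd (.nd (.nd (.lf 0x6502057) (.lf 0x72c896b)) (.nd (.lf 0x1caa435) (.lf 0x82d8272))) (.nd (.nd (.lf 0x90399b7) (.lf 0xeb0702a)) (.nd (.lf 0xa6c1096) (.lf 0xd47aa35)))) (.nd (.nd (.nd (.lf 0xd04ccb6) (.lf 0xb0b730d)) (.nd (.lf 0xb947d5e) (.lf 0xad86de))) (.nd (.nd (.lf 0x9637ebf) (.lf 0x6f128b3)) (.nd (.lf 0x7aae249) (.lf 0xde5e201)))))) (.nd (.nd (.nd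 (.nd (.nd (.lf 0xb425e36) (.lf 0x8af504d)) (.nd (.lf 0x55edc77) (.lf 0x26c3adb))) (.nd (.nd (.lf 0x623c494) (.lf 0x8f1d97)) (.nd (.lf 0x9eb804) (.lf 0x2f4f4aa)))) (.nd (.nd (.nd (.lf 0x5beda35) (.lf 0xad3418e)) (.nd (.lf 0x12352ba) (.lf 0xf706e70))) (.nd (.nd (.lf 0x7bc980d) (.lf 0xfb2245c)) (.nd (.lf 0xcef7f2) (.lf 0xd237c03))))) (.nd (.nd (.nd (.nd (.lf 0x870ea65) (.lf 0xacf9e66)) (.nd (.lf 0xeb75ed0) (.lf 0x7c27c7f))) (.nd (.nd (.lf 0xe9e2550) (.lf 0x2b8b63a)) (.nd (.lf 0x295649e) (.lf 0xe8a2e47)))) (.nd (.nd (.nd (.lf 0x4fd090a) (.lf 0xb82b1b5)) (.nd (.lf 0xeb6cd6e) (.lf 0xcc84651))) (.nd (.nd (.lf 0xd5abf01) (.lf 0xe49a3d4)) (.nd (.lf 0x436e0ab) (.lf 0)))))))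
def ptT_nbbbaba : Tr := (.nd (.nd (.nd (.nd (.nd (.nd (.lf 0xd13faac) (.lf 0x8d81503)) (.nd (.lf 0xe9916bf) (.lf 0xc5ca63b))) (.nd (.nd (.lf 0x2257c19) (.lf 0x5bf2f06)) (.nd (.lf 0x1d813ea) (.lf 0xe109640)))) (.nd (.nd (.nd (.lf 0x869ae68) (.lf 0x1e07e5b)) (.nd (.lf 0x354ffe8) (.lf 0x6f2b1ca))) (.nd (.nd (.lf 0xb9d871b) (.lf 0xc4bcd3b)) (.nd (.lf 0x2b27bde) (.lf 0x399d46b))))) (.nd (.nd (.nd (.nd (.lf 0xe105258) (.lf 0xcc5d03d)) (.nd (.lf 0x45428d8) (.lf 0x4a3bf77))) (.nd (.nd (.lf 0x9fe42ac) (.lf 0x3f957bb)) (.nd (.lf 0x3eeb0be) (.lf 0xa18faa8)))) (.nd (.nd (.nd (.lf 0x898b44) (.lf 0x94a3643)) (.nd (.lf 0x82143a1) (.lf 0xcf31adc))) (.nd (.nd (.lf 0x264709d) (.lf 0xf8af130)) (.nd (.lf 0xfa53fef) (.lf 0x55a123b)))))) (.nd (.nd (.nd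 (.nd (.nd (.lf 0x5dd16f5) (.lf 0x48033a8)) (.nd (.lf 0x1b140fe) (.lf 0x5fc74f))) (.nd (.nd (.lf 0xd086514) (.lf 0xe0fb8ce)) (.nd (.lf 0xf1116aa) (.lf 0xb31b2bf)))) (.nd (.nd (.nd (.lf 0x56de390) (.lf 0x8a1deb4)) (.nd (.lf 0xf064538) (.lf 0x44184af))) (.nd (.nd (.lf 0x87c2837) (.lf 0x6c45b77)) (.nd (.lf 0xf53722a) (.lf 0x22d1b5f))))) (.nd (.nd (.nd (.nd (.lf 0x5c7d271) (.lf 0xeb98032)) (.nd (.lf 0x63ad073) (.lf 0x887c44a))) (.nd (.nd (.lf 0xf894541) (.lf 0xce72455)) (.nd (.lf 0xcfa4c4c) (.lf 0xca49719)))) (.nd (.nd (.nd (.lf 0x158cc8a) (.lf 0x4000000)) (.nd (.lf 0x8ad7bd8) (.lf 0xe05c23))) (.nd (.nd (.lf 0x80c257e) (.lf 0x552afee)) (.nd (.lf 0x31c7cfd) (.lf 0x840fe5b)))))))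
def ptT_nbbbabb : Tr := (.nd (.nd (.nd (.nd (.nd (.nd (.lf 0xbf39b60) (.lf 0xe13f02b)) (.nd (.lf 0xf52efde) (.lf 0xe1b55dd))) (.nd (.nd (.lf 0x4246dff) (.lf 0x9c956cd)) (.nd (.lf 0x44e1929) (.lf 0x61fad3e)))) (.nd (.nd (.nd (.lf 0x709ea0) (.lf 0xa8fc8df)) (.nd (.lf 0x6034794) (.lf 0x1a08242))) (.nd (.nd (.lf 0x3fd3249) (.lf 0xfd5697e)) (.nd (.lf 0x5b6cb9e) (.lf 0xd837c29))))) (.nd (.nd (.nd (.nd (.lf 0x8f254f9) (.lf 0x10ae233)) (.nd (.lf 0x410e34b) (.lf 0x97f5ead))) (.nd (.nd (.lf 0x86184bd) (.lf 0x3d2afae)) (.nd (.lf 0xe6e55bb) (.lf 0x6d1e8a2)))) (.nd (.nd (.nd (.lf 0x9b0ba55) (.lf 0x1510e9e)) (.nd (.lf 0xb9b9de7) (.lf 0x5278e53))) (.nd (.nd (.lf 0x9b34b54) (.lf 0x2b9bda6)) (.nd (.lf 0x6b54f21) (.lf 0x36118a8)))))) (.nd (.nd (.nd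 (.nd (.nd (.lf 0x9c5ea10) (.lf 0x531ff20)) (.nd (.lf 0x1f25ffa) (.lf 0x4431d13))) (.nd (.nd (.lf 0xf2fdf7) (.lf 0x456782e)) (.nd (.lf 0x2094b3a) (.lf 0x52386a4)))) (.nd (.nd (.nd (.lf 0xf689a20) (.lf 0x18feeec)) (.nd (.lf 0xa30386f) (.lf 0xa713e13))) (.nd (.nd (.lf 0x777426a) (.lf 0x9d6ebc0)) (.nd (.lf 0x213fa9b) (.lf 0xc24ccd5))))) (.nd (.nd (.nd (.nd (.lf 0x4a5c965) (.lf 0x344aec0)) (.nd (.lf 0x1e2ab51) (.lf 0xf9794a3))) (.nd (.nd (.lf 0x908cf7d) (.lf 0xb3a6b73)) (.nd (.lf 0xfefde4f) (.lf 0x79e8825)))) (.nd (.nd (.nd (.lf 0x3cb89f1) (.lf 0xe3008f9)) (.nd (.lf 0xec2a291) (.lf 0x5ca9667))) (.nd (.nd (.lf 0xfa58b23) (.lf 0x95625d8)) (.nd (.lf 0xcbf9ece) (.lf 0)))))))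
def ptT_nbbbbaa : Tr := (.nd (.nd (.nd (.nd (.nd (.nd (.lf 0xc0f4255) (.lf 0x5c841a1)) (.nd (.lf 0x11103ce) (.lf 0xdcdd777))) (.nd (.nd (.lf 0x4a2e6f6) (.lf 0x17a2ad4)) (.nd (.lf 0x3556af9) (.lf 0x2ce51bd)))) (.nd (.nd (.nd (.lf 0xbe1dee8) (.lf 0xa60dc6e)) (.nd (.lf 0x7c66616) (.lf 0x4b979dd))) (.nd (.nd (.lf 0xdde0a0b) (.lf 0x44dae63)) (.nd (.lf 0xae4c8a7) (.lf 0x7bb86f0))))) (.nd (.nd (.nd (.nd (.lf 0x5fdf8b8) (.lf 0x67c9990)) (.nd (.lf 0x2173c48) (.lf 0xd2bc4f4))) (.nd (.nd (.lf 0xaa25e67) (.lf 0x61253a9)) (.nd (.lf 0xb215fd) (.lf 0xb0ea6fc)))) (.nd (.nd (.nd (.lf 0x423fc64) (.lf 0xefd5b88)) (.nd (.lf 0x65a4eb) (.lf 0x681b6c9))) (.nd (.nd (.lf 0x4acfe00) (.lf 0x67a7fdd)) (.nd (.lf 0x95b09d8) (.lf 0x9a9c057)))))) (.nd (.nd (.nd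 (.nd (.nd (.lf 0xade73b7) (.lf 0x997affc)) (.nd (.lf 0x8a297a4) (.lf 0xba4cafd))) (.nd (.nd (.lf 0xa865bb6) (.lf 0x6ea75fd)) (.nd (.lf 0x113cd58) (.lf 0xcf43227)))) (.nd (.nd (.nd (.lf 0x1da51cd) (.lf 0xdd3c6e7)) (.nd (.lf 0x3d73f66) (.lf 0xecf67ea))) (.nd (.nd (.lf 0xe31cd3e) (.lf 0x9a8c790)) (.nd (.lf 0xb596c39) (.lf 0x2a61052))))) (.nd (.nd (.nd (.nd (.lf 0x6402e1f) (.lf 0xf5ab048)) (.nd (.lf 0x76d14bd) (.lf 0xacceacc))) (.nd (.nd (.lf 0xa95044a) (.lf 0x808d6b2)) (.nd (.lf 0x90bcc6d) (.lf 0xba1ab78)))) (.nd (.nd (.nd (.lf 0x2d7c2) (.lf 0xe034617)) (.nd (.lf 0x1e6479d) (.lf 0x24ae4ea))) (.nd (.nd (.lf 0x80ff23d) (.lf 0xe1dbab4)) (.nd (.lf 0x9f4cb3a) (.lf 0x7fd690b)))))))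
def ptT_nbbbbab : Tr := (.nd (.nd (.nd (.nd (.nd (.nd (.lf 0x76d0cf3) (.lf 0xec80a8d)) (.nd (.lf 0xa713e1a) (.lf 0x532a744))) (.nd (.nd (.lf 0x61d7ec7) (.lf 0xc3b706e)) (.nd (.lf 0xdb61a43) (.lf 0xc0d5a68)))) (.nd (.nd (.nd (.lf 0xde1da03) (.lf 0xe89222e)) (.nd (.lf 0x2e5aef3) (.lf 0xecc1cf))) (.nd (.nd (.lf 0xcc21bca) (.lf 0x51550ef)) (.nd (.lf 0xdee9f33) (.lf 0x2f1e18a))))) (.nd (.nd (.nd (.nd (.lf 0x5b6599) (.lf 0x81c093)) (.nd (.lf 0xdd2406a) (.lf 0xa9a1a72))) (.nd (.nd (.lf 0x4f9878f) (.lf 0x70e9943)) (.nd (.lf 0x8d8db83) (.lf 0x2f9d14a)))) (.nd (.nd (.nd (.lf 0x5a10ed4) (.lf 0x7c2f29f)) (.nd (.lf 0x629fb77) (.lf 0x1956b7a))) (.nd (.nd (.lf 0xf93895d) (.lf 0x3c60fd5)) (.nd (.lf 0xe4a95b8) (.lf 0x2054ac3)))))) (.nd (.nd (.nd (.nd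 (.nd (.lf 0x175f545) (.lf 0x2d8e2d)) (.nd (.lf 0x366ea0c) (.lf 0x7353c35))) (.nd (.nd (.lf 0x23d7fe3) (.lf 0xf9a0871)) (.nd (.lf 0x8a80dae) (.lf 0xd5fca9a)))) (.nd (.nd (.nd (.lf 0x311eef6) (.lf 0xd5959e9)) (.nd (.lf 0x38c53c9) (.lf 0x4e4bd76))) (.nd (.nd (.lf 0xd9f0e94) (.lf 0x3ff3209)) (.nd (.lf 0x5d889e0) (.lf 0x18469fd))))) (.nd (.nd (.nd (.nd (.lf 0x907edce) (.lf 0x7a4337f)) (.nd (.lf 0x543d0d9) (.lf 0x424b638))) (.nd (.nd (.lf 0x167aab8) (.lf 0xa66c8a7)) (.nd (.lf 0xb03b0dd) (.lf 0x518baca)))) (.nd (.nd (.nd (.lf 0xd7314e9) (.lf 0x36f4b3a)) (.nd (.lf 0x8258c4a) (.lf 0x895c19c))) (.nd (.nd (.lf 0xc193f60) (.lf 0x43b1e2e)) (.nd (.lf 0x60df23) (.lf 0)))))))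
def ptT_nbbbbba : Tr := (.nd (.nd (.nd (.nd (.nd (.nd (.lf 0x8144e8e) (.lf 0x80d722c)) (.nd (.lf 0x32b382a) (.lf 0x253c311))) (.nd (.nd (.lf 0x3ab6022) (.lf 0x814e9ae)) (.nd (.lf 0x290ec01) (.lf 0xec9a394)))) (.nd (.nd (.nd (.lf 0x87f8b11) (.lf 0xff2b114)) (.nd (.lf 0x5924e69) (.lf 0x38c887f))) (.nd (.nd (.lf 0xd3cff43) (.lf 0x4d69ba3)) (.nd (.lf 0x8f765f6) (.lf 0x6aebba4))))) (.nd (.nd (.nd (.nd (.lf 0xea1895b) (.lf 0x4fa444c)) (.nd (.lf 0x6f32efb) (.lf 0x1183845))) (.nd (.nd (.lf 0xf0858c9) (.lf 0xa374063)) (.nd (.lf 0xdd4b2ed) (.lf 0xbe80543)))) (.nd (.nd (.nd (.lf 0x6435df3) (.lf 0xdd1b5dc)) (.nd (.lf 0xdd850aa) (.lf 0x5926463))) (.nd (.nd (.lf 0x20b9e30) (.lf 0xcee6d1a)) (.nd (.lf 0x1e0b51a) (.lf 0x5d69f60)))))) (.nd (.nd (.nd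 (.nd (.nd (.lf 0x996adfc) (.lf 0x9b9d125)) (.nd (.lf 0x6362f7a) (.lf 0x3310a3b))) (.nd (.nd (.lf 0x49534cd) (.lf 0xf46c516)) (.nd (.lf 0xf385691) (.lf 0x73608b7)))) (.nd (.nd (.nd (.lf 0x72865ff) (.lf 0xcb19e9a)) (.nd (.lf 0x4f50e29) (.lf 0x33ce3db))) (.nd (.nd (.lf 0xddc5135) (.lf 0xc4104af)) (.nd (.lf 0x9ba8453) (.lf 0x73cd912))))) (.nd (.nd (.nd (.nd (.lf 0x63a9c1) (.lf 0x7d69132)) (.nd (.lf 0xabac843) (.lf 0x1751424))) (.nd (.nd (.lf 0xadc161b) (.lf 0x9c07ee4)) (.nd (.lf 0x1e0665b) (.lf 0xae65b37)))) (.nd (.nd (.nd (.lf 0x20000) (.lf 0xd94df7c)) (.nd (.lf 0x241188f) (.lf 0xf054804))) (.nd (.nd (.lf 0x24148bf) (.lf 0xd80b5d0)) (.nd (.lf 0x4f46e6f) (.lf 0)))))))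
def ptT_nbbbbbb : Tr := (.nd (.nd (.nd (.nd (.nd (.nd (.lf 0x7f4ab24) (.lf 0xbacd968)) (.nd (.lf 0x5f36677) (.lf 0x5b5feec))) (.nd (.nd (.lf 0x75c2573) (.lf 0x6cee5f7)) (.nd (.lf 0xa9e441b) (.lf 0xa3cc3a4)))) (.nd (.nd (.nd (.lf 0xb6d7aae) (.lf 0xd7330e6)) (.nd (.lf 0x7ce9943) (.lf 0x7888292))) (.nd (.nd (.lf 0x78898a5) (.lf 0x66b28ff)) (.nd (.lf 0x4575b34) (.lf 0xb6d6aaa))))) (.nd (.nd (.nd (.nd (.lf 0x7635a8e) (.lf 0x643f95c)) (.nd (.lf 0x65d6b07) (.lf 0x3057e52))) (.nd (.nd (.lf 0x7d915d8) (.lf 0xfafbe7d)) (.nd (.lf 0xbe0510e) (.lf 0x146a414)))) (.nd (.nd (.nd (.lf 0xfb6e4af) (.lf 0xd22428c)) (.nd (.lf 0xad66560) (.lf 0x9b731c7))) (.nd (.nd (.lf 0x1860692) (.lf 0x14d0743)) (.nd (.lf 0xccdf85d) (.lf 0x3c99e79)))))) (.nd (.nd (.nd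 (.nd (.nd (.lf 0x8d779d) (.lf 0xd4c2b11)) (.nd (.lf 0x5ff652e) (.lf 0x608f944))) (.nd (.nd (.lf 0xe67d3c3) (.lf 0xeecdddf)) (.nd (.lf 0xe7b2bba) (.lf 0x392eaf)))) (.nd (.nd (.nd (.lf 0x1d8e199) (.lf 0x868dcb2)) (.nd (.lf 0xbaedf27) (.lf 0xa13af53))) (.nd (.nd (.lf 0x38167f6) (.lf 0xed865e)) (.nd (.lf 0x20a3c0e) (.lf 0x2e76c70))))) (.nd (.nd (.nd (.nd (.lf 0xceafd76) (.lf 0xc87725)) (.nd (.lf 0x437b7e2) (.lf 0x3be7449))) (.nd (.nd (.lf 0x67fa63a) (.lf 0xd4e2fac)) (.nd (.lf 0x883d041) (.lf 0xedab873)))) (.nd (.nd (.nd (.lf 0xb4a07d2) (.lf 0x4d7fee)) (.nd (.lf 0x6f5f390) (.lf 0xa85d642))) (.nd (.nd (.lf 0x8074463) (.lf 0x4122d95)) (.nd (.lf 0xac0e21b) (.lf 0)))))))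
def ptT : Tr := (.nd (.nd (.nd (.nd (.nd (.nd ptT_naaaaaa ptT_naaaaab) (.nd ptT_naaaaba ptT_naaaabb)) (.nd (.nd ptT_naaabaa ptT_naaabab) (.nd ptT_naaabba ptT_naaabbb))) (.nd (.nd (.nd ptT_naabaaa ptT_naabaab) (.nd ptT_naababa ptT_naababb)) (.nd (.nd ptT_naabbaa ptT_naabbab) (.nd ptT_naabbba ptT_naabbbb)))) (.nd (.nd (.nd (.nd ptT_nabaaaa ptT_nabaaab) (.nd ptT_nabaaba ptT_nabaabb)) (.nd (.nd ptT_nababaa ptT_nababab) (.nd ptT_nababba ptT_nababbb))) (.nd (.nd (.nd ptT_nabbaaa ptT_nabbaab) (.nd ptT_nabbaba ptT_nabbabb)) (.nd (.nd ptT_nabbbaa ptT_nabbbab) (.nd ptT_nabbbba ptT_nabbbbb))))) (.nd (.nd (.nd (.nd (.nd ptT_nbaaaaa ptT_nbaaaab) (.nd ptT_nbaaaba ptT_nbaaabb)) (.nd (.nd ptT_nbaabaa ptT_nbaabab) (.nd ptT_nbaabba ptT_nbaabbb))) (.nd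 (.nd (.nd ptT_nbabaaa ptT_nbabaab) (.nd ptT_nbababa ptT_nbababb)) (.nd (.nd ptT_nbabbaa ptT_nbabbab) (.nd ptT_nbabbba ptT_nbabbbb)))) (.nd (.nd (.nd (.nd ptT_nbbaaaa ptT_nbbaaab) (.nd ptT_nbbaaba ptT_nbbaabb)) (.nd (.nd ptT_nbbabaa ptT_nbbabab) (.nd ptT_nbbabba ptT_nbbabbb))) (.nd (.nd (.nd ptT_nbbbaaa ptT_nbbbaab) (.nd ptT_nbbbaba ptT_nbbbabb)) (.nd (.nd ptT_nbbbbaa ptT_nbbbbab) (.nd ptT_nbbbbba ptT_nbbbbbb))))))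
def rkT_naaaaaa : Tr := (.nd (.nd (.nd (.nd (.nd (.nd (.lf 0x0) (.lf 0x464)) (.nd (.lf 0xa10) (.lf 0x492))) (.nd (.nd (.lf 0x1e6) (.lf 0x71c)) (.nd (.lf 0x6a6) (.lf 0x97b)))) (.nd (.nd (.nd (.lf 0x503) (.lf 0x14d)) (.nd (.lf 0xc72) (.lf 0xe13))) (.nd (.nd (.lf 0x96e) (.lf 0x190)) (.nd (.lf 0x6ae) (.lf 0x6dd))))) (.nd (.nd (.nd (.nd (.lf 0x175) (.lf 0xcfe)) (.nd (.lf 0xcc3) (.lf 0x3c9))) (.nd (.nd (.lf 0xda3) (.lf 0x9a8)) (.nd (.lf 0xa0e) (.lf 0xf87)))) (.nd (.nd (.nd (.lf 0x34a) (.lf 0x7ff)) (.nd (.lf 0x487) (.lf 0xd58))) (.nd (.nd (.lf 0xd3c) (.lf 0x806)) (.nd (.lf 0xaff) (.lf 0xf32)))))) (.nd (.nd (.nd (.nd (.nd (.lf 0x4b9) (.lf 0x6a3)) (.nd (.lf 0x413) (.lf 0x393))) (.nd (.nd (.lf 0xc9) (.lf 0x2ea)) (.nd (.lf 0xcf7) (.lf 0x193))))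 (.nd (.nd (.nd (.lf 0xbb7) (.lf 0xedf)) (.nd (.lf 0x4e0) (.lf 0xc22))) (.nd (.nd (.lf 0x2ac) (.lf 0x77)) (.nd (.lf 0x94d) (.lf 0x225))))) (.nd (.nd (.nd (.nd (.lf 0x5a) (.lf 0xc3a)) (.nd (.lf 0x53c) (.lf 0xd04))) (.nd (.nd (.lf 0x48) (.lf 0x62c)) (.nd (.lf 0xdf) (.lf 0x88f)))) (.nd (.nd (.nd (.lf 0xe49) (.lf 0x9f8)) (.nd (.lf 0x244) (.lf 0x4cc))) (.nd (.nd (.lf 0x11c) (.lf 0x15c)) (.nd (.lf 0xd7f) (.lf 0xbb6)))))))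
def rkT_naaaaab : Tr := (.nd (.nd (.nd (.nd (.nd (.nd (.lf 0xe92) (.lf 0xdb4)) (.nd (.lf 0x3e2) (.lf 0x727))) (.nd (.nd (.lf 0x809) (.lf 0x394)) (.nd (.lf 0x5a4) (.lf 0x2ec)))) (.nd (.nd (.nd (.lf 0x78c) (.lf 0xc66)) (.nd (.lf 0x44) (.lf 0x422))) (.nd (.nd (.lf 0xa70) (.lf 0x65e)) (.nd (.lf 0xe53) (.lf 0x185))))) (.nd (.nd (.nd (.nd (.lf 0xdf9) (.lf 0x29f)) (.nd (.lf 0xb84) (.lf 0xb88))) (.nd (.nd (.lf 0xb68) (.lf 0xea6)) (.nd (.lf 0x6ed) (.lf 0xb9f)))) (.nd (.nd (.nd (.lf 0x347) (.lf 0xa74)) (.nd (.lf 0x12) (.lf 0xe9))) (.nd (.nd (.lf 0x573) (.lf 0xda8)) (.nd (.lf 0xf31) (.lf 0xa14)))))) (.nd (.nd (.nd (.nd (.nd (.lf 0x7d2) (.lf 0xeab)) (.nd (.lf 0x9d) (.lf 0x768))) (.nd (.nd (.lf 0x15) (.lf 0xa5e)) (.nd (.lf 0x9a7) (.lf 0x157))))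 (.nd (.nd (.nd (.lf 0xc71) (.lf 0xe0f)) (.nd (.lf 0x6) (.lf 0x4b4))) (.nd (.nd (.lf 0x5c2) (.lf 0x149)) (.nd (.lf 0x5aa) (.lf 0x818))))) (.nd (.nd (.nd (.nd (.lf 0xfc1) (.lf 0xfbe)) (.nd (.lf 0xf16) (.lf 0x564))) (.nd (.nd (.lf 0x6b9) (.lf 0x3e8)) (.nd (.lf 0x98f) (.lf 0x521)))) (.nd (.nd (.nd (.lf 0x231) (.lf 0xa05)) (.nd (.lf 0x17d) (.lf 0x883))) (.nd (.nd (.lf 0xa26) (.lf 0xb6f)) (.nd (.lf 0xe03) (.lf 0)))))))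
def rkT_naaaaba : Tr := (.nd (.nd (.nd (.nd (.nd (.nd (.lf 0x93a) (.lf 0xb3)) (.nd (.lf 0x3aa) (.lf 0x57f))) (.nd (.nd (.lf 0x343) (.lf 0xe19)) (.nd (.lf 0x1ab) (.lf 0x9dc)))) (.nd (.nd (.nd (.lf 0x675) (.lf 0x81a)) (.nd (.lf 0x36c) (.lf 0xb4b))) (.nd (.nd (.lf 0xb79) (.lf 0xba1)) (.nd (.lf 0xed5) (.lf 0x925))))) (.nd (.nd (.nd (.nd (.lf 0x592) (.lf 0x39d)) (.nd (.lf 0x7ef) (.lf 0xd75))) (.nd (.nd (.lf 0xdba) (.lf 0x67e)) (.nd (.lf 0xf7) (.lf 0xc31)))) (.nd (.nd (.nd (.lf 0xd6b) (.lf 0x703)) (.nd (.lf 0x6d) (.lf 0xd5b))) (.nd (.nd (.lf 0xc17) (.lf 0x468)) (.nd (.lf 0xa01) (.lf 0xdcb)))))) (.nd (.nd (.nd (.nd (.nd (.lf 0x736) (.lf 0xe7f)) (.nd (.lf 0x84c) (.lf 0x94b))) (.nd (.nd (.lf 0x9ad) (.lf 0x2c)) (.nd (.lf 0x9be) (.lf 0xcf))))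 (.nd (.nd (.nd (.lf 0x6b6) (.lf 0xb6c)) (.nd (.lf 0xdd7) (.lf 0xb16))) (.nd (.nd (.lf 0xa8e) (.lf 0xf74)) (.nd (.lf 0x2a8) (.lf 0x75f))))) (.nd (.nd (.nd (.nd (.lf 0xfd8) (.lf 0x9bd)) (.nd (.lf 0xeed) (.lf 0x286))) (.nd (.nd (.lf 0xa5b) (.lf 0x43e)) (.nd (.lf 0x80c) (.lf 0x4c7)))) (.nd (.nd (.nd (.lf 0x7f8) (.lf 0x590)) (.nd (.lf 0x762) (.lf 0x4a7))) (.nd (.nd (.lf 0x359) (.lf 0xac7)) (.nd (.lf 0x719) (.lf 0xae2)))))))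
def rkT_naaaabb : Tr := (.nd (.nd (.nd (.nd (.nd (.nd (.lf 0xdad) (.lf 0x17a)) (.nd (.lf 0x24b) (.lf 0x1ed))) (.nd (.nd (.lf 0x11f) (.lf 0x400)) (.nd (.lf 0x483) (.lf 0x499)))) (.nd (.nd (.nd (.lf 0x7e1) (.lf 0xe0)) (.nd (.lf 0xb10) (.lf 0xc7))) (.nd (.nd (.lf 0xb7d) (.lf 0x6bd)) (.nd (.lf 0x2f6) (.lf 0x95c))))) (.nd (.nd (.nd (.nd (.lf 0x317) (.lf 0xc61)) (.nd (.lf 0x62f) (.lf 0x77e))) (.nd (.nd (.lf 0xf6b) (.lf 0xfb0)) (.nd (.lf 0x177) (.lf 0xabe)))) (.nd (.nd (.nd (.lf 0x5b4) (.lf 0xd00)) (.nd (.lf 0xfa7) (.lf 0xcfc))) (.nd (.nd (.lf 0x30) (.lf 0x1f4)) (.nd (.lf 0x207) (.lf 0xba4)))))) (.nd (.nd (.nd (.nd (.nd (.lf 0x718) (.lf 0xa1)) (.nd (.lf 0xe1) (.lf 0xc53))) (.nd (.nd (.lf 0x23a) (.lf 0x866)) (.nd (.lf 0x3ed) (.lf 0xa6a))))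 (.nd (.nd (.nd (.lf 0x7a0) (.lf 0x412)) (.nd (.lf 0xee7) (.lf 0x241))) (.nd (.nd (.lf 0x8f5) (.lf 0xbc7)) (.nd (.lf 0x9cc) (.lf 0xf4c))))) (.nd (.nd (.nd (.nd (.lf 0xcd1) (.lf 0x891)) (.nd (.lf 0x9a4) (.lf 0xd84))) (.nd (.nd (.lf 0x847) (.lf 0xb6d)) (.nd (.lf 0xe4f) (.lf 0x29c)))) (.nd (.nd (.nd (.lf 0x33) (.lf 0x9ab)) (.nd (.lf 0xc4d) (.lf 0xef0))) (.nd (.nd (.lf 0xa23) (.lf 0xf91)) (.nd (.lf 0xba7) (.lf 0)))))))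
def rkT_naaabaa : Tr := (.nd (.nd (.nd (.nd (.nd (.nd (.lf 0x151) (.lf 0x11b)) (.nd (.lf 0x52) (.lf 0x2f9))) (.nd (.nd (.lf 0x7d9) (.lf 0x3d0)) (.nd (.lf 0x918) (.lf 0x255)))) (.nd (.nd (.nd (.lf 0x160) (.lf 0x80e)) (.nd (.lf 0x462) (.lf 0xfc5))) (.nd (.nd (.lf 0x6d3) (.lf 0xe6e)) (.nd (.lf 0x73b) (.lf 0xcd5))))) (.nd (.nd (.nd (.nd (.lf 0x92a) (.lf 0x3f6)) (.nd (.lf 0xa8d) (.lf 0x62e))) (.nd (.nd (.lf 0xfaf) (.lf 0xb13)) (.nd (.lf 0x852) (.lf 0x57a)))) (.nd (.nd (.nd (.lf 0xebb) (.lf 0xa62)) (.nd (.lf 0x657) (.lf 0x7f6))) (.nd (.nd (.lf 0xd2a) (.lf 0x44a)) (.nd (.lf 0xdd0) (.lf 0x509)))))) (.nd (.nd (.nd (.nd (.nd (.lf 0xd94) (.lf 0x3a9)) (.nd (.lf 0x174) (.lf 0x7ec))) (.nd (.nd (.lf 0x4dc) (.lf 0x772)) (.nd (.lf 0x7db) (.lf 0xea7))))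 (.nd (.nd (.nd (.lf 0xc83) (.lf 0x4a9)) (.nd (.lf 0xfca) (.lf 0x811))) (.nd (.nd (.lf 0xf5a) (.lf 0x8be)) (.nd (.lf 0x86d) (.lf 0x870))))) (.nd (.nd (.nd (.nd (.lf 0xd40) (.lf 0x46b)) (.nd (.lf 0x30a) (.lf 0x43f))) (.nd (.nd (.lf 0x425) (.lf 0xed0)) (.nd (.lf 0x7e5) (.lf 0x9ee)))) (.nd (.nd (.nd (.lf 0x787) (.lf 0x1c5)) (.nd (.lf 0xa99) (.lf 0xb24))) (.nd (.nd (.lf 0xa83) (.lf 0x8c3)) (.nd (.lf 0x4ec) (.lf 0xc49)))))))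
def rkT_naaabab : Tr := (.nd (.nd (.nd (.nd (.nd (.nd (.lf 0x4c5) (.lf 0x35c)) (.nd (.lf 0x8b1) (.lf 0xb4))) (.nd (.nd (.lf 0xccd) (.lf 0xafa)) (.nd (.lf 0xbd7) (.lf 0xfc4)))) (.nd (.nd (.nd (.lf 0xd17) (.lf 0x523)) (.nd (.lf 0xfc2) (.lf 0x6fa))) (.nd (.nd (.lf 0x378) (.lf 0xf4a)) (.nd (.lf 0x40f) (.lf 0x5e9))))) (.nd (.nd (.nd (.nd (.lf 0x7ed) (.lf 0x7bd)) (.nd (.lf 0xe39) (.lf 0x3ad))) (.nd (.nd (.lf 0xfc) (.lf 0xf30)) (.nd (.lf 0x57) (.lf 0xfc6)))) (.nd (.nd (.nd (.lf 0xfbd) (.lf 0xebf)) (.nd (.lf 0xb37) (.lf 0x9a6))) (.nd (.nd (.lf 0xa4f) (.lf 0x118)) (.nd (.lf 0x1d1) (.lf 0xbfa)))))) (.nd (.nd (.nd (.nd (.nd (.lf 0xbde) (.lf 0xc67)) (.nd (.lf 0x9d4) (.lf 0xc1d))) (.nd (.nd (.lf 0x1bd) (.lf 0x2b3)) (.nd (.lf 0x6fc) (.lf 0x669))))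 (.nd (.nd (.nd (.lf 0x78e) (.lf 0xcb6)) (.nd (.lf 0x8f9) (.lf 0x234))) (.nd (.nd (.lf 0x6f0) (.lf 0xf61)) (.nd (.lf 0x247) (.lf 0x524))))) (.nd (.nd (.nd (.nd (.lf 0x72b) (.lf 0x577)) (.nd (.lf 0xb28) (.lf 0x2d))) (.nd (.nd (.lf 0x165) (.lf 0xde7)) (.nd (.lf 0x79) (.lf 0x1c0)))) (.nd (.nd (.nd (.lf 0xfb1) (.lf 0x984)) (.nd (.lf 0xf9c) (.lf 0x72d))) (.nd (.nd (.lf 0x1d0) (.lf 0x7aa)) (.nd (.lf 0x52b) (.lf 0)))))))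
def rkT_naaabba : Tr := (.nd (.nd (.nd (.nd (.nd (.nd (.lf 0x897) (.lf 0xf)) (.nd (.lf 0xb52) (.lf 0x648))) (.nd (.nd (.lf 0xd35) (.lf 0x282)) (.nd (.lf 0xbd5) (.lf 0x401)))) (.nd (.nd (.nd (.lf 0x545) (.lf 0xa39)) (.nd (.lf 0x452) (.lf 0x1b))) (.nd (.nd (.lf 0x199) (.lf 0x81c)) (.nd (.lf 0xbb2) (.lf 0x59))))) (.nd (.nd (.nd (.nd (.lf 0x11e) (.lf 0xa5a)) (.nd (.lf 0x659) (.lf 0x54d))) (.nd (.nd (.lf 0xa28) (.lf 0x296)) (.nd (.lf 0x5ef) (.lf 0xd2)))) (.nd (.nd (.nd (.lf 0x4fb) (.lf 0x61c)) (.nd (.lf 0xb4a) (.lf 0x8ec))) (.nd (.nd (.lf 0x40b) (.lf 0x15f)) (.nd (.lf 0xb0a) (.lf 0xc8c)))))) (.nd (.nd (.nd (.nd (.nd (.lf 0x170) (.lf 0x396)) (.nd (.lf 0x67c) (.lf 0x1b6))) (.nd (.nd (.lf 0xba0) (.lf 0xd3e)) (.nd (.lf 0x64c) (.lf 0xe6d))))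 (.nd (.nd (.nd (.lf 0x4b3) (.lf 0xe06)) (.nd (.lf 0xd76) (.lf 0xc97))) (.nd (.nd (.lf 0xacc) (.lf 0x784)) (.nd (.lf 0x6e6) (.lf 0xda2))))) (.nd (.nd (.nd (.nd (.lf 0x873) (.lf 0xe68)) (.nd (.lf 0xe00) (.lf 0x894))) (.nd (.nd (.lf 0xab) (.lf 0x276)) (.nd (.lf 0xdfe) (.lf 0x3ef)))) (.nd (.nd (.nd (.lf 0x9c4) (.lf 0x915)) (.nd (.lf 0xbad) (.lf 0x2b1))) (.nd (.nd (.lf 0xe71) (.lf 0xdb)) (.nd (.lf 0x54b) (.lf 0xbba)))))))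
def rkT_naaabbb : Tr := (.nd (.nd (.nd (.nd (.nd (.nd (.lf 0xb1a) (.lf 0x543)) (.nd (.lf 0x9ce) (.lf 0x8a5))) (.nd (.nd (.lf 0xe41) (.lf 0x7ea)) (.nd (.lf 0xa4b) (.lf 0x200)))) (.nd (.nd (.nd (.lf 0xa9e) (.lf 0xed3)) (.nd (.lf 0x1ef) (.lf 0xe28))) (.nd (.nd (.lf 0xf7a) (.lf 0xe91)) (.nd (.lf 0xbaf) (.lf 0x1f5))))) (.nd (.nd (.nd (.nd (.lf 0xd09) (.lf 0xfb2)) (.nd (.lf 0x168) (.lf 0xf26))) (.nd (.nd (.lf 0x90e) (.lf 0x2e8)) (.nd (.lf 0x996) (.lf 0x338)))) (.nd (.nd (.nd (.lf 0x9f9) (.lf 0xf22)) (.nd (.lf 0x494) (.lf 0x9e7))) (.nd (.nd (.lf 0x392) (.lf 0x510)) (.nd (.lf 0x16c) (.lf 0xc52)))))) (.nd (.nd (.nd (.nd (.nd (.lf 0x39a) (.lf 0xe66)) (.nd (.lf 0x335) (.lf 0x446))) (.nd (.nd (.lf 0xd4f) (.lf 0x779)) (.nd (.lf 0xf8f) (.lf 0x6d9))))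 (.nd (.nd (.nd (.lf 0x8d) (.lf 0xc11)) (.nd (.lf 0xd9) (.lf 0x9b0))) (.nd (.nd (.lf 0xccc) (.lf 0xa9)) (.nd (.lf 0x724) (.lf 0xc43))))) (.nd (.nd (.nd (.nd (.lf 0xce0) (.lf 0xb77)) (.nd (.lf 0x1c3) (.lf 0x74f))) (.nd (.nd (.lf 0x885) (.lf 0xdb2)) (.nd (.lf 0x642) (.lf 0x8e7)))) (.nd (.nd (.nd (.lf 0x4fe) (.lf 0x50c)) (.nd (.lf 0x461) (.lf 0x49f))) (.nd (.nd (.lf 0xfa6) (.lf 0xa92)) (.nd (.lf 0x7) (.lf 0)))))))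
def rkT_naabaaa : Tr := (.nd (.nd (.nd (.nd (.nd (.nd (.lf 0x2df) (.lf 0x77c)) (.nd (.lf 0x5) (.lf 0x4f0))) (.nd (.nd (.lf 0xec3) (.lf 0xd96)) (.nd (.lf 0x1d6) (.lf 0x4c3)))) (.nd (.nd (.nd (.lf 0x3f1) (.lf 0x1ad)) (.nd (.lf 0xf2) (.lf 0x2a5))) (.nd (.nd (.lf 0x699) (.lf 0x4c4)) (.nd (.lf 0x90b) (.lf 0x217))))) (.nd (.nd (.nd (.nd (.lf 0x113) (.lf 0x920)) (.nd (.lf 0xa8a) (.lf 0x287))) (.nd (.nd (.lf 0xe14) (.lf 0x558)) (.nd (.lf 0x668) (.lf 0xa81)))) (.nd (.nd (.nd (.lf 0xd63) (.lf 0x537)) (.nd (.lf 0x754) (.lf 0x434))) (.nd (.nd (.lf 0x1cf) (.lf 0x474)) (.nd (.lf 0x617) (.lf 0x4b2)))))) (.nd (.nd (.nd (.nd (.nd (.lf 0xcf5) (.lf 0xc69)) (.nd (.lf 0xd83) (.lf 0x1a3))) (.nd (.nd (.lf 0x8a1) (.lf 0x4ee)) (.nd (.lf 0x955) (.lf 0x9a9))))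 (.nd (.nd (.nd (.lf 0x406) (.lf 0xd57)) (.nd (.lf 0xebc) (.lf 0x568))) (.nd (.nd (.lf 0x624) (.lf 0x929)) (.nd (.lf 0x742) (.lf 0x99b))))) (.nd (.nd (.nd (.nd (.lf 0x143) (.lf 0x3b5)) (.nd (.lf 0xcf0) (.lf 0xd3f))) (.nd (.nd (.lf 0x387) (.lf 0x9e6)) (.nd (.lf 0x5d) (.lf 0x5dd)))) (.nd (.nd (.nd (.lf 0xd1c) (.lf 0x2ca)) (.nd (.lf 0x5c3) (.lf 0x8cd))) (.nd (.nd (.lf 0x50f) (.lf 0xc64)) (.nd (.lf 0x74a) (.lf 0xb04)))))))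
def rkT_naabaab : Tr := (.nd (.nd (.nd (.nd (.nd (.nd (.lf 0xcbd) (.lf 0xc80)) (.nd (.lf 0x7b1) (.lf 0x501))) (.nd (.nd (.lf 0x1b0) (.lf 0x874)) (.nd (.lf 0x154) (.lf 0x25b)))) (.nd (.nd (.nd (.lf 0xd67) (.lf 0x8f)) (.nd (.lf 0xe18) (.lf 0x31d))) (.nd (.nd (.lf 0xf7d) (.lf 0x542)) (.nd (.lf 0xf40) (.lf 0x4a2))))) (.nd (.nd (.nd (.nd (.lf 0x810) (.lf 0xaec)) (.nd (.lf 0x716) (.lf 0x82a))) (.nd (.nd (.lf 0x38d) (.lf 0xc0b)) (.nd (.lf 0x7e4) (.lf 0x29b)))) (.nd (.nd (.nd (.lf 0x94a) (.lf 0xe)) (.nd (.lf 0xf6d) (.lf 0x794))) (.nd (.nd (.lf 0xcc1) (.lf 0x8f2)) (.nd (.lf 0xce5) (.lf 0x290)))))) (.nd (.nd (.nd (.nd (.nd (.lf 0x96a) (.lf 0x9ef)) (.nd (.lf 0x6f3) (.lf 0x8d6))) (.nd (.nd (.lf 0x771) (.lf 0x6b8)) (.nd (.lf 0x5d5) (.lf 0x652))))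 (.nd (.nd (.nd (.lf 0x31f) (.lf 0x380)) (.nd (.lf 0xf88) (.lf 0xacd))) (.nd (.nd (.lf 0x86c) (.lf 0x4ac)) (.nd (.lf 0xb2a) (.lf 0x13d))))) (.nd (.nd (.nd (.nd (.lf 0xfd5) (.lf 0x24e)) (.nd (.lf 0x6c5) (.lf 0xda1))) (.nd (.nd (.lf 0xd4b) (.lf 0x3a1)) (.nd (.lf 0x5e8) (.lf 0x27f)))) (.nd (.nd (.nd (.lf 0x9d1) (.lf 0xad9)) (.nd (.lf 0xe61) (.lf 0x9eb))) (.nd (.nd (.lf 0xf90) (.lf 0xc32)) (.nd (.lf 0xa57) (.lf 0)))))))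
def rkT_naababa : Tr := (.nd (.nd (.nd (.nd (.nd (.nd (.lf 0xfd6) (.lf 0xe84)) (.nd (.lf 0x685) (.lf 0xefa))) (.nd (.nd (.lf 0xbfb) (.lf 0x7c2)) (.nd (.lf 0x220) (.lf 0xc38)))) (.nd (.nd (.nd (.lf 0x409) (.lf 0x1f7)) (.nd (.lf 0xc86) (.lf 0xf66))) (.nd (.nd (.lf 0x4b0) (.lf 0x31c)) (.nd (.lf 0x8ea) (.lf 0x3dd))))) (.nd (.nd (.nd (.nd (.lf 0x15a) (.lf 0x90c)) (.nd (.lf 0x33a) (.lf 0x1cb))) (.nd (.nd (.lf 0xd3b) (.lf 0x8b2)) (.nd (.lf 0x62a) (.lf 0x638)))) (.nd (.nd (.nd (.lf 0x6d2) (.lf 0x5cd)) (.nd (.lf 0xa93) (.lf 0x433))) (.nd (.nd (.lf 0x7d6) (.lf 0x644)) (.nd (.lf 0x5c0) (.lf 0x215)))))) (.nd (.nd (.nd (.nd (.nd (.lf 0xde2) (.lf 0xcf8)) (.nd (.lf 0x119) (.lf 0x71e))) (.nd (.nd (.lf 0x7e8) (.lf 0x44b)) (.nd (.lf 0x6e0) (.lf 0xa8c))))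 (.nd (.nd (.nd (.lf 0x3ff) (.lf 0x30e)) (.nd (.lf 0x952) (.lf 0x9fb))) (.nd (.nd (.lf 0x309) (.lf 0xa4a)) (.nd (.lf 0xb0f) (.lf 0xa86))))) (.nd (.nd (.nd (.nd (.lf 0x793) (.lf 0x1de)) (.nd (.lf 0x867) (.lf 0x3cd))) (.nd (.nd (.lf 0x662) (.lf 0x1fd)) (.nd (.lf 0xdb3) (.lf 0xb89)))) (.nd (.nd (.nd (.lf 0x300) (.lf 0x671)) (.nd (.lf 0x204) (.lf 0x2bc))) (.nd (.nd (.lf 0xd79) (.lf 0x705)) (.nd (.lf 0xb1f) (.lf 0x2bf)))))))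
def rkT_naababb : Tr := (.nd (.nd (.nd (.nd (.nd (.nd (.lf 0x691) (.lf 0xe17)) (.nd (.lf 0x43b) (.lf 0xaf3))) (.nd (.nd (.lf 0xbeb) (.lf 0x314)) (.nd (.lf 0xbda) (.lf 0xf1b)))) (.nd (.nd (.nd (.lf 0x353) (.lf 0x120)) (.nd (.lf 0x550) (.lf 0xb59))) (.nd (.nd (.lf 0x67f) (.lf 0xc96)) (.nd (.lf 0x50e) (.lf 0x48e))))) (.nd (.nd (.nd (.nd (.lf 0xe96) (.lf 0xb)) (.nd (.lf 0xb2f) (.lf 0xc6a))) (.nd (.nd (.lf 0xdc) (.lf 0x7e)) (.nd (.lf 0xa3d) (.lf 0xfa9)))) (.nd (.nd (.nd (.lf 0xb38) (.lf 0xcb7)) (.nd (.lf 0x260) (.lf 0x42e))) (.nd (.nd (.lf 0xc90) (.lf 0xca1)) (.nd (.lf 0x289) (.lf 0x283)))))) (.nd (.nd (.nd (.nd (.nd (.lf 0xc14) (.lf 0xa47)) (.nd (.lf 0x4f8) (.lf 0xc8f))) (.nd (.nd (.lf 0xc2c) (.lf 0xe2c)) (.nd (.lf 0x37c) (.lf 0x85e))))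 (.nd (.nd (.nd (.lf 0x45c) (.lf 0xdc0)) (.nd (.lf 0x8b9) (.lf 0x627))) (.nd (.nd (.lf 0x166) (.lf 0xdf8)) (.nd (.lf 0x788) (.lf 0x643))))) (.nd (.nd (.nd (.nd (.lf 0x210) (.lf 0xfd1)) (.nd (.lf 0x546) (.lf 0xa43))) (.nd (.nd (.lf 0x981) (.lf 0x8f6)) (.nd (.lf 0x1e1) (.lf 0x3b4)))) (.nd (.nd (.nd (.lf 0xc85) (.lf 0xe0c)) (.nd (.lf 0xd7a) (.lf 0xc84))) (.nd (.nd (.lf 0x584) (.lf 0x249)) (.nd (.lf 0x2f7) (.lf 0)))))))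
def rkT_naabbaa : Tr := (.nd (.nd (.nd (.nd (.nd (.nd (.lf 0xe52) (.lf 0x2fd)) (.nd (.lf 0x90a) (.lf 0x3f8))) (.nd (.nd (.lf 0xe22) (.lf 0x395)) (.nd (.lf 0xdbf) (.lf 0x209)))) (.nd (.nd (.nd (.lf 0xa1b) (.lf 0xcf2)) (.nd (.lf 0x8c0) (.lf 0x386))) (.nd (.nd (.lf 0xd23) (.lf 0xd38)) (.nd (.lf 0x1f2) (.lf 0x70e))))) (.nd (.nd (.nd (.nd (.lf 0x711) (.lf 0x6d5)) (.nd (.lf 0x346) (.lf 0x1dc))) (.nd (.nd (.lf 0x24) (.lf 0x23)) (.nd (.lf 0x927) (.lf 0xf86)))) (.nd (.nd (.nd (.lf 0x949) (.lf 0xd31)) (.nd (.lf 0xa3a) (.lf 0xd45))) (.nd (.nd (.lf 0xaa0) (.lf 0x9c0)) (.nd (.lf 0x9fe) (.lf 0xc06)))))) (.nd (.nd (.nd (.nd (.nd (.lf 0xddc) (.lf 0x411)) (.nd (.lf 0x8a9) (.lf 0xcce))) (.nd (.nd (.lf 0x1ba) (.lf 0x4f6)) (.nd (.lf 0xbf6) (.lf 0x693))))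 (.nd (.nd (.nd (.lf 0x6ee) (.lf 0x2fa)) (.nd (.lf 0xf34) (.lf 0x7c3))) (.nd (.nd (.lf 0xac6) (.lf 0x47)) (.nd (.lf 0xa0a) (.lf 0x55e))))) (.nd (.nd (.nd (.nd (.lf 0xc9c) (.lf 0x35a)) (.nd (.lf 0x968) (.lf 0xf6a))) (.nd (.nd (.lf 0x5e7) (.lf 0xf95)) (.nd (.lf 0x37) (.lf 0xb0e)))) (.nd (.nd (.nd (.lf 0x22) (.lf 0x2e2)) (.nd (.lf 0xd5c) (.lf 0x790))) (.nd (.nd (.lf 0xad5) (.lf 0x1bb)) (.nd (.lf 0x758) (.lf 0xc3b)))))))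
def rkT_naabbab : Tr := (.nd (.nd (.nd (.nd (.nd (.nd (.lf 0x533) (.lf 0xe01)) (.nd (.lf 0x69d) (.lf 0xecb))) (.nd (.nd (.lf 0x5ff) (.lf 0x90d)) (.nd (.lf 0xa8b) (.lf 0xbe4)))) (.nd (.nd (.nd (.lf 0x186) (.lf 0x8cf)) (.nd (.lf 0xfd0) (.lf 0x2c9))) (.nd (.nd (.lf 0xa31) (.lf 0xf42)) (.nd (.lf 0x45) (.lf 0x4be))))) (.nd (.nd (.nd (.nd (.lf 0x340) (.lf 0x6e8)) (.nd (.lf 0x137) (.lf 0xcfd))) (.nd (.nd (.lf 0xc0d) (.lf 0xfae)) (.nd (.lf 0x60e) (.lf 0x79f)))) (.nd (.nd (.nd (.lf 0x41d) (.lf 0xff)) (.nd (.lf 0xcbf) (.lf 0xd81))) (.nd (.nd (.lf 0x18b) (.lf 0xe9f)) (.nd (.lf 0xfcd) (.lf 0x2f)))))) (.nd (.nd (.nd (.nd (.nd (.lf 0x94c) (.lf 0x505)) (.nd (.lf 0xb42) (.lf 0x58a))) (.nd (.nd (.lf 0xd27) (.lf 0x495)) (.nd (.lf 0x3c2) (.lf 0xe04))))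 (.nd (.nd (.nd (.lf 0xa19) (.lf 0xaef)) (.nd (.lf 0xfb6) (.lf 0x959))) (.nd (.nd (.lf 0xdd2) (.lf 0x89d)) (.nd (.lf 0xd2c) (.lf 0xcba))))) (.nd (.nd (.nd (.nd (.lf 0xa02) (.lf 0x833)) (.nd (.lf 0xc39) (.lf 0x32f))) (.nd (.nd (.lf 0x519) (.lf 0x3df)) (.nd (.lf 0x3e4) (.lf 0x2b5)))) (.nd (.nd (.nd (.lf 0xa67) (.lf 0x2d7)) (.nd (.lf 0x805) (.lf 0x6c2))) (.nd (.nd (.lf 0x8aa) (.lf 0xe8)) (.nd (.lf 0x947) (.lf 0)))))))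
def rkT_naabbba : Tr := (.nd (.nd (.nd (.nd (.nd (.nd (.lf 0xa79) (.lf 0x7c9)) (.nd (.lf 0xc55) (.lf 0x131))) (.nd (.nd (.lf 0x3eb) (.lf 0x5dc)) (.nd (.lf 0xee5) (.lf 0x298)))) (.nd (.nd (.nd (.lf 0xc56) (.lf 0x138)) (.nd (.lf 0x41f) (.lf 0xc37))) (.nd (.nd (.lf 0x89c) (.lf 0xb8a)) (.nd (.lf 0x27c) (.lf 0x687))))) (.nd (.nd (.nd (.nd (.lf 0xcd2) (.lf 0xe1d)) (.nd (.lf 0x9b6) (.lf 0xc3c))) (.nd (.nd (.lf 0x8dc) (.lf 0x600)) (.nd (.lf 0x974) (.lf 0xd33)))) (.nd (.nd (.nd (.lf 0xaaf) (.lf 0xefd)) (.nd (.lf 0x427) (.lf 0x337))) (.nd (.nd (.lf 0x14e) (.lf 0x3ae)) (.nd (.lf 0xaae) (.lf 0xbbb)))))) (.nd (.nd (.nd (.nd (.nd (.lf 0xe2e) (.lf 0x182)) (.nd (.lf 0xed9) (.lf 0x620))) (.nd (.nd (.lf 0x48b) (.lf 0x7c0)) (.nd (.lf 0xdb7) (.lf 0xb83))))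 (.nd (.nd (.nd (.lf 0x884) (.lf 0x9c2)) (.nd (.lf 0xaab) (.lf 0x22c))) (.nd (.nd (.lf 0xf41) (.lf 0x4c8)) (.nd (.lf 0x989) (.lf 0x424))))) (.nd (.nd (.nd (.nd (.lf 0xbe1) (.lf 0x232)) (.nd (.lf 0x8e6) (.lf 0x77d))) (.nd (.nd (.lf 0xc5a) (.lf 0xb07)) (.nd (.lf 0xf5) (.lf 0xba5)))) (.nd (.nd (.nd (.lf 0xea0) (.lf 0x8ac)) (.nd (.lf 0x2b2) (.lf 0xbc3))) (.nd (.nd (.lf 0xd6a) (.lf 0xefc)) (.nd (.lf 0x2fc) (.lf 0)))))))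
def rkT_naabbbb : Tr := (.nd (.nd (.nd (.nd (.nd (.nd (.lf 0xe48) (.lf 0x1bf)) (.nd (.lf 0xcae) (.lf 0x791))) (.nd (.nd (.lf 0xb19) (.lf 0x5a7)) (.nd (.lf 0xf06) (.lf 0x1ea)))) (.nd (.nd (.nd (.lf 0x482) (.lf 0xba2)) (.nd (.lf 0x3c5) (.lf 0x5d3))) (.nd (.nd (.lf 0xb9d) (.lf 0xf52)) (.nd (.lf 0x1c) (.lf 0xbc4))))) (.nd (.nd (.nd (.nd (.lf 0x7d1) (.lf 0x6c4)) (.nd (.lf 0xcda) (.lf 0x8c5))) (.nd (.nd (.lf 0xc99) (.lf 0xbb)) (.nd (.lf 0x475) (.lf 0x4d1)))) (.nd (.nd (.nd (.lf 0xa4) (.lf 0xcee)) (.nd (.lf 0x737) (.lf 0xa89))) (.nd (.nd (.lf 0xcbe) (.lf 0x6a0)) (.nd (.lf 0x26) (.lf 0xf43)))))) (.nd (.nd (.nd (.nd (.nd (.lf 0x87d) (.lf 0xeaa)) (.nd (.lf 0xd9f) (.lf 0xab3))) (.nd (.nd (.lf 0xedc) (.lf 0x29)) (.nd (.lf 0x607) (.lf 0x8b3))))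 (.nd (.nd (.nd (.lf 0x695) (.lf 0x611)) (.nd (.lf 0x2cf) (.lf 0x682))) (.nd (.nd (.lf 0xf27) (.lf 0xf20)) (.nd (.lf 0xbc8) (.lf 0x171))))) (.nd (.nd (.nd (.nd (.lf 0x639) (.lf 0x700)) (.nd (.lf 0x504) (.lf 0x57e))) (.nd (.nd (.lf 0x33d) (.lf 0xdde)) (.nd (.lf 0x2f4) (.lf 0xbe6)))) (.nd (.nd (.nd (.lf 0x2d2) (.lf 0xe30)) (.nd (.lf 0x518) (.lf 0x8a4))) (.nd (.nd (.lf 0x655) (.lf 0x7df)) (.nd (.lf 0x71d) (.lf 0)))))))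
def rkT_nabaaaa : Tr := (.nd (.nd (.nd (.nd (.nd (.nd (.lf 0xb35) (.lf 0x5d7)) (.nd (.lf 0xf39) (.lf 0x37a))) (.nd (.nd (.lf 0xab4) (.lf 0x94f)) (.nd (.lf 0x2e1) (.lf 0xeb6)))) (.nd (.nd (.nd (.lf 0x64e) (.lf 0x9b3)) (.nd (.lf 0x1fc) (.lf 0x384))) (.nd (.nd (.lf 0xdc4) (.lf 0x8fe)) (.nd (.lf 0x21d) (.lf 0x3d3))))) (.nd (.nd (.nd (.nd (.lf 0x4b5) (.lf 0x92d)) (.nd (.lf 0xb54) (.lf 0x76))) (.nd (.nd (.lf 0xa04) (.lf 0x9ca)) (.nd (.lf 0xcdc) (.lf 0x821)))) (.nd (.nd (.nd (.lf 0x846) (.lf 0x890)) (.nd (.lf 0x313) (.lf 0x4e8))) (.nd (.nd (.lf 0xd8f) (.lf 0xde0)) (.nd (.lf 0x715) (.lf 0x5ee)))))) (.nd (.nd (.nd (.nd (.nd (.lf 0x105) (.lf 0xa20)) (.nd (.lf 0xdfd) (.lf 0xddd))) (.nd (.nd (.lf 0x19a) (.lf 0x192)) (.nd (.lf 0xc03) (.lf 0x8b))))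 (.nd (.nd (.nd (.lf 0x7b6) (.lf 0x374)) (.nd (.lf 0x2ed) (.lf 0x1b8))) (.nd (.nd (.lf 0x1a2) (.lf 0xd69)) (.nd (.lf 0x601) (.lf 0xd73))))) (.nd (.nd (.nd (.nd (.lf 0xc54) (.lf 0x701)) (.nd (.lf 0xd8a) (.lf 0x356))) (.nd (.nd (.lf 0x10f) (.lf 0xd47)) (.nd (.lf 0x66) (.lf 0xefb)))) (.nd (.nd (.nd (.lf 0x39c) (.lf 0x773)) (.nd (.lf 0xc77) (.lf 0x89a))) (.nd (.nd (.lf 0x7b8) (.lf 0x481)) (.nd (.lf 0xeb) (.lf 0x708)))))))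
def rkT_nabaaab : Tr := (.nd (.nd (.nd (.nd (.nd (.nd (.lf 0xcc2) (.lf 0x5e5)) (.nd (.lf 0x17c) (.lf 0x889))) (.nd (.nd (.lf 0x961) (.lf 0x29a)) (.nd (.lf 0x782) (.lf 0x2)))) (.nd (.nd (.nd (.lf 0x589) (.lf 0x2dc)) (.nd (.lf 0x5ba) (.lf 0xd70))) (.nd (.nd (.lf 0xa38) (.lf 0x251)) (.nd (.lf 0x8b7) (.lf 0x28a))))) (.nd (.nd (.nd (.nd (.lf 0x1a9) (.lf 0x3e9)) (.nd (.lf 0xd1e) (.lf 0x839))) (.nd (.nd (.lf 0xb2) (.lf 0xcf3)) (.nd (.lf 0xf8d) (.lf 0xe29)))) (.nd (.nd (.nd (.lf 0xbbc) (.lf 0x500)) (.nd (.lf 0x1dd) (.lf 0x945))) (.nd (.nd (.lf 0xd16) (.lf 0x19b)) (.nd (.lf 0xe47) (.lf 0xa4d)))))) (.nd (.nd (.nd (.nd (.nd (.lf 0xf1c) (.lf 0xc81)) (.nd (.lf 0x139) (.lf 0x444))) (.nd (.nd (.lf 0x748) (.lf 0xf17)) (.nd (.lf 0xfb4) (.lf 0xa1e))))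 (.nd (.nd (.nd (.lf 0xb8e) (.lf 0xbb0)) (.nd (.lf 0x36e) (.lf 0x7c6))) (.nd (.nd (.lf 0x74e) (.lf 0xc3f)) (.nd (.lf 0xa0d) (.lf 0xca9))))) (.nd (.nd (.nd (.nd (.lf 0xc74) (.lf 0xb23)) (.nd (.lf 0x674) (.lf 0x3b2))) (.nd (.nd (.lf 0x16e) (.lf 0x575)) (.nd (.lf 0xf25) (.lf 0xf03)))) (.nd (.nd (.nd (.lf 0x3c8) (.lf 0x8a6)) (.nd (.lf 0xe72) (.lf 0xe8b))) (.nd (.nd (.lf 0x713) (.lf 0x588)) (.nd (.lf 0x459) (.lf 0)))))))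
def rkT_nabaaba : Tr := (.nd (.nd (.nd (.nd (.nd (.nd (.lf 0x8de) (.lf 0xef4)) (.nd (.lf 0x26d) (.lf 0xf56))) (.nd (.nd (.lf 0xd0c) (.lf 0xfbc)) (.nd (.lf 0x2f3) (.lf 0x478)))) (.nd (.nd (.nd (.lf 0xe5f) (.lf 0xe24)) (.nd (.lf 0xf7f) (.lf 0x1d2))) (.nd (.nd (.lf 0xf33) (.lf 0x2e3)) (.nd (.lf 0x74) (.lf 0xa03))))) (.nd (.nd (.nd (.nd (.lf 0x660) (.lf 0x937)) (.nd (.lf 0xdfb) (.lf 0x8f7))) (.nd (.nd (.lf 0x3cb) (.lf 0x783)) (.nd (.lf 0x5e3) (.lf 0xfc0)))) (.nd (.nd (.nd (.lf 0xa17) (.lf 0x820)) (.nd (.lf 0x827) (.lf 0xa3))) (.nd (.nd (.lf 0x1f0) (.lf 0x8fc)) (.nd (.lf 0xac4) (.lf 0x84f)))))) (.nd (.nd (.nd (.nd (.nd (.lf 0x2be) (.lf 0x42b)) (.nd (.lf 0xf08) (.lf 0xd0a))) (.nd (.nd (.lf 0x722) (.lf 0xc63)) (.nd (.lf 0x45d) (.lf 0x3e6))))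 (.nd (.nd (.nd (.lf 0x1a4) (.lf 0x702)) (.nd (.lf 0x3d9) (.lf 0x7ad))) (.nd (.nd (.lf 0xef) (.lf 0x334)) (.nd (.lf 0x4e) (.lf 0x7d7))))) (.nd (.nd (.nd (.nd (.lf 0x158) (.lf 0xc78)) (.nd (.lf 0x3fb) (.lf 0x227))) (.nd (.nd (.lf 0xc7f) (.lf 0x3f5)) (.nd (.lf 0x80) (.lf 0x173)))) (.nd (.nd (.nd (.lf 0x849) (.lf 0xc6d)) (.nd (.lf 0x9ac) (.lf 0x8c7))) (.nd (.nd (.lf 0x2b6) (.lf 0x2ee)) (.nd (.lf 0x623) (.lf 0xee3)))))))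
def rkT_nabaabb : Tr := (.nd (.nd (.nd (.nd (.nd (.nd (.lf 0xcaa) (.lf 0x4e4)) (.nd (.lf 0x5a2) (.lf 0xab5))) (.nd (.nd (.lf 0x27b) (.lf 0x769)) (.nd (.lf 0x998) (.lf 0x36)))) (.nd (.nd (.nd (.lf 0x738) (.lf 0xf3b)) (.nd (.lf 0xb20) (.lf 0x6b7))) (.nd (.nd (.lf 0x5a5) (.lf 0x3cf)) (.nd (.lf 0x696) (.lf 0xfab))))) (.nd (.nd (.nd (.nd (.lf 0xafb) (.lf 0x4e2)) (.nd (.lf 0x1) (.lf 0x439))) (.nd (.nd (.lf 0xa58) (.lf 0xa9d)) (.nd (.lf 0x7f1) (.lf 0xce2)))) (.nd (.nd (.nd (.lf 0x164) (.lf 0x70)) (.nd (.lf 0xe10) (.lf 0x428))) (.nd (.nd (.lf 0x975) (.lf 0x3a4)) (.nd (.lf 0xa15) (.lf 0x15d)))))) (.nd (.nd (.nd (.nd (.nd (.lf 0x76d) (.lf 0x9bc)) (.nd (.lf 0x376) (.lf 0x8d7))) (.nd (.nd (.lf 0x70f) (.lf 0xc44)) (.nd (.lf 0xf53) (.lf 0x54a))))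 (.nd (.nd (.nd (.lf 0x614) (.lf 0xce7)) (.nd (.lf 0xe1a) (.lf 0xb66))) (.nd (.nd (.lf 0xaf7) (.lf 0x399)) (.nd (.lf 0xe79) (.lf 0x2d1))))) (.nd (.nd (.nd (.nd (.lf 0xd46) (.lf 0x697)) (.nd (.lf 0x191) (.lf 0x882))) (.nd (.nd (.lf 0x47a) (.lf 0x3c)) (.nd (.lf 0x9a) (.lf 0x36d)))) (.nd (.nd (.nd (.lf 0x54c) (.lf 0x421)) (.nd (.lf 0xaad) (.lf 0x13))) (.nd (.nd (.lf 0x3e1) (.lf 0xb02)) (.nd (.lf 0x763) (.lf 0)))))))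
def rkT_nababaa : Tr := (.nd (.nd (.nd (.nd (.nd (.nd (.lf 0x511) (.lf 0x704)) (.nd (.lf 0x82b) (.lf 0x3bf))) (.nd (.nd (.lf 0xdfc) (.lf 0x24c)) (.nd (.lf 0xd) (.lf 0x5fc)))) (.nd (.nd (.nd (.lf 0xefe) (.lf 0x914)) (.nd (.lf 0x9da) (.lf 0x506))) (.nd (.nd (.lf 0x370) (.lf 0x4c9)) (.nd (.lf 0x53) (.lf 0x306))))) (.nd (.nd (.nd (.nd (.lf 0xf60) (.lf 0xd29)) (.nd (.lf 0x549) (.lf 0xaeb))) (.nd (.nd (.lf 0xde5) (.lf 0x4c6)) (.nd (.lf 0x892) (.lf 0x609)))) (.nd (.nd (.nd (.lf 0x18a) (.lf 0x16f)) (.nd (.lf 0x3a2) (.lf 0xded))) (.nd (.nd (.lf 0xe5c) (.lf 0xe05)) (.nd (.lf 0xb81) (.lf 0xee)))))) (.nd (.nd (.nd (.nd (.nd (.lf 0x449) (.lf 0x2a6)) (.nd (.lf 0x640) (.lf 0xc10))) (.nd (.nd (.lf 0x764) (.lf 0x3cc)) (.nd (.lf 0x486) (.lf 0xbf7))))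 (.nd (.nd (.nd (.lf 0xf13) (.lf 0xde9)) (.nd (.lf 0xee4) (.lf 0x11d))) (.nd (.nd (.lf 0x4c1) (.lf 0xad8)) (.nd (.lf 0x816) (.lf 0x666))))) (.nd (.nd (.nd (.nd (.lf 0x91f) (.lf 0x73f)) (.nd (.lf 0x349) (.lf 0x6e))) (.nd (.nd (.lf 0xbf5) (.lf 0x72f)) (.nd (.lf 0xb99) (.lf 0x6ab)))) (.nd (.nd (.nd (.lf 0xab9) (.lf 0x726)) (.nd (.lf 0xed4) (.lf 0x467))) (.nd (.nd (.lf 0xf19) (.lf 0x38f)) (.nd (.lf 0x2e6) (.lf 0x9f2)))))))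
def rkT_nababab : Tr := (.nd (.nd (.nd (.nd (.nd (.nd (.lf 0x80a) (.lf 0x129)) (.nd (.lf 0xeec) (.lf 0x7b2))) (.nd (.nd (.lf 0x28) (.lf 0x35d)) (.nd (.lf 0x91c) (.lf 0x451)))) (.nd (.nd (.nd (.lf 0xb76) (.lf 0xfa0)) (.nd (.lf 0x997) (.lf 0xacf))) (.nd (.nd (.lf 0x861) (.lf 0x369)) (.nd (.lf 0xa65) (.lf 0x383))))) (.nd (.nd (.nd (.nd (.lf 0xc4f) (.lf 0x216)) (.nd (.lf 0x70b) (.lf 0x4ed))) (.nd (.nd (.lf 0x25e) (.lf 0x55c)) (.nd (.lf 0x51c) (.lf 0x99a)))) (.nd (.nd (.nd (.lf 0xc33) (.lf 0x676)) (.nd (.lf 0xc79) (.lf 0x2d0))) (.nd (.nd (.lf 0x532) (.lf 0x5b5)) (.nd (.lf 0xa88) (.lf 0x1d8)))))) (.nd (.nd (.nd (.nd (.nd (.lf 0x5ec) (.lf 0xe8f)) (.nd (.lf 0x55f) (.lf 0x835))) (.nd (.nd (.lf 0xb7c) (.lf 0x28b)) (.nd (.lf 0x7f9) (.lf 0x71))))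 (.nd (.nd (.nd (.lf 0xa22) (.lf 0x948)) (.nd (.lf 0x7cd) (.lf 0xb51))) (.nd (.nd (.lf 0x3c7) (.lf 0x26f)) (.nd (.lf 0x264) (.lf 0x206))))) (.nd (.nd (.nd (.nd (.lf 0x9bb) (.lf 0x6e3)) (.nd (.lf 0xa42) (.lf 0x19c))) (.nd (.nd (.lf 0xb97) (.lf 0x7f2)) (.nd (.lf 0x63f) (.lf 0x80f)))) (.nd (.nd (.nd (.lf 0x75d) (.lf 0x759)) (.nd (.lf 0x539) (.lf 0x7da))) (.nd (.nd (.lf 0x9b2) (.lf 0x944)) (.nd (.lf 0x32d) (.lf 0)))))))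
def rkT_nababba : Tr := (.nd (.nd (.nd (.nd (.nd (.nd (.lf 0x373) (.lf 0x751)) (.nd (.lf 0xb14) (.lf 0x999))) (.nd (.nd (.lf 0x81d) (.lf 0x6fb)) (.nd (.lf 0xda6) (.lf 0xdb8)))) (.nd (.nd (.nd (.lf 0xea9) (.lf 0x6a5)) (.nd (.lf 0xbe9) (.lf 0x52e))) (.nd (.nd (.lf 0x61e) (.lf 0x49e)) (.nd (.lf 0x1b4) (.lf 0x6bf))))) (.nd (.nd (.nd (.nd (.lf 0xd4c) (.lf 0x604)) (.nd (.lf 0xfac) (.lf 0x2c6))) (.nd (.nd (.lf 0x907) (.lf 0xea4)) (.nd (.lf 0x99c) (.lf 0x98c)))) (.nd (.nd (.nd (.lf 0x630) (.lf 0x572)) (.nd (.lf 0x3c4) (.lf 0x919))) (.nd (.nd (.lf 0x5a3) (.lf 0xe80)) (.nd (.lf 0xa95) (.lf 0xea2)))))) (.nd (.nd (.nd (.nd (.nd (.lf 0xfaa) (.lf 0x14b)) (.nd (.lf 0xdda) (.lf 0xd52))) (.nd (.nd (.lf 0x8f4) (.lf 0x562)) (.nd (.lf 0xede) (.lf 0x4b))))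 (.nd (.nd (.nd (.lf 0xe85) (.lf 0xb4f)) (.nd (.lf 0x689) (.lf 0xb94))) (.nd (.nd (.lf 0xbae) (.lf 0x7b9)) (.nd (.lf 0x8f1) (.lf 0xa1f))))) (.nd (.nd (.nd (.nd (.lf 0xf75) (.lf 0xef6)) (.nd (.lf 0xd89) (.lf 0x91))) (.nd (.nd (.lf 0x7ac) (.lf 0x311)) (.nd (.lf 0x752) (.lf 0x3db)))) (.nd (.nd (.nd (.lf 0x341) (.lf 0xa3b)) (.nd (.lf 0xe67) (.lf 0xd50))) (.nd (.nd (.lf 0x13a) (.lf 0x34c)) (.nd (.lf 0xc19) (.lf 0x82c)))))))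
def rkT_nababbb : Tr := (.nd (.nd (.nd (.nd (.nd (.nd (.lf 0xedd) (.lf 0xbd1)) (.nd (.lf 0x181) (.lf 0xfd))) (.nd (.nd (.lf 0xcb2) (.lf 0x33e)) (.nd (.lf 0x6c3) (.lf 0xbc0)))) (.nd (.nd (.nd (.lf 0x265) (.lf 0x3a)) (.nd (.lf 0x1d) (.lf 0xcab))) (.nd (.nd (.lf 0x66c) (.lf 0x33f)) (.nd (.lf 0xae0) (.lf 0x4))))) (.nd (.nd (.nd (.nd (.lf 0xcd0) (.lf 0x9e2)) (.nd (.lf 0x457) (.lf 0xee1))) (.nd (.nd (.lf 0x6f6) (.lf 0x4ad)) (.nd (.lf 0x8fd) (.lf 0x6f)))) (.nd (.nd (.nd (.lf 0x987) (.lf 0xddb)) (.nd (.lf 0xa13) (.lf 0x70a))) (.nd (.nd (.lf 0x3ab) (.lf 0x17f)) (.nd (.lf 0xcc6) (.lf 0x595)))))) (.nd (.nd (.nd (.nd (.nd (.lf 0xc4c) (.lf 0x432)) (.nd (.lf 0xeb9) (.lf 0xae))) (.nd (.nd (.lf 0xf4e) (.lf 0x441)) (.nd (.lf 0xc00) (.lf 0xa32))))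 (.nd (.nd (.nd (.lf 0x6d7) (.lf 0xe7b)) (.nd (.lf 0x5e2) (.lf 0xf2b))) (.nd (.nd (.lf 0xb9b) (.lf 0xda0)) (.nd (.lf 0x8f8) (.lf 0x5c9))))) (.nd (.nd (.nd (.nd (.lf 0x20f) (.lf 0x34f)) (.nd (.lf 0x3b3) (.lf 0x520))) (.nd (.nd (.lf 0x825) (.lf 0xd06)) (.nd (.lf 0x6da) (.lf 0x324)))) (.nd (.nd (.nd (.lf 0x7cf) (.lf 0xcd)) (.nd (.lf 0x632) (.lf 0xc2f))) (.nd (.nd (.lf 0x76c) (.lf 0x7a2)) (.nd (.lf 0x133) (.lf 0)))))))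
def rkT_nabbaaa : Tr := (.nd (.nd (.nd (.nd (.nd (.nd (.lf 0x2b9) (.lf 0x8)) (.nd (.lf 0x32e) (.lf 0x725))) (.nd (.nd (.lf 0xe54) (.lf 0xba9)) (.nd (.lf 0xf9a) (.lf 0xdc3)))) (.nd (.nd (.nd (.lf 0x92b) (.lf 0x81f)) (.nd (.lf 0x67a) (.lf 0x7ae))) (.nd (.nd (.lf 0x5fd) (.lf 0x954)) (.nd (.lf 0xbd4) (.lf 0x6ff))))) (.nd (.nd (.nd (.nd (.lf 0x344) (.lf 0x146)) (.nd (.lf 0x465) (.lf 0xc16))) (.nd (.nd (.lf 0xe74) (.lf 0x913)) (.nd (.lf 0x496) (.lf 0xcc)))) (.nd (.nd (.nd (.lf 0xcea) (.lf 0xd56)) (.nd (.lf 0x879) (.lf 0xb43))) (.nd (.nd (.lf 0x7d) (.lf 0x22e)) (.nd (.lf 0xbb1) (.lf 0xc75)))))) (.nd (.nd (.nd (.nd (.nd (.lf 0x196) (.lf 0xd2e)) (.nd (.lf 0x5de) (.lf 0x986))) (.nd (.nd (.lf 0xaf9) (.lf 0x567)) (.nd (.lf 0x67b) (.lf 0x502))))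 (.nd (.nd (.nd (.lf 0x6a) (.lf 0x3f7)) (.nd (.lf 0x261) (.lf 0xbf))) (.nd (.nd (.lf 0xe4) (.lf 0x19e)) (.nd (.lf 0x4d4) (.lf 0x8e1))))) (.nd (.nd (.nd (.nd (.lf 0x973) (.lf 0x7a)) (.nd (.lf 0xbe5) (.lf 0x410))) (.nd (.nd (.lf 0x54) (.lf 0x2b)) (.nd (.lf 0x3ee) (.lf 0x513)))) (.nd (.nd (.nd (.lf 0xe35) (.lf 0x6e5)) (.nd (.lf 0x8b4) (.lf 0xc62))) (.nd (.nd (.lf 0x28c) (.lf 0x9b4)) (.nd (.lf 0x47e) (.lf 0x5ea)))))))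
def rkT_nabbaab : Tr := (.nd (.nd (.nd (.nd (.nd (.nd (.lf 0xb62) (.lf 0x3a7)) (.nd (.lf 0x450) (.lf 0x653))) (.nd (.nd (.lf 0x96c) (.lf 0x295)) (.nd (.lf 0xd7) (.lf 0xa90)))) (.nd (.nd (.nd (.lf 0x881) (.lf 0xa08)) (.nd (.lf 0x7d0) (.lf 0x36f))) (.nd (.nd (.lf 0x606) (.lf 0x8df)) (.nd (.lf 0xaee) (.lf 0x2f1))))) (.nd (.nd (.nd (.nd (.lf 0x813) (.lf 0xd9c)) (.nd (.lf 0x908) (.lf 0x19f))) (.nd (.nd (.lf 0x1e3) (.lf 0x6b2)) (.nd (.lf 0x2c4) (.lf 0xf21)))) (.nd (.nd (.nd (.lf 0x7a6) (.lf 0x7f7)) (.nd (.lf 0x92f) (.lf 0x6cc))) (.nd (.nd (.lf 0x304) (.lf 0x2c1)) (.nd (.lf 0xb82) (.lf 0xabd)))))) (.nd (.nd (.nd (.nd (.nd (.lf 0xc70) (.lf 0x2db)) (.nd (.lf 0x26c) (.lf 0x4f7))) (.nd (.nd (.lf 0x477) (.lf 0x23f)) (.nd (.lf 0xb55) (.lf 0xd6d))))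 (.nd (.nd (.nd (.lf 0xd08) (.lf 0xeeb)) (.nd (.lf 0x43) (.lf 0x85c))) (.nd (.nd (.lf 0xaf8) (.lf 0x136)) (.nd (.lf 0xb30) (.lf 0xb3d))))) (.nd (.nd (.nd (.nd (.lf 0x4c0) (.lf 0x95b)) (.nd (.lf 0x62) (.lf 0x267))) (.nd (.nd (.lf 0xa84) (.lf 0xc0e)) (.nd (.lf 0xd18) (.lf 0x431)))) (.nd (.nd (.nd (.lf 0x79a) (.lf 0xe73)) (.nd (.lf 0x626) (.lf 0xe3c))) (.nd (.nd (.lf 0x29e) (.lf 0x266)) (.nd (.lf 0x389) (.lf 0)))))))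
def rkT_nabbaba : Tr := (.nd (.nd (.nd (.nd (.nd (.nd (.lf 0xed2) (.lf 0xb15)) (.nd (.lf 0xa2a) (.lf 0x41e))) (.nd (.nd (.lf 0x1fa) (.lf 0x7de)) (.nd (.lf 0x4b7) (.lf 0x72e)))) (.nd (.nd (.nd (.lf 0x3b6) (.lf 0x305)) (.nd (.lf 0x38e) (.lf 0x5e6))) (.nd (.nd (.lf 0x485) (.lf 0x299)) (.nd (.lf 0x597) (.lf 0xa4c))))) (.nd (.nd (.nd (.nd (.lf 0x25f) (.lf 0x17b)) (.nd (.lf 0xd1f) (.lf 0xf12))) (.nd (.nd (.lf 0x345) (.lf 0xe6)) (.nd (.lf 0x34b) (.lf 0xcc8)))) (.nd (.nd (.nd (.lf 0xa16) (.lf 0x470)) (.nd (.lf 0x8e2) (.lf 0xf0c))) (.nd (.nd (.lf 0xfa3) (.lf 0x307)) (.nd (.lf 0xd66) (.lf 0x619)))))) (.nd (.nd (.nd (.nd (.nd (.lf 0xe82) (.lf 0x293)) (.nd (.lf 0xe20) (.lf 0xd8e))) (.nd (.nd (.lf 0x98d) (.lf 0x5d1)) (.nd (.lf 0xb5d) (.lf 0x995))))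 (.nd (.nd (.nd (.lf 0x91a) (.lf 0x5c4)) (.nd (.lf 0x25) (.lf 0x242))) (.nd (.nd (.lf 0x491) (.lf 0x5a1)) (.nd (.lf 0xe57) (.lf 0x71b))))) (.nd (.nd (.nd (.nd (.lf 0xdbc) (.lf 0x75)) (.nd (.lf 0x442) (.lf 0x250))) (.nd (.nd (.lf 0xb7f) (.lf 0x868)) (.nd (.lf 0xc1a) (.lf 0xd7d)))) (.nd (.nd (.nd (.lf 0x97a) (.lf 0x1a7)) (.nd (.lf 0x8a) (.lf 0xbdb))) (.nd (.nd (.lf 0x579) (.lf 0x587)) (.nd (.lf 0xec7) (.lf 0x8c6)))))))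
def rkT_nabbabb : Tr := (.nd (.nd (.nd (.nd (.nd (.nd (.lf 0xdab) (.lf 0xf3)) (.nd (.lf 0x796) (.lf 0x321))) (.nd (.nd (.lf 0xbc) (.lf 0x6b4)) (.nd (.lf 0x7e6) (.lf 0x56f)))) (.nd (.nd (.nd (.lf 0xc1) (.lf 0xf3d)) (.nd (.lf 0x684) (.lf 0xbe7))) (.nd (.nd (.lf 0x9c1) (.lf 0xe36)) (.nd (.lf 0xf36) (.lf 0xe26))))) (.nd (.nd (.nd (.nd (.lf 0x214) (.lf 0x5da)) (.nd (.lf 0xadb) (.lf 0x7f4))) (.nd (.nd (.lf 0x212) (.lf 0x362)) (.nd (.lf 0xf64) (.lf 0x7c)))) (.nd (.nd (.nd (.lf 0xd1d) (.lf 0x1ff)) (.nd (.lf 0xebe) (.lf 0x622))) (.nd (.nd (.lf 0x6c8) (.lf 0x7be)) (.nd (.lf 0xb85) (.lf 0xcb0)))))) (.nd (.nd (.nd (.nd (.nd (.lf 0x363) (.lf 0xad4)) (.nd (.lf 0x34e) (.lf 0x456))) (.nd (.nd (.lf 0xb70) (.lf 0xc8a)) (.nd (.lf 0x94e) (.lf 0x9))))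 (.nd (.nd (.nd (.lf 0x48a) (.lf 0x13f)) (.nd (.lf 0x7bf) (.lf 0x514))) (.nd (.nd (.lf 0xa71) (.lf 0x96d)) (.nd (.lf 0xec8) (.lf 0x57c))))) (.nd (.nd (.nd (.nd (.lf 0xf72) (.lf 0x635)) (.nd (.lf 0x6a1) (.lf 0x163))) (.nd (.nd (.lf 0xec0) (.lf 0xef8)) (.nd (.lf 0xd0f) (.lf 0xbcc)))) (.nd (.nd (.nd (.lf 0x4f5) (.lf 0x6d0)) (.nd (.lf 0x92) (.lf 0xbe0))) (.nd (.nd (.lf 0x4d2) (.lf 0x274)) (.nd (.lf 0xc30) (.lf 0)))))))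
def rkT_nabbbaa : Tr := (.nd (.nd (.nd (.nd (.nd (.nd (.lf 0xd11) (.lf 0x19)) (.nd (.lf 0x58c) (.lf 0x8c8))) (.nd (.nd (.lf 0x8c1) (.lf 0x288)) (.nd (.lf 0x117) (.lf 0xc6)))) (.nd (.nd (.nd (.lf 0x7d5) (.lf 0x83a)) (.nd (.lf 0x302) (.lf 0x740))) (.nd (.nd (.lf 0x32b) (.lf 0xf29)) (.nd (.lf 0xb01) (.lf 0x1d7))))) (.nd (.nd (.nd (.nd (.lf 0x246) (.lf 0x17e)) (.nd (.lf 0x7a1) (.lf 0xe2a))) (.nd (.nd (.lf 0x3d8) (.lf 0xe0d)) (.nd (.lf 0x4a8) (.lf 0x366)))) (.nd (.nd (.nd (.lf 0x9ff) (.lf 0x332)) (.nd (.lf 0x25a) (.lf 0xac2))) (.nd (.nd (.lf 0x753) (.lf 0xd85)) (.nd (.lf 0xe60) (.lf 0xa69)))))) (.nd (.nd (.nd (.nd (.nd (.lf 0x8bd) (.lf 0xf3e)) (.nd (.lf 0x63e) (.lf 0xb00))) (.nd (.nd (.lf 0x85f) (.lf 0xbf1)) (.nd (.lf 0x176) (.lf 0x5ac))))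 (.nd (.nd (.nd (.lf 0x9c5) (.lf 0xec4)) (.nd (.lf 0x2f8) (.lf 0xa7b))) (.nd (.nd (.lf 0x522) (.lf 0x559)) (.nd (.lf 0xee2) (.lf 0x5f5))))) (.nd (.nd (.nd (.nd (.lf 0xa64) (.lf 0x3a6)) (.nd (.lf 0x93c) (.lf 0x9c7))) (.nd (.nd (.lf 0xc92) (.lf 0x497)) (.nd (.lf 0x3bd) (.lf 0xf49)))) (.nd (.nd (.nd (.lf 0x2ab) (.lf 0x68e)) (.nd (.lf 0x9a3) (.lf 0x776))) (.nd (.nd (.lf 0x8bb) (.lf 0xeb1)) (.nd (.lf 0x664) (.lf 0x77b)))))))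
def rkT_nabbbab : Tr := (.nd (.nd (.nd (.nd (.nd (.nd (.lf 0x109) (.lf 0xe5e)) (.nd (.lf 0x443) (.lf 0xd6))) (.nd (.nd (.lf 0xbbd) (.lf 0x43a)) (.nd (.lf 0x911) (.lf 0xb22)))) (.nd (.nd (.nd (.lf 0xe62) (.lf 0x2ff)) (.nd (.lf 0x965) (.lf 0x49))) (.nd (.nd (.lf 0x63d) (.lf 0x83e)) (.nd (.lf 0x979) (.lf 0x43c))))) (.nd (.nd (.nd (.nd (.lf 0xafc) (.lf 0x4ae)) (.nd (.lf 0x75a) (.lf 0x720))) (.nd (.nd (.lf 0xd99) (.lf 0x649)) (.nd (.lf 0x2aa) (.lf 0xc24)))) (.nd (.nd (.nd (.lf 0x4ab) (.lf 0x35)) (.nd (.lf 0xc1b) (.lf 0x7e9))) (.nd (.nd (.lf 0x498) (.lf 0x767)) (.nd (.lf 0xae3) (.lf 0x728)))))) (.nd (.nd (.nd (.nd (.nd (.lf 0xbdf) (.lf 0x761)) (.nd (.lf 0xbd3) (.lf 0x59c))) (.nd (.nd (.lf 0x95e) (.lf 0xdd1)) (.nd (.lf 0x9df) (.lf 0x37f))))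 (.nd (.nd (.nd (.lf 0x878) (.lf 0x339)) (.nd (.lf 0xf9f) (.lf 0x826))) (.nd (.nd (.lf 0x53d) (.lf 0xc7c)) (.nd (.lf 0x1a) (.lf 0x526))))) (.nd (.nd (.nd (.nd (.lf 0xd68) (.lf 0x21)) (.nd (.lf 0xb5e) (.lf 0x5cc))) (.nd (.nd (.lf 0x87f) (.lf 0x603)) (.nd (.lf 0x257) (.lf 0x8ca)))) (.nd (.nd (.nd (.lf 0xadd) (.lf 0xe8e)) (.nd (.lf 0x6ac) (.lf 0x398))) (.nd (.nd (.lf 0xbb4) (.lf 0x463)) (.nd (.lf 0xb1) (.lf 0)))))))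
def rkT_nabbbba : Tr := (.nd (.nd (.nd (.nd (.nd (.nd (.lf 0xf23) (.lf 0xe12)) (.nd (.lf 0xe64) (.lf 0x7c1))) (.nd (.nd (.lf 0xf0e) (.lf 0x2b4)) (.nd (.lf 0x3e7) (.lf 0xbfe)))) (.nd (.nd (.nd (.lf 0xeb7) (.lf 0xc5f)) (.nd (.lf 0x9c3) (.lf 0xb73))) (.nd (.nd (.lf 0xe08) (.lf 0xb6b)) (.nd (.lf 0x749) (.lf 0xa75))))) (.nd (.nd (.nd (.nd (.lf 0x5d2) (.lf 0xec9)) (.nd (.lf 0x10) (.lf 0xca5))) (.nd (.nd (.lf 0x896) (.lf 0x88b)) (.nd (.lf 0xe9d) (.lf 0x5a6)))) (.nd (.nd (.nd (.lf 0x938) (.lf 0x6b1)) (.nd (.lf 0xb56) (.lf 0xc8))) (.nd (.nd (.lf 0x2dd) (.lf 0xc0f)) (.nd (.lf 0x27) (.lf 0x4b6)))))) (.nd (.nd (.nd (.nd (.nd (.lf 0xec1) (.lf 0x106)) (.nd (.lf 0xece) (.lf 0xdd5))) (.nd (.nd (.lf 0x197) (.lf 0xb57)) (.nd (.lf 0x73e) (.lf 0xc27))))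 (.nd (.nd (.nd (.lf 0x529) (.lf 0x78d)) (.nd (.lf 0x747) (.lf 0xf9))) (.nd (.nd (.lf 0x54e) (.lf 0x7c5)) (.nd (.lf 0x576) (.lf 0xabb))))) (.nd (.nd (.nd (.nd (.lf 0x57d) (.lf 0x586)) (.nd (.lf 0x845) (.lf 0x757))) (.nd (.nd (.lf 0xf5b) (.lf 0xcbc)) (.nd (.lf 0xcef) (.lf 0x541)))) (.nd (.nd (.nd (.lf 0x81b) (.lf 0x233)) (.nd (.lf 0x150) (.lf 0xcd7))) (.nd (.nd (.lf 0x224) (.lf 0xb1b)) (.nd (.lf 0xa7c) (.lf 0)))))))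
def rkT_nabbbbb : Tr := (.nd (.nd (.nd (.nd (.nd (.nd (.lf 0xcc9) (.lf 0xcb9)) (.nd (.lf 0x591) (.lf 0xb8))) (.nd (.nd (.lf 0xbb3) (.lf 0x2a9)) (.nd (.lf 0x259) (.lf 0xd8d)))) (.nd (.nd (.nd (.lf 0xc3) (.lf 0x323)) (.nd (.lf 0xdce) (.lf 0xd41))) (.nd (.nd (.lf 0x5f6) (.lf 0xbf2)) (.nd (.lf 0xb65) (.lf 0x7ab))))) (.nd (.nd (.nd (.nd (.lf 0xcdd) (.lf 0xad6)) (.nd (.lf 0x658) (.lf 0xaac))) (.nd (.nd (.lf 0x875) (.lf 0xb40)) (.nd (.lf 0x876) (.lf 0x5a8)))) (.nd (.nd (.nd (.lf 0x372) (.lf 0x256)) (.nd (.lf 0xd3d) (.lf 0xc41))) (.nd (.nd (.lf 0x1f6) (.lf 0x116)) (.nd (.lf 0x51) (.lf 0x83b)))))) (.nd (.nd (.nd (.nd (.nd (.lf 0x440) (.lf 0xa85)) (.nd (.lf 0xe27) (.lf 0xde6))) (.nd (.nd (.lf 0x4f) (.lf 0xb5)) (.nd (.lf 0x245) (.lf 0x4f3))))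 (.nd (.nd (.nd (.lf 0x2bd) (.lf 0x156)) (.nd (.lf 0x807) (.lf 0x4a4))) (.nd (.nd (.lf 0x3b1) (.lf 0x273)) (.nd (.lf 0x169) (.lf 0x76a))))) (.nd (.nd (.nd (.nd (.lf 0xbf9) (.lf 0xeb8)) (.nd (.lf 0x67d) (.lf 0x27d))) (.nd (.nd (.lf 0x910) (.lf 0x4bd)) (.nd (.lf 0xa72) (.lf 0x37d)))) (.nd (.nd (.nd (.lf 0x698) (.lf 0xf7b)) (.nd (.lf 0xb9) (.lf 0x35f))) (.nd (.nd (.lf 0x278) (.lf 0xad3)) (.nd (.lf 0xa6) (.lf 0)))))))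
def rkT_nbaaaaa : Tr := (.nd (.nd (.nd (.nd (.nd (.nd (.lf 0xf84) (.lf 0xcf6)) (.nd (.lf 0xe4b) (.lf 0x943))) (.nd (.nd (.lf 0x62d) (.lf 0x3dc)) (.nd (.lf 0x8e9) (.lf 0x76e)))) (.nd (.nd (.nd (.lf 0xc28) (.lf 0x93d)) (.nd (.lf 0xa2b) (.lf 0xd5e))) (.nd (.nd (.lf 0x580) (.lf 0x990)) (.nd (.lf 0x1e) (.lf 0xa9a))))) (.nd (.nd (.nd (.nd (.lf 0xf2f) (.lf 0x9ae)) (.nd (.lf 0xf8c) (.lf 0x946))) (.nd (.nd (.lf 0xb3e) (.lf 0x2a)) (.nd (.lf 0xa25) (.lf 0xf1)))) (.nd (.nd (.nd (.lf 0xe8d) (.lf 0xf94)) (.nd (.lf 0xe88) (.lf 0x73c))) (.nd (.nd (.lf 0xf44) (.lf 0x35b)) (.nd (.lf 0xf0) (.lf 0xafd)))))) (.nd (.nd (.nd (.nd (.nd (.lf 0xe98) (.lf 0x988)) (.nd (.lf 0xf0d) (.lf 0xc6b))) (.nd (.nd (.lf 0x95) (.lf 0xa44)) (.nd (.lf 0x198) (.lf 0x493))))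 (.nd (.nd (.nd (.lf 0x5c8) (.lf 0x2d9)) (.nd (.lf 0x9ea) (.lf 0xde1))) (.nd (.nd (.lf 0x872) (.lf 0xf63)) (.nd (.lf 0x5b2) (.lf 0x615))))) (.nd (.nd (.nd (.nd (.lf 0xb4c) (.lf 0xf00)) (.nd (.lf 0xa77) (.lf 0x5e4))) (.nd (.nd (.lf 0x9d3) (.lf 0xae8)) (.nd (.lf 0xdcd) (.lf 0xdf1)))) (.nd (.nd (.nd (.lf 0x84e) (.lf 0xb64)) (.nd (.lf 0xa30) (.lf 0xb8d))) (.nd (.nd (.lf 0x9c6) (.lf 0xb2d)) (.nd (.lf 0x92c) (.lf 0x45a)))))))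
def rkT_nbaaaab : Tr := (.nd (.nd (.nd (.nd (.nd (.nd (.lf 0x23e) (.lf 0x93f)) (.nd (.lf 0xc4b) (.lf 0x10a))) (.nd (.nd (.lf 0x6e1) (.lf 0xae6)) (.nd (.lf 0x252) (.lf 0xf4b)))) (.nd (.nd (.nd (.lf 0xf48) (.lf 0xba)) (.nd (.lf 0xb49) (.lf 0xb91))) (.nd (.nd (.lf 0xc0a) (.lf 0xc95)) (.nd (.lf 0xb6e) (.lf 0x10b))))) (.nd (.nd (.nd (.nd (.lf 0x78a) (.lf 0xe21)) (.nd (.lf 0xb72) (.lf 0xecc))) (.nd (.nd (.lf 0x114) (.lf 0xa7d)) (.nd (.lf 0x4c) (.lf 0xc50)))) (.nd (.nd (.nd (.lf 0x11) (.lf 0xe33)) (.nd (.lf 0xef9) (.lf 0x631))) (.nd (.nd (.lf 0x574) (.lf 0x75e)) (.nd (.lf 0xc5d) (.lf 0x108)))))) (.nd (.nd (.nd (.nd (.nd (.lf 0x407) (.lf 0xe11)) (.nd (.lf 0x27a) (.lf 0x153))) (.nd (.nd (.lf 0x3bb) (.lf 0x991)) (.nd (.lf 0x8e5) (.lf 0xd5f))))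 (.nd (.nd (.nd (.lf 0xb48) (.lf 0x1c4)) (.nd (.lf 0xaed) (.lf 0xca2))) (.nd (.nd (.lf 0x82) (.lf 0x80d)) (.nd (.lf 0xc8e) (.lf 0x953))))) (.nd (.nd (.nd (.nd (.lf 0xdc1) (.lf 0x855)) (.nd (.lf 0xbee) (.lf 0xb33))) (.nd (.nd (.lf 0x147) (.lf 0xdaa)) (.nd (.lf 0xf67) (.lf 0x416)))) (.nd (.nd (.nd (.lf 0x7f3) (.lf 0x7b3)) (.nd (.lf 0x83f) (.lf 0x98))) (.nd (.nd (.lf 0x270) (.lf 0x5b7)) (.nd (.lf 0x612) (.lf 0)))))))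
def rkT_nbaaaba : Tr := (.nd (.nd (.nd (.nd (.nd (.nd (.lf 0xa59) (.lf 0x8fa)) (.nd (.lf 0xc76) (.lf 0xd42))) (.nd (.nd (.lf 0x9f3) (.lf 0xaba)) (.nd (.lf 0x829) (.lf 0xaf2)))) (.nd (.nd (.nd (.lf 0x74c) (.lf 0xa0c)) (.nd (.lf 0xe63) (.lf 0x281))) (.nd (.nd (.lf 0x454) (.lf 0xd8c)) (.nd (.lf 0xd10) (.lf 0x7cc))))) (.nd (.nd (.nd (.nd (.lf 0x348) (.lf 0xaf)) (.nd (.lf 0xf2c) (.lf 0x9f5))) (.nd (.nd (.lf 0xbfc) (.lf 0x8d2)) (.nd (.lf 0x633) (.lf 0x836)))) (.nd (.nd (.nd (.lf 0xe1b) (.lf 0xf02)) (.nd (.lf 0x964) (.lf 0x992))) (.nd (.nd (.lf 0xd9b) (.lf 0xa00)) (.nd (.lf 0xa0) (.lf 0x4da)))))) (.nd (.nd (.nd (.nd (.nd (.lf 0x460) (.lf 0xb41)) (.nd (.lf 0x5af) (.lf 0xd4d))) (.nd (.nd (.lf 0xbc1) (.lf 0xf3c)) (.nd (.lf 0x98b) (.lf 0xc5c))))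 (.nd (.nd (.nd (.lf 0xb71) (.lf 0xc73)) (.nd (.lf 0xb8f) (.lf 0xce3))) (.nd (.nd (.lf 0x570) (.lf 0xa9b)) (.nd (.lf 0xa3f) (.lf 0xe3e))))) (.nd (.nd (.nd (.nd (.lf 0x692) (.lf 0x4a5)) (.nd (.lf 0x830) (.lf 0xa53))) (.nd (.nd (.lf 0xdcc) (.lf 0x221)) (.nd (.lf 0x61d) (.lf 0xcc0)))) (.nd (.nd (.nd (.lf 0xe31) (.lf 0x8ff)) (.nd (.lf 0x801) (.lf 0x3f2))) (.nd (.nd (.lf 0xeaf) (.lf 0xae5)) (.nd (.lf 0xe02) (.lf 0x6ef)))))))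
def rkT_nbaaabb : Tr := (.nd (.nd (.nd (.nd (.nd (.nd (.lf 0xe2) (.lf 0x928)) (.nd (.lf 0x6e9) (.lf 0xa96))) (.nd (.nd (.lf 0xbcd) (.lf 0x40d)) (.nd (.lf 0x2d4) (.lf 0xa6c)))) (.nd (.nd (.nd (.lf 0xa1c) (.lf 0xd92)) (.nd (.lf 0x9b5) (.lf 0xc9a))) (.nd (.nd (.lf 0xc51) (.lf 0x2e5)) (.nd (.lf 0xc8d) (.lf 0xc48))))) (.nd (.nd (.nd (.nd (.lf 0x3a0) (.lf 0x2b8)) (.nd (.lf 0x3ac) (.lf 0xd4e))) (.nd (.nd (.lf 0x4e9) (.lf 0xf73)) (.nd (.lf 0x58) (.lf 0x917)))) (.nd (.nd (.nd (.lf 0xb03) (.lf 0xed8)) (.nd (.lf 0x22b) (.lf 0xe44))) (.nd (.nd (.lf 0x980) (.lf 0xe45)) (.nd (.lf 0xa35) (.lf 0x65b)))))) (.nd (.nd (.nd (.nd (.nd (.lf 0x976) (.lf 0x484)) (.nd (.lf 0x21e) (.lf 0x310))) (.nd (.nd (.lf 0xd19) (.lf 0x3d2)) (.nd (.lf 0x2e9) (.lf 0xf78))))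 (.nd (.nd (.nd (.lf 0xa51) (.lf 0xbea)) (.nd (.lf 0x1d9) (.lf 0x2c3))) (.nd (.nd (.lf 0xdf5) (.lf 0x112)) (.nd (.lf 0x3c6) (.lf 0xf0a))))) (.nd (.nd (.nd (.nd (.lf 0x35e) (.lf 0xca4)) (.nd (.lf 0x7b0) (.lf 0x4ba))) (.nd (.nd (.lf 0xc8b) (.lf 0x61a)) (.nd (.lf 0x21a) (.lf 0x43d)))) (.nd (.nd (.nd (.lf 0x869) (.lf 0xbab)) (.nd (.lf 0x42) (.lf 0x5ca))) (.nd (.nd (.lf 0xef1) (.lf 0xa5c)) (.nd (.lf 0x6bb) (.lf 0)))))))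
def rkT_nbaabaa : Tr := (.nd (.nd (.nd (.nd (.nd (.nd (.lf 0xe3a) (.lf 0xab7)) (.nd (.lf 0xb0b) (.lf 0xe6f))) (.nd (.nd (.lf 0xa0f) (.lf 0x83d)) (.nd (.lf 0x84a) (.lf 0xd97)))) (.nd (.nd (.nd (.lf 0x1ca) (.lf 0xd21)) (.nd (.lf 0x78f) (.lf 0x66f))) (.nd (.nd (.lf 0xbc6) (.lf 0xfb9)) (.nd (.lf 0xe7c) (.lf 0xe7e))))) (.nd (.nd (.nd (.nd (.lf 0xf59) (.lf 0x9b7)) (.nd (.lf 0x208) (.lf 0x14c))) (.nd (.nd (.lf 0x6f7) (.lf 0xcf4)) (.nd (.lf 0x490) (.lf 0xd1a)))) (.nd (.nd (.nd (.lf 0xf69) (.lf 0x98a)) (.nd (.lf 0xef3) (.lf 0x888))) (.nd (.nd (.lf 0xdc7) (.lf 0x585)) (.nd (.lf 0x970) (.lf 0xc82)))))) (.nd (.nd (.nd (.nd (.nd (.lf 0x1f1) (.lf 0xcb3)) (.nd (.lf 0xc2a) (.lf 0xb32))) (.nd (.nd (.lf 0x1b7) (.lf 0xd02)) (.nd (.lf 0x9c9) (.lf 0x2da))))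 (.nd (.nd (.nd (.lf 0xd36) (.lf 0x9c8)) (.nd (.lf 0x85) (.lf 0xbe2))) (.nd (.nd (.lf 0xd28) (.lf 0xa0b)) (.nd (.lf 0x279) (.lf 0xf50))))) (.nd (.nd (.nd (.nd (.lf 0x228) (.lf 0xbec)) (.nd (.lf 0xd86) (.lf 0x2f0))) (.nd (.nd (.lf 0xdca) (.lf 0xb7b)) (.nd (.lf 0xb2b) (.lf 0x104)))) (.nd (.nd (.nd (.lf 0xb36) (.lf 0x670)) (.nd (.lf 0xb1e) (.lf 0xd74))) (.nd (.nd (.lf 0xf9e) (.lf 0xeb4)) (.nd (.lf 0xa7) (.lf 0xd9d)))))))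
def rkT_nbaabab : Tr := (.nd (.nd (.nd (.nd (.nd (.nd (.lf 0x2e4) (.lf 0xcfb)) (.nd (.lf 0x4c2) (.lf 0xd55))) (.nd (.nd (.lf 0x1f) (.lf 0x277)) (.nd (.lf 0x766) (.lf 0xac8)))) (.nd (.nd (.nd (.lf 0x122) (.lf 0x1fe)) (.nd (.lf 0x6e2) (.lf 0x18d))) (.nd (.nd (.lf 0x95d) (.lf 0xf9b)) (.nd (.lf 0x6ea) (.lf 0x5ad))))) (.nd (.nd (.nd (.nd (.lf 0x258) (.lf 0x5d8)) (.nd (.lf 0x476) (.lf 0xc91))) (.nd (.nd (.lf 0x127) (.lf 0x132)) (.nd (.lf 0xfa2) (.lf 0x312)))) (.nd (.nd (.nd (.lf 0x5fe) (.lf 0x680)) (.nd (.lf 0x2c2) (.lf 0xab2))) (.nd (.nd (.lf 0x6eb) (.lf 0x31b)) (.nd (.lf 0xde8) (.lf 0x381)))))) (.nd (.nd (.nd (.nd (.nd (.lf 0xee0) (.lf 0x18f)) (.nd (.lf 0x667) (.lf 0xee6))) (.nd (.nd (.lf 0x75b) (.lf 0xf83)) (.nd (.lf 0x993) (.lf 0xdc8))))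 (.nd (.nd (.nd (.lf 0x5b0) (.lf 0x88a)) (.nd (.lf 0x12d) (.lf 0xd01))) (.nd (.nd (.lf 0x887) (.lf 0x40c)) (.nd (.lf 0xf68) (.lf 0xa18))))) (.nd (.nd (.nd (.nd (.lf 0xab8) (.lf 0x7a4)) (.nd (.lf 0x819) (.lf 0x14a))) (.nd (.nd (.lf 0x471) (.lf 0x729)) (.nd (.lf 0x96) (.lf 0x63c)))) (.nd (.nd (.nd (.lf 0xf5f) (.lf 0xe56)) (.nd (.lf 0x651) (.lf 0x534))) (.nd (.nd (.lf 0xb86) (.lf 0x268)) (.nd (.lf 0xcf1) (.lf 0)))))))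
def rkT_nbaabba : Tr := (.nd (.nd (.nd (.nd (.nd (.nd (.lf 0x361) (.lf 0x555)) (.nd (.lf 0xc65) (.lf 0x391))) (.nd (.nd (.lf 0x969) (.lf 0xe2d)) (.nd (.lf 0x4e5) (.lf 0x6cf)))) (.nd (.nd (.nd (.lf 0x7fc) (.lf 0x817)) (.nd (.lf 0x4db) (.lf 0x2a2))) (.nd (.nd (.lf 0x97c) (.lf 0x838)) (.nd (.lf 0x178) (.lf 0x8dd))))) (.nd (.nd (.nd (.nd (.lf 0xf77) (.lf 0x982)) (.nd (.lf 0x6fe) (.lf 0x530))) (.nd (.nd (.lf 0x5e1) (.lf 0xabf)) (.nd (.lf 0xaf5) (.lf 0x3d)))) (.nd (.nd (.nd (.lf 0x88c) (.lf 0x115)) (.nd (.lf 0xb63) (.lf 0x53a))) (.nd (.nd (.lf 0x23c) (.lf 0xe55)) (.nd (.lf 0xbc2) (.lf 0xc01)))))) (.nd (.nd (.nd (.nd (.nd (.lf 0x3d1) (.lf 0xbc5)) (.nd (.lf 0x8ed) (.lf 0x781))) (.nd (.nd (.lf 0x5ae) (.lf 0x453)) (.nd (.lf 0x8f3) (.lf 0x1da))))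 (.nd (.nd (.nd (.lf 0x8c2) (.lf 0x87c)) (.nd (.lf 0x202) (.lf 0xcac))) (.nd (.nd (.lf 0xdff) (.lf 0xd78)) (.nd (.lf 0x99d) (.lf 0x419))))) (.nd (.nd (.nd (.nd (.lf 0x5d0) (.lf 0x472)) (.nd (.lf 0x9d0) (.lf 0xc6e))) (.nd (.nd (.lf 0x613) (.lf 0x4ca)) (.nd (.lf 0x923) (.lf 0xb1d)))) (.nd (.nd (.nd (.lf 0x144) (.lf 0x860)) (.nd (.lf 0x571) (.lf 0xf01))) (.nd (.nd (.lf 0xc94) (.lf 0xad0)) (.nd (.lf 0x12f) (.lf 0x4d7)))))))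
def rkT_nbaabbb : Tr := (.nd (.nd (.nd (.nd (.nd (.nd (.lf 0x56c) (.lf 0x1ac)) (.nd (.lf 0x1ec) (.lf 0x70d))) (.nd (.nd (.lf 0xd4) (.lf 0x75c)) (.nd (.lf 0x50d) (.lf 0x53e)))) (.nd (.nd (.nd (.lf 0xc09) (.lf 0x5f1)) (.nd (.lf 0x5be) (.lf 0x2f5))) (.nd (.nd (.lf 0x963) (.lf 0x5db)) (.nd (.lf 0xca3) (.lf 0xb2c))))) (.nd (.nd (.nd (.nd (.lf 0x271) (.lf 0x46c)) (.nd (.lf 0x7a8) (.lf 0xada))) (.nd (.nd (.lf 0x17) (.lf 0xc35)) (.nd (.lf 0x13c) (.lf 0x4cf)))) (.nd (.nd (.nd (.lf 0x4ef) (.lf 0x6a7)) (.nd (.lf 0x32a) (.lf 0x85a))) (.nd (.nd (.lf 0xd93) (.lf 0x30b)) (.nd (.lf 0xc4a) (.lf 0x694)))))) (.nd (.nd (.nd (.nd (.nd (.lf 0x4bb) (.lf 0xc42)) (.nd (.lf 0x3e3) (.lf 0x6dc))) (.nd (.nd (.lf 0x82e) (.lf 0x4f9)) (.nd (.lf 0x1a5) (.lf 0xed6))))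 (.nd (.nd (.nd (.lf 0x9bf) (.lf 0x3bc)) (.nd (.lf 0x20b) (.lf 0x843))) (.nd (.nd (.lf 0x688) (.lf 0xe7)) (.nd (.lf 0xd60) (.lf 0xa5f))))) (.nd (.nd (.nd (.nd (.lf 0xf10) (.lf 0x40)) (.nd (.lf 0xb17) (.lf 0x3da))) (.nd (.nd (.lf 0xa63) (.lf 0xb69)) (.nd (.lf 0x3ce) (.lf 0x13b)))) (.nd (.nd (.nd (.lf 0x2c7) (.lf 0xaa)) (.nd (.lf 0xd59) (.lf 0xfcc))) (.nd (.nd (.lf 0x42f) (.lf 0x126)) (.nd (.lf 0x940) (.lf 0)))))))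
def rkT_nbabaaa : Tr := (.nd (.nd (.nd (.nd (.nd (.nd (.lf 0x14f) (.lf 0xb3a)) (.nd (.lf 0x637) (.lf 0x1a1))) (.nd (.nd (.lf 0xdd9) (.lf 0x458)) (.nd (.lf 0x297) (.lf 0xd20)))) (.nd (.nd (.nd (.lf 0xf89) (.lf 0xea3)) (.nd (.lf 0x55) (.lf 0xa07))) (.nd (.nd (.lf 0xd72) (.lf 0xa09)) (.nd (.lf 0x7ca) (.lf 0x4ff))))) (.nd (.nd (.nd (.nd (.lf 0x65f) (.lf 0x710)) (.nd (.lf 0x4d3) (.lf 0xd82))) (.nd (.nd (.lf 0x33c) (.lf 0x294)) (.nd (.lf 0x414) (.lf 0x418)))) (.nd (.nd (.nd (.lf 0xa24) (.lf 0x6aa)) (.nd (.lf 0xf05) (.lf 0x916))) (.nd (.nd (.lf 0xfce) (.lf 0x58d)) (.nd (.lf 0x69a) (.lf 0xd39)))))) (.nd (.nd (.nd (.nd (.nd (.lf 0x6f9) (.lf 0xc9f)) (.nd (.lf 0xb7) (.lf 0x3d5))) (.nd (.nd (.lf 0x8a3) (.lf 0xb29)) (.nd (.lf 0x3) (.lf 0xaa7))))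 (.nd (.nd (.nd (.lf 0xdc9) (.lf 0x167)) (.nd (.lf 0x40e) (.lf 0x2e7))) (.nd (.nd (.lf 0xb25) (.lf 0x326)) (.nd (.lf 0x9af) (.lf 0xf70))))) (.nd (.nd (.nd (.nd (.lf 0x184) (.lf 0x95a)) (.nd (.lf 0x760) (.lf 0x951))) (.nd (.nd (.lf 0x71f) (.lf 0x26e)) (.nd (.lf 0xd44) (.lf 0x2a4)))) (.nd (.nd (.nd (.lf 0x316) (.lf 0x9d2)) (.nd (.lf 0x636) (.lf 0x222))) (.nd (.nd (.lf 0x6c0) (.lf 0xe0e)) (.nd (.lf 0xc15) (.lf 0xd3)))))))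
def rkT_nbabaab : Tr := (.nd (.nd (.nd (.nd (.nd (.nd (.lf 0x815) (.lf 0x16a)) (.nd (.lf 0xe89) (.lf 0xc7a))) (.nd (.nd (.lf 0xf7e) (.lf 0xe3)) (.nd (.lf 0xc1f) (.lf 0x972)))) (.nd (.nd (.nd (.lf 0xca0) (.lf 0xcfa)) (.nd (.lf 0x841) (.lf 0x148))) (.nd (.nd (.lf 0xcb4) (.lf 0x9de)) (.nd (.lf 0xf2e) (.lf 0x24d))))) (.nd (.nd (.nd (.nd (.lf 0xd65) (.lf 0xd43)) (.nd (.lf 0x4a) (.lf 0xb5c))) (.nd (.nd (.lf 0x26b) (.lf 0x8b8)) (.nd (.lf 0xa5) (.lf 0xd0e)))) (.nd (.nd (.nd (.lf 0x99f) (.lf 0x2b7)) (.nd (.lf 0x933) (.lf 0xec))) (.nd (.nd (.lf 0x60a) (.lf 0xb21)) (.nd (.lf 0xa55) (.lf 0x5cb)))))) (.nd (.nd (.nd (.nd (.nd (.lf 0xe81) (.lf 0xe78)) (.nd (.lf 0x2cc) (.lf 0x63))) (.nd (.nd (.lf 0xb11) (.lf 0x517)) (.nd (.lf 0xfc3) (.lf 0xca8))))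 (.nd (.nd (.nd (.lf 0x2cd) (.lf 0xc0)) (.nd (.lf 0x445) (.lf 0xa27))) (.nd (.nd (.lf 0xe9c) (.lf 0xc)) (.nd (.lf 0xd64) (.lf 0x508))))) (.nd (.nd (.nd (.nd (.lf 0x1ae) (.lf 0x721)) (.nd (.lf 0xeca) (.lf 0xa46))) (.nd (.nd (.lf 0xae9) (.lf 0x82d)) (.nd (.lf 0x645) (.lf 0xcd6)))) (.nd (.nd (.nd (.lf 0xcf9) (.lf 0xed7)) (.nd (.lf 0x46a) (.lf 0x469))) (.nd (.nd (.lf 0x8a0) (.lf 0x2e)) (.nd (.lf 0x7b) (.lf 0)))))))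
def rkT_nbababa : Tr := (.nd (.nd (.nd (.nd (.nd (.nd (.lf 0x68) (.lf 0x5cf)) (.nd (.lf 0xa41) (.lf 0x10e))) (.nd (.nd (.lf 0xc36) (.lf 0x368)) (.nd (.lf 0xc4) (.lf 0x785)))) (.nd (.nd (.nd (.lf 0x59a) (.lf 0x4d6)) (.nd (.lf 0xd0) (.lf 0xf1f))) (.nd (.nd (.lf 0x8af) (.lf 0xb18)) (.nd (.lf 0xde3) (.lf 0x6b0))))) (.nd (.nd (.nd (.nd (.lf 0x39f) (.lf 0xc0c)) (.nd (.lf 0x5d4) (.lf 0xa50))) (.nd (.nd (.lf 0x31a) (.lf 0x4d0)) (.nd (.lf 0x2a1) (.lf 0x77f)))) (.nd (.nd (.nd (.lf 0x7e3) (.lf 0x960)) (.nd (.lf 0x322) (.lf 0x9f4))) (.nd (.nd (.lf 0xe58) (.lf 0x786)) (.nd (.lf 0xd7c) (.lf 0x12e)))))) (.nd (.nd (.nd (.nd (.nd (.lf 0x5b3) (.lf 0x5f4)) (.nd (.lf 0x51e) (.lf 0x89b))) (.nd (.nd (.lf 0x6bc) (.lf 0xd5)) (.nd (.lf 0x707) (.lf 0xebd))))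 (.nd (.nd (.nd (.lf 0x365) (.lf 0x1c6)) (.nd (.lf 0xb44) (.lf 0x1e8))) (.nd (.nd (.lf 0x9b) (.lf 0xae4)) (.nd (.lf 0x739) (.lf 0x6c))))) (.nd (.nd (.nd (.nd (.lf 0x329) (.lf 0x8c9)) (.nd (.lf 0xfd4) (.lf 0x832))) (.nd (.nd (.lf 0xeac) (.lf 0x125)) (.nd (.lf 0x88e) (.lf 0xfb8)))) (.nd (.nd (.nd (.lf 0xa60) (.lf 0x59b)) (.nd (.lf 0x922) (.lf 0x6af))) (.nd (.nd (.lf 0xb3c) (.lf 0x49b)) (.nd (.lf 0x51d) (.lf 0xedb)))))))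
def rkT_nbababb : Tr := (.nd (.nd (.nd (.nd (.nd (.nd (.lf 0xa37) (.lf 0xe6c)) (.nd (.lf 0xfa1) (.lf 0xe07))) (.nd (.nd (.lf 0xc23) (.lf 0xd3a)) (.nd (.lf 0xb9a) (.lf 0x8e0)))) (.nd (.nd (.nd (.lf 0x60d) (.lf 0x565)) (.nd (.lf 0x60f) (.lf 0xb7e))) (.nd (.nd (.lf 0x930) (.lf 0xa2e)) (.nd (.lf 0x5f3) (.lf 0x20))))) (.nd (.nd (.nd (.nd (.lf 0xeb0) (.lf 0x6d4)) (.nd (.lf 0xd61) (.lf 0x86))) (.nd (.nd (.lf 0x646) (.lf 0x382)) (.nd (.lf 0x65c) (.lf 0x7b5)))) (.nd (.nd (.nd (.lf 0x8c) (.lf 0x66e)) (.nd (.lf 0x2d8) (.lf 0xf07))) (.nd (.nd (.lf 0xb3f) (.lf 0x3e)) (.nd (.lf 0x931) (.lf 0x417)))))) (.nd (.nd (.nd (.nd (.nd (.lf 0x525) (.lf 0x53f)) (.nd (.lf 0x55a) (.lf 0x9b1))) (.nd (.nd (.lf 0x262) (.lf 0x96b)) (.nd (.lf 0x7e0) (.lf 0x3c3))))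 (.nd (.nd (.nd (.lf 0x236) (.lf 0xde)) (.nd (.lf 0x18e) (.lf 0xe4e))) (.nd (.nd (.lf 0x54f) (.lf 0xe40)) (.nd (.lf 0x403) (.lf 0x100))))) (.nd (.nd (.nd (.nd (.lf 0xf45) (.lf 0xc5)) (.nd (.lf 0x8bf) (.lf 0x81))) (.nd (.nd (.lf 0x706) (.lf 0x429)) (.nd (.lf 0x2a3) (.lf 0xf8)))) (.nd (.nd (.nd (.lf 0xe32) (.lf 0xbff)) (.nd (.lf 0xda) (.lf 0xcdf))) (.nd (.nd (.lf 0x68f) (.lf 0x553)) (.nd (.lf 0xea) (.lf 0)))))))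
def rkT_nbabbaa : Tr := (.nd (.nd (.nd (.nd (.nd (.nd (.lf 0x3ea) (.lf 0xd98)) (.nd (.lf 0x161) (.lf 0x6c6))) (.nd (.nd (.lf 0xaa3) (.lf 0x906)) (.nd (.lf 0x3b7) (.lf 0xc1c)))) (.nd (.nd (.nd (.lf 0x81e) (.lf 0xac3)) (.nd (.lf 0x18) (.lf 0xe25))) (.nd (.nd (.lf 0x1d4) (.lf 0xf5e)) (.nd (.lf 0x5c) (.lf 0x213))))) (.nd (.nd (.nd (.nd (.lf 0x7fd) (.lf 0x325)) (.nd (.lf 0x950) (.lf 0xf85))) (.nd (.nd (.lf 0x625) (.lf 0x4f2)) (.nd (.lf 0x97e) (.lf 0x9a1)))) (.nd (.nd (.nd (.lf 0x39e) (.lf 0xc2b)) (.nd (.lf 0x893) (.lf 0x628))) (.nd (.nd (.lf 0x610) (.lf 0x6be)) (.nd (.lf 0x8a2) (.lf 0x5f9)))))) (.nd (.nd (.nd (.nd (.nd (.lf 0x596) (.lf 0x958)) (.nd (.lf 0x912) (.lf 0xc34))) (.nd (.nd (.lf 0x239) (.lf 0xea5)) (.nd (.lf 0xe51) (.lf 0xd1))))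 (.nd (.nd (.nd (.lf 0xd9e) (.lf 0xaa1)) (.nd (.lf 0xb2e) (.lf 0x352))) (.nd (.nd (.lf 0x6f4) (.lf 0x7f5)) (.nd (.lf 0xba8) (.lf 0xa82))))) (.nd (.nd (.nd (.nd (.lf 0xc18) (.lf 0xf93)) (.nd (.lf 0x962) (.lf 0xcb5))) (.nd (.nd (.lf 0xf1e) (.lf 0x1c1)) (.nd (.lf 0x2c8) (.lf 0x73a)))) (.nd (.nd (.nd (.lf 0x548) (.lf 0x22f)) (.nd (.lf 0x73) (.lf 0x983))) (.nd (.nd (.lf 0x31e) (.lf 0xb67)) (.nd (.lf 0x303) (.lf 0xf3f)))))))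
def rkT_nbabbab : Tr := (.nd (.nd (.nd (.nd (.nd (.nd (.lf 0x152) (.lf 0xec5)) (.nd (.lf 0x2bb) (.lf 0x582))) (.nd (.nd (.lf 0x226) (.lf 0x93)) (.nd (.lf 0x45b) (.lf 0xb47)))) (.nd (.nd (.nd (.lf 0x285) (.lf 0x99e)) (.nd (.lf 0xceb) (.lf 0xa6f))) (.nd (.nd (.lf 0x730) (.lf 0xc6f)) (.nd (.lf 0x5ab) (.lf 0x51b))))) (.nd (.nd (.nd (.nd (.lf 0x9b8) (.lf 0xb4e)) (.nd (.lf 0x78b) (.lf 0x8ae))) (.nd (.nd (.lf 0x25d) (.lf 0xa97)) (.nd (.lf 0x797) (.lf 0x11a)))) (.nd (.nd (.nd (.lf 0xda4) (.lf 0x2c5)) (.nd (.lf 0x1c8) (.lf 0x93e))) (.nd (.nd (.lf 0x111) (.lf 0x51f)) (.nd (.lf 0xb05) (.lf 0x4fd)))))) (.nd (.nd (.nd (.nd (.nd (.lf 0xd6c) (.lf 0x360)) (.nd (.lf 0x1df) (.lf 0x9db))) (.nd (.nd (.lf 0xce9) (.lf 0x3a8)) (.nd (.lf 0xa40) (.lf 0x254))))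 (.nd (.nd (.nd (.lf 0x56b) (.lf 0x5ce)) (.nd (.lf 0x7b7) (.lf 0x70c))) (.nd (.nd (.lf 0x741) (.lf 0x6db)) (.nd (.lf 0xf14) (.lf 0x86a))))) (.nd (.nd (.nd (.nd (.lf 0xf96) (.lf 0x4cd)) (.nd (.lf 0x936) (.lf 0x593))) (.nd (.nd (.lf 0xe2b) (.lf 0xbce)) (.nd (.lf 0xadf) (.lf 0x99)))) (.nd (.nd (.nd (.lf 0xf4) (.lf 0x5f2)) (.nd (.lf 0xd90) (.lf 0xe6b))) (.nd (.nd (.lf 0xf11) (.lf 0x1b2)) (.nd (.lf 0x448) (.lf 0)))))))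
def rkT_nbabbba : Tr := (.nd (.nd (.nd (.nd (.nd (.nd (.lf 0xa8) (.lf 0xb74)) (.nd (.lf 0x243) (.lf 0x1e0))) (.nd (.nd (.lf 0x8d1) (.lf 0xa61)) (.nd (.lf 0x6f1) (.lf 0x865)))) (.nd (.nd (.nd (.lf 0x673) (.lf 0x76f)) (.nd (.lf 0x858) (.lf 0xd95))) (.nd (.nd (.lf 0x6f5) (.lf 0x142)) (.nd (.lf 0x89) (.lf 0x29d))))) (.nd (.nd (.nd (.nd (.lf 0x778) (.lf 0x480)) (.nd (.lf 0xc1e) (.lf 0x4eb))) (.nd (.nd (.lf 0x33b) (.lf 0xf47)) (.nd (.lf 0xa2f) (.lf 0xa11)))) (.nd (.nd (.nd (.lf 0xc3e) (.lf 0xe8c)) (.nd (.lf 0x831) (.lf 0xe83))) (.nd (.nd (.lf 0x723) (.lf 0x756)) (.nd (.lf 0xf0b) (.lf 0x145)))))) (.nd (.nd (.nd (.nd (.nd (.lf 0x188) (.lf 0x488)) (.nd (.lf 0x23b) (.lf 0x6d6))) (.nd (.nd (.lf 0x65) (.lf 0xdc5)) (.nd (.lf 0x634) (.lf 0xc05))))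 (.nd (.nd (.nd (.lf 0x9a5) (.lf 0x9fa)) (.nd (.lf 0x437) (.lf 0xfb))) (.nd (.nd (.lf 0x7a3) (.lf 0x330)) (.nd (.lf 0x415) (.lf 0xbd9))))) (.nd (.nd (.nd (.nd (.lf 0x473) (.lf 0xad1)) (.nd (.lf 0xe77) (.lf 0x3b8))) (.nd (.nd (.lf 0xfd9) (.lf 0x57b)) (.nd (.lf 0xc5b) (.lf 0x8ce)))) (.nd (.nd (.nd (.lf 0xcd4) (.lf 0xd91)) (.nd (.lf 0x91e) (.lf 0xfad))) (.nd (.nd (.lf 0xbac) (.lf 0xd05)) (.nd (.lf 0x1f3) (.lf 0)))))))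
def rkT_nbabbbb : Tr := (.nd (.nd (.nd (.nd (.nd (.nd (.lf 0x4dd) (.lf 0xeff)) (.nd (.lf 0x39) (.lf 0x223))) (.nd (.nd (.lf 0x21b) (.lf 0x69)) (.nd (.lf 0x41a) (.lf 0x967)))) (.nd (.nd (.nd (.lf 0xfda) (.lf 0x3f)) (.nd (.lf 0xe5d) (.lf 0x877))) (.nd (.nd (.lf 0xbd0) (.lf 0x63a)) (.nd (.lf 0xaf4) (.lf 0xcb1))))) (.nd (.nd (.nd (.nd (.lf 0x7a7) (.lf 0x6df)) (.nd (.lf 0xc60) (.lf 0x9aa))) (.nd (.nd (.lf 0x36a) (.lf 0xe46)) (.nd (.lf 0xcaf) (.lf 0x3fa)))) (.nd (.nd (.nd (.lf 0x96f) (.lf 0x3c1)) (.nd (.lf 0x52d) (.lf 0x1e4))) (.nd (.nd (.lf 0x7fe) (.lf 0x3b9)) (.nd (.lf 0xa4e) (.lf 0xf6)))))) (.nd (.nd (.nd (.nd (.nd (.lf 0x4e3) (.lf 0x3fc)) (.nd (.lf 0xcd9) (.lf 0xc3d))) (.nd (.nd (.lf 0x661) (.lf 0x66b)) (.nd (.lf 0x91d) (.lf 0x331))))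 (.nd (.nd (.nd (.lf 0xd4a) (.lf 0x60c)) (.nd (.lf 0x2a0) (.lf 0x6a2))) (.nd (.nd (.lf 0x93b) (.lf 0x647)) (.nd (.lf 0xb58) (.lf 0x50))))) (.nd (.nd (.nd (.nd (.lf 0xaf0) (.lf 0xdf3)) (.nd (.lf 0xab0) (.lf 0xc02))) (.nd (.nd (.lf 0xf28) (.lf 0x95f)) (.nd (.lf 0xe9a) (.lf 0x9a0)))) (.nd (.nd (.nd (.lf 0xea1) (.lf 0x50a)) (.nd (.lf 0xe6a) (.lf 0xb1c))) (.nd (.nd (.lf 0x1d3) (.lf 0xdbe)) (.nd (.lf 0xf15) (.lf 0)))))))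
def rkT_nbbaaaa : Tr := (.nd (.nd (.nd (.nd (.nd (.nd (.lf 0xbef) (.lf 0xa68)) (.nd (.lf 0x3ca) (.lf 0xce))) (.nd (.nd (.lf 0xbbe) (.lf 0x41c)) (.nd (.lf 0x47d) (.lf 0x8ba)))) (.nd (.nd (.nd (.lf 0xc29) (.lf 0xe4a)) (.nd (.lf 0xa06) (.lf 0x9ec))) (.nd (.nd (.lf 0x8fb) (.lf 0xb96)) (.nd (.lf 0xb3b) (.lf 0x8ef))))) (.nd (.nd (.nd (.nd (.lf 0xacb) (.lf 0xe37)) (.nd (.lf 0x79e) (.lf 0xf54))) (.nd (.nd (.lf 0xbed) (.lf 0x7d8)) (.nd (.lf 0x60) (.lf 0xa2)))) (.nd (.nd (.nd (.lf 0x561) (.lf 0xb27)) (.nd (.lf 0x4f4) (.lf 0x39b))) (.nd (.nd (.lf 0xd80) (.lf 0x7b4)) (.nd (.lf 0xd0d) (.lf 0x9e0)))))) (.nd (.nd (.nd (.nd (.nd (.lf 0x854) (.lf 0xce8)) (.nd (.lf 0xfa5) (.lf 0x3d6))) (.nd (.nd (.lf 0x135) (.lf 0xb09)) (.nd (.lf 0xb5b) (.lf 0x6a9))))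 (.nd (.nd (.nd (.lf 0xb46) (.lf 0xa1d)) (.nd (.lf 0x408) (.lf 0x629))) (.nd (.nd (.lf 0xcb) (.lf 0x7c8)) (.nd (.lf 0x140) (.lf 0x560))))) (.nd (.nd (.nd (.nd (.lf 0x354) (.lf 0x89f)) (.nd (.lf 0x902) (.lf 0x8ee))) (.nd (.nd (.lf 0x4e6) (.lf 0xcde)) (.nd (.lf 0xf6c) (.lf 0x9fc)))) (.nd (.nd (.nd (.lf 0x107) (.lf 0xa6b)) (.nd (.lf 0xd71) (.lf 0x85d))) (.nd (.nd (.lf 0x87b) (.lf 0x536)) (.nd (.lf 0xa5d) (.lf 0x924)))))))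
def rkT_nbbaaab : Tr := (.nd (.nd (.nd (.nd (.nd (.nd (.lf 0xd0b) (.lf 0xd5d)) (.nd (.lf 0x9e) (.lf 0xc47))) (.nd (.nd (.lf 0xdee) (.lf 0x654)) (.nd (.lf 0x219) (.lf 0xdb5)))) (.nd (.nd (.nd (.lf 0xdac) (.lf 0x4a0)) (.nd (.lf 0x994) (.lf 0xb12))) (.nd (.nd (.lf 0x578) (.lf 0x641)) (.nd (.lf 0x44f) (.lf 0x1c2))))) (.nd (.nd (.nd (.nd (.lf 0xf37) (.lf 0xe2f)) (.nd (.lf 0x679) (.lf 0xd1b))) (.nd (.nd (.lf 0xe9e) (.lf 0x803)) (.nd (.lf 0x750) (.lf 0x23d)))) (.nd (.nd (.nd (.lf 0x512) (.lf 0xbb5)) (.nd (.lf 0x7ce) (.lf 0x4f1))) (.nd (.nd (.lf 0x2d5) (.lf 0x2ef)) (.nd (.lf 0x5e0) (.lf 0x9d5)))))) (.nd (.nd (.nd (.nd (.nd (.lf 0x48c) (.lf 0x683)) (.nd (.lf 0xcbb) (.lf 0x1b9))) (.nd (.nd (.lf 0x1af) (.lf 0xd15)) (.nd (.lf 0xbaa) (.lf 0x1eb))))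 (.nd (.nd (.nd (.lf 0xf18) (.lf 0x1a0)) (.nd (.lf 0xe0b) (.lf 0x1e5))) (.nd (.nd (.lf 0x74b) (.lf 0x9e4)) (.nd (.lf 0x86e) (.lf 0x9f7))))) (.nd (.nd (.nd (.nd (.lf 0x3fd) (.lf 0x5bd)) (.nd (.lf 0xf2d) (.lf 0x941))) (.nd (.nd (.lf 0xcb8) (.lf 0x180)) (.nd (.lf 0x834) (.lf 0x32)))) (.nd (.nd (.nd (.lf 0x618) (.lf 0xef5)) (.nd (.lf 0x8d4) (.lf 0x608))) (.nd (.nd (.lf 0xf5d) (.lf 0x280)) (.nd (.lf 0xc20) (.lf 0)))))))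
def rkT_nbbaaba : Tr := (.nd (.nd (.nd (.nd (.nd (.nd (.lf 0x2fb) (.lf 0x8d8)) (.nd (.lf 0x863) (.lf 0x909))) (.nd (.nd (.lf 0xca6) (.lf 0x9d6)) (.nd (.lf 0xbbf) (.lf 0xb6a)))) (.nd (.nd (.nd (.lf 0xc46) (.lf 0x46)) (.nd (.lf 0xadc) (.lf 0x734))) (.nd (.nd (.lf 0x28e) (.lf 0x9e9)) (.nd (.lf 0x7f) (.lf 0x5f))))) (.nd (.nd (.nd (.nd (.lf 0x2af) (.lf 0xc89)) (.nd (.lf 0x3f9) (.lf 0xdc6))) (.nd (.nd (.lf 0x6d8) (.lf 0x4fc)) (.nd (.lf 0x12b) (.lf 0x41)))) (.nd (.nd (.nd (.lf 0xbf0) (.lf 0x88d)) (.nd (.lf 0x84) (.lf 0xd6e))) (.nd (.nd (.lf 0xee9) (.lf 0xdf0)) (.nd (.lf 0xc87) (.lf 0x94)))))) (.nd (.nd (.nd (.nd (.nd (.lf 0x8d9) (.lf 0xeb2)) (.nd (.lf 0x802) (.lf 0x62b))) (.nd (.nd (.lf 0xf3a) (.lf 0xed)) (.nd (.lf 0xc57) (.lf 0xb87))))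 (.nd (.nd (.nd (.lf 0x162) (.lf 0x822)) (.nd (.lf 0xb60) (.lf 0xfb5))) (.nd (.nd (.lf 0xce4) (.lf 0xfcb)) (.nd (.lf 0x824) (.lf 0x744))))) (.nd (.nd (.nd (.nd (.lf 0x2ce) (.lf 0x6ba)) (.nd (.lf 0x6ad) (.lf 0x2fe))) (.nd (.nd (.lf 0x1be) (.lf 0x9f6)) (.nd (.lf 0x7ba) (.lf 0xfc8)))) (.nd (.nd (.nd (.lf 0x68b) (.lf 0x957)) (.nd (.lf 0x5a0) (.lf 0x934))) (.nd (.nd (.lf 0xfc9) (.lf 0x746)) (.nd (.lf 0xaf6) (.lf 0x557)))))))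
def rkT_nbbaabb : Tr := (.nd (.nd (.nd (.nd (.nd (.nd (.lf 0xa9c) (.lf 0xbb8)) (.nd (.lf 0x6c9) (.lf 0xe9b))) (.nd (.nd (.lf 0xa33) (.lf 0xac5)) (.nd (.lf 0x6ca) (.lf 0x87)))) (.nd (.nd (.nd (.lf 0xecd) (.lf 0x4df)) (.nd (.lf 0x56a) (.lf 0xdef))) (.nd (.nd (.lf 0xc2d) (.lf 0xd12)) (.nd (.lf 0x88) (.lf 0xd7e))))) (.nd (.nd (.nd (.nd (.lf 0xd62) (.lf 0x9d9)) (.nd (.lf 0xf98) (.lf 0x155))) (.nd (.nd (.lf 0xb4d) (.lf 0x956)) (.nd (.lf 0x22a) (.lf 0xaa4)))) (.nd (.nd (.nd (.lf 0x64d) (.lf 0x5bc)) (.nd (.lf 0x22d) (.lf 0x770))) (.nd (.nd (.lf 0x842) (.lf 0x1cd)) (.nd (.lf 0x73d) (.lf 0xe94)))))) (.nd (.nd (.nd (.nd (.nd (.lf 0xb34) (.lf 0xf76)) (.nd (.lf 0x540) (.lf 0x789))) (.nd (.nd (.lf 0x1d5) (.lf 0xbc9)) (.nd (.lf 0x6d1) (.lf 0x4ea))))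 (.nd (.nd (.nd (.lf 0x880) (.lf 0x515)) (.nd (.lf 0x3de) (.lf 0xb98))) (.nd (.nd (.lf 0xf6f) (.lf 0x21c)) (.nd (.lf 0x58f) (.lf 0xf4f))))) (.nd (.nd (.nd (.nd (.lf 0xe34) (.lf 0x3d7)) (.nd (.lf 0xda5) (.lf 0x49c))) (.nd (.nd (.lf 0x8e3) (.lf 0xfbb)) (.nd (.lf 0x966) (.lf 0x905)))) (.nd (.nd (.nd (.lf 0x5c5) (.lf 0x59d)) (.nd (.lf 0x7eb) (.lf 0x4d5))) (.nd (.nd (.lf 0x336) (.lf 0x1ee)) (.nd (.lf 0x5d9) (.lf 0)))))))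
def rkT_nbbabaa : Tr := (.nd (.nd (.nd (.nd (.nd (.nd (.lf 0x3b) (.lf 0x358)) (.nd (.lf 0x172) (.lf 0xa34))) (.nd (.nd (.lf 0xbd6) (.lf 0x455)) (.nd (.lf 0x516) (.lf 0x3a3)))) (.nd (.nd (.nd (.lf 0xa48) (.lf 0xf81)) (.nd (.lf 0xc5e) (.lf 0xcc5))) (.nd (.nd (.lf 0x926) (.lf 0x47f)) (.nd (.lf 0x5f7) (.lf 0x65a))))) (.nd (.nd (.nd (.nd (.lf 0x85b) (.lf 0x87e)) (.nd (.lf 0x6ce) (.lf 0x7e7))) (.nd (.nd (.lf 0x53b) (.lf 0x798)) (.nd (.lf 0x15b) (.lf 0xd2d)))) (.nd (.nd (.nd (.lf 0x1f9) (.lf 0x4a6)) (.nd (.lf 0x38b) (.lf 0x4b8))) (.nd (.nd (.lf 0x795) (.lf 0x46d)) (.nd (.lf 0xe75) (.lf 0xd13)))))) (.nd (.nd (.nd (.nd (.nd (.lf 0x828) (.lf 0x12a)) (.nd (.lf 0x8b6) (.lf 0x8eb))) (.nd (.nd (.lf 0x8e) (.lf 0x121)) (.nd (.lf 0xd2b) (.lf 0x850))))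 (.nd (.nd (.nd (.lf 0xa78) (.lf 0xdd3)) (.nd (.lf 0x4bf) (.lf 0xc9b))) (.nd (.nd (.lf 0x7dd) (.lf 0xca)) (.nd (.lf 0xde4) (.lf 0x61f))))) (.nd (.nd (.nd (.nd (.lf 0xaa8) (.lf 0xb0)) (.nd (.lf 0x328) (.lf 0x1b5))) (.nd (.nd (.lf 0x7af) (.lf 0xab1)) (.nd (.lf 0xac) (.lf 0x58b)))) (.nd (.nd (.nd (.lf 0xd88) (.lf 0xfdb)) (.nd (.lf 0xc26) (.lf 0x69c))) (.nd (.nd (.lf 0xa) (.lf 0xba6)) (.nd (.lf 0xaa5) (.lf 0x4fa)))))))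
def rkT_nbbabab : Tr := (.nd (.nd (.nd (.nd (.nd (.nd (.lf 0xc59) (.lf 0x84d)) (.nd (.lf 0x72a) (.lf 0x6de))) (.nd (.nd (.lf 0x128) (.lf 0xf55)) (.nd (.lf 0x1e9) (.lf 0x808)))) (.nd (.nd (.nd (.lf 0xa87) (.lf 0xa21)) (.nd (.lf 0xecf) (.lf 0xf1a))) (.nd (.nd (.lf 0x56) (.lf 0x4af)) (.nd (.lf 0x229) (.lf 0x650))))) (.nd (.nd (.nd (.nd (.lf 0xe38) (.lf 0x83c)) (.nd (.lf 0xdd4) (.lf 0xf04))) (.nd (.nd (.lf 0x284) (.lf 0x37e)) (.nd (.lf 0x594) (.lf 0xc4e)))) (.nd (.nd (.nd (.lf 0x6e4) (.lf 0x775)) (.nd (.lf 0x717) (.lf 0x1c7))) (.nd (.nd (.lf 0x24a) (.lf 0x479)) (.nd (.lf 0xeba) (.lf 0x1a6)))))) (.nd (.nd (.nd (.nd (.nd (.lf 0xbd2) (.lf 0x566)) (.nd (.lf 0x5df) (.lf 0xe86))) (.nd (.nd (.lf 0xa66) (.lf 0x4a1)) (.nd (.lf 0xe1c) (.lf 0x367))))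 (.nd (.nd (.nd (.lf 0x40a) (.lf 0x1fb)) (.nd (.lf 0xa29) (.lf 0x677))) (.nd (.nd (.lf 0x420) (.lf 0x141)) (.nd (.lf 0xe5a) (.lf 0x942))))) (.nd (.nd (.nd (.nd (.lf 0xd2f) (.lf 0xe93)) (.nd (.lf 0xcdb) (.lf 0xc07))) (.nd (.nd (.lf 0xfd2) (.lf 0x681)) (.nd (.lf 0x4aa) (.lf 0xd9a)))) (.nd (.nd (.nd (.lf 0xe59) (.lf 0xb5a)) (.nd (.lf 0xcad) (.lf 0x355))) (.nd (.nd (.lf 0x4b1) (.lf 0xc68)) (.nd (.lf 0xa56) (.lf 0)))))))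
def rkT_nbbabba : Tr := (.nd (.nd (.nd (.nd (.nd (.nd (.lf 0x308) (.lf 0xa3e)) (.nd (.lf 0xbf3) (.lf 0x2a7))) (.nd (.nd (.lf 0x404) (.lf 0x18c)) (.nd (.lf 0x1cc) (.lf 0xf65)))) (.nd (.nd (.nd (.lf 0xe5) (.lf 0x8bc)) (.nd (.lf 0xf58) (.lf 0xf62))) (.nd (.nd (.lf 0x189) (.lf 0xbe)) (.nd (.lf 0xe15) (.lf 0x2de))))) (.nd (.nd (.nd (.nd (.lf 0x556) (.lf 0xba3)) (.nd (.lf 0x2eb) (.lf 0x547))) (.nd (.nd (.lf 0xdd6) (.lf 0x745)) (.nd (.lf 0x72) (.lf 0xb53)))) (.nd (.nd (.nd (.lf 0x859) (.lf 0x211)) (.nd (.lf 0xced) (.lf 0xf09))) (.nd (.nd (.lf 0x5bf) (.lf 0xf92)) (.nd (.lf 0x66d) (.lf 0xfb3)))))) (.nd (.nd (.nd (.nd (.nd (.lf 0xb90) (.lf 0xd87)) (.nd (.lf 0xe16) (.lf 0x388))) (.nd (.nd (.lf 0x900) (.lf 0x79b)) (.nd (.lf 0x804) (.lf 0x6e7))))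 (.nd (.nd (.nd (.lf 0x3e0) (.lf 0x6ec)) (.nd (.lf 0x8a7) (.lf 0x8b0))) (.nd (.nd (.lf 0x38c) (.lf 0x5fb)) (.nd (.lf 0x375) (.lf 0x1e7))))) (.nd (.nd (.nd (.nd (.lf 0x1e2) (.lf 0xeda)) (.nd (.lf 0x69e) (.lf 0x528))) (.nd (.nd (.lf 0x5bb) (.lf 0x159)) (.nd (.lf 0xa73) (.lf 0x318)))) (.nd (.nd (.nd (.lf 0x4cb) (.lf 0xfa8)) (.nd (.lf 0x187) (.lf 0x663))) (.nd (.nd (.lf 0x2e0) (.lf 0xf5c)) (.nd (.lf 0xc7d) (.lf 0x430)))))))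
def rkT_nbbabbb : Tr := (.nd (.nd (.nd (.nd (.nd (.nd (.lf 0xe70) (.lf 0x123)) (.nd (.lf 0xe90) (.lf 0x435))) (.nd (.nd (.lf 0x599) (.lf 0x8e4)) (.nd (.lf 0x37b) (.lf 0x569)))) (.nd (.nd (.nd (.lf 0xc08) (.lf 0xd24)) (.nd (.lf 0xa36) (.lf 0xb7a))) (.nd (.nd (.lf 0x103) (.lf 0x25c)) (.nd (.lf 0x8e8) (.lf 0xa6d))))) (.nd (.nd (.nd (.nd (.lf 0xec6) (.lf 0xe3d)) (.nd (.lf 0x291) (.lf 0x5e))) (.nd (.nd (.lf 0x3c0) (.lf 0x8d3)) (.nd (.lf 0x6a4) (.lf 0xfd7)))) (.nd (.nd (.nd (.lf 0x535) (.lf 0xe87)) (.nd (.lf 0x8d0) (.lf 0x5b6))) (.nd (.nd (.lf 0xc58) (.lf 0xc6c)) (.nd (.lf 0x10d) (.lf 0xc45)))))) (.nd (.nd (.nd (.nd (.nd (.lf 0xfe) (.lf 0x71a)) (.nd (.lf 0x301) (.lf 0x350))) (.nd (.nd (.lf 0xf8e) (.lf 0xc04)) (.nd (.lf 0x7a5) (.lf 0xf7c))))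 (.nd (.nd (.nd (.lf 0xd30) (.lf 0xfc7)) (.nd (.lf 0x780) (.lf 0x49d))) (.nd (.nd (.lf 0x4a3) (.lf 0x5b1)) (.nd (.lf 0xb0d) (.lf 0x1b1))))) (.nd (.nd (.nd (.nd (.lf 0x6b3) (.lf 0xf24)) (.nd (.lf 0x5c1) (.lf 0x59e))) (.nd (.nd (.lf 0xeb5) (.lf 0xe3b)) (.nd (.lf 0x978) (.lf 0xd53)))) (.nd (.nd (.nd (.lf 0x49a) (.lf 0x5f0)) (.nd (.lf 0xe42) (.lf 0xb93))) (.nd (.nd (.lf 0x447) (.lf 0xc7e)) (.nd (.lf 0xe3f) (.lf 0)))))))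
def rkT_nbbbaaa : Tr := (.nd (.nd (.nd (.nd (.nd (.nd (.lf 0x32c) (.lf 0xd51)) (.nd (.lf 0x755) (.lf 0xaca))) (.nd (.nd (.lf 0x42d) (.lf 0xbe8)) (.nd (.lf 0xb0c) (.lf 0x83)))) (.nd (.nd (.nd (.lf 0x86f) (.lf 0xe1e)) (.nd (.lf 0xdfa) (.lf 0xdf7))) (.nd (.nd (.lf 0x275) (.lf 0xa80)) (.nd (.lf 0x371) (.lf 0xac1))))) (.nd (.nd (.nd (.nd (.lf 0x97f) (.lf 0x3f4)) (.nd (.lf 0x402) (.lf 0xbdc))) (.nd (.nd (.lf 0xfbf) (.lf 0x2b0)) (.nd (.lf 0x351) (.lf 0x544)))) (.nd (.nd (.nd (.lf 0x7d3) (.lf 0xbb9)) (.nd (.lf 0x904) (.lf 0xc2))) (.nd (.nd (.lf 0x90f) (.lf 0xbcb)) (.nd (.lf 0xf0f) (.lf 0xab6)))))) (.nd (.nd (.nd (.nd (.nd (.lf 0xfb7) (.lf 0xf97)) (.nd (.lf 0x31) (.lf 0xaa9))) (.nd (.nd (.lf 0xe50) (.lf 0x871)) (.nd (.lf 0xe4d) (.lf 0x554))))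 (.nd (.nd (.nd (.lf 0x2ba) (.lf 0x9f1)) (.nd (.lf 0x5b8) (.lf 0x8f0))) (.nd (.nd (.lf 0x7cb) (.lf 0x9cf)) (.nd (.lf 0x7c7) (.lf 0xb78))))) (.nd (.nd (.nd (.nd (.lf 0x50b) (.lf 0xa94)) (.nd (.lf 0x385) (.lf 0x1ce))) (.nd (.nd (.lf 0x583) (.lf 0x743)) (.nd (.lf 0xf4d) (.lf 0xda7)))) (.nd (.nd (.nd (.lf 0xa54) (.lf 0x55b)) (.nd (.lf 0x3ba) (.lf 0x5b9))) (.nd (.nd (.lf 0x69f) (.lf 0x886)) (.nd (.lf 0x6fd) (.lf 0x36b)))))))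
def rkT_nbbbaab : Tr := (.nd (.nd (.nd (.nd (.nd (.nd (.lf 0x28f) (.lf 0x527)) (.nd (.lf 0x7c4) (.lf 0xeea))) (.nd (.nd (.lf 0xaf1) (.lf 0x9d8)) (.nd (.lf 0x851) (.lf 0xd7b)))) (.nd (.nd (.nd (.lf 0x110) (.lf 0xccb)) (.nd (.lf 0x823) (.lf 0xa3c))) (.nd (.nd (.lf 0xdd8) (.lf 0x977)) (.nd (.lf 0xbdd) (.lf 0xc13))))) (.nd (.nd (.nd (.nd (.lf 0x69b) (.lf 0x76b)) (.nd (.lf 0x1f8) (.lf 0x86b))) (.nd (.nd (.lf 0x92e) (.lf 0xe8a)) (.nd (.lf 0xa7a) (.lf 0xd22)))) (.nd (.nd (.nd (.lf 0xce1) (.lf 0xb06)) (.nd (.lf 0xb80) (.lf 0xb6))) (.nd (.nd (.lf 0x98e) (.lf 0x731)) (.nd (.lf 0x7e2) (.lf 0xdc2)))))) (.nd (.nd (.nd (.nd (.nd (.lf 0xb39) (.lf 0x8db)) (.nd (.lf 0x59f) (.lf 0x292))) (.nd (.nd (.lf 0x672) (.lf 0x9f)) (.nd (.lf 0xad) (.lf 0x315))))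 (.nd (.nd (.nd (.lf 0x5f8) (.lf 0xad2)) (.nd (.lf 0x13e) (.lf 0xf57))) (.nd (.nd (.lf 0x7f0) (.lf 0xf9d)) (.nd (.lf 0xdd) (.lf 0xd03))))) (.nd (.nd (.nd (.nd (.lf 0x89e) (.lf 0xace)) (.nd (.lf 0xe97) (.lf 0x7fa))) (.nd (.nd (.lf 0xe7a) (.lf 0x2d3)) (.nd (.lf 0x2ae) (.lf 0xe69)))) (.nd (.nd (.nd (.lf 0x538) (.lf 0xb75)) (.nd (.lf 0xe95) (.lf 0xc9e))) (.nd (.nd (.lf 0xd34) (.lf 0xe1f)) (.nd (.lf 0x45e) (.lf 0)))))))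
def rkT_nbbbaba : Tr := (.nd (.nd (.nd (.nd (.nd (.nd (.lf 0xcec) (.lf 0x901)) (.nd (.lf 0xe76) (.lf 0xc40))) (.nd (.nd (.lf 0x24f) (.lf 0x5fa)) (.nd (.lf 0x201) (.lf 0xdec)))) (.nd (.nd (.nd (.lf 0x899) (.lf 0x20c)) (.nd (.lf 0x377) (.lf 0x732))) (.nd (.nd (.lf 0xb8c) (.lf 0xc2e)) (.nd (.lf 0x2cb) (.lf 0x3be))))) (.nd (.nd (.nd (.nd (.lf 0xdeb) (.lf 0xc9d)) (.nd (.lf 0x489) (.lf 0x4d9))) (.nd (.nd (.lf 0xa1a) (.lf 0x423)) (.nd (.lf 0x41b) (.lf 0xa2d)))) (.nd (.nd (.nd (.lf 0x97) (.lf 0x971)) (.nd (.lf 0x862) (.lf 0xccf))) (.nd (.nd (.lf 0x28d) (.lf 0xf71)) (.nd (.lf 0xf8a) (.lf 0x598)))))) (.nd (.nd (.nd (.nd (.nd (.lf 0x621) (.lf 0x4bc)) (.nd (.lf 0x1db) (.lf 0x61))) (.nd (.nd (.lf 0xce6) (.lf 0xdea)) (.nd (.lf 0xef7) (.lf 0xb26))))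 (.nd (.nd (.nd (.lf 0x5a9) (.lf 0x8cb)) (.nd (.lf 0xeef) (.lf 0x46e))) (.nd (.nd (.lf 0x8a8) (.lf 0x709)) (.nd (.lf 0xf38) (.lf 0x253))))) (.nd (.nd (.nd (.nd (.lf 0x602) (.lf 0xe99)) (.nd (.lf 0x68a) (.lf 0x8b5))) (.nd (.nd (.lf 0xf6e) (.lf 0xcc4)) (.nd (.lf 0xcd8) (.lf 0xc7b)))) (.nd (.nd (.nd (.lf 0x179) (.lf 0x42c)) (.nd (.lf 0x8da) (.lf 0xfa))) (.nd (.nd (.lf 0x848) (.lf 0x58e)) (.nd (.lf 0x333) (.lf 0x87a)))))))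
def rkT_nbbbabb : Tr := (.nd (.nd (.nd (.nd (.nd (.nd (.lf 0xbe3) (.lf 0xdf2)) (.nd (.lf 0xf35) (.lf 0xdf4))) (.nd (.nd (.lf 0x44d) (.lf 0x9f0)) (.nd (.lf 0x47c) (.lf 0x66a)))) (.nd (.nd (.nd (.lf 0x78) (.lf 0xa98)) (.nd (.lf 0x64f) (.lf 0x1c9))) (.nd (.nd (.lf 0x426) (.lf 0xfba)) (.nd (.lf 0x5ed) (.lf 0xd5a))))) (.nd (.nd (.nd (.nd (.lf 0x91b) (.lf 0x124)) (.nd (.lf 0x436) (.lf 0x9a2))) (.nd (.nd (.lf 0x895) (.lf 0x3fe)) (.nd (.lf 0xe4c) (.lf 0x714)))) (.nd (.nd (.nd (.lf 0x9d7) (.lf 0x16d)) (.nd (.lf 0xb8b) (.lf 0x563))) (.nd (.nd (.lf 0x9dd) (.lf 0x2d6)) (.nd (.lf 0x6f8) (.lf 0x38a)))))) (.nd (.nd (.nd (.nd (.nd (.lf 0x9ed) (.lf 0x56d)) (.nd (.lf 0x21f) (.lf 0x46f))) (.nd (.nd (.lf 0x10c) (.lf 0x48d)) (.nd (.lf 0x235) (.lf 0x55d))))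 (.nd (.nd (.nd (.lf 0xf51) (.lf 0x1b3)) (.nd (.lf 0xa45) (.lf 0xa7e))) (.nd (.nd (.lf 0x7a9) (.lf 0x9fd)) (.nd (.lf 0x240) (.lf 0xc12))))) (.nd (.nd (.nd (.nd (.lf 0x4de) (.lf 0x364)) (.nd (.lf 0x20e) (.lf 0xf80))) (.nd (.nd (.lf 0x935) (.lf 0xb31)) (.nd (.lf 0xfcf) (.lf 0x7d4)))) (.nd (.nd (.nd (.lf 0x3f3) (.lf 0xe09)) (.nd (.lf 0xea8) (.lf 0x60b))) (.nd (.nd (.lf 0xf8b) (.lf 0x97d)) (.nd (.lf 0xc93) (.lf 0)))))))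
def rkT_nbbbbaa : Tr := (.nd (.nd (.nd (.nd (.nd (.nd (.lf 0xbf8) (.lf 0x605)) (.nd (.lf 0x12c) (.lf 0xda9))) (.nd (.nd (.lf 0x4d8) (.lf 0x19d)) (.nd (.lf 0x379) (.lf 0x2f2)))) (.nd (.nd (.nd (.lf 0xbcf) (.lf 0xa6e)) (.nd (.lf 0x800) (.lf 0x4e7))) (.nd (.nd (.lf 0xdbb) (.lf 0x47b)) (.nd (.lf 0xae7) (.lf 0x7ee))))) (.nd (.nd (.nd (.nd (.lf 0x64a) (.lf 0x6c7)) (.nd (.lf 0x248) (.lf 0xd07))) (.nd (.nd (.lf 0xaaa) (.lf 0x65d)) (.nd (.lf 0xbd) (.lf 0xb08)))) (.nd (.nd (.nd (.lf 0x44c) (.lf 0xee8)) (.nd (.lf 0x6b) (.lf 0x6cd))) (.nd (.nd (.lf 0x4e1) (.lf 0x6c1)) (.nd (.lf 0x985) (.lf 0x9cd)))))) (.nd (.nd (.nd (.nd (.nd (.lf 0xae1) (.lf 0x9ba)) (.nd (.lf 0x8cc) (.lf 0xb95))) (.nd (.nd (.lf 0xa91) (.lf 0x72c)) (.nd (.lf 0x130) (.lf 0xcd3))))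 (.nd (.nd (.nd (.lf 0x205) (.lf 0xdb0)) (.nd (.lf 0x405) (.lf 0xeb3))) (.nd (.nd (.lf 0xe0a) (.lf 0x9cb)) (.nd (.lf 0xb50) (.lf 0x2c0))))) (.nd (.nd (.nd (.nd (.lf 0x68c) (.lf 0xf46)) (.nd (.lf 0x79d) (.lf 0xac9))) (.nd (.nd (.lf 0xa9f) (.lf 0x844)) (.nd (.lf 0x939) (.lf 0xb92)))) (.nd (.nd (.nd (.lf 0x16) (.lf 0xddf)) (.nd (.lf 0x218) (.lf 0x272))) (.nd (.nd (.lf 0x853) (.lf 0xdf6)) (.nd (.lf 0xa12) (.lf 0x837)))))))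
def rkT_nbbbbab : Tr := (.nd (.nd (.nd (.nd (.nd (.nd (.lf 0x79c) (.lf 0xead)) (.nd (.lf 0xa7f) (.lf 0x56e))) (.nd (.nd (.lf 0x665) (.lf 0xc21)) (.nd (.lf 0xd8b) (.lf 0xbf4)))) (.nd (.nd (.nd (.lf 0xdbd) (.lf 0xe65)) (.nd (.lf 0x30c) (.lf 0x101))) (.nd (.nd (.lf 0xc98) (.lf 0x551)) (.nd (.lf 0xdcf) (.lf 0x30f))))) (.nd (.nd (.nd (.nd (.lf 0x5b) (.lf 0x90)) (.nd (.lf 0xdaf) (.lf 0xaa2))) (.nd (.nd (.lf 0x52f) (.lf 0x74d)) (.nd (.lf 0x903) (.lf 0x319)))) (.nd (.nd (.nd (.lf 0x5d6) (.lf 0x7fb)) (.nd (.lf 0x678) (.lf 0x1bc))) (.nd (.nd (.lf 0xf79) (.lf 0x3ec)) (.nd (.lf 0xe23) (.lf 0x230)))))) (.nd (.nd (.nd (.nd (.nd (.lf 0x195) (.lf 0x34)) (.nd (.lf 0x390) (.lf 0x774))) (.nd (.nd (.lf 0x263) (.lf 0xf82)) (.nd (.lf 0x8d5) (.lf 0xd37))))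 (.nd (.nd (.nd (.lf 0x327) (.lf 0xd32)) (.nd (.lf 0x3af) (.lf 0x51a))) (.nd (.nd (.lf 0xd77) (.lf 0x42a)) (.nd (.lf 0x61b) (.lf 0x1a8))))) (.nd (.nd (.nd (.nd (.lf 0x932) (.lf 0x7dc)) (.nd (.lf 0x581) (.lf 0x44e))) (.nd (.nd (.lf 0x183) (.lf 0xa76)) (.nd (.lf 0xafe) (.lf 0x552)))) (.nd (.nd (.nd (.lf 0xd48) (.lf 0x397)) (.nd (.lf 0x864) (.lf 0x8c4))) (.nd (.nd (.lf 0xbfd) (.lf 0x466)) (.nd (.lf 0x64) (.lf 0)))))))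
def rkT_nbbbbba : Tr := (.nd (.nd (.nd (.nd (.nd (.nd (.lf 0x856) (.lf 0x84b)) (.nd (.lf 0x342) (.lf 0x27e))) (.nd (.nd (.lf 0x3d4) (.lf 0x857)) (.nd (.lf 0x2ad) (.lf 0xeae)))) (.nd (.nd (.nd (.lf 0x8ab) (.lf 0xfd3)) (.nd (.lf 0x5c6) (.lf 0x3b0))) (.nd (.nd (.lf 0xd14) (.lf 0x507)) (.nd (.lf 0x921) (.lf 0x6f2))))) (.nd (.nd (.nd (.nd (.lf 0xe7d) (.lf 0x531)) (.nd (.lf 0x733) (.lf 0x134))) (.nd (.nd (.lf 0xef2) (.lf 0xa49)) (.nd (.lf 0xdb1) (.lf 0xbd8)))) (.nd (.nd (.nd (.lf 0x68d) (.lf 0xdae)) (.nd (.lf 0xdb6) (.lf 0x5c7))) (.nd (.nd (.lf 0x238) (.lf 0xcca)) (.nd (.lf 0x20d) (.lf 0x616)))))) (.nd (.nd (.nd (.nd (.nd (.lf 0x9b9) (.lf 0x9e3)) (.nd (.lf 0x686) (.lf 0x34d))) (.nd (.nd (.lf 0x4ce) (.lf 0xf2a)) (.nd (.lf 0xf1d) (.lf 0x777))))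 (.nd (.nd (.nd (.lf 0x765) (.lf 0xc88)) (.nd (.lf 0x52c) (.lf 0x357))) (.nd (.nd (.lf 0xdb9) (.lf 0xc25)) (.nd (.lf 0x9e5) (.lf 0x77a))))) (.nd (.nd (.nd (.nd (.lf 0x67) (.lf 0x812)) (.nd (.lf 0xabc) (.lf 0x194))) (.nd (.nd (.lf 0xade) (.lf 0x9e8)) (.nd (.lf 0x20a) (.lf 0xaea)))) (.nd (.nd (.nd (.lf 0x14) (.lf 0xd6f)) (.nd (.lf 0x269) (.lf 0xeee))) (.nd (.nd (.lf 0x26a) (.lf 0xd54)) (.nd (.lf 0x52a) (.lf 0)))))))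
def rkT_nbbbbbb : Tr := (.nd (.nd (.nd (.nd (.nd (.nd (.lf 0x82f) (.lf 0xb9c)) (.nd (.lf 0x63b) (.lf 0x5eb))) (.nd (.nd (.lf 0x792) (.lf 0x712)) (.nd (.lf 0xaa6) (.lf 0xa52)))) (.nd (.nd (.nd (.lf 0xb61) (.lf 0xd49)) (.nd (.lf 0x80b) (.lf 0x7bb))) (.nd (.nd (.lf 0x7bc) (.lf 0x6b5)) (.nd (.lf 0x48f) (.lf 0xb5f))))) (.nd (.nd (.nd (.nd (.lf 0x799) (.lf 0x690)) (.nd (.lf 0x6a8) (.lf 0x320))) (.nd (.nd (.lf 0x814) (.lf 0xf99)) (.nd (.lf 0xbca) (.lf 0x15e)))) (.nd (.nd (.nd (.lf 0xfa4) (.lf 0xcff)) (.nd (.lf 0xad7) (.lf 0x9e1))) (.nd (.nd (.lf 0x1aa) (.lf 0x16b)) (.nd (.lf 0xca7) (.lf 0x3f0)))))) (.nd (.nd (.nd (.nd (.nd (.lf 0x9c) (.lf 0xd25)) (.nd (.lf 0x64b) (.lf 0x656))) (.nd (.nd (.lf 0xe43) (.lf 0xed1)) (.nd (.lf 0xe5b) (.lf 0x38))))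 (.nd (.nd (.nd (.lf 0x203) (.lf 0x898)) (.nd (.lf 0xb9e) (.lf 0xa2c))) (.nd (.nd (.lf 0x3a5) (.lf 0x102)) (.nd (.lf 0x237) (.lf 0x30d))))) (.nd (.nd (.nd (.nd (.lf 0xcc7) (.lf 0xd8)) (.nd (.lf 0x45f) (.lf 0x3e5))) (.nd (.nd (.lf 0x6cb) (.lf 0xd26)) (.nd (.lf 0x8ad) (.lf 0xec2)))) (.nd (.nd (.nd (.lf 0xb45) (.lf 0x4d)) (.nd (.lf 0x735) (.lf 0xa8f))) (.nd (.nd (.lf 0x840) (.lf 0x438)) (.nd (.lf 0xac0) (.lf 0)))))))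
def rkT : Tr := (.nd (.nd (.nd (.nd (.nd (.nd rkT_naaaaaa rkT_naaaaab) (.nd rkT_naaaaba rkT_naaaabb)) (.nd (.nd rkT_naaabaa rkT_naaabab) (.nd rkT_naaabba rkT_naaabbb))) (.nd (.nd (.nd rkT_naabaaa rkT_naabaab) (.nd rkT_naababa rkT_naababb)) (.nd (.nd rkT_naabbaa rkT_naabbab) (.nd rkT_naabbba rkT_naabbbb)))) (.nd (.nd (.nd (.nd rkT_nabaaaa rkT_nabaaab) (.nd rkT_nabaaba rkT_nabaabb)) (.nd (.nd rkT_nababaa rkT_nababab) (.nd rkT_nababba rkT_nababbb))) (.nd (.nd (.nd rkT_nabbaaa rkT_nabbaab) (.nd rkT_nabbaba rkT_nabbabb)) (.nd (.nd rkT_nabbbaa rkT_nabbbab) (.nd rkT_nabbbba rkT_nabbbbb))))) (.nd (.nd (.nd (.nd (.nd rkT_nbaaaaa rkT_nbaaaab) (.nd rkT_nbaaaba rkT_nbaaabb)) (.nd (.nd rkT_nbaabaa rkT_nbaabab) (.nd rkT_nbaabba rkT_nbaabbb))) (.nd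 (.nd (.nd rkT_nbabaaa rkT_nbabaab) (.nd rkT_nbababa rkT_nbababb)) (.nd (.nd rkT_nbabbaa rkT_nbabbab) (.nd rkT_nbabbba rkT_nbabbbb)))) (.nd (.nd (.nd (.nd rkT_nbbaaaa rkT_nbbaaab) (.nd rkT_nbbaaba rkT_nbbaabb)) (.nd (.nd rkT_nbbabaa rkT_nbbabab) (.nd rkT_nbbabba rkT_nbbabbb))) (.nd (.nd (.nd rkT_nbbbaaa rkT_nbbbaab) (.nd rkT_nbbbaba rkT_nbbbabb)) (.nd (.nd rkT_nbbbbaa rkT_nbbbbab) (.nd rkT_nbbbbba rkT_nbbbbbb))))))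
def srtT_naaaaaa : Tr := (.nd (.nd (.nd (.nd (.nd (.nd (.lf 0x0) (.lf 0x50f)) (.nd (.lf 0xa30) (.lf 0x67a))) (.nd (.nd (.lf 0xe38) (.lf 0xb91)) (.nd (.lf 0xa9c) (.lf 0x4d8)))) (.nd (.nd (.nd (.lf 0xf75) (.lf 0x25b)) (.nd (.lf 0x9a2) (.lf 0x9b0))) (.nd (.nd (.lf 0x1d4) (.lf 0xc4e)) (.nd (.lf 0x8fc) (.lf 0x8c1))))) (.nd (.nd (.nd (.nd (.lf 0x6d2) (.lf 0x173)) (.nd (.lf 0x89d) (.lf 0x824))) (.nd (.nd (.lf 0xbe3) (.lf 0xb07)) (.nd (.lf 0x9a9) (.lf 0xb9a)))) (.nd (.nd (.nd (.lf 0xae3) (.lf 0x3b1)) (.nd (.lf 0x301) (.lf 0x383))) (.nd (.nd (.lf 0x964) (.lf 0x5a7)) (.nd (.lf 0x57b) (.lf 0xcf7)))))) (.nd (.nd (.nd (.nd (.nd (.lf 0x8f9) (.lf 0x3ff)) (.nd (.lf 0x7e) (.lf 0xc17))) (.nd (.nd (.lf 0x777) (.lf 0x66d)) (.nd (.lf 0x44a) (.lf 0xb75))))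 (.nd (.nd (.nd (.lf 0x743) (.lf 0x7f9)) (.nd (.lf 0x473) (.lf 0xc8))) (.nd (.nd (.lf 0xac) (.lf 0xabe)) (.nd (.lf 0xd0e) (.lf 0x724))))) (.nd (.nd (.nd (.nd (.lf 0x965) (.lf 0x50c)) (.nd (.lf 0xe6) (.lf 0xed1))) (.nd (.nd (.lf 0xf4f) (.lf 0x7ff)) (.nd (.lf 0x3c5) (.lf 0x2f6)))) (.nd (.nd (.nd (.lf 0xee8) (.lf 0xb8c)) (.nd (.lf 0x794) (.lf 0x974))) (.nd (.nd (.lf 0x2bb) (.lf 0xe3a)) (.nd (.lf 0xa5c) (.lf 0xe92)))))))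
def srtT_naaaaab : Tr := (.nd (.nd (.nd (.nd (.nd (.nd (.lf 0xf35) (.lf 0x992)) (.nd (.lf 0x36b) (.lf 0x7e3))) (.nd (.nd (.lf 0x614) (.lf 0x842)) (.nd (.lf 0xc5c) (.lf 0x456)))) (.nd (.nd (.nd (.lf 0x934) (.lf 0x884)) (.nd (.lf 0xcfa) (.lf 0xe05))) (.nd (.nd (.lf 0xcbf) (.lf 0x532)) (.nd (.lf 0xcae) (.lf 0xb7c))))) (.nd (.nd (.nd (.nd (.lf 0x791) (.lf 0x3e5)) (.nd (.lf 0x923) (.lf 0x125))) (.nd (.nd (.lf 0x57d) (.lf 0x38c)) (.nd (.lf 0xbbc) (.lf 0x1dc)))) (.nd (.nd (.nd (.lf 0x963) (.lf 0xefd)) (.nd (.lf 0x5d3) (.lf 0xb7a))) (.nd (.nd (.lf 0xb1) (.lf 0x258)) (.nd (.lf 0x170) (.lf 0x92a)))))) (.nd (.nd (.nd (.nd (.nd (.lf 0x683) (.lf 0x9d9)) (.nd (.lf 0x51) (.lf 0x4bd))) (.nd (.nd (.lf 0x5b4) (.lf 0x1d5)) (.nd (.lf 0x92) (.lf 0x78e))))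 (.nd (.nd (.nd (.lf 0x108) (.lf 0x995)) (.nd (.lf 0xf43) (.lf 0x779))) (.nd (.nd (.lf 0x86d) (.lf 0x553)) (.nd (.lf 0x4c5) (.lf 0x8a))))) (.nd (.nd (.nd (.nd (.lf 0x930) (.lf 0xe35)) (.nd (.lf 0x540) (.lf 0xf8))) (.nd (.nd (.lf 0x3db) (.lf 0x73a)) (.nd (.lf 0x654) (.lf 0x69)))) (.nd (.nd (.nd (.lf 0xc1d) (.lf 0xf83)) (.nd (.lf 0x7a3) (.lf 0xb82))) (.nd (.nd (.lf 0x15b) (.lf 0xdf6)) (.nd (.lf 0x675) (.lf 0)))))))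
def srtT_naaaaba : Tr := (.nd (.nd (.nd (.nd (.nd (.nd (.lf 0x49e) (.lf 0xa4)) (.nd (.lf 0xcc6) (.lf 0xc4a))) (.nd (.nd (.lf 0xf4) (.lf 0x400)) (.nd (.lf 0x38d) (.lf 0x5b2)))) (.nd (.nd (.nd (.lf 0x127) (.lf 0x2fe)) (.nd (.lf 0xbb8) (.lf 0x711))) (.nd (.nd (.lf 0xc71) (.lf 0x530)) (.nd (.lf 0x885) (.lf 0xf9))))) (.nd (.nd (.nd (.nd (.lf 0x8af) (.lf 0x982)) (.nd (.lf 0x689) (.lf 0x3b4))) (.nd (.nd (.lf 0xfa4) (.lf 0xe26)) (.nd (.lf 0x8bf) (.lf 0x43b)))) (.nd (.nd (.nd (.lf 0xb00) (.lf 0xb01)) (.nd (.lf 0x9d0) (.lf 0x5ed))) (.nd (.nd (.lf 0x46f) (.lf 0x5b)) (.nd (.lf 0xdcc) (.lf 0x3e4)))))) (.nd (.nd (.nd (.nd (.nd (.lf 0xf7d) (.lf 0xe4b)) (.nd (.lf 0x426) (.lf 0xea1))) (.nd (.nd (.lf 0xcd6) (.lf 0xc95)) (.nd (.lf 0xf2b) (.lf 0x247))))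 (.nd (.nd (.nd (.lf 0x5de) (.lf 0x48d)) (.nd (.lf 0x534) (.lf 0xdda))) (.nd (.nd (.lf 0xc7b) (.lf 0x74f)) (.nd (.lf 0x6a3) (.lf 0xf49))))) (.nd (.nd (.nd (.nd (.lf 0x515) (.lf 0x5bb)) (.nd (.lf 0xa95) (.lf 0xba))) (.nd (.nd (.lf 0xdaa) (.lf 0xbd9)) (.nd (.lf 0x9f6) (.lf 0xac8)))) (.nd (.nd (.nd (.lf 0x3e8) (.lf 0x4d9)) (.nd (.lf 0xd9) (.lf 0x788))) (.nd (.nd (.lf 0xa08) (.lf 0x33d)) (.nd (.lf 0x526) (.lf 0x52c)))))))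
def srtT_naaaabb : Tr := (.nd (.nd (.nd (.nd (.nd (.nd (.lf 0x3b0) (.lf 0x4d1)) (.nd (.lf 0xfdb) (.lf 0x7f6))) (.nd (.nd (.lf 0xfaf) (.lf 0x5c1)) (.nd (.lf 0x19a) (.lf 0x9fc)))) (.nd (.nd (.nd (.lf 0x64f) (.lf 0x335)) (.nd (.lf 0xc99) (.lf 0x17b))) (.nd (.nd (.lf 0xb5d) (.lf 0x766)) (.nd (.lf 0x32d) (.lf 0xaa8))))) (.nd (.nd (.nd (.nd (.lf 0x8cb) (.lf 0xd5b)) (.nd (.lf 0x314) (.lf 0xfb6))) (.nd (.nd (.lf 0xa87) (.lf 0x4fd)) (.nd (.lf 0xf15) (.lf 0xb5)))) (.nd (.nd (.nd (.lf 0x224) (.lf 0xd78)) (.nd (.lf 0x169) (.lf 0x94f))) (.nd (.nd (.lf 0xd1f) (.lf 0x962)) (.nd (.lf 0x4f1) (.lf 0xab0)))))) (.nd (.nd (.nd (.nd (.nd (.lf 0x9b2) (.lf 0xf48)) (.nd (.lf 0x996) (.lf 0x66))) (.nd (.nd (.lf 0x3e1) (.lf 0x320)) (.nd (.lf 0x9c9) (.lf 0x3b))))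 (.nd (.nd (.nd (.lf 0x58) (.lf 0x789)) (.nd (.lf 0x351) (.lf 0xd22))) (.nd (.nd (.lf 0x30a) (.lf 0x276)) (.nd (.lf 0xdb3) (.lf 0xf45))))) (.nd (.nd (.nd (.nd (.lf 0x781) (.lf 0xd47)) (.nd (.lf 0xc04) (.lf 0x4c4))) (.nd (.nd (.lf 0xcc9) (.lf 0xfd)) (.nd (.lf 0x368) (.lf 0xdf0)))) (.nd (.nd (.nd (.lf 0x392) (.lf 0xa37)) (.nd (.lf 0x9fb) (.lf 0xb93))) (.nd (.nd (.lf 0xfbf) (.lf 0x193)) (.nd (.lf 0x367) (.lf 0)))))))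
def srtT_naaabaa : Tr := (.nd (.nd (.nd (.nd (.nd (.nd (.lf 0x806) (.lf 0xe2b)) (.nd (.lf 0x543) (.lf 0x13b))) (.nd (.nd (.lf 0x489) (.lf 0x926)) (.nd (.lf 0xde3) (.lf 0x31e)))) (.nd (.nd (.nd (.lf 0xfa1) (.lf 0x4a6)) (.nd (.lf 0xf65) (.lf 0x166))) (.nd (.nd (.lf 0x1b) (.lf 0xe8f)) (.nd (.lf 0xfc2) (.lf 0x452))))) (.nd (.nd (.nd (.nd (.lf 0x733) (.lf 0xd89)) (.nd (.lf 0x85d) (.lf 0x95f))) (.nd (.nd (.lf 0xa0e) (.lf 0x7aa)) (.nd (.lf 0x379) (.lf 0x581)))) (.nd (.nd (.nd (.lf 0x5d) (.lf 0x841)) (.nd (.lf 0xbe2) (.lf 0x1cb))) (.nd (.nd (.lf 0xc5b) (.lf 0xca0)) (.nd (.lf 0x774) (.lf 0x564)))))) (.nd (.nd (.nd (.nd (.nd (.lf 0x2c0) (.lf 0x3d7)) (.nd (.lf 0x7ed) (.lf 0xf31))) (.nd (.nd (.lf 0x48f) (.lf 0x10b)) (.nd (.lf 0xc18) (.lf 0x3c))))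 (.nd (.nd (.nd (.lf 0xd25) (.lf 0x96a)) (.nd (.lf 0x1cd) (.lf 0x1ef))) (.nd (.nd (.lf 0x91) (.lf 0x161)) (.nd (.lf 0x262) (.lf 0x121))))) (.nd (.nd (.nd (.nd (.lf 0xd9e) (.lf 0xc0e)) (.nd (.lf 0xb5c) (.lf 0xe96))) (.nd (.nd (.lf 0x6cd) (.lf 0xe29)) (.nd (.lf 0x3b6) (.lf 0x776)))) (.nd (.nd (.nd (.lf 0x5ad) (.lf 0x949)) (.nd (.lf 0x141) (.lf 0xe69))) (.nd (.nd (.lf 0x1e2) (.lf 0x77c)) (.nd (.lf 0xb43) (.lf 0xed3)))))))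
def srtT_naaabab : Tr := (.nd (.nd (.nd (.nd (.nd (.nd (.lf 0x22a) (.lf 0x4b)) (.nd (.lf 0xdb2) (.lf 0x101))) (.nd (.nd (.lf 0xc9) (.lf 0x298)) (.nd (.lf 0xd8d) (.lf 0xd38)))) (.nd (.nd (.nd (.lf 0x22b) (.lf 0x831)) (.nd (.lf 0xcdb) (.lf 0x349))) (.nd (.nd (.lf 0x4cb) (.lf 0x4e8)) (.nd (.lf 0xfae) (.lf 0x2fd))))) (.nd (.nd (.nd (.nd (.lf 0x1d) (.lf 0x357)) (.nd (.lf 0x68e) (.lf 0xe65))) (.nd (.nd (.lf 0x750) (.lf 0xcb)) (.nd (.lf 0x4bf) (.lf 0x5f7)))) (.nd (.nd (.nd (.lf 0xf6f) (.lf 0xa80)) (.nd (.lf 0xebe) (.lf 0xba0))) (.nd (.nd (.lf 0xa6d) (.lf 0x74d)) (.nd (.lf 0x4b9) (.lf 0x9db)))))) (.nd (.nd (.nd (.nd (.nd (.lf 0x15) (.lf 0xad6)) (.nd (.lf 0xb90) (.lf 0xbeb))) (.nd (.nd (.lf 0xbe9) (.lf 0x803)) (.nd (.lf 0x684) (.lf 0x8d8))))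 (.nd (.nd (.nd (.lf 0x4b8) (.lf 0x4cc)) (.nd (.lf 0xd44) (.lf 0xee))) (.nd (.nd (.lf 0xa15) (.lf 0x2a0)) (.nd (.lf 0xc60) (.lf 0x769))))) (.nd (.nd (.nd (.nd (.lf 0xbec) (.lf 0x73b)) (.nd (.lf 0xd82) (.lf 0x843))) (.nd (.nd (.lf 0xab8) (.lf 0xac1)) (.nd (.lf 0x8ac) (.lf 0x98f)))) (.nd (.nd (.nd (.lf 0xd55) (.lf 0xadf)) (.nd (.lf 0x6e4) (.lf 0x7a9))) (.nd (.nd (.lf 0xae0) (.lf 0xa07)) (.nd (.lf 0x254) (.lf 0)))))))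
def srtT_naaabba : Tr := (.nd (.nd (.nd (.nd (.nd (.nd (.lf 0x50d) (.lf 0xf60)) (.nd (.lf 0xe85) (.lf 0xcd))) (.nd (.nd (.lf 0x5cf) (.lf 0xf69)) (.nd (.lf 0x1e3) (.lf 0x524)))) (.nd (.nd (.nd (.lf 0xba8) (.lf 0x608)) (.nd (.lf 0x5fc) (.lf 0x6e6))) (.nd (.nd (.lf 0xedb) (.lf 0xb15)) (.nd (.lf 0x70) (.lf 0x163))))) (.nd (.nd (.nd (.nd (.lf 0xde1) (.lf 0x97f)) (.nd (.lf 0x3ae) (.lf 0x32f))) (.nd (.nd (.lf 0xe1c) (.lf 0x937)) (.nd (.lf 0x1fe) (.lf 0x41)))) (.nd (.nd (.nd (.lf 0x641) (.lf 0x632)) (.nd (.lf 0xf97) (.lf 0x80d))) (.nd (.nd (.lf 0xdee) (.lf 0xd73)) (.nd (.lf 0xa8b) (.lf 0x4b3)))))) (.nd (.nd (.nd (.nd (.nd (.lf 0x6b1) (.lf 0x51d)) (.nd (.lf 0xa05) (.lf 0x3bb))) (.nd (.nd (.lf 0xa9) (.lf 0x2b2)) (.nd (.lf 0x4be) (.lf 0x395))))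 (.nd (.nd (.nd (.lf 0xd2) (.lf 0x84d)) (.nd (.lf 0xa84) (.lf 0xd80))) (.nd (.nd (.lf 0x80b) (.lf 0x77d)) (.nd (.lf 0x7cc) (.lf 0x51b))))) (.nd (.nd (.nd (.nd (.lf 0x8ff) (.lf 0x813)) (.nd (.lf 0x20f) (.lf 0x6d7))) (.nd (.nd (.lf 0x5b5) (.lf 0xb4a)) (.nd (.lf 0x293) (.lf 0x9b1)))) (.nd (.nd (.nd (.lf 0xfaa) (.lf 0xa27)) (.nd (.lf 0x8a9) (.lf 0x327))) (.nd (.nd (.lf 0x28e) (.lf 0xe9f)) (.nd (.lf 0xa83) (.lf 0xd0)))))))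
def srtT_naaabbb : Tr := (.nd (.nd (.nd (.nd (.nd (.nd (.lf 0xe7f) (.lf 0xb19)) (.nd (.lf 0xbff) (.lf 0xe14))) (.nd (.nd (.lf 0x39f) (.lf 0x322)) (.nd (.lf 0xe94) (.lf 0xab)))) (.nd (.nd (.nd (.lf 0x91c) (.lf 0x19e)) (.nd (.lf 0x1e7) (.lf 0xb0c))) (.nd (.nd (.lf 0xeb8) (.lf 0x1b4)) (.nd (.lf 0x132) (.lf 0x757))))) (.nd (.nd (.nd (.nd (.lf 0xc3e) (.lf 0xaa5)) (.nd (.lf 0xd8b) (.lf 0x2e3))) (.nd (.nd (.lf 0x8b1) (.lf 0xe9)) (.nd (.lf 0xa64) (.lf 0x8fe)))) (.nd (.nd (.nd (.lf 0xd42) (.lf 0xad)) (.nd (.lf 0x547) (.lf 0xe1a))) (.nd (.nd (.lf 0xcdd) (.lf 0x833)) (.nd (.lf 0x3c2) (.lf 0xed5)))))) (.nd (.nd (.nd (.nd (.nd (.lf 0x137) (.lf 0x16e)) (.nd (.lf 0xe12) (.lf 0x8d2))) (.nd (.nd (.lf 0x3fe) (.lf 0x14b)) (.nd (.lf 0x5af) (.lf 0x865))))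 (.nd (.nd (.nd (.lf 0x719) (.lf 0x6fb)) (.nd (.lf 0x323) (.lf 0xb59))) (.nd (.nd (.lf 0x328) (.lf 0xf47)) (.nd (.lf 0x9d) (.lf 0xe71))))) (.nd (.nd (.nd (.nd (.lf 0xef5) (.lf 0x77a)) (.nd (.lf 0x474) (.lf 0x854))) (.nd (.nd (.lf 0x54e) (.lf 0x366)) (.nd (.lf 0x7b7) (.lf 0xaf6)))) (.nd (.nd (.nd (.lf 0x4a7) (.lf 0x9c0)) (.nd (.lf 0x167) (.lf 0xb74))) (.nd (.nd (.lf 0xc0c) (.lf 0xf)) (.nd (.lf 0x1d0) (.lf 0)))))))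
def srtT_naabaaa : Tr := (.nd (.nd (.nd (.nd (.nd (.nd (.lf 0xf3a) (.lf 0x65b)) (.nd (.lf 0x21b) (.lf 0xa7b))) (.nd (.nd (.lf 0x5d4) (.lf 0x282)) (.nd (.lf 0x89a) (.lf 0xe6c)))) (.nd (.nd (.nd (.lf 0xec9) (.lf 0x587)) (.nd (.lf 0x4fc) (.lf 0xcc0))) (.nd (.nd (.lf 0x3a6) (.lf 0xfc4)) (.nd (.lf 0x80a) (.lf 0xcab))))) (.nd (.nd (.nd (.nd (.lf 0x593) (.lf 0x15c)) (.nd (.lf 0x871) (.lf 0xdf4))) (.nd (.nd (.lf 0x2ab) (.lf 0x2e6)) (.nd (.lf 0x536) (.lf 0x814)))) (.nd (.nd (.nd (.lf 0xc5) (.lf 0x9e8)) (.nd (.lf 0x3f4) (.lf 0xcf0))) (.nd (.nd (.lf 0xd02) (.lf 0x4a0)) (.nd (.lf 0xb58) (.lf 0x1)))))) (.nd (.nd (.nd (.nd (.nd (.lf 0x520) (.lf 0xacf)) (.nd (.lf 0xc62) (.lf 0xa72))) (.nd (.nd (.lf 0x5c0) (.lf 0xa41)) (.nd (.lf 0xb94) (.lf 0xdb1))))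 (.nd (.nd (.nd (.lf 0x1d9) (.lf 0xbea)) (.nd (.lf 0xe87) (.lf 0x6c5))) (.nd (.nd (.lf 0x86) (.lf 0x555)) (.nd (.lf 0xf53) (.lf 0x381))))) (.nd (.nd (.nd (.nd (.lf 0x615) (.lf 0xdef)) (.nd (.lf 0xb04) (.lf 0xad7))) (.nd (.nd (.lf 0x6a6) (.lf 0x792)) (.nd (.lf 0x8bc) (.lf 0x94e)))) (.nd (.nd (.nd (.lf 0x961) (.lf 0x1d8)) (.nd (.lf 0x956) (.lf 0x302))) (.nd (.nd (.lf 0x59a) (.lf 0xf3c)) (.nd (.lf 0x427) (.lf 0xe28)))))))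
def srtT_naabaab : Tr := (.nd (.nd (.nd (.nd (.nd (.nd (.lf 0x28c) (.lf 0x753)) (.nd (.lf 0xf5c) (.lf 0xeae))) (.nd (.nd (.lf 0x3de) (.lf 0x185)) (.nd (.lf 0x344) (.lf 0x912)))) (.nd (.nd (.nd (.lf 0x8b7) (.lf 0xfc3)) (.nd (.lf 0xf68) (.lf 0x93b))) (.nd (.nd (.lf 0xefa) (.lf 0xdc8)) (.nd (.lf 0x778) (.lf 0x8fb))))) (.nd (.nd (.nd (.nd (.lf 0x1bc) (.lf 0xdfc)) (.nd (.lf 0xd7e) (.lf 0x8f1))) (.nd (.nd (.lf 0xec5) (.lf 0xeb3)) (.nd (.lf 0x6bb) (.lf 0xa9a)))) (.nd (.nd (.nd (.lf 0x152) (.lf 0x4f0)) (.nd (.lf 0x620) (.lf 0x1ad))) (.nd (.nd (.lf 0xbb2) (.lf 0xfb0)) (.nd (.lf 0x8e9) (.lf 0x1bf)))))) (.nd (.nd (.nd (.nd (.nd (.lf 0x7ef) (.lf 0x5ef)) (.nd (.lf 0x800) (.lf 0xbc4))) (.nd (.nd (.lf 0x76a) (.lf 0xce)) (.nd (.lf 0x7ce) (.lf 0x41e))))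 (.nd (.nd (.nd (.lf 0x1b2) (.lf 0x591)) (.nd (.lf 0xce0) (.lf 0x765))) (.nd (.nd (.lf 0x8f7) (.lf 0x9c1)) (.nd (.lf 0x24a) (.lf 0x6b6))))) (.nd (.nd (.nd (.nd (.lf 0x346) (.lf 0xa3b)) (.nd (.lf 0x832) (.lf 0x353))) (.nd (.nd (.lf 0x29) (.lf 0xb55)) (.nd (.lf 0x1ab) (.lf 0x54a)))) (.nd (.nd (.nd (.lf 0xdbd) (.lf 0xb63)) (.nd (.lf 0xcc1) (.lf 0x74b))) (.nd (.nd (.lf 0x6ec) (.lf 0xe2c)) (.nd (.lf 0x6a4) (.lf 0)))))))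
def srtT_naababa : Tr := (.nd (.nd (.nd (.nd (.nd (.nd (.lf 0x1df) (.lf 0x2bf)) (.nd (.lf 0x685) (.lf 0x74))) (.nd (.nd (.lf 0xb6) (.lf 0xfa0)) (.nd (.lf 0x172) (.lf 0x284)))) (.nd (.nd (.nd (.lf 0x2a1) (.lf 0x90a)) (.nd (.lf 0xd76) (.lf 0x31f))) (.nd (.nd (.lf 0xa34) (.lf 0x41a)) (.nd (.lf 0xeb7) (.lf 0x76d))))) (.nd (.nd (.nd (.nd (.lf 0xf93) (.lf 0xcd8)) (.nd (.lf 0x5b8) (.lf 0x3d9))) (.nd (.nd (.lf 0xa85) (.lf 0x8c7)) (.nd (.lf 0xfb9) (.lf 0xfb3)))) (.nd (.nd (.nd (.lf 0xcdf) (.lf 0x523)) (.nd (.lf 0x6ab) (.lf 0x48))) (.nd (.nd (.lf 0xa20) (.lf 0xd5a)) (.nd (.lf 0xda4) (.lf 0x981)))))) (.nd (.nd (.nd (.nd (.nd (.lf 0x2c6) (.lf 0x43)) (.nd (.lf 0x311) (.lf 0xc2))) (.nd (.nd (.lf 0xe6d) (.lf 0x1c7)) (.nd (.lf 0xa23) (.lf 0x206))))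 (.nd (.nd (.nd (.lf 0x624) (.lf 0xb06)) (.nd (.lf 0xe47) (.lf 0xbdf))) (.nd (.nd (.lf 0xc3) (.lf 0x482)) (.nd (.lf 0x584) (.lf 0xc83))))) (.nd (.nd (.nd (.nd (.lf 0x239) (.lf 0x5e3)) (.nd (.lf 0x746) (.lf 0x1dd))) (.nd (.nd (.lf 0x631) (.lf 0x876)) (.nd (.lf 0x8b5) (.lf 0x5ca)))) (.nd (.nd (.nd (.lf 0x30d) (.lf 0x468)) (.nd (.lf 0x495) (.lf 0x4ab))) (.nd (.nd (.lf 0x21f) (.lf 0x706)) (.nd (.lf 0xef7) (.lf 0x4d5)))))))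
def srtT_naababb : Tr := (.nd (.nd (.nd (.nd (.nd (.nd (.lf 0x86f) (.lf 0x6e3)) (.nd (.lf 0xd84) (.lf 0xc4d))) (.nd (.nd (.lf 0xd68) (.lf 0xc0b)) (.nd (.lf 0x65d) (.lf 0xf3)))) (.nd (.nd (.nd (.lf 0xc9f) (.lf 0xdd3)) (.nd (.lf 0xde9) (.lf 0x3e7))) (.nd (.nd (.lf 0xb52) (.lf 0x73)) (.nd (.lf 0xd13) (.lf 0x54c))))) (.nd (.nd (.nd (.nd (.lf 0xc28) (.lf 0x5c6)) (.nd (.lf 0xd60) (.lf 0x325))) (.nd (.nd (.lf 0xa1e) (.lf 0x202)) (.nd (.lf 0xa36) (.lf 0xbc9)))) (.nd (.nd (.nd (.lf 0x71a) (.lf 0xbc6)) (.nd (.lf 0x1b0) (.lf 0x820))) (.nd (.nd (.lf 0xef4) (.lf 0x3ee)) (.nd (.lf 0xb83) (.lf 0x662)))))) (.nd (.nd (.nd (.nd (.nd (.lf 0x712) (.lf 0xa24)) (.nd (.lf 0xb84) (.lf 0xe2))) (.nd (.nd (.lf 0xbf6) (.lf 0x9a0)) (.nd (.lf 0x4e2) (.lf 0x286))))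 (.nd (.nd (.nd (.lf 0x448) (.lf 0x69c)) (.nd (.lf 0x3a1) (.lf 0xdc9))) (.nd (.nd (.lf 0x942) (.lf 0x81d)) (.nd (.lf 0xc6f) (.lf 0xb50))))) (.nd (.nd (.nd (.nd (.lf 0x1ed) (.lf 0x25a)) (.nd (.lf 0x583) (.lf 0xa89))) (.nd (.nd (.lf 0x6fc) (.lf 0x73d)) (.nd (.lf 0x34d) (.lf 0x812)))) (.nd (.nd (.nd (.lf 0xbb0) (.lf 0xd95)) (.nd (.lf 0x855) (.lf 0xc37))) (.nd (.nd (.lf 0x887) (.lf 0xe2f)) (.nd (.lf 0xcb6) (.lf 0)))))))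
def srtT_naabbaa : Tr := (.nd (.nd (.nd (.nd (.nd (.nd (.lf 0xb65) (.lf 0x6d0)) (.nd (.lf 0xb69) (.lf 0x895))) (.nd (.nd (.lf 0x917) (.lf 0x911)) (.nd (.lf 0x97d) (.lf 0x9f4)))) (.nd (.nd (.nd (.lf 0x277) (.lf 0x894)) (.nd (.lf 0x9f8) (.lf 0x212))) (.nd (.nd (.lf 0x52f) (.lf 0x607)) (.nd (.lf 0xd6d) (.lf 0xd96))))) (.nd (.nd (.nd (.nd (.lf 0x1b5) (.lf 0x199)) (.nd (.lf 0x63) (.lf 0xf98))) (.nd (.nd (.lf 0x3c6) (.lf 0xe54)) (.nd (.lf 0xcf) (.lf 0x99d)))) (.nd (.nd (.nd (.lf 0xa1b) (.lf 0xe9a)) (.nd (.lf 0x40e) (.lf 0xb11))) (.nd (.nd (.lf 0x35b) (.lf 0x317)) (.nd (.lf 0x120) (.lf 0x481)))))) (.nd (.nd (.nd (.nd (.nd (.lf 0x6a1) (.lf 0x450)) (.nd (.lf 0x18f) (.lf 0x7a))) (.nd (.nd (.lf 0xa0a) (.lf 0xf16)) (.nd (.lf 0x658) (.lf 0x6b7))))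 (.nd (.nd (.nd (.lf 0xc89) (.lf 0x6c)) (.nd (.lf 0x1f2) (.lf 0x9a))) (.nd (.nd (.lf 0xbda) (.lf 0xc1)) (.nd (.lf 0x111) (.lf 0xf70))))) (.nd (.nd (.nd (.nd (.lf 0xe86) (.lf 0x44f)) (.nd (.lf 0xdc0) (.lf 0x378))) (.nd (.nd (.lf 0x465) (.lf 0x358)) (.nd (.lf 0xda6) (.lf 0xca1)))) (.nd (.nd (.nd (.lf 0x61b) (.lf 0x770)) (.nd (.lf 0xcee) (.lf 0x2d1))) (.nd (.nd (.lf 0xa4a) (.lf 0xef6)) (.nd (.lf 0xf11) (.lf 0xdf9)))))))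
def srtT_naabbab : Tr := (.nd (.nd (.nd (.nd (.nd (.nd (.lf 0xa50) (.lf 0xfda)) (.nd (.lf 0x9d7) (.lf 0x274))) (.nd (.nd (.lf 0xd5c) (.lf 0xd7f)) (.nd (.lf 0xac0) (.lf 0xa74)))) (.nd (.nd (.nd (.lf 0x40f) (.lf 0x7c1)) (.nd (.lf 0x55f) (.lf 0x76c))) (.nd (.nd (.lf 0x7) (.lf 0xf39)) (.nd (.lf 0xa4f) (.lf 0x491))))) (.nd (.nd (.nd (.nd (.lf 0x6cb) (.lf 0x9dc)) (.nd (.lf 0xb64) (.lf 0xd59))) (.nd (.nd (.lf 0x340) (.lf 0xcbe)) (.nd (.lf 0x5ee) (.lf 0x2d5)))) (.nd (.nd (.nd (.lf 0x839) (.lf 0x5d2)) (.nd (.lf 0xe4e) (.lf 0x123))) (.nd (.nd (.lf 0x4b1) (.lf 0x3dd)) (.nd (.lf 0x2da) (.lf 0x49a)))))) (.nd (.nd (.nd (.nd (.nd (.lf 0xf55) (.lf 0x364)) (.nd (.lf 0x8b9) (.lf 0xbbb))) (.nd (.nd (.lf 0x466) (.lf 0xe31)) (.nd (.lf 0x33a) (.lf 0x835))))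 (.nd (.nd (.nd (.lf 0x7b8) (.lf 0x226)) (.nd (.lf 0x39) (.lf 0x6d))) (.nd (.nd (.lf 0x510) (.lf 0x950)) (.nd (.lf 0x3fa) (.lf 0x6c3))))) (.nd (.nd (.nd (.nd (.lf 0xda5) (.lf 0xd98)) (.nd (.lf 0x7c8) (.lf 0x17))) (.nd (.nd (.lf 0xe20) (.lf 0x8a4)) (.nd (.lf 0x95b) (.lf 0x42a)))) (.nd (.nd (.nd (.lf 0x439) (.lf 0xd03)) (.nd (.lf 0x6a) (.lf 0xe17))) (.nd (.nd (.lf 0xbaf) (.lf 0x8c9)) (.nd (.lf 0xc48) (.lf 0)))))))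
def srtT_naabbba : Tr := (.nd (.nd (.nd (.nd (.nd (.nd (.lf 0x73c) (.lf 0xb18)) (.nd (.lf 0xa03) (.lf 0xe0d))) (.nd (.nd (.lf 0xb73) (.lf 0x131)) (.nd (.lf 0x998) (.lf 0x66b)))) (.nd (.nd (.nd (.lf 0x3c0) (.lf 0x62a)) (.nd (.lf 0x6aa) (.lf 0x1c4))) (.nd (.nd (.lf 0xb14) (.lf 0xdfd)) (.nd (.lf 0xa00) (.lf 0x62))))) (.nd (.nd (.nd (.nd (.lf 0x7f) (.lf 0x31c)) (.nd (.lf 0xcf3) (.lf 0xcc))) (.nd (.nd (.lf 0xef0) (.lf 0x33)) (.nd (.lf 0xdcb) (.lf 0x365)))) (.nd (.nd (.nd (.lf 0xcea) (.lf 0x69a)) (.nd (.lf 0xc6e) (.lf 0x8a6))) (.nd (.nd (.lf 0x1c2) (.lf 0x83f)) (.nd (.lf 0x2f) (.lf 0x5e8)))))) (.nd (.nd (.nd (.nd (.nd (.lf 0x70d) (.lf 0xd66)) (.nd (.lf 0x174) (.lf 0xe51))) (.nd (.nd (.lf 0xb3b) (.lf 0xbf1)) (.nd (.lf 0x6b5) (.lf 0x38a))))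 (.nd (.nd (.nd (.lf 0xbc0) (.lf 0xf30)) (.nd (.lf 0xaaa) (.lf 0x5cc))) (.nd (.nd (.lf 0x828) (.lf 0xca5)) (.nd (.lf 0xa39) (.lf 0xbdb))))) (.nd (.nd (.nd (.nd (.lf 0x2b4) (.lf 0x29c)) (.nd (.lf 0x248) (.lf 0x682))) (.nd (.nd (.lf 0x922) (.lf 0x513)) (.nd (.lf 0xc79) (.lf 0x27c)))) (.nd (.nd (.nd (.lf 0xc8c) (.lf 0xe10)) (.nd (.lf 0xa1c) (.lf 0x4c))) (.nd (.nd (.lf 0xa01) (.lf 0xc87)) (.nd (.lf 0x8ef) (.lf 0)))))))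
def srtT_naabbbb : Tr := (.nd (.nd (.nd (.nd (.nd (.nd (.lf 0xaf2) (.lf 0x8ab)) (.nd (.lf 0xf2e) (.lf 0xc9c))) (.nd (.nd (.lf 0x399) (.lf 0xd27)) (.nd (.lf 0xee9) (.lf 0xde6)))) (.nd (.nd (.nd (.lf 0x6b9) (.lf 0x4ce)) (.nd (.lf 0x4c0) (.lf 0x380))) (.nd (.nd (.lf 0x285) (.lf 0x3d5)) (.nd (.lf 0xd81) (.lf 0xa51))))) (.nd (.nd (.nd (.nd (.lf 0x236) (.lf 0x91b)) (.nd (.lf 0x857) (.lf 0xade))) (.nd (.nd (.lf 0xdd4) (.lf 0x4df)) (.nd (.lf 0x255) (.lf 0x544)))) (.nd (.nd (.nd (.lf 0xdaf) (.lf 0x872)) (.nd (.lf 0x9b3) (.lf 0xd6))) (.nd (.nd (.lf 0x979) (.lf 0x1a2)) (.nd (.lf 0x33f) (.lf 0xa12)))))) (.nd (.nd (.nd (.nd (.nd (.lf 0xeb6) (.lf 0x959)) (.nd (.lf 0x637) (.lf 0xb6e))) (.nd (.nd (.lf 0x71c) (.lf 0x7de)) (.nd (.lf 0x458) (.lf 0x709))))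 (.nd (.nd (.nd (.lf 0x422) (.lf 0x319)) (.nd (.lf 0xf76) (.lf 0x795))) (.nd (.nd (.lf 0x674) (.lf 0x26a)) (.nd (.lf 0x804) (.lf 0xe7b))))) (.nd (.nd (.nd (.nd (.lf 0x2a8) (.lf 0xb92)) (.nd (.lf 0xa93) (.lf 0xdb0))) (.nd (.nd (.lf 0x7dc) (.lf 0xae)) (.nd (.lf 0x668) (.lf 0xbdc)))) (.nd (.nd (.nd (.lf 0x502) (.lf 0xec3)) (.nd (.lf 0xe0a) (.lf 0x20a))) (.nd (.nd (.lf 0x87d) (.lf 0x291)) (.nd (.lf 0x119) (.lf 0)))))))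
def srtT_nabaaaa : Tr := (.nd (.nd (.nd (.nd (.nd (.nd (.lf 0xe22) (.lf 0x453)) (.nd (.lf 0x487) (.lf 0xcfd))) (.nd (.nd (.lf 0x559) (.lf 0xec)) (.nd (.lf 0xd7) (.lf 0x7d1)))) (.nd (.nd (.nd (.lf 0xb7f) (.lf 0x4c3)) (.nd (.lf 0xe46) (.lf 0xa49))) (.nd (.nd (.lf 0x50e) (.lf 0xbf2)) (.nd (.lf 0x952) (.lf 0x991))))) (.nd (.nd (.nd (.nd (.lf 0x361) (.lf 0xcf2)) (.nd (.lf 0x13c) (.lf 0xf89))) (.nd (.nd (.lf 0xa18) (.lf 0xf4d)) (.nd (.lf 0xd7c) (.lf 0x56)))) (.nd (.nd (.nd (.lf 0x85c) (.lf 0x899)) (.nd (.lf 0xc2d) (.lf 0xc85))) (.nd (.nd (.lf 0xab5) (.lf 0x7a6)) (.nd (.lf 0x622) (.lf 0xa6f)))))) (.nd (.nd (.nd (.nd (.nd (.lf 0x5f1) (.lf 0x3b3)) (.nd (.lf 0x4d6) (.lf 0x879))) (.nd (.nd (.lf 0xd56) (.lf 0x4ea)) (.nd (.lf 0x6f8) (.lf 0x5fb))))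 (.nd (.nd (.nd (.lf 0xb1d) (.lf 0xf6b)) (.nd (.lf 0xb24) (.lf 0xc11))) (.nd (.nd (.lf 0x41f) (.lf 0x46c)) (.nd (.lf 0x744) (.lf 0xb2c))))) (.nd (.nd (.nd (.nd (.lf 0xd87) (.lf 0x159)) (.nd (.lf 0x429) (.lf 0x22))) (.nd (.nd (.lf 0x5a9) (.lf 0xd8e)) (.nd (.lf 0xdec) (.lf 0xeff)))) (.nd (.nd (.nd (.lf 0xf23) (.lf 0x95c)) (.nd (.lf 0x360) (.lf 0xfa7))) (.nd (.nd (.lf 0x66c) (.lf 0x799)) (.nd (.lf 0xa14) (.lf 0x528)))))))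
def srtT_nabaaab : Tr := (.nd (.nd (.nd (.nd (.nd (.nd (.lf 0x1cc) (.lf 0x953)) (.nd (.lf 0xd20) (.lf 0xd40))) (.nd (.nd (.lf 0xdc5) (.lf 0x16a)) (.nd (.lf 0xdb6) (.lf 0x20c)))) (.nd (.nd (.nd (.lf 0x129) (.lf 0x5d5)) (.nd (.lf 0x34e) (.lf 0xea7))) (.nd (.nd (.lf 0x595) (.lf 0xe2e)) (.nd (.lf 0x252) (.lf 0x9b8))))) (.nd (.nd (.nd (.nd (.lf 0xe83) (.lf 0x78d)) (.nd (.lf 0xf24) (.lf 0xd61))) (.nd (.nd (.lf 0xd19) (.lf 0xcaf)) (.nd (.lf 0xd7d) (.lf 0xf9a)))) (.nd (.nd (.nd (.lf 0x342) (.lf 0xcb7)) (.nd (.lf 0x432) (.lf 0xf58))) (.nd (.nd (.lf 0x58a) (.lf 0x93c)) (.nd (.lf 0xbfa) (.lf 0x6a9)))))) (.nd (.nd (.nd (.nd (.nd (.lf 0x4e6) (.lf 0x597)) (.nd (.lf 0x508) (.lf 0xdc6))) (.nd (.nd (.lf 0x275) (.lf 0x988)) (.nd (.lf 0x2d4) (.lf 0x12e))))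 (.nd (.nd (.nd (.lf 0x153) (.lf 0x4cd)) (.nd (.lf 0xa5a) (.lf 0xb3))) (.nd (.nd (.lf 0xab6) (.lf 0x26)) (.nd (.lf 0x5d0) (.lf 0xd1b))))) (.nd (.nd (.nd (.nd (.lf 0x31) (.lf 0x596)) (.nd (.lf 0x8b2) (.lf 0xeb2))) (.nd (.nd (.lf 0x9cc) (.lf 0xfd0)) (.nd (.lf 0x529) (.lf 0x74e)))) (.nd (.nd (.nd (.lf 0xdb) (.lf 0x8ba)) (.nd (.lf 0x57a) (.lf 0x54))) (.nd (.nd (.lf 0x420) (.lf 0xd49)) (.nd (.lf 0x7a7) (.lf 0)))))))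
def srtT_nabaaba : Tr := (.nd (.nd (.nd (.nd (.nd (.nd (.lf 0x5a0) (.lf 0x8df)) (.nd (.lf 0x970) (.lf 0xf77))) (.nd (.nd (.lf 0x2b6) (.lf 0x7cf)) (.nd (.lf 0x7e1) (.lf 0x81e)))) (.nd (.nd (.nd (.lf 0xb71) (.lf 0x44d)) (.nd (.lf 0x1a3) (.lf 0xb33))) (.nd (.nd (.lf 0xea9) (.lf 0xd23)) (.nd (.lf 0xa3f) (.lf 0xc96))))) (.nd (.nd (.nd (.nd (.lf 0x5f6) (.lf 0x68a)) (.nd (.lf 0xc00) (.lf 0x2ce))) (.nd (.nd (.lf 0xc67) (.lf 0xbf8)) (.nd (.lf 0xd1) (.lf 0x20)))) (.nd (.nd (.nd (.lf 0xa42) (.lf 0xd91)) (.nd (.lf 0x90) (.lf 0x931))) (.nd (.nd (.lf 0x3b8) (.lf 0xecf)) (.nd (.lf 0x23f) (.lf 0xb9b)))))) (.nd (.nd (.nd (.nd (.nd (.lf 0x408) (.lf 0x688)) (.nd (.lf 0x518) (.lf 0xfb8))) (.nd (.nd (.lf 0x621) (.lf 0xe3f)) (.nd (.lf 0xe64) (.lf 0xc))))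 (.nd (.nd (.nd (.lf 0x2d) (.lf 0x554)) (.nd (.lf 0xeef) (.lf 0xc5a))) (.nd (.nd (.lf 0xd4d) (.lf 0x418)) (.nd (.lf 0x6da) (.lf 0xb3c))))) (.nd (.nd (.nd (.nd (.lf 0xe98) (.lf 0xa91)) (.nd (.lf 0x3f6) (.lf 0x9c))) (.nd (.nd (.lf 0x1fc) (.lf 0x967)) (.nd (.lf 0x194) (.lf 0x16)))) (.nd (.nd (.nd (.lf 0xd12) (.lf 0x9c5)) (.nd (.lf 0x9e) (.lf 0x36c))) (.nd (.nd (.lf 0xa71) (.lf 0x6b)) (.nd (.lf 0x60) (.lf 0x2eb)))))))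
def srtT_nabaabb : Tr := (.nd (.nd (.nd (.nd (.nd (.nd (.lf 0xee3) (.lf 0xcd5)) (.nd (.lf 0x87a) (.lf 0xbe4))) (.nd (.nd (.lf 0x8dc) (.lf 0xe7a)) (.nd (.lf 0x5fa) (.lf 0x1f5)))) (.nd (.nd (.nd (.lf 0xaa9) (.lf 0xef)) (.nd (.lf 0x3aa) (.lf 0x96f))) (.nd (.nd (.lf 0x98e) (.lf 0xc49)) (.nd (.lf 0xd17) (.lf 0xf80))))) (.nd (.nd (.nd (.nd (.lf 0x2a2) (.lf 0xa94)) (.nd (.lf 0xf84) (.lf 0x23a))) (.nd (.nd (.lf 0x5dc) (.lf 0xda9)) (.nd (.lf 0xaa6) (.lf 0x853)))) (.nd (.nd (.nd (.lf 0xbed) (.lf 0x3ea)) (.nd (.lf 0x741) (.lf 0xaf8))) (.nd (.nd (.lf 0xce2) (.lf 0x718)) (.nd (.lf 0xc2a) (.lf 0x8b8)))))) (.nd (.nd (.nd (.nd (.nd (.lf 0x69b) (.lf 0x341)) (.nd (.lf 0x8d9) (.lf 0x500))) (.nd (.nd (.lf 0xdcf) (.lf 0x6fe)) (.nd (.lf 0x267) (.lf 0x5e2))))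 (.nd (.nd (.nd (.lf 0x40b) (.lf 0xe25)) (.nd (.lf 0x99a) (.lf 0x305))) (.nd (.nd (.lf 0x1be) (.lf 0x4a1)) (.nd (.lf 0xa48) (.lf 0xf6))))) (.nd (.nd (.nd (.nd (.lf 0x504) (.lf 0xba4)) (.nd (.lf 0xa8d) (.lf 0x90c))) (.nd (.nd (.lf 0xe0f) (.lf 0xe11)) (.nd (.lf 0xf1f) (.lf 0x29f)))) (.nd (.nd (.nd (.lf 0x70c) (.lf 0xfca)) (.nd (.lf 0x9ed) (.lf 0x837))) (.nd (.nd (.lf 0xdd1) (.lf 0xb3e)) (.nd (.lf 0xaea) (.lf 0)))))))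
def srtT_nababaa : Tr := (.nd (.nd (.nd (.nd (.nd (.nd (.lf 0x3cb) (.lf 0x2a)) (.nd (.lf 0x16b) (.lf 0x321))) (.nd (.nd (.lf 0x6df) (.lf 0x74c)) (.nd (.lf 0x3a5) (.lf 0x34f)))) (.nd (.nd (.nd (.lf 0xc21) (.lf 0x40c)) (.nd (.lf 0x9fd) (.lf 0xc52))) (.nd (.nd (.lf 0x4c8) (.lf 0x798)) (.nd (.lf 0xdba) (.lf 0xf71))))) (.nd (.nd (.nd (.nd (.lf 0x5d6) (.lf 0x969)) (.nd (.lf 0x176) (.lf 0xa76))) (.nd (.nd (.lf 0xf22) (.lf 0x484)) (.nd (.lf 0x4d7) (.lf 0xaa7)))) (.nd (.nd (.nd (.lf 0x18a) (.lf 0x989)) (.nd (.lf 0xc6c) (.lf 0x4c2))) (.nd (.nd (.lf 0xfb7) (.lf 0xb1c)) (.nd (.lf 0xa1) (.lf 0x797)))))) (.nd (.nd (.nd (.nd (.nd (.lf 0x4a5) (.lf 0x609)) (.nd (.lf 0xb88) (.lf 0x7b9))) (.nd (.nd (.lf 0x3ab) (.lf 0xb54)) (.nd (.lf 0x8f) (.lf 0x903))))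 (.nd (.nd (.nd (.lf 0xce9) (.lf 0x1a4)) (.nd (.lf 0xe72) (.lf 0x17d))) (.nd (.nd (.lf 0x180) (.lf 0x598)) (.nd (.lf 0x7c4) (.lf 0xb28))))) (.nd (.nd (.nd (.nd (.lf 0xb4b) (.lf 0xeee)) (.nd (.lf 0xad9) (.lf 0xb9f))) (.nd (.nd (.lf 0x9c4) (.lf 0xc07)) (.nd (.lf 0x633) (.lf 0x4e5)))) (.nd (.nd (.nd (.lf 0x109) (.lf 0xa82)) (.nd (.lf 0xdf1) (.lf 0x2c9))) (.nd (.nd (.lf 0x403) (.lf 0x6bf)) (.nd (.lf 0x705) (.lf 0x548)))))))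
def srtT_nababab : Tr := (.nd (.nd (.nd (.nd (.nd (.nd (.lf 0xa81) (.lf 0xca4)) (.nd (.lf 0xb6f) (.lf 0x449))) (.nd (.nd (.lf 0x6b3) (.lf 0x416)) (.nd (.lf 0x694) (.lf 0xc8e)))) (.nd (.nd (.nd (.lf 0x84b) (.lf 0x88)) (.nd (.lf 0x7df) (.lf 0x388))) (.nd (.nd (.lf 0x5b9) (.lf 0x764)) (.nd (.lf 0x42b) (.lf 0xa5f))))) (.nd (.nd (.nd (.nd (.lf 0x9f9) (.lf 0x3ec)) (.nd (.lf 0x6eb) (.lf 0x32))) (.nd (.nd (.lf 0x6ae) (.lf 0x28f)) (.nd (.lf 0x985) (.lf 0x87c)))) (.nd (.nd (.nd (.lf 0x3bf) (.lf 0xcbd)) (.nd (.lf 0x760) (.lf 0xae1))) (.nd (.nd (.lf 0x410) (.lf 0x663)) (.nd (.lf 0xbe8) (.lf 0x5a)))))) (.nd (.nd (.nd (.nd (.nd (.lf 0x146) (.lf 0xf6d)) (.nd (.lf 0x5e5) (.lf 0xcb4))) (.nd (.nd (.lf 0x3df) (.lf 0xe70)) (.nd (.lf 0xe37) (.lf 0x5fd))))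 (.nd (.nd (.nd (.lf 0x825) (.lf 0x64)) (.nd (.lf 0x533) (.lf 0x3dc))) (.nd (.nd (.lf 0x2bd) (.lf 0xe13)) (.nd (.lf 0xf7e) (.lf 0xccc))))) (.nd (.nd (.nd (.nd (.lf 0x7f5) (.lf 0x714)) (.nd (.lf 0xe73) (.lf 0x186))) (.nd (.nd (.lf 0xa40) (.lf 0xedf)) (.nd (.lf 0x729) (.lf 0xc27)))) (.nd (.nd (.nd (.lf 0xe3c) (.lf 0x541)) (.nd (.lf 0xfc6) (.lf 0xa57))) (.nd (.nd (.lf 0xd) (.lf 0x971)) (.nd (.lf 0xa38) (.lf 0)))))))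
def srtT_nababba : Tr := (.nd (.nd (.nd (.nd (.nd (.nd (.lf 0x76e) (.lf 0x910)) (.nd (.lf 0x63d) (.lf 0x6d6))) (.nd (.nd (.lf 0x6f1) (.lf 0x297)) (.nd (.lf 0xaf1) (.lf 0x572)))) (.nd (.nd (.nd (.lf 0xead) (.lf 0x156)) (.nd (.lf 0xd6f) (.lf 0xe89))) (.nd (.nd (.lf 0x295) (.lf 0x38)) (.nd (.lf 0x87b) (.lf 0xd2b))))) (.nd (.nd (.nd (.nd (.lf 0x6f2) (.lf 0xdc2)) (.nd (.lf 0x1fb) (.lf 0xd31))) (.nd (.nd (.lf 0xa22) (.lf 0xf01)) (.nd (.lf 0x785) (.lf 0x6fd)))) (.nd (.nd (.nd (.lf 0x242) (.lf 0xeaa)) (.nd (.lf 0x115) (.lf 0xeeb))) (.nd (.nd (.lf 0x78) (.lf 0x635)) (.nd (.lf 0x1e6) (.lf 0x606)))))) (.nd (.nd (.nd (.nd (.nd (.lf 0xc0) (.lf 0xdb9)) (.nd (.lf 0xfc1) (.lf 0x2dc))) (.nd (.nd (.lf 0x58e) (.lf 0x898)) (.nd (.lf 0xf0b) (.lf 0x76b))))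 (.nd (.nd (.nd (.lf 0x94) (.lf 0x8c5)) (.nd (.lf 0x475) (.lf 0xf37))) (.nd (.nd (.lf 0x8cc) (.lf 0x9eb)) (.nd (.lf 0x4ae) (.lf 0x348))))) (.nd (.nd (.nd (.nd (.lf 0x5f5) (.lf 0x5d7)) (.nd (.lf 0xf91) (.lf 0x4bc))) (.nd (.nd (.lf 0xe49) (.lf 0xcb9)) (.nd (.lf 0x6fa) (.lf 0x8db)))) (.nd (.nd (.nd (.lf 0xe59) (.lf 0x50a)) (.nd (.lf 0x8b6) (.lf 0x45a))) (.nd (.nd (.lf 0xcf9) (.lf 0x634)) (.nd (.lf 0xdea) (.lf 0x13d)))))))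
def srtT_nababbb : Tr := (.nd (.nd (.nd (.nd (.nd (.nd (.lf 0x93a) (.lf 0x90e)) (.nd (.lf 0xa2e) (.lf 0x8c0))) (.nd (.nd (.lf 0x270) (.lf 0x58c)) (.nd (.lf 0xb3d) (.lf 0x9)))) (.nd (.nd (.nd (.lf 0x3da) (.lf 0x10)) (.nd (.lf 0xd99) (.lf 0xa35))) (.nd (.nd (.lf 0x494) (.lf 0x805)) (.nd (.lf 0xecd) (.lf 0x253))))) (.nd (.nd (.nd (.nd (.lf 0x921) (.lf 0xe03)) (.nd (.lf 0xcf1) (.lf 0xf6c))) (.nd (.nd (.lf 0x147) (.lf 0xa11)) (.nd (.lf 0x8d3) (.lf 0x7ab)))) (.nd (.nd (.nd (.lf 0x24c) (.lf 0x84f)) (.nd (.lf 0x522) (.lf 0x290))) (.nd (.nd (.lf 0x5c7) (.lf 0xfd8)) (.nd (.lf 0x6d3) (.lf 0xb37)))))) (.nd (.nd (.nd (.nd (.nd (.lf 0x8c6) (.lf 0xfd7)) (.nd (.lf 0x2f2) (.lf 0xc25))) (.nd (.nd (.lf 0x461) (.lf 0x6a7)) (.nd (.lf 0x506) (.lf 0x2e7))))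 (.nd (.nd (.nd (.lf 0x830) (.lf 0x1d6)) (.nd (.lf 0xe88) (.lf 0x5f4))) (.nd (.nd (.lf 0xc02) (.lf 0xd3b)) (.nd (.lf 0xf5f) (.lf 0x338))))) (.nd (.nd (.nd (.nd (.lf 0xdd7) (.lf 0x811)) (.nd (.lf 0xfcb) (.lf 0x925))) (.nd (.nd (.lf 0x94c) (.lf 0xa28)) (.nd (.lf 0xd28) (.lf 0xc14)))) (.nd (.nd (.nd (.lf 0x216) (.lf 0x95d)) (.nd (.lf 0xa17) (.lf 0x507))) (.nd (.nd (.lf 0xebd) (.lf 0xfa8)) (.nd (.lf 0xce7) (.lf 0)))))))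
def srtT_nabbaaa : Tr := (.nd (.nd (.nd (.nd (.nd (.nd (.lf 0x560) (.lf 0xb80)) (.nd (.lf 0x144) (.lf 0xf8c))) (.nd (.nd (.lf 0xf6a) (.lf 0x503)) (.nd (.lf 0x326) (.lf 0x958)))) (.nd (.nd (.nd (.lf 0x85e) (.lf 0xa0d)) (.nd (.lf 0xd0a) (.lf 0xafa))) (.nd (.nd (.lf 0xf0a) (.lf 0x9a7)) (.nd (.lf 0x2f5) (.lf 0x63c))))) (.nd (.nd (.nd (.nd (.lf 0xcb5) (.lf 0xbc7)) (.nd (.lf 0x64a) (.lf 0x514))) (.nd (.nd (.lf 0xcd0) (.lf 0xf54)) (.nd (.lf 0x45f) (.lf 0xc6b)))) (.nd (.nd (.nd (.lf 0x12c) (.lf 0xc46)) (.nd (.lf 0x8de) (.lf 0x4c9))) (.nd (.nd (.lf 0xd0c) (.lf 0x3e9)) (.nd (.lf 0xb95) (.lf 0xe8c)))))) (.nd (.nd (.nd (.nd (.nd (.lf 0x913) (.lf 0x182)) (.nd (.lf 0xc78) (.lf 0x113))) (.nd (.nd (.lf 0x8e) (.lf 0xce5)) (.nd (.lf 0x2b5) (.lf 0xabd))))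 (.nd (.nd (.nd (.lf 0x886) (.lf 0xc81)) (.nd (.lf 0x4f4) (.lf 0xf2))) (.nd (.nd (.lf 0x48c) (.lf 0x143)) (.nd (.lf 0xbd3) (.lf 0x8cf))))) (.nd (.nd (.nd (.nd (.lf 0xe0e) (.lf 0xfd6)) (.nd (.lf 0xa8a) (.lf 0x7ba))) (.nd (.nd (.lf 0xc9a) (.lf 0x34c)) (.nd (.lf 0xc0d) (.lf 0xbb)))) (.nd (.nd (.nd (.lf 0x955) (.lf 0x3c1)) (.nd (.lf 0x51f) (.lf 0xc93))) (.nd (.nd (.lf 0x771) (.lf 0x309)) (.nd (.lf 0xd62) (.lf 0xea8)))))))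
def srtT_nabbaab : Tr := (.nd (.nd (.nd (.nd (.nd (.nd (.lf 0x7bc) (.lf 0xd6e)) (.nd (.lf 0x337) (.lf 0x5cb))) (.nd (.nd (.lf 0x22d) (.lf 0x3e0)) (.nd (.lf 0x5e6) (.lf 0xf36)))) (.nd (.nd (.nd (.lf 0xbf9) (.lf 0x30b)) (.nd (.lf 0xf6e) (.lf 0xaff))) (.nd (.nd (.lf 0xb45) (.lf 0xe57)) (.nd (.lf 0x9ca) (.lf 0xcb8))))) (.nd (.nd (.nd (.nd (.lf 0x7fe) (.lf 0x9e2)) (.nd (.lf 0x98b) (.lf 0x213))) (.nd (.nd (.lf 0x84a) (.lf 0x63f)) (.nd (.lf 0x600) (.lf 0xaa0)))) (.nd (.nd (.nd (.lf 0xfab) (.lf 0xda8)) (.nd (.lf 0xe9e) (.lf 0x61a))) (.nd (.nd (.lf 0x8ce) (.lf 0xbcb)) (.nd (.lf 0x1a6) (.lf 0x3f8)))))) (.nd (.nd (.nd (.nd (.nd (.lf 0x6c2) (.lf 0xa70)) (.nd (.lf 0xbef) (.lf 0x920))) (.nd (.nd (.lf 0xbe6) (.lf 0x26b)) (.nd (.lf 0xf4a) (.lf 0x878))))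 (.nd (.nd (.nd (.lf 0x374) (.lf 0x6f3)) (.nd (.lf 0x86b) (.lf 0x796))) (.nd (.nd (.lf 0xe8e) (.lf 0xd72)) (.nd (.lf 0x629) (.lf 0xd14))))) (.nd (.nd (.nd (.nd (.lf 0xa96) (.lf 0x4dc)) (.nd (.lf 0x2c3) (.lf 0x257))) (.nd (.nd (.lf 0x7ca) (.lf 0xa21)) (.nd (.lf 0x758) (.lf 0xc69)))) (.nd (.nd (.nd (.lf 0x200) (.lf 0xac4)) (.nd (.lf 0xd16) (.lf 0xc7e))) (.nd (.nd (.lf 0xe52) (.lf 0xefc)) (.nd (.lf 0x636) (.lf 0)))))))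
def srtT_nabbaba : Tr := (.nd (.nd (.nd (.nd (.nd (.nd (.lf 0x1cf) (.lf 0x74a)) (.nd (.lf 0xee1) (.lf 0xc86))) (.nd (.nd (.lf 0x8aa) (.lf 0x196)) (.nd (.lf 0xf9f) (.lf 0x45b)))) (.nd (.nd (.nd (.lf 0xbbe) (.lf 0xd85)) (.nd (.lf 0x60b) (.lf 0x3a2))) (.nd (.nd (.lf 0x1c5) (.lf 0xd50)) (.nd (.lf 0x4a4) (.lf 0x4e0))))) (.nd (.nd (.nd (.nd (.lf 0x6e9) (.lf 0x29e)) (.nd (.lf 0x686) (.lf 0xb34))) (.nd (.nd (.lf 0xa98) (.lf 0xc31)) (.nd (.lf 0x732) (.lf 0xb4)))) (.nd (.nd (.nd (.lf 0x46) (.lf 0x6b8)) (.nd (.lf 0x4d) (.lf 0xa04))) (.nd (.nd (.lf 0x858) (.lf 0xb03)) (.nd (.lf 0x436) (.lf 0xed)))))) (.nd (.nd (.nd (.nd (.nd (.lf 0x32b) (.lf 0x1f)) (.nd (.lf 0xc76) (.lf 0x11c))) (.nd (.nd (.lf 0x9be) (.lf 0x7eb)) (.nd (.lf 0xc7f) (.lf 0x9e9))))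 (.nd (.nd (.nd (.lf 0x97e) (.lf 0xab3)) (.nd (.lf 0x9b) (.lf 0x986))) (.nd (.nd (.lf 0xcc2) (.lf 0x59e)) (.nd (.lf 0xb9d) (.lf 0xc12))))) (.nd (.nd (.nd (.nd (.lf 0xc2e) (.lf 0xc64)) (.nd (.lf 0x915) (.lf 0xee5))) (.nd (.nd (.lf 0xbb7) (.lf 0x8be)) (.nd (.lf 0xc5d) (.lf 0xe79)))) (.nd (.nd (.nd (.lf 0x604) (.lf 0xa13)) (.nd (.lf 0x1af) (.lf 0x29b))) (.nd (.nd (.lf 0xc43) (.lf 0x20b)) (.nd (.lf 0x394) (.lf 0x14)))))))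
def srtT_nabbabb : Tr := (.nd (.nd (.nd (.nd (.nd (.nd (.lf 0xe32) (.lf 0xe91)) (.nd (.lf 0x4b7) (.lf 0x215))) (.nd (.nd (.lf 0x175) (.lf 0x53b)) (.nd (.lf 0x5c5) (.lf 0xb36)))) (.nd (.nd (.nd (.lf 0xb66) (.lf 0x4ed)) (.nd (.lf 0xbc3) (.lf 0x149))) (.nd (.nd (.lf 0x3f3) (.lf 0x1c9)) (.nd (.lf 0x50) (.lf 0x736))))) (.nd (.nd (.nd (.nd (.lf 0xda7) (.lf 0x44b)) (.nd (.lf 0xf9e) (.lf 0x968))) (.nd (.nd (.lf 0x3d2) (.lf 0xf87)) (.nd (.lf 0x150) (.lf 0xe02)))) (.nd (.nd (.nd (.lf 0xc58) (.lf 0x49c)) (.nd (.lf 0xdbb) (.lf 0x59f))) (.nd (.nd (.lf 0x116) (.lf 0xfc0)) (.nd (.lf 0x142) (.lf 0x56c)))))) (.nd (.nd (.nd (.nd (.nd (.lf 0xc82) (.lf 0x6be)) (.nd (.lf 0x4a9) (.lf 0x411))) (.nd (.nd (.lf 0xad8) (.lf 0xaef)) (.nd (.lf 0x9aa) (.lf 0x417))))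 (.nd (.nd (.nd (.lf 0x64e) (.lf 0x71)) (.nd (.lf 0x75e) (.lf 0x558))) (.nd (.nd (.lf 0x472) (.lf 0x12a)) (.nd (.lf 0xdce) (.lf 0x873))))) (.nd (.nd (.nd (.nd (.lf 0xfbd) (.lf 0xaf4)) (.nd (.lf 0xa4c) (.lf 0x801))) (.nd (.nd (.lf 0x730) (.lf 0x7d3)) (.nd (.lf 0x2ba) (.lf 0x8da)))) (.nd (.nd (.nd (.lf 0x3be) (.lf 0xad3)) (.nd (.lf 0x33e) (.lf 0xbcf))) (.nd (.nd (.lf 0x888) (.lf 0x64c)) (.nd (.lf 0xd88) (.lf 0)))))))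
def srtT_nabbbaa : Tr := (.nd (.nd (.nd (.nd (.nd (.nd (.lf 0x9a4) (.lf 0x908)) (.nd (.lf 0x545) (.lf 0xae6))) (.nd (.nd (.lf 0x4f7) (.lf 0x680)) (.nd (.lf 0x6ac) (.lf 0xbc5)))) (.nd (.nd (.nd (.lf 0xc15) (.lf 0x2b8)) (.nd (.lf 0x734) (.lf 0xea5))) (.nd (.nd (.lf 0x954) (.lf 0xecc)) (.nd (.lf 0xf0c) (.lf 0x21e))))) (.nd (.nd (.nd (.nd (.lf 0x24b) (.lf 0x6d5)) (.nd (.lf 0xf34) (.lf 0x761))) (.nd (.nd (.lf 0x313) (.lf 0x350)) (.nd (.lf 0x9ce) (.lf 0x9ee)))) (.nd (.nd (.nd (.lf 0x575) (.lf 0x3a7)) (.nd (.lf 0xbd7) (.lf 0xc56))) (.nd (.nd (.lf 0x516) (.lf 0x162)) (.nd (.lf 0x168) (.lf 0x27b)))))) (.nd (.nd (.nd (.nd (.nd (.lf 0x752) (.lf 0x1c1)) (.nd (.lf 0xcef) (.lf 0xeab))) (.nd (.nd (.lf 0x8e4) (.lf 0x7bd)) (.nd (.lf 0x102) (.lf 0xd75))))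 (.nd (.nd (.nd (.lf 0x39c) (.lf 0x676)) (.nd (.lf 0x35e) (.lf 0xcb1))) (.nd (.nd (.lf 0x476) (.lf 0x8ad)) (.nd (.lf 0x362) (.lf 0x27a))))) (.nd (.nd (.nd (.nd (.lf 0xc03) (.lf 0xedd)) (.nd (.lf 0x25f) (.lf 0xc4c))) (.nd (.nd (.lf 0xd3) (.lf 0x8e7)) (.nd (.lf 0x48b) (.lf 0x45e)))) (.nd (.nd (.nd (.lf 0xcc7) (.lf 0x438)) (.nd (.lf 0x96d) (.lf 0x53e))) (.nd (.nd (.lf 0x6f9) (.lf 0xaed)) (.nd (.lf 0x5a3) (.lf 0x385)))))))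
def srtT_nabbbab : Tr := (.nd (.nd (.nd (.nd (.nd (.nd (.lf 0xbe5) (.lf 0x279)) (.nd (.lf 0xdb4) (.lf 0xb17))) (.nd (.nd (.lf 0xb86) (.lf 0xb35)) (.nd (.lf 0xc88) (.lf 0x5c)))) (.nd (.nd (.nd (.lf 0xf95) (.lf 0x2a7)) (.nd (.lf 0xd1a) (.lf 0x846))) (.nd (.nd (.lf 0x406) (.lf 0x54d)) (.nd (.lf 0xe16) (.lf 0x725))))) (.nd (.nd (.nd (.nd (.lf 0xc7a) (.lf 0xcad)) (.nd (.lf 0x8ae) (.lf 0x43c))) (.nd (.nd (.lf 0x6e7) (.lf 0x79c)) (.nd (.lf 0x700) (.lf 0xe1f)))) (.nd (.nd (.nd (.lf 0xe5) (.lf 0x881)) (.nd (.lf 0x259) (.lf 0x99f))) (.nd (.nd (.lf 0xb9c) (.lf 0x35a)) (.nd (.lf 0xd06) (.lf 0xaac)))))) (.nd (.nd (.nd (.nd (.nd (.lf 0xcca) (.lf 0x763)) (.nd (.lf 0xd57) (.lf 0xcd9))) (.nd (.nd (.lf 0xac5) (.lf 0x90f)) (.nd (.lf 0x9b5) (.lf 0xb08))))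 (.nd (.nd (.nd (.lf 0x2e2) (.lf 0x300)) (.nd (.lf 0xc2f) (.lf 0xd93))) (.nd (.nd (.lf 0x562) (.lf 0x721)) (.nd (.lf 0xe01) (.lf 0x2d7))))) (.nd (.nd (.nd (.nd (.lf 0xf8a) (.lf 0xcc3)) (.nd (.lf 0xa44) (.lf 0x9bc))) (.nd (.nd (.lf 0xbd2) (.lf 0x726)) (.nd (.lf 0x14c) (.lf 0xddf)))) (.nd (.nd (.nd (.lf 0xbf3) (.lf 0xec8)) (.nd (.lf 0xf82) (.lf 0x223))) (.nd (.nd (.lf 0x6c6) (.lf 0x4e1)) (.nd (.lf 0xf0f) (.lf 0)))))))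
def srtT_nabbbba : Tr := (.nd (.nd (.nd (.nd (.nd (.nd (.lf 0x701) (.lf 0x10d)) (.nd (.lf 0xc16) (.lf 0x49d))) (.nd (.nd (.lf 0x471) (.lf 0xe62)) (.nd (.lf 0x31a) (.lf 0x907)))) (.nd (.nd (.nd (.lf 0x98) (.lf 0x5dd)) (.nd (.lf 0x455) (.lf 0x4a2))) (.nd (.nd (.lf 0x3cd) (.lf 0x5c9)) (.nd (.lf 0xc54) (.lf 0x2cd))))) (.nd (.nd (.nd (.nd (.lf 0x423) (.lf 0xe7)) (.nd (.lf 0xb1a) (.lf 0xde7))) (.nd (.nd (.lf 0x3e6) (.lf 0x138)) (.nd (.lf 0x4db) (.lf 0x2a3)))) (.nd (.nd (.nd (.lf 0xb46) (.lf 0x92d)) (.nd (.lf 0xcfb) (.lf 0x14d))) (.nd (.nd (.lf 0x18d) (.lf 0x57f)) (.nd (.lf 0x483) (.lf 0x3c9)))))) (.nd (.nd (.nd (.nd (.nd (.lf 0xcbb) (.lf 0xe74)) (.nd (.lf 0x7e7) (.lf 0x50b))) (.nd (.nd (.lf 0x2aa) (.lf 0xa60)) (.nd (.lf 0xb20) (.lf 0x82e))))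 (.nd (.nd (.nd (.lf 0xebf) (.lf 0x26e)) (.nd (.lf 0xf4c) (.lf 0xd01))) (.nd (.nd (.lf 0xf1) (.lf 0x4ee)) (.nd (.lf 0xba1) (.lf 0xb0d))))) (.nd (.nd (.nd (.nd (.lf 0x975) (.lf 0x12)) (.nd (.lf 0xf7) (.lf 0xac3))) (.nd (.nd (.lf 0xf1b) (.lf 0x2df)) (.nd (.lf 0xc2b) (.lf 0x65a)))) (.nd (.nd (.nd (.lf 0x8d4) (.lf 0xb25)) (.nd (.lf 0x446) (.lf 0xafc))) (.nd (.nd (.lf 0x573) (.lf 0x68)) (.nd (.lf 0xa16) (.lf 0)))))))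
def srtT_nabbbbb : Tr := (.nd (.nd (.nd (.nd (.nd (.nd (.lf 0xbb5) (.lf 0xb2e)) (.nd (.lf 0xad0) (.lf 0x19d))) (.nd (.nd (.lf 0x21) (.lf 0x81b)) (.nd (.lf 0x44e) (.lf 0xf51)))) (.nd (.nd (.nd (.lf 0x567) (.lf 0xdad)) (.nd (.lf 0xe39) (.lf 0xa58))) (.nd (.nd (.lf 0xa3a) (.lf 0x281)) (.nd (.lf 0x65e) (.lf 0x84e))))) (.nd (.nd (.nd (.nd (.lf 0xb1b) (.lf 0xb48)) (.nd (.lf 0xf2c) (.lf 0x3bc))) (.nd (.nd (.lf 0x52) (.lf 0xeb0)) (.nd (.lf 0xb8d) (.lf 0x5b6)))) (.nd (.nd (.nd (.lf 0x2d3) (.lf 0x650)) (.nd (.lf 0x539) (.lf 0xbfd))) (.nd (.nd (.lf 0xf17) (.lf 0x203)) (.nd (.lf 0xbb6) (.lf 0x8e0)))))) (.nd (.nd (.nd (.nd (.nd (.lf 0xab4) (.lf 0x88b)) (.nd (.lf 0x7c6) (.lf 0xbfb))) (.nd (.nd (.lf 0xc1f) (.lf 0xd77)) (.nd (.lf 0xa90) (.lf 0xf09))))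 (.nd (.nd (.nd (.lf 0x88e) (.lf 0x68d)) (.nd (.lf 0xcfc) (.lf 0xf33))) (.nd (.nd (.lf 0xaab) (.lf 0xd35)) (.nd (.lf 0xcb0) (.lf 0x225))))) (.nd (.nd (.nd (.nd (.lf 0x7b) (.lf 0xb02)) (.nd (.lf 0x1f8) (.lf 0x880))) (.nd (.nd (.lf 0xcd3) (.lf 0x6ef)) (.nd (.lf 0x499) (.lf 0x10a)))) (.nd (.nd (.nd (.lf 0x929) (.lf 0x78c)) (.nd (.lf 0x1a9) (.lf 0x6d8))) (.nd (.nd (.lf 0xab7) (.lf 0xe1e)) (.nd (.lf 0x3bd) (.lf 0)))))))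
def srtT_nbaaaaa : Tr := (.nd (.nd (.nd (.nd (.nd (.nd (.lf 0x4b2) (.lf 0x5d1)) (.nd (.lf 0xe18) (.lf 0xf99))) (.nd (.nd (.lf 0x617) (.lf 0x790)) (.nd (.lf 0x742) (.lf 0x82c)))) (.nd (.nd (.nd (.lf 0xd2f) (.lf 0x817)) (.nd (.lf 0xc24) (.lf 0xd69))) (.nd (.nd (.lf 0x47b) (.lf 0x70e)) (.nd (.lf 0x8c2) (.lf 0xdd9))))) (.nd (.nd (.nd (.nd (.lf 0xcf5) (.lf 0x126)) (.nd (.lf 0xbc2) (.lf 0x862))) (.nd (.nd (.lf 0xd11) (.lf 0xe84)) (.nd (.lf 0xaeb) (.lf 0x65)))) (.nd (.nd (.nd (.lf 0x43a) (.lf 0x2f4)) (.nd (.lf 0x4ef) (.lf 0xdac))) (.nd (.nd (.lf 0xfa9) (.lf 0x78a)) (.nd (.lf 0xc59) (.lf 0x90b)))))) (.nd (.nd (.nd (.nd (.nd (.lf 0xe93) (.lf 0x525)) (.nd (.lf 0xa7a) (.lf 0xdbe))) (.nd (.nd (.lf 0xd70) (.lf 0x415)) (.nd (.lf 0xb23) (.lf 0x238))))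 (.nd (.nd (.nd (.lf 0xb6b) (.lf 0xce3)) (.nd (.lf 0xede) (.lf 0xd3e))) (.nd (.nd (.lf 0x1da) (.lf 0x851)) (.nd (.lf 0x36d) (.lf 0x35c))))) (.nd (.nd (.nd (.nd (.lf 0x136) (.lf 0x20e)) (.nd (.lf 0x34a) (.lf 0x3a4))) (.nd (.nd (.lf 0xba6) (.lf 0xf07)) (.nd (.lf 0xb8f) (.lf 0x5e)))) (.nd (.nd (.nd (.lf 0xacd) (.lf 0x336)) (.nd (.lf 0x4fb) (.lf 0xe1))) (.nd (.nd (.lf 0x9bd) (.lf 0x251)) (.nd (.lf 0xc1e) (.lf 0xe0)))))))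
def srtT_nbaaaab : Tr := (.nd (.nd (.nd (.nd (.nd (.nd (.lf 0x8ee) (.lf 0xe82)) (.nd (.lf 0x9f2) (.lf 0xa2f))) (.nd (.nd (.lf 0xad1) (.lf 0x92b)) (.nd (.lf 0x57) (.lf 0x8a1)))) (.nd (.nd (.nd (.lf 0xa4b) (.lf 0x71f)) (.nd (.lf 0xee0) (.lf 0x909))) (.nd (.nd (.lf 0xc36) (.lf 0xba5)) (.nd (.lf 0x8e5) (.lf 0xea6))))) (.nd (.nd (.nd (.nd (.lf 0x870) (.lf 0x244)) (.nd (.lf 0xa6b) (.lf 0xbb4))) (.nd (.nd (.lf 0x695) (.lf 0x94d)) (.nd (.lf 0x4f6) (.lf 0x1fd)))) (.nd (.nd (.nd (.lf 0xc05) (.lf 0xe8d)) (.nd (.lf 0xb56) (.lf 0xce4))) (.nd (.nd (.lf 0xae4) (.lf 0xb10)) (.nd (.lf 0x48e) (.lf 0x435)))))) (.nd (.nd (.nd (.nd (.nd (.lf 0xc57) (.lf 0x32a)) (.nd (.lf 0x5f8) (.lf 0x8b0))) (.nd (.nd (.lf 0x546) (.lf 0xa1d)) (.nd (.lf 0x27d) (.lf 0x5e4))))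 (.nd (.nd (.nd (.lf 0x40d) (.lf 0x222)) (.nd (.lf 0x183) (.lf 0x4b5))) (.nd (.nd (.lf 0x19) (.lf 0x13f)) (.nd (.lf 0x86e) (.lf 0xb68))))) (.nd (.nd (.nd (.nd (.lf 0x470) (.lf 0xf46)) (.nd (.lf 0x38f) (.lf 0x1a7))) (.nd (.nd (.lf 0x602) (.lf 0x4f)) (.nd (.lf 0x221) (.lf 0xcba)))) (.nd (.nd (.nd (.lf 0x6f4) (.lf 0xdbf)) (.nd (.lf 0x299) (.lf 0xd41))) (.nd (.nd (.lf 0x3f2) (.lf 0xdc)) (.nd (.lf 0x130) (.lf 0)))))))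
def srtT_nbaaaba : Tr := (.nd (.nd (.nd (.nd (.nd (.nd (.lf 0x1a1) (.lf 0xd48)) (.nd (.lf 0x84c) (.lf 0x978))) (.nd (.nd (.lf 0x99b) (.lf 0xe9d)) (.nd (.lf 0x97c) (.lf 0x861)))) (.nd (.nd (.nd (.lf 0x3ad) (.lf 0x62e)) (.nd (.lf 0xa) (.lf 0xe))) (.nd (.nd (.lf 0xada) (.lf 0x265)) (.nd (.lf 0x8c) (.lf 0x3ed))))) (.nd (.nd (.nd (.nd (.lf 0xcda) (.lf 0x8f0)) (.nd (.lf 0x356) (.lf 0xca9))) (.nd (.nd (.lf 0x4bb) (.lf 0x24f)) (.nd (.lf 0x34) (.lf 0xb38)))) (.nd (.nd (.nd (.lf 0x4f2) (.lf 0xa61)) (.nd (.lf 0x43e) (.lf 0x9dd))) (.nd (.nd (.lf 0xc19) (.lf 0xd21)) (.nd (.lf 0xc3c) (.lf 0xbf0)))))) (.nd (.nd (.nd (.nd (.nd (.lf 0x7be) (.lf 0x627)) (.nd (.lf 0xe2a) (.lf 0x331))) (.nd (.nd (.lf 0xb22) (.lf 0x171)) (.nd (.lf 0x5e9) (.lf 0x64d))))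 (.nd (.nd (.nd (.lf 0x8) (.lf 0xcc5)) (.nd (.lf 0xb2f) (.lf 0x807))) (.nd (.nd (.lf 0x687) (.lf 0xd6a)) (.nd (.lf 0x81a) (.lf 0x177))))) (.nd (.nd (.nd (.nd (.lf 0xe4d) (.lf 0x21d)) (.nd (.lf 0xebc) (.lf 0xf0))) (.nd (.nd (.lf 0xf72) (.lf 0x8dd)) (.nd (.lf 0x673) (.lf 0xa7f)))) (.nd (.nd (.nd (.lf 0x7a8) (.lf 0x1e4)) (.nd (.lf 0xa56) (.lf 0xa6e))) (.nd (.nd (.lf 0x59) (.lf 0x83a)) (.nd (.lf 0xbc) (.lf 0x8f4)))))))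
def srtT_nbaaabb : Tr := (.nd (.nd (.nd (.nd (.nd (.nd (.lf 0x447) (.lf 0x59d)) (.nd (.lf 0xee6) (.lf 0xe90))) (.nd (.nd (.lf 0x1e0) (.lf 0x32c)) (.nd (.lf 0xda1) (.lf 0x1d1)))) (.nd (.nd (.nd (.lf 0xc1c) (.lf 0x7b5)) (.nd (.lf 0x89f) (.lf 0x98c))) (.nd (.nd (.lf 0xe7d) (.lf 0xaf7)) (.nd (.lf 0xba7) (.lf 0x7a0))))) (.nd (.nd (.nd (.nd (.lf 0x7ee) (.lf 0x428)) (.nd (.lf 0x3eb) (.lf 0xf3d))) (.nd (.nd (.lf 0xdd8) (.lf 0xacb)) (.nd (.lf 0x99e) (.lf 0xbce)))) (.nd (.nd (.nd (.lf 0xf7b) (.lf 0xc75)) (.nd (.lf 0xb7b) (.lf 0x69f))) (.nd (.nd (.lf 0x37e) (.lf 0x786)) (.nd (.lf 0x424) (.lf 0x1e8)))))) (.nd (.nd (.nd (.nd (.nd (.lf 0xe6a) (.lf 0xa47)) (.nd (.lf 0x2e9) (.lf 0x160))) (.nd (.nd (.lf 0xb9) (.lf 0x376)) (.nd (.lf 0x9d4) (.lf 0x3d8))))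 (.nd (.nd (.nd (.lf 0xf7c) (.lf 0x997)) (.nd (.lf 0x5d9) (.lf 0x5c3))) (.nd (.nd (.lf 0x707) (.lf 0x151)) (.nd (.lf 0x264) (.lf 0xb97))))) (.nd (.nd (.nd (.nd (.lf 0xe81) (.lf 0x75a)) (.nd (.lf 0xda3) (.lf 0x7e9))) (.nd (.nd (.lf 0xf26) (.lf 0x227)) (.nd (.lf 0x61d) (.lf 0x3f1)))) (.nd (.nd (.nd (.lf 0x49) (.lf 0x947)) (.nd (.lf 0x939) (.lf 0xec1))) (.nd (.nd (.lf 0x104) (.lf 0xa4e)) (.nd (.lf 0x6b2) (.lf 0)))))))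
def srtT_nbaabaa : Tr := (.nd (.nd (.nd (.nd (.nd (.nd (.lf 0xe76) (.lf 0x220)) (.nd (.lf 0x114) (.lf 0x139))) (.nd (.nd (.lf 0xe0c) (.lf 0xb05)) (.nd (.lf 0xe8a) (.lf 0x9f7)))) (.nd (.nd (.nd (.lf 0x2e) (.lf 0xc13)) (.nd (.lf 0xf88) (.lf 0xb8))) (.nd (.nd (.lf 0x354) (.lf 0xa43)) (.nd (.lf 0xb57) (.lf 0xd9b))))) (.nd (.nd (.nd (.nd (.lf 0x71d) (.lf 0xc22)) (.nd (.lf 0x497) (.lf 0x893))) (.nd (.nd (.lf 0x7b4) (.lf 0xdbc)) (.nd (.lf 0x55a) (.lf 0x425)))) (.nd (.nd (.nd (.lf 0x31b) (.lf 0x75c)) (.nd (.lf 0x122) (.lf 0x4da))) (.nd (.nd (.lf 0x7e6) (.lf 0xed4)) (.nd (.lf 0xc73) (.lf 0x105)))))) (.nd (.nd (.nd (.nd (.nd (.lf 0xd2e) (.lf 0x1d2)) (.nd (.lf 0x4a) (.lf 0xfc8))) (.nd (.nd (.lf 0xbf4) (.lf 0xa9f)) (.nd (.lf 0xaae) (.lf 0x1c0))))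 (.nd (.nd (.nd (.lf 0xb60) (.lf 0x18c)) (.nd (.lf 0x48a) (.lf 0x93f))) (.nd (.nd (.lf 0x4ca) (.lf 0x521)) (.nd (.lf 0x71e) (.lf 0xece))))) (.nd (.nd (.nd (.nd (.lf 0x240) (.lf 0x8d5)) (.nd (.lf 0xb0a) (.lf 0x3e))) (.nd (.nd (.lf 0xd2c) (.lf 0xccf)) (.nd (.lf 0x433) (.lf 0x89e)))) (.nd (.nd (.nd (.lf 0xd37) (.lf 0x649)) (.nd (.lf 0xf7a) (.lf 0x145))) (.nd (.nd (.lf 0xc80) (.lf 0xa73)) (.nd (.lf 0x81c) (.lf 0x3d3)))))))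
def srtT_nbaabab : Tr := (.nd (.nd (.nd (.nd (.nd (.nd (.lf 0xa7c) (.lf 0x611)) (.nd (.lf 0xaf5) (.lf 0x103))) (.nd (.nd (.lf 0x72b) (.lf 0x56b)) (.nd (.lf 0xd43) (.lf 0xea2)))) (.nd (.nd (.nd (.lf 0x82a) (.lf 0xb44)) (.nd (.lf 0x15e) (.lf 0x88a))) (.nd (.nd (.lf 0xd5) (.lf 0xa45)) (.nd (.lf 0xae9) (.lf 0xb0e))))) (.nd (.nd (.nd (.nd (.lf 0xb78) (.lf 0x44c)) (.nd (.lf 0x948) (.lf 0xf62))) (.nd (.nd (.lf 0xa3e) (.lf 0xc47)) (.nd (.lf 0xe43) (.lf 0x11a)))) (.nd (.nd (.nd (.lf 0xa2) (.lf 0xe44)) (.nd (.lf 0x157) (.lf 0xc0f))) (.nd (.nd (.lf 0x848) (.lf 0xa06)) (.nd (.lf 0x377) (.lf 0xeb4)))))) (.nd (.nd (.nd (.nd (.nd (.lf 0xa3d) (.lf 0x1f1)) (.nd (.lf 0xde5) (.lf 0x844))) (.nd (.nd (.lf 0x5df) (.lf 0xf8e)) (.nd (.lf 0xe68) (.lf 0xee7))))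 (.nd (.nd (.nd (.lf 0x77e) (.lf 0x219)) (.nd (.lf 0xe3b) (.lf 0xb42))) (.nd (.nd (.lf 0xb2a) (.lf 0xaf9)) (.nd (.lf 0xa32) (.lf 0x189))))) (.nd (.nd (.nd (.nd (.lf 0xda0) (.lf 0x601)) (.nd (.lf 0x2b1) (.lf 0x26d))) (.nd (.nd (.lf 0x671) (.lf 0x2e5)) (.nd (.lf 0x431) (.lf 0x393)))) (.nd (.nd (.nd (.lf 0x62b) (.lf 0xb13)) (.nd (.lf 0xf28) (.lf 0x94a))) (.nd (.nd (.lf 0x8a2) (.lf 0x51a)) (.nd (.lf 0xdae) (.lf 0)))))))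
def srtT_nbaabba : Tr := (.nd (.nd (.nd (.nd (.nd (.nd (.lf 0x80e) (.lf 0x4e9)) (.nd (.lf 0xf59) (.lf 0x7da))) (.nd (.nd (.lf 0x623) (.lf 0x16c)) (.nd (.lf 0xf96) (.lf 0xa10)))) (.nd (.nd (.nd (.lf 0x454) (.lf 0xd9a)) (.nd (.lf 0x2ec) (.lf 0x271))) (.nd (.nd (.lf 0xeaf) (.lf 0x23c)) (.nd (.lf 0x7d0) (.lf 0x3ca))))) (.nd (.nd (.nd (.nd (.lf 0xeed) (.lf 0x117)) (.nd (.lf 0xe30) (.lf 0x2bc))) (.nd (.nd (.lf 0xb16) (.lf 0x5c8)) (.nd (.lf 0x304) (.lf 0x8d7)))) (.nd (.nd (.nd (.lf 0x318) (.lf 0xc1a)) (.nd (.lf 0x23b) (.lf 0x2ae))) (.nd (.nd (.lf 0xb72) (.lf 0x6ca)) (.nd (.lf 0xbf) (.lf 0xabf)))))) (.nd (.nd (.nd (.nd (.nd (.lf 0xf18) (.lf 0x19b)) (.nd (.lf 0x7e2) (.lf 0x2b))) (.nd (.nd (.lf 0x63e) (.lf 0x11)) (.nd (.lf 0x498) (.lf 0x1eb))))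 (.nd (.nd (.nd (.lf 0xadb) (.lf 0xd6c)) (.nd (.lf 0xb4e) (.lf 0x5f9))) (.nd (.nd (.lf 0x3d0) (.lf 0xd34)) (.nd (.lf 0x9ea) (.lf 0x89))))) (.nd (.nd (.nd (.nd (.lf 0x578) (.lf 0x53)) (.nd (.lf 0xc97) (.lf 0x47d))) (.nd (.nd (.lf 0x941) (.lf 0x9e4)) (.nd (.lf 0xe78) (.lf 0x45c)))) (.nd (.nd (.nd (.lf 0x571) (.lf 0x8b3)) (.nd (.lf 0x7f3) (.lf 0x205))) (.nd (.nd (.lf 0x552) (.lf 0xf5d)) (.nd (.lf 0x208) (.lf 0x2dd)))))))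
def srtT_nbaabbb : Tr := (.nd (.nd (.nd (.nd (.nd (.nd (.lf 0x43d) (.lf 0xca2)) (.nd (.lf 0xcb2) (.lf 0x4ec))) (.nd (.nd (.lf 0x24d) (.lf 0x918)) (.nd (.lf 0xfc) (.lf 0x4a8)))) (.nd (.nd (.nd (.lf 0x462) (.lf 0x6cf)) (.nd (.lf 0x5ea) (.lf 0xf85))) (.nd (.nd (.lf 0x96e) (.lf 0x67)) (.nd (.lf 0x755) (.lf 0x402))))) (.nd (.nd (.nd (.nd (.lf 0x5fe) (.lf 0x574)) (.nd (.lf 0x40) (.lf 0x83e))) (.nd (.nd (.lf 0x6) (.lf 0x1ca)) (.nd (.lf 0x2e0) (.lf 0x47a)))) (.nd (.nd (.nd (.lf 0xc63) (.lf 0x5f)) (.nd (.lf 0xdc7) (.lf 0x35f))) (.nd (.nd (.lf 0xbbd) (.lf 0x987)) (.nd (.lf 0xb5a) (.lf 0xb09)))))) (.nd (.nd (.nd (.nd (.nd (.lf 0x6e8) (.lf 0x586)) (.nd (.lf 0xbab) (.lf 0x5aa))) (.nd (.nd (.lf 0x749) (.lf 0x1c)) (.nd (.lf 0x4a3) (.lf 0x772))))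 (.nd (.nd (.nd (.lf 0x1d7) (.lf 0x72e)) (.nd (.lf 0x3d6) (.lf 0x3d4))) (.nd (.nd (.lf 0x60f) (.lf 0x310)) (.nd (.lf 0xa78) (.lf 0x3af))))) (.nd (.nd (.nd (.nd (.lf 0xd5e) (.lf 0x568)) (.nd (.lf 0xa79) (.lf 0x1e5))) (.nd (.nd (.lf 0xc08) (.lf 0x246)) (.nd (.lf 0x45) (.lf 0x5a1)))) (.nd (.nd (.nd (.lf 0x18b) (.lf 0x1b8)) (.nd (.lf 0xf8d) (.lf 0xa0))) (.nd (.nd (.lf 0x493) (.lf 0xfe)) (.nd (.lf 0x66a) (.lf 0)))))))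
def srtT_nbabaaa : Tr := (.nd (.nd (.nd (.nd (.nd (.nd (.lf 0x404) (.lf 0x5ec)) (.nd (.lf 0x54f) (.lf 0xe5d))) (.nd (.nd (.lf 0x14f) (.lf 0x9e0)) (.nd (.lf 0x80f) (.lf 0xb8a)))) (.nd (.nd (.nd (.lf 0x42) (.lf 0xef3)) (.nd (.lf 0x86c) (.lf 0xbdd))) (.nd (.nd (.lf 0x916) (.lf 0x7ad)) (.nd (.lf 0xbd4) (.lf 0x585))))) (.nd (.nd (.nd (.nd (.lf 0x549) (.lf 0x2f8)) (.nd (.lf 0x316) (.lf 0x1f4))) (.nd (.nd (.lf 0x12d) (.lf 0x87e)) (.nd (.lf 0x414) (.lf 0x15a)))) (.nd (.nd (.nd (.lf 0xf20) (.lf 0x78f)) (.nd (.lf 0xb89) (.lf 0xb8e))) (.nd (.nd (.lf 0x4c7) (.lf 0x7b6)) (.nd (.lf 0xe15) (.lf 0xc8d)))))) (.nd (.nd (.nd (.nd (.nd (.lf 0x72c) (.lf 0x4de)) (.nd (.lf 0x565) (.lf 0xfbb))) (.nd (.nd (.lf 0x67e) (.lf 0x577)) (.nd (.lf 0x6e5) (.lf 0xbb1))))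 (.nd (.nd (.nd (.lf 0xf9d) (.lf 0xda2)) (.nd (.lf 0x118) (.lf 0xd8c))) (.nd (.nd (.lf 0x296) (.lf 0x1ff)) (.nd (.lf 0xa9b) (.lf 0xf5))))) (.nd (.nd (.nd (.nd (.lf 0x8f5) (.lf 0xcbc)) (.nd (.lf 0x28) (.lf 0xd0b))) (.nd (.nd (.lf 0x9ad) (.lf 0xa33)) (.nd (.lf 0x4e4) (.lf 0x82d)))) (.nd (.nd (.nd (.lf 0x9c8) (.lf 0x14e)) (.nd (.lf 0x1f3) (.lf 0xa5d))) (.nd (.nd (.lf 0x53c) (.lf 0x859)) (.nd (.lf 0xb5e) (.lf 0xd08)))))))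
def srtT_nbabaab : Tr := (.nd (.nd (.nd (.nd (.nd (.nd (.lf 0x556) (.lf 0x2fa)) (.nd (.lf 0x2c8) (.lf 0xb5f))) (.nd (.nd (.lf 0xf40) (.lf 0x681)) (.nd (.lf 0x28d) (.lf 0xd0d)))) (.nd (.nd (.nd (.lf 0xad5) (.lf 0xf10)) (.nd (.lf 0x75) (.lf 0x87f))) (.nd (.nd (.lf 0x88d) (.lf 0x345)) (.nd (.lf 0xc06) (.lf 0x6e2))))) (.nd (.nd (.nd (.nd (.lf 0x6a5) (.lf 0xc38)) (.nd (.lf 0x8d1) (.lf 0xc9e))) (.nd (.nd (.lf 0xd04) (.lf 0x7cb)) (.nd (.lf 0x91a) (.lf 0xa4d)))) (.nd (.nd (.nd (.lf 0x679) (.lf 0x15d)) (.nd (.lf 0x332) (.lf 0x4f3))) (.nd (.nd (.lf 0x37f) (.lf 0xedc)) (.nd (.lf 0x67b) (.lf 0x443)))))) (.nd (.nd (.nd (.nd (.nd (.lf 0x25d) (.lf 0xe1d)) (.nd (.lf 0x486) (.lf 0x419))) (.nd (.nd (.lf 0x13a) (.lf 0x72a)) (.nd (.lf 0x22f) (.lf 0x92f))))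 (.nd (.nd (.nd (.lf 0x2e8) (.lf 0x52e)) (.nd (.lf 0x935) (.lf 0xa5))) (.nd (.nd (.lf 0x155) (.lf 0x73e)) (.nd (.lf 0x15f) (.lf 0xe1b))))) (.nd (.nd (.nd (.nd (.lf 0x11b) (.lf 0x661)) (.nd (.lf 0x619) (.lf 0x7a4))) (.nd (.nd (.lf 0xb31) (.lf 0xbd1)) (.nd (.lf 0x9c6) (.lf 0x61c)))) (.nd (.nd (.nd (.lf 0xd63) (.lf 0x75f)) (.nd (.lf 0x822) (.lf 0x28a))) (.nd (.nd (.lf 0xcff) (.lf 0x4c6)) (.nd (.lf 0x6c8) (.lf 0)))))))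
def srtT_nbababa : Tr := (.nd (.nd (.nd (.nd (.nd (.nd (.lf 0x260) (.lf 0x25)) (.nd (.lf 0x75d) (.lf 0x7c5))) (.nd (.nd (.lf 0xf94) (.lf 0x7b2)) (.nd (.lf 0xf41) (.lf 0x71b)))) (.nd (.nd (.nd (.lf 0x999) (.lf 0x9d8)) (.nd (.lf 0x973) (.lf 0xa63))) (.nd (.nd (.lf 0xe67) (.lf 0x816)) (.nd (.lf 0x782) (.lf 0x7fd))))) (.nd (.nd (.nd (.nd (.lf 0x241) (.lf 0x2b7)) (.nd (.lf 0xa6c) (.lf 0xb21))) (.nd (.nd (.lf 0xa26) (.lf 0x79a)) (.nd (.lf 0x17c) (.lf 0x5e7)))) (.nd (.nd (.nd (.lf 0x6f) (.lf 0xe56)) (.nd (.lf 0xfba) (.lf 0xd1d))) (.nd (.nd (.lf 0xa0c) (.lf 0xc4f)) (.nd (.lf 0x38b) (.lf 0xacc)))))) (.nd (.nd (.nd (.nd (.nd (.lf 0x505) (.lf 0x8e1)) (.nd (.lf 0xa0b) (.lf 0x41c))) (.nd (.nd (.lf 0xe08) (.lf 0x7a5)) (.nd (.lf 0x3fc) (.lf 0xb99))))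 (.nd (.nd (.nd (.lf 0xcb3) (.lf 0x644)) (.nd (.lf 0x819) (.lf 0xc29))) (.nd (.nd (.lf 0xdeb) (.lf 0x666)) (.nd (.lf 0x407) (.lf 0xa2b))))) (.nd (.nd (.nd (.nd (.lf 0xa55) (.lf 0x66f)) (.nd (.lf 0xdf3) (.lf 0xf08))) (.nd (.nd (.lf 0x3a3) (.lf 0x3cc)) (.nd (.lf 0x88c) (.lf 0x710)))) (.nd (.nd (.nd (.lf 0x273) (.lf 0xfa3)) (.nd (.lf 0x664) (.lf 0xc5e))) (.nd (.nd (.lf 0xc45) (.lf 0x618)) (.nd (.lf 0x10e) (.lf 0xe4)))))))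
def srtT_nbababb : Tr := (.nd (.nd (.nd (.nd (.nd (.nd (.lf 0x9ae) (.lf 0xc6a)) (.nd (.lf 0xc3b) (.lf 0xab9))) (.nd (.nd (.lf 0x677) (.lf 0x7b1)) (.nd (.lf 0x8f6) (.lf 0x1c6)))) (.nd (.nd (.nd (.lf 0x243) (.lf 0x2f7)) (.nd (.lf 0x1bb) (.lf 0x218))) (.nd (.nd (.lf 0x478) (.lf 0x2)) (.nd (.lf 0x5ff) (.lf 0x437))))) (.nd (.nd (.nd (.nd (.lf 0xa7e) (.lf 0xcd7)) (.nd (.lf 0x82) (.lf 0xccd))) (.nd (.nd (.lf 0xeec) (.lf 0xc32)) (.nd (.lf 0xb3f) (.lf 0x2fb)))) (.nd (.nd (.nd (.lf 0xccb) (.lf 0x531)) (.nd (.lf 0xbaa) (.lf 0xe23))) (.nd (.nd (.lf 0x8c4) (.lf 0x9a3)) (.nd (.lf 0xeb5) (.lf 0xd53)))))) (.nd (.nd (.nd (.nd (.nd (.lf 0x8d6) (.lf 0x2be)) (.nd (.lf 0x6bc) (.lf 0xf86))) (.nd (.nd (.lf 0x307) (.lf 0xf1e)) (.nd (.lf 0x110) (.lf 0x78b))))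 (.nd (.nd (.nd (.lf 0x80) (.lf 0x3b2)) (.nd (.lf 0xae2) (.lf 0xc90))) (.nd (.nd (.lf 0x75b) (.lf 0x9e7)) (.nd (.lf 0x9ab) (.lf 0xda))))) (.nd (.nd (.nd (.nd (.lf 0x6dc) (.lf 0x370)) (.nd (.lf 0x1f6) (.lf 0x44))) (.nd (.nd (.lf 0xd39) (.lf 0x699)) (.nd (.lf 0x31d) (.lf 0x9e3)))) (.nd (.nd (.nd (.lf 0xf38) (.lf 0xc91)) (.nd (.lf 0xf4e) (.lf 0x371))) (.nd (.nd (.lf 0xad2) (.lf 0x2ca)) (.nd (.lf 0xb4d) (.lf 0)))))))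
def srtT_nbabbaa : Tr := (.nd (.nd (.nd (.nd (.nd (.nd (.lf 0x60a) (.lf 0xb61)) (.nd (.lf 0xa31) (.lf 0x2ac))) (.nd (.nd (.lf 0x79f) (.lf 0x762)) (.nd (.lf 0x135) (.lf 0xa8e)))) (.nd (.nd (.nd (.lf 0x7bb) (.lf 0xa2c)) (.nd (.lf 0x639) (.lf 0x783))) (.nd (.nd (.lf 0xf7f) (.lf 0x77b)) (.nd (.lf 0xc39) (.lf 0x441))))) (.nd (.nd (.nd (.nd (.lf 0x178) (.lf 0x993)) (.nd (.lf 0xa77) (.lf 0x731))) (.nd (.nd (.lf 0x397) (.lf 0x488)) (.nd (.lf 0x19f) (.lf 0x181)))) (.nd (.nd (.nd (.lf 0xd29) (.lf 0x256)) (.nd (.lf 0xb85) (.lf 0xe3e))) (.nd (.nd (.lf 0x2a4) (.lf 0xdc1)) (.nd (.lf 0x95e) (.lf 0x6a2)))))) (.nd (.nd (.nd (.nd (.nd (.lf 0x9ff) (.lf 0x82b)) (.nd (.lf 0x237) (.lf 0x5f0))) (.nd (.nd (.lf 0xf25) (.lf 0xfa2)) (.nd (.lf 0x1b3) (.lf 0x647))))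 (.nd (.nd (.nd (.lf 0x900) (.lf 0x740)) (.nd (.lf 0xc98) (.lf 0xc51))) (.nd (.nd (.lf 0xc5f) (.lf 0x2b3)) (.nd (.lf 0xaaf) (.lf 0x6c7))))) (.nd (.nd (.nd (.nd (.lf 0x9fa) (.lf 0xdc4)) (.nd (.lf 0x8ed) (.lf 0x228))) (.nd (.nd (.lf 0x165) (.lf 0xd64)) (.nd (.lf 0xd8f) (.lf 0x133)))) (.nd (.nd (.nd (.lf 0xbb3) (.lf 0xf8f)) (.nd (.lf 0x994) (.lf 0x6c1))) (.nd (.nd (.lf 0xcd4) (.lf 0x231)) (.nd (.lf 0x56a) (.lf 0x7ac)))))))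
def srtT_nbabbab : Tr := (.nd (.nd (.nd (.nd (.nd (.nd (.lf 0xce8) (.lf 0xae5)) (.nd (.lf 0x207) (.lf 0x333))) (.nd (.nd (.lf 0x5b3) (.lf 0xe97)) (.nd (.lf 0x201) (.lf 0xa19)))) (.nd (.nd (.nd (.lf 0x569) (.lf 0x882)) (.nd (.lf 0x5bd) (.lf 0xe8b))) (.nd (.nd (.lf 0x7ea) (.lf 0xbc1)) (.nd (.lf 0xde8) (.lf 0x4e3))))) (.nd (.nd (.nd (.nd (.lf 0x667) (.lf 0x6ff)) (.nd (.lf 0xaba) (.lf 0x5eb))) (.nd (.nd (.lf 0x61f) (.lf 0x5f2)) (.nd (.lf 0x4d3) (.lf 0x82f)))) (.nd (.nd (.nd (.lf 0x904) (.lf 0x250)) (.nd (.lf 0xf29) (.lf 0x30))) (.nd (.nd (.lf 0xca8) (.lf 0x5d8)) (.nd (.lf 0xd52) (.lf 0xddd)))))) (.nd (.nd (.nd (.nd (.nd (.lf 0x590) (.lf 0x748)) (.nd (.lf 0xb8b) (.lf 0x9d2))) (.nd (.nd (.lf 0x412) (.lf 0xf3b)) (.nd (.lf 0x79b) (.lf 0xe58))))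 (.nd (.nd (.nd (.lf 0x9b7) (.lf 0xb76)) (.nd (.lf 0x877) (.lf 0xe66))) (.nd (.nd (.lf 0xef2) (.lf 0xaf0)) (.nd (.lf 0x72) (.lf 0x5a4))))) (.nd (.nd (.nd (.nd (.lf 0xa53) (.lf 0x459)) (.nd (.lf 0xcaa) (.lf 0x59b))) (.nd (.nd (.lf 0x542) (.lf 0x561)) (.nd (.lf 0x6a0) (.lf 0x4d0)))) (.nd (.nd (.nd (.lf 0xc30) (.lf 0x77)) (.nd (.lf 0x737) (.lf 0xd8a))) (.nd (.nd (.lf 0x670) (.lf 0x283)) (.nd (.lf 0xa8) (.lf 0)))))))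
def srtT_nbabbba : Tr := (.nd (.nd (.nd (.nd (.nd (.nd (.lf 0x53a) (.lf 0x21a)) (.nd (.lf 0x1ac) (.lf 0xc68))) (.nd (.nd (.lf 0x702) (.lf 0x943)) (.nd (.lf 0x6d1) (.lf 0x89c)))) (.nd (.nd (.nd (.lf 0xd4a) (.lf 0x67d)) (.nd (.lf 0x7d5) (.lf 0x1b6))) (.nd (.nd (.lf 0xd24) (.lf 0xed9)) (.nd (.lf 0x7fc) (.lf 0x65f))))) (.nd (.nd (.nd (.nd (.lf 0x460) (.lf 0xb6c)) (.nd (.lf 0xd7b) (.lf 0x897))) (.nd (.nd (.lf 0xf1d) (.lf 0xab2)) (.nd (.lf 0x42c) (.lf 0x69e)))) (.nd (.nd (.nd (.lf 0xa0f) (.lf 0x759)) (.nd (.lf 0x9f3) (.lf 0xfc9))) (.nd (.nd (.lf 0x890) (.lf 0x33c)) (.nd (.lf 0x4cf) (.lf 0xb67)))))) (.nd (.nd (.nd (.nd (.nd (.lf 0x6c4) (.lf 0xdc3)) (.nd (.lf 0x652) (.lf 0x7a1))) (.nd (.nd (.lf 0x2ad) (.lf 0x7c3)) (.nd (.lf 0xa8f) (.lf 0x53d))))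 (.nd (.nd (.nd (.lf 0xfb2) (.lf 0x329)) (.nd (.lf 0xe77) (.lf 0x823))) (.nd (.nd (.lf 0xa2a) (.lf 0x656)) (.nd (.lf 0x1ea) (.lf 0x3e3))))) (.nd (.nd (.nd (.nd (.lf 0x767) (.lf 0xf19)) (.nd (.lf 0x3d) (.lf 0xbe))) (.nd (.nd (.lf 0x39e) (.lf 0x1ee)) (.nd (.lf 0xf00) (.lf 0x3a)))) (.nd (.nd (.nd (.lf 0x5a2) (.lf 0x3b7)) (.nd (.lf 0xec4) (.lf 0xc42))) (.nd (.nd (.lf 0xf14) (.lf 0x727)) (.nd (.lf 0x34b) (.lf 0)))))))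
def srtT_nbabbbb : Tr := (.nd (.nd (.nd (.nd (.nd (.nd (.lf 0xe99) (.lf 0xa09)) (.nd (.lf 0xef1) (.lf 0xc7d))) (.nd (.nd (.lf 0xea3) (.lf 0x6b4)) (.nd (.lf 0x32e) (.lf 0x8bb)))) (.nd (.nd (.nd (.lf 0xf64) (.lf 0x901)) (.nd (.lf 0x36e) (.lf 0x5be))) (.nd (.nd (.lf 0x2fc) (.lf 0xf66)) (.nd (.lf 0x7b3) (.lf 0x936))))) (.nd (.nd (.nd (.nd (.lf 0x68f) (.lf 0x4e)) (.nd (.lf 0xafe) (.lf 0x24))) (.nd (.nd (.lf 0x17e) (.lf 0xfa6)) (.nd (.lf 0xb30) (.lf 0xe55)))) (.nd (.nd (.nd (.lf 0x268) (.lf 0x8d0)) (.nd (.lf 0x8e3) (.lf 0x12f))) (.nd (.nd (.lf 0x6ce) (.lf 0x22e)) (.nd (.lf 0x8a8) (.lf 0x1a8)))))) (.nd (.nd (.nd (.nd (.nd (.lf 0x386) (.lf 0x7c)) (.nd (.lf 0x603) (.lf 0x7db))) (.nd (.nd (.lf 0xcfe) (.lf 0xaa1)) (.nd (.lf 0x4fe) (.lf 0x9f))))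 (.nd (.nd (.nd (.lf 0x5e0) (.lf 0xbf7)) (.nd (.lf 0xde) (.lf 0xed6))) (.nd (.nd (.lf 0xefe) (.lf 0x330)) (.nd (.lf 0xcdc) (.lf 0x324))))) (.nd (.nd (.nd (.nd (.lf 0xc3a) (.lf 0x6ba)) (.nd (.lf 0xfad) (.lf 0xcac))) (.nd (.nd (.lf 0x80c) (.lf 0xf81)) (.nd (.lf 0x7c7) (.lf 0x99c)))) (.nd (.nd (.nd (.lf 0xad4) (.lf 0xb77)) (.nd (.lf 0x306) (.lf 0x442))) (.nd (.nd (.lf 0xe3) (.lf 0x3ef)) (.nd (.lf 0x8d) (.lf 0)))))))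
def srtT_nbbaaaa : Tr := (.nd (.nd (.nd (.nd (.nd (.nd (.lf 0x645) (.lf 0xaa3)) (.nd (.lf 0x775) (.lf 0x642))) (.nd (.nd (.lf 0x17f) (.lf 0xf12)) (.nd (.lf 0xaee) (.lf 0x7e0)))) (.nd (.nd (.nd (.lf 0x33b) (.lf 0x6af)) (.nd (.lf 0x100) (.lf 0xf67))) (.nd (.nd (.lf 0x7cd) (.lf 0x1b1)) (.nd (.lf 0x990) (.lf 0xee2))))) (.nd (.nd (.nd (.nd (.lf 0xe07) (.lf 0xde0)) (.nd (.lf 0x630) (.lf 0x148))) (.nd (.nd (.lf 0xfb4) (.lf 0x3c8)) (.nd (.lf 0x863) (.lf 0xd9d)))) (.nd (.nd (.nd (.lf 0x2ef) (.lf 0xdcd)) (.nd (.lf 0x2c7) (.lf 0x444))) (.nd (.nd (.lf 0xf2a) (.lf 0xe5c)) (.nd (.lf 0xa92) (.lf 0xa69)))))) (.nd (.nd (.nd (.nd (.nd (.lf 0x566) (.lf 0xd79)) (.nd (.lf 0x42e) (.lf 0xf78))) (.nd (.nd (.lf 0x41d) (.lf 0xcf4)) (.nd (.lf 0xf74) (.lf 0x27f))))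 (.nd (.nd (.nd (.lf 0xc4) (.lf 0xc01)) (.nd (.lf 0x838) (.lf 0x8a5))) (.nd (.nd (.lf 0x210) (.lf 0xd86)) (.nd (.lf 0xac7) (.lf 0xfbc))))) (.nd (.nd (.nd (.nd (.lf 0x13e) (.lf 0xbc8)) (.nd (.lf 0xe04) (.lf 0x480))) (.nd (.nd (.lf 0xd71) (.lf 0x90d)) (.nd (.lf 0x63a) (.lf 0x204)))) (.nd (.nd (.nd (.lf 0x4f8) (.lf 0x51e)) (.nd (.lf 0x5c4) (.lf 0xe06))) (.nd (.nd (.lf 0xe75) (.lf 0xddc)) (.nd (.lf 0xd4c) (.lf 0x665)))))))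
def srtT_nbbaaab : Tr := (.nd (.nd (.nd (.nd (.nd (.nd (.lf 0xa8c) (.lf 0x527)) (.nd (.lf 0xa97) (.lf 0x235))) (.nd (.nd (.lf 0xc3d) (.lf 0x3f0)) (.nd (.lf 0x7d2) (.lf 0x7af)))) (.nd (.nd (.nd (.lf 0x83b) (.lf 0x6d9)) (.nd (.lf 0x928) (.lf 0x30c))) (.nd (.nd (.lf 0x93e) (.lf 0x8e2)) (.nd (.lf 0x39d) (.lf 0x1e))))) (.nd (.nd (.nd (.nd (.lf 0xd92) (.lf 0x245)) (.nd (.lf 0x37b) (.lf 0x739))) (.nd (.nd (.lf 0x6f5) (.lf 0x20d)) (.nd (.lf 0x840) (.lf 0x905)))) (.nd (.nd (.nd (.lf 0xc44) (.lf 0x5ce)) (.nd (.lf 0x39a) (.lf 0x280))) (.nd (.nd (.lf 0xe0b) (.lf 0x89b)) (.nd (.lf 0x35d) (.lf 0x396)))))) (.nd (.nd (.nd (.nd (.nd (.lf 0xc65) (.lf 0x413)) (.nd (.lf 0xbee) (.lf 0xa52))) (.nd (.nd (.lf 0x26f) (.lf 0x2f9)) (.nd (.lf 0xddb) (.lf 0x511))))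 (.nd (.nd (.nd (.lf 0xcf6) (.lf 0x339)) (.nd (.lf 0xdb7) (.lf 0x184))) (.nd (.nd (.lf 0x76) (.lf 0x599)) (.nd (.lf 0x7f2) (.lf 0xb41))))) (.nd (.nd (.nd (.nd (.lf 0xa25) (.lf 0x2f3)) (.nd (.lf 0x7d) (.lf 0xd51))) (.nd (.nd (.lf 0xb12) (.lf 0x7ae)) (.nd (.lf 0x8ea) (.lf 0xfd2)))) (.nd (.nd (.nd (.lf 0x2a6) (.lf 0x85f)) (.nd (.lf 0x692) (.lf 0x715))) (.nd (.nd (.lf 0x479) (.lf 0x37)) (.nd (.lf 0x195) (.lf 0)))))))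
def srtT_nbbaaba : Tr := (.nd (.nd (.nd (.nd (.nd (.nd (.lf 0xdf2) (.lf 0xa6)) (.nd (.lf 0x440) (.lf 0xf27))) (.nd (.nd (.lf 0xf0d) (.lf 0x5ba)) (.nd (.lf 0x2d9) (.lf 0xd00)))) (.nd (.nd (.nd (.lf 0x84) (.lf 0xa86)) (.nd (.lf 0xec6) (.lf 0xf8b))) (.nd (.nd (.lf 0x582) (.lf 0xa88)) (.nd (.lf 0x3e2) (.lf 0x14a))))) (.nd (.nd (.nd (.nd (.lf 0xa2d) (.lf 0x58d)) (.nd (.lf 0xe41) (.lf 0x7f7))) (.nd (.nd (.lf 0x856) (.lf 0x594)) (.nd (.lf 0xe4c) (.lf 0x8eb)))) (.nd (.nd (.nd (.lf 0xe40) (.lf 0x669)) (.nd (.lf 0xced) (.lf 0x3b9))) (.nd (.nd (.lf 0xc40) (.lf 0xdfb)) (.nd (.lf 0xd4) (.lf 0x8cd)))))) (.nd (.nd (.nd (.nd (.nd (.lf 0x70a) (.lf 0x3cf)) (.nd (.lf 0xa59) (.lf 0xc70))) (.nd (.nd (.lf 0xf57) (.lf 0xcd1)) (.nd (.lf 0xc26) (.lf 0x720))))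 (.nd (.nd (.nd (.lf 0xc61) (.lf 0xf61)) (.nd (.lf 0xbf5) (.lf 0xefb))) (.nd (.nd (.lf 0x134) (.lf 0xe9b)) (.nd (.lf 0x38e) (.lf 0x672))))) (.nd (.nd (.nd (.nd (.lf 0xfc5) (.lf 0xabb)) (.nd (.lf 0x485) (.lf 0xe4f))) (.nd (.nd (.lf 0xae7) (.lf 0xbfe)) (.nd (.lf 0x308) (.lf 0x938)))) (.nd (.nd (.nd (.lf 0x3fd) (.lf 0x2c1)) (.nd (.lf 0xd3c) (.lf 0x94b))) (.nd (.nd (.lf 0xf02) (.lf 0x46e)) (.nd (.lf 0x187) (.lf 0x91f)))))))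
def srtT_nbbaabb : Tr := (.nd (.nd (.nd (.nd (.nd (.nd (.lf 0x1f0) (.lf 0x8ec)) (.nd (.lf 0xd94) (.lf 0x1aa))) (.nd (.nd (.lf 0x9de) (.lf 0x233)) (.nd (.lf 0x691) (.lf 0x9a1)))) (.nd (.nd (.nd (.lf 0x7fa) (.lf 0x5a5)) (.nd (.lf 0x2c) (.lf 0xe9c))) (.nd (.nd (.lf 0x7d7) (.lf 0xce1)) (.nd (.lf 0x49f) (.lf 0x312))))) (.nd (.nd (.nd (.nd (.lf 0x810) (.lf 0xe7c)) (.nd (.lf 0x158) (.lf 0x849))) (.nd (.nd (.lf 0xa68) (.lf 0xc7c)) (.nd (.lf 0xfb) (.lf 0xd4f)))) (.nd (.nd (.nd (.lf 0x977) (.lf 0x902)) (.nd (.lf 0x55) (.lf 0x6d4))) (.nd (.nd (.lf 0x4fa) (.lf 0x23e)) (.nd (.lf 0x9e1) (.lf 0xf9b)))))) (.nd (.nd (.nd (.nd (.nd (.lf 0x5cd) (.lf 0xd8)) (.nd (.lf 0xdd) (.lf 0x951))) (.nd (.nd (.lf 0xb7e) (.lf 0x6db)) (.nd (.lf 0x11d) (.lf 0x9e6))))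 (.nd (.nd (.nd (.lf 0xed2) (.lf 0xc6)) (.nd (.lf 0x3a0) (.lf 0xf42))) (.nd (.nd (.lf 0x1a) (.lf 0xd1e)) (.nd (.lf 0x9c2) (.lf 0xab1))))) (.nd (.nd (.nd (.nd (.lf 0x836) (.lf 0x659)) (.nd (.lf 0xe7e) (.lf 0xaa2))) (.nd (.nd (.lf 0x612) (.lf 0xc34)) (.nd (.lf 0x464) (.lf 0x589)))) (.nd (.nd (.nd (.lf 0x7dd) (.lf 0x211)) (.nd (.lf 0x735) (.lf 0x8fd))) (.nd (.nd (.lf 0x1f7) (.lf 0x41b)) (.nd (.lf 0x1e1) (.lf 0)))))))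
def srtT_nbbabaa : Tr := (.nd (.nd (.nd (.nd (.nd (.nd (.lf 0x8b4) (.lf 0x53f)) (.nd (.lf 0x398) (.lf 0xaa4))) (.nd (.nd (.lf 0x579) (.lf 0xb49)) (.nd (.lf 0xdf7) (.lf 0x563)))) (.nd (.nd (.nd (.lf 0xf21) (.lf 0x704)) (.nd (.lf 0xc7) (.lf 0x23))) (.nd (.nd (.lf 0xbb9) (.lf 0x409)) (.nd (.lf 0x4aa) (.lf 0x79d))))) (.nd (.nd (.nd (.nd (.lf 0xe42) (.lf 0xa9e)) (.nd (.lf 0x25c) (.lf 0x2f1))) (.nd (.nd (.lf 0xa6a) (.lf 0x62c)) (.nd (.lf 0x1d3) (.lf 0xde2)))) (.nd (.nd (.nd (.lf 0x3ac) (.lf 0x651)) (.nd (.lf 0xecb) (.lf 0x62f))) (.nd (.nd (.lf 0x58b) (.lf 0x5b7)) (.nd (.lf 0x4ad) (.lf 0x3f7)))))) (.nd (.nd (.nd (.nd (.nd (.lf 0xe5a) (.lf 0x81f)) (.nd (.lf 0xa54) (.lf 0x421))) (.nd (.nd (.lf 0x430) (.lf 0x638)) (.nd (.lf 0x47f) (.lf 0x401))))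 (.nd (.nd (.nd (.lf 0x85a) (.lf 0xc50)) (.nd (.lf 0x7d8) (.lf 0x2e4))) (.nd (.nd (.lf 0x696) (.lf 0xd10)) (.nd (.lf 0x363) (.lf 0xe21))))) (.nd (.nd (.nd (.nd (.lf 0x343) (.lf 0x957)) (.nd (.lf 0x1db) (.lf 0x927))) (.nd (.nd (.lf 0x717) (.lf 0x83)) (.nd (.lf 0x2ff) (.lf 0xc2c)))) (.nd (.nd (.nd (.lf 0xc94) (.lf 0xb4f)) (.nd (.lf 0xfa5) (.lf 0xf90))) (.nd (.nd (.lf 0x292) (.lf 0xb87)) (.nd (.lf 0x347) (.lf 0xb53)))))))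
def srtT_nbbabab : Tr := (.nd (.nd (.nd (.nd (.nd (.nd (.lf 0xac6) (.lf 0x40a)) (.nd (.lf 0x852) (.lf 0x98d))) (.nd (.nd (.lf 0x5b1) (.lf 0x501)) (.nd (.lf 0xc53) (.lf 0x2ed)))) (.nd (.nd (.nd (.lf 0x693) (.lf 0x106)) (.nd (.lf 0x7e8) (.lf 0x64b))) (.nd (.nd (.lf 0x30e) (.lf 0x6c9)) (.nd (.lf 0xe8) (.lf 0xd7a))))) (.nd (.nd (.nd (.nd (.lf 0x2d8) (.lf 0x11f)) (.nd (.lf 0x1ae) (.lf 0xd3a))) (.nd (.nd (.lf 0x1ce) (.lf 0x55c)) (.nd (.lf 0xeca) (.lf 0x860)))) (.nd (.nd (.nd (.lf 0x610) (.lf 0x9f0)) (.nd (.lf 0x72d) (.lf 0x36))) (.nd (.nd (.lf 0x3ba) (.lf 0x9f1)) (.nd (.lf 0xf3e) (.lf 0xf32)))))) (.nd (.nd (.nd (.nd (.nd (.lf 0x58f) (.lf 0xca7)) (.nd (.lf 0x8c8) (.lf 0xc41))) (.nd (.nd (.lf 0x2a5) (.lf 0x9c3)) (.nd (.lf 0xa7d) (.lf 0xded))))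 (.nd (.nd (.nd (.lf 0xbbf) (.lf 0xa75)) (.nd (.lf 0x16d) (.lf 0x190))) (.nd (.nd (.lf 0xfc7) (.lf 0xb1e)) (.nd (.lf 0x8a7) (.lf 0x2b0))))) (.nd (.nd (.nd (.nd (.lf 0x7c2) (.lf 0xc4b)) (.nd (.lf 0xc9d) (.lf 0x52d))) (.nd (.nd (.lf 0x49b) (.lf 0xc8a)) (.nd (.lf 0x3a9) (.lf 0x966)))) (.nd (.nd (.nd (.lf 0xe63) (.lf 0xde4)) (.nd (.lf 0xc3f) (.lf 0x97))) (.nd (.nd (.lf 0x21c) (.lf 0x234)) (.nd (.lf 0x5f3) (.lf 0)))))))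
def srtT_nbbabba : Tr := (.nd (.nd (.nd (.nd (.nd (.nd (.lf 0xd18) (.lf 0x1de)) (.nd (.lf 0x697) (.lf 0x5ae))) (.nd (.nd (.lf 0x23d) (.lf 0x10c)) (.nd (.lf 0x76f) (.lf 0x191)))) (.nd (.nd (.nd (.lf 0x808) (.lf 0xb7)) (.nd (.lf 0xf2d) (.lf 0xca3))) (.nd (.nd (.lf 0xba9) (.lf 0xbde)) (.nd (.lf 0xf56) (.lf 0xe34))))) (.nd (.nd (.nd (.nd (.lf 0x355) (.lf 0xc55)) (.nd (.lf 0xbd5) (.lf 0xd4b))) (.nd (.nd (.lf 0xea4) (.lf 0xb51)) (.nd (.lf 0xa7) (.lf 0xc33)))) (.nd (.nd (.nd (.lf 0xba2) (.lf 0xf44)) (.nd (.lf 0x9d5) (.lf 0x391))) (.nd (.nd (.lf 0xd83) (.lf 0x37a)) (.nd (.lf 0xa5b) (.lf 0xb29)))))) (.nd (.nd (.nd (.nd (.nd (.lf 0xaf) (.lf 0x8b)) (.nd (.lf 0x62d) (.lf 0x6dd))) (.nd (.nd (.lf 0xe24) (.lf 0x2d0)) (.nd (.lf 0xfb1) (.lf 0x67f))))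 (.nd (.nd (.nd (.lf 0x68b) (.lf 0x8e6)) (.nd (.lf 0x9c7) (.lf 0xd90))) (.nd (.nd (.lf 0xb81) (.lf 0x643)) (.nd (.lf 0x269) (.lf 0x2de))))) (.nd (.nd (.nd (.nd (.lf 0xbd8) (.lf 0x867)) (.nd (.lf 0x519) (.lf 0x4eb))) (.nd (.nd (.lf 0x866) (.lf 0x4b6)) (.nd (.lf 0xb6d) (.lf 0xfd5)))) (.nd (.nd (.nd (.lf 0x457) (.lf 0xc6d)) (.nd (.lf 0xb39) (.lf 0x9ba))) (.nd (.nd (.lf 0xeda) (.lf 0xdd6)) (.nd (.lf 0x648) (.lf 0x9cb)))))))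
def srtT_nbbabbb : Tr := (.nd (.nd (.nd (.nd (.nd (.nd (.lf 0xb) (.lf 0xfbe)) (.nd (.lf 0x434) (.lf 0xfcc))) (.nd (.nd (.lf 0x45d) (.lf 0x9da)) (.nd (.lf 0x43f) (.lf 0xafb)))) (.nd (.nd (.nd (.lf 0xef9) (.lf 0x37d)) (.nd (.lf 0x28b) (.lf 0x294))) (.nd (.nd (.lf 0x29d) (.lf 0x703)) (.nd (.lf 0x708) (.lf 0x932))))) (.nd (.nd (.nd (.nd (.lf 0xabc) (.lf 0x3ce)) (.nd (.lf 0x79) (.lf 0x463))) (.nd (.nd (.lf 0x42d) (.lf 0xf5e)) (.nd (.lf 0x7f1) (.lf 0x188)))) (.nd (.nd (.nd (.lf 0xbcc) (.lf 0xea)) (.nd (.lf 0x2db) (.lf 0x30f))) (.nd (.nd (.lf 0x261) (.lf 0xf9c)) (.nd (.lf 0xd3f) (.lf 0xaf3)))))) (.nd (.nd (.nd (.nd (.nd (.lf 0x7e5) (.lf 0x3c3)) (.nd (.lf 0xb0f) (.lf 0xed7))) (.nd (.nd (.lf 0x232) (.lf 0xd4e)) (.nd (.lf 0x646) (.lf 0x97a))))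 (.nd (.nd (.nd (.lf 0x896) (.lf 0xe00)) (.nd (.lf 0xadd) (.lf 0xe27))) (.nd (.nd (.lf 0x63b) (.lf 0xac9)) (.nd (.lf 0xfce) (.lf 0x9fe))))) (.nd (.nd (.nd (.nd (.lf 0xd5d) (.lf 0x303)) (.nd (.lf 0x198) (.lf 0x829))) (.nd (.nd (.lf 0x13) (.lf 0xb2)) (.nd (.lf 0xa1a) (.lf 0xec2)))) (.nd (.nd (.nd (.lf 0x96b) (.lf 0xd54)) (.nd (.lf 0xb5b) (.lf 0x492))) (.nd (.nd (.lf 0x4d2) (.lf 0x214)) (.nd (.lf 0x9af) (.lf 0)))))))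
def srtT_nbbbaaa : Tr := (.nd (.nd (.nd (.nd (.nd (.nd (.lf 0x7f8) (.lf 0x57e)) (.nd (.lf 0x61) (.lf 0xceb))) (.nd (.nd (.lf 0x7b0) (.lf 0xd05)) (.nd (.lf 0x67c) (.lf 0xc35)))) (.nd (.nd (.nd (.lf 0x1c3) (.lf 0x29a)) (.nd (.lf 0xb1f) (.lf 0xc8f))) (.nd (.nd (.lf 0xb96) (.lf 0xadc)) (.nd (.lf 0x655) (.lf 0xdb5))))) (.nd (.nd (.nd (.nd (.lf 0xe33) (.lf 0x369)) (.nd (.lf 0x580) (.lf 0x793))) (.nd (.nd (.lf 0xc84) (.lf 0x12b)) (.nd (.lf 0xf1c) (.lf 0x9bb)))) (.nd (.nd (.nd (.lf 0x5db) (.lf 0x1ba)) (.nd (.lf 0xbd6) (.lf 0x85b))) (.nd (.nd (.lf 0x2c4) (.lf 0xe53)) (.nd (.lf 0x1c8) (.lf 0xe80)))))) (.nd (.nd (.nd (.nd (.nd (.lf 0xb4c) (.lf 0x2f0)) (.nd (.lf 0x3fb) (.lf 0xc23))) (.nd (.nd (.lf 0x768) (.lf 0x874)) (.nd (.lf 0xb7d) (.lf 0x7a2))))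 (.nd (.nd (.nd (.lf 0x2e1) (.lf 0x7ec)) (.nd (.lf 0xc9b) (.lf 0xac2))) (.nd (.nd (.lf 0x1a0) (.lf 0xe2d)) (.nd (.lf 0x55e) (.lf 0xa9d))))) (.nd (.nd (.nd (.nd (.lf 0xd30) (.lf 0xdd2)) (.nd (.lf 0xed0) (.lf 0xff))) (.nd (.nd (.lf 0x1f9) (.lf 0xbd0)) (.nd (.lf 0x88f) (.lf 0x7d6)))) (.nd (.nd (.nd (.lf 0xdab) (.lf 0xcce)) (.nd (.lf 0xd9f) (.lf 0x389))) (.nd (.nd (.lf 0x36a) (.lf 0xb70)) (.nd (.lf 0x747) (.lf 0x97b)))))))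
def srtT_nbbbaab : Tr := (.nd (.nd (.nd (.nd (.nd (.nd (.lf 0x79e) (.lf 0x592)) (.nd (.lf 0x59c) (.lf 0xe5e))) (.nd (.nd (.lf 0xcd2) (.lf 0xd65)) (.nd (.lf 0xd74) (.lf 0x47e)))) (.nd (.nd (.nd (.lf 0x2a9) (.lf 0x68c)) (.nd (.lf 0x827) (.lf 0x26c))) (.nd (.nd (.lf 0x16f) (.lf 0x983)) (.nd (.lf 0xc20) (.lf 0x37c))))) (.nd (.nd (.nd (.nd (.lf 0x7c9) (.lf 0x55b)) (.nd (.lf 0xdd0) (.lf 0x7bf))) (.nd (.nd (.lf 0xc1b) (.lf 0xe45)) (.nd (.lf 0x9b9) (.lf 0xe48)))) (.nd (.nd (.nd (.lf 0x9d6) (.lf 0x660)) (.nd (.lf 0xa3c) (.lf 0xec7))) (.nd (.nd (.lf 0x826) (.lf 0x7f0)) (.nd (.lf 0xbd) (.lf 0x5b0)))))) (.nd (.nd (.nd (.nd (.nd (.lf 0xdf) (.lf 0x4d4)) (.nd (.lf 0xdca) (.lf 0x868))) (.nd (.nd (.lf 0xce6) (.lf 0x1ec)) (.nd (.lf 0x469) (.lf 0x5da))))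 (.nd (.nd (.nd (.lf 0x945) (.lf 0xe3d)) (.nd (.lf 0xa46) (.lf 0x124))) (.nd (.nd (.lf 0xe6b) (.lf 0xbcd)) (.nd (.lf 0xbae) (.lf 0x6e1))))) (.nd (.nd (.nd (.nd (.lf 0xb79) (.lf 0xef8)) (.nd (.lf 0xd0f) (.lf 0x972))) (.nd (.nd (.lf 0xd45) (.lf 0x70f)) (.nd (.lf 0xe5b) (.lf 0x570)))) (.nd (.nd (.nd (.lf 0xf5b) (.lf 0xdb8)) (.nd (.lf 0x2cc) (.lf 0xae8))) (.nd (.nd (.lf 0x61e) (.lf 0xd36)) (.nd (.lf 0xc8b) (.lf 0)))))))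
def srtT_nbbbaba : Tr := (.nd (.nd (.nd (.nd (.nd (.nd (.lf 0x2b9) (.lf 0x919)) (.nd (.lf 0xfb5) (.lf 0x390))) (.nd (.nd (.lf 0xf04) (.lf 0x192)) (.nd (.lf 0x784) (.lf 0x834)))) (.nd (.nd (.nd (.lf 0x60e) (.lf 0xeb1)) (.nd (.lf 0xa65) (.lf 0x128))) (.nd (.nd (.lf 0xb0) (.lf 0x4f9)) (.nd (.lf 0x5ab) (.lf 0xa62))))) (.nd (.nd (.nd (.nd (.lf 0x197) (.lf 0x18)) (.nd (.lf 0xace) (.lf 0xd58))) (.nd (.nd (.lf 0x605) (.lf 0xaad)) (.nd (.lf 0x8f2) (.lf 0x4e7)))) (.nd (.nd (.nd (.lf 0x25e) (.lf 0x52a)) (.nd (.lf 0x716) (.lf 0xe09))) (.nd (.nd (.lf 0x9ef) (.lf 0x2ea)) (.nd (.lf 0x6ad) (.lf 0x847)))))) (.nd (.nd (.nd (.nd (.nd (.lf 0x6a8) (.lf 0xa1f)) (.nd (.lf 0x4ba) (.lf 0x653))) (.nd (.nd (.lf 0x6ee) (.lf 0x7e4)) (.nd (.lf 0x588) (.lf 0x756))))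 (.nd (.nd (.nd (.lf 0xe60) (.lf 0x9d3)) (.nd (.lf 0xfd3) (.lf 0x944))) (.nd (.nd (.lf 0xd5f) (.lf 0xa5e)) (.nd (.lf 0xcde) (.lf 0xd67))))) (.nd (.nd (.nd (.nd (.lf 0x626) (.lf 0xc72)) (.nd (.lf 0xfd9) (.lf 0xdde))) (.nd (.nd (.lf 0x9ec) (.lf 0x5bf)) (.nd (.lf 0x17a) (.lf 0x9e5)))) (.nd (.nd (.nd (.lf 0xf0e) (.lf 0x1b7)) (.nd (.lf 0x802) (.lf 0x550))) (.nd (.nd (.lf 0x8f3) (.lf 0x628)) (.nd (.lf 0xf52) (.lf 0xebb)))))))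
def srtT_nbbbabb : Tr := (.nd (.nd (.nd (.nd (.nd (.nd (.lf 0x6cc) (.lf 0xfcf)) (.nd (.lf 0x55d) (.lf 0xd1c))) (.nd (.nd (.lf 0x77f) (.lf 0x35)) (.nd (.lf 0x405) (.lf 0x883)))) (.nd (.nd (.nd (.lf 0x4ac) (.lf 0x892)) (.nd (.lf 0x984) (.lf 0xe6f))) (.nd (.nd (.lf 0xd9c) (.lf 0x5a8)) (.nd (.lf 0x5bc) (.lf 0xa3))))) (.nd (.nd (.nd (.nd (.lf 0x445) (.lf 0x722)) (.nd (.lf 0x616) (.lf 0x9b4))) (.nd (.nd (.lf 0x9a5) (.lf 0x809)) (.nd (.lf 0xd32) (.lf 0x11e)))) (.nd (.nd (.nd (.lf 0x249) (.lf 0x889)) (.nd (.lf 0xbe1) (.lf 0x65c))) (.nd (.nd (.lf 0x60d) (.lf 0x140)) (.nd (.lf 0x56d) (.lf 0x47)))))) (.nd (.nd (.nd (.nd (.nd (.lf 0xb40) (.lf 0xd3d)) (.nd (.lf 0x266) (.lf 0x5c2))) (.nd (.nd (.lf 0xa29) (.lf 0x4c1)) (.nd (.lf 0xd6b) (.lf 0x4dd))))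 (.nd (.nd (.nd (.lf 0x6b0) (.lf 0xb27)) (.nd (.lf 0x8e8) (.lf 0x36f))) (.nd (.nd (.lf 0x517) (.lf 0x8f8)) (.nd (.lf 0xe5f) (.lf 0x99))))) (.nd (.nd (.nd (.nd (.lf 0x690) (.lf 0xc92)) (.nd (.lf 0xc66) (.lf 0x640))) (.nd (.nd (.lf 0x7f4) (.lf 0x372)) (.nd (.lf 0x289) (.lf 0x657)))) (.nd (.nd (.nd (.lf 0x914) (.lf 0xf63)) (.nd (.lf 0x70b) (.lf 0xd07))) (.nd (.nd (.lf 0x946) (.lf 0xe4a)) (.nd (.lf 0x9a6) (.lf 0)))))))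
def srtT_nbbbbaa : Tr := (.nd (.nd (.nd (.nd (.nd (.nd (.lf 0x818) (.lf 0xeea)) (.nd (.lf 0x728) (.lf 0xb9e))) (.nd (.nd (.lf 0xfa) (.lf 0x209)) (.nd (.lf 0x535) (.lf 0x960)))) (.nd (.nd (.nd (.lf 0x2c2) (.lf 0x387)) (.nd (.lf 0x3c4) (.lf 0x6f6))) (.nd (.nd (.lf 0xf2f) (.lf 0x754)) (.nd (.lf 0x272) (.lf 0x787))))) (.nd (.nd (.nd (.nd (.lf 0x924) (.lf 0xec0)) (.nd (.lf 0x73f) (.lf 0xc74))) (.nd (.nd (.lf 0x27) (.lf 0xdff)) (.nd (.lf 0x3f5) (.lf 0x86a)))) (.nd (.nd (.nd (.lf 0x869) (.lf 0x6e0)) (.nd (.lf 0x773) (.lf 0x382))) (.nd (.nd (.lf 0xbca) (.lf 0x551)) (.nd (.lf 0x509) (.lf 0x678)))))) (.nd (.nd (.nd (.nd (.nd (.lf 0x27e) (.lf 0xf92)) (.nd (.lf 0x723) (.lf 0xaa))) (.nd (.nd (.lf 0x217) (.lf 0x3a8)) (.nd (.lf 0x537) (.lf 0x6f0))))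 (.nd (.nd (.nd (.lf 0x5) (.lf 0xa02)) (.nd (.lf 0x375) (.lf 0x278))) (.nd (.nd (.lf 0x8fa) (.lf 0x95a)) (.nd (.lf 0xcf8) (.lf 0xf73))))) (.nd (.nd (.nd (.nd (.lf 0xe50) (.lf 0x92c)) (.nd (.lf 0xeb9) (.lf 0xd97))) (.nd (.nd (.lf 0x57c) (.lf 0xd2a)) (.nd (.lf 0xe19) (.lf 0x52b)))) (.nd (.nd (.nd (.lf 0x384) (.lf 0xb47)) (.nd (.lf 0x815) (.lf 0x72f))) (.nd (.nd (.lf 0xb32) (.lf 0x10f)) (.nd (.lf 0x1fa) (.lf 0x6f7)))))))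
def srtT_nbbbbab : Tr := (.nd (.nd (.nd (.nd (.nd (.nd (.lf 0xfac) (.lf 0x3f)) (.nd (.lf 0x3f9) (.lf 0xdfa))) (.nd (.nd (.lf 0x9cd) (.lf 0x69d)) (.nd (.lf 0x4b0) (.lf 0x8a3)))) (.nd (.nd (.nd (.lf 0x7d9) (.lf 0x5a6)) (.nd (.lf 0x2af) (.lf 0xeb))) (.nd (.nd (.lf 0xcec) (.lf 0x4b4)) (.nd (.lf 0xaca) (.lf 0x81))))) (.nd (.nd (.nd (.nd (.lf 0x891) (.lf 0x315)) (.nd (.lf 0xb2b) (.lf 0x6bd))) (.nd (.nd (.lf 0x93) (.lf 0x19c)) (.nd (.lf 0xdd5) (.lf 0x3d1)))) (.nd (.nd (.nd (.lf 0x263) (.lf 0x745)) (.nd (.lf 0x451) (.lf 0x4af))) (.nd (.nd (.lf 0x56f) (.lf 0x738)) (.nd (.lf 0x2cb) (.lf 0x288)))))) (.nd (.nd (.nd (.nd (.nd (.lf 0xeba) (.lf 0x107)) (.nd (.lf 0xc77) (.lf 0xb2d))) (.nd (.nd (.lf 0xb6a) (.lf 0xd2d)) (.nd (.lf 0xd09) (.lf 0xc09))))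 (.nd (.nd (.nd (.lf 0x98a) (.lf 0x1bd)) (.nd (.lf 0xe36) (.lf 0x9df))) (.nd (.nd (.lf 0xd26) (.lf 0xbe0)) (.nd (.lf 0x91d) (.lf 0x373))))) (.nd (.nd (.nd (.nd (.lf 0x352) (.lf 0xf03)) (.nd (.lf 0x1b9) (.lf 0x6de))) (.nd (.nd (.lf 0xba3) (.lf 0x96c)) (.nd (.lf 0xfd1) (.lf 0x557)))) (.nd (.nd (.nd (.lf 0x538) (.lf 0x864)) (.nd (.lf 0x698) (.lf 0xd33))) (.nd (.nd (.lf 0xed8) (.lf 0x3)) (.nd (.lf 0x490) (.lf 0)))))))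
def srtT_nbbbbba : Tr := (.nd (.nd (.nd (.nd (.nd (.nd (.lf 0x229) (.lf 0x906)) (.nd (.lf 0x51c) (.lf 0x625))) (.nd (.nd (.lf 0x477) (.lf 0xf5a)) (.nd (.lf 0xf4b) (.lf 0xbe7)))) (.nd (.nd (.nd (.lf 0x230) (.lf 0xca)) (.nd (.lf 0xbad) (.lf 0x496))) (.nd (.nd (.lf 0x164) (.lf 0x7d4)) (.nd (.lf 0x2c5) (.lf 0xd15))))) (.nd (.nd (.nd (.nd (.lf 0xa67) (.lf 0x8c3)) (.nd (.lf 0xdf8) (.lf 0x845))) (.nd (.nd (.lf 0x8a0) (.lf 0x2cf)) (.nd (.lf 0x3c7) (.lf 0xbac)))) (.nd (.nd (.nd (.lf 0xca6) (.lf 0x1a5)) (.nd (.lf 0x467) (.lf 0x47c))) (.nd (.nd (.lf 0x95) (.lf 0xea0)) (.nd (.lf 0xeac) (.lf 0x56e)))))) (.nd (.nd (.nd (.nd (.nd (.lf 0xf13) (.lf 0x24e)) (.nd (.lf 0x4ff) (.lf 0x91e))) (.nd (.nd (.lf 0x96) (.lf 0xf79)) (.nd (.lf 0x85) (.lf 0x112))))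 (.nd (.nd (.nd (.lf 0xb98) (.lf 0xafd)) (.nd (.lf 0x46a) (.lf 0xe61))) (.nd (.nd (.lf 0xdfe) (.lf 0xf3f)) (.nd (.lf 0xf50) (.lf 0x1e9))))) (.nd (.nd (.nd (.nd (.lf 0x6c0) (.lf 0xb26)) (.nd (.lf 0x933) (.lf 0xdf5))) (.nd (.nd (.lf 0x4) (.lf 0x6ed)) (.nd (.lf 0x8bd) (.lf 0x940)))) (.nd (.nd (.nd (.lf 0x46d) (.lf 0x66e)) (.nd (.lf 0x46b) (.lf 0x9cf))) (.nd (.nd (.lf 0xaec) (.lf 0x6e)) (.nd (.lf 0xbfc) (.lf 0)))))))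
def srtT_nbbbbbb : Tr := (.nd (.nd (.nd (.nd (.nd (.nd (.lf 0x93d) (.lf 0x5e1)) (.nd (.lf 0xcc8) (.lf 0xb62))) (.nd (.nd (.lf 0xa66) (.lf 0x751)) (.nd (.lf 0x6ea) (.lf 0x7fb)))) (.nd (.nd (.nd (.lf 0x976) (.lf 0x821)) (.nd (.lf 0x875) (.lf 0xcc4))) (.nd (.nd (.lf 0xb3a) (.lf 0x3b5)) (.nd (.lf 0x8ca) (.lf 0xfcd))))) (.nd (.nd (.nd (.nd (.lf 0xd46) (.lf 0x4f5)) (.nd (.lf 0x54b) (.lf 0x5ac))) (.nd (.nd (.lf 0xfd4) (.lf 0xa99)) (.nd (.lf 0xf1a) (.lf 0x9a8)))) (.nd (.nd (.nd (.lf 0x83c) (.lf 0x179)) (.nd (.lf 0x39b) (.lf 0x60c))) (.nd (.nd (.lf 0xc0a) (.lf 0x613)) (.nd (.lf 0x576) (.lf 0x287)))))) (.nd (.nd (.nd (.nd (.nd (.lf 0x713) (.lf 0x2ee)) (.nd (.lf 0xb0b) (.lf 0x2d2))) (.nd (.nd (.lf 0xee4) (.lf 0x42f)) (.nd (.lf 0x334) (.lf 0x850))))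 (.nd (.nd (.nd (.lf 0xbba) (.lf 0x87)) (.nd (.lf 0xc10) (.lf 0x7c0))) (.nd (.nd (.lf 0xe6e) (.lf 0x2d6)) (.nd (.lf 0xe95) (.lf 0x512))))) (.nd (.nd (.nd (.nd (.lf 0x9ac) (.lf 0x9d1)) (.nd (.lf 0xf05) (.lf 0x9bf))) (.nd (.nd (.lf 0x92e) (.lf 0x780)) (.nd (.lf 0xf06) (.lf 0x83d)))) (.nd (.nd (.nd (.lf 0x9b6) (.lf 0x18e)) (.nd (.lf 0x22c) (.lf 0x359))) (.nd (.nd (.lf 0x154) (.lf 0x9f5)) (.nd (.lf 0x980) (.lf 0)))))))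
def srtT : Tr := (.nd (.nd (.nd (.nd (.nd (.nd srtT_naaaaaa srtT_naaaaab) (.nd srtT_naaaaba srtT_naaaabb)) (.nd (.nd srtT_naaabaa srtT_naaabab) (.nd srtT_naaabba srtT_naaabbb))) (.nd (.nd (.nd srtT_naabaaa srtT_naabaab) (.nd srtT_naababa srtT_naababb)) (.nd (.nd srtT_naabbaa srtT_naabbab) (.nd srtT_naabbba srtT_naabbbb)))) (.nd (.nd (.nd (.nd srtT_nabaaaa srtT_nabaaab) (.nd srtT_nabaaba srtT_nabaabb)) (.nd (.nd srtT_nababaa srtT_nababab) (.nd srtT_nababba srtT_nababbb))) (.nd (.nd (.nd srtT_nabbaaa srtT_nabbaab) (.nd srtT_nabbaba srtT_nabbabb)) (.nd (.nd srtT_nabbbaa srtT_nabbbab) (.nd srtT_nabbbba srtT_nabbbbb))))) (.nd (.nd (.nd (.nd (.nd srtT_nbaaaaa srtT_nbaaaab) (.nd srtT_nbaaaba srtT_nbaaabb)) (.nd (.nd srtT_nbaabaa srtT_nbaabab)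 (.nd srtT_nbaabba srtT_nbaabbb))) (.nd (.nd (.nd srtT_nbabaaa srtT_nbabaab) (.nd srtT_nbababa srtT_nbababb)) (.nd (.nd srtT_nbabbaa srtT_nbabbab) (.nd srtT_nbabbba srtT_nbabbbb)))) (.nd (.nd (.nd (.nd srtT_nbbaaaa srtT_nbbaaab) (.nd srtT_nbbaaba srtT_nbbaabb)) (.nd (.nd srtT_nbbabaa srtT_nbbabab) (.nd srtT_nbbabba srtT_nbbabbb))) (.nd (.nd (.nd srtT_nbbbaaa srtT_nbbbaab) (.nd srtT_nbbbaba srtT_nbbbabb)) (.nd (.nd srtT_nbbbbaa srtT_nbbbbab) (.nd srtT_nbbbbba srtT_nbbbbbb))))))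
def parT_naaaaaa : Tr := (.nd (.nd (.nd (.nd (.nd (.nd (.lf 0x0) (.lf 0x4a8)) (.nd (.lf 0x121c) (.lf 0x1802))) (.nd (.nd (.lf 0x1105) (.lf 0x63a)) (.nd (.lf 0x1354) (.lf 0x1a59)))) (.nd (.nd (.nd (.lf 0x80) (.lf 0x1564)) (.nd (.lf 0x2b8) (.lf 0x1926))) (.nd (.nd (.lf 0x118d) (.lf 0x170d)) (.nd (.lf 0x13f6) (.lf 0xc28))))) (.nd (.nd (.nd (.nd (.lf 0x103f) (.lf 0x1504)) (.nd (.lf 0x26f) (.lf 0x893))) (.nd (.nd (.lf 0x1147) (.lf 0x16a9)) (.nd (.lf 0x3a4) (.lf 0xb29)))) (.nd (.nd (.nd (.lf 0xc3) (.lf 0x5cb)) (.nd (.lf 0x1306) (.lf 0x19b9))) (.nd (.nd (.lf 0x11d2) (.lf 0x1783)) (.nd (.lf 0x453) (.lf 0xd7c)))))) (.nd (.nd (.nd (.nd (.nd (.lf 0x101f) (.lf 0x4d8)) (.nd (.lf 0x246) (.lf 0x848))) (.nd (.nd (.lf 0x126) (.lf 0x669)) (.nd (.lf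 0x37d) (.lf 0x1ab9)))) (.nd (.nd (.nd (.lf 0x10a1) (.lf 0x1597)) (.nd (.lf 0x2e0) (.lf 0x196e))) (.nd (.nd (.lf 0x11ae) (.lf 0x747)) (.nd (.lf 0x426) (.lf 0x1cc5))))) (.nd (.nd (.nd (.nd (.lf 0x60) (.lf 0x1534)) (.nd (.lf 0x1292) (.lf 0x18d9))) (.nd (.nd (.lf 0x16a) (.lf 0x16db)) (.nd (.lf 0x3cf) (.lf 0xb98)))) (.nd (.nd (.nd (.lf 0x10e3) (.lf 0x605)) (.nd (.lf 0x132e) (.lf 0x1a04))) (.nd (.nd (.lf 0x11f8) (.lf 0x7c2)) (.nd (.lf 0x478) (.lf 0xe89)))))))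
def parT_naaaaab : Tr := (.nd (.nd (.nd (.nd (.nd (.nd (.lf 0x100f) (.lf 0x14c0)) (.nd (.lf 0x232) (.lf 0x823))) (.nd (.nd (.lf 0x1115) (.lf 0x650)) (.nd (.lf 0x1369) (.lf 0x1a8e)))) (.nd (.nd (.nd (.lf 0x1090) (.lf 0x157c)) (.nd (.lf 0x12cd) (.lf 0x194a))) (.nd (.nd (.lf 0x119d) (.lf 0x72e)) (.nd (.lf 0x140e) (.lf 0xc6c))))) (.nd (.nd (.nd (.nd (.lf 0x104f) (.lf 0x1518)) (.nd (.lf 0x1281) (.lf 0x8b7))) (.nd (.nd (.lf 0x1159) (.lf 0x16c1)) (.nd (.lf 0x13ba) (.lf 0x1b62)))) (.nd (.nd (.nd (.lf 0x10d3) (.lf 0x5e9)) (.nd (.lf 0x31a) (.lf 0x9e6))) (.nd (.nd (.lf 0x11e4) (.lf 0x7a1)) (.nd (.lf 0x1466) (.lf 0x1dfd)))))) (.nd (.nd (.nd (.nd (.nd (.lf 0x102f) (.lf 0x4ed)) (.nd (.lf 0x125b) (.lf 0x86a))) (.nd (.nd (.lf 0x137) (.lf 0x689))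 (.nd (.lf 0x392) (.lf 0x1aef)))) (.nd (.nd (.nd (.lf 0x10b2) (.lf 0x15b1)) (.nd (.lf 0x2f2) (.lf 0x1995))) (.nd (.nd (.lf 0x11bf) (.lf 0x768)) (.nd (.lf 0x43b) (.lf 0xd1b))))) (.nd (.nd (.nd (.nd (.lf 0x70) (.lf 0x154d)) (.nd (.lf 0x2a5) (.lf 0x1906))) (.nd (.nd (.lf 0x117b) (.lf 0x6f1)) (.nd (.lf 0x13e2) (.lf 0xbdc)))) (.nd (.nd (.nd (.lf 0x10f4) (.lf 0x61d)) (.nd (.lf 0x1340) (.lf 0xa30))) (.nd (.nd (.lf 0x20c) (.lf 0x7df)) (.nd (.lf 0x1491) (.lf 0)))))))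
def parT_naaaaba : Tr := (.nd (.nd (.nd (.nd (.nd (.nd (.lf 0x1007) (.lf 0x4b5)) (.nd (.lf 0x226) (.lf 0x816))) (.nd (.nd (.lf 0x110d) (.lf 0x1646)) (.nd (.lf 0x35f) (.lf 0x1a70)))) (.nd (.nd (.nd (.lf 0x1088) (.lf 0x156f)) (.nd (.lf 0x12c1) (.lf 0x934))) (.nd (.nd (.lf 0x1195) (.lf 0x171e)) (.nd (.lf 0x1401) (.lf 0x1c40))))) (.nd (.nd (.nd (.nd (.lf 0x1047) (.lf 0x50f)) (.nd (.lf 0x1277) (.lf 0x8a4))) (.nd (.nd (.lf 0x151) (.lf 0x16b7)) (.nd (.lf 0x13b0) (.lf 0x1b46)))) (.nd (.nd (.nd (.lf 0xcb) (.lf 0x5d8)) (.nd (.lf 0x1310) (.lf 0x9d0))) (.nd (.nd (.lf 0x11da) (.lf 0x1794)) (.nd (.lf 0x45d) (.lf 0x1dc3)))))) (.nd (.nd (.nd (.nd (.nd (.lf 0x1027) (.lf 0x4e2)) (.nd (.lf 0x1250) (.lf 0x85c))) (.nd (.nd (.lf 0x12f) (.lf 0x167a)) (.nd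 (.lf 0x1387) (.lf 0x1ace)))) (.nd (.nd (.nd (.lf 0xaa) (.lf 0x5a5)) (.nd (.lf 0x2e9) (.lf 0x97d))) (.nd (.nd (.lf 0x1b7) (.lf 0x1757)) (.nd (.lf 0x431) (.lf 0x1cf3))))) (.nd (.nd (.nd (.nd (.lf 0x68) (.lf 0x1542)) (.nd (.lf 0x129c) (.lf 0x8f2))) (.nd (.nd (.lf 0x173) (.lf 0x16e8)) (.nd (.lf 0x3d8) (.lf 0x1bbe)))) (.nd (.nd (.nd (.lf 0xec) (.lf 0x160f)) (.nd (.lf 0x338) (.lf 0x1a1b))) (.nd (.nd (.lf 0x1202) (.lf 0x7d0)) (.nd (.lf 0x1485) (.lf 0x1f0c)))))))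
def parT_naaaabb : Tr := (.nd (.nd (.nd (.nd (.nd (.nd (.lf 0x1017) (.lf 0x14cb)) (.nd (.lf 0x23c) (.lf 0x833))) (.nd (.nd (.lf 0x11e) (.lf 0x165c)) (.nd (.lf 0x373) (.lf 0xaa3)))) (.nd (.nd (.nd (.lf 0x1098) (.lf 0x1589)) (.nd (.lf 0x2d6) (.lf 0x195e))) (.nd (.nd (.lf 0x11a6) (.lf 0x73b)) (.nd (.lf 0x141b) (.lf 0x1c97))))) (.nd (.nd (.nd (.nd (.lf 0x1057) (.lf 0x1528)) (.nd (.lf 0x28a) (.lf 0x8c7))) (.nd (.nd (.lf 0x1161) (.lf 0x16cd)) (.nd (.lf 0x13c4) (.lf 0x1b79)))) (.nd (.nd (.nd (.lf 0x10db) (.lf 0x5f8)) (.nd (.lf 0x325) (.lf 0x9f2))) (.nd (.nd (.lf 0x11ed) (.lf 0x17b2)) (.nd (.lf 0x470) (.lf 0x1e23)))))) (.nd (.nd (.nd (.nd (.nd (.lf 0x1037) (.lf 0x14f8)) (.nd (.lf 0x265) (.lf 0x87e))) (.nd (.nd (.lf 0x13f) (.lf 0x1698)) (.nd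 (.lf 0x139a) (.lf 0xb12)))) (.nd (.nd (.nd (.lf 0xbb) (.lf 0x5be)) (.nd (.lf 0x12fb) (.lf 0x19a4))) (.nd (.nd (.lf 0x11c8) (.lf 0x778)) (.nd (.lf 0x1445) (.lf 0x1d4a))))) (.nd (.nd (.nd (.nd (.lf 0x78) (.lf 0x558)) (.nd (.lf 0x12ae) (.lf 0x913))) (.nd (.nd (.lf 0x1184) (.lf 0x701)) (.nd (.lf 0x13ed) (.lf 0xbfe)))) (.nd (.nd (.nd (.lf 0xfd) (.lf 0x162b)) (.nd (.lf 0x1349) (.lf 0x1a40))) (.nd (.nd (.lf 0x214) (.lf 0x17f1)) (.nd (.lf 0x149b) (.lf 0)))))))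
def parT_naaabaa : Tr := (.nd (.nd (.nd (.nd (.nd (.nd (.lf 0x1003) (.lf 0x4af)) (.nd (.lf 0x222) (.lf 0x180c))) (.nd (.nd (.lf 0x1109) (.lf 0x1641)) (.nd (.lf 0x35a) (.lf 0xa68)))) (.nd (.nd (.nd (.lf 0x84) (.lf 0x56a)) (.nd (.lf 0x2bc) (.lf 0x192d))) (.nd (.nd (.lf 0x1191) (.lf 0x717)) (.nd (.lf 0x13fa) (.lf 0xc38))))) (.nd (.nd (.nd (.nd (.lf 0x1043) (.lf 0x509)) (.nd (.lf 0x273) (.lf 0x89b))) (.nd (.nd (.lf 0x114c) (.lf 0x16af)) (.nd (.lf 0x3ac) (.lf 0x1b35)))) (.nd (.nd (.nd (.lf 0xc7) (.lf 0x15d2)) (.nd (.lf 0x130b) (.lf 0x19c2))) (.nd (.nd (.lf 0x11d6) (.lf 0x78d)) (.nd (.lf 0x1457) (.lf 0x1d9c)))))) (.nd (.nd (.nd (.nd (.nd (.lf 0x1023) (.lf 0x4de)) (.nd (.lf 0x24c) (.lf 0x1853))) (.nd (.nd (.lf 0x112a) (.lf 0x1671)) (.nd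 (.lf 0x381) (.lf 0xac5)))) (.nd (.nd (.nd (.lf 0x10a5) (.lf 0x159f)) (.nd (.lf 0x12e4) (.lf 0x974))) (.nd (.nd (.lf 0x11b2) (.lf 0x1751)) (.nd (.lf 0x42c) (.lf 0xce0))))) (.nd (.nd (.nd (.nd (.lf 0x64) (.lf 0x153b)) (.nd (.lf 0x298) (.lf 0x8e7))) (.nd (.nd (.lf 0x16f) (.lf 0x6e2)) (.nd (.lf 0x3d3) (.lf 0xbad)))) (.nd (.nd (.nd (.lf 0x10e7) (.lf 0x160a)) (.nd (.lf 0x1333) (.lf 0x1a11))) (.nd (.nd (.lf 0x1fe) (.lf 0x17c9)) (.nd (.lf 0x147f) (.lf 0x1ec7)))))))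
def parT_naaabab : Tr := (.nd (.nd (.nd (.nd (.nd (.nd (.lf 0x1013) (.lf 0x14c5)) (.nd (.lf 0x1237) (.lf 0x82e))) (.nd (.nd (.lf 0x11a) (.lf 0x656)) (.nd (.lf 0x36e) (.lf 0x1a97)))) (.nd (.nd (.nd (.lf 0x1094) (.lf 0x585)) (.nd (.lf 0x2d2) (.lf 0x1955))) (.nd (.nd (.lf 0x11a2) (.lf 0x1734)) (.nd (.lf 0x1414) (.lf 0xc7b))))) (.nd (.nd (.nd (.nd (.lf 0x1053) (.lf 0x151e)) (.nd (.lf 0x1285) (.lf 0x8be))) (.nd (.nd (.lf 0x115d) (.lf 0x6c8)) (.nd (.lf 0x13c0) (.lf 0x1b70)))) (.nd (.nd (.nd (.lf 0x10d7) (.lf 0x15f1)) (.nd (.lf 0x31f) (.lf 0x19ed))) (.nd (.nd (.lf 0x11e8) (.lf 0x17a7)) (.nd (.lf 0x46b) (.lf 0x1e14)))))) (.nd (.nd (.nd (.nd (.nd (.lf 0x1033) (.lf 0x4f3)) (.nd (.lf 0x1260) (.lf 0x1874))) (.nd (.nd (.lf 0x13b) (.lf 0x1690))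 (.nd (.lf 0x396) (.lf 0xaff)))) (.nd (.nd (.nd (.lf 0xb7) (.lf 0x15b8)) (.nd (.lf 0x12f6) (.lf 0x99c))) (.nd (.nd (.lf 0x1c4) (.lf 0x76f)) (.nd (.lf 0x440) (.lf 0x1d2f))))) (.nd (.nd (.nd (.nd (.lf 0x74) (.lf 0x553)) (.nd (.lf 0x2aa) (.lf 0x90e))) (.nd (.nd (.lf 0x180) (.lf 0x16f9)) (.nd (.lf 0x13e8) (.lf 0xbed)))) (.nd (.nd (.nd (.lf 0x10f8) (.lf 0x1624)) (.nd (.lf 0x1345) (.lf 0x1a38))) (.nd (.nd (.lf 0x210) (.lf 0x17e6)) (.nd (.lf 0x497) (.lf 0)))))))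
def parT_naaabba : Tr := (.nd (.nd (.nd (.nd (.nd (.nd (.lf 0x100b) (.lf 0x4ba)) (.nd (.lf 0x122c) (.lf 0x181e))) (.nd (.nd (.lf 0x1111) (.lf 0x64b)) (.nd (.lf 0x364) (.lf 0xa7c)))) (.nd (.nd (.nd (.lf 0x108c) (.lf 0x576)) (.nd (.lf 0x2c6) (.lf 0x93e))) (.nd (.nd (.lf 0x1199) (.lf 0x725)) (.nd (.lf 0x140a) (.lf 0x1c4e))))) (.nd (.nd (.nd (.nd (.lf 0x104b) (.lf 0x514)) (.nd (.lf 0x127c) (.lf 0x8ad))) (.nd (.nd (.lf 0x155) (.lf 0x16bb)) (.nd (.lf 0x13b4) (.lf 0x1b51)))) (.nd (.nd (.nd (.lf 0xcf) (.lf 0x5e0)) (.nd (.lf 0x316) (.lf 0x9d9))) (.nd (.nd (.lf 0x11df) (.lf 0x179a)) (.nd (.lf 0x462) (.lf 0xddd)))))) (.nd (.nd (.nd (.nd (.nd (.lf 0x102b) (.lf 0x4e7)) (.nd (.lf 0x256) (.lf 0x863))) (.nd (.nd (.lf 0x133) (.lf 0x682)) (.nd (.lf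 0x138b) (.lf 0xae0)))) (.nd (.nd (.nd (.lf 0xae) (.lf 0x15aa)) (.nd (.lf 0x2ed) (.lf 0x985))) (.nd (.nd (.lf 0x1bb) (.lf 0x75e)) (.nd (.lf 0x1435) (.lf 0xd05))))) (.nd (.nd (.nd (.nd (.lf 0x6c) (.lf 0x547)) (.nd (.lf 0x2a1) (.lf 0x8fa))) (.nd (.nd (.lf 0x177) (.lf 0x16ec)) (.nd (.lf 0x3de) (.lf 0x1bcf)))) (.nd (.nd (.nd (.lf 0x10f0) (.lf 0x1615)) (.nd (.lf 0x133c) (.lf 0x1a27))) (.nd (.nd (.lf 0x1206) (.lf 0x7d8)) (.nd (.lf 0x48b) (.lf 0x1f47)))))))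
def parT_naaabbb : Tr := (.nd (.nd (.nd (.nd (.nd (.nd (.lf 0x101b) (.lf 0x4d2)) (.nd (.lf 0x1241) (.lf 0x183d))) (.nd (.nd (.lf 0x122) (.lf 0x1661)) (.nd (.lf 0x1377) (.lf 0xaad)))) (.nd (.nd (.nd (.lf 0x109d) (.lf 0x1591)) (.nd (.lf 0x2dc) (.lf 0x1965))) (.nd (.nd (.lf 0x11aa) (.lf 0x1741)) (.nd (.lf 0x1421) (.lf 0x1ca6))))) (.nd (.nd (.nd (.nd (.lf 0x5c) (.lf 0x152e)) (.nd (.lf 0x28e) (.lf 0x18cf))) (.nd (.nd (.lf 0x1165) (.lf 0x16d5)) (.nd (.lf 0x13c9) (.lf 0x1b8a)))) (.nd (.nd (.nd (.lf 0x10df) (.lf 0x5fd)) (.nd (.lf 0x32a) (.lf 0x9fd))) (.nd (.nd (.lf 0x11f3) (.lf 0x7bb)) (.nd (.lf 0x474) (.lf 0x1e45)))))) (.nd (.nd (.nd (.nd (.nd (.lf 0x103b) (.lf 0x14fd)) (.nd (.lf 0x126a) (.lf 0x188b))) (.nd (.nd (.lf 0x143) (.lf 0x6a1))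 (.nd (.lf 0x39f) (.lf 0x1b19)))) (.nd (.nd (.nd (.lf 0xbf) (.lf 0x5c5)) (.nd (.lf 0x1300) (.lf 0x9ac))) (.nd (.nd (.lf 0x1cd) (.lf 0x177c)) (.nd (.lf 0x144c) (.lf 0xd5e))))) (.nd (.nd (.nd (.nd (.lf 0x7c) (.lf 0x155c)) (.nd (.lf 0x12b3) (.lf 0x91d))) (.nd (.nd (.lf 0x189) (.lf 0x709)) (.nd (.lf 0x3f2) (.lf 0x1c12)))) (.nd (.nd (.nd (.lf 0x1101) (.lf 0x633)) (.nd (.lf 0x34e) (.lf 0x1a4b))) (.nd (.nd (.lf 0x218) (.lf 0x7fa)) (.nd (.lf 0x14a2) (.lf 0)))))))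
def parT_naabaaa : Tr := (.nd (.nd (.nd (.nd (.nd (.nd (.lf 0x1001) (.lf 0x14ab)) (.nd (.lf 0x21f) (.lf 0x807))) (.nd (.nd (.lf 0x1107) (.lf 0x163c)) (.nd (.lf 0x1357) (.lf 0xa61)))) (.nd (.nd (.nd (.lf 0x82) (.lf 0x1567)) (.nd (.lf 0x2ba) (.lf 0x929))) (.nd (.nd (.lf 0x118f) (.lf 0x713)) (.nd (.lf 0x13f8) (.lf 0xc35))))) (.nd (.nd (.nd (.nd (.lf 0x1041) (.lf 0x507)) (.nd (.lf 0x271) (.lf 0x897))) (.nd (.nd (.lf 0x1149) (.lf 0x16ac)) (.nd (.lf 0x3a8) (.lf 0xb2f)))) (.nd (.nd (.nd (.lf 0xc5) (.lf 0x15cd)) (.nd (.lf 0x309) (.lf 0x9bc))) (.nd (.nd (.lf 0x11d4) (.lf 0x1788)) (.nd (.lf 0x1455) (.lf 0x1d8f)))))) (.nd (.nd (.nd (.nd (.nd (.lf 0x1021) (.lf 0x4dc)) (.nd (.lf 0x24a) (.lf 0x84d))) (.nd (.nd (.lf 0x1128) (.lf 0x166e)) (.nd (.lf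 0x37f) (.lf 0x1ac0)))) (.nd (.nd (.nd (.lf 0x10a3) (.lf 0x159b)) (.nd (.lf 0x2e2) (.lf 0x1970))) (.nd (.nd (.lf 0x11b0) (.lf 0x74c)) (.nd (.lf 0x429) (.lf 0xcd3))))) (.nd (.nd (.nd (.nd (.lf 0x62) (.lf 0x1538)) (.nd (.lf 0x295) (.lf 0x8e0))) (.nd (.nd (.lf 0x116c) (.lf 0x6df)) (.nd (.lf 0x3d1) (.lf 0x1ba9)))) (.nd (.nd (.nd (.lf 0x10e5) (.lf 0x1608)) (.nd (.lf 0x1330) (.lf 0xa0b))) (.nd (.nd (.lf 0x11fb) (.lf 0x17c7)) (.nd (.lf 0x147c) (.lf 0x1ea0)))))))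
def parT_naabaab : Tr := (.nd (.nd (.nd (.nd (.nd (.nd (.lf 0x1011) (.lf 0x14c3)) (.nd (.lf 0x1235) (.lf 0x828))) (.nd (.nd (.lf 0x1117) (.lf 0x654)) (.nd (.lf 0x136b) (.lf 0xa93)))) (.nd (.nd (.nd (.lf 0x1092) (.lf 0x581)) (.nd (.lf 0x2d0) (.lf 0x94e))) (.nd (.nd (.lf 0x1a0) (.lf 0x732)) (.nd (.lf 0x412) (.lf 0x1c74))))) (.nd (.nd (.nd (.nd (.lf 0x1051) (.lf 0x151a)) (.nd (.lf 0x1283) (.lf 0x8bb))) (.nd (.nd (.lf 0x115b) (.lf 0x16c4)) (.nd (.lf 0x3bd) (.lf 0xb69)))) (.nd (.nd (.nd (.lf 0x10d5) (.lf 0x5ed)) (.nd (.lf 0x31c) (.lf 0x19ea))) (.nd (.nd (.lf 0x11e6) (.lf 0x17a4)) (.nd (.lf 0x469) (.lf 0x1e06)))))) (.nd (.nd (.nd (.nd (.nd (.lf 0x1031) (.lf 0x4f0)) (.nd (.lf 0x125d) (.lf 0x186c))) (.nd (.nd (.lf 0x139) (.lf 0x68d)) (.nd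 (.lf 0x394) (.lf 0xafa)))) (.nd (.nd (.nd (.lf 0x10b4) (.lf 0x5b5)) (.nd (.lf 0x2f4) (.lf 0x1998))) (.nd (.nd (.lf 0x1c2) (.lf 0x76c)) (.nd (.lf 0x43d) (.lf 0x1d26))))) (.nd (.nd (.nd (.nd (.lf 0x72) (.lf 0x1550)) (.nd (.lf 0x12a7) (.lf 0x90b))) (.nd (.nd (.lf 0x17e) (.lf 0x16f6)) (.nd (.lf 0x13e5) (.lf 0xbe4)))) (.nd (.nd (.nd (.lf 0x10f6) (.lf 0x621)) (.nd (.lf 0x1343) (.lf 0xa34))) (.nd (.nd (.lf 0x20e) (.lf 0x17e3)) (.nd (.lf 0x1494) (.lf 0)))))))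
def parT_naababa : Tr := (.nd (.nd (.nd (.nd (.nd (.nd (.lf 0x1009) (.lf 0x4b8)) (.nd (.lf 0x229) (.lf 0x81b))) (.nd (.nd (.lf 0x110f) (.lf 0x1648)) (.nd (.lf 0x362) (.lf 0xa79)))) (.nd (.nd (.nd (.lf 0x108a) (.lf 0x573)) (.nd (.lf 0x2c4) (.lf 0x1936))) (.nd (.nd (.lf 0x1197) (.lf 0x1721)) (.nd (.lf 0x406) (.lf 0xc48))))) (.nd (.nd (.nd (.nd (.lf 0x1049) (.lf 0x1511)) (.nd (.lf 0x1279) (.lf 0x18a9))) (.nd (.nd (.lf 0x153) (.lf 0x16b9)) (.nd (.lf 0x13b2) (.lf 0x1b4c)))) (.nd (.nd (.nd (.lf 0xcd) (.lf 0x15db)) (.nd (.lf 0x313) (.lf 0x19d4))) (.nd (.nd (.lf 0x1dd) (.lf 0x1797)) (.nd (.lf 0x45f) (.lf 0x1dcc)))))) (.nd (.nd (.nd (.nd (.nd (.lf 0x1029) (.lf 0x14e4)) (.nd (.lf 0x1253) (.lf 0x860))) (.nd (.nd (.lf 0x131) (.lf 0x167f)) (.nd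 (.lf 0x1389) (.lf 0x1ad7)))) (.nd (.nd (.nd (.lf 0xac) (.lf 0x5a8)) (.nd (.lf 0x2eb) (.lf 0x1981))) (.nd (.nd (.lf 0x1b9) (.lf 0x75c)) (.nd (.lf 0x433) (.lf 0x1cfe))))) (.nd (.nd (.nd (.nd (.lf 0x6a) (.lf 0x545)) (.nd (.lf 0x129e) (.lf 0x8f5))) (.nd (.nd (.lf 0x175) (.lf 0x16ea)) (.nd (.lf 0x13da) (.lf 0x1bcb)))) (.nd (.nd (.nd (.lf 0xee) (.lf 0x612)) (.nd (.lf 0x133a) (.lf 0xa20))) (.nd (.nd (.lf 0x1204) (.lf 0x17d3)) (.nd (.lf 0x488) (.lf 0xf32)))))))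
def parT_naababb : Tr := (.nd (.nd (.nd (.nd (.nd (.nd (.lf 0x1019) (.lf 0x14ce)) (.nd (.lf 0x123e) (.lf 0x1837))) (.nd (.nd (.lf 0x120) (.lf 0x165e)) (.nd (.lf 0x1375) (.lf 0xaaa)))) (.nd (.nd (.nd (.lf 0x9b) (.lf 0x158d)) (.nd (.lf 0x2d9) (.lf 0x961))) (.nd (.nd (.lf 0x11a8) (.lf 0x73e)) (.nd (.lf 0x41e) (.lf 0xc9d))))) (.nd (.nd (.nd (.nd (.lf 0x5a) (.lf 0x52c)) (.nd (.lf 0x28c) (.lf 0x18cc))) (.nd (.nd (.lf 0x1163) (.lf 0x16d1)) (.nd (.lf 0x3c7) (.lf 0x1b84)))) (.nd (.nd (.nd (.lf 0x10dd) (.lf 0x15fa)) (.nd (.lf 0x1327) (.lf 0x19f6))) (.nd (.nd (.lf 0x1f0) (.lf 0x17b6)) (.nd (.lf 0x472) (.lf 0x1e30)))))) (.nd (.nd (.nd (.nd (.nd (.lf 0x1039) (.lf 0x4fb)) (.nd (.lf 0x267) (.lf 0x888))) (.nd (.nd (.lf 0x141) (.lf 0x69c)) (.nd (.lf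 0x39d) (.lf 0x1b14)))) (.nd (.nd (.nd (.lf 0xbd) (.lf 0x15c0)) (.nd (.lf 0x12fe) (.lf 0x19a8))) (.nd (.nd (.lf 0x11ca) (.lf 0x177a)) (.nd (.lf 0x1448) (.lf 0x1d54))))) (.nd (.nd (.nd (.nd (.lf 0x7a) (.lf 0x55a)) (.nd (.lf 0x2b1) (.lf 0x1918))) (.nd (.nd (.lf 0x187) (.lf 0x706)) (.nd (.lf 0x3f0) (.lf 0x1c07)))) (.nd (.nd (.nd (.lf 0xff) (.lf 0x162d)) (.nd (.lf 0x34c) (.lf 0xa47))) (.nd (.nd (.lf 0x216) (.lf 0x7f5)) (.nd (.lf 0x149e) (.lf 0)))))))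
def parT_naabbaa : Tr := (.nd (.nd (.nd (.nd (.nd (.nd (.lf 0x1005) (.lf 0x4b2)) (.nd (.lf 0x224) (.lf 0x1810))) (.nd (.nd (.lf 0x110b) (.lf 0x1643)) (.nd (.lf 0x35c) (.lf 0x1a6c)))) (.nd (.nd (.nd (.lf 0x1086) (.lf 0x156d)) (.nd (.lf 0x12be) (.lf 0x192f))) (.nd (.nd (.lf 0x1193) (.lf 0x171b)) (.nd (.lf 0x13fe) (.lf 0x1c3b))))) (.nd (.nd (.nd (.nd (.lf 0x1045) (.lf 0x50c)) (.nd (.lf 0x275) (.lf 0x18a0))) (.nd (.nd (.lf 0x114e) (.lf 0x6b3)) (.nd (.lf 0x3ae) (.lf 0x1b3d)))) (.nd (.nd (.nd (.lf 0xc9) (.lf 0x15d5)) (.nd (.lf 0x30e) (.lf 0x19c9))) (.nd (.nd (.lf 0x11d8) (.lf 0x1790)) (.nd (.lf 0x45b) (.lf 0xdb3)))))) (.nd (.nd (.nd (.nd (.nd (.lf 0x1025) (.lf 0x4e0)) (.nd (.lf 0x124e) (.lf 0x859))) (.nd (.nd (.lf 0x12d) (.lf 0x1676)) (.nd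 (.lf 0x1383) (.lf 0xac8)))) (.nd (.nd (.nd (.lf 0x10a7) (.lf 0x5a2)) (.nd (.lf 0x12e6) (.lf 0x976))) (.nd (.nd (.lf 0x11b4) (.lf 0x755)) (.nd (.lf 0x42e) (.lf 0x1ce8))))) (.nd (.nd (.nd (.nd (.lf 0x66) (.lf 0x153f)) (.nd (.lf 0x129a) (.lf 0x18ea))) (.nd (.nd (.lf 0x171) (.lf 0x16e5)) (.nd (.lf 0x13d5) (.lf 0x1bbb)))) (.nd (.nd (.nd (.lf 0xea) (.lf 0x60d)) (.nd (.lf 0x1335) (.lf 0x1a16))) (.nd (.nd (.lf 0x200) (.lf 0x7cc)) (.nd (.lf 0x1483) (.lf 0x1ee7)))))))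
def parT_naabbab : Tr := (.nd (.nd (.nd (.nd (.nd (.nd (.lf 0x1015) (.lf 0x4c9)) (.nd (.lf 0x23a) (.lf 0x830))) (.nd (.nd (.lf 0x11c) (.lf 0x659)) (.nd (.lf 0x370) (.lf 0x1a9d)))) (.nd (.nd (.nd (.lf 0x1096) (.lf 0x1587)) (.nd (.lf 0x2d4) (.lf 0x1959))) (.nd (.nd (.lf 0x11a4) (.lf 0x1738)) (.nd (.lf 0x418) (.lf 0x1c89))))) (.nd (.nd (.nd (.nd (.lf 0x1055) (.lf 0x1524)) (.nd (.lf 0x1287) (.lf 0x18c1))) (.nd (.nd (.lf 0x115f) (.lf 0x16ca)) (.nd (.lf 0x13c2) (.lf 0x1b76)))) (.nd (.nd (.nd (.lf 0x10d9) (.lf 0x15f4)) (.nd (.lf 0x322) (.lf 0x19ef))) (.nd (.nd (.lf 0x1eb) (.lf 0x17ad)) (.nd (.lf 0x146d) (.lf 0xe1d)))))) (.nd (.nd (.nd (.nd (.nd (.lf 0x1035) (.lf 0x14f6)) (.nd (.lf 0x1262) (.lf 0x87a))) (.nd (.nd (.lf 0x13d) (.lf 0x695))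 (.nd (.lf 0x1398) (.lf 0x1b08)))) (.nd (.nd (.nd (.lf 0xb9) (.lf 0x15bb)) (.nd (.lf 0x2f9) (.lf 0x99f))) (.nd (.nd (.lf 0x11c6) (.lf 0x774)) (.nd (.lf 0x1442) (.lf 0xd38))))) (.nd (.nd (.nd (.nd (.lf 0x76) (.lf 0x1555)) (.nd (.lf 0x2ac) (.lf 0x911))) (.nd (.nd (.lf 0x182) (.lf 0x16fb)) (.nd (.lf 0x13eb) (.lf 0x1bf5)))) (.nd (.nd (.nd (.lf 0x10fa) (.lf 0x1627)) (.nd (.lf 0x1347) (.lf 0x1a3d))) (.nd (.nd (.lf 0x212) (.lf 0x7ec)) (.nd (.lf 0x1499) (.lf 0)))))))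
def parT_naabbba : Tr := (.nd (.nd (.nd (.nd (.nd (.nd (.lf 0x100d) (.lf 0x14bd)) (.nd (.lf 0x122f) (.lf 0x1820))) (.nd (.nd (.lf 0x1113) (.lf 0x164d)) (.nd (.lf 0x367) (.lf 0x1a83)))) (.nd (.nd (.nd (.lf 0x108e) (.lf 0x57a)) (.nd (.lf 0x2c9) (.lf 0x1942))) (.nd (.nd (.lf 0x119b) (.lf 0x729)) (.nd (.lf 0x140c) (.lf 0xc66))))) (.nd (.nd (.nd (.nd (.lf 0x104d) (.lf 0x1516)) (.nd (.lf 0x27f) (.lf 0x18b3))) (.nd (.nd (.lf 0x157) (.lf 0x6be)) (.nd (.lf 0x3b8) (.lf 0xb58)))) (.nd (.nd (.nd (.lf 0x10d1) (.lf 0x15e4)) (.nd (.lf 0x318) (.lf 0x9df))) (.nd (.nd (.lf 0x11e1) (.lf 0x179d)) (.nd (.lf 0x1464) (.lf 0x1df1)))))) (.nd (.nd (.nd (.nd (.nd (.lf 0x102d) (.lf 0x14ea)) (.nd (.lf 0x259) (.lf 0x1867))) (.nd (.nd (.lf 0x135) (.lf 0x685)) (.nd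 (.lf 0x138e) (.lf 0xae8)))) (.nd (.nd (.nd (.lf 0x10b0) (.lf 0x15ad)) (.nd (.lf 0x2ef) (.lf 0x198c))) (.nd (.nd (.lf 0x11bd) (.lf 0x1764)) (.nd (.lf 0x438) (.lf 0x1d0e))))) (.nd (.nd (.nd (.nd (.lf 0x6e) (.lf 0x1549)) (.nd (.lf 0x2a3) (.lf 0x901))) (.nd (.nd (.lf 0x1179) (.lf 0x6ef)) (.nd (.lf 0x13e0) (.lf 0x1bd6)))) (.nd (.nd (.nd (.lf 0x10f2) (.lf 0x1617)) (.nd (.lf 0x133e) (.lf 0xa2c))) (.nd (.nd (.lf 0x1209) (.lf 0x7dd)) (.nd (.lf 0x148e) (.lf 0)))))))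
def parT_naabbbb : Tr := (.nd (.nd (.nd (.nd (.nd (.nd (.lf 0x101d) (.lf 0x4d4)) (.nd (.lf 0x244) (.lf 0x1844))) (.nd (.nd (.lf 0x124) (.lf 0x665)) (.nd (.lf 0x137a) (.lf 0xab3)))) (.nd (.nd (.nd (.lf 0x109f) (.lf 0x1594)) (.nd (.lf 0x2de) (.lf 0x96b))) (.nd (.nd (.lf 0x11ac) (.lf 0x1743)) (.nd (.lf 0x1423) (.lf 0x1cb4))))) (.nd (.nd (.nd (.nd (.lf 0x5e) (.lf 0x532)) (.nd (.lf 0x290) (.lf 0x8d3))) (.nd (.nd (.lf 0x1167) (.lf 0x16d8)) (.nd (.lf 0x3cd) (.lf 0xb8e)))) (.nd (.nd (.nd (.lf 0x10e1) (.lf 0x5ff)) (.nd (.lf 0x32c) (.lf 0x1a02))) (.nd (.nd (.lf 0x11f6) (.lf 0x7c0)) (.nd (.lf 0x476) (.lf 0x1e5e)))))) (.nd (.nd (.nd (.nd (.nd (.lf 0x103d) (.lf 0x501)) (.nd (.lf 0x26d) (.lf 0x188e))) (.nd (.nd (.lf 0x145) (.lf 0x16a6)) (.nd (.lf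 0x13a1) (.lf 0x1b23)))) (.nd (.nd (.nd (.lf 0xc1) (.lf 0x15c7)) (.nd (.lf 0x1302) (.lf 0x9b2))) (.nd (.nd (.lf 0x11cf) (.lf 0x1780)) (.nd (.lf 0x44f) (.lf 0x1d70))))) (.nd (.nd (.nd (.nd (.lf 0x7e) (.lf 0x561)) (.nd (.lf 0x12b5) (.lf 0x923))) (.nd (.nd (.lf 0x18b) (.lf 0x170b)) (.nd (.lf 0x13f4) (.lf 0x1c22)))) (.nd (.nd (.nd (.lf 0x1103) (.lf 0x636)) (.nd (.lf 0x1352) (.lf 0x1a53))) (.nd (.nd (.lf 0x121a) (.lf 0x17fd)) (.nd (.lf 0x14a5) (.lf 0)))))))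
def parT_nabaaaa : Tr := (.nd (.nd (.nd (.nd (.nd (.nd (.lf 0x1000) (.lf 0x14a9)) (.nd (.lf 0x121d) (.lf 0x1805))) (.nd (.nd (.lf 0x1106) (.lf 0x63b)) (.nd (.lf 0x356) (.lf 0xa5d)))) (.nd (.nd (.nd (.lf 0x81) (.lf 0x566)) (.nd (.lf 0x2b9) (.lf 0x928))) (.nd (.nd (.lf 0x118e) (.lf 0x711)) (.nd (.lf 0x13f7) (.lf 0xc32))))) (.nd (.nd (.nd (.nd (.lf 0x1040) (.lf 0x1505)) (.nd (.lf 0x270) (.lf 0x895))) (.nd (.nd (.lf 0x1148) (.lf 0x6ab)) (.nd (.lf 0x13a5) (.lf 0xb2e)))) (.nd (.nd (.nd (.lf 0xc4) (.lf 0x5cc)) (.nd (.lf 0x308) (.lf 0x9bb))) (.nd (.nd (.lf 0x11d3) (.lf 0x1786)) (.nd (.lf 0x454) (.lf 0xd86)))))) (.nd (.nd (.nd (.nd (.nd (.lf 0x1020) (.lf 0x14d9)) (.nd (.lf 0x1248) (.lf 0x1849))) (.nd (.nd (.lf 0x1127) (.lf 0x66b)) (.nd (.lf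 0x37e) (.lf 0x1abc)))) (.nd (.nd (.nd (.lf 0x10a2) (.lf 0x599)) (.nd (.lf 0x2e1) (.lf 0x196f))) (.nd (.nd (.lf 0x11af) (.lf 0x748)) (.nd (.lf 0x428) (.lf 0xcce))))) (.nd (.nd (.nd (.nd (.lf 0x61) (.lf 0x1537)) (.nd (.lf 0x1293) (.lf 0x8df))) (.nd (.nd (.lf 0x16b) (.lf 0x16dc)) (.nd (.lf 0x3d0) (.lf 0xba6)))) (.nd (.nd (.nd (.lf 0x10e4) (.lf 0x1606)) (.nd (.lf 0x132f) (.lf 0xa09))) (.nd (.nd (.lf 0x1fa) (.lf 0x17c5)) (.nd (.lf 0x47b) (.lf 0x1e93)))))))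
def parT_nabaaab : Tr := (.nd (.nd (.nd (.nd (.nd (.nd (.lf 0x1010) (.lf 0x4c2)) (.nd (.lf 0x1233) (.lf 0x826))) (.nd (.nd (.lf 0x1116) (.lf 0x1651)) (.nd (.lf 0x136a) (.lf 0x1a91)))) (.nd (.nd (.nd (.lf 0x1091) (.lf 0x57f)) (.nd (.lf 0x12ce) (.lf 0x94d))) (.nd (.nd (.lf 0x19f) (.lf 0x172f)) (.nd (.lf 0x140f) (.lf 0x1c70))))) (.nd (.nd (.nd (.nd (.lf 0x1050) (.lf 0x1519)) (.nd (.lf 0x1282) (.lf 0x8b9))) (.nd (.nd (.lf 0x115a) (.lf 0x6c3)) (.nd (.lf 0x13bb) (.lf 0xb66)))) (.nd (.nd (.nd (.lf 0x10d4) (.lf 0x5eb)) (.nd (.lf 0x31b) (.lf 0x9e8))) (.nd (.nd (.lf 0x11e5) (.lf 0x7a2)) (.nd (.lf 0x1467) (.lf 0x1e01)))))) (.nd (.nd (.nd (.nd (.nd (.lf 0x1030) (.lf 0x4ef)) (.nd (.lf 0x125c) (.lf 0x86b))) (.nd (.nd (.lf 0x138) (.lf 0x168b)) (.nd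 (.lf 0x393) (.lf 0xaf3)))) (.nd (.nd (.nd (.lf 0x10b3) (.lf 0x5b4)) (.nd (.lf 0x2f3) (.lf 0x1996))) (.nd (.nd (.lf 0x11c0) (.lf 0x769)) (.nd (.lf 0x43c) (.lf 0x1d23))))) (.nd (.nd (.nd (.nd (.lf 0x71) (.lf 0x154e)) (.nd (.lf 0x2a6) (.lf 0x909))) (.nd (.nd (.lf 0x17d) (.lf 0x6f2)) (.nd (.lf 0x13e3) (.lf 0xbe0)))) (.nd (.nd (.nd (.lf 0x10f5) (.lf 0x61e)) (.nd (.lf 0x1341) (.lf 0xa33))) (.nd (.nd (.lf 0x20d) (.lf 0x7e1)) (.nd (.lf 0x493) (.lf 0)))))))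
def parT_nabaaba : Tr := (.nd (.nd (.nd (.nd (.nd (.nd (.lf 0x1008) (.lf 0x4b6)) (.nd (.lf 0x227) (.lf 0x1819))) (.nd (.nd (.lf 0x110e) (.lf 0x1647)) (.nd (.lf 0x361) (.lf 0xa76)))) (.nd (.nd (.nd (.lf 0x1089) (.lf 0x1570)) (.nd (.lf 0x12c2) (.lf 0x1935))) (.nd (.nd (.lf 0x1196) (.lf 0x1720)) (.nd (.lf 0x405) (.lf 0xc45))))) (.nd (.nd (.nd (.nd (.lf 0x1048) (.lf 0x1510)) (.nd (.lf 0x1278) (.lf 0x8a6))) (.nd (.nd (.lf 0x152) (.lf 0x16b8)) (.nd (.lf 0x13b1) (.lf 0x1b4a)))) (.nd (.nd (.nd (.lf 0xcc) (.lf 0x15da)) (.nd (.lf 0x312) (.lf 0x19d1))) (.nd (.nd (.lf 0x11db) (.lf 0x1796)) (.nd (.lf 0x45e) (.lf 0x1dc9)))))) (.nd (.nd (.nd (.nd (.nd (.lf 0x1028) (.lf 0x14e3)) (.nd (.lf 0x1251) (.lf 0x185e))) (.nd (.nd (.lf 0x130) (.lf 0x167b))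 (.nd (.lf 0x1388) (.lf 0xad5)))) (.nd (.nd (.nd (.lf 0xab) (.lf 0x15a6)) (.nd (.lf 0x2ea) (.lf 0x197f))) (.nd (.nd (.lf 0x1b8) (.lf 0x1758)) (.nd (.lf 0x432) (.lf 0x1cf8))))) (.nd (.nd (.nd (.nd (.lf 0x69) (.lf 0x1543)) (.nd (.lf 0x129d) (.lf 0x18f3))) (.nd (.nd (.lf 0x174) (.lf 0x16e9)) (.nd (.lf 0x3d9) (.lf 0xbc5)))) (.nd (.nd (.nd (.lf 0xed) (.lf 0x611)) (.nd (.lf 0x1339) (.lf 0x1a1e))) (.nd (.nd (.lf 0x1203) (.lf 0x7d2)) (.nd (.lf 0x487) (.lf 0x1f21)))))))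
def parT_nabaabb : Tr := (.nd (.nd (.nd (.nd (.nd (.nd (.lf 0x1018) (.lf 0x14cc)) (.nd (.lf 0x23d) (.lf 0x835))) (.nd (.nd (.lf 0x11f) (.lf 0x165d)) (.nd (.lf 0x1374) (.lf 0xaa5)))) (.nd (.nd (.nd (.lf 0x9a) (.lf 0x58b)) (.nd (.lf 0x12d7) (.lf 0x960))) (.nd (.nd (.lf 0x11a7) (.lf 0x73c)) (.nd (.lf 0x41d) (.lf 0x1c99))))) (.nd (.nd (.nd (.nd (.lf 0x59) (.lf 0x1529)) (.nd (.lf 0x28b) (.lf 0x18ca))) (.nd (.nd (.lf 0x1162) (.lf 0x16d0)) (.nd (.lf 0x3c6) (.lf 0xb81)))) (.nd (.nd (.nd (.lf 0x10dc) (.lf 0x5f9)) (.nd (.lf 0x326) (.lf 0x19f3))) (.nd (.nd (.lf 0x11ee) (.lf 0x17b3)) (.nd (.lf 0x471) (.lf 0x1e2c)))))) (.nd (.nd (.nd (.nd (.nd (.lf 0x1038) (.lf 0x14f9)) (.nd (.lf 0x266) (.lf 0x1884))) (.nd (.nd (.lf 0x140) (.lf 0x1699)) (.nd (.lf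 0x39c) (.lf 0x1b13)))) (.nd (.nd (.nd (.lf 0xbc) (.lf 0x5bf)) (.nd (.lf 0x2fd) (.lf 0x19a7))) (.nd (.nd (.lf 0x11c9) (.lf 0x1779)) (.nd (.lf 0x1446) (.lf 0xd4e))))) (.nd (.nd (.nd (.nd (.lf 0x79) (.lf 0x559)) (.nd (.lf 0x12af) (.lf 0x915))) (.nd (.nd (.lf 0x186) (.lf 0x704)) (.nd (.lf 0x13ee) (.lf 0xc01)))) (.nd (.nd (.nd (.lf 0xfe) (.lf 0x162c)) (.nd (.lf 0x34b) (.lf 0x1a45))) (.nd (.nd (.lf 0x215) (.lf 0x17f3)) (.nd (.lf 0x49d) (.lf 0)))))))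
def parT_nababaa : Tr := (.nd (.nd (.nd (.nd (.nd (.nd (.lf 0x1004) (.lf 0x14b0)) (.nd (.lf 0x223) (.lf 0x180e))) (.nd (.nd (.lf 0x110a) (.lf 0x1642)) (.nd (.lf 0x35b) (.lf 0xa6a)))) (.nd (.nd (.nd (.lf 0x85) (.lf 0x156b)) (.nd (.lf 0x2bd) (.lf 0x192e))) (.nd (.nd (.lf 0x1192) (.lf 0x71a)) (.nd (.lf 0x13fc) (.lf 0xc3a))))) (.nd (.nd (.nd (.nd (.lf 0x1044) (.lf 0x50a)) (.nd (.lf 0x274) (.lf 0x189d))) (.nd (.nd (.lf 0x114d) (.lf 0x16b0)) (.nd (.lf 0x3ad) (.lf 0xb38)))) (.nd (.nd (.nd (.lf 0xc8) (.lf 0x15d3)) (.nd (.lf 0x130c) (.lf 0x19c5))) (.nd (.nd (.lf 0x11d7) (.lf 0x78f)) (.nd (.lf 0x45a) (.lf 0xda8)))))) (.nd (.nd (.nd (.nd (.nd (.lf 0x1024) (.lf 0x4df)) (.nd (.lf 0x124d) (.lf 0x1855))) (.nd (.nd (.lf 0x12c) (.lf 0x675)) (.nd (.lf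 0x382) (.lf 0xac7)))) (.nd (.nd (.nd (.lf 0x10a6) (.lf 0x5a1)) (.nd (.lf 0x12e5) (.lf 0x975))) (.nd (.nd (.lf 0x11b3) (.lf 0x753)) (.nd (.lf 0x42d) (.lf 0xce6))))) (.nd (.nd (.nd (.nd (.lf 0x65) (.lf 0x153d)) (.nd (.lf 0x1299) (.lf 0x18e8))) (.nd (.nd (.lf 0x170) (.lf 0x6e4)) (.nd (.lf 0x3d4) (.lf 0xbb0)))) (.nd (.nd (.nd (.lf 0x10e8) (.lf 0x160b)) (.nd (.lf 0x1334) (.lf 0xa14))) (.nd (.nd (.lf 0x1ff) (.lf 0x17ca)) (.nd (.lf 0x481) (.lf 0x1ed8)))))))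
def parT_nababab : Tr := (.nd (.nd (.nd (.nd (.nd (.nd (.lf 0x1014) (.lf 0x4c8)) (.nd (.lf 0x1238) (.lf 0x82f))) (.nd (.nd (.lf 0x11b) (.lf 0x658)) (.nd (.lf 0x36f) (.lf 0x1a9a)))) (.nd (.nd (.nd (.lf 0x1095) (.lf 0x1586)) (.nd (.lf 0x2d3) (.lf 0x1957))) (.nd (.nd (.lf 0x11a3) (.lf 0x1736)) (.nd (.lf 0x416) (.lf 0x1c83))))) (.nd (.nd (.nd (.nd (.lf 0x1054) (.lf 0x1521)) (.nd (.lf 0x1286) (.lf 0x18c0))) (.nd (.nd (.lf 0x115e) (.lf 0x16c9)) (.nd (.lf 0x13c1) (.lf 0xb73)))) (.nd (.nd (.nd (.lf 0x10d8) (.lf 0x15f3)) (.nd (.lf 0x1320) (.lf 0x19ee))) (.nd (.nd (.lf 0x1ea) (.lf 0x17ac)) (.nd (.lf 0x46c) (.lf 0xe19)))))) (.nd (.nd (.nd (.nd (.nd (.lf 0x1034) (.lf 0x14f5)) (.nd (.lf 0x1261) (.lf 0x1877))) (.nd (.nd (.lf 0x13c) (.lf 0x1692))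 (.nd (.lf 0x397) (.lf 0xb03)))) (.nd (.nd (.nd (.lf 0xb8) (.lf 0x5ba)) (.nd (.lf 0x2f8) (.lf 0x99d))) (.nd (.nd (.lf 0x1c5) (.lf 0x1772)) (.nd (.lf 0x441) (.lf 0xd32))))) (.nd (.nd (.nd (.nd (.lf 0x75) (.lf 0x554)) (.nd (.lf 0x2ab) (.lf 0x910))) (.nd (.nd (.lf 0x181) (.lf 0x16fa)) (.nd (.lf 0x13ea) (.lf 0x1bf2)))) (.nd (.nd (.nd (.lf 0x10f9) (.lf 0x626)) (.nd (.lf 0x1346) (.lf 0xa3b))) (.nd (.nd (.lf 0x211) (.lf 0x17e9)) (.nd (.lf 0x498) (.lf 0)))))))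
def parT_nababba : Tr := (.nd (.nd (.nd (.nd (.nd (.nd (.lf 0x100c) (.lf 0x14bb)) (.nd (.lf 0x122e) (.lf 0x181f))) (.nd (.nd (.lf 0x1112) (.lf 0x164c)) (.nd (.lf 0x365) (.lf 0x1a80)))) (.nd (.nd (.nd (.lf 0x108d) (.lf 0x577)) (.nd (.lf 0x12c7) (.lf 0x940))) (.nd (.nd (.lf 0x119a) (.lf 0x1726)) (.nd (.lf 0x140b) (.lf 0x1c5b))))) (.nd (.nd (.nd (.nd (.lf 0x104c) (.lf 0x515)) (.nd (.lf 0x127d) (.lf 0x8b0))) (.nd (.nd (.lf 0x156) (.lf 0x16bc)) (.nd (.lf 0x3b6) (.lf 0x1b52)))) (.nd (.nd (.nd (.lf 0x10d0) (.lf 0x15e1)) (.nd (.lf 0x317) (.lf 0x9db))) (.nd (.nd (.lf 0x11e0) (.lf 0x79c)) (.nd (.lf 0x1463) (.lf 0x1ddf)))))) (.nd (.nd (.nd (.nd (.nd (.lf 0x102c) (.lf 0x14e8)) (.nd (.lf 0x258) (.lf 0x1866))) (.nd (.nd (.lf 0x134) (.lf 0x684))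 (.nd (.lf 0x138d) (.lf 0xae5)))) (.nd (.nd (.nd (.lf 0x10af) (.lf 0x15ab)) (.nd (.lf 0x2ee) (.lf 0x198a))) (.nd (.nd (.lf 0x1bc) (.lf 0x760)) (.nd (.lf 0x437) (.lf 0x1d0a))))) (.nd (.nd (.nd (.nd (.lf 0x6d) (.lf 0x1548)) (.nd (.lf 0x2a2) (.lf 0x18fb))) (.nd (.nd (.lf 0x1178) (.lf 0x6ee)) (.nd (.lf 0x13df) (.lf 0xbd3)))) (.nd (.nd (.nd (.lf 0x10f1) (.lf 0x1616)) (.nd (.lf 0x133d) (.lf 0xa2a))) (.nd (.nd (.lf 0x208) (.lf 0x17d9)) (.nd (.lf 0x148d) (.lf 0xf8e)))))))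
def parT_nababbb : Tr := (.nd (.nd (.nd (.nd (.nd (.nd (.lf 0x101c) (.lf 0x4d3)) (.nd (.lf 0x243) (.lf 0x1840))) (.nd (.nd (.lf 0x123) (.lf 0x663)) (.nd (.lf 0x379) (.lf 0x1ab1)))) (.nd (.nd (.nd (.lf 0x109e) (.lf 0x593)) (.nd (.lf 0x2dd) (.lf 0x1967))) (.nd (.nd (.lf 0x11ab) (.lf 0x1742)) (.nd (.lf 0x1422) (.lf 0x1caf))))) (.nd (.nd (.nd (.nd (.lf 0x5d) (.lf 0x152f)) (.nd (.lf 0x28f) (.lf 0x18d0))) (.nd (.nd (.lf 0x1166) (.lf 0x16d7)) (.nd (.lf 0x3cb) (.lf 0x1b8b)))) (.nd (.nd (.nd (.lf 0x10e0) (.lf 0x5fe)) (.nd (.lf 0x32b) (.lf 0xa00))) (.nd (.nd (.lf 0x11f4) (.lf 0x7be)) (.nd (.lf 0x475) (.lf 0xe52)))))) (.nd (.nd (.nd (.nd (.nd (.lf 0x103c) (.lf 0x14fe)) (.nd (.lf 0x26c) (.lf 0x188c))) (.nd (.nd (.lf 0x144) (.lf 0x16a3)) (.nd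 (.lf 0x3a0) (.lf 0x1b21)))) (.nd (.nd (.nd (.lf 0xc0) (.lf 0x15c6)) (.nd (.lf 0x1301) (.lf 0x19ae))) (.nd (.nd (.lf 0x11ce) (.lf 0x77e)) (.nd (.lf 0x44e) (.lf 0xd6d))))) (.nd (.nd (.nd (.nd (.lf 0x7d) (.lf 0x560)) (.nd (.lf 0x12b4) (.lf 0x191e))) (.nd (.nd (.lf 0x18a) (.lf 0x170a)) (.nd (.lf 0x3f3) (.lf 0xc16)))) (.nd (.nd (.nd (.lf 0x1102) (.lf 0x635)) (.nd (.lf 0x350) (.lf 0x1a4d))) (.nd (.nd (.lf 0x219) (.lf 0x17fb)) (.nd (.lf 0x4a4) (.lf 0)))))))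
def parT_nabbaaa : Tr := (.nd (.nd (.nd (.nd (.nd (.nd (.lf 0x1002) (.lf 0x14ac)) (.nd (.lf 0x220) (.lf 0x1808))) (.nd (.nd (.lf 0x1108) (.lf 0x63e)) (.nd (.lf 0x1358) (.lf 0xa66)))) (.nd (.nd (.nd (.lf 0x83) (.lf 0x569)) (.nd (.lf 0x2bb) (.lf 0x92c))) (.nd (.nd (.lf 0x1190) (.lf 0x715)) (.nd (.lf 0x13f9) (.lf 0xc37))))) (.nd (.nd (.nd (.nd (.lf 0x1042) (.lf 0x508)) (.nd (.lf 0x272) (.lf 0x1899))) (.nd (.nd (.lf 0x14b) (.lf 0x16ad)) (.nd (.lf 0x3aa) (.lf 0x1b31)))) (.nd (.nd (.nd (.lf 0xc6) (.lf 0x15d0)) (.nd (.lf 0x30a) (.lf 0x19be))) (.nd (.nd (.lf 0x11d5) (.lf 0x78c)) (.nd (.lf 0x1456) (.lf 0x1d92)))))) (.nd (.nd (.nd (.nd (.nd (.lf 0x1022) (.lf 0x4dd)) (.nd (.lf 0x24b) (.lf 0x84f))) (.nd (.nd (.lf 0x1129) (.lf 0x670)) (.nd (.lf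 0x380) (.lf 0x1ac1)))) (.nd (.nd (.nd (.lf 0x10a4) (.lf 0x159d)) (.nd (.lf 0x2e3) (.lf 0x972))) (.nd (.nd (.lf 0x11b1) (.lf 0x174d)) (.nd (.lf 0x42b) (.lf 0x1cda))))) (.nd (.nd (.nd (.nd (.lf 0x63) (.lf 0x153a)) (.nd (.lf 0x1296) (.lf 0x18e2))) (.nd (.nd (.lf 0x16e) (.lf 0x16e0)) (.nd (.lf 0x3d2) (.lf 0xbab)))) (.nd (.nd (.nd (.lf 0x10e6) (.lf 0x1609)) (.nd (.lf 0x1331) (.lf 0xa0d))) (.nd (.nd (.lf 0x1fd) (.lf 0x17c8)) (.nd (.lf 0x147d) (.lf 0xeb6)))))))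
def parT_nabbaab : Tr := (.nd (.nd (.nd (.nd (.nd (.nd (.lf 0x1012) (.lf 0x14c4)) (.nd (.lf 0x1236) (.lf 0x182c))) (.nd (.nd (.lf 0x119) (.lf 0x655)) (.nd (.lf 0x36d) (.lf 0x1a96)))) (.nd (.nd (.nd (.lf 0x1093) (.lf 0x1582)) (.nd (.lf 0x2d1) (.lf 0x1951))) (.nd (.nd (.lf 0x11a1) (.lf 0x1733)) (.nd (.lf 0x1413) (.lf 0x1c76))))) (.nd (.nd (.nd (.nd (.lf 0x1052) (.lf 0x151c)) (.nd (.lf 0x1284) (.lf 0x8bd))) (.nd (.nd (.lf 0x115c) (.lf 0x6c6)) (.nd (.lf 0x3bf) (.lf 0x1b6c)))) (.nd (.nd (.nd (.lf 0x10d6) (.lf 0x5f0)) (.nd (.lf 0x31d) (.lf 0x9ec))) (.nd (.nd (.lf 0x11e7) (.lf 0x17a6)) (.nd (.lf 0x46a) (.lf 0x1e10)))))) (.nd (.nd (.nd (.nd (.nd (.lf 0x1032) (.lf 0x4f1)) (.nd (.lf 0x25f) (.lf 0x872))) (.nd (.nd (.lf 0x13a) (.lf 0x68e)) (.nd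 (.lf 0x395) (.lf 0xafc)))) (.nd (.nd (.nd (.lf 0xb6) (.lf 0x5b6)) (.nd (.lf 0x2f5) (.lf 0x199a))) (.nd (.nd (.lf 0x1c3) (.lf 0x176d)) (.nd (.lf 0x43f) (.lf 0x1d2b))))) (.nd (.nd (.nd (.nd (.lf 0x73) (.lf 0x552)) (.nd (.lf 0x12a8) (.lf 0x90c))) (.nd (.nd (.lf 0x17f) (.lf 0x16f7)) (.nd (.lf 0x13e7) (.lf 0xbe7)))) (.nd (.nd (.nd (.lf 0x10f7) (.lf 0x622)) (.nd (.lf 0x1344) (.lf 0x1a35))) (.nd (.nd (.lf 0x20f) (.lf 0x7e5)) (.nd (.lf 0x496) (.lf 0)))))))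
def parT_nabbaba : Tr := (.nd (.nd (.nd (.nd (.nd (.nd (.lf 0x100a) (.lf 0x4b9)) (.nd (.lf 0x122a) (.lf 0x181c))) (.nd (.nd (.lf 0x1110) (.lf 0x64a)) (.nd (.lf 0x363) (.lf 0xa7a)))) (.nd (.nd (.nd (.lf 0x108b) (.lf 0x574)) (.nd (.lf 0x2c5) (.lf 0x193b))) (.nd (.nd (.lf 0x1198) (.lf 0x724)) (.nd (.lf 0x408) (.lf 0x1c4c))))) (.nd (.nd (.nd (.nd (.lf 0x104a) (.lf 0x513)) (.nd (.lf 0x127b) (.lf 0x8ab))) (.nd (.nd (.lf 0x154) (.lf 0x16ba)) (.nd (.lf 0x13b3) (.lf 0x1b50)))) (.nd (.nd (.nd (.lf 0xce) (.lf 0x15dc)) (.nd (.lf 0x1314) (.lf 0x9d7))) (.nd (.nd (.lf 0x11de) (.lf 0x1798)) (.nd (.lf 0x1460) (.lf 0x1dd1)))))) (.nd (.nd (.nd (.nd (.nd (.lf 0x102a) (.lf 0x14e5)) (.nd (.lf 0x1254) (.lf 0x861))) (.nd (.nd (.lf 0x132) (.lf 0x1680)) (.nd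 (.lf 0x138a) (.lf 0xade)))) (.nd (.nd (.nd (.lf 0xad) (.lf 0x5a9)) (.nd (.lf 0x2ec) (.lf 0x983))) (.nd (.nd (.lf 0x1ba) (.lf 0x75d)) (.nd (.lf 0x434) (.lf 0xd02))))) (.nd (.nd (.nd (.nd (.lf 0x6b) (.lf 0x546)) (.nd (.lf 0x2a0) (.lf 0x8f9))) (.nd (.nd (.lf 0x176) (.lf 0x16eb)) (.nd (.lf 0x3dd) (.lf 0xbce)))) (.nd (.nd (.nd (.lf 0x10ef) (.lf 0x614)) (.nd (.lf 0x133b) (.lf 0xa24))) (.nd (.nd (.lf 0x1205) (.lf 0x17d5)) (.nd (.lf 0x48a) (.lf 0xf3d)))))))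
def parT_nabbabb : Tr := (.nd (.nd (.nd (.nd (.nd (.nd (.lf 0x101a) (.lf 0x4d1)) (.nd (.lf 0x1240) (.lf 0x183b))) (.nd (.nd (.lf 0x121) (.lf 0x660)) (.nd (.lf 0x1376) (.lf 0xaac)))) (.nd (.nd (.nd (.lf 0x109c) (.lf 0x158e)) (.nd (.lf 0x2db) (.lf 0x1964))) (.nd (.nd (.lf 0x11a9) (.lf 0x740)) (.nd (.lf 0x41f) (.lf 0x1ca2))))) (.nd (.nd (.nd (.nd (.lf 0x5b) (.lf 0x52d)) (.nd (.lf 0x28d) (.lf 0x18ce))) (.nd (.nd (.lf 0x1164) (.lf 0x16d4)) (.nd (.lf 0x13c8) (.lf 0xb88)))) (.nd (.nd (.nd (.lf 0x10de) (.lf 0x15fb)) (.nd (.lf 0x329) (.lf 0x9f9))) (.nd (.nd (.lf 0x11f2) (.lf 0x7b9)) (.nd (.lf 0x473) (.lf 0x1e3e)))))) (.nd (.nd (.nd (.nd (.nd (.lf 0x103a) (.lf 0x4fc)) (.nd (.lf 0x1269) (.lf 0x188a))) (.nd (.nd (.lf 0x142) (.lf 0x169d)) (.nd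 (.lf 0x39e) (.lf 0xb16)))) (.nd (.nd (.nd (.lf 0xbe) (.lf 0x15c2)) (.nd (.lf 0x12ff) (.lf 0x9aa))) (.nd (.nd (.lf 0x1cc) (.lf 0x177b)) (.nd (.lf 0x44a) (.lf 0xd59))))) (.nd (.nd (.nd (.nd (.lf 0x7b) (.lf 0x155b)) (.nd (.lf 0x12b2) (.lf 0x191b))) (.nd (.nd (.lf 0x188) (.lf 0x1707)) (.nd (.lf 0x3f1) (.lf 0x1c0c)))) (.nd (.nd (.nd (.lf 0x100) (.lf 0x1631)) (.nd (.lf 0x34d) (.lf 0x1a49))) (.nd (.nd (.lf 0x217) (.lf 0x7f6)) (.nd (.lf 0x14a0) (.lf 0)))))))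
def parT_nabbbaa : Tr := (.nd (.nd (.nd (.nd (.nd (.nd (.lf 0x1006) (.lf 0x14b3)) (.nd (.lf 0x225) (.lf 0x813))) (.nd (.nd (.lf 0x110c) (.lf 0x1644)) (.nd (.lf 0x135d) (.lf 0xa6e)))) (.nd (.nd (.nd (.lf 0x1087) (.lf 0x156e)) (.nd (.lf 0x12c0) (.lf 0x931))) (.nd (.nd (.lf 0x1194) (.lf 0x71d)) (.nd (.lf 0x1400) (.lf 0xc3f))))) (.nd (.nd (.nd (.nd (.lf 0x1046) (.lf 0x150d)) (.nd (.lf 0x1276) (.lf 0x8a2))) (.nd (.nd (.lf 0x114f) (.lf 0x6b6)) (.nd (.lf 0x13af) (.lf 0xb3f)))) (.nd (.nd (.nd (.lf 0xca) (.lf 0x15d6)) (.nd (.lf 0x30f) (.lf 0x19ce))) (.nd (.nd (.lf 0x11d9) (.lf 0x1792)) (.nd (.lf 0x45c) (.lf 0x1db5)))))) (.nd (.nd (.nd (.nd (.nd (.lf 0x1026) (.lf 0x4e1)) (.nd (.lf 0x124f) (.lf 0x85a))) (.nd (.nd (.lf 0x12e) (.lf 0x679)) (.nd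 (.lf 0x1386) (.lf 0x1acb)))) (.nd (.nd (.nd (.lf 0x10a8) (.lf 0x15a3)) (.nd (.lf 0x12e7) (.lf 0x1978))) (.nd (.nd (.lf 0x11b5) (.lf 0x1756)) (.nd (.lf 0x142f) (.lf 0x1ced))))) (.nd (.nd (.nd (.nd (.lf 0x67) (.lf 0x1541)) (.nd (.lf 0x129b) (.lf 0x18ee))) (.nd (.nd (.lf 0x172) (.lf 0x16e7)) (.nd (.lf 0x3d7) (.lf 0x1bbd)))) (.nd (.nd (.nd (.lf 0xeb) (.lf 0x160e)) (.nd (.lf 0x337) (.lf 0x1a17))) (.nd (.nd (.lf 0x201) (.lf 0x7cd)) (.nd (.lf 0x1484) (.lf 0x1f00)))))))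
def parT_nabbbab : Tr := (.nd (.nd (.nd (.nd (.nd (.nd (.lf 0x1016) (.lf 0x14ca)) (.nd (.lf 0x23b) (.lf 0x1831))) (.nd (.nd (.lf 0x11d) (.lf 0x165b)) (.nd (.lf 0x372) (.lf 0x1aa1)))) (.nd (.nd (.nd (.lf 0x1097) (.lf 0x1588)) (.nd (.lf 0x2d5) (.lf 0x195c))) (.nd (.nd (.lf 0x11a5) (.lf 0x1739)) (.nd (.lf 0x419) (.lf 0xc92))))) (.nd (.nd (.nd (.nd (.lf 0x1056) (.lf 0x527)) (.nd (.lf 0x289) (.lf 0x8c5))) (.nd (.nd (.lf 0x1160) (.lf 0x6cc)) (.nd (.lf 0x13c3) (.lf 0xb78)))) (.nd (.nd (.nd (.lf 0x10da) (.lf 0x5f6)) (.nd (.lf 0x323) (.lf 0x9f1))) (.nd (.nd (.lf 0x11ec) (.lf 0x7b1)) (.nd (.lf 0x46f) (.lf 0xe21)))))) (.nd (.nd (.nd (.nd (.nd (.lf 0x1036) (.lf 0x14f7)) (.nd (.lf 0x264) (.lf 0x87d))) (.nd (.nd (.lf 0x13e) (.lf 0x697)) (.nd (.lf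 0x1399) (.lf 0xb0b)))) (.nd (.nd (.nd (.lf 0xba) (.lf 0x15bc)) (.nd (.lf 0x2fa) (.lf 0x19a1))) (.nd (.nd (.lf 0x11c7) (.lf 0x777)) (.nd (.lf 0x444) (.lf 0x1d41))))) (.nd (.nd (.nd (.nd (.lf 0x77) (.lf 0x1556)) (.nd (.lf 0x12ad) (.lf 0x912))) (.nd (.nd (.lf 0x1183) (.lf 0x6ff)) (.nd (.lf 0x13ec) (.lf 0xbfa)))) (.nd (.nd (.nd (.lf 0x10fb) (.lf 0x162a)) (.nd (.lf 0x1348) (.lf 0x1a3e))) (.nd (.nd (.lf 0x213) (.lf 0x17ee)) (.nd (.lf 0x149a) (.lf 0)))))))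
def parT_nabbbba : Tr := (.nd (.nd (.nd (.nd (.nd (.nd (.lf 0x100e) (.lf 0x4bf)) (.nd (.lf 0x1230) (.lf 0x1821))) (.nd (.nd (.lf 0x1114) (.lf 0x164e)) (.nd (.lf 0x368) (.lf 0x1a86)))) (.nd (.nd (.nd (.lf 0x108f) (.lf 0x157b)) (.nd (.lf 0x2cb) (.lf 0x947))) (.nd (.nd (.lf 0x119c) (.lf 0x72b)) (.nd (.lf 0x140d) (.lf 0x1c6a))))) (.nd (.nd (.nd (.nd (.lf 0x104e) (.lf 0x1517)) (.nd (.lf 0x280) (.lf 0x18b5))) (.nd (.nd (.lf 0x1158) (.lf 0x6c0)) (.nd (.lf 0x3b9) (.lf 0x1b5c)))) (.nd (.nd (.nd (.lf 0x10d2) (.lf 0x15e6)) (.nd (.lf 0x319) (.lf 0x9e3))) (.nd (.nd (.lf 0x11e3) (.lf 0x179f)) (.nd (.lf 0x1465) (.lf 0xdf7)))))) (.nd (.nd (.nd (.nd (.nd (.lf 0x102e) (.lf 0x4ec)) (.nd (.lf 0x125a) (.lf 0x869))) (.nd (.nd (.lf 0x136) (.lf 0x1686))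 (.nd (.lf 0x390) (.lf 0x1aea)))) (.nd (.nd (.nd (.lf 0x10b1) (.lf 0x5b0)) (.nd (.lf 0x12f0) (.lf 0x994))) (.nd (.nd (.lf 0x11be) (.lf 0x767)) (.nd (.lf 0x43a) (.lf 0x1d12))))) (.nd (.nd (.nd (.nd (.lf 0x6f) (.lf 0x54c)) (.nd (.lf 0x2a4) (.lf 0x1904))) (.nd (.nd (.lf 0x117a) (.lf 0x6f0)) (.nd (.lf 0x13e1) (.lf 0x1bd8)))) (.nd (.nd (.nd (.lf 0x10f3) (.lf 0x1619)) (.nd (.lf 0x133f) (.lf 0xa2e))) (.nd (.nd (.lf 0x120a) (.lf 0x7de)) (.nd (.lf 0x148f) (.lf 0)))))))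
def parT_nabbbbb : Tr := (.nd (.nd (.nd (.nd (.nd (.nd (.lf 0x101e) (.lf 0x4d6)) (.nd (.lf 0x245) (.lf 0x846))) (.nd (.nd (.lf 0x125) (.lf 0x667)) (.nd (.lf 0x137b) (.lf 0xab7)))) (.nd (.nd (.nd (.lf 0x10a0) (.lf 0x596)) (.nd (.lf 0x2df) (.lf 0x96d))) (.nd (.nd (.lf 0x11ad) (.lf 0x745)) (.nd (.lf 0x425) (.lf 0x1cbf))))) (.nd (.nd (.nd (.nd (.lf 0x5f) (.lf 0x1533)) (.nd (.lf 0x1291) (.lf 0x18d6))) (.nd (.nd (.lf 0x169) (.lf 0x6da)) (.nd (.lf 0x3ce) (.lf 0x1b90)))) (.nd (.nd (.nd (.lf 0x10e2) (.lf 0x604)) (.nd (.lf 0x32d) (.lf 0x1a03))) (.nd (.nd (.lf 0x11f7) (.lf 0x7c1)) (.nd (.lf 0x477) (.lf 0xe83)))))) (.nd (.nd (.nd (.nd (.nd (.lf 0x103e) (.lf 0x1502)) (.nd (.lf 0x26e) (.lf 0x891))) (.nd (.nd (.lf 0x146) (.lf 0x16a7)) (.nd (.lf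 0x13a2) (.lf 0xb25)))) (.nd (.nd (.nd (.lf 0xc2) (.lf 0x5ca)) (.nd (.lf 0x304) (.lf 0x19b5))) (.nd (.nd (.lf 0x1d1) (.lf 0x1781)) (.nd (.lf 0x451) (.lf 0xd73))))) (.nd (.nd (.nd (.nd (.lf 0x7f) (.lf 0x563)) (.nd (.lf 0x2b7) (.lf 0x925))) (.nd (.nd (.lf 0x118c) (.lf 0x170c)) (.nd (.lf 0x13f5) (.lf 0x1c24)))) (.nd (.nd (.nd (.lf 0x1104) (.lf 0x638)) (.nd (.lf 0x1353) (.lf 0xa58))) (.nd (.nd (.lf 0x121b) (.lf 0x7ff)) (.nd (.lf 0x14a6) (.lf 0)))))))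
def parT_nbaaaaa : Tr := (.nd (.nd (.nd (.nd (.nd (.nd (.lf 0x0) (.lf 0x14a8)) (.nd (.lf 0x21d) (.lf 0x1804))) (.nd (.nd (.lf 0x106) (.lf 0x163a)) (.nd (.lf 0x355) (.lf 0xa5c)))) (.nd (.nd (.nd (.lf 0x1080) (.lf 0x565)) (.nd (.lf 0x12b8) (.lf 0x927))) (.nd (.nd (.lf 0x18e) (.lf 0x70f)) (.nd (.lf 0x3f7) (.lf 0xc2f))))) (.nd (.nd (.nd (.nd (.lf 0x40) (.lf 0x505)) (.nd (.lf 0x126f) (.lf 0x1894))) (.nd (.nd (.lf 0x148) (.lf 0x6aa)) (.nd (.lf 0x3a5) (.lf 0x1b29)))) (.nd (.nd (.nd (.lf 0x10c3) (.lf 0x15cb)) (.nd (.lf 0x307) (.lf 0x19ba))) (.nd (.nd (.lf 0x1d3) (.lf 0x1785)) (.nd (.lf 0x1453) (.lf 0x1d80)))))) (.nd (.nd (.nd (.nd (.nd (.lf 0x20) (.lf 0x14d8)) (.nd (.lf 0x1247) (.lf 0x1848))) (.nd (.nd (.lf 0x127) (.lf 0x1669)) (.nd (.lf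 0x137d) (.lf 0xabc)))) (.nd (.nd (.nd (.lf 0xa2) (.lf 0x598)) (.nd (.lf 0x12e0) (.lf 0x96f))) (.nd (.nd (.lf 0x1af) (.lf 0x1747)) (.nd (.lf 0x1426) (.lf 0x1cc9))))) (.nd (.nd (.nd (.nd (.lf 0x1060) (.lf 0x537)) (.nd (.lf 0x293) (.lf 0x8db))) (.nd (.nd (.lf 0x116a) (.lf 0x6dc)) (.nd (.lf 0x13cf) (.lf 0x1ba1)))) (.nd (.nd (.nd (.lf 0xe4) (.lf 0x606)) (.nd (.lf 0x32f) (.lf 0xa06))) (.nd (.nd (.lf 0x1f9) (.lf 0x7c5)) (.nd (.lf 0x147a) (.lf 0xe8a)))))))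
def parT_nbaaaab : Tr := (.nd (.nd (.nd (.nd (.nd (.nd (.lf 0x10) (.lf 0x14c1)) (.nd (.lf 0x233) (.lf 0x1825))) (.nd (.nd (.lf 0x116) (.lf 0x651)) (.nd (.lf 0x36a) (.lf 0x1a8f)))) (.nd (.nd (.nd (.lf 0x91) (.lf 0x57e)) (.nd (.lf 0x2ce) (.lf 0x94b))) (.nd (.nd (.lf 0x19e) (.lf 0x172e)) (.nd (.lf 0x40f) (.lf 0x1c6d))))) (.nd (.nd (.nd (.nd (.lf 0x50) (.lf 0x519)) (.nd (.lf 0x282) (.lf 0x18b8))) (.nd (.nd (.lf 0x15a) (.lf 0x6c2)) (.nd (.lf 0x3bb) (.lf 0x1b64)))) (.nd (.nd (.nd (.lf 0xd4) (.lf 0x5ea)) (.nd (.lf 0x131a) (.lf 0x9e7))) (.nd (.nd (.lf 0x1e5) (.lf 0x17a1)) (.nd (.lf 0x467) (.lf 0x1dff)))))) (.nd (.nd (.nd (.nd (.nd (.lf 0x30) (.lf 0x4ee)) (.nd (.lf 0x25c) (.lf 0x186a))) (.nd (.nd (.lf 0x1137) (.lf 0x68b)) (.nd (.lf 0x1392)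 (.lf 0xaf2)))) (.nd (.nd (.nd (.lf 0xb3) (.lf 0x15b3)) (.nd (.lf 0x12f2) (.lf 0x996))) (.nd (.nd (.lf 0x1c0) (.lf 0x1768)) (.nd (.lf 0x143b) (.lf 0x1d1c))))) (.nd (.nd (.nd (.nd (.lf 0x1070) (.lf 0x54e)) (.nd (.lf 0x12a5) (.lf 0x907))) (.nd (.nd (.lf 0x117c) (.lf 0x16f1)) (.nd (.lf 0x3e3) (.lf 0xbdd)))) (.nd (.nd (.nd (.lf 0xf5) (.lf 0x161d)) (.nd (.lf 0x341) (.lf 0xa31))) (.nd (.nd (.lf 0x120c) (.lf 0x7e0)) (.nd (.lf 0x492) (.lf 0)))))))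
def parT_nbaaaba : Tr := (.nd (.nd (.nd (.nd (.nd (.nd (.lf 0x8) (.lf 0x14b5)) (.nd (.lf 0x1226) (.lf 0x819))) (.nd (.nd (.lf 0x10e) (.lf 0x647)) (.nd (.lf 0x360) (.lf 0xa72)))) (.nd (.nd (.nd (.lf 0x89) (.lf 0x570)) (.nd (.lf 0x2c2) (.lf 0x1934))) (.nd (.nd (.lf 0x196) (.lf 0x720)) (.nd (.lf 0x403) (.lf 0x1c41))))) (.nd (.nd (.nd (.nd (.lf 0x48) (.lf 0x510)) (.nd (.lf 0x278) (.lf 0x8a5))) (.nd (.nd (.lf 0x1151) (.lf 0x6b8)) (.nd (.lf 0x3b1) (.lf 0xb49)))) (.nd (.nd (.nd (.lf 0x10cb) (.lf 0x15d9)) (.nd (.lf 0x311) (.lf 0x19d0))) (.nd (.nd (.lf 0x1db) (.lf 0x795)) (.nd (.lf 0x145d) (.lf 0x1dc8)))))) (.nd (.nd (.nd (.nd (.nd (.lf 0x28) (.lf 0x14e2)) (.nd (.lf 0x251) (.lf 0x85d))) (.nd (.nd (.lf 0x112f) (.lf 0x67b)) (.nd (.lf 0x388)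 (.lf 0xad3)))) (.nd (.nd (.nd (.lf 0x10aa) (.lf 0x15a5)) (.nd (.lf 0x12e9) (.lf 0x197e))) (.nd (.nd (.lf 0x11b7) (.lf 0x758)) (.nd (.lf 0x1431) (.lf 0x1cf5))))) (.nd (.nd (.nd (.nd (.lf 0x1068) (.lf 0x543)) (.nd (.lf 0x29d) (.lf 0x8f3))) (.nd (.nd (.lf 0x1173) (.lf 0x6e9)) (.nd (.lf 0x13d8) (.lf 0x1bc0)))) (.nd (.nd (.nd (.lf 0x10ec) (.lf 0x610)) (.nd (.lf 0x339) (.lf 0xa1d))) (.nd (.nd (.lf 0x203) (.lf 0x17d0)) (.nd (.lf 0x1486) (.lf 0xf1c)))))))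
def parT_nbaaabb : Tr := (.nd (.nd (.nd (.nd (.nd (.nd (.lf 0x18) (.lf 0x4cc)) (.nd (.lf 0x123c) (.lf 0x1834))) (.nd (.nd (.lf 0x111e) (.lf 0x65d)) (.nd (.lf 0x1373) (.lf 0x1aa4)))) (.nd (.nd (.nd (.lf 0x99) (.lf 0x58a)) (.nd (.lf 0x2d7) (.lf 0x195f))) (.nd (.nd (.lf 0x1a7) (.lf 0x173b)) (.nd (.lf 0x141c) (.lf 0xc98))))) (.nd (.nd (.nd (.nd (.lf 0x1058) (.lf 0x529)) (.nd (.lf 0x128a) (.lf 0x18c9))) (.nd (.nd (.lf 0x162) (.lf 0x6cf)) (.nd (.lf 0x13c5) (.lf 0xb7f)))) (.nd (.nd (.nd (.lf 0xdc) (.lf 0x15f8)) (.nd (.lf 0x1325) (.lf 0x9f3))) (.nd (.nd (.lf 0x1ee) (.lf 0x7b3)) (.nd (.lf 0x1470) (.lf 0x1e25)))))) (.nd (.nd (.nd (.nd (.nd (.lf 0x38) (.lf 0x4f9)) (.nd (.lf 0x1265) (.lf 0x882))) (.nd (.nd (.lf 0x113f) (.lf 0x699)) (.nd (.lf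 0x39b) (.lf 0x1b12)))) (.nd (.nd (.nd (.lf 0x10bb) (.lf 0x15be)) (.nd (.lf 0x2fc) (.lf 0x19a6))) (.nd (.nd (.lf 0x1c9) (.lf 0x1778)) (.nd (.lf 0x446) (.lf 0x1d4c))))) (.nd (.nd (.nd (.nd (.lf 0x1078) (.lf 0x1558)) (.nd (.lf 0x2af) (.lf 0x1914))) (.nd (.nd (.lf 0x1185) (.lf 0x703)) (.nd (.lf 0x3ee) (.lf 0x1bfe)))) (.nd (.nd (.nd (.lf 0x10fd) (.lf 0x62c)) (.nd (.lf 0x134a) (.lf 0x1a44))) (.nd (.nd (.lf 0x1214) (.lf 0x17f2)) (.nd (.lf 0x149c) (.lf 0)))))))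
def parT_nbaabaa : Tr := (.nd (.nd (.nd (.nd (.nd (.nd (.lf 0x4) (.lf 0x14af)) (.nd (.lf 0x1222) (.lf 0x80e))) (.nd (.nd (.lf 0x10a) (.lf 0x642)) (.nd (.lf 0x135a) (.lf 0x1a68)))) (.nd (.nd (.nd (.lf 0x1084) (.lf 0x156a)) (.nd (.lf 0x12bc) (.lf 0x92e))) (.nd (.nd (.lf 0x192) (.lf 0x1717)) (.nd (.lf 0x13fb) (.lf 0xc39))))) (.nd (.nd (.nd (.nd (.lf 0x44) (.lf 0x1509)) (.nd (.lf 0x1273) (.lf 0x189c))) (.nd (.nd (.lf 0x14d) (.lf 0x6b0)) (.nd (.lf 0x13ac) (.lf 0xb36)))) (.nd (.nd (.nd (.lf 0x10c7) (.lf 0x5d3)) (.nd (.lf 0x30c) (.lf 0x19c4))) (.nd (.nd (.lf 0x1d7) (.lf 0x178d)) (.nd (.lf 0x1458) (.lf 0xda6)))))) (.nd (.nd (.nd (.nd (.nd (.lf 0x24) (.lf 0x14de)) (.nd (.lf 0x24d) (.lf 0x854))) (.nd (.nd (.lf 0x12b) (.lf 0x674)) (.nd (.lf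 0x1381) (.lf 0x1ac5)))) (.nd (.nd (.nd (.lf 0xa6) (.lf 0x15a0)) (.nd (.lf 0x2e5) (.lf 0x1974))) (.nd (.nd (.lf 0x1b3) (.lf 0x752)) (.nd (.lf 0x142c) (.lf 0xce2))))) (.nd (.nd (.nd (.nd (.lf 0x1064) (.lf 0x153c)) (.nd (.lf 0x299) (.lf 0x18e7))) (.nd (.nd (.lf 0x116f) (.lf 0x16e3)) (.nd (.lf 0x13d3) (.lf 0xbaf)))) (.nd (.nd (.nd (.lf 0xe8) (.lf 0x60b)) (.nd (.lf 0x334) (.lf 0x1a12))) (.nd (.nd (.lf 0x11fe) (.lf 0x7ca)) (.nd (.lf 0x480) (.lf 0x1ed3)))))))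
def parT_nbaabab : Tr := (.nd (.nd (.nd (.nd (.nd (.nd (.lf 0x14) (.lf 0x14c7)) (.nd (.lf 0x238) (.lf 0x182e))) (.nd (.nd (.lf 0x111a) (.lf 0x1657)) (.nd (.lf 0x136e) (.lf 0xa98)))) (.nd (.nd (.nd (.lf 0x95) (.lf 0x1585)) (.nd (.lf 0x12d2) (.lf 0x957))) (.nd (.nd (.lf 0x1a3) (.lf 0x1735)) (.nd (.lf 0x1415) (.lf 0xc80))))) (.nd (.nd (.nd (.nd (.lf 0x54) (.lf 0x1520)) (.nd (.lf 0x286) (.lf 0x18bf))) (.nd (.nd (.lf 0x15e) (.lf 0x6c9)) (.nd (.lf 0x3c1) (.lf 0xb72)))) (.nd (.nd (.nd (.lf 0xd8) (.lf 0x5f3)) (.nd (.lf 0x320) (.lf 0x9ee))) (.nd (.nd (.lf 0x11e9) (.lf 0x7a8)) (.nd (.lf 0x146b) (.lf 0x1e16)))))) (.nd (.nd (.nd (.nd (.nd (.lf 0x34) (.lf 0x14f4)) (.nd (.lf 0x261) (.lf 0x1876))) (.nd (.nd (.lf 0x113b) (.lf 0x1691)) (.nd (.lf 0x1396)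 (.lf 0x1aff)))) (.nd (.nd (.nd (.lf 0x10b7) (.lf 0x15b9)) (.nd (.lf 0x12f7) (.lf 0x199c))) (.nd (.nd (.lf 0x11c4) (.lf 0x1771)) (.nd (.lf 0x1440) (.lf 0xd31))))) (.nd (.nd (.nd (.nd (.lf 0x1074) (.lf 0x1553)) (.nd (.lf 0x12aa) (.lf 0x190f))) (.nd (.nd (.lf 0x1180) (.lf 0x6fa)) (.nd (.lf 0x13e9) (.lf 0x1bee)))) (.nd (.nd (.nd (.lf 0xf9) (.lf 0x1625)) (.nd (.lf 0x346) (.lf 0x1a39))) (.nd (.nd (.lf 0x1210) (.lf 0x7e7)) (.nd (.lf 0x1497) (.lf 0)))))))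
def parT_nbaabba : Tr := (.nd (.nd (.nd (.nd (.nd (.nd (.lf 0xc) (.lf 0x14ba)) (.nd (.lf 0x22d) (.lf 0x81f))) (.nd (.nd (.lf 0x112) (.lf 0x164b)) (.nd (.lf 0x1364) (.lf 0x1a7f)))) (.nd (.nd (.nd (.lf 0x8d) (.lf 0x1576)) (.nd (.lf 0x12c6) (.lf 0x193f))) (.nd (.nd (.lf 0x19a) (.lf 0x726)) (.nd (.lf 0x40b) (.lf 0xc54))))) (.nd (.nd (.nd (.nd (.lf 0x4c) (.lf 0x1514)) (.nd (.lf 0x27d) (.lf 0x18ad))) (.nd (.nd (.lf 0x1155) (.lf 0x6bc)) (.nd (.lf 0x3b5) (.lf 0xb52)))) (.nd (.nd (.nd (.lf 0x10cf) (.lf 0x5e1)) (.nd (.lf 0x1316) (.lf 0x19da))) (.nd (.nd (.lf 0x1e0) (.lf 0x79b)) (.nd (.lf 0x1462) (.lf 0x1ddd)))))) (.nd (.nd (.nd (.nd (.nd (.lf 0x2c) (.lf 0x14e7)) (.nd (.lf 0x257) (.lf 0x866))) (.nd (.nd (.lf 0x1133) (.lf 0x1683)) (.nd (.lf 0x38c)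 (.lf 0x1ae3)))) (.nd (.nd (.nd (.lf 0xaf) (.lf 0x5ab)) (.nd (.lf 0x12ed) (.lf 0x1986))) (.nd (.nd (.lf 0x11bb) (.lf 0x175f)) (.nd (.lf 0x1436) (.lf 0xd06))))) (.nd (.nd (.nd (.nd (.lf 0x106c) (.lf 0x548)) (.nd (.lf 0x12a1) (.lf 0x18fa))) (.nd (.nd (.lf 0x1177) (.lf 0x6ed)) (.nd (.lf 0x13de) (.lf 0x1bd0)))) (.nd (.nd (.nd (.lf 0xf1) (.lf 0x616)) (.nd (.lf 0x33d) (.lf 0x1a28))) (.nd (.nd (.lf 0x1207) (.lf 0x7d9)) (.nd (.lf 0x48d) (.lf 0xf48)))))))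
def parT_nbaabbb : Tr := (.nd (.nd (.nd (.nd (.nd (.nd (.lf 0x1c) (.lf 0x14d2)) (.nd (.lf 0x242) (.lf 0x83e))) (.nd (.nd (.lf 0x1122) (.lf 0x1662)) (.nd (.lf 0x1378) (.lf 0xab0)))) (.nd (.nd (.nd (.lf 0x9e) (.lf 0x592)) (.nd (.lf 0x12dc) (.lf 0x1966))) (.nd (.nd (.lf 0x1ab) (.lf 0x742)) (.nd (.lf 0x422) (.lf 0xca8))))) (.nd (.nd (.nd (.nd (.lf 0x105c) (.lf 0x52f)) (.nd (.lf 0x128e) (.lf 0x8d0))) (.nd (.nd (.lf 0x166) (.lf 0x6d6)) (.nd (.lf 0x13ca) (.lf 0xb8b)))) (.nd (.nd (.nd (.lf 0xe0) (.lf 0x15fd)) (.nd (.lf 0x132a) (.lf 0x9ff))) (.nd (.nd (.lf 0x1f4) (.lf 0x17bc)) (.nd (.lf 0x1474) (.lf 0xe4f)))))) (.nd (.nd (.nd (.nd (.nd (.lf 0x3c) (.lf 0x4fe)) (.nd (.lf 0x26b) (.lf 0x88c))) (.nd (.nd (.lf 0x1143) (.lf 0x16a1)) (.nd (.lf 0x139f)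 (.lf 0x1b1d)))) (.nd (.nd (.nd (.lf 0x10bf) (.lf 0x5c6)) (.nd (.lf 0x301) (.lf 0x19ad))) (.nd (.nd (.lf 0x11cd) (.lf 0x177d)) (.nd (.lf 0x144d) (.lf 0xd66))))) (.nd (.nd (.nd (.nd (.lf 0x107c) (.lf 0x155f)) (.nd (.lf 0x2b4) (.lf 0x91e))) (.nd (.nd (.lf 0x1189) (.lf 0x70a)) (.nd (.lf 0x13f2) (.lf 0x1c15)))) (.nd (.nd (.nd (.lf 0x102) (.lf 0x634)) (.nd (.lf 0x34f) (.lf 0xa4d))) (.nd (.nd (.lf 0x1218) (.lf 0x17fa)) (.nd (.lf 0x14a3) (.lf 0)))))))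
def parT_nbabaaa : Tr := (.nd (.nd (.nd (.nd (.nd (.nd (.lf 0x2) (.lf 0x4ac)) (.nd (.lf 0x121f) (.lf 0x1807))) (.nd (.nd (.lf 0x108) (.lf 0x63d)) (.nd (.lf 0x358) (.lf 0x1a63)))) (.nd (.nd (.nd (.lf 0x1082) (.lf 0x568)) (.nd (.lf 0x12ba) (.lf 0x1929))) (.nd (.nd (.lf 0x190) (.lf 0x1714)) (.nd (.lf 0x3f9) (.lf 0x1c35))))) (.nd (.nd (.nd (.nd (.lf 0x42) (.lf 0x1507)) (.nd (.lf 0x1271) (.lf 0x899))) (.nd (.nd (.lf 0x14a) (.lf 0x6ad)) (.nd (.lf 0x13a9) (.lf 0xb30)))) (.nd (.nd (.nd (.lf 0x10c5) (.lf 0x15cf)) (.nd (.lf 0x1309) (.lf 0x9bd))) (.nd (.nd (.lf 0x1d5) (.lf 0x78a)) (.nd (.lf 0x456) (.lf 0x1d91)))))) (.nd (.nd (.nd (.nd (.nd (.lf 0x22) (.lf 0x14dc)) (.nd (.lf 0x124a) (.lf 0x184d))) (.nd (.nd (.lf 0x129) (.lf 0x166f)) (.nd (.lf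 0x137f) (.lf 0xac1)))) (.nd (.nd (.nd (.lf 0xa4) (.lf 0x59d)) (.nd (.lf 0x12e2) (.lf 0x1971))) (.nd (.nd (.lf 0x1b1) (.lf 0x74d)) (.nd (.lf 0x142a) (.lf 0xcd5))))) (.nd (.nd (.nd (.nd (.lf 0x1062) (.lf 0x53a)) (.nd (.lf 0x1295) (.lf 0x18e0))) (.nd (.nd (.lf 0x16d) (.lf 0x6e0)) (.nd (.lf 0x13d1) (.lf 0xbaa)))) (.nd (.nd (.nd (.lf 0xe6) (.lf 0x609)) (.nd (.lf 0x331) (.lf 0xa0c))) (.nd (.nd (.lf 0x1fc) (.lf 0x7c8)) (.nd (.lf 0x47d) (.lf 0x1ea5)))))))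
def parT_nbabaab : Tr := (.nd (.nd (.nd (.nd (.nd (.nd (.lf 0x12) (.lf 0x4c4)) (.nd (.lf 0x236) (.lf 0x829))) (.nd (.nd (.lf 0x118) (.lf 0x1654)) (.nd (.lf 0x36c) (.lf 0xa94)))) (.nd (.nd (.nd (.lf 0x93) (.lf 0x582)) (.nd (.lf 0x12d0) (.lf 0x94f))) (.nd (.nd (.lf 0x1a1) (.lf 0x1732)) (.nd (.lf 0x413) (.lf 0xc76))))) (.nd (.nd (.nd (.nd (.lf 0x52) (.lf 0x151b)) (.nd (.lf 0x284) (.lf 0x18bc))) (.nd (.nd (.lf 0x15c) (.lf 0x16c5)) (.nd (.lf 0x13bd) (.lf 0xb6a)))) (.nd (.nd (.nd (.lf 0xd6) (.lf 0x5ee)) (.nd (.lf 0x131c) (.lf 0x9eb))) (.nd (.nd (.lf 0x1e7) (.lf 0x7a6)) (.nd (.lf 0x1469) (.lf 0xe0f)))))) (.nd (.nd (.nd (.nd (.nd (.lf 0x32) (.lf 0x14f0)) (.nd (.lf 0x25e) (.lf 0x1871))) (.nd (.nd (.lf 0x1139) (.lf 0x168d)) (.nd (.lf 0x1394)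 (.lf 0x1afa)))) (.nd (.nd (.nd (.lf 0xb5) (.lf 0x15b5)) (.nd (.lf 0x12f4) (.lf 0x99a))) (.nd (.nd (.lf 0x11c2) (.lf 0x76d)) (.nd (.lf 0x143d) (.lf 0x1d29))))) (.nd (.nd (.nd (.nd (.lf 0x1072) (.lf 0x1551)) (.nd (.lf 0x2a8) (.lf 0x190b))) (.nd (.nd (.lf 0x117e) (.lf 0x6f7)) (.nd (.lf 0x13e6) (.lf 0xbe6)))) (.nd (.nd (.nd (.lf 0xf7) (.lf 0x1621)) (.nd (.lf 0x344) (.lf 0x1a34))) (.nd (.nd (.lf 0x120e) (.lf 0x7e4)) (.nd (.lf 0x495) (.lf 0)))))))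
def parT_nbababa : Tr := (.nd (.nd (.nd (.nd (.nd (.nd (.lf 0xa) (.lf 0x14b8)) (.nd (.lf 0x22a) (.lf 0x81c))) (.nd (.nd (.lf 0x110) (.lf 0x649)) (.nd (.lf 0x1362) (.lf 0x1a79)))) (.nd (.nd (.nd (.lf 0x8b) (.lf 0x1573)) (.nd (.lf 0x12c4) (.lf 0x1937))) (.nd (.nd (.lf 0x198) (.lf 0x1722)) (.nd (.lf 0x1407) (.lf 0xc4b))))) (.nd (.nd (.nd (.nd (.lf 0x4a) (.lf 0x512)) (.nd (.lf 0x27b) (.lf 0x18aa))) (.nd (.nd (.lf 0x1153) (.lf 0x6ba)) (.nd (.lf 0x3b3) (.lf 0xb4e)))) (.nd (.nd (.nd (.lf 0x10cd) (.lf 0x5dc)) (.nd (.lf 0x314) (.lf 0x19d6))) (.nd (.nd (.lf 0x1de) (.lf 0x798)) (.nd (.lf 0x145f) (.lf 0xdcd)))))) (.nd (.nd (.nd (.nd (.nd (.lf 0x2a) (.lf 0x4e5)) (.nd (.lf 0x254) (.lf 0x1860))) (.nd (.nd (.lf 0x1131) (.lf 0x680)) (.nd (.lf 0x38a)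 (.lf 0x1ad9)))) (.nd (.nd (.nd (.lf 0x10ac) (.lf 0x15a8)) (.nd (.lf 0x12eb) (.lf 0x1982))) (.nd (.nd (.lf 0x11b9) (.lf 0x175c)) (.nd (.lf 0x1433) (.lf 0x1d00))))) (.nd (.nd (.nd (.nd (.lf 0x106a) (.lf 0x1545)) (.nd (.lf 0x129f) (.lf 0x8f6))) (.nd (.nd (.lf 0x1175) (.lf 0x6eb)) (.nd (.lf 0x3dc) (.lf 0x1bcd)))) (.nd (.nd (.nd (.lf 0x10ee) (.lf 0x1612)) (.nd (.lf 0x33b) (.lf 0x1a21))) (.nd (.nd (.lf 0x205) (.lf 0x7d4)) (.nd (.lf 0x1489) (.lf 0x1f33)))))))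
def parT_nbababb : Tr := (.nd (.nd (.nd (.nd (.nd (.nd (.lf 0x1a) (.lf 0x4cf)) (.nd (.lf 0x123f) (.lf 0x83b))) (.nd (.nd (.lf 0x1120) (.lf 0x165f)) (.nd (.lf 0x376) (.lf 0x1aaa)))) (.nd (.nd (.nd (.lf 0x9c) (.lf 0x58e)) (.nd (.lf 0x2da) (.lf 0x1961))) (.nd (.nd (.lf 0x1a9) (.lf 0x73f)) (.nd (.lf 0x141e) (.lf 0x1c9f))))) (.nd (.nd (.nd (.nd (.lf 0x105a) (.lf 0x152c)) (.nd (.lf 0x128c) (.lf 0x8cd))) (.nd (.nd (.lf 0x164) (.lf 0x6d4)) (.nd (.lf 0x3c8) (.lf 0xb87)))) (.nd (.nd (.nd (.lf 0xde) (.lf 0x5fb)) (.nd (.lf 0x328) (.lf 0x19f8))) (.nd (.nd (.lf 0x11f0) (.lf 0x17b7)) (.nd (.lf 0x1472) (.lf 0x1e3b)))))) (.nd (.nd (.nd (.nd (.nd (.lf 0x3a) (.lf 0x14fb)) (.nd (.lf 0x268) (.lf 0x88a))) (.nd (.nd (.lf 0x1141) (.lf 0x69d)) (.nd (.lf 0x139d)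 (.lf 0x1b15)))) (.nd (.nd (.nd (.lf 0x10bd) (.lf 0x5c2)) (.nd (.lf 0x2ff) (.lf 0x19a9))) (.nd (.nd (.lf 0x11cb) (.lf 0x77b)) (.nd (.lf 0x1449) (.lf 0xd55))))) (.nd (.nd (.nd (.nd (.lf 0x107a) (.lf 0x155a)) (.nd (.lf 0x2b2) (.lf 0x1919))) (.nd (.nd (.lf 0x1187) (.lf 0x707)) (.nd (.lf 0x13f0) (.lf 0x1c0b)))) (.nd (.nd (.nd (.lf 0x10ff) (.lf 0x62e)) (.nd (.lf 0x134c) (.lf 0xa49))) (.nd (.nd (.lf 0x1216) (.lf 0x17f5)) (.nd (.lf 0x149f) (.lf 0)))))))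
def parT_nbabbaa : Tr := (.nd (.nd (.nd (.nd (.nd (.nd (.lf 0x6) (.lf 0x4b3)) (.nd (.lf 0x1224) (.lf 0x812))) (.nd (.nd (.lf 0x10c) (.lf 0x644)) (.nd (.lf 0x35d) (.lf 0xa6d)))) (.nd (.nd (.nd (.lf 0x87) (.lf 0x56e)) (.nd (.lf 0x12bf) (.lf 0x1930))) (.nd (.nd (.lf 0x194) (.lf 0x171c)) (.nd (.lf 0x13ff) (.lf 0x1c3c))))) (.nd (.nd (.nd (.nd (.lf 0x46) (.lf 0x150c)) (.nd (.lf 0x276) (.lf 0x18a1))) (.nd (.nd (.lf 0x14f) (.lf 0x16b4)) (.nd (.lf 0x3af) (.lf 0x1b3e)))) (.nd (.nd (.nd (.lf 0x10c9) (.lf 0x5d6)) (.nd (.lf 0x130e) (.lf 0x9cb))) (.nd (.nd (.lf 0x1d9) (.lf 0x791)) (.nd (.lf 0x145b) (.lf 0x1db3)))))) (.nd (.nd (.nd (.nd (.nd (.lf 0x26) (.lf 0x14e0)) (.nd (.lf 0x24f) (.lf 0x1859))) (.nd (.nd (.lf 0x112d) (.lf 0x678)) (.nd (.lf 0x386)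 (.lf 0x1aca)))) (.nd (.nd (.nd (.lf 0xa8) (.lf 0x5a3)) (.nd (.lf 0x2e7) (.lf 0x1976))) (.nd (.nd (.lf 0x1b5) (.lf 0x1755)) (.nd (.lf 0x42f) (.lf 0x1cea))))) (.nd (.nd (.nd (.nd (.lf 0x1066) (.lf 0x1540)) (.nd (.lf 0x29b) (.lf 0x18ec))) (.nd (.nd (.lf 0x1171) (.lf 0x6e7)) (.nd (.lf 0x3d6) (.lf 0xbbd)))) (.nd (.nd (.nd (.lf 0x10ea) (.lf 0x60e)) (.nd (.lf 0x1336) (.lf 0xa17))) (.nd (.nd (.lf 0x1200) (.lf 0x17cc)) (.nd (.lf 0x484) (.lf 0xeff)))))))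
def parT_nbabbab : Tr := (.nd (.nd (.nd (.nd (.nd (.nd (.lf 0x16) (.lf 0x14c9)) (.nd (.lf 0x123a) (.lf 0x1830))) (.nd (.nd (.lf 0x111c) (.lf 0x165a)) (.nd (.lf 0x1370) (.lf 0xa9e)))) (.nd (.nd (.nd (.lf 0x97) (.lf 0x588)) (.nd (.lf 0x12d4) (.lf 0x195b))) (.nd (.nd (.lf 0x1a5) (.lf 0x739)) (.nd (.lf 0x1418) (.lf 0x1c90))))) (.nd (.nd (.nd (.nd (.lf 0x56) (.lf 0x525)) (.nd (.lf 0x1288) (.lf 0x18c2))) (.nd (.nd (.lf 0x160) (.lf 0x6cb)) (.nd (.lf 0x3c3) (.lf 0xb77)))) (.nd (.nd (.nd (.lf 0xda) (.lf 0x5f5)) (.nd (.lf 0x1322) (.lf 0x19f0))) (.nd (.nd (.lf 0x11eb) (.lf 0x7b0)) (.nd (.lf 0x146e) (.lf 0x1e1d)))))) (.nd (.nd (.nd (.nd (.nd (.lf 0x36) (.lf 0x4f7)) (.nd (.lf 0x263) (.lf 0x87b))) (.nd (.nd (.lf 0x113d) (.lf 0x696)) (.nd (.lf 0x399)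 (.lf 0xb09)))) (.nd (.nd (.nd (.lf 0x10b9) (.lf 0x5bc)) (.nd (.lf 0x12f9) (.lf 0x199f))) (.nd (.nd (.lf 0x1c7) (.lf 0x1774)) (.nd (.lf 0x1443) (.lf 0x1d3b))))) (.nd (.nd (.nd (.nd (.lf 0x1076) (.lf 0x556)) (.nd (.lf 0x2ad) (.lf 0x1911))) (.nd (.nd (.lf 0x1182) (.lf 0x16fe)) (.nd (.lf 0x3ec) (.lf 0xbf6)))) (.nd (.nd (.nd (.lf 0xfb) (.lf 0x62a)) (.nd (.lf 0x348) (.lf 0xa3e))) (.nd (.nd (.lf 0x1212) (.lf 0x17ec)) (.nd (.lf 0x49a) (.lf 0)))))))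
def parT_nbabbba : Tr := (.nd (.nd (.nd (.nd (.nd (.nd (.lf 0xe) (.lf 0x4be)) (.nd (.lf 0x230) (.lf 0x821))) (.nd (.nd (.lf 0x114) (.lf 0x64e)) (.nd (.lf 0x1367) (.lf 0x1a85)))) (.nd (.nd (.nd (.lf 0x8f) (.lf 0x57b)) (.nd (.lf 0x2ca) (.lf 0x1946))) (.nd (.nd (.lf 0x19c) (.lf 0x1729)) (.nd (.lf 0x40d) (.lf 0xc6a))))) (.nd (.nd (.nd (.nd (.lf 0x4e) (.lf 0x517)) (.nd (.lf 0x127f) (.lf 0x18b4))) (.nd (.nd (.lf 0x158) (.lf 0x6bf)) (.nd (.lf 0x13b8) (.lf 0x1b58)))) (.nd (.nd (.nd (.lf 0xd2) (.lf 0x5e5)) (.nd (.lf 0x1318) (.lf 0x9e0))) (.nd (.nd (.lf 0x1e2) (.lf 0x179e)) (.nd (.lf 0x465) (.lf 0x1df6)))))) (.nd (.nd (.nd (.nd (.nd (.lf 0x2e) (.lf 0x4eb)) (.nd (.lf 0x25a) (.lf 0x1868))) (.nd (.nd (.lf 0x1135) (.lf 0x1685)) (.nd (.lf 0x138f)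 (.lf 0xaea)))) (.nd (.nd (.nd (.lf 0xb1) (.lf 0x5af)) (.nd (.lf 0x12ef) (.lf 0x98e))) (.nd (.nd (.lf 0x1be) (.lf 0x1765)) (.nd (.lf 0x439) (.lf 0x1d11))))) (.nd (.nd (.nd (.nd (.lf 0x106e) (.lf 0x154b)) (.nd (.lf 0x12a3) (.lf 0x1901))) (.nd (.nd (.lf 0x17a) (.lf 0x16ef)) (.nd (.lf 0x3e1) (.lf 0xbd7)))) (.nd (.nd (.nd (.lf 0xf3) (.lf 0x619)) (.nd (.lf 0x33f) (.lf 0xa2d))) (.nd (.nd (.lf 0x20a) (.lf 0x17dd)) (.nd (.lf 0x48f) (.lf 0)))))))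
def parT_nbabbbb : Tr := (.nd (.nd (.nd (.nd (.nd (.nd (.lf 0x1e) (.lf 0x14d4)) (.nd (.lf 0x1244) (.lf 0x1845))) (.nd (.nd (.lf 0x1124) (.lf 0x666)) (.nd (.lf 0x37b) (.lf 0x1ab6)))) (.nd (.nd (.nd (.lf 0xa0) (.lf 0x595)) (.nd (.lf 0x12de) (.lf 0x196b))) (.nd (.nd (.lf 0x1ad) (.lf 0x744)) (.nd (.lf 0x1424) (.lf 0xcb7))))) (.nd (.nd (.nd (.nd (.lf 0x105e) (.lf 0x1532)) (.nd (.lf 0x1290) (.lf 0x8d5))) (.nd (.nd (.lf 0x1168) (.lf 0x6d9)) (.nd (.lf 0x13cd) (.lf 0xb90)))) (.nd (.nd (.nd (.lf 0xe2) (.lf 0x603)) (.nd (.lf 0x132c) (.lf 0xa03))) (.nd (.nd (.lf 0x1f7) (.lf 0x17c0)) (.nd (.lf 0x1476) (.lf 0xe73)))))) (.nd (.nd (.nd (.nd (.nd (.lf 0x3e) (.lf 0x1501)) (.nd (.lf 0x126d) (.lf 0x1890))) (.nd (.nd (.lf 0x1145) (.lf 0x6a7)) (.nd (.lf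 0x3a2) (.lf 0x1b24)))) (.nd (.nd (.nd (.lf 0x10c1) (.lf 0x5c8)) (.nd (.lf 0x1303) (.lf 0x9b5))) (.nd (.nd (.lf 0x11d0) (.lf 0x781)) (.nd (.lf 0x450) (.lf 0xd71))))) (.nd (.nd (.nd (.nd (.lf 0x107e) (.lf 0x1561)) (.nd (.lf 0x2b6) (.lf 0x924))) (.nd (.nd (.lf 0x18c) (.lf 0x70c)) (.nd (.lf 0x3f5) (.lf 0x1c23)))) (.nd (.nd (.nd (.lf 0x104) (.lf 0x637)) (.nd (.lf 0x353) (.lf 0x1a57))) (.nd (.nd (.lf 0x21b) (.lf 0x7fe)) (.nd (.lf 0x4a6) (.lf 0)))))))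
def parT_nbbaaaa : Tr := (.nd (.nd (.nd (.nd (.nd (.nd (.lf 0x1) (.lf 0x14aa)) (.nd (.lf 0x21e) (.lf 0x806))) (.nd (.nd (.lf 0x107) (.lf 0x163b)) (.nd (.lf 0x1356) (.lf 0x1a5e)))) (.nd (.nd (.nd (.lf 0x1081) (.lf 0x1566)) (.nd (.lf 0x12b9) (.lf 0x1928))) (.nd (.nd (.lf 0x18f) (.lf 0x1711)) (.nd (.lf 0x3f8) (.lf 0x1c33))))) (.nd (.nd (.nd (.nd (.lf 0x41) (.lf 0x506)) (.nd (.lf 0x1270) (.lf 0x1895))) (.nd (.nd (.lf 0x149) (.lf 0x16ab)) (.nd (.lf 0x13a6) (.lf 0x1b2e)))) (.nd (.nd (.nd (.lf 0x10c4) (.lf 0x15cc)) (.nd (.lf 0x1308) (.lf 0x19bb))) (.nd (.nd (.lf 0x1d4) (.lf 0x1787)) (.nd (.lf 0x455) (.lf 0xd89)))))) (.nd (.nd (.nd (.nd (.nd (.lf 0x21) (.lf 0x4db)) (.nd (.lf 0x249) (.lf 0x84b))) (.nd (.nd (.lf 0x128) (.lf 0x166d)) (.nd (.lf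 0x137e) (.lf 0xabe)))) (.nd (.nd (.nd (.lf 0xa3) (.lf 0x1599)) (.nd (.lf 0x12e1) (.lf 0x970))) (.nd (.nd (.lf 0x1b0) (.lf 0x1748)) (.nd (.lf 0x1428) (.lf 0xcd1))))) (.nd (.nd (.nd (.nd (.lf 0x1061) (.lf 0x538)) (.nd (.lf 0x1294) (.lf 0x18df))) (.nd (.nd (.lf 0x16c) (.lf 0x6dd)) (.nd (.lf 0x13d0) (.lf 0xba8)))) (.nd (.nd (.nd (.lf 0xe5) (.lf 0x607)) (.nd (.lf 0x330) (.lf 0x1a0a))) (.nd (.nd (.lf 0x1fb) (.lf 0x7c7)) (.nd (.lf 0x47c) (.lf 0xe9b)))))))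
def parT_nbbaaab : Tr := (.nd (.nd (.nd (.nd (.nd (.nd (.lf 0x11) (.lf 0x14c2)) (.nd (.lf 0x235) (.lf 0x1826))) (.nd (.nd (.lf 0x117) (.lf 0x1653)) (.nd (.lf 0x36b) (.lf 0x1a92)))) (.nd (.nd (.nd (.lf 0x92) (.lf 0x157f)) (.nd (.lf 0x2cf) (.lf 0x194d))) (.nd (.nd (.lf 0x119f) (.lf 0x1731)) (.nd (.lf 0x1411) (.lf 0x1c71))))) (.nd (.nd (.nd (.nd (.lf 0x51) (.lf 0x51a)) (.nd (.lf 0x283) (.lf 0x8ba))) (.nd (.nd (.lf 0x15b) (.lf 0x6c4)) (.nd (.lf 0x13bc) (.lf 0xb67)))) (.nd (.nd (.nd (.lf 0xd5) (.lf 0x5ec)) (.nd (.lf 0x131b) (.lf 0x19e9))) (.nd (.nd (.lf 0x1e6) (.lf 0x7a4)) (.nd (.lf 0x468) (.lf 0x1e02)))))) (.nd (.nd (.nd (.nd (.nd (.lf 0x31) (.lf 0x14ef)) (.nd (.lf 0x25d) (.lf 0x86c))) (.nd (.nd (.lf 0x1138) (.lf 0x168c)) (.nd (.lf 0x1393)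 (.lf 0x1af4)))) (.nd (.nd (.nd (.lf 0xb4) (.lf 0x15b4)) (.nd (.lf 0x12f3) (.lf 0x998))) (.nd (.nd (.lf 0x11c1) (.lf 0x1769)) (.nd (.lf 0x143c) (.lf 0x1d24))))) (.nd (.nd (.nd (.nd (.lf 0x1071) (.lf 0x154f)) (.nd (.lf 0x12a6) (.lf 0x190a))) (.nd (.nd (.lf 0x117d) (.lf 0x6f3)) (.nd (.lf 0x3e4) (.lf 0xbe1)))) (.nd (.nd (.nd (.lf 0xf6) (.lf 0x61f)) (.nd (.lf 0x342) (.lf 0x1a33))) (.nd (.nd (.lf 0x120d) (.lf 0x7e2)) (.nd (.lf 0x1493) (.lf 0)))))))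
def parT_nbbaaba : Tr := (.nd (.nd (.nd (.nd (.nd (.nd (.lf 0x9) (.lf 0x14b7)) (.nd (.lf 0x1228) (.lf 0x81a))) (.nd (.nd (.lf 0x10f) (.lf 0x648)) (.nd (.lf 0x1361) (.lf 0xa77)))) (.nd (.nd (.nd (.lf 0x8a) (.lf 0x1572)) (.nd (.lf 0x2c3) (.lf 0x936))) (.nd (.nd (.lf 0x197) (.lf 0x721)) (.nd (.lf 0x1405) (.lf 0x1c46))))) (.nd (.nd (.nd (.nd (.lf 0x49) (.lf 0x511)) (.nd (.lf 0x279) (.lf 0x18a7))) (.nd (.nd (.lf 0x1152) (.lf 0x6b9)) (.nd (.lf 0x3b2) (.lf 0xb4b)))) (.nd (.nd (.nd (.lf 0x10cc) (.lf 0x5db)) (.nd (.lf 0x1312) (.lf 0x19d2))) (.nd (.nd (.lf 0x11dc) (.lf 0x797)) (.nd (.lf 0x145e) (.lf 0xdcc)))))) (.nd (.nd (.nd (.nd (.nd (.lf 0x29) (.lf 0x4e4)) (.nd (.lf 0x253) (.lf 0x85f))) (.nd (.nd (.lf 0x1130) (.lf 0x67d)) (.nd (.lf 0x389)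 (.lf 0xad6)))) (.nd (.nd (.nd (.lf 0x10ab) (.lf 0x5a7)) (.nd (.lf 0x12ea) (.lf 0x981))) (.nd (.nd (.lf 0x11b8) (.lf 0x175b)) (.nd (.lf 0x1432) (.lf 0x1cfc))))) (.nd (.nd (.nd (.nd (.lf 0x1069) (.lf 0x544)) (.nd (.lf 0x29e) (.lf 0x8f4))) (.nd (.nd (.lf 0x1174) (.lf 0x6ea)) (.nd (.lf 0x3da) (.lf 0x1bc8)))) (.nd (.nd (.nd (.lf 0x10ed) (.lf 0x1611)) (.nd (.lf 0x33a) (.lf 0xa1f))) (.nd (.nd (.lf 0x204) (.lf 0x17d2)) (.nd (.lf 0x1487) (.lf 0x1f27)))))))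
def parT_nbbaabb : Tr := (.nd (.nd (.nd (.nd (.nd (.nd (.lf 0x19) (.lf 0x4ce)) (.nd (.lf 0x23e) (.lf 0x837))) (.nd (.nd (.lf 0x111f) (.lf 0x65e)) (.nd (.lf 0x375) (.lf 0x1aa9)))) (.nd (.nd (.nd (.lf 0x109a) (.lf 0x58d)) (.nd (.lf 0x12d8) (.lf 0x1960))) (.nd (.nd (.lf 0x1a8) (.lf 0x73d)) (.nd (.lf 0x141d) (.lf 0x1c9b))))) (.nd (.nd (.nd (.nd (.lf 0x1059) (.lf 0x152a)) (.nd (.lf 0x128b) (.lf 0x8cc))) (.nd (.nd (.lf 0x163) (.lf 0x6d1)) (.nd (.lf 0x13c6) (.lf 0x1b83)))) (.nd (.nd (.nd (.lf 0xdd) (.lf 0x15f9)) (.nd (.lf 0x1326) (.lf 0x9f6))) (.nd (.nd (.lf 0x11ef) (.lf 0x7b4)) (.nd (.lf 0x1471) (.lf 0xe2d)))))) (.nd (.nd (.nd (.nd (.nd (.lf 0x39) (.lf 0x4fa)) (.nd (.lf 0x1266) (.lf 0x1887))) (.nd (.nd (.lf 0x1140) (.lf 0x69a)) (.nd (.lf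 0x139c) (.lf 0xb14)))) (.nd (.nd (.nd (.lf 0x10bc) (.lf 0x5c0)) (.nd (.lf 0x12fd) (.lf 0x9a8))) (.nd (.nd (.lf 0x1ca) (.lf 0x77a)) (.nd (.lf 0x1447) (.lf 0xd53))))) (.nd (.nd (.nd (.nd (.lf 0x1079) (.lf 0x1559)) (.nd (.lf 0x12b0) (.lf 0x918))) (.nd (.nd (.lf 0x1186) (.lf 0x705)) (.nd (.lf 0x3ef) (.lf 0x1c06)))) (.nd (.nd (.nd (.lf 0x10fe) (.lf 0x62d)) (.nd (.lf 0x134b) (.lf 0xa46))) (.nd (.nd (.lf 0x1215) (.lf 0x17f4)) (.nd (.lf 0x149d) (.lf 0)))))))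
def parT_nbbabaa : Tr := (.nd (.nd (.nd (.nd (.nd (.nd (.lf 0x5) (.lf 0x14b1)) (.nd (.lf 0x1223) (.lf 0x180f))) (.nd (.nd (.lf 0x10b) (.lf 0x643)) (.nd (.lf 0x135b) (.lf 0xa6c)))) (.nd (.nd (.nd (.lf 0x86) (.lf 0x156c)) (.nd (.lf 0x2be) (.lf 0x92f))) (.nd (.nd (.lf 0x193) (.lf 0x171a)) (.nd (.lf 0x3fd) (.lf 0xc3b))))) (.nd (.nd (.nd (.nd (.lf 0x45) (.lf 0x150b)) (.nd (.lf 0x1274) (.lf 0x89f))) (.nd (.nd (.lf 0x14e) (.lf 0x6b2)) (.nd (.lf 0x13ad) (.lf 0x1b3a)))) (.nd (.nd (.nd (.lf 0x10c8) (.lf 0x15d4)) (.nd (.lf 0x30d) (.lf 0x19c6))) (.nd (.nd (.lf 0x1d8) (.lf 0x790)) (.nd (.lf 0x145a) (.lf 0x1db0)))))) (.nd (.nd (.nd (.nd (.nd (.lf 0x25) (.lf 0x14df)) (.nd (.lf 0x24e) (.lf 0x857))) (.nd (.nd (.lf 0x112c) (.lf 0x676)) (.nd (.lf 0x1382)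 (.lf 0x1ac7)))) (.nd (.nd (.nd (.lf 0xa7) (.lf 0x15a1)) (.nd (.lf 0x2e6) (.lf 0x1975))) (.nd (.nd (.lf 0x1b4) (.lf 0x754)) (.nd (.lf 0x142d) (.lf 0xce8))))) (.nd (.nd (.nd (.nd (.lf 0x1065) (.lf 0x53e)) (.nd (.lf 0x29a) (.lf 0x8e9))) (.nd (.nd (.lf 0x1170) (.lf 0x16e4)) (.nd (.lf 0x13d4) (.lf 0x1bb1)))) (.nd (.nd (.nd (.lf 0xe9) (.lf 0x160c)) (.nd (.lf 0x335) (.lf 0xa16))) (.nd (.nd (.lf 0x11ff) (.lf 0x17cb)) (.nd (.lf 0x482) (.lf 0xee6)))))))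
def parT_nbbabab : Tr := (.nd (.nd (.nd (.nd (.nd (.nd (.lf 0x15) (.lf 0x14c8)) (.nd (.lf 0x1239) (.lf 0x182f))) (.nd (.nd (.lf 0x111b) (.lf 0x1658)) (.nd (.lf 0x136f) (.lf 0x1a9b)))) (.nd (.nd (.nd (.lf 0x96) (.lf 0x587)) (.nd (.lf 0x12d3) (.lf 0x1958))) (.nd (.nd (.lf 0x1a4) (.lf 0x1737)) (.nd (.lf 0x417) (.lf 0xc89))))) (.nd (.nd (.nd (.nd (.lf 0x55) (.lf 0x1523)) (.nd (.lf 0x287) (.lf 0x8c1))) (.nd (.nd (.lf 0x15f) (.lf 0x6ca)) (.nd (.lf 0x3c2) (.lf 0xb74)))) (.nd (.nd (.nd (.lf 0xd9) (.lf 0x5f4)) (.nd (.lf 0x321) (.lf 0x9ef))) (.nd (.nd (.lf 0x11ea) (.lf 0x7ad)) (.nd (.lf 0x146c) (.lf 0xe1a)))))) (.nd (.nd (.nd (.nd (.nd (.lf 0x35) (.lf 0x4f6)) (.nd (.lf 0x262) (.lf 0x1879))) (.nd (.nd (.lf 0x113c) (.lf 0x1694)) (.nd (.lf 0x398)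 (.lf 0xb04)))) (.nd (.nd (.nd (.lf 0x10b8) (.lf 0x5bb)) (.nd (.lf 0x12f8) (.lf 0x199e))) (.nd (.nd (.lf 0x11c5) (.lf 0x773)) (.nd (.lf 0x442) (.lf 0x1d34))))) (.nd (.nd (.nd (.nd (.lf 0x1075) (.lf 0x1554)) (.nd (.lf 0x12ab) (.lf 0x1910))) (.nd (.nd (.lf 0x1181) (.lf 0x6fb)) (.nd (.lf 0x3eb) (.lf 0x1bf4)))) (.nd (.nd (.nd (.lf 0xfa) (.lf 0x1626)) (.nd (.lf 0x347) (.lf 0xa3d))) (.nd (.nd (.lf 0x1211) (.lf 0x17ea)) (.nd (.lf 0x499) (.lf 0)))))))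
def parT_nbbabba : Tr := (.nd (.nd (.nd (.nd (.nd (.nd (.lf 0xd) (.lf 0x4bc)) (.nd (.lf 0x22f) (.lf 0x820))) (.nd (.nd (.lf 0x113) (.lf 0x64d)) (.nd (.lf 0x366) (.lf 0x1a81)))) (.nd (.nd (.nd (.lf 0x8e) (.lf 0x578)) (.nd (.lf 0x12c8) (.lf 0x941))) (.nd (.nd (.lf 0x19b) (.lf 0x728)) (.nd (.lf 0x40c) (.lf 0x1c64))))) (.nd (.nd (.nd (.nd (.lf 0x4d) (.lf 0x516)) (.nd (.lf 0x27e) (.lf 0x18b1))) (.nd (.nd (.lf 0x1156) (.lf 0x16bd)) (.nd (.lf 0x3b7) (.lf 0x1b56)))) (.nd (.nd (.nd (.lf 0xd1) (.lf 0x15e2)) (.nd (.lf 0x1317) (.lf 0x19dd))) (.nd (.nd (.lf 0x1e1) (.lf 0x179c)) (.nd (.lf 0x464) (.lf 0xde6)))))) (.nd (.nd (.nd (.nd (.nd (.lf 0x2d) (.lf 0x4ea)) (.nd (.lf 0x1258) (.lf 0x867))) (.nd (.nd (.lf 0x1134) (.lf 0x1684)) (.nd (.lf 0x38e)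 (.lf 0x1ae6)))) (.nd (.nd (.nd (.lf 0xb0) (.lf 0x15ac)) (.nd (.lf 0x12ee) (.lf 0x98b))) (.nd (.nd (.lf 0x11bc) (.lf 0x763)) (.nd (.lf 0x1437) (.lf 0x1d0b))))) (.nd (.nd (.nd (.nd (.lf 0x106d) (.lf 0x549)) (.nd (.lf 0x12a2) (.lf 0x18fd))) (.nd (.nd (.lf 0x179) (.lf 0x16ee)) (.nd (.lf 0x3e0) (.lf 0x1bd4)))) (.nd (.nd (.nd (.lf 0xf2) (.lf 0x617)) (.nd (.lf 0x33e) (.lf 0x1a2b))) (.nd (.nd (.lf 0x209) (.lf 0x7da)) (.nd (.lf 0x48e) (.lf 0x1f9a)))))))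
def parT_nbbabbb : Tr := (.nd (.nd (.nd (.nd (.nd (.nd (.lf 0x1d) (.lf 0x14d3)) (.nd (.lf 0x1243) (.lf 0x1841))) (.nd (.nd (.lf 0x1123) (.lf 0x1663)) (.nd (.lf 0x37a) (.lf 0xab2)))) (.nd (.nd (.nd (.lf 0x9f) (.lf 0x1593)) (.nd (.lf 0x12dd) (.lf 0x969))) (.nd (.nd (.lf 0x1ac) (.lf 0x743)) (.nd (.lf 0x423) (.lf 0xcb2))))) (.nd (.nd (.nd (.nd (.lf 0x105d) (.lf 0x1530)) (.nd (.lf 0x128f) (.lf 0x8d2))) (.nd (.nd (.lf 0x167) (.lf 0x6d8)) (.nd (.lf 0x3cc) (.lf 0xb8c)))) (.nd (.nd (.nd (.lf 0xe1) (.lf 0x15fe)) (.nd (.lf 0x132b) (.lf 0xa01))) (.nd (.nd (.lf 0x1f5) (.lf 0x17be)) (.nd (.lf 0x1475) (.lf 0x1e5d)))))) (.nd (.nd (.nd (.nd (.nd (.lf 0x3d) (.lf 0x1500)) (.nd (.lf 0x126c) (.lf 0x88e))) (.nd (.nd (.lf 0x1144) (.lf 0x6a5)) (.nd (.lf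 0x3a1) (.lf 0xb23)))) (.nd (.nd (.nd (.lf 0x10c0) (.lf 0x5c7)) (.nd (.lf 0x302) (.lf 0x19af))) (.nd (.nd (.lf 0x1cf) (.lf 0x177f)) (.nd (.lf 0x144e) (.lf 0xd70))))) (.nd (.nd (.nd (.nd (.lf 0x107d) (.lf 0x1560)) (.nd (.lf 0x2b5) (.lf 0x91f))) (.nd (.nd (.lf 0x118a) (.lf 0x70b)) (.nd (.lf 0x3f4) (.lf 0xc21)))) (.nd (.nd (.nd (.lf 0x103) (.lf 0x1635)) (.nd (.lf 0x1351) (.lf 0xa50))) (.nd (.nd (.lf 0x1219) (.lf 0x7fd)) (.nd (.lf 0x14a4) (.lf 0)))))))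
def parT_nbbbaaa : Tr := (.nd (.nd (.nd (.nd (.nd (.nd (.lf 0x3) (.lf 0x4ad)) (.nd (.lf 0x1220) (.lf 0x180b))) (.nd (.nd (.lf 0x109) (.lf 0x163e)) (.nd (.lf 0x359) (.lf 0x1a66)))) (.nd (.nd (.nd (.lf 0x1083) (.lf 0x1569)) (.nd (.lf 0x12bb) (.lf 0x92d))) (.nd (.nd (.lf 0x191) (.lf 0x1716)) (.nd (.lf 0x3fa) (.lf 0x1c37))))) (.nd (.nd (.nd (.nd (.lf 0x43) (.lf 0x1508)) (.nd (.lf 0x1272) (.lf 0x189a))) (.nd (.nd (.lf 0x114b) (.lf 0x16ae)) (.nd (.lf 0x13ab) (.lf 0xb35)))) (.nd (.nd (.nd (.lf 0x10c6) (.lf 0x5d1)) (.nd (.lf 0x130a) (.lf 0x9c2))) (.nd (.nd (.lf 0x1d6) (.lf 0x178c)) (.nd (.lf 0x457) (.lf 0x1d95)))))) (.nd (.nd (.nd (.nd (.nd (.lf 0x23) (.lf 0x14dd)) (.nd (.lf 0x124b) (.lf 0x184f))) (.nd (.nd (.lf 0x12a) (.lf 0x1670)) (.nd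 (.lf 0x1380) (.lf 0x1ac2)))) (.nd (.nd (.nd (.lf 0xa5) (.lf 0x59e)) (.nd (.lf 0x2e4) (.lf 0x1972))) (.nd (.nd (.lf 0x1b2) (.lf 0x174f)) (.nd (.lf 0x142b) (.lf 0xcdc))))) (.nd (.nd (.nd (.nd (.lf 0x1063) (.lf 0x53b)) (.nd (.lf 0x1297) (.lf 0x18e4))) (.nd (.nd (.lf 0x116e) (.lf 0x16e1)) (.nd (.lf 0x13d2) (.lf 0xbac)))) (.nd (.nd (.nd (.lf 0xe7) (.lf 0x60a)) (.nd (.lf 0x333) (.lf 0xa0f))) (.nd (.nd (.lf 0x11fd) (.lf 0x7c9)) (.nd (.lf 0x47e) (.lf 0xebf)))))))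
def parT_nbbbaab : Tr := (.nd (.nd (.nd (.nd (.nd (.nd (.lf 0x13) (.lf 0x4c5)) (.nd (.lf 0x237) (.lf 0x82d))) (.nd (.nd (.lf 0x1119) (.lf 0x1655)) (.nd (.lf 0x136d) (.lf 0xa97)))) (.nd (.nd (.nd (.lf 0x94) (.lf 0x583)) (.nd (.lf 0x12d1) (.lf 0x954))) (.nd (.nd (.lf 0x1a2) (.lf 0x734)) (.nd (.lf 0x414) (.lf 0x1c79))))) (.nd (.nd (.nd (.nd (.lf 0x53) (.lf 0x151d)) (.nd (.lf 0x285) (.lf 0x18bd))) (.nd (.nd (.lf 0x15d) (.lf 0x16c7)) (.nd (.lf 0x13bf) (.lf 0x1b6f)))) (.nd (.nd (.nd (.lf 0xd7) (.lf 0x15f0)) (.nd (.lf 0x31e) (.lf 0x9ed))) (.nd (.nd (.lf 0x1e8) (.lf 0x7a7)) (.nd (.lf 0x146a) (.lf 0xe13)))))) (.nd (.nd (.nd (.nd (.nd (.lf 0x33) (.lf 0x4f2)) (.nd (.lf 0x260) (.lf 0x1873))) (.nd (.nd (.lf 0x113a) (.lf 0x168f)) (.nd (.lf 0x1395)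 (.lf 0xafd)))) (.nd (.nd (.nd (.lf 0x10b6) (.lf 0x15b7)) (.nd (.lf 0x12f5) (.lf 0x99b))) (.nd (.nd (.lf 0x11c3) (.lf 0x76e)) (.nd (.lf 0x143f) (.lf 0xd2f))))) (.nd (.nd (.nd (.nd (.lf 0x1073) (.lf 0x1552)) (.nd (.lf 0x12a9) (.lf 0x190c))) (.nd (.nd (.lf 0x117f) (.lf 0x6f9)) (.nd (.lf 0x3e8) (.lf 0x1be9)))) (.nd (.nd (.nd (.lf 0xf8) (.lf 0x1622)) (.nd (.lf 0x345) (.lf 0xa36))) (.nd (.nd (.lf 0x120f) (.lf 0x17e5)) (.nd (.lf 0x1496) (.lf 0)))))))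
def parT_nbbbaba : Tr := (.nd (.nd (.nd (.nd (.nd (.nd (.lf 0xb) (.lf 0x14b9)) (.nd (.lf 0x22b) (.lf 0x81e))) (.nd (.nd (.lf 0x111) (.lf 0x164a)) (.nd (.lf 0x1363) (.lf 0x1a7b)))) (.nd (.nd (.nd (.lf 0x8c) (.lf 0x1574)) (.nd (.lf 0x12c5) (.lf 0x193d))) (.nd (.nd (.lf 0x199) (.lf 0x1724)) (.nd (.lf 0x1409) (.lf 0x1c4d))))) (.nd (.nd (.nd (.nd (.lf 0x4b) (.lf 0x1513)) (.nd (.lf 0x27c) (.lf 0x8ac))) (.nd (.nd (.lf 0x1154) (.lf 0x6bb)) (.nd (.lf 0x3b4) (.lf 0xb51)))) (.nd (.nd (.nd (.lf 0x10ce) (.lf 0x15df)) (.nd (.lf 0x315) (.lf 0x19d7))) (.nd (.nd (.lf 0x1df) (.lf 0x79a)) (.nd (.lf 0x1461) (.lf 0xddc)))))) (.nd (.nd (.nd (.nd (.nd (.lf 0x2b) (.lf 0x14e6)) (.nd (.lf 0x1255) (.lf 0x862))) (.nd (.nd (.lf 0x1132) (.lf 0x681)) (.nd (.lf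 0x38b) (.lf 0xadf)))) (.nd (.nd (.nd (.lf 0x10ad) (.lf 0x15a9)) (.nd (.lf 0x12ec) (.lf 0x1984))) (.nd (.nd (.lf 0x11ba) (.lf 0x175d)) (.nd (.lf 0x1434) (.lf 0x1d03))))) (.nd (.nd (.nd (.nd (.lf 0x106b) (.lf 0x1546)) (.nd (.lf 0x12a0) (.lf 0x18f9))) (.nd (.nd (.lf 0x1176) (.lf 0x6ec)) (.nd (.lf 0x13dd) (.lf 0xbcf)))) (.nd (.nd (.nd (.lf 0xf0) (.lf 0x615)) (.nd (.lf 0x33c) (.lf 0xa25))) (.nd (.nd (.lf 0x206) (.lf 0x17d6)) (.nd (.lf 0x148a) (.lf 0xf45)))))))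
def parT_nbbbabb : Tr := (.nd (.nd (.nd (.nd (.nd (.nd (.lf 0x1b) (.lf 0x14d1)) (.nd (.lf 0x241) (.lf 0x83c))) (.nd (.nd (.lf 0x1121) (.lf 0x661)) (.nd (.lf 0x377) (.lf 0x1aac)))) (.nd (.nd (.nd (.lf 0x9d) (.lf 0x158f)) (.nd (.lf 0x12db) (.lf 0x965))) (.nd (.nd (.lf 0x1aa) (.lf 0x1740)) (.nd (.lf 0x1420) (.lf 0x1ca3))))) (.nd (.nd (.nd (.nd (.lf 0x105b) (.lf 0x152d)) (.nd (.lf 0x128d) (.lf 0x8cf))) (.nd (.nd (.lf 0x165) (.lf 0x6d5)) (.nd (.lf 0x3c9) (.lf 0x1b88)))) (.nd (.nd (.nd (.lf 0xdf) (.lf 0x5fc)) (.nd (.lf 0x1329) (.lf 0x9fa))) (.nd (.nd (.lf 0x1f3) (.lf 0x17b9)) (.nd (.lf 0x1473) (.lf 0xe45)))))) (.nd (.nd (.nd (.nd (.nd (.lf 0x3b) (.lf 0x4fd)) (.nd (.lf 0x26a) (.lf 0x88b))) (.nd (.nd (.lf 0x1142) (.lf 0x6a0)) (.nd (.lf 0x139e)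 (.lf 0xb17)))) (.nd (.nd (.nd (.lf 0x10be) (.lf 0x15c3)) (.nd (.lf 0x300) (.lf 0x19aa))) (.nd (.nd (.lf 0x11cc) (.lf 0x77c)) (.nd (.lf 0x44c) (.lf 0x1d5a))))) (.nd (.nd (.nd (.nd (.lf 0x107b) (.lf 0x55c)) (.nd (.lf 0x2b3) (.lf 0x91c))) (.nd (.nd (.lf 0x1188) (.lf 0x1708)) (.nd (.lf 0x13f1) (.lf 0x1c10)))) (.nd (.nd (.nd (.lf 0x101) (.lf 0x632)) (.nd (.lf 0x134d) (.lf 0x1a4a))) (.nd (.nd (.lf 0x1217) (.lf 0x7f8)) (.nd (.lf 0x14a1) (.lf 0)))))))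
def parT_nbbbbaa : Tr := (.nd (.nd (.nd (.nd (.nd (.nd (.lf 0x7) (.lf 0x4b4)) (.nd (.lf 0x1225) (.lf 0x1814))) (.nd (.nd (.lf 0x10d) (.lf 0x1645)) (.nd (.lf 0x135e) (.lf 0x1a6f)))) (.nd (.nd (.nd (.lf 0x88) (.lf 0x56f)) (.nd (.lf 0x2c1) (.lf 0x932))) (.nd (.nd (.lf 0x195) (.lf 0x71e)) (.nd (.lf 0x401) (.lf 0xc40))))) (.nd (.nd (.nd (.nd (.lf 0x47) (.lf 0x50e)) (.nd (.lf 0x277) (.lf 0x18a2))) (.nd (.nd (.lf 0x1150) (.lf 0x16b6)) (.nd (.lf 0x3b0) (.lf 0x1b44)))) (.nd (.nd (.nd (.lf 0x10ca) (.lf 0x15d7)) (.nd (.lf 0x310) (.lf 0x19cf))) (.nd (.nd (.lf 0x1da) (.lf 0x1793)) (.nd (.lf 0x145c) (.lf 0xdc1)))))) (.nd (.nd (.nd (.nd (.nd (.lf 0x27) (.lf 0x14e1)) (.nd (.lf 0x250) (.lf 0x185b))) (.nd (.nd (.lf 0x112e) (.lf 0x1679)) (.nd (.lf 0x387)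 (.lf 0x1acc)))) (.nd (.nd (.nd (.lf 0xa9) (.lf 0x5a4)) (.nd (.lf 0x12e8) (.lf 0x97b))) (.nd (.nd (.lf 0x11b6) (.lf 0x757)) (.nd (.lf 0x430) (.lf 0x1cf1))))) (.nd (.nd (.nd (.nd (.lf 0x1067) (.lf 0x542)) (.nd (.lf 0x29c) (.lf 0x8f1))) (.nd (.nd (.lf 0x1172) (.lf 0x6e8)) (.nd (.lf 0x13d7) (.lf 0xbbe)))) (.nd (.nd (.nd (.lf 0x10eb) (.lf 0x60f)) (.nd (.lf 0x1337) (.lf 0xa19))) (.nd (.nd (.lf 0x1201) (.lf 0x17cf)) (.nd (.lf 0x485) (.lf 0x1f0b)))))))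
def parT_nbbbbab : Tr := (.nd (.nd (.nd (.nd (.nd (.nd (.lf 0x17) (.lf 0x4cb)) (.nd (.lf 0x123b) (.lf 0x832))) (.nd (.nd (.lf 0x111d) (.lf 0x65c)) (.nd (.lf 0x1372) (.lf 0x1aa2)))) (.nd (.nd (.nd (.lf 0x98) (.lf 0x589)) (.nd (.lf 0x12d5) (.lf 0x95e))) (.nd (.nd (.lf 0x1a6) (.lf 0x173a)) (.nd (.lf 0x41a) (.lf 0xc96))))) (.nd (.nd (.nd (.nd (.lf 0x57) (.lf 0x1527)) (.nd (.lf 0x1289) (.lf 0x8c6))) (.nd (.nd (.lf 0x161) (.lf 0x6cd)) (.nd (.lf 0x3c4) (.lf 0xb79)))) (.nd (.nd (.nd (.lf 0xdb) (.lf 0x15f6)) (.nd (.lf 0x1323) (.lf 0x19f1))) (.nd (.nd (.lf 0x1ed) (.lf 0x17b1)) (.nd (.lf 0x146f) (.lf 0xe23)))))) (.nd (.nd (.nd (.nd (.nd (.lf 0x37) (.lf 0x4f8)) (.nd (.lf 0x1264) (.lf 0x187d))) (.nd (.nd (.lf 0x113e) (.lf 0x698)) (.nd (.lf 0x39a)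 (.lf 0x1b0f)))) (.nd (.nd (.nd (.lf 0x10ba) (.lf 0x5bd)) (.nd (.lf 0x2fb) (.lf 0x9a3))) (.nd (.nd (.lf 0x1c8) (.lf 0x1777)) (.nd (.lf 0x445) (.lf 0xd48))))) (.nd (.nd (.nd (.nd (.lf 0x1077) (.lf 0x557)) (.nd (.lf 0x2ae) (.lf 0x1912))) (.nd (.nd (.lf 0x184) (.lf 0x16ff)) (.nd (.lf 0x3ed) (.lf 0x1bfb)))) (.nd (.nd (.nd (.lf 0xfc) (.lf 0x62b)) (.nd (.lf 0x349) (.lf 0xa3f))) (.nd (.nd (.lf 0x1213) (.lf 0x7f0)) (.nd (.lf 0x49b) (.lf 0)))))))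
def parT_nbbbbba : Tr := (.nd (.nd (.nd (.nd (.nd (.nd (.lf 0xf) (.lf 0x4c0)) (.nd (.lf 0x1231) (.lf 0x822))) (.nd (.nd (.lf 0x115) (.lf 0x64f)) (.nd (.lf 0x1368) (.lf 0x1a88)))) (.nd (.nd (.nd (.lf 0x90) (.lf 0x57c)) (.nd (.lf 0x2cc) (.lf 0x1949))) (.nd (.nd (.lf 0x19d) (.lf 0x172b)) (.nd (.lf 0x40e) (.lf 0xc6b))))) (.nd (.nd (.nd (.nd (.lf 0x4f) (.lf 0x518)) (.nd (.lf 0x1280) (.lf 0x18b6))) (.nd (.nd (.lf 0x159) (.lf 0x16c0)) (.nd (.lf 0x13b9) (.lf 0xb61)))) (.nd (.nd (.nd (.lf 0xd3) (.lf 0x5e7)) (.nd (.lf 0x1319) (.lf 0x9e4))) (.nd (.nd (.lf 0x1e4) (.lf 0x7a0)) (.nd (.lf 0x466) (.lf 0xdfa)))))) (.nd (.nd (.nd (.nd (.nd (.lf 0x2f) (.lf 0x14ec)) (.nd (.lf 0x25b) (.lf 0x1869))) (.nd (.nd (.lf 0x1136) (.lf 0x687)) (.nd (.lf 0x1390)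 (.lf 0x1aeb)))) (.nd (.nd (.nd (.lf 0xb2) (.lf 0x15b0)) (.nd (.lf 0x2f1) (.lf 0x1994))) (.nd (.nd (.lf 0x1bf) (.lf 0x1767)) (.nd (.lf 0x143a) (.lf 0x1d15))))) (.nd (.nd (.nd (.nd (.lf 0x106f) (.lf 0x154c)) (.nd (.lf 0x12a4) (.lf 0x1905))) (.nd (.nd (.lf 0x17b) (.lf 0x16f0)) (.nd (.lf 0x3e2) (.lf 0xbdb)))) (.nd (.nd (.nd (.lf 0xf4) (.lf 0x61b)) (.nd (.lf 0x340) (.lf 0xa2f))) (.nd (.nd (.lf 0x120b) (.lf 0x17de)) (.nd (.lf 0x490) (.lf 0)))))))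
def parT_nbbbbbb : Tr := (.nd (.nd (.nd (.nd (.nd (.nd (.lf 0x1f) (.lf 0x14d7)) (.nd (.lf 0x1245) (.lf 0x847))) (.nd (.nd (.lf 0x1125) (.lf 0x1668)) (.nd (.lf 0x37c) (.lf 0x1ab7)))) (.nd (.nd (.nd (.lf 0xa1) (.lf 0x597)) (.nd (.lf 0x12df) (.lf 0x196d))) (.nd (.nd (.lf 0x1ae) (.lf 0x1746)) (.nd (.lf 0x1425) (.lf 0xcc3))))) (.nd (.nd (.nd (.nd (.lf 0x105f) (.lf 0x534)) (.nd (.lf 0x292) (.lf 0x18d7))) (.nd (.nd (.lf 0x1169) (.lf 0x16da)) (.nd (.lf 0x13ce) (.lf 0xb93)))) (.nd (.nd (.nd (.lf 0xe3) (.lf 0x1604)) (.nd (.lf 0x132d) (.lf 0xa04))) (.nd (.nd (.lf 0x1f8) (.lf 0x17c1)) (.nd (.lf 0x1477) (.lf 0xe85)))))) (.nd (.nd (.nd (.nd (.nd (.lf 0x3f) (.lf 0x504)) (.nd (.lf 0x126e) (.lf 0x1891))) (.nd (.nd (.lf 0x147) (.lf 0x16a8)) (.nd (.lf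 0x13a3) (.lf 0x1b28)))) (.nd (.nd (.nd (.lf 0x10c2) (.lf 0x15ca)) (.nd (.lf 0x305) (.lf 0x9b9))) (.nd (.nd (.lf 0x1d2) (.lf 0x1782)) (.nd (.lf 0x1451) (.lf 0xd79))))) (.nd (.nd (.nd (.nd (.lf 0x107f) (.lf 0x1563)) (.nd (.lf 0x12b7) (.lf 0x1925))) (.nd (.nd (.lf 0x18d) (.lf 0x70d)) (.nd (.lf 0x3f6) (.lf 0x1c27)))) (.nd (.nd (.nd (.lf 0x105) (.lf 0x639)) (.nd (.lf 0x354) (.lf 0x1a58))) (.nd (.nd (.lf 0x21c) (.lf 0x17ff)) (.nd (.lf 0x14a7) (.lf 0)))))))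
def parT : Tr := (.nd (.nd (.nd (.nd (.nd (.nd parT_naaaaaa parT_naaaaab) (.nd parT_naaaaba parT_naaaabb)) (.nd (.nd parT_naaabaa parT_naaabab) (.nd parT_naaabba parT_naaabbb))) (.nd (.nd (.nd parT_naabaaa parT_naabaab) (.nd parT_naababa parT_naababb)) (.nd (.nd parT_naabbaa parT_naabbab) (.nd parT_naabbba parT_naabbbb)))) (.nd (.nd (.nd (.nd parT_nabaaaa parT_nabaaab) (.nd parT_nabaaba parT_nabaabb)) (.nd (.nd parT_nababaa parT_nababab) (.nd parT_nababba parT_nababbb))) (.nd (.nd (.nd parT_nabbaaa parT_nabbaab) (.nd parT_nabbaba parT_nabbabb)) (.nd (.nd parT_nabbbaa parT_nabbbab) (.nd parT_nabbbba parT_nabbbbb))))) (.nd (.nd (.nd (.nd (.nd parT_nbaaaaa parT_nbaaaab) (.nd parT_nbaaaba parT_nbaaabb)) (.nd (.nd parT_nbaabaa parT_nbaabab)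 (.nd parT_nbaabba parT_nbaabbb))) (.nd (.nd (.nd parT_nbabaaa parT_nbabaab) (.nd parT_nbababa parT_nbababb)) (.nd (.nd parT_nbabbaa parT_nbabbab) (.nd parT_nbabbba parT_nbabbbb)))) (.nd (.nd (.nd (.nd parT_nbbaaaa parT_nbbaaab) (.nd parT_nbbaaba parT_nbbaabb)) (.nd (.nd parT_nbbabaa parT_nbbabab) (.nd parT_nbbabba parT_nbbabbb))) (.nd (.nd (.nd parT_nbbbaaa parT_nbbbaab) (.nd parT_nbbbaba parT_nbbbabb)) (.nd (.nd parT_nbbbbaa parT_nbbbbab) (.nd parT_nbbbbba parT_nbbbbbb))))))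
def tabT0_naaaaaa : Tr := (.nd (.nd (.nd (.nd (.nd (.nd (.lf 0x1) (.lf 0x9e5)) (.nd (.lf 0x144) (.lf 0xe4d))) (.nd (.nd (.lf 0x3cc) (.lf 0xdba)) (.nd (.lf 0x259) (.lf 0xa76)))) (.nd (.nd (.nd (.lf 0x1f6) (.lf 0x6c)) (.nd (.lf 0x5b7) (.lf 0xd05))) (.nd (.nd (.lf 0x577) (.lf 0x248)) (.nd (.lf 0x8f6) (.lf 0xd1d))))) (.nd (.nd (.nd (.nd (.lf 0x100) (.lf 0x34e)) (.nd (.lf 0x7c9) (.lf 0xf29))) (.nd (.nd (.lf 0x49e) (.lf 0x70c)) (.nd (.lf 0xa55) (.lf 0xf8b)))) (.nd (.nd (.nd (.lf 0x2e8) (.lf 0xc5d)) (.nd (.lf 0x78d) (.lf 0xc02))) (.nd (.nd (.lf 0x646) (.lf 0x2c7)) (.nd (.lf 0x6cc) (.lf 0xd2d)))))) (.nd (.nd (.nd (.nd (.nd (.lf 0x81) (.lf 0xbc2)) (.nd (.lf 0x768) (.lf 0xf0f))) (.nd (.nd (.lf 0x164) (.lf 0x781)) (.nd (.lf 0x7ec) (.lf 0x576))))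 (.nd (.nd (.nd (.lf 0x272) (.lf 0xd1a)) (.nd (.lf 0x6e) (.lf 0xc47))) (.nd (.nd (.lf 0x5df) (.lf 0xbfc)) (.nd (.lf 0xb36) (.lf 0x302))))) (.nd (.nd (.nd (.nd (.lf 0x17a) (.lf 0x45b)) (.nd (.lf 0x81f) (.lf 0xc5a))) (.nd (.nd (.lf 0x3c4) (.lf 0x757)) (.nd (.lf 0xa9e) (.lf 0xd16)))) (.nd (.nd (.nd (.lf 0x361) (.lf 0xc52)) (.nd (.lf 0x973) (.lf 0x4d0))) (.nd (.nd (.lf 0x2f5) (.lf 0xa22)) (.nd (.lf 0xbbc) (.lf 0xcf)))))))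
def tabT0_naaaaab : Tr := (.nd (.nd (.nd (.nd (.nd (.nd (.lf 0x41) (.lf 0xc1b)) (.nd (.lf 0x4b9) (.lf 0xed9))) (.nd (.nd (.lf 0x406) (.lf 0xdd4)) (.nd (.lf 0x758) (.lf 0xd2a)))) (.nd (.nd (.nd (.lf 0x234) (.lf 0x450)) (.nd (.lf 0x195) (.lf 0xac9))) (.nd (.nd (.lf 0x5a9) (.lf 0x917)) (.nd (.lf 0xb11) (.lf 0x639))))) (.nd (.nd (.nd (.nd (.lf 0x13d) (.lf 0x849)) (.nd (.lf 0x4f6) (.lf 0xf1e))) (.nd (.nd (.lf 0x4d6) (.lf 0x3fe)) (.nd (.lf 0xa77) (.lf 0x83b)))) (.nd (.nd (.nd (.lf 0x324) (.lf 0xa65)) (.nd (.lf 0x702) (.lf 0x20c))) (.nd (.nd (.lf 0x67a) (.lf 0x6cb)) (.nd (.lf 0xb9f) (.lf 0x669)))))) (.nd (.nd (.nd (.nd (.nd (.lf 0xc0) (.lf 0xc54)) (.nd (.lf 0x33e) (.lf 0xe75))) (.nd (.nd (.lf 0x467) (.lf 0xb63)) (.nd (.lf 0xa36) (.lf 0x5f5))))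 (.nd (.nd (.nd (.lf 0x2ad) (.lf 0xd32)) (.nd (.lf 0x8fa) (.lf 0x2fe))) (.nd (.nd (.lf 0x611) (.lf 0xad6)) (.nd (.lf 0xb5a) (.lf 0xe2c))))) (.nd (.nd (.nd (.nd (.lf 0x1b9) (.lf 0xcc4)) (.nd (.lf 0x84c) (.lf 0xf48))) (.nd (.nd (.lf 0x540) (.lf 0xe58)) (.nd (.lf 0xac5) (.lf 0x677)))) (.nd (.nd (.nd (.lf 0x399) (.lf 0xd9d)) (.nd (.lf 0x998) (.lf 0x54a))) (.nd (.nd (.lf 0x6db) (.lf 0xee2)) (.nd (.lf 0xbe1) (.lf 0)))))))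
def tabT0_naaaaba : Tr := (.nd (.nd (.nd (.nd (.nd (.nd (.lf 0x21) (.lf 0x3cf)) (.nd (.lf 0x1cd) (.lf 0x685))) (.nd (.nd (.lf 0x3e8) (.lf 0x16d)) (.nd (.lf 0x9d1) (.lf 0xf8d)))) (.nd (.nd (.nd (.lf 0x215) (.lf 0xcea)) (.nd (.lf 0x891) (.lf 0xc8c))) (.nd (.nd (.lf 0x58f) (.lf 0x6c1)) (.nd (.lf 0x647) (.lf 0xbed))))) (.nd (.nd (.nd (.nd (.lf 0x11f) (.lf 0x749)) (.nd (.lf 0x7df) (.lf 0xd7a))) (.nd (.nd (.lf 0x4bc) (.lf 0xd23)) (.nd (.lf 0xa27) (.lf 0xd99)))) (.nd (.nd (.nd (.lf 0x305) (.lf 0xb2a)) (.nd (.lf 0x745) (.lf 0x8c))) (.nd (.nd (.lf 0x65e) (.lf 0xebd)) (.nd (.lf 0xb8b) (.lf 0xf17)))))) (.nd (.nd (.nd (.nd (.nd (.lf 0xa1) (.lf 0xc2d)) (.nd (.lf 0x77d) (.lf 0x162))) (.nd (.nd (.lf 0x44f) (.lf 0xdfb)) (.nd (.lf 0xa20) (.lf 0xd92))))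 (.nd (.nd (.nd (.lf 0x14) (.lf 0x6f9)) (.nd (.lf 0x5d6) (.lf 0xb41))) (.nd (.nd (.lf 0x5fa) (.lf 0xa98)) (.nd (.lf 0x45e) (.lf 0xf92))))) (.nd (.nd (.nd (.nd (.lf 0x36) (.lf 0xcb9)) (.nd (.lf 0x220) (.lf 0x32))) (.nd (.nd (.lf 0x524) (.lf 0x1a2)) (.nd (.lf 0x1a0) (.lf 0xe92)))) (.nd (.nd (.nd (.lf 0x15e) (.lf 0xd90)) (.nd (.lf 0x34c) (.lf 0xb2c))) (.nd (.nd (.lf 0x6c2) (.lf 0x887)) (.nd (.lf 0xbd0) (.lf 0xece)))))))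
def tabT0_naaaabb : Tr := (.nd (.nd (.nd (.nd (.nd (.nd (.lf 0x61) (.lf 0xc2c)) (.nd (.lf 0x74f) (.lf 0x42a))) (.nd (.nd (.lf 0x41d) (.lf 0xde0)) (.nd (.lf 0x10) (.lf 0xf7c)))) (.nd (.nd (.nd (.lf 0x252) (.lf 0x1f3)) (.nd (.lf 0x2) (.lf 0x5b4))) (.nd (.nd (.lf 0x5c3) (.lf 0xe85)) (.nd (.lf 0x784) (.lf 0x85c))))) (.nd (.nd (.nd (.nd (.lf 0x15b) (.lf 0xc9a)) (.nd (.lf 0x271) (.lf 0x527))) (.nd (.nd (.lf 0x126) (.lf 0xe39)) (.nd (.lf 0xa89) (.lf 0x7bb)))) (.nd (.nd (.nd (.lf 0x343) (.lf 0xac2)) (.nd (.lf 0x95e) (.lf 0xe49))) (.nd (.nd (.lf 0x68f) (.lf 0xeca)) (.nd (.lf 0xbad) (.lf 0xfcf)))))) (.nd (.nd (.nd (.nd (.nd (.lf 0xe0) (.lf 0x372)) (.nd (.lf 0x7b0) (.lf 0xf10))) (.nd (.nd (.lf 0x482) (.lf 0x86)) (.nd (.lf 0xa46) (.lf 0x89c))))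 (.nd (.nd (.nd (.lf 0x2ca) (.lf 0xd43)) (.nd (.lf 0x911) (.lf 0xf7b))) (.nd (.nd (.lf 0x62c) (.lf 0xb87)) (.nd (.lf 0x636) (.lf 0x8a6))))) (.nd (.nd (.nd (.nd (.lf 0x1d7) (.lf 0x9f4)) (.nd (.lf 0x864) (.lf 0xa80))) (.nd (.nd (.lf 0x436) (.lf 0x208)) (.nd (.lf 0xade) (.lf 0x50c)))) (.nd (.nd (.nd (.lf 0x3b4) (.lf 0x8af)) (.nd (.lf 0x9a6) (.lf 0x365))) (.nd (.nd (.lf 0x6f4) (.lf 0x1d8)) (.nd (.lf 0xbef) (.lf 0)))))))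
def tabT0_naaabaa : Tr := (.nd (.nd (.nd (.nd (.nd (.nd (.lf 0x11) (.lf 0x23d)) (.nd (.lf 0x716) (.lf 0xcf1))) (.nd (.nd (.lf 0x3da) (.lf 0x652)) (.nd (.lf 0x806) (.lf 0x476)))) (.nd (.nd (.nd (.lf 0x205) (.lf 0xa01)) (.nd (.lf 0x886) (.lf 0xd54))) (.nd (.nd (.lf 0x582) (.lf 0xcc7)) (.nd (.lf 0x28) (.lf 0x8d7))))) (.nd (.nd (.nd (.nd (.lf 0x10f) (.lf 0xc74)) (.nd (.lf 0x7d4) (.lf 0x715))) (.nd (.nd (.lf 0x160) (.lf 0xc42)) (.nd (.lf 0x29e) (.lf 0xbb9)))) (.nd (.nd (.nd (.lf 0x2f6) (.lf 0x6e9)) (.nd (.lf 0x92d) (.lf 0xbff))) (.nd (.nd (.lf 0x651) (.lf 0xeb6)) (.nd (.lf 0x59d) (.lf 0x9e1)))))) (.nd (.nd (.nd (.nd (.nd (.lf 0x91) (.lf 0xc40)) (.nd (.lf 0x280) (.lf 0xf14))) (.nd (.nd (.lf 0x20e) (.lf 0x555)) (.nd (.lf 0xa13) (.lf 0x4c3))))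 (.nd (.nd (.nd (.lf 0x281) (.lf 0x4ad)) (.nd (.lf 0x8d9) (.lf 0xf6f))) (.nd (.nd (.lf 0x5ed) (.lf 0xdf2)) (.nd (.lf 0xb42) (.lf 0xfd9))))) (.nd (.nd (.nd (.nd (.lf 0x18a) (.lf 0x847)) (.nd (.lf 0x82a) (.lf 0xd93))) (.nd (.nd (.lf 0x316) (.lf 0xe4c)) (.nd (.lf 0xaa8) (.lf 0x1f5)))) (.nd (.nd (.nd (.lf 0x36f) (.lf 0xb9e)) (.nd (.lf 0x97d) (.lf 0xf41))) (.nd (.nd (.lf 0x6b5) (.lf 0xcd7)) (.nd (.lf 0xbc5) (.lf 0x87a)))))))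
def tabT0_naaabab : Tr := (.nd (.nd (.nd (.nd (.nd (.nd (.lf 0x51) (.lf 0xc24)) (.nd (.lf 0x742) (.lf 0xf00))) (.nd (.nd (.lf 0x1e2) (.lf 0x67c)) (.nd (.lf 0x42d) (.lf 0x773)))) (.nd (.nd (.nd (.lf 0x243) (.lf 0xd02)) (.nd (.lf 0x310) (.lf 0x870))) (.nd (.nd (.lf 0x5b5) (.lf 0xa4f)) (.nd (.lf 0xb1b) (.lf 0x35e))))) (.nd (.nd (.nd (.nd (.lf 0x14d) (.lf 0xae4)) (.nd (.lf 0x800) (.lf 0xf39))) (.nd (.nd (.lf 0x4e5) (.lf 0xcba)) (.nd (.lf 0x2de) (.lf 0xdfa)))) (.nd (.nd (.nd (.lf 0x333) (.lf 0xd73)) (.nd (.lf 0x954) (.lf 0xf8a))) (.nd (.nd (.lf 0x684) (.lf 0xec3)) (.nd (.lf 0xba9) (.lf 0xad4)))))) (.nd (.nd (.nd (.nd (.nd (.lf 0xd0) (.lf 0x24b)) (.nd (.lf 0x7a3) (.lf 0x84b))) (.nd (.nd (.lf 0x475) (.lf 0xe08)) (.nd (.lf 0x275) (.lf 0xc41))))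 (.nd (.nd (.nd (.lf 0xd5) (.lf 0x4cc)) (.nd (.lf 0x905) (.lf 0xe09))) (.nd (.nd (.lf 0x61e) (.lf 0x388)) (.nd (.lf 0xb60) (.lf 0xb83))))) (.nd (.nd (.nd (.nd (.lf 0x1c9) (.lf 0x79e)) (.nd (.lf 0xb3) (.lf 0xf4b))) (.nd (.nd (.lf 0x76) (.lf 0xe5c)) (.nd (.lf 0xacf) (.lf 0xed3)))) (.nd (.nd (.nd (.lf 0x3a7) (.lf 0xda2)) (.nd (.lf 0xa0) (.lf 0xa19))) (.nd (.nd (.lf 0x6e7) (.lf 0x202)) (.nd (.lf 0xc5) (.lf 0)))))))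
def tabT0_naaabba : Tr := (.nd (.nd (.nd (.nd (.nd (.nd (.lf 0x31) (.lf 0x452)) (.nd (.lf 0x72c) (.lf 0x801))) (.nd (.nd (.lf 0x3f8) (.lf 0x6a7)) (.nd (.lf 0x464) (.lf 0x9cb)))) (.nd (.nd (.nd (.lf 0x225) (.lf 0xcf3)) (.nd (.lf 0x89f) (.lf 0x590))) (.nd (.nd (.lf 0x59c) (.lf 0xcf5)) (.nd (.lf 0x8) (.lf 0x454))))) (.nd (.nd (.nd (.nd (.lf 0x12f) (.lf 0x1e0)) (.nd (.lf 0x7ea) (.lf 0xf31))) (.nd (.nd (.lf 0x4c8) (.lf 0xe29)) (.nd (.lf 0xa6f) (.lf 0x84f)))) (.nd (.nd (.nd (.lf 0x315) (.lf 0xd63)) (.nd (.lf 0x941) (.lf 0xed0))) (.nd (.nd (.lf 0x66b) (.lf 0xec0)) (.nd (.lf 0xb95) (.lf 0x44a)))))) (.nd (.nd (.nd (.nd (.nd (.lf 0xe) (.lf 0x8e2)) (.nd (.lf 0x2b4) (.lf 0xa08))) (.nd (.nd (.lf 0x45a) (.lf 0xdfe)) (.nd (.lf 0xa2a) (.lf 0xd8b))))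 (.nd (.nd (.nd (.lf 0x29d) (.lf 0x30c)) (.nd (.lf 0x8f0) (.lf 0xeba))) (.nd (.nd (.lf 0x605) (.lf 0xe9c)) (.nd (.lf 0xb51) (.lf 0xd4d))))) (.nd (.nd (.nd (.nd (.lf 0x1a9) (.lf 0x2a2)) (.nd (.lf 0x840) (.lf 0xd49))) (.nd (.nd (.lf 0x297) (.lf 0xa63)) (.nd (.lf 0xabb) (.lf 0xe40)))) (.nd (.nd (.nd (.lf 0x38b) (.lf 0xa30)) (.nd (.lf 0x990) (.lf 0xf21))) (.nd (.nd (.lf 0x6d0) (.lf 0xed1)) (.nd (.lf 0xbd8) (.lf 0xef9)))))))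
def tabT0_naaabbb : Tr := (.nd (.nd (.nd (.nd (.nd (.nd (.lf 0x71) (.lf 0x878)) (.nd (.lf 0x75c) (.lf 0xf08))) (.nd (.nd (.lf 0x429) (.lf 0x380)) (.nd (.lf 0x9fe) (.lf 0x4e)))) (.nd (.nd (.nd (.lf 0x262) (.lf 0x6fc)) (.nd (.lf 0x8c3) (.lf 0xf6c))) (.nd (.nd (.lf 0x5d0) (.lf 0xe8a)) (.nd (.lf 0x9bb) (.lf 0xfa1))))) (.nd (.nd (.nd (.nd (.lf 0x16a) (.lf 0xa86)) (.nd (.lf 0x814) (.lf 0xef5))) (.nd (.nd (.lf 0x500) (.lf 0xc7d)) (.nd (.lf 0xa91) (.lf 0x99e)))) (.nd (.nd (.nd (.lf 0x352) (.lf 0x9c6)) (.nd (.lf 0x3e9) (.lf 0xc31))) (.nd (.nd (.lf 0x69c) (.lf 0x17d)) (.nd (.lf 0x16) (.lf 0xf55)))))) (.nd (.nd (.nd (.nd (.nd (.lf 0xf0) (.lf 0x663)) (.nd (.lf 0x7c0) (.lf 0x7f8))) (.nd (.nd (.lf 0x491) (.lf 0xda3)) (.nd (.lf 0xa4d) (.lf 0x8e4))))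 (.nd (.nd (.nd (.lf 0xa8) (.lf 0x396)) (.nd (.lf 0x91b) (.lf 0xf1))) (.nd (.nd (.lf 0x483) (.lf 0xeae)) (.nd (.lf 0xb70) (.lf 0x4d2))))) (.nd (.nd (.nd (.nd (.lf 0x1e7) (.lf 0x654)) (.nd (.lf 0x86f) (.lf 0xed8))) (.nd (.nd (.lf 0x56a) (.lf 0x7bf)) (.nd (.lf 0x6de) (.lf 0xeec)))) (.nd (.nd (.nd (.lf 0x3bf) (.lf 0x6b8)) (.nd (.lf 0x9b0) (.lf 0xc2b))) (.nd (.nd (.lf 0x703) (.lf 0x3cb)) (.nd (.lf 0xbf7) (.lf 0)))))))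
def tabT0_naabaaa : Tr := (.nd (.nd (.nd (.nd (.nd (.nd (.lf 0x9) (.lf 0xabc)) (.nd (.lf 0x665) (.lf 0x3bc))) (.nd (.nd (.lf 0x3d3) (.lf 0xdbf)) (.nd (.lf 0x9be) (.lf 0xd83)))) (.nd (.nd (.nd (.lf 0x1fd) (.lf 0xb9b)) (.nd (.lf 0x87f) (.lf 0x9c4))) (.nd (.nd (.lf 0x57e) (.lf 0xe6b)) (.nd (.lf 0xaf2) (.lf 0xe46))))) (.nd (.nd (.nd (.nd (.lf 0x108) (.lf 0xbf0)) (.nd (.lf 0x7cd) (.lf 0xbf3))) (.nd (.nd (.lf 0x4a5) (.lf 0x6e5)) (.nd (.lf 0xa5a) (.lf 0xfb2)))) (.nd (.nd (.nd (.lf 0x2ef) (.lf 0xb55)) (.nd (.lf 0x2da) (.lf 0x7e))) (.nd (.nd (.lf 0x5a5) (.lf 0x4df)) (.nd (.lf 0x915) (.lf 0xd31)))))) (.nd (.nd (.nd (.nd (.nd (.lf 0x89) (.lf 0x1e)) (.nd (.lf 0x76e) (.lf 0xbaf))) (.nd (.nd (.lf 0x43c) (.lf 0x8a4)) (.nd (.lf 0xa0d) (.lf 0xab8))))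 (.nd (.nd (.nd (.lf 0x27a) (.lf 0xcef)) (.nd (.lf 0x8d3) (.lf 0xec1))) (.nd (.nd (.lf 0x5e5) (.lf 0xbdf)) (.nd (.lf 0xb3d) (.lf 0xdee))))) (.nd (.nd (.nd (.nd (.lf 0x182) (.lf 0x629)) (.nd (.lf 0x825) (.lf 0xeb0))) (.nd (.nd (.lf 0x514) (.lf 0x779)) (.nd (.lf 0xaa3) (.lf 0x4d7)))) (.nd (.nd (.nd (.lf 0x368) (.lf 0x40f)) (.nd (.lf 0x4f0) (.lf 0x9d3))) (.nd (.nd (.lf 0x6af) (.lf 0x940)) (.nd (.lf 0x4ca) (.lf 0x70a)))))))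
def tabT0_naabaab : Tr := (.nd (.nd (.nd (.nd (.nd (.nd (.lf 0x49) (.lf 0x788)) (.nd (.lf 0x485) (.lf 0x3be))) (.nd (.nd (.lf 0x40c) (.lf 0xdd6)) (.nd (.lf 0x88) (.lf 0xf87)))) (.nd (.nd (.nd (.lf 0x23c) (.lf 0xcfd)) (.nd (.lf 0x599) (.lf 0xefe))) (.nd (.nd (.lf 0x33a) (.lf 0x2bc)) (.nd (.lf 0xb16) (.lf 0xfc8))))) (.nd (.nd (.nd (.nd (.lf 0x145) (.lf 0xc90)) (.nd (.lf 0x7fa) (.lf 0xde9))) (.nd (.nd (.lf 0x4de) (.lf 0x8e9)) (.nd (.lf 0x817) (.lf 0x295)))) (.nd (.nd (.nd (.lf 0x32b) (.lf 0x92c)) (.nd (.lf 0x94f) (.lf 0xca9))) (.nd (.nd (.lf 0x680) (.lf 0x14c)) (.nd (.lf 0xba3) (.lf 0xf90)))))) (.nd (.nd (.nd (.nd (.nd (.lf 0xc8) (.lf 0x4c5)) (.nd (.lf 0x79b) (.lf 0xdac))) (.nd (.nd (.lf 0x46e) (.lf 0x3b8)) (.nd (.lf 0x537) (.lf 0x791))))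 (.nd (.nd (.nd (.lf 0x2b5) (.lf 0x98b)) (.nd (.lf 0x19e) (.lf 0xaef))) (.nd (.nd (.lf 0x618) (.lf 0x468)) (.nd (.lf 0xa14) (.lf 0x828))))) (.nd (.nd (.nd (.nd (.lf 0x1c1) (.lf 0x8b2)) (.nd (.lf 0x853) (.lf 0x4be))) (.nd (.nd (.lf 0x547) (.lf 0xe1a)) (.nd (.lf 0xaca) (.lf 0xbb5)))) (.nd (.nd (.nd (.lf 0x39f) (.lf 0xd9f)) (.nd (.lf 0x6f0) (.lf 0xab4))) (.nd (.nd (.lf 0x6e3) (.lf 0xee4)) (.nd (.lf 0xbe5) (.lf 0)))))))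
def tabT0_naababa : Tr := (.nd (.nd (.nd (.nd (.nd (.nd (.lf 0x29) (.lf 0x3a0)) (.nd (.lf 0x727) (.lf 0xde5))) (.nd (.nd (.lf 0x3f0) (.lf 0xdca)) (.nd (.lf 0x9d6) (.lf 0xbea)))) (.nd (.nd (.nd (.lf 0x21d) (.lf 0x7b3)) (.nd (.lf 0x898) (.lf 0xb38))) (.nd (.nd (.lf 0x595) (.lf 0xe73)) (.nd (.lf 0x2a0) (.lf 0xdaa))))) (.nd (.nd (.nd (.nd (.lf 0x127) (.lf 0x2cf)) (.nd (.lf 0x692) (.lf 0x910))) (.nd (.nd (.lf 0x193) (.lf 0xe25)) (.nd (.lf 0xa59) (.lf 0xe55)))) (.nd (.nd (.nd (.lf 0x30d) (.lf 0xd5e)) (.nd (.lf 0x1b4) (.lf 0x687))) (.nd (.nd (.lf 0x664) (.lf 0xdff)) (.nd (.lf 0x759) (.lf 0xf24)))))) (.nd (.nd (.nd (.nd (.nd (.lf 0xa9) (.lf 0xc49)) (.nd (.lf 0x782) (.lf 0xf19))) (.nd (.nd (.lf 0x455) (.lf 0x613)) (.nd (.lf 0xa24) (.lf 0xe4f))))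 (.nd (.nd (.nd (.lf 0x296) (.lf 0xd27)) (.nd (.lf 0x8ea) (.lf 0x992))) (.nd (.nd (.lf 0x5ff) (.lf 0x1c0)) (.nd (.lf 0xb4b) (.lf 0xd6b))))) (.nd (.nd (.nd (.nd (.lf 0x1a1) (.lf 0x82e)) (.nd (.lf 0x83c) (.lf 0x6c9))) (.nd (.nd (.lf 0x52c) (.lf 0x5e2)) (.nd (.lf 0xab5) (.lf 0xbeb)))) (.nd (.nd (.nd (.lf 0x383) (.lf 0xc05)) (.nd (.lf 0x603) (.lf 0x173))) (.nd (.nd (.lf 0x6ca) (.lf 0xb96)) (.nd (.lf 0xbd5) (.lf 0x3a9)))))))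
def tabT0_naababb : Tr := (.nd (.nd (.nd (.nd (.nd (.nd (.lf 0x69) (.lf 0x73a)) (.nd (.lf 0x756) (.lf 0x720))) (.nd (.nd (.lf 0x405) (.lf 0xde4)) (.nd (.lf 0x9f9) (.lf 0x3df)))) (.nd (.nd (.nd (.lf 0x25a) (.lf 0xd10)) (.nd (.lf 0x8bf) (.lf 0xd8e))) (.nd (.nd (.lf 0x5c9) (.lf 0xa1a)) (.nd (.lf 0xb27) (.lf 0x856))))) (.nd (.nd (.nd (.nd (.lf 0x163) (.lf 0x61d)) (.nd (.lf 0x80f) (.lf 0xd1c))) (.nd (.nd (.lf 0x4f9) (.lf 0x892)) (.nd (.lf 0x7f9) (.lf 0x919)))) (.nd (.nd (.nd (.lf 0x34b) (.lf 0x442)) (.nd (.lf 0x962) (.lf 0x819))) (.nd (.nd (.lf 0x697) (.lf 0x826)) (.nd (.lf 0xbb3) (.lf 0xa9a)))))) (.nd (.nd (.nd (.nd (.nd (.lf 0xe8) (.lf 0x7e7)) (.nd (.lf 0x7b8) (.lf 0x4f3))) (.nd (.nd (.lf 0x48a) (.lf 0x24f)) (.nd (.lf 0xa49) (.lf 0x7c8))))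 (.nd (.nd (.nd (.lf 0x2d2) (.lf 0xd48)) (.nd (.lf 0x916) (.lf 0x98))) (.nd (.nd (.lf 0x445) (.lf 0xeab)) (.nd (.lf 0xb6c) (.lf 0x40b))))) (.nd (.nd (.nd (.nd (.lf 0x1df) (.lf 0xcd3)) (.nd (.lf 0x5d8) (.lf 0xd42))) (.nd (.nd (.lf 0x564) (.lf 0x86c)) (.nd (.lf 0x1e6) (.lf 0x90a)))) (.nd (.nd (.nd (.lf 0x3b9) (.lf 0xcff)) (.nd (.lf 0x9ab) (.lf 0x943))) (.nd (.nd (.lf 0x6fb) (.lf 0x926)) (.nd (.lf 0x509) (.lf 0)))))))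
def tabT0_naabbaa : Tr := (.nd (.nd (.nd (.nd (.nd (.nd (.lf 0x19) (.lf 0x8e)) (.nd (.lf 0x71b) (.lf 0x904))) (.nd (.nd (.lf 0x3e0) (.lf 0xdc5)) (.nd (.lf 0x367) (.lf 0xadf)))) (.nd (.nd (.nd (.lf 0x20d) (.lf 0xce6)) (.nd (.lf 0x88c) (.lf 0xede))) (.nd (.nd (.lf 0x589) (.lf 0xb2e)) (.nd (.lf 0xafd) (.lf 0xe71))))) (.nd (.nd (.nd (.nd (.lf 0x117) (.lf 0xc79)) (.nd (.lf 0x741) (.lf 0xe96))) (.nd (.nd (.lf 0x4b4) (.lf 0x574)) (.nd (.lf 0x1e8) (.lf 0xf46)))) (.nd (.nd (.nd (.lf 0x2fd) (.lf 0x9a8)) (.nd (.lf 0x4c7) (.lf 0xf23))) (.nd (.nd (.lf 0x659) (.lf 0xebb)) (.nd (.lf 0xb86) (.lf 0xe1e)))))) (.nd (.nd (.nd (.nd (.nd (.lf 0x99) (.lf 0xbf)) (.nd (.lf 0x777) (.lf 0xd35))) (.nd (.nd (.lf 0x448) (.lf 0xa67)) (.nd (.lf 0x9da) (.lf 0xbc6))))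 (.nd (.nd (.nd (.lf 0x237) (.lf 0x155)) (.nd (.lf 0x8de) (.lf 0x7a5))) (.nd (.nd (.lf 0x5f4) (.lf 0xda4)) (.nd (.lf 0xb44) (.lf 0xe83))))) (.nd (.nd (.nd (.nd (.lf 0x192) (.lf 0xcb3)) (.nd (.lf 0x831) (.lf 0x6fe))) (.nd (.nd (.lf 0x51f) (.lf 0x43d)) (.nd (.lf 0xaae) (.lf 0x169)))) (.nd (.nd (.nd (.lf 0x376) (.lf 0x9d0)) (.nd (.lf 0x982) (.lf 0xf93))) (.nd (.nd (.lf 0x6bb) (.lf 0x2ed)) (.nd (.lf 0xbcc) (.lf 0xa7c)))))))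
def tabT0_naabbab : Tr := (.nd (.nd (.nd (.nd (.nd (.nd (.lf 0x59) (.lf 0x903)) (.nd (.lf 0x748) (.lf 0xc7c))) (.nd (.nd (.lf 0x370) (.lf 0xddc)) (.nd (.lf 0x9f1) (.lf 0x803)))) (.nd (.nd (.nd (.lf 0x24a) (.lf 0xd06)) (.nd (.lf 0x8b4) (.lf 0x6a0))) (.nd (.nd (.lf 0x5bc) (.lf 0xe81)) (.nd (.lf 0x9f0) (.lf 0x525))))) (.nd (.nd (.nd (.nd (.lf 0x154) (.lf 0xc97)) (.nd (.lf 0x805) (.lf 0xbd3))) (.nd (.nd (.lf 0x4ec) (.lf 0xe36)) (.nd (.lf 0x84) (.lf 0xe63)))) (.nd (.nd (.nd (.lf 0x33b) (.lf 0xd78)) (.nd (.lf 0x494) (.lf 0x22f))) (.nd (.nd (.lf 0x688) (.lf 0xec7)) (.nd (.lf 0x769) (.lf 0x6b9)))))) (.nd (.nd (.nd (.nd (.nd (.lf 0xd8) (.lf 0xc63)) (.nd (.lf 0x7aa) (.lf 0xf20))) (.nd (.nd (.lf 0x47a) (.lf 0xe0b)) (.nd (.lf 0x69d) (.lf 0x384))))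 (.nd (.nd (.nd (.lf 0x2c3) (.lf 0x4a8)) (.nd (.lf 0x308) (.lf 0xb7e))) (.nd (.nd (.lf 0x625) (.lf 0x9aa)) (.nd (.lf 0xb64) (.lf 0xea1))))) (.nd (.nd (.nd (.nd (.lf 0x1d0) (.lf 0xb05)) (.nd (.lf 0x85e) (.lf 0xcb1))) (.nd (.nd (.lf 0x556) (.lf 0xe26)) (.nd (.lf 0xad7) (.lf 0xa07)))) (.nd (.nd (.nd (.lf 0x181) (.lf 0xda6)) (.nd (.lf 0x9a3) (.lf 0xa1e))) (.nd (.nd (.lf 0x6ed) (.lf 0x8dc)) (.nd (.lf 0xbec) (.lf 0)))))))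
def tabT0_naabbba : Tr := (.nd (.nd (.nd (.nd (.nd (.nd (.lf 0x39) (.lf 0xc15)) (.nd (.lf 0x69f) (.lf 0x4e6))) (.nd (.nd (.lf 0x3ff) (.lf 0xa70)) (.nd (.lf 0x87e) (.lf 0x507)))) (.nd (.nd (.nd (.lf 0x22c) (.lf 0xcf7)) (.nd (.lf 0x763) (.lf 0x74b))) (.nd (.nd (.lf 0x5a4) (.lf 0xa10)) (.nd (.lf 0x8ff) (.lf 0xfd1))))) (.nd (.nd (.nd (.nd (.lf 0x135) (.lf 0x551)) (.nd (.lf 0x224) (.lf 0x7d3))) (.nd (.nd (.lf 0x4cf) (.lf 0xa04)) (.nd (.lf 0xa74) (.lf 0x332)))) (.nd (.nd (.nd (.lf 0x31d) (.lf 0xd68)) (.nd (.lf 0x30e) (.lf 0xc1c))) (.nd (.nd (.lf 0x672) (.lf 0x24)) (.nd (.lf 0xb9a) (.lf 0xfb1)))))) (.nd (.nd (.nd (.nd (.nd (.lf 0xb8) (.lf 0xc50)) (.nd (.lf 0x78e) (.lf 0xc76))) (.nd (.nd (.lf 0x461) (.lf 0xe01)) (.nd (.lf 0xa2f) (.lf 0xa9f))))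 (.nd (.nd (.nd (.lf 0x2a5) (.lf 0x3d6)) (.nd (.lf 0x8f7) (.lf 0xed))) (.nd (.nd (.lf 0x60c) (.lf 0x471)) (.nd (.lf 0xb54) (.lf 0xf94))))) (.nd (.nd (.nd (.nd (.lf 0x1b1) (.lf 0x31a)) (.nd (.lf 0x844) (.lf 0xf47))) (.nd (.nd (.lf 0x538) (.lf 0x6b6)) (.nd (.lf 0xac1) (.lf 0xf05)))) (.nd (.nd (.nd (.lf 0x212) (.lf 0x529)) (.nd (.lf 0x995) (.lf 0xf97))) (.nd (.nd (.lf 0x6d5) (.lf 0xee0)) (.nd (.lf 0x3a4) (.lf 0)))))))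
def tabT0_naabbbb : Tr := (.nd (.nd (.nd (.nd (.nd (.nd (.lf 0x79) (.lf 0xc37)) (.nd (.lf 0x762) (.lf 0xa3b))) (.nd (.nd (.lf 0x430) (.lf 0xcd9)) (.nd (.lf 0x880) (.lf 0xdd0)))) (.nd (.nd (.nd (.lf 0x26a) (.lf 0x604)) (.nd (.lf 0x481) (.lf 0xc0c))) (.nd (.nd (.lf 0x5d7) (.lf 0xe20)) (.nd (.lf 0xb32) (.lf 0xc2e))))) (.nd (.nd (.nd (.nd (.lf 0x172) (.lf 0x6c5)) (.nd (.lf 0x81b) (.lf 0x8e0))) (.nd (.nd (.lf 0x508) (.lf 0xe41)) (.nd (.lf 0xa99) (.lf 0x13a)))) (.nd (.nd (.nd (.lf 0x35a) (.lf 0xd84)) (.nd (.lf 0x96d) (.lf 0xe6c))) (.nd (.nd (.lf 0x375) (.lf 0xe00)) (.nd (.lf 0x362) (.lf 0xce5)))))) (.nd (.nd (.nd (.nd (.nd (.lf 0xf8) (.lf 0xa0c)) (.nd (.lf 0x7c3) (.lf 0x5b9))) (.nd (.nd (.lf 0x497) (.lf 0xe18)) (.nd (.lf 0x761) (.lf 0x56d))))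 (.nd (.nd (.nd (.lf 0x273) (.lf 0x460)) (.nd (.lf 0x91f) (.lf 0xf80))) (.nd (.nd (.lf 0x63f) (.lf 0x16b)) (.nd (.lf 0xb77) (.lf 0xac))))) (.nd (.nd (.nd (.nd (.lf 0x1ef) (.lf 0x2a)) (.nd (.lf 0x876) (.lf 0xde8))) (.nd (.nd (.lf 0x571) (.lf 0xe66)) (.nd (.lf 0x50e) (.lf 0xf6b)))) (.nd (.nd (.nd (.lf 0x3c5) (.lf 0x39a)) (.nd (.lf 0x9b7) (.lf 0xf74))) (.nd (.nd (.lf 0x369) (.lf 0xe7f)) (.nd (.lf 0x66e) (.lf 0)))))))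
def tabT0_nabaaaa : Tr := (.nd (.nd (.nd (.nd (.nd (.nd (.lf 0x5) (.lf 0x390)) (.nd (.lf 0x6ee) (.lf 0xa7e))) (.nd (.nd (.lf 0x3c7) (.lf 0x2eb)) (.nd (.lf 0x3d8) (.lf 0xf36)))) (.nd (.nd (.nd (.lf 0x1f9) (.lf 0x929)) (.nd (.lf 0x267) (.lf 0xf56))) (.nd (.nd (.lf 0x57b) (.lf 0x9ce)) (.nd (.lf 0x5fe) (.lf 0xeb3))))) (.nd (.nd (.nd (.nd (.lf 0x104) (.lf 0xc71)) (.nd (.lf 0x7cb) (.lf 0xc83))) (.nd (.nd (.lf 0x4a1) (.lf 0xbb4)) (.nd (.lf 0xa58) (.lf 0x778)))) (.nd (.nd (.nd (.lf 0x2ec) (.lf 0xb4e)) (.nd (.lf 0x925) (.lf 0xd5c))) (.nd (.nd (.lf 0x64a) (.lf 0x342)) (.nd (.lf 0x175) (.lf 0xc65)))))) (.nd (.nd (.nd (.nd (.nd (.lf 0x85) (.lf 0x7d1)) (.nd (.lf 0x76b) (.lf 0x8d5))) (.nd (.nd (.lf 0x439) (.lf 0x43f)) (.nd (.lf 0xa09) (.lf 0x3b3))))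 (.nd (.nd (.nd (.lf 0x276) (.lf 0xcfa)) (.nd (.lf 0x8cf) (.lf 0xae1))) (.nd (.nd (.lf 0x5e3) (.lf 0xc45)) (.nd (.lf 0xb39) (.lf 0xb76))))) (.nd (.nd (.nd (.nd (.lf 0x17e) (.lf 0xb59)) (.nd (.lf 0x822) (.lf 0x7fe))) (.nd (.nd (.lf 0x511) (.lf 0xdf0)) (.nd (.lf 0xaa1) (.lf 0xe7d)))) (.nd (.nd (.nd (.lf 0x364) (.lf 0xd87)) (.nd (.lf 0x975) (.lf 0x5e8))) (.nd (.nd (.lf 0x6ab) (.lf 0xd19)) (.nd (.lf 0xbc0) (.lf 0x813)))))))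
def tabT0_nabaaab : Tr := (.nd (.nd (.nd (.nd (.nd (.nd (.lf 0x45) (.lf 0xc1f)) (.nd (.lf 0x739) (.lf 0xe79))) (.nd (.nd (.lf 0x408) (.lf 0xb79)) (.nd (.lf 0x9e6) (.lf 0xa83)))) (.nd (.nd (.nd (.lf 0x238) (.lf 0xff)) (.nd (.lf 0x5cf) (.lf 0xe65))) (.nd (.nd (.lf 0x5ac) (.lf 0x54c)) (.nd (.lf 0x9af) (.lf 0xde6))))) (.nd (.nd (.nd (.nd (.lf 0x141) (.lf 0xc8e)) (.nd (.lf 0x112) (.lf 0xb5c))) (.nd (.nd (.lf 0x4da) (.lf 0x2e5)) (.nd (.lf 0x8b8) (.lf 0xbb7)))) (.nd (.nd (.nd (.lf 0x327) (.lf 0xef)) (.nd (.lf 0x94c) (.lf 0xccd))) (.nd (.nd (.lf 0x67d) (.lf 0xd2b)) (.nd (.lf 0xba2) (.lf 0xfa3)))))) (.nd (.nd (.nd (.nd (.nd (.lf 0xc4) (.lf 0xc57)) (.nd (.lf 0x798) (.lf 0xd5f))) (.nd (.nd (.lf 0x46b) (.lf 0x820)) (.nd (.lf 0x882) (.lf 0xf91))))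 (.nd (.nd (.nd (.lf 0x2b1) (.lf 0x9e)) (.nd (.lf 0x6d4) (.lf 0x97c))) (.nd (.nd (.lf 0x614) (.lf 0x708)) (.nd (.lf 0x583) (.lf 0xfd3))))) (.nd (.nd (.nd (.nd (.lf 0x1bd) (.lf 0x9eb)) (.nd (.lf 0x850) (.lf 0xf49))) (.nd (.nd (.lf 0x544) (.lf 0x6bd)) (.nd (.lf 0xac8) (.lf 0xb43)))) (.nd (.nd (.nd (.lf 0x39d) (.lf 0xa17)) (.nd (.lf 0x26b) (.lf 0x94))) (.nd (.nd (.lf 0x6df) (.lf 0xd55)) (.nd (.lf 0xbe3) (.lf 0)))))))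
def tabT0_nabaaba : Tr := (.nd (.nd (.nd (.nd (.nd (.nd (.lf 0x25) (.lf 0xc0d)) (.nd (.lf 0x724) (.lf 0xbdd))) (.nd (.nd (.lf 0x3ec) (.lf 0x44c)) (.nd (.lf 0x9d4) (.lf 0x74)))) (.nd (.nd (.nd (.lf 0x219) (.lf 0xcee)) (.nd (.lf 0x895) (.lf 0xce7))) (.nd (.nd (.lf 0x592) (.lf 0xe70)) (.nd (.lf 0x25d) (.lf 0xf9a))))) (.nd (.nd (.nd (.nd (.lf 0x123) (.lf 0xbf9)) (.nd (.lf 0x7e1) (.lf 0xf2e))) (.nd (.nd (.lf 0x4bf) (.lf 0x18b)) (.nd (.lf 0x656) (.lf 0xc5c)))) (.nd (.nd (.nd (.lf 0x309) (.lf 0xd15)) (.nd (.lf 0x939) (.lf 0xc23))) (.nd (.nd (.lf 0x660) (.lf 0xa8a)) (.nd (.lf 0x4f8) (.lf 0x41f)))))) (.nd (.nd (.nd (.nd (.nd (.lf 0xa5) (.lf 0x314)) (.nd (.lf 0x3e1) (.lf 0x609))) (.nd (.nd (.lf 0x1c8) (.lf 0x8d2)) (.nd (.lf 0x291) (.lf 0xfba))))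 (.nd (.nd (.nd (.lf 0x292) (.lf 0x505)) (.nd (.lf 0x8e6) (.lf 0xd7b))) (.nd (.nd (.lf 0x5bd) (.lf 0xe99)) (.nd (.lf 0xb49) (.lf 0xfcc))))) (.nd (.nd (.nd (.nd (.lf 0x19d) (.lf 0xcbb)) (.nd (.lf 0x838) (.lf 0xe3d))) (.nd (.nd (.lf 0x528) (.lf 0xaf7)) (.nd (.lf 0x239) (.lf 0xb92)))) (.nd (.nd (.nd (.lf 0x37f) (.lf 0x875)) (.nd (.lf 0x8f1) (.lf 0x7e9))) (.nd (.nd (.lf 0x6c6) (.lf 0xc9b)) (.nd (.lf 0xbd2) (.lf 0xab6)))))))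
def tabT0_nabaabb : Tr := (.nd (.nd (.nd (.nd (.nd (.nd (.lf 0x65) (.lf 0xc2f)) (.nd (.lf 0x752) (.lf 0xf02))) (.nd (.nd (.lf 0x420) (.lf 0x3cd)) (.nd (.lf 0x9f7) (.lf 0x3eb)))) (.nd (.nd (.nd (.lf 0x256) (.lf 0xd0f)) (.nd (.lf 0x8bc) (.lf 0xf6a))) (.nd (.nd (.lf 0x1a6) (.lf 0xb6a)) (.nd (.lf 0xb24) (.lf 0xfd4))))) (.nd (.nd (.nd (.nd (.lf 0x15f) (.lf 0x520)) (.nd (.lf 0x80c) (.lf 0xf3b))) (.nd (.nd (.lf 0x4f5) (.lf 0xe3b)) (.nd (.lf 0xa8b) (.lf 0x3f9)))) (.nd (.nd (.nd (.lf 0x347) (.lf 0xd7c)) (.nd (.lf 0x6b0) (.lf 0xcc3))) (.nd (.nd (.lf 0x693) (.lf 0xd70)) (.nd (.lf 0x402) (.lf 0xa68)))))) (.nd (.nd (.nd (.nd (.nd (.lf 0xe4) (.lf 0xc66)) (.nd (.lf 0x7b4) (.lf 0x823))) (.nd (.nd (.lf 0x486) (.lf 0xe11)) (.nd (.lf 0x557) (.lf 0x8be))))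 (.nd (.nd (.nd (.lf 0x2ce) (.lf 0xd46)) (.nd (.lf 0x4d9) (.lf 0xe42))) (.nd (.nd (.lf 0x62e) (.lf 0xea9)) (.nd (.lf 0x55b) (.lf 0x733))))) (.nd (.nd (.nd (.nd (.lf 0x1db) (.lf 0xcd0)) (.nd (.lf 0x867) (.lf 0x751))) (.nd (.nd (.lf 0x560) (.lf 0xe61)) (.nd (.lf 0xae2) (.lf 0x204)))) (.nd (.nd (.nd (.lf 0x0) (.lf 0xdb0)) (.nd (.lf 0x1ea) (.lf 0xefd))) (.nd (.nd (.lf 0x6f8) (.lf 0xec4)) (.nd (.lf 0x85a) (.lf 0)))))))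
def tabT0_nababaa : Tr := (.nd (.nd (.nd (.nd (.nd (.nd (.lf 0x15) (.lf 0x569)) (.nd (.lf 0x1be) (.lf 0xbe4))) (.nd (.nd (.lf 0x3dd) (.lf 0x765)) (.nd (.lf 0x9c7) (.lf 0x8c9)))) (.nd (.nd (.nd (.lf 0x209) (.lf 0xeb)) (.nd (.lf 0x88a) (.lf 0xd44))) (.nd (.nd (.lf 0x586) (.lf 0x7a0)) (.nd (.lf 0xaf9) (.lf 0x44e))))) (.nd (.nd (.nd (.nd (.lf 0x113) (.lf 0xc75)) (.nd (.lf 0x7d6) (.lf 0x799))) (.nd (.nd (.lf 0x4b0) (.lf 0xa25)) (.nd (.lf 0xa47) (.lf 0xfc1)))) (.nd (.nd (.nd (.lf 0x2fa) (.lf 0x1d6)) (.nd (.lf 0x931) (.lf 0xd95))) (.nd (.nd (.lf 0x655) (.lf 0x7cc)) (.nd (.lf 0xb85) (.lf 0xf3e)))))) (.nd (.nd (.nd (.nd (.nd (.lf 0x95) (.lf 0x77b)) (.nd (.lf 0x776) (.lf 0x29b))) (.nd (.nd (.lf 0x444) (.lf 0xa41)) (.nd (.lf 0xa16) (.lf 0xc64))))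 (.nd (.nd (.nd (.lf 0x285) (.lf 0x62d)) (.nd (.lf 0x533) (.lf 0x503))) (.nd (.nd (.lf 0xb9) (.lf 0xd4b)) (.nd (.lf 0x1da) (.lf 0xfa6))))) (.nd (.nd (.nd (.nd (.lf 0x18e) (.lf 0xad0)) (.nd (.lf 0x730) (.lf 0x6b3))) (.nd (.nd (.lf 0x51d) (.lf 0xb5)) (.nd (.lf 0xaab) (.lf 0x722)))) (.nd (.nd (.nd (.lf 0x373) (.lf 0xd12)) (.nd (.lf 0x97e) (.lf 0x434))) (.nd (.nd (.lf 0x114) (.lf 0x6c3)) (.nd (.lf 0xbc9) (.lf 0xfdb)))))))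
def tabT0_nababab : Tr := (.nd (.nd (.nd (.nd (.nd (.nd (.lf 0x55) (.lf 0x5f1)) (.nd (.lf 0x36e) (.lf 0x8c4))) (.nd (.nd (.lf 0x415) (.lf 0xdda)) (.nd (.lf 0x9ed) (.lf 0x393)))) (.nd (.nd (.nd (.lf 0x247) (.lf 0x94b)) (.nd (.lf 0x80b) (.lf 0x679))) (.nd (.nd (.lf 0x5b8) (.lf 0xe47)) (.nd (.lf 0xa69) (.lf 0x3d9))))) (.nd (.nd (.nd (.nd (.lf 0x150) (.lf 0x821)) (.nd (.lf 0x553) (.lf 0xc3d))) (.nd (.nd (.lf 0x4e8) (.lf 0xe34)) (.nd (.lf 0xa81) (.lf 0xf86)))) (.nd (.nd (.nd (.lf 0x337) (.lf 0xd76)) (.nd (.lf 0x510) (.lf 0xb7f))) (.nd (.nd (.lf 0x686) (.lf 0xec5)) (.nd (.lf 0x8e3) (.lf 0xf68)))))) (.nd (.nd (.nd (.nd (.nd (.lf 0xd4) (.lf 0xc60)) (.nd (.lf 0x7a6) (.lf 0xf1d))) (.nd (.nd (.lf 0x477) (.lf 0xe0a)) (.nd (.lf 0x3b6) (.lf 0xe9a))))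 (.nd (.nd (.nd (.lf 0x2c0) (.lf 0x191)) (.nd (.lf 0x908) (.lf 0xf4d))) (.nd (.nd (.lf 0x621) (.lf 0xea5)) (.nd (.lf 0xa3f) (.lf 0xf71))))) (.nd (.nd (.nd (.nd (.lf 0x1cc) (.lf 0xdd)) (.nd (.lf 0x85b) (.lf 0x306))) (.nd (.nd (.lf 0x552) (.lf 0xe5d)) (.nd (.lf 0xad3) (.lf 0x1a)))) (.nd (.nd (.nd (.lf 0x3aa) (.lf 0xd4e)) (.nd (.lf 0x9a1) (.lf 0xad8))) (.nd (.nd (.lf 0x3ba) (.lf 0x31e)) (.nd (.lf 0xa4c) (.lf 0)))))))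
def tabT0_nababba : Tr := (.nd (.nd (.nd (.nd (.nd (.nd (.lf 0x35) (.lf 0xc13)) (.nd (.lf 0x72f) (.lf 0xafc))) (.nd (.nd (.lf 0x30) (.lf 0xd75)) (.nd (.lf 0x97f) (.lf 0xfab)))) (.nd (.nd (.nd (.lf 0x228) (.lf 0x2a4)) (.nd (.lf 0x8a3) (.lf 0x53f))) (.nd (.nd (.lf 0x5a0) (.lf 0x27b)) (.nd (.lf 0xb0a) (.lf 0x51a))))) (.nd (.nd (.nd (.nd (.lf 0x132) (.lf 0xa72)) (.nd (.lf 0x7ed) (.lf 0x965))) (.nd (.nd (.lf 0x4cb) (.lf 0x767)) (.nd (.lf 0xa73) (.lf 0xf11)))) (.nd (.nd (.nd (.lf 0x319) (.lf 0xd65)) (.nd (.lf 0x81a) (.lf 0xc5f))) (.nd (.nd (.lf 0x66f) (.lf 0x9dc)) (.nd (.lf 0xb97) (.lf 0xfbb)))))) (.nd (.nd (.nd (.nd (.nd (.lf 0xb4) (.lf 0xc4e)) (.nd (.lf 0x78a) (.lf 0x8a5))) (.nd (.nd (.lf 0x45d) (.lf 0x5ca)) (.nd (.lf 0x2b0) (.lf 0xba6))))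 (.nd (.nd (.nd (.lf 0x2a1) (.lf 0x923)) (.nd (.lf 0x8f4) (.lf 0x832))) (.nd (.nd (.lf 0x608) (.lf 0xa)) (.nd (.lf 0x802) (.lf 0x348))))) (.nd (.nd (.nd (.nd (.lf 0x1ad) (.lf 0xaa7)) (.nd (.lf 0x21a) (.lf 0x3a))) (.nd (.nd (.lf 0x535) (.lf 0xd33)) (.nd (.lf 0xabe) (.lf 0x774)))) (.nd (.nd (.nd (.lf 0x38f) (.lf 0xd5a)) (.nd (.lf 0x53d) (.lf 0xe44))) (.nd (.nd (.lf 0x6d3) (.lf 0x6c7)) (.nd (.lf 0xbdb) (.lf 0xa0a)))))))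
def tabT0_nababbb : Tr := (.nd (.nd (.nd (.nd (.nd (.nd (.lf 0x75) (.lf 0xb9d)) (.nd (.lf 0x75e) (.lf 0xf0a))) (.nd (.nd (.lf 0x42c) (.lf 0xdd2)) (.nd (.lf 0xa00) (.lf 0xdad)))) (.nd (.nd (.nd (.lf 0x266) (.lf 0x473)) (.nd (.lf 0x8c5) (.lf 0xdec))) (.nd (.nd (.lf 0x5d3) (.lf 0x2ac)) (.nd (.lf 0x8eb) (.lf 0x81c))))) (.nd (.nd (.nd (.nd (.lf 0x16e) (.lf 0xca3)) (.nd (.lf 0x818) (.lf 0x304))) (.nd (.nd (.lf 0x504) (.lf 0xbbf)) (.nd (.lf 0xa95) (.lf 0x4eb)))) (.nd (.nd (.nd (.lf 0x356) (.lf 0x37d)) (.nd (.lf 0x96a) (.lf 0xcdd))) (.nd (.nd (.lf 0x418) (.lf 0xa6b)) (.nd (.lf 0x4) (.lf 0x897)))))) (.nd (.nd (.nd (.nd (.nd (.lf 0xf4) (.lf 0xc6c)) (.nd (.lf 0x1d1) (.lf 0x912))) (.nd (.nd (.lf 0x18d) (.lf 0xe16)) (.nd (.lf 0x109) (.lf 0x627))))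 (.nd (.nd (.nd (.lf 0x2dd) (.lf 0xb31)) (.nd (.lf 0x91c) (.lf 0xc55))) (.nd (.nd (.lf 0x63b) (.lf 0xe35)) (.nd (.lf 0xb73) (.lf 0xc48))))) (.nd (.nd (.nd (.nd (.lf 0x1eb) (.lf 0xcd8)) (.nd (.lf 0x873) (.lf 0xe17))) (.nd (.nd (.lf 0x56e) (.lf 0xe64)) (.nd (.lf 0xae9) (.lf 0xfc5)))) (.nd (.nd (.nd (.lf 0x3c2) (.lf 0xdb7)) (.nd (.lf 0x462) (.lf 0xf9f))) (.nd (.nd (.lf 0x707) (.lf 0xeee)) (.nd (.lf 0xbf8) (.lf 0)))))))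
def tabT0_nabbaaa : Tr := (.nd (.nd (.nd (.nd (.nd (.nd (.lf 0xd) (.lf 0xc03)) (.nd (.lf 0x714) (.lf 0xc34))) (.nd (.nd (.lf 0x3d7) (.lf 0xdc1)) (.nd (.lf 0x9c1) (.lf 0x7a2)))) (.nd (.nd (.nd (.lf 0x201) (.lf 0x7d0)) (.nd (.lf 0x883) (.lf 0xf59))) (.nd (.nd (.lf 0x2dc) (.lf 0x729)) (.nd (.lf 0xaf4) (.lf 0xf2a))))) (.nd (.nd (.nd (.nd (.lf 0x10b) (.lf 0x955)) (.nd (.lf 0x2f1) (.lf 0xb89))) (.nd (.nd (.lf 0x4a9) (.lf 0x7fb)) (.nd (.lf 0x65f) (.lf 0xe22)))) (.nd (.nd (.nd (.lf 0x2f2) (.lf 0x5ec)) (.nd (.lf 0x52b) (.lf 0xf82))) (.nd (.nd (.lf 0x64d) (.lf 0xe23)) (.nd (.lf 0x5bf) (.lf 0xf3a)))))) (.nd (.nd (.nd (.nd (.nd (.lf 0x8d) (.lf 0xc3e)) (.nd (.lf 0x771) (.lf 0xd59))) (.nd (.nd (.lf 0x440) (.lf 0xdf3)) (.nd (.lf 0x852) (.lf 0x88b))))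 (.nd (.nd (.nd (.lf 0x27e) (.lf 0x8df)) (.nd (.lf 0x8d6) (.lf 0x3f3))) (.nd (.nd (.lf 0x5e9) (.lf 0x7f4)) (.nd (.lf 0xb03) (.lf 0x261))))) (.nd (.nd (.nd (.nd (.lf 0x186) (.lf 0xcaf)) (.nd (.lf 0x28f) (.lf 0x50d))) (.nd (.nd (.lf 0x518) (.lf 0xc89)) (.nd (.lf 0xaa6) (.lf 0xfb0)))) (.nd (.nd (.nd (.lf 0x277) (.lf 0x62)) (.nd (.lf 0x979) (.lf 0x738))) (.nd (.nd (.lf 0x6b2) (.lf 0x97a)) (.nd (.lf 0x863) (.lf 0x5e)))))))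
def tabT0_nabbaab : Tr := (.nd (.nd (.nd (.nd (.nd (.nd (.lf 0x4d) (.lf 0xc22)) (.nd (.lf 0x740) (.lf 0xc8d))) (.nd (.nd (.lf 0x410) (.lf 0x8f8)) (.nd (.lf 0x9ea) (.lf 0x2ae)))) (.nd (.nd (.nd (.lf 0x240) (.lf 0xc06)) (.nd (.lf 0x379) (.lf 0x517))) (.nd (.nd (.lf 0x5b2) (.lf 0x2a8)) (.nd (.lf 0xb19) (.lf 0xd71))))) (.nd (.nd (.nd (.nd (.lf 0x149) (.lf 0xc92)) (.nd (.lf 0x7fd) (.lf 0xac6))) (.nd (.nd (.lf 0x4e2) (.lf 0x988)) (.nd (.lf 0x8aa) (.lf 0xbcd)))) (.nd (.nd (.nd (.lf 0x32f) (.lf 0xb84)) (.nd (.lf 0x64c) (.lf 0xf89))) (.nd (.nd (.lf 0x16f) (.lf 0xec2)) (.nd (.lf 0xba5) (.lf 0x13e)))))) (.nd (.nd (.nd (.nd (.nd (.lf 0xcc) (.lf 0xc59)) (.nd (.lf 0x79f) (.lf 0xf1c))) (.nd (.nd (.lf 0x472) (.lf 0xe06)) (.nd (.lf 0xa3d) (.lf 0xefc))))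 (.nd (.nd (.nd (.lf 0x2b9) (.lf 0xb29)) (.nd (.lf 0x902) (.lf 0xf79))) (.nd (.nd (.lf 0x61b) (.lf 0xea2)) (.nd (.lf 0x3c) (.lf 0xfad))))) (.nd (.nd (.nd (.nd (.lf 0x1c5) (.lf 0xb69)) (.nd (.lf 0x728) (.lf 0xf4a))) (.nd (.nd (.lf 0x54b) (.lf 0xdf6)) (.nd (.lf 0xa5e) (.lf 0xfcb)))) (.nd (.nd (.nd (.lf 0x3a3) (.lf 0xda0)) (.nd (.lf 0x8ba) (.lf 0xf9b))) (.nd (.nd (.lf 0x1ca) (.lf 0xee5)) (.nd (.lf 0xa39) (.lf 0)))))))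
def tabT0_nabbaba : Tr := (.nd (.nd (.nd (.nd (.nd (.nd (.lf 0x2d) (.lf 0xc10)) (.nd (.lf 0x72a) (.lf 0xefa))) (.nd (.nd (.lf 0x3f4) (.lf 0xdcb)) (.nd (.lf 0x9d9) (.lf 0x3b0)))) (.nd (.nd (.nd (.lf 0x221) (.lf 0x1a8)) (.nd (.lf 0x89b) (.lf 0x8f5))) (.nd (.nd (.lf 0x598) (.lf 0xe76)) (.nd (.lf 0x512) (.lf 0x661))))) (.nd (.nd (.nd (.nd (.lf 0x12b) (.lf 0x960)) (.nd (.lf 0x7e6) (.lf 0xf2f))) (.nd (.nd (.lf 0x107) (.lf 0x2c9)) (.nd (.lf 0xa6d) (.lf 0x78)))) (.nd (.nd (.nd (.lf 0x311) (.lf 0xd61)) (.nd (.lf 0x93e) (.lf 0xe2e))) (.nd (.nd (.lf 0x668) (.lf 0x7e0)) (.nd (.lf 0x47f) (.lf 0xb71)))))) (.nd (.nd (.nd (.nd (.nd (.lf 0xad) (.lf 0x683)) (.nd (.lf 0x785) (.lf 0x5e0))) (.nd (.nd (.lf 0x458) (.lf 0x9ee)) (.nd (.lf 0xa28) (.lf 0x6e0))))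 (.nd (.nd (.nd (.lf 0x29a) (.lf 0x93c)) (.nd (.lf 0x8ed) (.lf 0x222))) (.nd (.nd (.lf 0x602) (.lf 0x206)) (.nd (.lf 0xa5d) (.lf 0xef7))))) (.nd (.nd (.nd (.nd (.lf 0x1a5) (.lf 0xc4a)) (.nd (.lf 0x83e) (.lf 0xdbe))) (.nd (.nd (.lf 0x530) (.lf 0xe53)) (.nd (.lf 0xab9) (.lf 0xf32)))) (.nd (.nd (.nd (.lf 0x387) (.lf 0xb2f)) (.nd (.lf 0x98d) (.lf 0xd8a))) (.nd (.nd (.lf 0x6cd) (.lf 0xbc4)) (.nd (.lf 0x229) (.lf 0x255)))))))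
def tabT0_nabbabb : Tr := (.nd (.nd (.nd (.nd (.nd (.nd (.lf 0x6d) (.lf 0x23b)) (.nd (.lf 0x55e) (.lf 0x522))) (.nd (.nd (.lf 0x425) (.lf 0xde7)) (.nd (.lf 0x9fc) (.lf 0x7de)))) (.nd (.nd (.nd (.lf 0x25e) (.lf 0xd13)) (.nd (.lf 0x809) (.lf 0xf53))) (.nd (.nd (.lf 0x4e1) (.lf 0xe89)) (.nd (.lf 0x8c8) (.lf 0xacc))))) (.nd (.nd (.nd (.nd (.lf 0x166) (.lf 0x83d)) (.nd (.lf 0x812) (.lf 0xaa4))) (.nd (.nd (.lf 0x4fd) (.lf 0x6a)) (.nd (.lf 0xa8e) (.lf 0xfc6)))) (.nd (.nd (.nd (.lf 0x151) (.lf 0xbaa)) (.nd (.lf 0x966) (.lf 0x7c1))) (.nd (.nd (.lf 0x69a) (.lf 0x73f)) (.nd (.lf 0x2b2) (.lf 0xea8)))))) (.nd (.nd (.nd (.nd (.nd (.lf 0xec) (.lf 0xb94)) (.nd (.lf 0x7bc) (.lf 0xf25))) (.nd (.nd (.lf 0x48d) (.lf 0xe12)) (.nd (.lf 0xa4b) (.lf 0xa1c))))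 (.nd (.nd (.nd (.lf 0x2d6) (.lf 0xd4c)) (.nd (.lf 0x918) (.lf 0xd86))) (.nd (.nd (.lf 0x635) (.lf 0x5c8)) (.nd (.lf 0x328) (.lf 0xf6d))))) (.nd (.nd (.nd (.nd (.lf 0x1e3) (.lf 0xcd5)) (.nd (.lf 0x86b) (.lf 0x951))) (.nd (.nd (.lf 0x416) (.lf 0xcd2)) (.nd (.lf 0x68) (.lf 0xa45)))) (.nd (.nd (.nd (.lf 0x54) (.lf 0xdb3)) (.nd (.lf 0x9ae) (.lf 0x52))) (.nd (.nd (.lf 0x6ff) (.lf 0xeed)) (.nd (.lf 0xbf6) (.lf 0)))))))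
def tabT0_nabbbaa : Tr := (.nd (.nd (.nd (.nd (.nd (.nd (.lf 0x1d) (.lf 0xc09)) (.nd (.lf 0x71f) (.lf 0xe03))) (.nd (.nd (.lf 0x3e4) (.lf 0xb10)) (.nd (.lf 0x9cd) (.lf 0x920)))) (.nd (.nd (.nd (.lf 0x211) (.lf 0xce8)) (.nd (.lf 0x88f) (.lf 0xf0c))) (.nd (.nd (.lf 0x58c) (.lf 0xba4)) (.nd (.lf 0xafa) (.lf 0xd81))))) (.nd (.nd (.nd (.nd (.lf 0x11b) (.lf 0xc7b)) (.nd (.lf 0x7db) (.lf 0xbbd))) (.nd (.nd (.lf 0x4b8) (.lf 0xcb6)) (.nd (.lf 0xa66) (.lf 0x7c6)))) (.nd (.nd (.nd (.lf 0x301) (.lf 0xd5d)) (.nd (.lf 0x935) (.lf 0xdb2))) (.nd (.nd (.lf 0x65b) (.lf 0xebc)) (.nd (.lf 0x4c) (.lf 0xfda)))))) (.nd (.nd (.nd (.nd (.nd (.lf 0x9d) (.lf 0xbca)) (.nd (.lf 0x77a) (.lf 0xbd))) (.nd (.nd (.lf 0x44b) (.lf 0xb6d)) (.nd (.lf 0xa1d) (.lf 0x246))))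 (.nd (.nd (.nd (.lf 0x28b) (.lf 0xd24)) (.nd (.lf 0x8e1) (.lf 0xf72))) (.nd (.nd (.lf 0x5f8) (.lf 0xe95)) (.nd (.lf 0x952) (.lf 0xf88))))) (.nd (.nd (.nd (.nd (.lf 0x196) (.lf 0xcad)) (.nd (.lf 0x833) (.lf 0xf42))) (.nd (.nd (.lf 0x521) (.lf 0xc07)) (.nd (.lf 0x5d2) (.lf 0xe2a)))) (.nd (.nd (.nd (.lf 0x244) (.lf 0x1bc)) (.nd (.lf 0x1e4) (.lf 0x78b))) (.nd (.nd (.lf 0x6be) (.lf 0xed6)) (.nd (.lf 0xaba) (.lf 0x859)))))))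
def tabT0_nabbbab : Tr := (.nd (.nd (.nd (.nd (.nd (.nd (.lf 0x5d) (.lf 0xc28)) (.nd (.lf 0x74c) (.lf 0xe8b))) (.nd (.nd (.lf 0x293) (.lf 0xdde)) (.nd (.lf 0x9f5) (.lf 0xbfa)))) (.nd (.nd (.nd (.lf 0x24e) (.lf 0xd09)) (.nd (.lf 0x177) (.lf 0xe7c))) (.nd (.nd (.lf 0x4b5) (.lf 0xe82)) (.nd (.lf 0xb20) (.lf 0xf52))))) (.nd (.nd (.nd (.nd (.lf 0x158) (.lf 0x6ac)) (.nd (.lf 0x15c) (.lf 0x4bd))) (.nd (.nd (.lf 0x4ef) (.lf 0x974)) (.nd (.lf 0x5c2) (.lf 0x7b9)))) (.nd (.nd (.nd (.lf 0x33f) (.lf 0x6)) (.nd (.lf 0x435) (.lf 0xf64))) (.nd (.nd (.lf 0x68c) (.lf 0x64b)) (.nd (.lf 0x3f5) (.lf 0x2aa)))))) (.nd (.nd (.nd (.nd (.nd (.lf 0xdc) (.lf 0xfd)) (.nd (.lf 0x4f2) (.lf 0xd00))) (.nd (.nd (.lf 0x47e) (.lf 0xe0e)) (.nd (.lf 0x8cc) (.lf 0xa32))))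 (.nd (.nd (.nd (.lf 0x2c6) (.lf 0x909)) (.nd (.lf 0x90d) (.lf 0x9b4))) (.nd (.nd (.lf 0x628) (.lf 0xd11)) (.nd (.lf 0xb67) (.lf 0xc73))))) (.nd (.nd (.nd (.nd (.lf 0x1d4) (.lf 0x32a)) (.nd (.lf 0x861) (.lf 0x1c4))) (.nd (.nd (.lf 0x55a) (.lf 0xb22)) (.nd (.lf 0xada) (.lf 0xd3f)))) (.nd (.nd (.nd (.lf 0x3b1) (.lf 0xda9)) (.nd (.lf 0x9a5) (.lf 0xf3c))) (.nd (.nd (.lf 0x6f1) (.lf 0x22)) (.nd (.lf 0xace) (.lf 0)))))))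
def tabT0_nabbbba : Tr := (.nd (.nd (.nd (.nd (.nd (.nd (.lf 0x3d) (.lf 0xc17)) (.nd (.lf 0x734) (.lf 0x7ee))) (.nd (.nd (.lf 0x403) (.lf 0x869)) (.nd (.lf 0x9e2) (.lf 0xb66)))) (.nd (.nd (.nd (.lf 0x230) (.lf 0xcf9)) (.nd (.lf 0x5e4) (.lf 0x99b))) (.nd (.nd (.lf 0x5a7) (.lf 0x907)) (.nd (.lf 0xb0f) (.lf 0x62f))))) (.nd (.nd (.nd (.nd (.lf 0x139) (.lf 0x934)) (.nd (.lf 0x541) (.lf 0xbb2))) (.nd (.nd (.lf 0x4d3) (.lf 0xe2d)) (.nd (.lf 0x7bd) (.lf 0xc9e)))) (.nd (.nd (.nd (.lf 0x321) (.lf 0xa2e)) (.nd (.lf 0x947) (.lf 0xba8))) (.nd (.nd (.lf 0x676) (.lf 0x3d0)) (.nd (.lf 0xb1d) (.lf 0x253)))))) (.nd (.nd (.nd (.nd (.nd (.lf 0xbc) (.lf 0x2f0)) (.nd (.lf 0x792) (.lf 0xd47))) (.nd (.nd (.lf 0x465) (.lf 0xc3b)) (.nd (.lf 0xa33) (.lf 0x1b6))))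 (.nd (.nd (.nd (.lf 0x2a9) (.lf 0xd2f)) (.nd (.lf 0x47d) (.lf 0xf78))) (.nd (.nd (.lf 0x2f9) (.lf 0x682)) (.nd (.lf 0xb58) (.lf 0xfa2))))) (.nd (.nd (.nd (.nd (.lf 0x1b5) (.lf 0x44)) (.nd (.lf 0x848) (.lf 0xc95))) (.nd (.nd (.lf 0x53c) (.lf 0xe56)) (.nd (.lf 0x753) (.lf 0xa92)))) (.nd (.nd (.nd (.lf 0x395) (.lf 0x709)) (.nd (.lf 0x689) (.lf 0xf5e))) (.nd (.nd (.lf 0x6d8) (.lf 0xb0d)) (.nd (.lf 0xbde) (.lf 0)))))))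
def tabT0_nabbbbb : Tr := (.nd (.nd (.nd (.nd (.nd (.nd (.lf 0x7d) (.lf 0xc39)) (.nd (.lf 0x73c) (.lf 0x5c6))) (.nd (.nd (.lf 0x433) (.lf 0xded)) (.nd (.lf 0xa06) (.lf 0xf1a)))) (.nd (.nd (.nd (.lf 0x26e) (.lf 0xd18)) (.nd (.lf 0x8cb) (.lf 0xeb7))) (.nd (.nd (.lf 0x5db) (.lf 0x968)) (.nd (.lf 0xb34) (.lf 0x854))))) (.nd (.nd (.nd (.nd (.lf 0x176) (.lf 0xca8)) (.nd (.lf 0x81d) (.lf 0x4e9))) (.nd (.nd (.lf 0x50b) (.lf 0xe43)) (.nd (.lf 0xa9c) (.lf 0x645)))) (.nd (.nd (.nd (.lf 0x35d) (.lf 0x6dc)) (.nd (.lf 0x970) (.lf 0xdfd))) (.nd (.nd (.lf 0x11c) (.lf 0xecf)) (.nd (.lf 0xbba) (.lf 0xdd9)))))) (.nd (.nd (.nd (.nd (.nd (.lf 0xfc) (.lf 0xc70)) (.nd (.lf 0x7c7) (.lf 0xe28))) (.nd (.nd (.lf 0x49b) (.lf 0x6f5)) (.nd (.lf 0x770) (.lf 0x3e3))))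 (.nd (.nd (.nd (.lf 0x2e4) (.lf 0xb15)) (.nd (.lf 0x921) (.lf 0xeb4))) (.nd (.nd (.lf 0x642) (.lf 0x2e0)) (.nd (.lf 0xb7a) (.lf 0xfd5))))) (.nd (.nd (.nd (.nd (.lf 0x1f2) (.lf 0x23f)) (.nd (.lf 0x879) (.lf 0x88e))) (.nd (.nd (.lf 0x36b) (.lf 0x355)) (.nd (.lf 0x8fd) (.lf 0xc8f)))) (.nd (.nd (.nd (.lf 0x3c8) (.lf 0x7ce)) (.nd (.lf 0x9ba) (.lf 0xf03))) (.nd (.nd (.lf 0xe7) (.lf 0xef0)) (.nd (.lf 0xbfd) (.lf 0)))))))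
def tabT0_nbaaaaa : Tr := (.nd (.nd (.nd (.nd (.nd (.nd (.lf 0x3) (.lf 0x2e)) (.nd (.lf 0x70f) (.lf 0xef2))) (.nd (.nd (.lf 0x3ce) (.lf 0xdbb)) (.nd (.lf 0x731) (.lf 0x90)))) (.nd (.nd (.nd (.lf 0x1f7) (.lf 0xcdc)) (.nd (.lf 0x87c) (.lf 0xef4))) (.nd (.nd (.lf 0x579) (.lf 0x543)) (.nd (.lf 0xaf0) (.lf 0xe8d))))) (.nd (.nd (.nd (.nd (.lf 0x102) (.lf 0x87b)) (.nd (.lf 0x7ca) (.lf 0xbe8))) (.nd (.nd (.lf 0x3a8) (.lf 0xb1)) (.nd (.lf 0xa57) (.lf 0xe86)))) (.nd (.nd (.nd (.lf 0x2ea) (.lf 0xd53)) (.nd (.lf 0x924) (.lf 0xe05))) (.nd (.nd (.lf 0x648) (.lf 0xeb2)) (.nd (.lf 0xb7d) (.lf 0xf7)))))) (.nd (.nd (.nd (.nd (.nd (.lf 0x83) (.lf 0x4ff)) (.nd (.lf 0x76a) (.lf 0xb2b))) (.nd (.nd (.lf 0x437) (.lf 0x171)) (.nd (.lf 0x99a) (.lf 0x9e9))))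 (.nd (.nd (.nd (.lf 0x274) (.lf 0xd1b)) (.nd (.lf 0x12) (.lf 0xda8))) (.nd (.nd (.lf 0x5e1) (.lf 0xa8f)) (.nd (.lf 0xd7) (.lf 0x9e7))))) (.nd (.nd (.nd (.nd (.lf 0x17c) (.lf 0xcab)) (.nd (.lf 0x718) (.lf 0x336))) (.nd (.nd (.lf 0x50f) (.lf 0xe45)) (.nd (.lf 0x88d) (.lf 0xf5b)))) (.nd (.nd (.nd (.lf 0x28e) (.lf 0xb1a)) (.nd (.lf 0x128) (.lf 0xf8f))) (.nd (.nd (.lf 0x6a9) (.lf 0xb3a)) (.nd (.lf 0xbbe) (.lf 0xf84)))))))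
def tabT0_nbaaaab : Tr := (.nd (.nd (.nd (.nd (.nd (.nd (.lf 0x43) (.lf 0xc1d)) (.nd (.lf 0x110) (.lf 0xefb))) (.nd (.nd (.lf 0x58) (.lf 0x386)) (.nd (.lf 0x9e4) (.lf 0xfae)))) (.nd (.nd (.nd (.lf 0x236) (.lf 0xc01)) (.nd (.lf 0x580) (.lf 0xd1f))) (.nd (.nd (.lf 0x5ab) (.lf 0xcbe)) (.nd (.lf 0xb13) (.lf 0x5de))))) (.nd (.nd (.nd (.nd (.lf 0x13f) (.lf 0x9bf)) (.nd (.lf 0x565) (.lf 0xb8c))) (.nd (.nd (.lf 0x4d8) (.lf 0x92a)) (.nd (.lf 0xa78) (.lf 0x2cd)))) (.nd (.nd (.nd (.lf 0x325) (.lf 0xad2)) (.nd (.lf 0x94a) (.lf 0xf65))) (.nd (.nd (.lf 0x67b) (.lf 0x490)) (.nd (.lf 0xba0) (.lf 0xe8c)))))) (.nd (.nd (.nd (.nd (.nd (.lf 0xc2) (.lf 0xc56)) (.nd (.lf 0x3f7) (.lf 0xea7))) (.nd (.nd (.lf 0x469) (.lf 0xe04)) (.nd (.lf 0xa37) (.lf 0xadb))))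 (.nd (.nd (.nd (.lf 0x2af) (.lf 0xd34)) (.nd (.lf 0x8fc) (.lf 0xe1d))) (.nd (.nd (.lf 0x612) (.lf 0xe9f)) (.nd (.lf 0xd3) (.lf 0xf5a))))) (.nd (.nd (.nd (.nd (.lf 0x1bb) (.lf 0xb0c)) (.nd (.lf 0x84e) (.lf 0xd36))) (.nd (.nd (.lf 0x542) (.lf 0xe2f)) (.nd (.lf 0x60b) (.lf 0xee9)))) (.nd (.nd (.nd (.lf 0x39b) (.lf 0x54f)) (.nd (.lf 0x999) (.lf 0xe1c))) (.nd (.nd (.lf 0x6dd) (.lf 0xee3)) (.nd (.lf 0xbe2) (.lf 0)))))))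
def tabT0_nbaaaba : Tr := (.nd (.nd (.nd (.nd (.nd (.nd (.lf 0x23) (.lf 0x3d2)) (.nd (.lf 0x4e7) (.lf 0x6f2))) (.nd (.nd (.lf 0x3ea) (.lf 0x700)) (.nd (.lf 0x9d2) (.lf 0xf1b)))) (.nd (.nd (.nd (.lf 0x217) (.lf 0xcec)) (.nd (.lf 0x893) (.lf 0x98f))) (.nd (.nd (.lf 0x591) (.lf 0x7ab)) (.nd (.lf 0xb02) (.lf 0x9de))))) (.nd (.nd (.nd (.nd (.lf 0x121) (.lf 0xc7e)) (.nd (.lf 0x7ac) (.lf 0x9e8))) (.nd (.nd (.lf 0x49a) (.lf 0x948)) (.nd (.lf 0x76c) (.lf 0xd40)))) (.nd (.nd (.nd (.lf 0x307) (.lf 0x96e)) (.nd (.lf 0x92e) (.lf 0x3ed))) (.nd (.nd (.lf 0x398) (.lf 0x68b)) (.nd (.lf 0xb8d) (.lf 0xf37)))))) (.nd (.nd (.nd (.nd (.nd (.lf 0xa3) (.lf 0xaec)) (.nd (.lf 0x77e) (.lf 0xd17))) (.nd (.nd (.lf 0x451) (.lf 0xd66)) (.nd (.lf 0xa21) (.lf 0x22d))))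 (.nd (.nd (.nd (.lf 0x290) (.lf 0xb14)) (.nd (.lf 0x704) (.lf 0xf4f))) (.nd (.nd (.lf 0x4c2) (.lf 0xe97)) (.nd (.lf 0x17f) (.lf 0xf22))))) (.nd (.nd (.nd (.nd (.lf 0x19b) (.lf 0x105)) (.nd (.lf 0x836) (.lf 0xf43))) (.nd (.nd (.lf 0x526) (.lf 0xbf2)) (.nd (.lf 0xab3) (.lf 0xc21)))) (.nd (.nd (.nd (.lf 0x37e) (.lf 0x338)) (.nd (.lf 0x987) (.lf 0xb7c))) (.nd (.nd (.lf 0x6c4) (.lf 0x3dc)) (.nd (.lf 0xb74) (.lf 0xfd8)))))))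
def tabT0_nbaaabb : Tr := (.nd (.nd (.nd (.nd (.nd (.nd (.lf 0x63) (.lf 0xa2b)) (.nd (.lf 0x750) (.lf 0x4b1))) (.nd (.nd (.lf 0x330) (.lf 0xde1)) (.nd (.lf 0x6d9) (.lf 0x4fc)))) (.nd (.nd (.nd (.lf 0x254) (.lf 0xd0e)) (.nd (.lf 0x7a) (.lf 0xf69))) (.nd (.nd (.lf 0x5c5) (.lf 0x96c)) (.nd (.lf 0x7c) (.lf 0x3ef))))) (.nd (.nd (.nd (.nd (.lf 0x15d) (.lf 0x6a3)) (.nd (.lf 0xbb) (.lf 0x75f))) (.nd (.nd (.lf 0x4f4) (.lf 0xc4f)) (.nd (.lf 0x5ad) (.lf 0x4a6)))) (.nd (.nd (.nd (.lf 0x345) (.lf 0x913)) (.nd (.lf 0x857) (.lf 0x5e6))) (.nd (.nd (.lf 0x691) (.lf 0x8a9)) (.nd (.lf 0xbae) (.lf 0xf61)))))) (.nd (.nd (.nd (.nd (.nd (.lf 0xe2) (.lf 0x977)) (.nd (.lf 0x7b2) (.lf 0xe5f))) (.nd (.nd (.lf 0x484) (.lf 0x340)) (.nd (.lf 0x87d) (.lf 0x60f))))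 (.nd (.nd (.nd (.lf 0x2cc) (.lf 0xce0)) (.nd (.lf 0x5ea) (.lf 0xf7d))) (.nd (.nd (.lf 0x478) (.lf 0xe74)) (.nd (.lf 0xb46) (.lf 0x34a))))) (.nd (.nd (.nd (.nd (.lf 0x1d9) (.lf 0xccf)) (.nd (.lf 0x866) (.lf 0x98a))) (.nd (.nd (.lf 0x55f) (.lf 0x392)) (.nd (.lf 0xae0) (.lf 0xecb)))) (.nd (.nd (.nd (.lf 0x138) (.lf 0xdae)) (.nd (.lf 0xd1) (.lf 0x837))) (.nd (.nd (.lf 0x6f6) (.lf 0xb12)) (.nd (.lf 0x8bd) (.lf 0)))))))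
def tabT0_nbaabaa : Tr := (.nd (.nd (.nd (.nd (.nd (.nd (.lf 0x13) (.lf 0x570)) (.nd (.lf 0x363) (.lf 0x441))) (.nd (.nd (.lf 0x3db) (.lf 0xdc2)) (.nd (.lf 0x9c5) (.lf 0xb23)))) (.nd (.nd (.nd (.lf 0x207) (.lf 0xce2)) (.nd (.lf 0x888) (.lf 0xc))) (.nd (.nd (.lf 0x584) (.lf 0xe6d)) (.nd (.lf 0xaf8) (.lf 0xdc0))))) (.nd (.nd (.nd (.nd (.lf 0x111) (.lf 0x8a7)) (.nd (.lf 0x6d1) (.lf 0xf2b))) (.nd (.nd (.lf 0x4ae) (.lf 0x2c1)) (.nd (.lf 0xa60) (.lf 0xfc0)))) (.nd (.nd (.nd (.lf 0x2f8) (.lf 0x1ba)) (.nd (.lf 0x92f) (.lf 0xf83))) (.nd (.nd (.lf 0x653) (.lf 0xcb2)) (.nd (.lf 0x694) (.lf 0xc0a)))))) (.nd (.nd (.nd (.nd (.nd (.lf 0x93) (.lf 0x735)) (.nd (.lf 0x65c) (.lf 0x1b8))) (.nd (.nd (.lf 0x443) (.lf 0xdf5)) (.nd (.lf 0xa15) (.lf 0xb57))))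 (.nd (.nd (.nd (.lf 0x283) (.lf 0x2ee)) (.nd (.lf 0x8db) (.lf 0x18))) (.nd (.nd (.lf 0x5ef) (.lf 0xe91)) (.nd (.lf 0x3fc) (.lf 0xb53))))) (.nd (.nd (.nd (.nd (.lf 0x18c) (.lf 0xc16)) (.nd (.lf 0x82c) (.lf 0xebe))) (.nd (.nd (.lf 0x51c) (.lf 0x795)) (.nd (.lf 0xaa9) (.lf 0x5fc)))) (.nd (.nd (.nd (.lf 0x371) (.lf 0xbcf)) (.nd (.lf 0x7b7) (.lf 0xa54))) (.nd (.nd (.lf 0x6b7) (.lf 0x95b)) (.nd (.lf 0xbc7) (.lf 0xf26)))))))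
def tabT0_nbaabab : Tr := (.nd (.nd (.nd (.nd (.nd (.nd (.lf 0x53) (.lf 0xc25)) (.nd (.lf 0x744) (.lf 0xc72))) (.nd (.nd (.lf 0x414) (.lf 0x789)) (.nd (.lf 0x9d5) (.lf 0xc94)))) (.nd (.nd (.nd (.lf 0x245) (.lf 0xd04)) (.nd (.lf 0x8b1) (.lf 0xed5))) (.nd (.nd (.lf 0x5b6) (.lf 0xe80)) (.nd (.lf 0xb1c) (.lf 0x64e))))) (.nd (.nd (.nd (.nd (.lf 0x14f) (.lf 0x670)) (.nd (.lf 0x183) (.lf 0xba1))) (.nd (.nd (.lf 0x1d5) (.lf 0x359)) (.nd (.lf 0x4d5) (.lf 0x9ec)))) (.nd (.nd (.nd (.lf 0x335) (.lf 0x8ce)) (.nd (.lf 0x956) (.lf 0xf35))) (.nd (.nd (.lf 0x28a) (.lf 0xc1e)) (.nd (.lf 0x9ac) (.lf 0x9ca)))))) (.nd (.nd (.nd (.nd (.nd (.lf 0xd2) (.lf 0xc5e)) (.nd (.lf 0x7a4) (.lf 0xc61))) (.nd (.nd (.lf 0x456) (.lf 0x5cd)) (.nd (.lf 0xa40) (.lf 0x624))))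 (.nd (.nd (.nd (.lf 0x2be) (.lf 0xd3b)) (.nd (.lf 0x906) (.lf 0x8ee))) (.nd (.nd (.lf 0x326) (.lf 0xea4)) (.nd (.lf 0xb62) (.lf 0xb6f))))) (.nd (.nd (.nd (.nd (.lf 0x1cb) (.lf 0xccb)) (.nd (.lf 0x2bd) (.lf 0x79c))) (.nd (.nd (.lf 0x550) (.lf 0x3a2)) (.nd (.lf 0xad1) (.lf 0x649)))) (.nd (.nd (.nd (.lf 0x25b) (.lf 0x80e)) (.nd (.lf 0x9a0) (.lf 0x37c))) (.nd (.nd (.lf 0x55d) (.lf 0x65a)) (.nd (.lf 0x994) (.lf 0)))))))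
def tabT0_nbaabba : Tr := (.nd (.nd (.nd (.nd (.nd (.nd (.lf 0x33) (.lf 0xc11)) (.nd (.lf 0x72e) (.lf 0xe3a))) (.nd (.nd (.lf 0x3fa) (.lf 0xdcf)) (.nd (.lf 0x9dd) (.lf 0xfaa)))) (.nd (.nd (.nd (.lf 0x226) (.lf 0x17b)) (.nd (.lf 0x8a1) (.lf 0x1ae))) (.nd (.nd (.lf 0x59e) (.lf 0x67e)) (.nd (.lf 0x99c) (.lf 0x7e3))))) (.nd (.nd (.nd (.nd (.lf 0x131) (.lf 0xc85)) (.nd (.lf 0x7eb) (.lf 0x4a0))) (.nd (.nd (.lf 0x4c9) (.lf 0xd6e)) (.nd (.lf 0xa71) (.lf 0x5a1)))) (.nd (.nd (.nd (.lf 0x317) (.lf 0x214)) (.nd (.lf 0x942) (.lf 0xf85))) (.nd (.nd (.lf 0x66d) (.lf 0x8a2)) (.nd (.lf 0x279) (.lf 0xf27)))))) (.nd (.nd (.nd (.nd (.nd (.lf 0xb2) (.lf 0xc4c)) (.nd (.lf 0x6ea) (.lf 0xe21))) (.nd (.nd (.lf 0x45c) (.lf 0xd3a)) (.nd (.lf 0xa2c) (.lf 0x723))))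 (.nd (.nd (.nd (.lf 0x29f) (.lf 0x2d9)) (.nd (.lf 0x8f2) (.lf 0xf76))) (.nd (.nd (.lf 0x607) (.lf 0xe9d)) (.nd (.lf 0x8da) (.lf 0xf9c))))) (.nd (.nd (.nd (.nd (.lf 0x1ab) (.lf 0x3ae)) (.nd (.lf 0x42f) (.lf 0xbee))) (.nd (.nd (.lf 0x534) (.lf 0xa48)) (.nd (.lf 0xabd) (.lf 0x199)))) (.nd (.nd (.nd (.lf 0x38d) (.lf 0xd98)) (.nd (.lf 0x3f1) (.lf 0xc36))) (.nd (.nd (.lf 0x6d2) (.lf 0x41a)) (.nd (.lf 0xbd9) (.lf 0x12e)))))))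
def tabT0_nbaabbb : Tr := (.nd (.nd (.nd (.nd (.nd (.nd (.lf 0x73) (.lf 0x6f7)) (.nd (.lf 0x75d) (.lf 0xf09))) (.nd (.nd (.lf 0x1fc) (.lf 0xb21)) (.nd (.lf 0x9ff) (.lf 0x312)))) (.nd (.nd (.nd (.lf 0x264) (.lf 0x79a)) (.nd (.lf 0x38a) (.lf 0x815))) (.nd (.nd (.lf 0x5d1) (.lf 0x142)) (.nd (.lf 0xb2d) (.lf 0xf5d))))) (.nd (.nd (.nd (.nd (.lf 0x16c) (.lf 0xca2)) (.nd (.lf 0x816) (.lf 0xe6f))) (.nd (.nd (.lf 0x502) (.lf 0x382)) (.nd (.lf 0xa93) (.lf 0x567)))) (.nd (.nd (.nd (.lf 0x354) (.lf 0xd7f)) (.nd (.lf 0x8f9) (.lf 0xf5c))) (.nd (.nd (.lf 0x69e) (.lf 0xcd)) (.nd (.lf 0xbb6) (.lf 0xdbc)))))) (.nd (.nd (.nd (.nd (.nd (.lf 0xf2) (.lf 0x519)) (.nd (.lf 0x4ac) (.lf 0x413))) (.nd (.nd (.lf 0x493) (.lf 0xe14)) (.nd (.lf 0xa4e) (.lf 0xf6e))))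 (.nd (.nd (.nd (.lf 0x2db) (.lf 0xcaa)) (.nd (.lf 0x67f) (.lf 0xf7f))) (.nd (.nd (.lf 0x63a) (.lf 0xeaf)) (.nd (.lf 0x747) (.lf 0xb09))))) (.nd (.nd (.nd (.nd (.lf 0x1e9) (.lf 0xcd6)) (.nd (.lf 0x871) (.lf 0x710))) (.nd (.nd (.lf 0x56c) (.lf 0xaf6)) (.nd (.lf 0xae7) (.lf 0xc86)))) (.nd (.nd (.nd (.lf 0x3c1) (.lf 0xdb6)) (.nd (.lf 0x9b2) (.lf 0x619))) (.nd (.nd (.lf 0x705) (.lf 0xe9e)) (.nd (.lf 0x7dc) (.lf 0)))))))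
def tabT0_nbabaaa : Tr := (.nd (.nd (.nd (.nd (.nd (.nd (.lf 0xb) (.lf 0x86a)) (.nd (.lf 0x712) (.lf 0xb8f))) (.nd (.nd (.lf 0x3d5) (.lf 0x9b6)) (.nd (.lf 0x9c0) (.lf 0xf50)))) (.nd (.nd (.nd (.lf 0x1ff) (.lf 0x77f)) (.nd (.lf 0x881) (.lf 0xf58))) (.nd (.nd (.lf 0x57f) (.lf 0xe1)) (.nd (.lf 0xaf3) (.lf 0xc93))))) (.nd (.nd (.nd (.nd (.lf 0x10a) (.lf 0x59f)) (.nd (.lf 0x7cf) (.lf 0xa5b))) (.nd (.nd (.lf 0x4a7) (.lf 0xbd4)) (.nd (.lf 0xa5c) (.lf 0xfbf)))) (.nd (.nd (.nd (.lf 0x1cf) (.lf 0xd58)) (.nd (.lf 0x928) (.lf 0xac7))) (.nd (.nd (.lf 0xc3) (.lf 0xe72)) (.nd (.lf 0x3b5) (.lf 0xfca)))))) (.nd (.nd (.nd (.nd (.nd (.lf 0x8b) (.lf 0xf3)) (.nd (.lf 0x76f) (.lf 0xf12))) (.nd (.nd (.lf 0x43e) (.lf 0xb80)) (.nd (.lf 0x19a) (.lf 0xfb7))))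 (.nd (.nd (.nd (.lf 0x27c) (.lf 0x68e)) (.nd (.lf 0x8d4) (.lf 0x27d))) (.nd (.nd (.lf 0x5e7) (.lf 0x60e)) (.nd (.lf 0xb3e) (.lf 0xfd7))))) (.nd (.nd (.nd (.nd (.lf 0x184) (.lf 0xcae)) (.nd (.lf 0x827) (.lf 0x641))) (.nd (.nd (.lf 0x516) (.lf 0xe48)) (.nd (.lf 0x971) (.lf 0x57d)))) (.nd (.nd (.nd (.lf 0x36a) (.lf 0x8ec)) (.nd (.lf 0x978) (.lf 0xd2e))) (.nd (.nd (.lf 0x4d4) (.lf 0xed2)) (.nd (.lf 0xbc1) (.lf 0xfce)))))))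
def tabT0_nbabaab : Tr := (.nd (.nd (.nd (.nd (.nd (.nd (.lf 0x4b) (.lf 0x1ec)) (.nd (.lf 0x73e) (.lf 0x20a))) (.nd (.nd (.lf 0x40e) (.lf 0xdd7)) (.nd (.lf 0x5a3) (.lf 0xcc6)))) (.nd (.nd (.nd (.lf 0x23e) (.lf 0xcfe)) (.nd (.lf 0x8ad) (.lf 0xcb8))) (.nd (.nd (.lf 0x5b0) (.lf 0xe7e)) (.nd (.lf 0xb18) (.lf 0x409))))) (.nd (.nd (.nd (.nd (.lf 0x147) (.lf 0xc91)) (.nd (.lf 0x1d3) (.lf 0x438))) (.nd (.nd (.lf 0x4e0) (.lf 0xe32)) (.nd (.lf 0xa7b) (.lf 0xc9f)))) (.nd (.nd (.nd (.lf 0x32d) (.lf 0xcde)) (.nd (.lf 0x950) (.lf 0xd38))) (.nd (.nd (.lf 0x681) (.lf 0xa23)) (.nd (.lf 0x737) (.lf 0xa43)))))) (.nd (.nd (.nd (.nd (.nd (.lf 0xca) (.lf 0x8b3)) (.nd (.lf 0x79d) (.lf 0xcac))) (.nd (.nd (.lf 0x470) (.lf 0xd69)) (.nd (.lf 0xa3c) (.lf 0xbbb))))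 (.nd (.nd (.nd (.lf 0x2b7) (.lf 0xd37)) (.nd (.lf 0x901) (.lf 0xe3f))) (.nd (.nd (.lf 0x61a) (.lf 0x3ab)) (.nd (.lf 0x31c) (.lf 0xe90))))) (.nd (.nd (.nd (.nd (.lf 0x1c3) (.lf 0x11e)) (.nd (.lf 0x855) (.lf 0xf33))) (.nd (.nd (.lf 0x549) (.lf 0xe5a)) (.nd (.lf 0x148) (.lf 0x3b2)))) (.nd (.nd (.nd (.lf 0x3a1) (.lf 0x6e2)) (.nd (.lf 0x99d) (.lf 0xd9b))) (.nd (.nd (.lf 0x620) (.lf 0xc08)) (.nd (.lf 0xbe6) (.lf 0)))))))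
def tabT0_nbababa : Tr := (.nd (.nd (.nd (.nd (.nd (.nd (.lf 0x2b) (.lf 0x9b1)) (.nd (.lf 0x3c9) (.lf 0xc3a))) (.nd (.nd (.lf 0x3f2) (.lf 0x8f3)) (.nd (.lf 0x9d7) (.lf 0xcda)))) (.nd (.nd (.nd (.lf 0x21f) (.lf 0xcf2)) (.nd (.lf 0x89a) (.lf 0x424))) (.nd (.nd (.lf 0x597) (.lf 0xa84)) (.nd (.lf 0xb06) (.lf 0xe7a))))) (.nd (.nd (.nd (.nd (.lf 0x129) (.lf 0xc82)) (.nd (.lf 0x7e5) (.lf 0x120))) (.nd (.nd (.lf 0x4c4) (.lf 0xb5f)) (.nd (.lf 0xa6c) (.lf 0x5bb)))) (.nd (.nd (.nd (.lf 0x30f) (.lf 0x889)) (.nd (.lf 0x93d) (.lf 0x539))) (.nd (.nd (.lf 0x666) (.lf 0x1ac)) (.nd (.lf 0xb91) (.lf 0xc7a)))))) (.nd (.nd (.nd (.nd (.nd (.lf 0xab) (.lf 0x658)) (.nd (.lf 0x783) (.lf 0x944))) (.nd (.nd (.lf 0x334) (.lf 0xc81)) (.nd (.lf 0xa26) (.lf 0xcb4))))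 (.nd (.nd (.nd (.lf 0x298) (.lf 0x8e5)) (.nd (.lf 0x71e) (.lf 0xf75))) (.nd (.nd (.lf 0x601) (.lf 0xc87)) (.nd (.lf 0xb4c) (.lf 0xdaf))))) (.nd (.nd (.nd (.nd (.lf 0x1a3) (.lf 0xcbd)) (.nd (.lf 0x696) (.lf 0xf45))) (.nd (.nd (.lf 0x52e) (.lf 0xe52)) (.nd (.lf 0xab7) (.lf 0xe4e)))) (.nd (.nd (.nd (.lf 0x385) (.lf 0x56)) (.nd (.lf 0xdf) (.lf 0x851))) (.nd (.nd (.lf 0x53b) (.lf 0x90b)) (.nd (.lf 0xa94) (.lf 0xa9b)))))))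
def tabT0_nbababb : Tr := (.nd (.nd (.nd (.nd (.nd (.nd (.lf 0x6b) (.lf 0xc32)) (.nd (.lf 0x5b3) (.lf 0xf04))) (.nd (.nd (.lf 0x423) (.lf 0x9b3)) (.nd (.lf 0x9fa) (.lf 0x7d5)))) (.nd (.nd (.nd (.lf 0x25c) (.lf 0x73d)) (.nd (.lf 0x76d) (.lf 0xa6a))) (.nd (.nd (.lf 0x5cb) (.lf 0xe87)) (.nd (.lf 0x4a4) (.lf 0x13c))))) (.nd (.nd (.nd (.nd (.lf 0x165) (.lf 0x85f)) (.nd (.lf 0x810) (.lf 0xef8))) (.nd (.nd (.lf 0x4fb) (.lf 0x5fb)) (.nd (.lf 0x772) (.lf 0xabf)))) (.nd (.nd (.nd (.lf 0x34d) (.lf 0xd7d)) (.nd (.lf 0x964) (.lf 0x983))) (.nd (.nd (.lf 0x699) (.lf 0x7af)) (.nd (.lf 0x8fb) (.lf 0x51b)))))) (.nd (.nd (.nd (.nd (.nd (.lf 0xea) (.lf 0xb7b)) (.nd (.lf 0x7ba) (.lf 0x496))) (.nd (.nd (.lf 0x48c) (.lf 0x130)) (.nd (.lf 0xa4a) (.lf 0xfa8))))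 (.nd (.nd (.nd (.lf 0x2d4) (.lf 0xd4a)) (.nd (.lf 0x7fc) (.lf 0xddb))) (.nd (.nd (.lf 0x633) (.lf 0xaaa)) (.nd (.lf 0xf9) (.lf 0xc6f))))) (.nd (.nd (.nd (.nd (.lf 0x1e1) (.lf 0xcd4)) (.nd (.lf 0x39c) (.lf 0x7ff))) (.nd (.nd (.lf 0x566) (.lf 0x63e)) (.nd (.lf 0x936) (.lf 0xf8e)))) (.nd (.nd (.nd (.lf 0x3bb) (.lf 0x360)) (.nd (.lf 0x9ad) (.lf 0x41c))) (.nd (.nd (.lf 0x6fd) (.lf 0xdc9)) (.nd (.lf 0xbf4) (.lf 0)))))))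
def tabT0_nbabbaa : Tr := (.nd (.nd (.nd (.nd (.nd (.nd (.lf 0x1b) (.lf 0x3e7)) (.nd (.lf 0x71d) (.lf 0x80))) (.nd (.nd (.lf 0x3e2) (.lf 0xdc6)) (.nd (.lf 0x9cc) (.lf 0x40)))) (.nd (.nd (.nd (.lf 0x20f) (.lf 0x46f)) (.nd (.lf 0x251) (.lf 0xc12))) (.nd (.nd (.lf 0x58b) (.lf 0x39e)) (.nd (.lf 0xaff) (.lf 0xdfc))))) (.nd (.nd (.nd (.nd (.lf 0x119) (.lf 0x189)) (.nd (.lf 0x7d9) (.lf 0xd26))) (.nd (.nd (.lf 0x4b6) (.lf 0x845)) (.nd (.lf 0xa64) (.lf 0x19c)))) (.nd (.nd (.nd (.lf 0x2ff) (.lf 0x287)) (.nd (.lf 0x933) (.lf 0xf70))) (.nd (.nd (.lf 0x26f) (.lf 0xd2c)) (.nd (.lf 0xb88) (.lf 0xfb4)))))) (.nd (.nd (.nd (.nd (.nd (.lf 0x9b) (.lf 0xc44)) (.nd (.lf 0xfb) (.lf 0xe0f))) (.nd (.nd (.lf 0x449) (.lf 0xdf9)) (.nd (.lf 0xa1b) (.lf 0x351))))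 (.nd (.nd (.nd (.lf 0x289) (.lf 0xd22)) (.nd (.lf 0x6b1) (.lf 0xf5))) (.nd (.nd (.lf 0x5f6) (.lf 0xc9c)) (.nd (.lf 0xb45) (.lf 0xe07))))) (.nd (.nd (.nd (.nd (.lf 0x194) (.lf 0xcb5)) (.nd (.lf 0x447) (.lf 0xedc))) (.nd (.nd (.lf 0x411) (.lf 0x8cd)) (.nd (.lf 0xaaf) (.lf 0x1c2)))) (.nd (.nd (.nd (.lf 0x378) (.lf 0xc9)) (.nd (.lf 0x2fb) (.lf 0xf95))) (.nd (.nd (.lf 0x6bc) (.lf 0xa87)) (.nd (.lf 0xbce) (.lf 0x6da)))))))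
def tabT0_nbabbab : Tr := (.nd (.nd (.nd (.nd (.nd (.nd (.lf 0x5b) (.lf 0xc27)) (.nd (.lf 0x74a) (.lf 0xb3c))) (.nd (.nd (.lf 0x419) (.lf 0xddd)) (.nd (.lf 0x9f3) (.lf 0xfb3)))) (.nd (.nd (.nd (.lf 0x24c) (.lf 0xd07)) (.nd (.lf 0x8b6) (.lf 0x96))) (.nd (.nd (.lf 0x5be) (.lf 0xde3)) (.nd (.lf 0x210) (.lf 0x498))))) (.nd (.nd (.nd (.nd (.lf 0x156) (.lf 0xc98)) (.nd (.lf 0x807) (.lf 0x961))) (.nd (.nd (.lf 0x4ed) (.lf 0xe38)) (.nd (.lf 0xa85) (.lf 0x82d)))) (.nd (.nd (.nd (.lf 0x33d) (.lf 0x12c)) (.nd (.lf 0x122) (.lf 0x5f7))) (.nd (.nd (.lf 0x68a) (.lf 0xec8)) (.nd (.lf 0xbab) (.lf 0x899)))))) (.nd (.nd (.nd (.nd (.nd (.lf 0xda) (.lf 0x793)) (.nd (.lf 0x9a) (.lf 0xa88))) (.nd (.nd (.lf 0x47c) (.lf 0xe0d)) (.nd (.lf 0x986) (.lf 0xf81))))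 (.nd (.nd (.nd (.lf 0x2c5) (.lf 0xd3e)) (.nd (.lf 0x3d4) (.lf 0xf7a))) (.nd (.nd (.lf 0x626) (.lf 0x2a6)) (.nd (.lf 0xb65) (.lf 0xfc9))))) (.nd (.nd (.nd (.nd (.lf 0x1d2) (.lf 0x353)) (.nd (.lf 0x860) (.lf 0xe8f))) (.nd (.nd (.lf 0x558) (.lf 0x21c)) (.nd (.lf 0xad9) (.lf 0xa52)))) (.nd (.nd (.nd (.lf 0x3af) (.lf 0xda7)) (.nd (.lf 0x9a4) (.lf 0xf4c))) (.nd (.nd (.lf 0x6ef) (.lf 0xee8)) (.nd (.lf 0xb3f) (.lf 0)))))))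
def tabT0_nbabbba : Tr := (.nd (.nd (.nd (.nd (.nd (.nd (.lf 0x3b) (.lf 0xc1)) (.nd (.lf 0x732) (.lf 0xef1))) (.nd (.nd (.lf 0x401) (.lf 0xdd1)) (.nd (.lf 0x9e0) (.lf 0xfac)))) (.nd (.nd (.nd (.lf 0x22e) (.lf 0xcf8)) (.nd (.lf 0x377) (.lf 0xf51))) (.nd (.nd (.lf 0x5a6) (.lf 0x200)) (.nd (.lf 0xb0e) (.lf 0xbe7))))) (.nd (.nd (.nd (.nd (.lf 0x137) (.lf 0xc3c)) (.nd (.lf 0x7f2) (.lf 0xf34))) (.nd (.nd (.lf 0x4d1) (.lf 0xd03)) (.nd (.lf 0xa75) (.lf 0xce9)))) (.nd (.nd (.nd (.lf 0x31f) (.lf 0xd6a)) (.nd (.lf 0x945) (.lf 0xf18))) (.nd (.nd (.lf 0x674) (.lf 0x3e)) (.nd (.lf 0x299) (.lf 0xd52)))))) (.nd (.nd (.nd (.nd (.nd (.lf 0xba) (.lf 0xc51)) (.nd (.lf 0x790) (.lf 0x885))) (.nd (.nd (.lf 0x463) (.lf 0xe02)) (.nd (.lf 0xa31) (.lf 0xb81))))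 (.nd (.nd (.nd (.lf 0x2a7) (.lf 0xb17)) (.nd (.lf 0x346) (.lf 0xe59))) (.nd (.nd (.lf 0x60d) (.lf 0xbf1)) (.nd (.lf 0xb56) (.lf 0x133))))) (.nd (.nd (.nd (.nd (.lf 0x1b3) (.lf 0x775)) (.nd (.lf 0x846) (.lf 0x4fa))) (.nd (.nd (.lf 0x53a) (.lf 0xcf6)) (.nd (.lf 0xac3) (.lf 0xeeb)))) (.nd (.nd (.nd (.lf 0x394) (.lf 0x1aa)) (.nd (.lf 0x93b) (.lf 0xf98))) (.nd (.nd (.lf 0x6d6) (.lf 0xee1)) (.nd (.lf 0xbdc) (.lf 0)))))))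
def tabT0_nbabbbb : Tr := (.nd (.nd (.nd (.nd (.nd (.nd (.lf 0x7b) (.lf 0x717)) (.nd (.lf 0x764) (.lf 0xc78))) (.nd (.nd (.lf 0x432) (.lf 0xdeb)) (.nd (.lf 0xa05) (.lf 0xf77)))) (.nd (.nd (.nd (.lf 0x26c) (.lf 0x28c)) (.nd (.lf 0x2e3) (.lf 0xa8d))) (.nd (.nd (.lf 0x5d9) (.lf 0x2f7)) (.nd (.lf 0xb33) (.lf 0xfd6))))) (.nd (.nd (.nd (.nd (.lf 0x174) (.lf 0xca6)) (.nd (.lf 0xe9) (.lf 0x74e))) (.nd (.nd (.lf 0x50a) (.lf 0x38e)) (.nd (.lf 0x797) (.lf 0xd08)))) (.nd (.nd (.nd (.lf 0x2e9) (.lf 0xd85)) (.nd (.lf 0x96f) (.lf 0x984))) (.nd (.nd (.lf 0x6a4) (.lf 0xecd)) (.nd (.lf 0xcb) (.lf 0xfa9)))))) (.nd (.nd (.nd (.nd (.nd (.lf 0xfa) (.lf 0xc6e)) (.nd (.lf 0x7c5) (.lf 0xb26))) (.nd (.nd (.lf 0x499) (.lf 0x323)) (.nd (.lf 0xa53) (.lf 0xfb8))))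 (.nd (.nd (.nd (.lf 0x2e2) (.lf 0xd50)) (.nd (.lf 0x407) (.lf 0xf62))) (.nd (.nd (.lf 0x640) (.lf 0xe31)) (.nd (.lf 0x86e) (.lf 0xe98))))) (.nd (.nd (.nd (.nd (.lf 0x1f0) (.lf 0x36c)) (.nd (.lf 0x877) (.lf 0x2bf))) (.nd (.nd (.lf 0x572) (.lf 0xe67)) (.nd (.lf 0x64) (.lf 0xea0)))) (.nd (.nd (.nd (.lf 0x3c6) (.lf 0xdb8)) (.nd (.lf 0x9b8) (.lf 0x33c))) (.nd (.nd (.lf 0x70b) (.lf 0x5c4)) (.nd (.lf 0xbfb) (.lf 0)))))))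
def tabT0_nbbaaaa : Tr := (.nd (.nd (.nd (.nd (.nd (.nd (.lf 0x7) (.lf 0x3a6)) (.nd (.lf 0x711) (.lf 0x21e))) (.nd (.nd (.lf 0x3d1) (.lf 0xdbd)) (.nd (.lf 0x9bd) (.lf 0x235)))) (.nd (.nd (.nd (.lf 0x1fb) (.lf 0x578)) (.nd (.lf 0xd9) (.lf 0x673))) (.nd (.nd (.lf 0x12a) (.lf 0xe6a)) (.nd (.lf 0xaf1) (.lf 0xe10))))) (.nd (.nd (.nd (.nd (.lf 0x106) (.lf 0x4db)) (.nd (.lf 0x1b0) (.lf 0xdb5))) (.nd (.nd (.lf 0x4a3) (.lf 0x489)) (.nd (.lf 0x75b) (.lf 0xfbe)))) (.nd (.nd (.nd (.lf 0xaa) (.lf 0xd56)) (.nd (.lf 0x927) (.lf 0xd88))) (.nd (.nd (.lf 0x116) (.lf 0x937)) (.nd (.lf 0x600) (.lf 0x82)))))) (.nd (.nd (.nd (.nd (.nd (.lf 0x87) (.lf 0x94e)) (.nd (.lf 0x34f) (.lf 0xb00))) (.nd (.nd (.lf 0x43a) (.lf 0xd72)) (.nd (.lf 0xa0b) (.lf 0xe2b))))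 (.nd (.nd (.nd (.lf 0x278) (.lf 0x24d)) (.nd (.lf 0x8d1) (.lf 0xeea))) (.nd (.nd (.lf 0x46) (.lf 0x755)) (.nd (.lf 0xb3b) (.lf 0xd0d))))) (.nd (.nd (.nd (.nd (.lf 0x180) (.lf 0xb50)) (.nd (.lf 0x2cb) (.lf 0xf3f))) (.nd (.nd (.lf 0x513) (.lf 0x690)) (.nd (.lf 0xaa2) (.lf 0xd77)))) (.nd (.nd (.nd (.lf 0x366) (.lf 0xb98)) (.nd (.lf 0x930) (.lf 0xf16))) (.nd (.nd (.lf 0x6ad) (.lf 0xd97)) (.nd (.lf 0xb82) (.lf 0xc69)))))))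
def tabT0_nbbaaab : Tr := (.nd (.nd (.nd (.nd (.nd (.nd (.lf 0x47) (.lf 0xc20)) (.nd (.lf 0x73b) (.lf 0x585))) (.nd (.nd (.lf 0x40a) (.lf 0xbf5)) (.nd (.lf 0x90e) (.lf 0xfaf)))) (.nd (.nd (.nd (.lf 0x23a) (.lf 0xcfc)) (.nd (.lf 0x7b5) (.lf 0xc68))) (.nd (.nd (.lf 0x5ae) (.lf 0xe7b)) (.nd (.lf 0x8c0) (.lf 0xd89))))) (.nd (.nd (.nd (.nd (.lf 0x143) (.lf 0x71c)) (.nd (.lf 0x634) (.lf 0xb52))) (.nd (.nd (.lf 0x4dc) (.lf 0xe30)) (.nd (.lf 0x8c2) (.lf 0xeef)))) (.nd (.nd (.nd (.lf 0x329) (.lf 0xd6f)) (.nd (.lf 0x94d) (.lf 0x265))) (.nd (.nd (.lf 0xdb) (.lf 0xeac)) (.nd (.lf 0x8e7) (.lf 0xedb)))))) (.nd (.nd (.nd (.nd (.nd (.lf 0xc6) (.lf 0xc58)) (.nd (.lf 0x5ee) (.lf 0x52d))) (.nd (.nd (.lf 0x46d) (.lf 0xc26)) (.nd (.lf 0xa3a) (.lf 0xf38))))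 (.nd (.nd (.nd (.lf 0x2b3) (.lf 0x62b)) (.nd (.lf 0x8fe) (.lf 0xd94))) (.nd (.nd (.lf 0x616) (.lf 0x8a8)) (.nd (.lf 0xb5b) (.lf 0xee7))))) (.nd (.nd (.nd (.nd (.lf 0x1bf) (.lf 0x615)) (.nd (.lf 0x2d1) (.lf 0xdf1))) (.nd (.nd (.lf 0x546) (.lf 0x8c6)) (.nd (.lf 0xa90) (.lf 0x103)))) (.nd (.nd (.nd (.lf 0xb0) (.lf 0xd9e)) (.nd (.lf 0x6bf) (.lf 0x4c0))) (.nd (.nd (.lf 0x6e1) (.lf 0x8b0)) (.nd (.lf 0xa0f) (.lf 0)))))))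
def tabT0_nbbaaba : Tr := (.nd (.nd (.nd (.nd (.nd (.nd (.lf 0x27) (.lf 0xc0e)) (.nd (.lf 0x725) (.lf 0xc29))) (.nd (.nd (.lf 0x3ee) (.lf 0x18f)) (.nd (.lf 0x4e4) (.lf 0xfa7)))) (.nd (.nd (.nd (.lf 0x21b) (.lf 0xcf0)) (.nd (.lf 0x896) (.lf 0x95c))) (.nd (.nd (.lf 0x594) (.lf 0x3c0)) (.nd (.lf 0xb04) (.lf 0xd60))))) (.nd (.nd (.nd (.nd (.lf 0x125) (.lf 0xc80)) (.nd (.lf 0x7e2) (.lf 0xcc0))) (.nd (.nd (.lf 0x4c1) (.lf 0xe24)) (.nd (.lf 0x606) (.lf 0xb9c)))) (.nd (.nd (.nd (.lf 0x30b) (.lf 0xd51)) (.nd (.lf 0x93a) (.lf 0x1ee))) (.nd (.nd (.lf 0x662) (.lf 0xebf)) (.nd (.lf 0x14a) (.lf 0xfc4)))))) (.nd (.nd (.nd (.nd (.nd (.lf 0xa7) (.lf 0x46a)) (.nd (.lf 0x780) (.lf 0xb78))) (.nd (.nd (.lf 0x453) (.lf 0x786)) (.nd (.lf 0x89e) (.lf 0x957))))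 (.nd (.nd (.nd (.lf 0x294) (.lf 0x976)) (.nd (.lf 0x8e8) (.lf 0xf73))) (.nd (.nd (.lf 0x5fd) (.lf 0x938)) (.nd (.lf 0xb4a) (.lf 0xfb5))))) (.nd (.nd (.nd (.nd (.lf 0x19f) (.lf 0xcbc)) (.nd (.lf 0x83a) (.lf 0xf44))) (.nd (.nd (.lf 0x52a) (.lf 0xe51)) (.nd (.lf 0x9c) (.lf 0x35c)))) (.nd (.nd (.nd (.lf 0x381) (.lf 0x675)) (.nd (.lf 0x989) (.lf 0x7e4))) (.nd (.nd (.lf 0x6c8) (.lf 0xeda)) (.nd (.lf 0xa44) (.lf 0x3fb)))))))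
def tabT0_nbbaabb : Tr := (.nd (.nd (.nd (.nd (.nd (.nd (.lf 0x67) (.lf 0xc30)) (.nd (.lf 0x754) (.lf 0x963))) (.nd (.nd (.lf 0x421) (.lf 0xde2)) (.nd (.lf 0x9f8) (.lf 0x1dc)))) (.nd (.nd (.nd (.lf 0x258) (.lf 0x573)) (.nd (.lf 0x4bb) (.lf 0x52f))) (.nd (.nd (.lf 0x5c7) (.lf 0xe78)) (.nd (.lf 0xaa0) (.lf 0x7ad))))) (.nd (.nd (.nd (.nd (.lf 0x161) (.lf 0x269)) (.nd (.lf 0x80d) (.lf 0x400))) (.nd (.nd (.lf 0x4f7) (.lf 0xe3c)) (.nd (.lf 0xa8c) (.lf 0x713)))) (.nd (.nd (.nd (.lf 0x349) (.lf 0xa2)) (.nd (.lf 0x7b1) (.lf 0xf8c))) (.nd (.nd (.lf 0x695) (.lf 0x9fb)) (.nd (.lf 0xbb1) (.lf 0x632)))))) (.nd (.nd (.nd (.nd (.nd (.lf 0xe6) (.lf 0x4e3)) (.nd (.lf 0x7b6) (.lf 0x1fa))) (.nd (.nd (.lf 0x488) (.lf 0x2d7)) (.nd (.lf 0x26d) (.lf 0xfbd))))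 (.nd (.nd (.nd (.lf 0x2d0) (.lf 0xcce)) (.nd (.lf 0x914) (.lf 0xf7e))) (.nd (.nd (.lf 0x630) (.lf 0xeaa)) (.nd (.lf 0xb6b) (.lf 0x2ba))))) (.nd (.nd (.nd (.nd (.lf 0x1dd) (.lf 0xcd1)) (.nd (.lf 0x868) (.lf 0xf40))) (.nd (.nd (.lf 0x562) (.lf 0xe62)) (.nd (.lf 0xae3) (.lf 0x1f8)))) (.nd (.nd (.nd (.lf 0x3b7) (.lf 0xdb1)) (.nd (.lf 0x9a9) (.lf 0x58d))) (.nd (.nd (.lf 0x6fa) (.lf 0xaa5)) (.nd (.lf 0xb90) (.lf 0)))))))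
def tabT0_nbbabaa : Tr := (.nd (.nd (.nd (.nd (.nd (.nd (.lf 0x17) (.lf 0x587)) (.nd (.lf 0x719) (.lf 0xeb8))) (.nd (.nd (.lf 0x227) (.lf 0xdc4)) (.nd (.lf 0x9c9) (.lf 0xc4d)))) (.nd (.nd (.nd (.lf 0x20b) (.lf 0xce4)) (.nd (.lf 0x7f1) (.lf 0x7a7))) (.nd (.nd (.lf 0x48b) (.lf 0xe6e)) (.nd (.lf 0xafb) (.lf 0x7f7))))) (.nd (.nd (.nd (.nd (.lf 0x115) (.lf 0xc77)) (.nd (.lf 0x7d8) (.lf 0xc18))) (.nd (.nd (.lf 0x4b2) (.lf 0xd8c)) (.nd (.lf 0xa61) (.lf 0x949)))) (.nd (.nd (.nd (.lf 0x2fc) (.lf 0xd5b)) (.nd (.lf 0x932) (.lf 0xe69))) (.nd (.nd (.lf 0x657) (.lf 0xeb9)) (.nd (.lf 0x71a) (.lf 0xb7)))))) (.nd (.nd (.nd (.nd (.nd (.lf 0x97) (.lf 0xc43)) (.nd (.lf 0x532) (.lf 0xf15))) (.nd (.nd (.lf 0x446) (.lf 0xced)) (.nd (.lf 0xa18) (.lf 0xf66))))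 (.nd (.nd (.nd (.lf 0x286) (.lf 0xd21)) (.nd (.lf 0x7c4) (.lf 0x233))) (.nd (.nd (.lf 0x5f2) (.lf 0xe93)) (.nd (.lf 0xa96) (.lf 0xe5b))))) (.nd (.nd (.nd (.nd (.lf 0x190) (.lf 0xa62)) (.nd (.lf 0x82f) (.lf 0xd91))) (.nd (.nd (.lf 0x51e) (.lf 0x179)) (.nd (.lf 0xaad) (.lf 0xf5f)))) (.nd (.nd (.nd (.lf 0x60) (.lf 0xd8d)) (.nd (.lf 0x980) (.lf 0x829))) (.nd (.nd (.lf 0x6ba) (.lf 0x4af)) (.nd (.lf 0x969) (.lf 0x894)))))))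
def tabT0_nbbabab : Tr := (.nd (.nd (.nd (.nd (.nd (.nd (.lf 0x57) (.lf 0x70d)) (.nd (.lf 0x746) (.lf 0x9f6))) (.nd (.nd (.lf 0x417) (.lf 0x596)) (.nd (.lf 0x9ef) (.lf 0xf54)))) (.nd (.nd (.nd (.lf 0x249) (.lf 0x35b)) (.nd (.lf 0x6a8) (.lf 0x824))) (.nd (.nd (.lf 0x5ba) (.lf 0x8b7)) (.nd (.lf 0xb1e) (.lf 0xecc))))) (.nd (.nd (.nd (.nd (.lf 0x152) (.lf 0xc96)) (.nd (.lf 0x38) (.lf 0xd3d))) (.nd (.nd (.lf 0x4ea) (.lf 0x501)) (.nd (.lf 0xa82) (.lf 0x638)))) (.nd (.nd (.nd (.lf 0x339) (.lf 0xe3)) (.nd (.lf 0x959) (.lf 0x8ac))) (.nd (.nd (.lf 0x66) (.lf 0xec6)) (.nd (.lf 0x6a5) (.lf 0xdd8)))))) (.nd (.nd (.nd (.nd (.nd (.lf 0xd6) (.lf 0xc62)) (.nd (.lf 0x7a8) (.lf 0xf1f))) (.nd (.nd (.lf 0x479) (.lf 0xa56)) (.nd (.lf 0xa42) (.lf 0x157))))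 (.nd (.nd (.nd (.lf 0x2c2) (.lf 0xd3c)) (.nd (.lf 0x5da) (.lf 0x9b9))) (.nd (.nd (.lf 0x623) (.lf 0xaed)) (.nd (.lf 0xb0b) (.lf 0x6a2))))) (.nd (.nd (.nd (.nd (.lf 0x1ce) (.lf 0xc9d)) (.nd (.lf 0x85d) (.lf 0xdcc))) (.nd (.nd (.lf 0x554) (.lf 0xc00)) (.nd (.lf 0xad5) (.lf 0xd0a)))) (.nd (.nd (.nd (.lf 0x3ac) (.lf 0xda5)) (.nd (.lf 0x9a2) (.lf 0xb28))) (.nd (.nd (.lf 0x6eb) (.lf 0xb25)) (.nd (.lf 0x7f6) (.lf 0)))))))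
def tabT0_nbbabba : Tr := (.nd (.nd (.nd (.nd (.nd (.nd (.lf 0x37) (.lf 0xc14)) (.nd (.lf 0x5d4) (.lf 0xd7e))) (.nd (.nd (.lf 0x3fd) (.lf 0x374)) (.nd (.lf 0x9df) (.lf 0xe5e)))) (.nd (.nd (.nd (.lf 0x22a) (.lf 0x136)) (.nd (.lf 0x22b) (.lf 0xf60))) (.nd (.nd (.lf 0x5a2) (.lf 0xe5)) (.nd (.lf 0xae6) (.lf 0x357))))) (.nd (.nd (.nd (.nd (.lf 0x134) (.lf 0xc88)) (.nd (.lf 0x7ef) (.lf 0xc99))) (.nd (.nd (.lf 0x4cd) (.lf 0x9f2)) (.nd (.lf 0x588) (.lf 0xfc3)))) (.nd (.nd (.nd (.lf 0x31b) (.lf 0xd67)) (.nd (.lf 0x78f) (.lf 0xe1b))) (.nd (.nd (.lf 0x671) (.lf 0x5cc)) (.nd (.lf 0xb99) (.lf 0x545)))))) (.nd (.nd (.nd (.nd (.nd (.lf 0xb6) (.lf 0x4b3)) (.nd (.lf 0x78c) (.lf 0xd30))) (.nd (.nd (.lf 0x45f) (.lf 0xc38)) (.nd (.lf 0x8bb) (.lf 0xe37))))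 (.nd (.nd (.nd (.lf 0x2a3) (.lf 0x30a)) (.nd (.lf 0x743) (.lf 0xa2d))) (.nd (.nd (.lf 0x60a) (.lf 0xe94)) (.nd (.lf 0x9c2) (.lf 0x8d0))))) (.nd (.nd (.nd (.nd (.lf 0x1af) (.lf 0xcc1)) (.nd (.lf 0x843) (.lf 0x83f))) (.nd (.nd (.lf 0x536) (.lf 0xb5d)) (.nd (.lf 0x57a) (.lf 0xf07)))) (.nd (.nd (.nd (.lf 0x391) (.lf 0xd9a)) (.nd (.lf 0x993) (.lf 0x48))) (.nd (.nd (.lf 0x32c) (.lf 0xedf)) (.nd (.lf 0x4b7) (.lf 0xdc8)))))))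
def tabT0_nbbabbb : Tr := (.nd (.nd (.nd (.nd (.nd (.nd (.lf 0x77) (.lf 0xc35)) (.nd (.lf 0x760) (.lf 0xf0b))) (.nd (.nd (.lf 0x42e) (.lf 0xdea)) (.nd (.lf 0xa02) (.lf 0x300)))) (.nd (.nd (.nd (.lf 0x268) (.lf 0x15a)) (.nd (.lf 0x8c7) (.lf 0xd79))) (.nd (.nd (.lf 0x5d5) (.lf 0x48e)) (.nd (.lf 0xb30) (.lf 0x872))))) (.nd (.nd (.nd (.nd (.lf 0x170) (.lf 0xca4)) (.nd (.lf 0x5af) (.lf 0xd45))) (.nd (.nd (.lf 0x506) (.lf 0x80a)) (.nd (.lf 0xa97) (.lf 0xfb6)))) (.nd (.nd (.nd (.lf 0x358) (.lf 0xd82)) (.nd (.lf 0x96b) (.lf 0xa0e))) (.nd (.nd (.lf 0x6a1) (.lf 0xccc)) (.nd (.lf 0xbb8) (.lf 0x92)))))) (.nd (.nd (.nd (.nd (.nd (.lf 0xf6) (.lf 0xc6d)) (.nd (.lf 0x7c2) (.lf 0xf28))) (.nd (.nd (.lf 0x495) (.lf 0x7f5)) (.nd (.lf 0xa51) (.lf 0xf0d))))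 (.nd (.nd (.nd (.lf 0x2df) (.lf 0xd4f)) (.nd (.lf 0x91d) (.lf 0xca1))) (.nd (.nd (.lf 0x63d) (.lf 0xd28)) (.nd (.lf 0xb75) (.lf 0xa34))))) (.nd (.nd (.nd (.nd (.lf 0x1ed) (.lf 0xc6a)) (.nd (.lf 0x874) (.lf 0x1de))) (.nd (.nd (.lf 0x56f) (.lf 0xb37)) (.nd (.lf 0xaeb) (.lf 0x153)))) (.nd (.nd (.nd (.lf 0x3c3) (.lf 0xd64)) (.nd (.lf 0x9b5) (.lf 0xa03))) (.nd (.nd (.lf 0x2f3) (.lf 0xd6d)) (.nd (.lf 0xa7f) (.lf 0)))))))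
def tabT0_nbbbaaa : Tr := (.nd (.nd (.nd (.nd (.nd (.nd (.lf 0xf) (.lf 0xc04)) (.nd (.lf 0x185) (.lf 0x1f1))) (.nd (.nd (.lf 0x72) (.lf 0x72d)) (.nd (.lf 0x9c3) (.lf 0xa7a)))) (.nd (.nd (.nd (.lf 0x203) (.lf 0xce1)) (.nd (.lf 0x884) (.lf 0x231))) (.nd (.nd (.lf 0x581) (.lf 0x1c)) (.nd (.lf 0xaf5) (.lf 0xc0b))))) (.nd (.nd (.nd (.nd (.lf 0x10d) (.lf 0xc67)) (.nd (.lf 0x7d2) (.lf 0xea6))) (.nd (.nd (.lf 0x4ab) (.lf 0xa50)) (.nd (.lf 0xa5f) (.lf 0x8b5)))) (.nd (.nd (.nd (.lf 0x2f4) (.lf 0x6ae)) (.nd (.lf 0x92b) (.lf 0x834))) (.nd (.nd (.lf 0x64f) (.lf 0xeb5)) (.nd (.lf 0x218) (.lf 0xc0f)))))) (.nd (.nd (.nd (.nd (.nd (.lf 0x8f) (.lf 0xc3f)) (.nd (.lf 0x56b) (.lf 0xbcb))) (.nd (.nd (.lf 0x284) (.lf 0xdf4)) (.nd (.lf 0xa11) (.lf 0xf30))))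 (.nd (.nd (.nd (.lf 0x27f) (.lf 0xd1e)) (.nd (.lf 0x8d8) (.lf 0xa29))) (.nd (.nd (.lf 0x5eb) (.lf 0x47b)) (.nd (.lf 0xb40) (.lf 0xf4e))))) (.nd (.nd (.nd (.nd (.lf 0x188) (.lf 0xcb0)) (.nd (.lf 0x6e6) (.lf 0x706))) (.nd (.nd (.lf 0x492) (.lf 0xe4a)) (.nd (.lf 0x6e8) (.lf 0xfbc)))) (.nd (.nd (.nd (.lf 0x36d) (.lf 0xcdb)) (.nd (.lf 0x97b) (.lf 0x288))) (.nd (.nd (.lf 0x6b4) (.lf 0x7a9)) (.nd (.lf 0xbc3) (.lf 0xdb4)))))))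
def tabT0_nbbbaab : Tr := (.nd (.nd (.nd (.nd (.nd (.nd (.lf 0x4f) (.lf 0x946)) (.nd (.lf 0x2b8) (.lf 0xd74))) (.nd (.nd (.lf 0x412) (.lf 0x4c6)) (.nd (.lf 0x967) (.lf 0x4aa)))) (.nd (.nd (.nd (.lf 0x241) (.lf 0xd01)) (.nd (.lf 0x8ae) (.lf 0xf57))) (.nd (.nd (.lf 0x5c) (.lf 0x958)) (.nd (.lf 0xa35) (.lf 0xfd0))))) (.nd (.nd (.nd (.nd (.lf 0x14b) (.lf 0x515)) (.nd (.lf 0x5a) (.lf 0xc7f))) (.nd (.nd (.lf 0x101) (.lf 0x8dd)) (.nd (.lf 0xa7d) (.lf 0xcc5)))) (.nd (.nd (.nd (.lf 0x331) (.lf 0x841)) (.nd (.lf 0x953) (.lf 0x66c))) (.nd (.nd (.lf 0x118) (.lf 0x41e)) (.nd (.lf 0xba7) (.lf 0x70e)))))) (.nd (.nd (.nd (.nd (.nd (.lf 0xce) (.lf 0xc5b)) (.nd (.lf 0x7a1) (.lf 0x3de))) (.nd (.nd (.lf 0x474) (.lf 0xb61)) (.nd (.lf 0xa3e) (.lf 0xcdf))))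 (.nd (.nd (.nd (.lf 0x2bb) (.lf 0xac0)) (.nd (.lf 0x26) (.lf 0xcc9))) (.nd (.nd (.lf 0x61c) (.lf 0xea3)) (.nd (.lf 0xb5e) (.lf 0xfd2))))) (.nd (.nd (.nd (.nd (.lf 0x1c7) (.lf 0xcc8)) (.nd (.lf 0x858) (.lf 0xadd))) (.nd (.nd (.lf 0x54d) (.lf 0xe54)) (.nd (.lf 0xacd) (.lf 0xd62)))) (.nd (.nd (.nd (.lf 0x3a5) (.lf 0xda1)) (.nd (.lf 0x99f) (.lf 0x457))) (.nd (.nd (.lf 0x2c) (.lf 0xee6)) (.nd (.lf 0xbe9) (.lf 0)))))))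
def tabT0_nbbbaba : Tr := (.nd (.nd (.nd (.nd (.nd (.nd (.lf 0x2f) (.lf 0x6aa)) (.nd (.lf 0x72b) (.lf 0x561))) (.nd (.nd (.lf 0x3f6) (.lf 0xdcd)) (.nd (.lf 0x9db) (.lf 0x650)))) (.nd (.nd (.nd (.lf 0x223) (.lf 0x257)) (.nd (.lf 0x89d) (.lf 0xe0c))) (.nd (.nd (.lf 0x59a) (.lf 0xe77)) (.nd (.lf 0xb08) (.lf 0xb47))))) (.nd (.nd (.nd (.nd (.lf 0x12d) (.lf 0xc84)) (.nd (.lf 0x7e8) (.lf 0xce3))) (.nd (.nd (.lf 0x3e5) (.lf 0xe27)) (.nd (.lf 0xa6e) (.lf 0x2d5)))) (.nd (.nd (.nd (.lf 0x313) (.lf 0x34)) (.nd (.lf 0x93f) (.lf 0x90c))) (.nd (.nd (.lf 0x66a) (.lf 0x568)) (.nd (.lf 0xb93) (.lf 0xe19)))))) (.nd (.nd (.nd (.nd (.nd (.lf 0xaf) (.lf 0xc4b)) (.nd (.lf 0x787) (.lf 0xbc8))) (.nd (.nd (.lf 0x459) (.lf 0xafe)) (.nd (.lf 0x65d) (.lf 0x985))))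 (.nd (.nd (.nd (.lf 0x29c) (.lf 0xd29)) (.nd (.lf 0x8ef) (.lf 0xdf8))) (.nd (.nd (.lf 0x5dc) (.lf 0x98c)) (.nd (.lf 0xb4f) (.lf 0x997))))) (.nd (.nd (.nd (.nd (.lf 0x1a7) (.lf 0xb1f)) (.nd (.lf 0x811) (.lf 0xdd5))) (.nd (.nd (.lf 0x531) (.lf 0xe50)) (.nd (.lf 0x563) (.lf 0xed4)))) (.nd (.nd (.nd (.lf 0x389) (.lf 0xd96)) (.nd (.lf 0x830) (.lf 0xf96))) (.nd (.nd (.lf 0x6ce) (.lf 0xedd)) (.nd (.lf 0x11a) (.lf 0x91e)))))))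
def tabT0_nbbbabb : Tr := (.nd (.nd (.nd (.nd (.nd (.nd (.lf 0x6f) (.lf 0xc33)) (.nd (.lf 0x75a) (.lf 0xf06))) (.nd (.nd (.lf 0x427) (.lf 0xdce)) (.nd (.lf 0x9fd) (.lf 0xf13)))) (.nd (.nd (.nd (.lf 0x260) (.lf 0x38c)) (.nd (.lf 0x8c1) (.lf 0xc8a))) (.nd (.nd (.lf 0x5ce) (.lf 0xae8)) (.nd (.lf 0xa79) (.lf 0xaea))))) (.nd (.nd (.nd (.nd (.lf 0x168) (.lf 0xca0)) (.nd (.lf 0x1fe) (.lf 0xf3d))) (.nd (.nd (.lf 0x4fe) (.lf 0xe3e)) (.nd (.lf 0x14e) (.lf 0x42)))) (.nd (.nd (.nd (.lf 0x350) (.lf 0xbda)) (.nd (.lf 0x40d) (.lf 0xe15))) (.nd (.nd (.lf 0x69b) (.lf 0xd57)) (.nd (.lf 0x2e1) (.lf 0x320)))))) (.nd (.nd (.nd (.nd (.nd (.lf 0xee) (.lf 0x1c6)) (.nd (.lf 0x7be) (.lf 0xb48))) (.nd (.nd (.lf 0x48f) (.lf 0xe13)) (.nd (.lf 0x2b6) (.lf 0x9d8))))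 (.nd (.nd (.nd (.lf 0x2d8) (.lf 0x263)) (.nd (.lf 0x91a) (.lf 0xbb0))) (.nd (.nd (.lf 0x637) (.lf 0xead)) (.nd (.lf 0xb6e) (.lf 0xceb))))) (.nd (.nd (.nd (.nd (.lf 0x1e5) (.lf 0xa4)) (.nd (.lf 0x86d) (.lf 0x49f))) (.nd (.nd (.lf 0x2e7) (.lf 0xd0c)) (.nd (.lf 0xae5) (.lf 0x6ec)))) (.nd (.nd (.nd (.lf 0x3bd) (.lf 0x32e)) (.nd (.lf 0x422) (.lf 0xf9e))) (.nd (.nd (.lf 0x701) (.lf 0x4dd)) (.nd (.lf 0x318) (.lf 0)))))))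
def tabT0_nbbbbaa : Tr := (.nd (.nd (.nd (.nd (.nd (.nd (.lf 0x1f) (.lf 0xa38)) (.nd (.lf 0x721) (.lf 0xd8f))) (.nd (.nd (.lf 0x3e6) (.lf 0xdc7)) (.nd (.lf 0x9cf) (.lf 0xfa5)))) (.nd (.nd (.nd (.lf 0x213) (.lf 0xc7)) (.nd (.lf 0x890) (.lf 0xc6b))) (.nd (.nd (.lf 0x58e) (.lf 0xe33)) (.nd (.lf 0xb01) (.lf 0xab2))))) (.nd (.nd (.nd (.nd (.lf 0x11d) (.lf 0x991)) (.nd (.lf 0x7dd) (.lf 0x167))) (.nd (.nd (.lf 0x4ba) (.lf 0x5c0)) (.nd (.lf 0x344) (.lf 0xaac)))) (.nd (.nd (.nd (.lf 0x303) (.lf 0x617)) (.nd (.lf 0x49d) (.lf 0x996))) (.nd (.nd (.lf 0x4ce) (.lf 0xca5)) (.nd (.lf 0xb8a) (.lf 0x4a2)))))) (.nd (.nd (.nd (.nd (.nd (.lf 0x9f) (.lf 0xc46)) (.nd (.lf 0x77c) (.lf 0x7f0))) (.nd (.nd (.lf 0x44d) (.lf 0x57c)) (.nd (.lf 0xa1f) (.lf 0xfb9))))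 (.nd (.nd (.nd (.lf 0x28d) (.lf 0xd25)) (.nd (.lf 0x282) (.lf 0xcca))) (.nd (.nd (.lf 0x5f9) (.lf 0x5b1)) (.nd (.lf 0x7da) (.lf 0xf63))))) (.nd (.nd (.nd (.nd (.lf 0x198) (.lf 0xcb7)) (.nd (.lf 0x835) (.lf 0x242))) (.nd (.nd (.lf 0x523) (.lf 0x84d)) (.nd (.lf 0xab1) (.lf 0xa6)))) (.nd (.nd (.nd (.lf 0x37b) (.lf 0x25f)) (.nd (.lf 0x667) (.lf 0xcf4))) (.nd (.nd (.lf 0x6c0) (.lf 0xed7)) (.nd (.lf 0x7f3) (.lf 0xbac)))))))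
def tabT0_nbbbbab : Tr := (.nd (.nd (.nd (.nd (.nd (.nd (.lf 0x5f) (.lf 0xc2a)) (.nd (.lf 0x74d) (.lf 0xf01))) (.nd (.nd (.lf 0x41b) (.lf 0xddf)) (.nd (.lf 0x82b) (.lf 0x95a)))) (.nd (.nd (.nd (.lf 0x250) (.lf 0xd0b)) (.nd (.lf 0x8b9) (.lf 0xf67))) (.nd (.nd (.lf 0x5c1) (.lf 0xe84)) (.nd (.lf 0x428) (.lf 0xf2d))))) (.nd (.nd (.nd (.nd (.lf 0x159) (.lf 0x698)) (.nd (.lf 0x808) (.lf 0xf2c))) (.nd (.nd (.lf 0x4f1) (.lf 0xd80)) (.nd (.lf 0x8ca) (.lf 0xfa4)))) (.nd (.nd (.nd (.lf 0x341) (.lf 0x61f)) (.nd (.lf 0x95d) (.lf 0x839))) (.nd (.nd (.lf 0x68d) (.lf 0xec9)) (.nd (.lf 0xb72) (.lf 0x98e)))))) (.nd (.nd (.nd (.nd (.nd (.lf 0xde) (.lf 0x6d7)) (.nd (.lf 0x7ae) (.lf 0xef6))) (.nd (.nd (.lf 0x480) (.lf 0x10e)) (.nd (.lf 0x796) (.lf 0xbd7))))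 (.nd (.nd (.nd (.lf 0x2c8) (.lf 0xd41)) (.nd (.lf 0x90f) (.lf 0x2c4))) (.nd (.nd (.lf 0x62a) (.lf 0xca7)) (.nd (.lf 0xb68) (.lf 0xdf7))))) (.nd (.nd (.nd (.nd (.lf 0x140) (.lf 0x593)) (.nd (.lf 0x862) (.lf 0xb4d))) (.nd (.nd (.lf 0x55c) (.lf 0xb8e)) (.nd (.lf 0xadc) (.lf 0xe60)))) (.nd (.nd (.nd (.lf 0x70) (.lf 0xdab)) (.nd (.lf 0x37a) (.lf 0x804))) (.nd (.nd (.lf 0x6f3) (.lf 0xbd6)) (.nd (.lf 0x981) (.lf 0)))))))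
def tabT0_nbbbbba : Tr := (.nd (.nd (.nd (.nd (.nd (.nd (.lf 0x3f) (.lf 0xc19)) (.nd (.lf 0x736) (.lf 0x216))) (.nd (.nd (.lf 0x404) (.lf 0xdd3)) (.nd (.lf 0x9e3) (.lf 0x9c8)))) (.nd (.nd (.nd (.lf 0x232) (.lf 0xcfb)) (.nd (.lf 0x643) (.lf 0xe1f))) (.nd (.nd (.lf 0x5a8) (.lf 0xe4b)) (.nd (.lf 0x548) (.lf 0xe88))))) (.nd (.nd (.nd (.nd (.lf 0x13b) (.lf 0xc8b)) (.nd (.lf 0x622) (.lf 0x4a))) (.nd (.nd (.lf 0x43b) (.lf 0x8a)) (.nd (.lf 0x7d7) (.lf 0x8ab)))) (.nd (.nd (.nd (.lf 0x322) (.lf 0xd6c)) (.nd (.lf 0x900) (.lf 0xb07))) (.nd (.nd (.lf 0x678) (.lf 0xdc3)) (.nd (.lf 0x58a) (.lf 0xf9d)))))) (.nd (.nd (.nd (.nd (.nd (.lf 0xbe) (.lf 0xc53)) (.nd (.lf 0x794) (.lf 0xa12))) (.nd (.nd (.lf 0x466) (.lf 0xcbf)) (.nd (.lf 0x197) (.lf 0xf99))))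 (.nd (.nd (.nd (.lf 0x2ab) (.lf 0x842)) (.nd (.lf 0x1b2) (.lf 0x487))) (.nd (.nd (.lf 0x610) (.lf 0x8a0)) (.nd (.lf 0xacb) (.lf 0xef3))))) (.nd (.nd (.nd (.nd (.lf 0x1b7) (.lf 0xcc2)) (.nd (.lf 0x84a) (.lf 0xd39))) (.nd (.nd (.lf 0x53e) (.lf 0xe57)) (.nd (.lf 0xac4) (.lf 0x9a7)))) (.nd (.nd (.nd (.lf 0x397) (.lf 0xd9c)) (.nd (.lf 0x865) (.lf 0x3ad))) (.nd (.nd (.lf 0x5f0) (.lf 0xae)) (.nd (.lf 0xbe0) (.lf 0)))))))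
def tabT0_nbbbbbb : Tr := (.nd (.nd (.nd (.nd (.nd (.nd (.lf 0x7f) (.lf 0x2d3)) (.nd (.lf 0x766) (.lf 0xf0e))) (.nd (.nd (.lf 0x431) (.lf 0xdef)) (.nd (.lf 0x631) (.lf 0xe9b)))) (.nd (.nd (.nd (.lf 0x270) (.lf 0x426)) (.nd (.lf 0x6cf) (.lf 0x46c))) (.nd (.nd (.lf 0x5dd) (.lf 0xe8e)) (.nd (.lf 0xb35) (.lf 0x5f3))))) (.nd (.nd (.nd (.nd (.lf 0x178) (.lf 0x187)) (.nd (.lf 0x81e) (.lf 0x4ee))) (.nd (.nd (.lf 0x1a4) (.lf 0x54e)) (.nd (.lf 0xa9d) (.lf 0xfc7)))) (.nd (.nd (.nd (.lf 0x35f) (.lf 0x6e4)) (.nd (.lf 0x972) (.lf 0x20))) (.nd (.nd (.lf 0x6a6) (.lf 0x95f)) (.nd (.lf 0x42b) (.lf 0xfc2)))))) (.nd (.nd (.nd (.nd (.nd (.lf 0xfe) (.lf 0x146)) (.nd (.lf 0x726) (.lf 0xd14))) (.nd (.nd (.lf 0x49c) (.lf 0xc1a)) (.nd (.lf 0x559) (.lf 0x10c))))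 (.nd (.nd (.nd (.lf 0x2e6) (.lf 0x63c)) (.nd (.lf 0x922) (.lf 0xeff))) (.nd (.nd (.lf 0x644) (.lf 0xeb1)) (.nd (.lf 0xab0) (.lf 0x50))))) (.nd (.nd (.nd (.nd (.lf 0x1f4) (.lf 0xbd1)) (.nd (.lf 0x124) (.lf 0x59b))) (.nd (.nd (.lf 0x575) (.lf 0xe68)) (.nd (.lf 0xaee) (.lf 0xfcd)))) (.nd (.nd (.nd (.lf 0x3ca) (.lf 0xdb9)) (.nd (.lf 0x9bc) (.lf 0xfa0))) (.nd (.nd (.lf 0x5aa) (.lf 0xd20)) (.nd (.lf 0xbfe) (.lf 0)))))))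
def tabT0 : Tr := (.nd (.nd (.nd (.nd (.nd (.nd tabT0_naaaaaa tabT0_naaaaab) (.nd tabT0_naaaaba tabT0_naaaabb)) (.nd (.nd tabT0_naaabaa tabT0_naaabab) (.nd tabT0_naaabba tabT0_naaabbb))) (.nd (.nd (.nd tabT0_naabaaa tabT0_naabaab) (.nd tabT0_naababa tabT0_naababb)) (.nd (.nd tabT0_naabbaa tabT0_naabbab) (.nd tabT0_naabbba tabT0_naabbbb)))) (.nd (.nd (.nd (.nd tabT0_nabaaaa tabT0_nabaaab) (.nd tabT0_nabaaba tabT0_nabaabb)) (.nd (.nd tabT0_nababaa tabT0_nababab) (.nd tabT0_nababba tabT0_nababbb))) (.nd (.nd (.nd tabT0_nabbaaa tabT0_nabbaab) (.nd tabT0_nabbaba tabT0_nabbabb)) (.nd (.nd tabT0_nabbbaa tabT0_nabbbab) (.nd tabT0_nabbbba tabT0_nabbbbb))))) (.nd (.nd (.nd (.nd (.nd tabT0_nbaaaaa tabT0_nbaaaab) (.nd tabT0_nbaaaba tabT0_nbaaabb))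 (.nd (.nd tabT0_nbaabaa tabT0_nbaabab) (.nd tabT0_nbaabba tabT0_nbaabbb))) (.nd (.nd (.nd tabT0_nbabaaa tabT0_nbabaab) (.nd tabT0_nbababa tabT0_nbababb)) (.nd (.nd tabT0_nbabbaa tabT0_nbabbab) (.nd tabT0_nbabbba tabT0_nbabbbb)))) (.nd (.nd (.nd (.nd tabT0_nbbaaaa tabT0_nbbaaab) (.nd tabT0_nbbaaba tabT0_nbbaabb)) (.nd (.nd tabT0_nbbabaa tabT0_nbbabab) (.nd tabT0_nbbabba tabT0_nbbabbb))) (.nd (.nd (.nd tabT0_nbbbaaa tabT0_nbbbaab) (.nd tabT0_nbbbaba tabT0_nbbbabb)) (.nd (.nd tabT0_nbbbbaa tabT0_nbbbbab) (.nd tabT0_nbbbbba tabT0_nbbbbbb))))))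
def witT0_naaaaaa : Tr := (.nd (.nd (.nd (.nd (.nd (.nd (.lf 0x0) (.lf 0xa76fb6)) (.nd (.lf 0x11cc18f) (.lf 0x41b083))) (.nd (.nd (.lf 0x0) (.lf 0x0)) (.nd (.lf 0x230927b) (.lf 0x4aeedb)))) (.nd (.nd (.nd (.lf 0x0) (.lf 0x3d08dd)) (.nd (.lf 0x317a813) (.lf 0x24e868b))) (.nd (.nd (.lf 0x0) (.lf 0xf8d9ef)) (.nd (.lf 0xb355c4) (.lf 0xb5a067))))) (.nd (.nd (.nd (.nd (.lf 0x0) (.lf 0x10a6a04)) (.nd (.lf 0x0) (.lf 0x0))) (.nd (.nd (.lf 0x0) (.lf 0x95bd8c)) (.nd (.lf 0x0) (.lf 0x1eef6b)))) (.nd (.nd (.nd (.lf 0x0) (.lf 0x2d54e1)) (.nd (.lf 0x6e4002) (.lf 0x30ec72b))) (.nd (.nd (.lf 0x0) (.lf 0x2c2bdea)) (.nd (.lf 0xc51cb5) (.lf 0x116995a)))))) (.nd (.nd (.nd (.nd (.nd (.lf 0x0) (.lf 0xa3dbf1)) (.nd (.lf 0x0) (.lf 0x0))) (.nd (.nd (.lf 0x2bf7586)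 (.lf 0x21b1886)) (.nd (.lf 0x95214a) (.lf 0xe46584)))) (.nd (.nd (.nd (.lf 0x0) (.lf 0x0)) (.nd (.lf 0x25e661c) (.lf 0x96312a))) (.nd (.nd (.lf 0x0) (.lf 0x81c3de)) (.nd (.lf 0x0) (.lf 0x2f24698))))) (.nd (.nd (.nd (.nd (.lf 0x0) (.lf 0x2e821d0)) (.nd (.lf 0x0) (.lf 0xbfcd36))) (.nd (.nd (.lf 0x2398db4) (.lf 0x159267)) (.nd (.lf 0x0) (.lf 0x2b15a5a)))) (.nd (.nd (.nd (.lf 0x0) (.lf 0x27d8b79)) (.nd (.lf 0x0) (.lf 0x2c6d684))) (.nd (.nd (.lf 0xee9191) (.lf 0xe678a0)) (.nd (.lf 0x0) (.lf 0x24c02ea)))))))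
def witT0_naaaaab : Tr := (.nd (.nd (.nd (.nd (.nd (.nd (.lf 0x0) (.lf 0x0)) (.nd (.lf 0x2b9e545) (.lf 0x246e51))) (.nd (.nd (.lf 0x0) (.lf 0x0)) (.nd (.lf 0x2d18fd8) (.lf 0x82ef70)))) (.nd (.nd (.nd (.lf 0x0) (.lf 0x75c0aa)) (.nd (.lf 0xe9548c) (.lf 0x24d5e3a))) (.nd (.nd (.lf 0x0) (.lf 0x25de724)) (.nd (.lf 0x0) (.lf 0x3ad1a3))))) (.nd (.nd (.nd (.nd (.lf 0x0) (.lf 0x2c45596)) (.nd (.lf 0xa21a98) (.lf 0x8ea3ee))) (.nd (.nd (.lf 0x0) (.lf 0xc8f32)) (.nd (.lf 0x0) (.lf 0x613486)))) (.nd (.nd (.nd (.lf 0x0) (.lf 0x2f6074b)) (.nd (.lf 0x19981f) (.lf 0xf0a5a5))) (.nd (.nd (.lf 0x0) (.lf 0x312a9fb)) (.nd (.lf 0x0) (.lf 0xc67cff)))))) (.nd (.nd (.nd (.nd (.nd (.lf 0x0) (.lf 0x0)) (.nd (.lf 0xf664c0) (.lf 0x2d049b9))) (.nd (.nd (.lf 0x0)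 (.lf 0x5b6029)) (.nd (.lf 0x0) (.lf 0x78ddce)))) (.nd (.nd (.nd (.lf 0x0) (.lf 0x0)) (.nd (.lf 0x0) (.lf 0x2fccfed))) (.nd (.nd (.lf 0x0) (.lf 0xddbc10)) (.nd (.lf 0x0) (.lf 0x24dc388))))) (.nd (.nd (.nd (.nd (.lf 0x0) (.lf 0x0)) (.nd (.lf 0x0) (.lf 0x0))) (.nd (.nd (.lf 0x0) (.lf 0x0)) (.nd (.lf 0x0) (.lf 0xbb28ed)))) (.nd (.nd (.nd (.lf 0x0) (.lf 0x0)) (.nd (.lf 0x0) (.lf 0x4d7786))) (.nd (.nd (.lf 0x0) (.lf 0x0)) (.nd (.lf 0x0) (.lf 0)))))))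
def witT0_naaaaba : Tr := (.nd (.nd (.nd (.nd (.nd (.nd (.lf 0x0) (.lf 0x2ebb049)) (.nd (.lf 0x279f465) (.lf 0x1113139))) (.nd (.nd (.lf 0x0) (.lf 0xe01907)) (.nd (.lf 0x0) (.lf 0x2f47bf7)))) (.nd (.nd (.nd (.lf 0x0) (.lf 0x0)) (.nd (.lf 0x0) (.lf 0x118643d))) (.nd (.nd (.lf 0x0) (.lf 0x617a56)) (.nd (.lf 0x4a2167) (.lf 0x244660b))))) (.nd (.nd (.nd (.nd (.lf 0x0) (.lf 0x2fb885)) (.nd (.lf 0x0) (.lf 0x249e9de))) (.nd (.nd (.lf 0x0) (.lf 0x492ab4)) (.nd (.lf 0x26e4156) (.lf 0x255240)))) (.nd (.nd (.nd (.lf 0x0) (.lf 0x2bab9ea)) (.nd (.lf 0x2b549dc) (.lf 0xcc6fc9))) (.nd (.nd (.lf 0x0) (.lf 0x0)) (.nd (.lf 0x0) (.lf 0xc612bb)))))) (.nd (.nd (.nd (.nd (.nd (.lf 0x0) (.lf 0x6d0357)) (.nd (.lf 0x0) (.lf 0xaff076))) (.nd (.nd (.lf 0x0)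 (.lf 0x0)) (.nd (.lf 0x0) (.lf 0x10a8f1a)))) (.nd (.nd (.nd (.lf 0x2f78c34) (.lf 0x316761a)) (.nd (.lf 0x26a7978) (.lf 0x28ecbe3))) (.nd (.nd (.lf 0x0) (.lf 0x9fbc8e)) (.nd (.lf 0x2b57ad7) (.lf 0x2fe3e20))))) (.nd (.nd (.nd (.nd (.lf 0x2c68570) (.lf 0x0)) (.nd (.lf 0x2669152) (.lf 0x2745aee))) (.nd (.nd (.lf 0x0) (.lf 0xe97c00)) (.nd (.lf 0xce953a) (.lf 0x68cf2b)))) (.nd (.nd (.nd (.lf 0x2deeb53) (.lf 0x0)) (.nd (.lf 0x11e95e8) (.lf 0xe9cdc5))) (.nd (.nd (.lf 0x0) (.lf 0x2692824)) (.nd (.lf 0x0) (.lf 0x2161439)))))))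
def witT0_naaaabb : Tr := (.nd (.nd (.nd (.nd (.nd (.nd (.lf 0x0) (.lf 0x0)) (.nd (.lf 0x0) (.lf 0x248d35c))) (.nd (.nd (.lf 0x0) (.lf 0x0)) (.nd (.lf 0x307fa21) (.lf 0xb7c2a4)))) (.nd (.nd (.nd (.lf 0x0) (.lf 0x6a97e2)) (.nd (.lf 0x0) (.lf 0x302a3b1))) (.nd (.nd (.lf 0x0) (.lf 0x0)) (.nd (.lf 0x24e0697) (.lf 0x25266f8))))) (.nd (.nd (.nd (.nd (.lf 0x0) (.lf 0x0)) (.nd (.lf 0x24ac0f4) (.lf 0x3daaf6))) (.nd (.nd (.lf 0x2f94af8) (.lf 0x0)) (.nd (.lf 0x0) (.lf 0x28c4aa0)))) (.nd (.nd (.nd (.lf 0x0) (.lf 0x2d737fd)) (.nd (.lf 0x0) (.lf 0x252ce6a))) (.nd (.nd (.lf 0x0) (.lf 0x0)) (.nd (.lf 0x0) (.lf 0xe2f9dc)))))) (.nd (.nd (.nd (.nd (.nd (.lf 0x0) (.lf 0x31fd20a)) (.nd (.lf 0x0) (.lf 0x2f4f21b))) (.nd (.nd (.lf 0x0) (.lf 0x315036a)) (.nd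 (.lf 0x0) (.lf 0x221fc8e)))) (.nd (.nd (.nd (.lf 0x0) (.lf 0x0)) (.nd (.lf 0x0) (.lf 0x0))) (.nd (.nd (.lf 0x0) (.lf 0x248f90f)) (.nd (.lf 0x20e4737) (.lf 0x3050de0))))) (.nd (.nd (.nd (.nd (.lf 0x0) (.lf 0x238c1f1)) (.nd (.lf 0x0) (.lf 0x2edad0b))) (.nd (.nd (.lf 0x274f853) (.lf 0x26ba12e)) (.nd (.lf 0x0) (.lf 0x2526b65)))) (.nd (.nd (.nd (.lf 0x0) (.lf 0x2a89e6e)) (.nd (.lf 0x0) (.lf 0xbcf6f7))) (.nd (.nd (.lf 0x0) (.lf 0x6758cc)) (.nd (.lf 0x0) (.lf 0)))))))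
def witT0_naaabaa : Tr := (.nd (.nd (.nd (.nd (.nd (.nd (.lf 0x0) (.lf 0x47dd0f)) (.nd (.lf 0x0) (.lf 0x741a1c))) (.nd (.nd (.lf 0x0) (.lf 0x266afd5)) (.nd (.lf 0x71a671) (.lf 0x26bcd58)))) (.nd (.nd (.nd (.lf 0x0) (.lf 0x60b326)) (.nd (.lf 0x0) (.lf 0x5c511e))) (.nd (.nd (.lf 0x0) (.lf 0x1152852)) (.nd (.lf 0x175976) (.lf 0xb111ff))))) (.nd (.nd (.nd (.nd (.lf 0x0) (.lf 0x0)) (.nd (.lf 0x0) (.lf 0x2c38605))) (.nd (.nd (.lf 0x10e67c3) (.lf 0x60b8b6)) (.nd (.lf 0x7dcd38) (.lf 0x5c9033)))) (.nd (.nd (.nd (.lf 0x0) (.lf 0x3da26)) (.nd (.lf 0x0) (.lf 0x21d771b))) (.nd (.nd (.lf 0x0) (.lf 0x0)) (.nd (.lf 0x209923d) (.lf 0x88d36d)))))) (.nd (.nd (.nd (.nd (.nd (.lf 0x0) (.lf 0x0)) (.nd (.lf 0x269c461) (.lf 0x0))) (.nd (.nd (.lf 0x282f3b6)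 (.lf 0x47dba5)) (.nd (.lf 0x0) (.lf 0x2728f8d)))) (.nd (.nd (.nd (.lf 0x0) (.lf 0x23e5036)) (.nd (.lf 0x0) (.lf 0x0))) (.nd (.nd (.lf 0x0) (.lf 0x2651133)) (.nd (.lf 0x0) (.lf 0x0))))) (.nd (.nd (.nd (.nd (.lf 0x0) (.lf 0x2d1da52)) (.nd (.lf 0x0) (.lf 0x2b015e9))) (.nd (.nd (.lf 0x28f433f) (.lf 0x0)) (.nd (.lf 0x0) (.lf 0xa43743)))) (.nd (.nd (.nd (.lf 0x0) (.lf 0x218f527)) (.nd (.lf 0x0) (.lf 0x78b31e))) (.nd (.nd (.lf 0x0) (.lf 0xf684c1)) (.nd (.lf 0x0) (.lf 0x2c4b3b2)))))))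
def witT0_naaabab : Tr := (.nd (.nd (.nd (.nd (.nd (.nd (.lf 0x0) (.lf 0x0)) (.nd (.lf 0x0) (.lf 0x0))) (.nd (.nd (.lf 0x2e68a48) (.lf 0x30305f6)) (.nd (.lf 0xdeb246) (.lf 0x2c747ba)))) (.nd (.nd (.nd (.lf 0x0) (.lf 0x0)) (.nd (.lf 0xa28201) (.lf 0x21c6f82))) (.nd (.nd (.lf 0x0) (.lf 0x2c6991d)) (.nd (.lf 0x0) (.lf 0x58f32d))))) (.nd (.nd (.nd (.nd (.lf 0x0) (.lf 0x9ab5eb)) (.nd (.lf 0x0) (.lf 0x0))) (.nd (.nd (.lf 0x0) (.lf 0x2e2cdce)) (.nd (.lf 0x2cdb4d8) (.lf 0x7998c5)))) (.nd (.nd (.nd (.lf 0x0) (.lf 0x0)) (.nd (.lf 0x0) (.lf 0x0))) (.nd (.nd (.lf 0x0) (.lf 0x0)) (.nd (.lf 0x0) (.lf 0x3ce9b1)))))) (.nd (.nd (.nd (.nd (.nd (.lf 0x0) (.lf 0x68fcce)) (.nd (.lf 0x0) (.lf 0x33f2f4))) (.nd (.nd (.lf 0x0) (.lf 0x0)) (.nd (.lf 0x20ebd00)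 (.lf 0x2b5a583)))) (.nd (.nd (.nd (.lf 0x295731) (.lf 0xa560ba)) (.nd (.lf 0x0) (.lf 0xf6dc5))) (.nd (.nd (.lf 0x0) (.lf 0x6bceb6)) (.nd (.lf 0x0) (.lf 0x25cdc96))))) (.nd (.nd (.nd (.nd (.lf 0x0) (.lf 0x9d67e)) (.nd (.lf 0x3ce06c) (.lf 0x0))) (.nd (.nd (.lf 0x2cef281) (.lf 0x0)) (.nd (.lf 0x0) (.lf 0x2d61e54)))) (.nd (.nd (.nd (.lf 0x0) (.lf 0x0)) (.nd (.lf 0x2bc35c1) (.lf 0x28ae916))) (.nd (.nd (.lf 0x0) (.lf 0x769d19)) (.nd (.lf 0x2dc0bbb) (.lf 0)))))))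
def witT0_naaabba : Tr := (.nd (.nd (.nd (.nd (.nd (.nd (.lf 0x0) (.lf 0x2a9152)) (.nd (.lf 0x0) (.lf 0x26dd4ed))) (.nd (.nd (.lf 0x0) (.lf 0x2be2287)) (.nd (.lf 0x457098) (.lf 0x28beaa6)))) (.nd (.nd (.nd (.lf 0x0) (.lf 0x0)) (.nd (.lf 0x0) (.lf 0x25821f6))) (.nd (.nd (.lf 0x0) (.lf 0x2c14c03)) (.nd (.lf 0x240ce68) (.lf 0xc01c1e))))) (.nd (.nd (.nd (.nd (.lf 0x0) (.lf 0x279b315)) (.nd (.lf 0x0) (.lf 0x0))) (.nd (.nd (.lf 0x0) (.lf 0x0)) (.nd (.lf 0x0) (.lf 0x1100a39)))) (.nd (.nd (.nd (.lf 0x0) (.lf 0x0)) (.nd (.lf 0x0) (.lf 0xc5fcb2))) (.nd (.nd (.lf 0x0) (.lf 0x0)) (.nd (.lf 0x0) (.lf 0x9f8baf)))))) (.nd (.nd (.nd (.nd (.nd (.lf 0xb1292e) (.lf 0x3018308)) (.nd (.lf 0x20842ad) (.lf 0x26b18df))) (.nd (.nd (.lf 0x0) (.lf 0x0)) (.nd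 (.lf 0x0) (.lf 0x1042946)))) (.nd (.nd (.nd (.lf 0x0) (.lf 0x2d46b11)) (.nd (.lf 0x0) (.lf 0x2dd4f42))) (.nd (.nd (.lf 0x0) (.lf 0x0)) (.nd (.lf 0x0) (.lf 0x4562de))))) (.nd (.nd (.nd (.nd (.lf 0x0) (.lf 0x223f61b)) (.nd (.lf 0x0) (.lf 0x21d1a9f))) (.nd (.nd (.lf 0x109611e) (.lf 0x24c05de)) (.nd (.lf 0x0) (.lf 0x2ae2987)))) (.nd (.nd (.nd (.lf 0x0) (.lf 0x276ab08)) (.nd (.lf 0x0) (.lf 0x21928e))) (.nd (.nd (.lf 0x0) (.lf 0x4bf094)) (.nd (.lf 0x0) (.lf 0x10bc6d7)))))))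
def witT0_naaabbb : Tr := (.nd (.nd (.nd (.nd (.nd (.nd (.lf 0x0) (.lf 0x26496da)) (.nd (.lf 0x0) (.lf 0x0))) (.nd (.nd (.lf 0x0) (.lf 0x2b82978)) (.nd (.lf 0x0) (.lf 0x2dd0aae)))) (.nd (.nd (.nd (.lf 0x0) (.lf 0x61cea3)) (.nd (.lf 0x0) (.lf 0x0))) (.nd (.nd (.lf 0x0) (.lf 0x0)) (.nd (.lf 0xfe19bf) (.lf 0x115a511))))) (.nd (.nd (.nd (.nd (.lf 0x0) (.lf 0xd8963e)) (.nd (.lf 0x0) (.lf 0x2090270))) (.nd (.nd (.lf 0x0) (.lf 0x2be1659)) (.nd (.lf 0x0) (.lf 0x25b58a3)))) (.nd (.nd (.nd (.lf 0x0) (.lf 0x23586b9)) (.nd (.lf 0xca8332) (.lf 0x30d656e))) (.nd (.nd (.lf 0x0) (.lf 0x2b8ba62)) (.nd (.lf 0x5217ad) (.lf 0xfe3c37)))))) (.nd (.nd (.nd (.nd (.nd (.lf 0x0) (.lf 0x24534a2)) (.nd (.lf 0x0) (.lf 0x266e22a))) (.nd (.nd (.lf 0x0) (.lf 0x21554c3))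 (.nd (.lf 0x0) (.lf 0x775814)))) (.nd (.nd (.nd (.lf 0x21ff40d) (.lf 0x2eb77c)) (.nd (.lf 0x0) (.lf 0x2163858))) (.nd (.nd (.lf 0xa6e1ed) (.lf 0x0)) (.nd (.lf 0x0) (.lf 0x1011874))))) (.nd (.nd (.nd (.nd (.lf 0x0) (.lf 0x2be3702)) (.nd (.lf 0x0) (.lf 0x1cb853))) (.nd (.nd (.lf 0x0) (.lf 0x5cd2a0)) (.nd (.lf 0x2f1e0eb) (.lf 0x2e38fcd)))) (.nd (.nd (.nd (.lf 0x0) (.lf 0x226168e)) (.nd (.lf 0x0) (.lf 0x2b49568))) (.nd (.nd (.lf 0x0) (.lf 0x237527c)) (.nd (.lf 0x0) (.lf 0)))))))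
def witT0_naabaaa : Tr := (.nd (.nd (.nd (.nd (.nd (.nd (.lf 0x0) (.lf 0x30464fe)) (.nd (.lf 0x2094575) (.lf 0x7ca88))) (.nd (.nd (.lf 0x0) (.lf 0x0)) (.nd (.lf 0x0) (.lf 0x314bbaf)))) (.nd (.nd (.nd (.lf 0x0) (.lf 0x333102)) (.nd (.lf 0x0) (.lf 0x7bf1b0))) (.nd (.nd (.lf 0x0) (.lf 0x0)) (.nd (.lf 0x0) (.lf 0x2e293ba))))) (.nd (.nd (.nd (.nd (.lf 0x0) (.lf 0x2d68980)) (.nd (.lf 0x0) (.lf 0x25d4ee3))) (.nd (.nd (.lf 0x0) (.lf 0x2cc4714)) (.nd (.lf 0x0) (.lf 0x109dc67)))) (.nd (.nd (.nd (.lf 0x0) (.lf 0x31c361d)) (.nd (.lf 0x1450c4) (.lf 0x2cf2a76))) (.nd (.nd (.lf 0x20a183) (.lf 0x23d5b97)) (.nd (.lf 0xd061c1) (.lf 0x115107e)))))) (.nd (.nd (.nd (.nd (.nd (.lf 0x0) (.lf 0x2ad54ef)) (.nd (.lf 0x0) (.lf 0x2af42de))) (.nd (.nd (.lf 0x0)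 (.lf 0x223646f)) (.nd (.lf 0x0) (.lf 0x26992cc)))) (.nd (.nd (.nd (.lf 0x0) (.lf 0x31a8b3c)) (.nd (.lf 0x0) (.lf 0x254f78a))) (.nd (.nd (.lf 0x0) (.lf 0x1050aa5)) (.nd (.lf 0x0) (.lf 0x21ad719))))) (.nd (.nd (.nd (.nd (.lf 0x0) (.lf 0x2cc191c)) (.nd (.lf 0x0) (.lf 0x95884b))) (.nd (.nd (.lf 0x0) (.lf 0x2ae1dfa)) (.nd (.lf 0x0) (.lf 0x2f17682)))) (.nd (.nd (.nd (.lf 0x0) (.lf 0x2ed6e9a)) (.nd (.lf 0x61d218) (.lf 0xac3453))) (.nd (.nd (.lf 0x0) (.lf 0x2649609)) (.nd (.lf 0x210aa61) (.lf 0x7be067)))))))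
def witT0_naabaab : Tr := (.nd (.nd (.nd (.nd (.nd (.nd (.lf 0x0) (.lf 0x2b9b465)) (.nd (.lf 0x2d6b9cc) (.lf 0x9c0155))) (.nd (.nd (.lf 0x0) (.lf 0x0)) (.nd (.lf 0xfd0fee) (.lf 0x2336d6d)))) (.nd (.nd (.nd (.lf 0x0) (.lf 0x0)) (.nd (.lf 0xa05d86) (.lf 0x28cfb4))) (.nd (.nd (.lf 0x37c043) (.lf 0x921873)) (.nd (.lf 0x0) (.lf 0x56c3e1))))) (.nd (.nd (.nd (.nd (.lf 0x0) (.lf 0x0)) (.nd (.lf 0x0) (.lf 0x24f0739))) (.nd (.nd (.lf 0x0) (.lf 0xd6a301)) (.nd (.lf 0x2182f2c) (.lf 0x273fb33)))) (.nd (.nd (.nd (.lf 0x0) (.lf 0x3dfe2e)) (.nd (.lf 0x0) (.lf 0x2d5b7b6))) (.nd (.nd (.lf 0x0) (.lf 0x21c22a2)) (.nd (.lf 0x0) (.lf 0x130e49)))))) (.nd (.nd (.nd (.nd (.nd (.lf 0x0) (.lf 0x2bf7820)) (.nd (.lf 0x0) (.lf 0x300f594))) (.nd (.nd (.lf 0x0)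 (.lf 0x63cba0)) (.nd (.lf 0x1048c9) (.lf 0x23df8c8)))) (.nd (.nd (.nd (.lf 0x0) (.lf 0x8fa7b8)) (.nd (.lf 0x26b740c) (.lf 0x2816415))) (.nd (.nd (.lf 0x0) (.lf 0x7005dd)) (.nd (.lf 0x683236) (.lf 0xbb50fc))))) (.nd (.nd (.nd (.nd (.lf 0x0) (.lf 0x76718d)) (.nd (.lf 0x0) (.lf 0x106f51d))) (.nd (.nd (.lf 0x0) (.lf 0x230ba5e)) (.nd (.lf 0x0) (.lf 0x33fd48)))) (.nd (.nd (.nd (.lf 0x0) (.lf 0x0)) (.nd (.lf 0x1064226) (.lf 0x2287a3f))) (.nd (.nd (.lf 0x0) (.lf 0x0)) (.nd (.lf 0x0) (.lf 0)))))))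
def witT0_naababa : Tr := (.nd (.nd (.nd (.nd (.nd (.nd (.lf 0x0) (.lf 0x1c7bbd)) (.nd (.lf 0x0) (.lf 0x2dcbab5))) (.nd (.nd (.lf 0x0) (.lf 0x0)) (.nd (.lf 0x0) (.lf 0x316e897)))) (.nd (.nd (.nd (.lf 0x0) (.lf 0x24870bd)) (.nd (.lf 0x0) (.lf 0xad236d))) (.nd (.nd (.lf 0x0) (.lf 0x0)) (.nd (.lf 0x8e9b1a) (.lf 0xfe398d))))) (.nd (.nd (.nd (.nd (.lf 0x0) (.lf 0x2c60698)) (.nd (.lf 0x20346b1) (.lf 0xd04d14))) (.nd (.nd (.lf 0x2331be3) (.lf 0x0)) (.nd (.lf 0x2c063bf) (.lf 0x301b5fb)))) (.nd (.nd (.nd (.lf 0x0) (.lf 0x0)) (.nd (.lf 0x201a431) (.lf 0x922c90))) (.nd (.nd (.lf 0x0) (.lf 0x24628c9)) (.nd (.lf 0x551883) (.lf 0x2f315dc)))))) (.nd (.nd (.nd (.nd (.nd (.lf 0x0) (.lf 0x0)) (.nd (.lf 0x0) (.lf 0x0))) (.nd (.nd (.lf 0x0) (.lf 0x10dce55))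 (.nd (.lf 0x0) (.lf 0xbe373)))) (.nd (.nd (.nd (.lf 0x0) (.lf 0x0)) (.nd (.lf 0x0) (.lf 0x2028ae5))) (.nd (.nd (.lf 0x0) (.lf 0xc0cdeb)) (.nd (.lf 0x0) (.lf 0x24c58c8))))) (.nd (.nd (.nd (.nd (.lf 0x0) (.lf 0x27b7cb1)) (.nd (.lf 0x0) (.lf 0x2c1fc0f))) (.nd (.nd (.lf 0x0) (.lf 0x2664aef)) (.nd (.lf 0x0) (.lf 0x2f8ea80)))) (.nd (.nd (.nd (.lf 0x0) (.lf 0xb2b776)) (.nd (.lf 0x22ea907) (.lf 0x441228))) (.nd (.nd (.lf 0x0) (.lf 0x2cf162a)) (.nd (.lf 0x0) (.lf 0x21c548d)))))))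
def witT0_naababb : Tr := (.nd (.nd (.nd (.nd (.nd (.nd (.lf 0x0) (.lf 0x73cb9b)) (.nd (.lf 0x0) (.lf 0xafd072))) (.nd (.nd (.lf 0x2e0a5ef) (.lf 0x0)) (.nd (.lf 0x0) (.lf 0x24749a0)))) (.nd (.nd (.nd (.lf 0x0) (.lf 0x0)) (.nd (.lf 0x0) (.lf 0x20071b8))) (.nd (.nd (.lf 0x0) (.lf 0x2a02ce4)) (.nd (.lf 0x0) (.lf 0x2759607))))) (.nd (.nd (.nd (.nd (.lf 0x0) (.lf 0x11cf21)) (.nd (.lf 0x0) (.lf 0x1f8d6))) (.nd (.nd (.lf 0x0) (.lf 0x22574fe)) (.nd (.lf 0x9c6fa4) (.lf 0xff6304)))) (.nd (.nd (.nd (.lf 0x0) (.lf 0x11771e8)) (.nd (.lf 0x0) (.lf 0x26d2d48))) (.nd (.nd (.lf 0x0) (.lf 0x2c7b936)) (.nd (.lf 0x0) (.lf 0x21a784b)))))) (.nd (.nd (.nd (.nd (.nd (.lf 0x0) (.lf 0x10fbc29)) (.nd (.lf 0x0) (.lf 0x2ddfbb3))) (.nd (.nd (.lf 0x0) (.lf 0x21b0528))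 (.nd (.lf 0x0) (.lf 0x66d2d9)))) (.nd (.nd (.nd (.lf 0x0) (.lf 0x0)) (.nd (.lf 0x0) (.lf 0x807b0d))) (.nd (.nd (.lf 0x314be4e) (.lf 0x0)) (.nd (.lf 0x0) (.lf 0x6d78ef))))) (.nd (.nd (.nd (.nd (.lf 0x0) (.lf 0x0)) (.nd (.lf 0x27732a) (.lf 0x89858d))) (.nd (.nd (.lf 0x0) (.lf 0x2c51705)) (.nd (.lf 0x2a29b14) (.lf 0x5618f)))) (.nd (.nd (.nd (.lf 0x0) (.lf 0x2dcd16d)) (.nd (.lf 0x0) (.lf 0x20ec8ee))) (.nd (.nd (.lf 0x0) (.lf 0x2a373e7)) (.nd (.lf 0x2c79188) (.lf 0)))))))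
def witT0_naabbaa : Tr := (.nd (.nd (.nd (.nd (.nd (.nd (.lf 0x0) (.lf 0xf8938c)) (.nd (.lf 0x0) (.lf 0x20fb0f2))) (.nd (.nd (.lf 0x0) (.lf 0x0)) (.nd (.lf 0x2cc8577) (.lf 0x28b1399)))) (.nd (.nd (.nd (.lf 0x0) (.lf 0x0)) (.nd (.lf 0x0) (.lf 0x2e14637))) (.nd (.nd (.lf 0x0) (.lf 0x2dce4eb)) (.nd (.lf 0x0) (.lf 0x27993f8))))) (.nd (.nd (.nd (.nd (.lf 0x0) (.lf 0x0)) (.nd (.lf 0x70a206) (.lf 0x2d275ea))) (.nd (.nd (.lf 0x0) (.lf 0x21972dc)) (.nd (.lf 0xdcf790) (.lf 0xe7fcd2)))) (.nd (.nd (.nd (.lf 0x0) (.lf 0xebdcc1)) (.nd (.lf 0xb6473b) (.lf 0x1033a21))) (.nd (.nd (.lf 0x0) (.lf 0x0)) (.nd (.lf 0x0) (.lf 0x65503b)))))) (.nd (.nd (.nd (.nd (.nd (.lf 0x0) (.lf 0x2f4c518)) (.nd (.lf 0x0) (.lf 0x2c5ae63))) (.nd (.nd (.lf 0x0) (.lf 0x31be6d5))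 (.nd (.lf 0x475015) (.lf 0x25b748f)))) (.nd (.nd (.nd (.lf 0x284424c) (.lf 0x2588d6a)) (.nd (.lf 0x0) (.lf 0xf3c6c2))) (.nd (.nd (.lf 0x0) (.lf 0x835606)) (.nd (.lf 0x0) (.lf 0x5cbd1d))))) (.nd (.nd (.nd (.nd (.lf 0x0) (.lf 0x0)) (.nd (.lf 0x0) (.lf 0x2821c75))) (.nd (.nd (.lf 0x0) (.lf 0x211f204)) (.nd (.lf 0x0) (.lf 0x2d9a5b8)))) (.nd (.nd (.nd (.lf 0x0) (.lf 0x79d6d0)) (.nd (.lf 0x0) (.lf 0x0))) (.nd (.nd (.lf 0x0) (.lf 0x4154c4)) (.nd (.lf 0x0) (.lf 0x25e1d9)))))))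
def witT0_naabbab : Tr := (.nd (.nd (.nd (.nd (.nd (.nd (.lf 0x0) (.lf 0x24bbaed)) (.nd (.lf 0x0) (.lf 0x2b0e8a6))) (.nd (.nd (.lf 0x2634c11) (.lf 0x0)) (.nd (.lf 0x0) (.lf 0x115de76)))) (.nd (.nd (.nd (.lf 0x0) (.lf 0x0)) (.nd (.lf 0x0) (.lf 0x81bc20))) (.nd (.nd (.lf 0x0) (.lf 0x29c15b6)) (.nd (.lf 0x6b2129) (.lf 0x2353253))))) (.nd (.nd (.nd (.nd (.lf 0x0) (.lf 0x0)) (.nd (.lf 0x0) (.lf 0x303bda))) (.nd (.nd (.lf 0x0) (.lf 0x0)) (.nd (.lf 0x2757d66) (.lf 0x50ab3c)))) (.nd (.nd (.nd (.lf 0x0) (.lf 0x0)) (.nd (.lf 0x48f28c) (.lf 0x2fcecac))) (.nd (.nd (.lf 0x0) (.lf 0x0)) (.nd (.lf 0x6dfd78) (.lf 0x26d9959)))))) (.nd (.nd (.nd (.nd (.nd (.lf 0x0) (.lf 0x0)) (.nd (.lf 0x0) (.lf 0x0))) (.nd (.nd (.lf 0x0) (.lf 0x0)) (.nd (.lf 0x211a3e6)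 (.lf 0xa8378e)))) (.nd (.nd (.nd (.lf 0x0) (.lf 0x1116460)) (.nd (.lf 0xd117b3) (.lf 0x8f2184))) (.nd (.nd (.lf 0x0) (.lf 0x25b3a1a)) (.nd (.lf 0x0) (.lf 0x488a69))))) (.nd (.nd (.nd (.nd (.lf 0x0) (.lf 0x807d47)) (.nd (.lf 0x0) (.lf 0x24eb6cf))) (.nd (.nd (.lf 0x0) (.lf 0xe4b275)) (.nd (.lf 0x0) (.lf 0x2c00d78)))) (.nd (.nd (.nd (.lf 0xb27192) (.lf 0x0)) (.nd (.lf 0x0) (.lf 0x2bc2975))) (.nd (.nd (.lf 0x0) (.lf 0x305fa87)) (.nd (.lf 0x0) (.lf 0)))))))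
def witT0_naabbba : Tr := (.nd (.nd (.nd (.nd (.nd (.nd (.lf 0x0) (.lf 0x0)) (.nd (.lf 0x259727c) (.lf 0xd51649))) (.nd (.nd (.lf 0x0) (.lf 0x29ba9f0)) (.nd (.lf 0xe148fc) (.lf 0x230e021)))) (.nd (.nd (.nd (.lf 0x0) (.lf 0x0)) (.nd (.lf 0xb69d58) (.lf 0x22467b8))) (.nd (.nd (.lf 0x0) (.lf 0xa8424a)) (.nd (.lf 0x22949c3) (.lf 0x0))))) (.nd (.nd (.nd (.nd (.lf 0x0) (.lf 0x248cc0a)) (.nd (.lf 0x2e245f2) (.lf 0x7a2ad9))) (.nd (.nd (.lf 0x0) (.lf 0x7958c3)) (.nd (.lf 0x0) (.lf 0x6f0be8)))) (.nd (.nd (.nd (.lf 0x0) (.lf 0x0)) (.nd (.lf 0xbfcac0) (.lf 0x3db7c1))) (.nd (.nd (.lf 0x0) (.lf 0x2adee6d)) (.nd (.lf 0x0) (.lf 0x2629b76)))))) (.nd (.nd (.nd (.nd (.nd (.lf 0x0) (.lf 0x0)) (.nd (.lf 0x0) (.lf 0xe17e2f))) (.nd (.nd (.lf 0x0) (.lf 0x0))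 (.nd (.lf 0x0) (.lf 0xb3fbc1)))) (.nd (.nd (.nd (.lf 0x0) (.lf 0x9afbb4)) (.nd (.lf 0x0) (.lf 0x245b066))) (.nd (.nd (.lf 0x0) (.lf 0x23211de)) (.nd (.lf 0x0) (.lf 0x2de73ba))))) (.nd (.nd (.nd (.nd (.lf 0x0) (.lf 0x2b12294)) (.nd (.lf 0x0) (.lf 0x0))) (.nd (.nd (.lf 0x0) (.lf 0xb45bd9)) (.nd (.lf 0x0) (.lf 0x285f6ca)))) (.nd (.nd (.nd (.lf 0x31af936) (.lf 0x533ce4)) (.nd (.lf 0x0) (.lf 0x0))) (.nd (.nd (.lf 0x0) (.lf 0x0)) (.nd (.lf 0x2507e13) (.lf 0)))))))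
def witT0_naabbbb : Tr := (.nd (.nd (.nd (.nd (.nd (.nd (.lf 0x0) (.lf 0x0)) (.nd (.lf 0x0) (.lf 0x292237b))) (.nd (.nd (.lf 0x0) (.lf 0x77a17)) (.nd (.lf 0x22d946b) (.lf 0xaf3043)))) (.nd (.nd (.nd (.lf 0x0) (.lf 0x219962c)) (.nd (.lf 0x2549351) (.lf 0x231db2e))) (.nd (.nd (.lf 0x0) (.lf 0x215c0c3)) (.nd (.lf 0x0) (.lf 0xea7bcd))))) (.nd (.nd (.nd (.nd (.lf 0x0) (.lf 0xdaa3fd)) (.nd (.lf 0x0) (.lf 0x512b21))) (.nd (.nd (.lf 0x0) (.lf 0x0)) (.nd (.lf 0x0) (.lf 0x63d5d7)))) (.nd (.nd (.nd (.lf 0x0) (.lf 0x0)) (.nd (.lf 0x0) (.lf 0x299c69a))) (.nd (.nd (.lf 0xc3c8ad) (.lf 0x710c7b)) (.nd (.lf 0xf7f59f) (.lf 0x28849da)))))) (.nd (.nd (.nd (.nd (.nd (.lf 0x0) (.lf 0x2f36615)) (.nd (.lf 0x0) (.lf 0x482dbf))) (.nd (.nd (.lf 0x0) (.lf 0x0))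 (.nd (.lf 0xdfc7e2) (.lf 0x29ff168)))) (.nd (.nd (.nd (.lf 0x3164dc8) (.lf 0xebcfd)) (.nd (.lf 0x0) (.lf 0x0))) (.nd (.nd (.lf 0x0) (.lf 0x21b554f)) (.nd (.lf 0x0) (.lf 0x2ab6e09))))) (.nd (.nd (.nd (.nd (.lf 0x0) (.lf 0x29e4afc)) (.nd (.lf 0x0) (.lf 0x2984f7a))) (.nd (.nd (.lf 0x0) (.lf 0x0)) (.nd (.lf 0x8f464) (.lf 0x6422a5)))) (.nd (.nd (.nd (.lf 0x0) (.lf 0x9573e6)) (.nd (.lf 0x0) (.lf 0x2564c54))) (.nd (.nd (.lf 0x31a4f32) (.lf 0x214b169)) (.nd (.lf 0xdc6ab) (.lf 0)))))))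
def witT0_nabaaaa : Tr := (.nd (.nd (.nd (.nd (.nd (.nd (.lf 0x0) (.lf 0x2603d30)) (.nd (.lf 0x11885d) (.lf 0x5fa9e2))) (.nd (.nd (.lf 0x31780c9) (.lf 0x56be05)) (.nd (.lf 0x311211a) (.lf 0x2538fa3)))) (.nd (.nd (.nd (.lf 0x0) (.lf 0xcbd42d)) (.nd (.lf 0x6bb598) (.lf 0x0))) (.nd (.nd (.lf 0x0) (.lf 0x20ec251)) (.nd (.lf 0x257f7fc) (.lf 0x2d62163))))) (.nd (.nd (.nd (.nd (.lf 0x0) (.lf 0x0)) (.nd (.lf 0x0) (.lf 0x230eac3))) (.nd (.nd (.lf 0x0) (.lf 0x2705343)) (.nd (.lf 0x0) (.lf 0xdf9325)))) (.nd (.nd (.nd (.lf 0x0) (.lf 0x4ceee5)) (.nd (.lf 0x0) (.lf 0x2757bd5))) (.nd (.nd (.lf 0x0) (.lf 0x23642c4)) (.nd (.lf 0x28fca0a) (.lf 0xbbc294)))))) (.nd (.nd (.nd (.nd (.nd (.lf 0x0) (.lf 0x3928c8)) (.nd (.lf 0x0) (.lf 0xe9d2f5))) (.nd (.nd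 (.lf 0x0) (.lf 0x2623dc8)) (.nd (.lf 0x0) (.lf 0x8110d3)))) (.nd (.nd (.nd (.lf 0x0) (.lf 0xf3e324)) (.nd (.lf 0x0) (.lf 0x621739))) (.nd (.nd (.lf 0x0) (.lf 0x2b2a4a4)) (.nd (.lf 0x0) (.lf 0x20f9c0f))))) (.nd (.nd (.nd (.nd (.lf 0x0) (.lf 0x1016695)) (.nd (.lf 0x0) (.lf 0x203faa3))) (.nd (.nd (.lf 0x0) (.lf 0x2f76703)) (.nd (.lf 0x0) (.lf 0x23cc796)))) (.nd (.nd (.nd (.lf 0x0) (.lf 0x0)) (.nd (.lf 0x0) (.lf 0x210734d))) (.nd (.nd (.lf 0x0) (.lf 0x7b3aec)) (.nd (.lf 0x0) (.lf 0x3088bf2)))))))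
def witT0_nabaaab : Tr := (.nd (.nd (.nd (.nd (.nd (.nd (.lf 0x0) (.lf 0x0)) (.nd (.lf 0x0) (.lf 0x8d62ad))) (.nd (.nd (.lf 0x0) (.lf 0xfdf982)) (.nd (.lf 0x0) (.lf 0x34c99b)))) (.nd (.nd (.nd (.lf 0x0) (.lf 0x2d7e406)) (.nd (.lf 0x7412f) (.lf 0x249ad63))) (.nd (.nd (.lf 0x0) (.lf 0x5ab343)) (.nd (.lf 0xac7af6) (.lf 0xa93cb5))))) (.nd (.nd (.nd (.nd (.lf 0x0) (.lf 0x0)) (.nd (.lf 0x22cc4e5) (.lf 0x1032b89))) (.nd (.nd (.lf 0x0) (.lf 0x216861d)) (.nd (.lf 0x26b027) (.lf 0x1f2c60)))) (.nd (.nd (.nd (.lf 0x0) (.lf 0x2fdc01d)) (.nd (.lf 0x0) (.lf 0x21217be))) (.nd (.nd (.lf 0x0) (.lf 0x2c9d5d3)) (.nd (.lf 0x0) (.lf 0x31ef21e)))))) (.nd (.nd (.nd (.nd (.nd (.lf 0x0) (.lf 0x0)) (.nd (.lf 0x0) (.lf 0x2e777f8))) (.nd (.nd (.lf 0x0) (.lf 0x217ec31))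 (.nd (.lf 0x272a7b5) (.lf 0x2e7ba87)))) (.nd (.nd (.nd (.lf 0x0) (.lf 0xd807ac)) (.nd (.lf 0x2d0a4eb) (.lf 0x7c7c1e))) (.nd (.nd (.lf 0x0) (.lf 0x3185556)) (.nd (.lf 0xc4cbe7) (.lf 0x2c8d9ef))))) (.nd (.nd (.nd (.nd (.lf 0x0) (.lf 0x289bcb5)) (.nd (.lf 0x0) (.lf 0x0))) (.nd (.nd (.lf 0x0) (.lf 0x25d6472)) (.nd (.lf 0x0) (.lf 0x112e81a)))) (.nd (.nd (.nd (.lf 0x0) (.lf 0xee0ea1)) (.nd (.lf 0x30df2ec) (.lf 0x313a0db))) (.nd (.nd (.lf 0x0) (.lf 0x11c5204)) (.nd (.lf 0x0) (.lf 0)))))))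
def witT0_nabaaba : Tr := (.nd (.nd (.nd (.nd (.nd (.nd (.lf 0x0) (.lf 0x0)) (.nd (.lf 0x0) (.lf 0xd09b47))) (.nd (.nd (.lf 0x0) (.lf 0x11e6dd3)) (.nd (.lf 0x0) (.lf 0x10a3010)))) (.nd (.nd (.nd (.lf 0x0) (.lf 0x0)) (.nd (.lf 0x0) (.lf 0x31c39a6))) (.nd (.nd (.lf 0x0) (.lf 0x0)) (.nd (.lf 0x2f78bc1) (.lf 0xe81657))))) (.nd (.nd (.nd (.nd (.lf 0x0) (.lf 0x2048787)) (.nd (.lf 0x0) (.lf 0x0))) (.nd (.nd (.lf 0x0) (.lf 0x11e34b3)) (.nd (.lf 0xc5e37f) (.lf 0xb871be)))) (.nd (.nd (.nd (.lf 0x0) (.lf 0x8ed40a)) (.nd (.lf 0x0) (.lf 0x869917))) (.nd (.nd (.lf 0x0) (.lf 0x23c3b81)) (.nd (.lf 0xa33b0) (.lf 0x2de192e)))))) (.nd (.nd (.nd (.nd (.nd (.lf 0x0) (.lf 0xc3705e)) (.nd (.lf 0x1163ab0) (.lf 0xb4a729))) (.nd (.nd (.lf 0x10a1659) (.lf 0xf044b0))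 (.nd (.lf 0x251b45a) (.lf 0x0)))) (.nd (.nd (.nd (.lf 0x0) (.lf 0x2b0369f)) (.nd (.lf 0x0) (.lf 0x69471b))) (.nd (.nd (.lf 0x82ceba) (.lf 0x0)) (.nd (.lf 0x0) (.lf 0x93caf0))))) (.nd (.nd (.nd (.nd (.lf 0x0) (.lf 0x0)) (.nd (.lf 0x0) (.lf 0x2beab6f))) (.nd (.nd (.lf 0x0) (.lf 0x21d9e7)) (.nd (.lf 0x2a5b862) (.lf 0x2712543)))) (.nd (.nd (.nd (.lf 0x0) (.lf 0x22df327)) (.nd (.lf 0x30c6698) (.lf 0x97b1c7))) (.nd (.nd (.lf 0x0) (.lf 0x1ed35e)) (.nd (.lf 0x0) (.lf 0x20bcfee)))))))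
def witT0_nabaabb : Tr := (.nd (.nd (.nd (.nd (.nd (.nd (.lf 0x0) (.lf 0x0)) (.nd (.lf 0x0) (.lf 0x0))) (.nd (.nd (.lf 0x0) (.lf 0x181a90)) (.nd (.lf 0x0) (.lf 0x52bcc7)))) (.nd (.nd (.nd (.lf 0x0) (.lf 0x0)) (.nd (.lf 0x0) (.lf 0x0))) (.nd (.nd (.lf 0xe4b210) (.lf 0x2ba0827)) (.nd (.lf 0x0) (.lf 0x0))))) (.nd (.nd (.nd (.nd (.lf 0x0) (.lf 0x2cec6fa)) (.nd (.lf 0x0) (.lf 0x0))) (.nd (.nd (.lf 0x0) (.lf 0x0)) (.nd (.lf 0x0) (.lf 0x2167480)))) (.nd (.nd (.nd (.lf 0x0) (.lf 0x0)) (.nd (.lf 0x21e1e6d) (.lf 0x2fa4932))) (.nd (.nd (.lf 0x0) (.lf 0x23f1530)) (.nd (.lf 0xbe2d7) (.lf 0x353ba9)))))) (.nd (.nd (.nd (.nd (.nd (.lf 0x0) (.lf 0x0)) (.nd (.lf 0x0) (.lf 0x2c7e820))) (.nd (.nd (.lf 0x0) (.lf 0x0)) (.nd (.lf 0x91941) (.lf 0x24d0d1c))))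 (.nd (.nd (.nd (.lf 0x0) (.lf 0x0)) (.nd (.lf 0xabd9f6) (.lf 0x205b71c))) (.nd (.nd (.lf 0x0) (.lf 0x0)) (.nd (.lf 0x23eb64a) (.lf 0x1187c71))))) (.nd (.nd (.nd (.nd (.lf 0x0) (.lf 0x0)) (.nd (.lf 0x0) (.lf 0x222588e))) (.nd (.nd (.lf 0x0) (.lf 0x0)) (.nd (.lf 0x0) (.lf 0xc917c8)))) (.nd (.nd (.nd (.lf 0x0) (.lf 0x0)) (.nd (.lf 0xfc8c50) (.lf 0x2d0b4c7))) (.nd (.nd (.lf 0x0) (.lf 0x2686104)) (.nd (.lf 0x27d3e63) (.lf 0)))))))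
def witT0_nababaa : Tr := (.nd (.nd (.nd (.nd (.nd (.nd (.lf 0x0) (.lf 0x2a6f0e)) (.nd (.lf 0x37d406) (.lf 0xa5a222))) (.nd (.nd (.lf 0x0) (.lf 0x50bab)) (.nd (.lf 0x0) (.lf 0x2f74a3c)))) (.nd (.nd (.nd (.lf 0x0) (.lf 0x4cef99)) (.nd (.lf 0x0) (.lf 0x51491d))) (.nd (.nd (.lf 0x0) (.lf 0x49c03e)) (.nd (.lf 0x0) (.lf 0xb4587))))) (.nd (.nd (.nd (.nd (.lf 0x0) (.lf 0x0)) (.nd (.lf 0x0) (.lf 0x2b049bc))) (.nd (.nd (.lf 0x0) (.lf 0x35e8e1)) (.nd (.lf 0x224559) (.lf 0x0)))) (.nd (.nd (.nd (.lf 0x0) (.lf 0xa5db97)) (.nd (.lf 0x0) (.lf 0x236976c))) (.nd (.nd (.lf 0x0) (.lf 0x27cbbc8)) (.nd (.lf 0x0) (.lf 0xab956b)))))) (.nd (.nd (.nd (.nd (.nd (.lf 0x0) (.lf 0x208bdbb)) (.nd (.lf 0x0) (.lf 0xaa6c4b))) (.nd (.nd (.lf 0x0) (.lf 0x10e7533))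 (.nd (.lf 0x0) (.lf 0xc2c0f3)))) (.nd (.nd (.nd (.lf 0x0) (.lf 0x25c6461)) (.nd (.lf 0xbc133) (.lf 0x25d0b60))) (.nd (.nd (.lf 0x111744e) (.lf 0x2422341)) (.nd (.lf 0x247748f) (.lf 0x8e29b0))))) (.nd (.nd (.nd (.nd (.lf 0x0) (.lf 0x11d044c)) (.nd (.lf 0x20c49b7) (.lf 0xd7f146))) (.nd (.nd (.lf 0x0) (.lf 0x5885e)) (.nd (.lf 0x0) (.lf 0x2185380)))) (.nd (.nd (.nd (.lf 0x0) (.lf 0x6fa552)) (.nd (.lf 0x0) (.lf 0x2a13470))) (.nd (.nd (.lf 0x2f9e550) (.lf 0x96836e)) (.nd (.lf 0x0) (.lf 0x5294b9)))))))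
def witT0_nababab : Tr := (.nd (.nd (.nd (.nd (.nd (.nd (.lf 0x0) (.lf 0x501334)) (.nd (.lf 0x2dfebb8) (.lf 0x2a7f31e))) (.nd (.nd (.lf 0x0) (.lf 0x0)) (.nd (.lf 0x0) (.lf 0x2232efa)))) (.nd (.nd (.nd (.lf 0x0) (.lf 0x103441d)) (.nd (.lf 0x6302aa) (.lf 0x2181985))) (.nd (.nd (.lf 0x0) (.lf 0xbff695)) (.nd (.lf 0xa68c0c) (.lf 0x2b2c82))))) (.nd (.nd (.nd (.nd (.lf 0x0) (.lf 0x2ed458)) (.nd (.lf 0x48d0f6) (.lf 0x2faa9a1))) (.nd (.nd (.lf 0x0) (.lf 0x0)) (.nd (.lf 0x0) (.lf 0x2f40943)))) (.nd (.nd (.nd (.lf 0x0) (.lf 0x0)) (.nd (.lf 0x2c5dcfb) (.lf 0x31efd2e))) (.nd (.nd (.lf 0x0) (.lf 0x0)) (.nd (.lf 0x959722) (.lf 0x28ac904)))))) (.nd (.nd (.nd (.nd (.nd (.lf 0x0) (.lf 0x0)) (.nd (.lf 0x0) (.lf 0x0))) (.nd (.nd (.lf 0x0) (.lf 0x0))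 (.nd (.lf 0xc47a4a) (.lf 0xdc64f3)))) (.nd (.nd (.nd (.lf 0x0) (.lf 0x5a8b12)) (.nd (.lf 0x0) (.lf 0x8b37c4))) (.nd (.nd (.lf 0x0) (.lf 0x0)) (.nd (.lf 0x2ce2f4f) (.lf 0xa32000))))) (.nd (.nd (.nd (.nd (.lf 0x0) (.lf 0x309478)) (.nd (.lf 0x0) (.lf 0x2ecea86))) (.nd (.nd (.lf 0x0) (.lf 0x0)) (.nd (.lf 0x0) (.lf 0x2b48059)))) (.nd (.nd (.nd (.lf 0x0) (.lf 0xf51638)) (.nd (.lf 0x0) (.lf 0x21c8853))) (.nd (.nd (.lf 0x2a6afa6) (.lf 0x309ed48)) (.nd (.lf 0xc74584) (.lf 0)))))))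
def witT0_nababba : Tr := (.nd (.nd (.nd (.nd (.nd (.nd (.lf 0x0) (.lf 0x0)) (.nd (.lf 0x0) (.lf 0x228e3a8))) (.nd (.nd (.lf 0xecae32) (.lf 0x5deb55)) (.nd (.lf 0x69e392) (.lf 0x0)))) (.nd (.nd (.nd (.lf 0x0) (.lf 0x23b1ec)) (.nd (.lf 0x0) (.lf 0x10af4e6))) (.nd (.nd (.lf 0x0) (.lf 0x7cfda9)) (.nd (.lf 0x0) (.lf 0x21b0849))))) (.nd (.nd (.nd (.nd (.lf 0x0) (.lf 0x2446f65)) (.nd (.lf 0x0) (.lf 0x3014107))) (.nd (.nd (.lf 0x0) (.lf 0x2407af3)) (.nd (.lf 0x0) (.lf 0x23bf433)))) (.nd (.nd (.nd (.lf 0x0) (.lf 0x0)) (.nd (.lf 0x206d755) (.lf 0x2d472dc))) (.nd (.nd (.lf 0x0) (.lf 0x71e1df)) (.nd (.lf 0x0) (.lf 0x30613c6)))))) (.nd (.nd (.nd (.nd (.nd (.lf 0x0) (.lf 0x0)) (.nd (.lf 0x0) (.lf 0x2a106c7))) (.nd (.nd (.lf 0x0) (.lf 0x840f8f))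 (.nd (.lf 0x71cf31) (.lf 0xabad9b)))) (.nd (.nd (.nd (.lf 0x0) (.lf 0x3192b3e)) (.nd (.lf 0x0) (.lf 0x5356ef))) (.nd (.nd (.lf 0x0) (.lf 0x2208474)) (.nd (.lf 0x3b4040) (.lf 0x4c01d8))))) (.nd (.nd (.nd (.nd (.lf 0x0) (.lf 0x248546e)) (.nd (.lf 0x298570e) (.lf 0x59a7c1))) (.nd (.nd (.lf 0x0) (.lf 0x263ab81)) (.nd (.lf 0x0) (.lf 0xd4a274)))) (.nd (.nd (.nd (.lf 0x0) (.lf 0x97ab1d)) (.nd (.lf 0x221432c) (.lf 0xb0a241))) (.nd (.nd (.lf 0x0) (.lf 0x20c0c4c)) (.nd (.lf 0x0) (.lf 0x256e1d5)))))))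
def witT0_nababbb : Tr := (.nd (.nd (.nd (.nd (.nd (.nd (.lf 0x0) (.lf 0x2122b89)) (.nd (.lf 0x0) (.lf 0x0))) (.nd (.nd (.lf 0x0) (.lf 0x6954a1)) (.nd (.lf 0x0) (.lf 0x28fb24f)))) (.nd (.nd (.nd (.lf 0x0) (.lf 0xae8f3)) (.nd (.lf 0x0) (.lf 0x5427bc))) (.nd (.nd (.lf 0x0) (.lf 0x2d59cd1)) (.nd (.lf 0x4845a) (.lf 0x259c70b))))) (.nd (.nd (.nd (.nd (.lf 0x0) (.lf 0x0)) (.nd (.lf 0x0) (.lf 0x59cea8))) (.nd (.nd (.lf 0x0) (.lf 0x228127d)) (.nd (.lf 0x0) (.lf 0xa78969)))) (.nd (.nd (.nd (.lf 0x0) (.lf 0x31a4cb9)) (.nd (.lf 0x0) (.lf 0x31f4b65))) (.nd (.nd (.lf 0xe6c5b0) (.lf 0x2b6d1)) (.nd (.lf 0x0) (.lf 0x1024cd7)))))) (.nd (.nd (.nd (.nd (.nd (.lf 0x0) (.lf 0x0)) (.nd (.lf 0x9b5ce5) (.lf 0x28beb1b))) (.nd (.nd (.lf 0x8ef130) (.lf 0x0))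 (.nd (.lf 0x2f0ec2c) (.lf 0x91dda)))) (.nd (.nd (.nd (.lf 0x0) (.lf 0x24bc239)) (.nd (.lf 0x0) (.lf 0x290c455))) (.nd (.nd (.lf 0x0) (.lf 0x6b1946)) (.nd (.lf 0x0) (.lf 0x272c40e))))) (.nd (.nd (.nd (.nd (.lf 0x0) (.lf 0x0)) (.nd (.lf 0x0) (.lf 0x23e845))) (.nd (.nd (.lf 0x0) (.lf 0x0)) (.nd (.lf 0x0) (.lf 0x283939f)))) (.nd (.nd (.nd (.lf 0x0) (.lf 0x0)) (.nd (.lf 0x33ce07) (.lf 0x0))) (.nd (.nd (.lf 0x0) (.lf 0x0)) (.nd (.lf 0x0) (.lf 0)))))))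
def witT0_nabbaaa : Tr := (.nd (.nd (.nd (.nd (.nd (.nd (.lf 0x0) (.lf 0x0)) (.nd (.lf 0x0) (.lf 0x2cd20c))) (.nd (.nd (.lf 0x0) (.lf 0x0)) (.nd (.lf 0x0) (.lf 0x2a6f78f)))) (.nd (.nd (.nd (.lf 0x0) (.lf 0x27f17a3)) (.nd (.lf 0x0) (.lf 0x0))) (.nd (.nd (.lf 0x26d569b) (.lf 0x2885789)) (.nd (.lf 0x0) (.lf 0xaa6322))))) (.nd (.nd (.nd (.nd (.lf 0x0) (.lf 0x26777)) (.nd (.lf 0x20d50b6) (.lf 0x25d919))) (.nd (.nd (.lf 0x0) (.lf 0x11e70ab)) (.nd (.lf 0xd49af7) (.lf 0x20d3c72)))) (.nd (.nd (.nd (.lf 0x0) (.lf 0x4ce96f)) (.nd (.lf 0x24ebd86) (.lf 0x0))) (.nd (.nd (.lf 0x0) (.lf 0x2872b4f)) (.nd (.lf 0x97e1fd) (.lf 0xe30b58)))))) (.nd (.nd (.nd (.nd (.nd (.lf 0x0) (.lf 0x0)) (.nd (.lf 0x0) (.lf 0x26b66f3))) (.nd (.nd (.lf 0x0) (.lf 0x0))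 (.nd (.lf 0x2ea67ca) (.lf 0x447a6f)))) (.nd (.nd (.nd (.lf 0x0) (.lf 0x2e75535)) (.nd (.lf 0x0) (.lf 0x2ed5b8a))) (.nd (.nd (.lf 0x0) (.lf 0x153e5)) (.nd (.lf 0x313ba0e) (.lf 0x24e283b))))) (.nd (.nd (.nd (.nd (.lf 0x0) (.lf 0x0)) (.nd (.lf 0xf3e7a4) (.lf 0x71f241))) (.nd (.nd (.lf 0x0) (.lf 0x931a51)) (.nd (.lf 0x0) (.lf 0x11d8353)))) (.nd (.nd (.nd (.lf 0x2cffb4f) (.lf 0x22bb60)) (.nd (.lf 0x0) (.lf 0xa9989b))) (.nd (.nd (.lf 0x0) (.lf 0x2139b7d)) (.nd (.lf 0x21917fc) (.lf 0x29c8f65)))))))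
def witT0_nabbaab : Tr := (.nd (.nd (.nd (.nd (.nd (.nd (.lf 0x0) (.lf 0x0)) (.nd (.lf 0x0) (.lf 0x9d0abe))) (.nd (.nd (.lf 0x0) (.lf 0x24c8424)) (.nd (.lf 0x0) (.lf 0x23a9640)))) (.nd (.nd (.nd (.lf 0x0) (.lf 0x4463ee)) (.nd (.lf 0xa01af0) (.lf 0x2643316))) (.nd (.nd (.lf 0x0) (.lf 0x22d0a66)) (.nd (.lf 0x0) (.lf 0x2ea1df))))) (.nd (.nd (.nd (.nd (.lf 0x0) (.lf 0x0)) (.nd (.lf 0x0) (.lf 0x23475fc))) (.nd (.nd (.lf 0x0) (.lf 0xabea67)) (.nd (.lf 0x11a0a8d) (.lf 0x30d88a4)))) (.nd (.nd (.nd (.lf 0x0) (.lf 0xa248bf)) (.nd (.lf 0x687aed) (.lf 0x0))) (.nd (.nd (.lf 0x30f7a8f) (.lf 0x0)) (.nd (.lf 0x0) (.lf 0x291a426)))))) (.nd (.nd (.nd (.nd (.nd (.lf 0x0) (.lf 0x0)) (.nd (.lf 0x0) (.lf 0x0))) (.nd (.nd (.lf 0x0) (.lf 0x0)) (.nd (.lf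 0x0) (.lf 0x2a115e8)))) (.nd (.nd (.nd (.lf 0x0) (.lf 0x3138f56)) (.nd (.lf 0x0) (.lf 0x0))) (.nd (.nd (.lf 0x0) (.lf 0x0)) (.nd (.lf 0x227b4cc) (.lf 0x205f25c))))) (.nd (.nd (.nd (.nd (.lf 0x0) (.lf 0x28e9148)) (.nd (.lf 0x2238f6e) (.lf 0x0))) (.nd (.nd (.lf 0x0) (.lf 0x2c73a21)) (.nd (.lf 0xad5344) (.lf 0x0)))) (.nd (.nd (.nd (.lf 0x0) (.lf 0x0)) (.nd (.lf 0x675a48) (.lf 0x0))) (.nd (.nd (.lf 0x29726fb) (.lf 0x0)) (.nd (.lf 0x25ae9b5) (.lf 0)))))))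
def witT0_nabbaba : Tr := (.nd (.nd (.nd (.nd (.nd (.nd (.lf 0x0) (.lf 0x0)) (.nd (.lf 0x0) (.lf 0x0))) (.nd (.nd (.lf 0x0) (.lf 0x0)) (.nd (.lf 0x0) (.lf 0xa9bb85)))) (.nd (.nd (.nd (.lf 0x0) (.lf 0x10d6094)) (.nd (.lf 0x0) (.lf 0xe0b1e2))) (.nd (.nd (.lf 0x0) (.lf 0x0)) (.nd (.lf 0x5619ea) (.lf 0xa7f14b))))) (.nd (.nd (.nd (.nd (.lf 0x0) (.lf 0x2009174)) (.nd (.lf 0x0) (.lf 0x0))) (.nd (.nd (.lf 0x30dc42d) (.lf 0x29932d7)) (.nd (.lf 0x0) (.lf 0x2eb2374)))) (.nd (.nd (.nd (.lf 0x0) (.lf 0x0)) (.nd (.lf 0x0) (.lf 0xf4b414))) (.nd (.nd (.lf 0x0) (.lf 0x225d6dc)) (.nd (.lf 0x20ccd2e) (.lf 0x8b7195)))))) (.nd (.nd (.nd (.nd (.nd (.lf 0x0) (.lf 0x8ed4ac)) (.nd (.lf 0x0) (.lf 0x2092b21))) (.nd (.nd (.lf 0x0) (.lf 0x30ec601)) (.nd (.lf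 0x0) (.lf 0x119e3e6)))) (.nd (.nd (.nd (.lf 0x0) (.lf 0x2a4a324)) (.nd (.lf 0x0) (.lf 0xa8d0b9))) (.nd (.nd (.lf 0x0) (.lf 0xc66c66)) (.nd (.lf 0x3143229) (.lf 0xe08d6))))) (.nd (.nd (.nd (.nd (.lf 0x0) (.lf 0x6ddd76)) (.nd (.lf 0x0) (.lf 0x22b8486))) (.nd (.nd (.lf 0x0) (.lf 0x0)) (.nd (.lf 0x0) (.lf 0x22a894c)))) (.nd (.nd (.nd (.lf 0x0) (.lf 0x2413350)) (.nd (.lf 0x0) (.lf 0x68f2b4))) (.nd (.nd (.lf 0x0) (.lf 0xe58b56)) (.nd (.lf 0x2c57bfc) (.lf 0x2b6688d)))))))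
def witT0_nabbabb : Tr := (.nd (.nd (.nd (.nd (.nd (.nd (.lf 0x0) (.lf 0x2360ad0)) (.nd (.lf 0x22b6ae9) (.lf 0x87a95a))) (.nd (.nd (.lf 0x0) (.lf 0x0)) (.nd (.lf 0x0) (.lf 0x2a5e755)))) (.nd (.nd (.nd (.lf 0x0) (.lf 0x0)) (.nd (.lf 0x11afa4f) (.lf 0xab0945))) (.nd (.nd (.lf 0x1135281) (.lf 0x0)) (.nd (.lf 0xee457c) (.lf 0x2c209e))))) (.nd (.nd (.nd (.nd (.lf 0x0) (.lf 0x31860f8)) (.nd (.lf 0x0) (.lf 0x2b039d2))) (.nd (.nd (.lf 0x0) (.lf 0x24629af)) (.nd (.lf 0x0) (.lf 0x0)))) (.nd (.nd (.nd (.lf 0x2ecc023) (.lf 0x37faf2)) (.nd (.lf 0x0) (.lf 0x2e73fb))) (.nd (.nd (.lf 0x0) (.lf 0x26759b)) (.nd (.lf 0x2c53bb4) (.lf 0x20c36a)))))) (.nd (.nd (.nd (.nd (.nd (.lf 0x0) (.lf 0x206b10c)) (.nd (.lf 0x0) (.lf 0x0))) (.nd (.nd (.lf 0x0) (.lf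 0x0)) (.nd (.lf 0x0) (.lf 0x1012526)))) (.nd (.nd (.nd (.lf 0x0) (.lf 0x0)) (.nd (.lf 0x0) (.lf 0x276b3d8))) (.nd (.nd (.lf 0x0) (.lf 0x2f64d40)) (.nd (.lf 0x2e6b81b) (.lf 0x241e7ba))))) (.nd (.nd (.nd (.nd (.lf 0x0) (.lf 0x0)) (.nd (.lf 0x0) (.lf 0x1189e5e))) (.nd (.nd (.lf 0x6db63e) (.lf 0x2e744f5)) (.nd (.lf 0x30793c5) (.lf 0x27eeb9e)))) (.nd (.nd (.nd (.lf 0xd4d309) (.lf 0x0)) (.nd (.lf 0x0) (.lf 0x27de470))) (.nd (.nd (.lf 0x0) (.lf 0x0)) (.nd (.lf 0x0) (.lf 0)))))))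
def witT0_nabbbaa : Tr := (.nd (.nd (.nd (.nd (.nd (.nd (.lf 0x0) (.lf 0x0)) (.nd (.lf 0x0) (.lf 0x260cb8a))) (.nd (.nd (.lf 0x0) (.lf 0x9ab031)) (.nd (.lf 0x0) (.lf 0x25c5a96)))) (.nd (.nd (.nd (.lf 0x0) (.lf 0x0)) (.nd (.lf 0x0) (.lf 0x2a34126))) (.nd (.nd (.lf 0x0) (.lf 0x27ad7e6)) (.nd (.lf 0x28ae381) (.lf 0x2844b46))))) (.nd (.nd (.nd (.nd (.lf 0x0) (.lf 0x0)) (.nd (.lf 0x0) (.lf 0x255cd6e))) (.nd (.nd (.lf 0x0) (.lf 0xbb4d28)) (.nd (.lf 0x0) (.lf 0x2e9a692)))) (.nd (.nd (.nd (.lf 0x0) (.lf 0x0)) (.nd (.lf 0x0) (.lf 0x2419123))) (.nd (.nd (.lf 0x0) (.lf 0x0)) (.nd (.lf 0x24425ad) (.lf 0x0)))))) (.nd (.nd (.nd (.nd (.nd (.lf 0x0) (.lf 0x2bdb3b1)) (.nd (.lf 0x0) (.lf 0x22d98b5))) (.nd (.nd (.lf 0x0) (.lf 0x59f196)) (.nd (.lf 0x0)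 (.lf 0x23df3df)))) (.nd (.nd (.nd (.lf 0x0) (.lf 0x0)) (.nd (.lf 0x0) (.lf 0x0))) (.nd (.nd (.lf 0x0) (.lf 0x0)) (.nd (.lf 0x100548c) (.lf 0xe829a5))))) (.nd (.nd (.nd (.nd (.lf 0x0) (.lf 0x2348d93)) (.nd (.lf 0x0) (.lf 0x0))) (.nd (.nd (.lf 0x0) (.lf 0x4dce9)) (.nd (.lf 0x20e8334) (.lf 0x2d95863)))) (.nd (.nd (.nd (.lf 0xc2c244) (.lf 0x2c6facb)) (.nd (.lf 0x2080274) (.lf 0x2d832f))) (.nd (.nd (.lf 0x0) (.lf 0x0)) (.nd (.lf 0x5987ed) (.lf 0x2719cbb)))))))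
def witT0_nabbbab : Tr := (.nd (.nd (.nd (.nd (.nd (.nd (.lf 0x0) (.lf 0x0)) (.nd (.lf 0x0) (.lf 0x11c6d89))) (.nd (.nd (.lf 0x2c19b36) (.lf 0x0)) (.nd (.lf 0x0) (.lf 0x244336f)))) (.nd (.nd (.nd (.lf 0x0) (.lf 0x0)) (.nd (.lf 0xd38759) (.lf 0x59429d))) (.nd (.nd (.lf 0x11fd5a2) (.lf 0x0)) (.nd (.lf 0x0) (.lf 0xd49909))))) (.nd (.nd (.nd (.nd (.lf 0x0) (.lf 0x2406793)) (.nd (.lf 0x1ce2db) (.lf 0x25f298c))) (.nd (.nd (.lf 0x0) (.lf 0x2836e2b)) (.nd (.lf 0x21225e8) (.lf 0x2035ca4)))) (.nd (.nd (.nd (.lf 0x0) (.lf 0x0)) (.nd (.lf 0x34eac9) (.lf 0x2ffd620))) (.nd (.nd (.lf 0x0) (.lf 0xd0f5ed)) (.nd (.lf 0xfbdb6a) (.lf 0x774d21)))))) (.nd (.nd (.nd (.nd (.nd (.lf 0x0) (.lf 0x6cfa9f)) (.nd (.lf 0x30e930e) (.lf 0x30456ea))) (.nd (.nd (.lf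 0x0) (.lf 0x0)) (.nd (.lf 0x2308c98) (.lf 0xabfb17)))) (.nd (.nd (.nd (.lf 0x0) (.lf 0x2f13ae6)) (.nd (.lf 0x0) (.lf 0x23522f0))) (.nd (.nd (.lf 0x0) (.lf 0x24f1e32)) (.nd (.lf 0x0) (.lf 0x52c7a8))))) (.nd (.nd (.nd (.nd (.lf 0x0) (.lf 0xafb15c)) (.nd (.lf 0x0) (.lf 0x2b7ce92))) (.nd (.nd (.lf 0x0) (.lf 0x315890e)) (.nd (.lf 0x0) (.lf 0x28e324c)))) (.nd (.nd (.nd (.lf 0x0) (.lf 0x0)) (.nd (.lf 0x0) (.lf 0x2c8e7d4))) (.nd (.nd (.lf 0x0) (.lf 0x27a9e22)) (.nd (.lf 0x255aa5e) (.lf 0)))))))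
def witT0_nabbbba : Tr := (.nd (.nd (.nd (.nd (.nd (.nd (.lf 0x0) (.lf 0x0)) (.nd (.lf 0x0) (.lf 0x7cd1a4))) (.nd (.nd (.lf 0x0) (.lf 0xad7cae)) (.nd (.lf 0x0) (.lf 0x2d1afaa)))) (.nd (.nd (.nd (.lf 0x0) (.lf 0x0)) (.nd (.lf 0x84bc1f) (.lf 0x2266329))) (.nd (.nd (.lf 0x0) (.lf 0x2b1b5ac)) (.nd (.lf 0x0) (.lf 0x2fef270))))) (.nd (.nd (.nd (.nd (.lf 0x0) (.lf 0x9b472e)) (.nd (.lf 0x318100c) (.lf 0x3184efa))) (.nd (.nd (.lf 0x0) (.lf 0x0)) (.nd (.lf 0x4b9dae) (.lf 0x2e84e15)))) (.nd (.nd (.nd (.lf 0x0) (.lf 0x1e0296)) (.nd (.lf 0x0) (.lf 0x54705e))) (.nd (.nd (.lf 0x0) (.lf 0x6272cb)) (.nd (.lf 0x295bb24) (.lf 0xec3d32)))))) (.nd (.nd (.nd (.nd (.nd (.lf 0x0) (.lf 0xaddd53)) (.nd (.lf 0x0) (.lf 0x2acba5e))) (.nd (.nd (.lf 0x0) (.lf 0x8270a6))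 (.nd (.lf 0x0) (.lf 0x2b9e398)))) (.nd (.nd (.nd (.lf 0x0) (.lf 0x0)) (.nd (.lf 0x2756698) (.lf 0x0))) (.nd (.nd (.lf 0x22ff9b9) (.lf 0x23198d3)) (.nd (.lf 0x0) (.lf 0x11bb2e0))))) (.nd (.nd (.nd (.nd (.lf 0x0) (.lf 0x25b248e)) (.nd (.lf 0x0) (.lf 0x72acb0))) (.nd (.nd (.lf 0x0) (.lf 0x0)) (.nd (.lf 0x27fd7b7) (.lf 0x24d4b75)))) (.nd (.nd (.nd (.lf 0x0) (.lf 0x7b276b)) (.nd (.lf 0x2c689ed) (.lf 0x2c73a89))) (.nd (.nd (.lf 0x0) (.lf 0x29c8f1b)) (.nd (.lf 0x0) (.lf 0)))))))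
def witT0_nabbbbb : Tr := (.nd (.nd (.nd (.nd (.nd (.nd (.lf 0x0) (.lf 0x0)) (.nd (.lf 0x8a8afe) (.lf 0x26df312))) (.nd (.nd (.lf 0x0) (.lf 0x0)) (.nd (.lf 0x0) (.lf 0x2e47d9e)))) (.nd (.nd (.nd (.lf 0x0) (.lf 0x0)) (.nd (.lf 0x0) (.lf 0x895cd4))) (.nd (.nd (.lf 0x0) (.lf 0xd9d8a4)) (.nd (.lf 0x0) (.lf 0x31ee2d8))))) (.nd (.nd (.nd (.nd (.lf 0x0) (.lf 0x0)) (.nd (.lf 0x0) (.lf 0x21bc3f6))) (.nd (.nd (.lf 0x0) (.lf 0x0)) (.nd (.lf 0x0) (.lf 0x7512ec)))) (.nd (.nd (.nd (.lf 0x0) (.lf 0x28f791a)) (.nd (.lf 0x0) (.lf 0x4b13bd))) (.nd (.nd (.lf 0x44922c) (.lf 0x0)) (.nd (.lf 0x0) (.lf 0xa208ff)))))) (.nd (.nd (.nd (.nd (.nd (.lf 0x0) (.lf 0x0)) (.nd (.lf 0x0) (.lf 0x2b942f1))) (.nd (.nd (.lf 0x0) (.lf 0x301e671)) (.nd (.lf 0x2ea9980) (.lf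 0xcd021d)))) (.nd (.nd (.nd (.lf 0x0) (.lf 0x108e038)) (.nd (.lf 0x0) (.lf 0x100733a))) (.nd (.nd (.lf 0x0) (.lf 0x2572d4b)) (.nd (.lf 0x0) (.lf 0x287e8aa))))) (.nd (.nd (.nd (.nd (.lf 0x0) (.lf 0x24773ab)) (.nd (.lf 0x0) (.lf 0x2dd0bce))) (.nd (.nd (.lf 0x2d31dfb) (.lf 0x27d372b)) (.nd (.lf 0x86d9a0) (.lf 0x1082019)))) (.nd (.nd (.nd (.lf 0x0) (.lf 0x23c4d23)) (.nd (.lf 0x0) (.lf 0x116afff))) (.nd (.nd (.lf 0x30c4de2) (.lf 0x0)) (.nd (.lf 0x0) (.lf 0)))))))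
def witT0_nbaaaaa : Tr := (.nd (.nd (.nd (.nd (.nd (.nd (.lf 0x0) (.lf 0xaccadd)) (.nd (.lf 0x0) (.lf 0x0))) (.nd (.nd (.lf 0x0) (.lf 0x0)) (.nd (.lf 0xcbdade) (.lf 0x315b2c8)))) (.nd (.nd (.nd (.lf 0x0) (.lf 0x0)) (.nd (.lf 0x0) (.lf 0xe221ce))) (.nd (.nd (.lf 0x0) (.lf 0x11a7043)) (.nd (.lf 0x0) (.lf 0xdae4ea))))) (.nd (.nd (.nd (.nd (.lf 0x0) (.lf 0x24bcb56)) (.nd (.lf 0x0) (.lf 0x2631cb6))) (.nd (.nd (.lf 0x1098f1b) (.lf 0xb3387)) (.nd (.lf 0x0) (.lf 0xbe1b77)))) (.nd (.nd (.nd (.lf 0x0) (.lf 0x0)) (.nd (.lf 0x0) (.lf 0xf56212))) (.nd (.nd (.lf 0x0) (.lf 0x0)) (.nd (.lf 0x0) (.lf 0x84314a)))))) (.nd (.nd (.nd (.nd (.nd (.lf 0x0) (.lf 0x28cf3e)) (.nd (.lf 0x0) (.lf 0x3072eb7))) (.nd (.nd (.lf 0x0) (.lf 0x23696ae)) (.nd (.lf 0xdfa99)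 (.lf 0x30ef401)))) (.nd (.nd (.nd (.lf 0x0) (.lf 0x0)) (.nd (.lf 0xa13c04) (.lf 0x2818ce4))) (.nd (.nd (.lf 0x0) (.lf 0x2edfc08)) (.nd (.lf 0x23357ed) (.lf 0x6068c0))))) (.nd (.nd (.nd (.nd (.lf 0x0) (.lf 0x0)) (.nd (.lf 0x1414fb) (.lf 0xbb0095))) (.nd (.nd (.lf 0x0) (.lf 0x0)) (.nd (.lf 0x63f3f0) (.lf 0x26f2416)))) (.nd (.nd (.nd (.lf 0x81275f) (.lf 0x5ffe2c)) (.nd (.lf 0x2c574a) (.lf 0x0))) (.nd (.nd (.lf 0x0) (.lf 0xba7d81)) (.nd (.lf 0x0) (.lf 0x27b0679)))))))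
def witT0_nbaaaab : Tr := (.nd (.nd (.nd (.nd (.nd (.nd (.lf 0x0) (.lf 0x0)) (.nd (.lf 0x269bc5d) (.lf 0x0))) (.nd (.nd (.lf 0x45ec0f) (.lf 0x11add23)) (.nd (.lf 0x0) (.lf 0x0)))) (.nd (.nd (.nd (.lf 0x0) (.lf 0x214f19b)) (.nd (.lf 0x274d6d2) (.lf 0x387c5))) (.nd (.nd (.lf 0x0) (.lf 0x2e93207)) (.nd (.lf 0x0) (.lf 0x319580d))))) (.nd (.nd (.nd (.nd (.lf 0x0) (.lf 0x2215d99)) (.nd (.lf 0x494350) (.lf 0x95e042))) (.nd (.nd (.lf 0x0) (.lf 0x2fd36ff)) (.nd (.lf 0x0) (.lf 0x10d29c1)))) (.nd (.nd (.nd (.lf 0x0) (.lf 0xf29a9d)) (.nd (.lf 0x0) (.lf 0x21cf28e))) (.nd (.nd (.lf 0x0) (.lf 0x2ede150)) (.nd (.lf 0x0) (.lf 0x23cafef)))))) (.nd (.nd (.nd (.nd (.nd (.lf 0x0) (.lf 0x0)) (.nd (.lf 0x2160cf2) (.lf 0x430407))) (.nd (.nd (.lf 0x0) (.lf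 0x0)) (.nd (.lf 0x0) (.lf 0x109151c)))) (.nd (.nd (.nd (.lf 0x0) (.lf 0x0)) (.nd (.lf 0x0) (.lf 0xf728ba))) (.nd (.nd (.lf 0x0) (.lf 0x0)) (.nd (.lf 0x453d95) (.lf 0x217d4e5))))) (.nd (.nd (.nd (.nd (.lf 0x0) (.lf 0x7eb971)) (.nd (.lf 0x0) (.lf 0x5c1890))) (.nd (.nd (.lf 0x0) (.lf 0x5abdef)) (.nd (.lf 0xe79cd3) (.lf 0xe9172d)))) (.nd (.nd (.nd (.lf 0x0) (.lf 0x25288e1)) (.nd (.lf 0x0) (.lf 0x31b7726))) (.nd (.nd (.lf 0x0) (.lf 0x0)) (.nd (.lf 0x0) (.lf 0)))))))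
def witT0_nbaaaba : Tr := (.nd (.nd (.nd (.nd (.nd (.nd (.lf 0x0) (.lf 0x304f7e3)) (.nd (.lf 0x28c58f5) (.lf 0x2a22010))) (.nd (.nd (.lf 0x0) (.lf 0x8559e4)) (.nd (.lf 0x0) (.lf 0x2ebe28e)))) (.nd (.nd (.nd (.lf 0x0) (.lf 0x0)) (.nd (.lf 0x0) (.lf 0x30008f7))) (.nd (.nd (.lf 0x0) (.lf 0x280ece)) (.nd (.lf 0x0) (.lf 0x27cce9b))))) (.nd (.nd (.nd (.nd (.lf 0x0) (.lf 0x0)) (.nd (.lf 0x26107b9) (.lf 0x23b6c25))) (.nd (.nd (.lf 0x291071d) (.lf 0x4cebbb)) (.nd (.lf 0x22b55ad) (.lf 0x2fd0b27)))) (.nd (.nd (.nd (.lf 0x0) (.lf 0x236384b)) (.nd (.lf 0xfa10a6) (.lf 0xa45146))) (.nd (.nd (.lf 0x418c93) (.lf 0x2954c34)) (.nd (.lf 0x0) (.lf 0x21ff806)))))) (.nd (.nd (.nd (.nd (.nd (.lf 0x0) (.lf 0x642c80)) (.nd (.lf 0x0) (.lf 0xced0c4))) (.nd (.nd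 (.lf 0x0) (.lf 0x2244d58)) (.nd (.lf 0x0) (.lf 0x2f5d2c8)))) (.nd (.nd (.nd (.lf 0x0) (.lf 0x965ba9)) (.nd (.lf 0x3827a6) (.lf 0x27588b0))) (.nd (.nd (.lf 0x4cd7ac) (.lf 0x0)) (.nd (.lf 0x2d1f3a7) (.lf 0x312c44a))))) (.nd (.nd (.nd (.nd (.lf 0x0) (.lf 0x2527d71)) (.nd (.lf 0x0) (.lf 0x0))) (.nd (.nd (.lf 0x0) (.lf 0x460b82)) (.nd (.lf 0x0) (.lf 0x2240d9a)))) (.nd (.nd (.nd (.lf 0x0) (.lf 0x31d8890)) (.nd (.lf 0x0) (.lf 0xb94a8e))) (.nd (.nd (.lf 0x0) (.lf 0x296f627)) (.nd (.lf 0x9a939f) (.lf 0x4cecbd)))))))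
def witT0_nbaaabb : Tr := (.nd (.nd (.nd (.nd (.nd (.nd (.lf 0x0) (.lf 0x25d5291)) (.nd (.lf 0x0) (.lf 0x69883b))) (.nd (.nd (.lf 0x7aeb28) (.lf 0x0)) (.nd (.lf 0x8f57a1) (.lf 0x5a6f7)))) (.nd (.nd (.nd (.lf 0x0) (.lf 0x0)) (.nd (.lf 0x29d44c) (.lf 0x0))) (.nd (.nd (.lf 0x0) (.lf 0xbf79b0)) (.nd (.lf 0xe8878f) (.lf 0x27def5e))))) (.nd (.nd (.nd (.nd (.lf 0x0) (.lf 0x8646ce)) (.nd (.lf 0x26011c3) (.lf 0x2f39cf2))) (.nd (.nd (.lf 0x0) (.lf 0x5b162c)) (.nd (.lf 0x246fc32) (.lf 0x319ade9)))) (.nd (.nd (.nd (.lf 0x0) (.lf 0x60c3a9)) (.nd (.lf 0x2a30806) (.lf 0x31ef428))) (.nd (.nd (.lf 0x0) (.lf 0x2a4a13)) (.nd (.lf 0x0) (.lf 0xb7a900)))))) (.nd (.nd (.nd (.nd (.nd (.lf 0x0) (.lf 0xbf47d)) (.nd (.lf 0x0) (.lf 0x2676cb9))) (.nd (.nd (.lf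 0x0) (.lf 0x2a602e5)) (.nd (.lf 0x20fc90b) (.lf 0x5e6ae8)))) (.nd (.nd (.nd (.lf 0x0) (.lf 0x2650b76)) (.nd (.lf 0x2d63809) (.lf 0x0))) (.nd (.nd (.lf 0x48d28a) (.lf 0x274de1)) (.nd (.lf 0x470736) (.lf 0x29752fc))))) (.nd (.nd (.nd (.nd (.lf 0x0) (.lf 0x0)) (.nd (.lf 0x0) (.lf 0x11056d7))) (.nd (.nd (.lf 0x0) (.lf 0x23af898)) (.nd (.lf 0x0) (.lf 0x2e22873)))) (.nd (.nd (.nd (.lf 0x70e7bc) (.lf 0x0)) (.nd (.lf 0x25a4428) (.lf 0xb062af))) (.nd (.nd (.lf 0x0) (.lf 0xfd67db)) (.nd (.lf 0x9d5020) (.lf 0)))))))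
def witT0_nbaabaa : Tr := (.nd (.nd (.nd (.nd (.nd (.nd (.lf 0x0) (.lf 0x2552bd3)) (.nd (.lf 0x2aee3ae) (.lf 0x2fa4932))) (.nd (.nd (.lf 0x0) (.lf 0x0)) (.nd (.lf 0x0) (.lf 0x2e7e7b3)))) (.nd (.nd (.nd (.lf 0x0) (.lf 0x0)) (.nd (.lf 0x0) (.lf 0x165bb5))) (.nd (.nd (.lf 0x0) (.lf 0x0)) (.nd (.lf 0x0) (.lf 0xb56ac6))))) (.nd (.nd (.nd (.nd (.lf 0x0) (.lf 0x2370fbe)) (.nd (.lf 0x2cde0ff) (.lf 0x0))) (.nd (.nd (.lf 0x0) (.lf 0x421521)) (.nd (.lf 0x0) (.lf 0x0)))) (.nd (.nd (.nd (.lf 0x0) (.lf 0x2060c04)) (.nd (.lf 0x0) (.lf 0x0))) (.nd (.nd (.lf 0x0) (.lf 0x506f9a)) (.nd (.lf 0x25fb863) (.lf 0x2da5c60)))))) (.nd (.nd (.nd (.nd (.nd (.lf 0x0) (.lf 0x59d4ce)) (.nd (.lf 0x2b9d4c6) (.lf 0xc71918))) (.nd (.nd (.lf 0x0) (.lf 0x0)) (.nd (.lf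 0x0) (.lf 0x2239c33)))) (.nd (.nd (.nd (.lf 0x0) (.lf 0x76eb88)) (.nd (.lf 0x0) (.lf 0x2692943))) (.nd (.nd (.lf 0x0) (.lf 0x0)) (.nd (.lf 0x201e8d4) (.lf 0x2a7b9de))))) (.nd (.nd (.nd (.nd (.lf 0x0) (.lf 0x10725c3)) (.nd (.lf 0x0) (.lf 0x10df365))) (.nd (.nd (.lf 0x0) (.lf 0x2ab7649)) (.nd (.lf 0x0) (.lf 0xf27b43)))) (.nd (.nd (.nd (.lf 0x0) (.lf 0x3a8e62)) (.nd (.lf 0x21e2a2) (.lf 0x20fab1d))) (.nd (.nd (.lf 0x0) (.lf 0xf86e77)) (.nd (.lf 0x0) (.lf 0x30814f9)))))))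
def witT0_nbaabab : Tr := (.nd (.nd (.nd (.nd (.nd (.nd (.lf 0x0) (.lf 0x0)) (.nd (.lf 0x0) (.lf 0x115198d))) (.nd (.nd (.lf 0x0) (.lf 0x23c589d)) (.nd (.lf 0x30f001c) (.lf 0xa71839)))) (.nd (.nd (.nd (.lf 0x0) (.lf 0x0)) (.nd (.lf 0x0) (.lf 0xc94aed))) (.nd (.nd (.lf 0x0) (.lf 0x0)) (.nd (.lf 0x0) (.lf 0x2d99e0a))))) (.nd (.nd (.nd (.nd (.lf 0x0) (.lf 0xf92bdb)) (.nd (.lf 0x1187ae5) (.lf 0x2309831))) (.nd (.nd (.lf 0x130170) (.lf 0x87f8be)) (.nd (.lf 0xe7aee2) (.lf 0x2142ad1)))) (.nd (.nd (.nd (.lf 0x0) (.lf 0x200820f)) (.nd (.lf 0x0) (.lf 0x2fd03e8))) (.nd (.nd (.lf 0x2d0a8b8) (.lf 0xd7af5b)) (.nd (.lf 0x305c427) (.lf 0x29948df)))))) (.nd (.nd (.nd (.nd (.nd (.lf 0x0) (.lf 0x0)) (.nd (.lf 0x0) (.lf 0xfc70af))) (.nd (.nd (.lf 0x273a2)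 (.lf 0x96fc04)) (.nd (.lf 0x0) (.lf 0xee64a7)))) (.nd (.nd (.nd (.lf 0x0) (.lf 0x0)) (.nd (.lf 0x0) (.lf 0x22b18e1))) (.nd (.nd (.lf 0x21c8108) (.lf 0x0)) (.nd (.lf 0x0) (.lf 0x23037e9))))) (.nd (.nd (.nd (.nd (.lf 0x0) (.lf 0x0)) (.nd (.lf 0x21229c5) (.lf 0xc4d40))) (.nd (.nd (.lf 0x0) (.lf 0xfc5b90)) (.nd (.lf 0x0) (.lf 0xd4e1fe)))) (.nd (.nd (.nd (.lf 0x2c79ef) (.lf 0xf4ebe0)) (.nd (.lf 0x0) (.lf 0x6325b4))) (.nd (.nd (.lf 0x6bc326) (.lf 0x3f6403)) (.nd (.lf 0xca0989) (.lf 0)))))))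
def witT0_nbaabba : Tr := (.nd (.nd (.nd (.nd (.nd (.nd (.lf 0x0) (.lf 0x0)) (.nd (.lf 0x0) (.lf 0xd67cbf))) (.nd (.nd (.lf 0x0) (.lf 0x0)) (.nd (.lf 0x0) (.lf 0x0)))) (.nd (.nd (.nd (.lf 0x0) (.lf 0x22caa4b)) (.nd (.lf 0x0) (.lf 0xa2743a))) (.nd (.nd (.lf 0x0) (.lf 0x250c8fd)) (.nd (.lf 0xadd051) (.lf 0x3f439b))))) (.nd (.nd (.nd (.nd (.lf 0x0) (.lf 0x0)) (.nd (.lf 0x0) (.lf 0x21dfa53))) (.nd (.nd (.lf 0x0) (.lf 0x6ba28c)) (.nd (.lf 0x0) (.lf 0x3e9bd8)))) (.nd (.nd (.nd (.lf 0x0) (.lf 0x2c5f44a)) (.nd (.lf 0x0) (.lf 0x1133b79))) (.nd (.nd (.lf 0x0) (.lf 0x219e1c)) (.nd (.lf 0x28d3a3f) (.lf 0x25e4b79)))))) (.nd (.nd (.nd (.nd (.nd (.lf 0x0) (.lf 0x0)) (.nd (.lf 0x2e65973) (.lf 0x96781e))) (.nd (.nd (.lf 0x0) (.lf 0x84ddcb)) (.nd (.lf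 0x0) (.lf 0x33756b)))) (.nd (.nd (.nd (.lf 0x0) (.lf 0x97fd97)) (.nd (.lf 0x0) (.lf 0x0))) (.nd (.nd (.lf 0x0) (.lf 0xc6822e)) (.nd (.lf 0x241a4dc) (.lf 0x27b5a9))))) (.nd (.nd (.nd (.nd (.lf 0x0) (.lf 0x10e99e3)) (.nd (.lf 0x2d4984b) (.lf 0xcaddd))) (.nd (.nd (.lf 0x0) (.lf 0xdc11c5)) (.nd (.lf 0x0) (.lf 0x260d074)))) (.nd (.nd (.nd (.lf 0x0) (.lf 0x0)) (.nd (.lf 0xc34741) (.lf 0xbe41b4))) (.nd (.nd (.lf 0x0) (.lf 0x574065)) (.nd (.lf 0x0) (.lf 0x4c04f3)))))))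
def witT0_nbaabbb : Tr := (.nd (.nd (.nd (.nd (.nd (.nd (.lf 0x0) (.lf 0xe48028)) (.nd (.lf 0x0) (.lf 0x0))) (.nd (.nd (.lf 0x1048a49) (.lf 0x2d9c89e)) (.nd (.lf 0x0) (.lf 0x25bd94c)))) (.nd (.nd (.nd (.lf 0x0) (.lf 0x246302a)) (.nd (.lf 0x2f90145) (.lf 0x30e4720))) (.nd (.nd (.lf 0x0) (.lf 0xc32609)) (.nd (.lf 0x0) (.lf 0xc3960a))))) (.nd (.nd (.nd (.nd (.lf 0x0) (.lf 0x0)) (.nd (.lf 0x0) (.lf 0x2b06b9))) (.nd (.nd (.lf 0x0) (.lf 0x2524400)) (.nd (.lf 0x0) (.lf 0x1496eb)))) (.nd (.nd (.nd (.lf 0x0) (.lf 0x0)) (.nd (.lf 0x2dbb8d6) (.lf 0x2f56ceb))) (.nd (.nd (.lf 0x0) (.lf 0x3060347)) (.nd (.lf 0x0) (.lf 0x2aac7cb)))))) (.nd (.nd (.nd (.nd (.nd (.lf 0x0) (.lf 0x29088d4)) (.nd (.lf 0xc1107b) (.lf 0x2ff4425))) (.nd (.nd (.lf 0x0) (.lf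 0x0)) (.nd (.lf 0x0) (.lf 0xb5ddd5)))) (.nd (.nd (.nd (.lf 0x0) (.lf 0x3a125b)) (.nd (.lf 0x31bea9d) (.lf 0x0))) (.nd (.nd (.lf 0x0) (.lf 0x0)) (.nd (.lf 0x7d79ec) (.lf 0x23d3842))))) (.nd (.nd (.nd (.nd (.lf 0x0) (.lf 0x0)) (.nd (.lf 0x0) (.lf 0x22c03d5))) (.nd (.nd (.lf 0x0) (.lf 0xd2f6b6)) (.nd (.lf 0x0) (.lf 0x2260bd9)))) (.nd (.nd (.nd (.lf 0x0) (.lf 0x0)) (.nd (.lf 0x0) (.lf 0x25d720b))) (.nd (.nd (.lf 0x0) (.lf 0x3065278)) (.nd (.lf 0xaa921) (.lf 0)))))))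
def witT0_nbabaaa : Tr := (.nd (.nd (.nd (.nd (.nd (.nd (.lf 0x0) (.lf 0x281c1d9)) (.nd (.lf 0x0) (.lf 0x25cb773))) (.nd (.nd (.lf 0x0) (.lf 0x2c5b451)) (.nd (.lf 0x0) (.lf 0xf345f0)))) (.nd (.nd (.nd (.lf 0x0) (.lf 0x3c7df4)) (.nd (.lf 0x0) (.lf 0x0))) (.nd (.nd (.lf 0x0) (.lf 0x2d36699)) (.nd (.lf 0x0) (.lf 0xd88f2f))))) (.nd (.nd (.nd (.nd (.lf 0x0) (.lf 0x2328634)) (.nd (.lf 0x0) (.lf 0x214fde5))) (.nd (.nd (.lf 0x0) (.lf 0x2baf00f)) (.nd (.lf 0x0) (.lf 0x0)))) (.nd (.nd (.nd (.lf 0x435b3b) (.lf 0x0)) (.nd (.lf 0x0) (.lf 0xca339f))) (.nd (.nd (.lf 0x67ae59) (.lf 0x542463)) (.nd (.lf 0x10420d5) (.lf 0x27f886e)))))) (.nd (.nd (.nd (.nd (.nd (.lf 0x0) (.lf 0x1046b95)) (.nd (.lf 0x0) (.lf 0x0))) (.nd (.nd (.lf 0x0) (.lf 0x1f9ca7))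 (.nd (.lf 0x236a92b) (.lf 0x0)))) (.nd (.nd (.nd (.lf 0x0) (.lf 0x232b3a)) (.nd (.lf 0x0) (.lf 0x1178aa2))) (.nd (.nd (.lf 0x0) (.lf 0x44e840)) (.nd (.lf 0x0) (.lf 0x0))))) (.nd (.nd (.nd (.nd (.lf 0x0) (.lf 0x0)) (.nd (.lf 0x0) (.lf 0x287570f))) (.nd (.nd (.lf 0x0) (.lf 0x0)) (.nd (.lf 0x55467) (.lf 0x2c246d5)))) (.nd (.nd (.nd (.lf 0x0) (.lf 0xd4f42)) (.nd (.lf 0x0) (.lf 0x2fe5bb9))) (.nd (.nd (.lf 0x25fedd8) (.lf 0x0)) (.nd (.lf 0x0) (.lf 0x3e2299)))))))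
def witT0_nbabaab : Tr := (.nd (.nd (.nd (.nd (.nd (.nd (.lf 0x0) (.lf 0x10630da)) (.nd (.lf 0x0) (.lf 0x6a3df8))) (.nd (.nd (.lf 0x0) (.lf 0x0)) (.nd (.lf 0x288c561) (.lf 0x2352243)))) (.nd (.nd (.nd (.lf 0x0) (.lf 0x0)) (.nd (.lf 0x0) (.lf 0x2fe6da4))) (.nd (.nd (.lf 0x0) (.lf 0x0)) (.nd (.lf 0x0) (.lf 0x2dc7d49))))) (.nd (.nd (.nd (.nd (.lf 0x0) (.lf 0x0)) (.nd (.lf 0x2b5dd39) (.lf 0x248e635))) (.nd (.nd (.lf 0x0) (.lf 0x0)) (.nd (.lf 0x0) (.lf 0x1083d03)))) (.nd (.nd (.nd (.lf 0x0) (.lf 0x230633)) (.nd (.lf 0x0) (.lf 0x23b16f2))) (.nd (.nd (.lf 0x0) (.lf 0x266e5b7)) (.nd (.lf 0xdbc67f) (.lf 0x2c3e26f)))))) (.nd (.nd (.nd (.nd (.nd (.lf 0x0) (.lf 0x1c6a1c)) (.nd (.lf 0x0) (.lf 0x75703d))) (.nd (.nd (.lf 0x0) (.lf 0x2bbe1d6)) (.nd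 (.lf 0x0) (.lf 0x272da59)))) (.nd (.nd (.nd (.lf 0x0) (.lf 0x0)) (.nd (.lf 0x0) (.lf 0x2bcc2b8))) (.nd (.nd (.lf 0x0) (.lf 0x6c89dc)) (.nd (.lf 0x273f773) (.lf 0x29a2767))))) (.nd (.nd (.nd (.nd (.lf 0x0) (.lf 0x2c4d1c6)) (.nd (.lf 0x0) (.lf 0x59652))) (.nd (.nd (.lf 0x0) (.lf 0x0)) (.nd (.lf 0x21d8d3e) (.lf 0x9c044a)))) (.nd (.nd (.nd (.lf 0x0) (.lf 0x30fd764)) (.nd (.lf 0x0) (.lf 0x218dce0))) (.nd (.nd (.lf 0x2461b6b) (.lf 0xbaccf7)) (.nd (.lf 0x0) (.lf 0)))))))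
def witT0_nbababa : Tr := (.nd (.nd (.nd (.nd (.nd (.nd (.lf 0x0) (.lf 0x21d6a6a)) (.nd (.lf 0x2ac0e39) (.lf 0x9731d1))) (.nd (.nd (.lf 0x0) (.lf 0x2f765f5)) (.nd (.lf 0x0) (.lf 0x24c489c)))) (.nd (.nd (.nd (.lf 0x0) (.lf 0x0)) (.nd (.lf 0x0) (.lf 0x2afc9f3))) (.nd (.nd (.lf 0x0) (.lf 0x46e3d5)) (.nd (.lf 0x0) (.lf 0x98400b))))) (.nd (.nd (.nd (.nd (.lf 0x0) (.lf 0x0)) (.nd (.lf 0x0) (.lf 0x2546ae3))) (.nd (.nd (.lf 0x0) (.lf 0x2c90a55)) (.nd (.lf 0x0) (.lf 0x2730536)))) (.nd (.nd (.nd (.lf 0x0) (.lf 0x1533b)) (.nd (.lf 0x0) (.lf 0xb00607))) (.nd (.nd (.lf 0x0) (.lf 0x2762a03)) (.nd (.lf 0x0) (.lf 0x8c3832)))))) (.nd (.nd (.nd (.nd (.nd (.lf 0x0) (.lf 0x2a26481)) (.nd (.lf 0x0) (.lf 0x7a725b))) (.nd (.nd (.lf 0x2f512bd) (.lf 0x2dd9356))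 (.nd (.lf 0x0) (.lf 0x31ed274)))) (.nd (.nd (.nd (.lf 0x0) (.lf 0x2b7a343)) (.nd (.lf 0x2dfc9c4) (.lf 0x0))) (.nd (.nd (.lf 0x0) (.lf 0x95a8e9)) (.nd (.lf 0x0) (.lf 0x302b6f))))) (.nd (.nd (.nd (.nd (.lf 0x0) (.lf 0x0)) (.nd (.lf 0x2e517c6) (.lf 0x0))) (.nd (.nd (.lf 0x0) (.lf 0x0)) (.nd (.lf 0x0) (.lf 0x258ceb6)))) (.nd (.nd (.nd (.lf 0x0) (.lf 0x30cab10)) (.nd (.lf 0x2781747) (.lf 0x10db91f))) (.nd (.nd (.lf 0x63ee19) (.lf 0x21f649)) (.nd (.lf 0x2ced6e4) (.lf 0x275dc8c)))))))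
def witT0_nbababb : Tr := (.nd (.nd (.nd (.nd (.nd (.nd (.lf 0x0) (.lf 0x0)) (.nd (.lf 0x3594fa) (.lf 0x0))) (.nd (.nd (.lf 0x0) (.lf 0x2241091)) (.nd (.lf 0x0) (.lf 0x31147af)))) (.nd (.nd (.nd (.lf 0x0) (.lf 0x5c4ce9)) (.nd (.lf 0xd6edd2) (.lf 0xc22338))) (.nd (.nd (.lf 0x0) (.lf 0x0)) (.nd (.lf 0xa7823f) (.lf 0x2bfae47))))) (.nd (.nd (.nd (.nd (.lf 0x0) (.lf 0x4fc253)) (.nd (.lf 0x0) (.lf 0x2d05d16))) (.nd (.nd (.lf 0x0) (.lf 0x1066847)) (.nd (.lf 0x21db6b4) (.lf 0x2342cc3)))) (.nd (.nd (.nd (.lf 0x0) (.lf 0x0)) (.nd (.lf 0x0) (.lf 0x28ab407))) (.nd (.nd (.lf 0x0) (.lf 0x2c21050)) (.nd (.lf 0xaf08fc) (.lf 0x9cef49)))))) (.nd (.nd (.nd (.nd (.nd (.lf 0x0) (.lf 0x5f20d7)) (.nd (.lf 0x0) (.lf 0x30415b3))) (.nd (.nd (.lf 0x0) (.lf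 0x2f4fb39)) (.nd (.lf 0x0) (.lf 0x51c451)))) (.nd (.nd (.nd (.lf 0x0) (.lf 0x0)) (.nd (.lf 0x80834d) (.lf 0xff48f3))) (.nd (.nd (.lf 0x0) (.lf 0x101fb0c)) (.nd (.lf 0x445854) (.lf 0x4316ff))))) (.nd (.nd (.nd (.nd (.lf 0x0) (.lf 0x0)) (.nd (.lf 0x86e820) (.lf 0x3125385))) (.nd (.nd (.lf 0x0) (.lf 0x31137a0)) (.nd (.lf 0x2939e1f) (.lf 0x9cd9ee)))) (.nd (.nd (.nd (.lf 0x0) (.lf 0x7dca75)) (.nd (.lf 0x0) (.lf 0xbaada))) (.nd (.nd (.lf 0x0) (.lf 0x20a101)) (.nd (.lf 0x0) (.lf 0)))))))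
def witT0_nbabbaa : Tr := (.nd (.nd (.nd (.nd (.nd (.nd (.lf 0x0) (.lf 0xfbed8b)) (.nd (.lf 0x0) (.lf 0xc0f92d))) (.nd (.nd (.lf 0x0) (.lf 0x0)) (.nd (.lf 0x0) (.lf 0x2fe944c)))) (.nd (.nd (.nd (.lf 0x0) (.lf 0xb7dabd)) (.nd (.lf 0x2c5d232) (.lf 0x10566d2))) (.nd (.nd (.lf 0x0) (.lf 0x2736073)) (.nd (.lf 0x0) (.lf 0xf475b5))))) (.nd (.nd (.nd (.nd (.lf 0x0) (.lf 0x15ea49)) (.nd (.lf 0x0) (.lf 0x25c2090))) (.nd (.nd (.lf 0x0) (.lf 0x70fc5b)) (.nd (.lf 0x0) (.lf 0x13590d)))) (.nd (.nd (.nd (.lf 0x0) (.lf 0x2648eec)) (.nd (.lf 0x0) (.lf 0x3be291))) (.nd (.nd (.lf 0x6b8322) (.lf 0xa080a)) (.nd (.lf 0x0) (.lf 0x2836)))))) (.nd (.nd (.nd (.nd (.nd (.lf 0x0) (.lf 0x0)) (.nd (.lf 0x22b720d) (.lf 0x6bab8))) (.nd (.nd (.lf 0x0) (.lf 0x0)) (.nd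 (.lf 0x0) (.lf 0x24f8c70)))) (.nd (.nd (.nd (.lf 0x0) (.lf 0x0)) (.nd (.lf 0x6115f4) (.lf 0x248b76d))) (.nd (.nd (.lf 0x0) (.lf 0x11a65f5)) (.nd (.lf 0x0) (.lf 0xe9e675))))) (.nd (.nd (.nd (.nd (.lf 0x0) (.lf 0x0)) (.nd (.lf 0x22d5bf) (.lf 0x10be0a1))) (.nd (.nd (.lf 0x18f04) (.lf 0x2b4570a)) (.nd (.lf 0x0) (.lf 0x2167abf)))) (.nd (.nd (.nd (.lf 0x0) (.lf 0x2938333)) (.nd (.lf 0xa746f8) (.lf 0x0))) (.nd (.nd (.lf 0x0) (.lf 0x2d8537c)) (.nd (.lf 0x0) (.lf 0x2821a5e)))))))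
def witT0_nbabbab : Tr := (.nd (.nd (.nd (.nd (.nd (.nd (.lf 0x0) (.lf 0x0)) (.nd (.lf 0x0) (.lf 0x2f2431))) (.nd (.nd (.lf 0x0) (.lf 0x0)) (.nd (.lf 0x0) (.lf 0x0)))) (.nd (.nd (.nd (.lf 0x0) (.lf 0x0)) (.nd (.lf 0x0) (.lf 0xf1837f))) (.nd (.nd (.lf 0x0) (.lf 0xcb496b)) (.nd (.lf 0xb8a82f) (.lf 0x11b06a))))) (.nd (.nd (.nd (.nd (.lf 0x0) (.lf 0x0)) (.nd (.lf 0x0) (.lf 0x236b0f7))) (.nd (.nd (.lf 0x0) (.lf 0x0)) (.nd (.lf 0x0) (.lf 0x78ffa)))) (.nd (.nd (.nd (.lf 0x0) (.lf 0x7d0154)) (.nd (.lf 0xaf0f88) (.lf 0x773366))) (.nd (.nd (.lf 0x0) (.lf 0x0)) (.nd (.lf 0x0) (.lf 0x301f135)))))) (.nd (.nd (.nd (.nd (.nd (.lf 0x0) (.lf 0x3eec40)) (.nd (.lf 0x313f5ea) (.lf 0x35f15a))) (.nd (.nd (.lf 0x0) (.lf 0x0)) (.nd (.lf 0xc50ead) (.lf 0x5ad105))))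 (.nd (.nd (.nd (.lf 0x0) (.lf 0x0)) (.nd (.lf 0x36989b) (.lf 0x0))) (.nd (.nd (.lf 0x0) (.lf 0xe5eb1a)) (.nd (.lf 0x0) (.lf 0x11ede44))))) (.nd (.nd (.nd (.nd (.lf 0x0) (.lf 0x301c363)) (.nd (.lf 0x0) (.lf 0x83ab21))) (.nd (.nd (.lf 0x0) (.lf 0x80b84b)) (.nd (.lf 0x0) (.lf 0x2a5e759)))) (.nd (.nd (.nd (.lf 0x0) (.lf 0x0)) (.nd (.lf 0x0) (.lf 0x92a52a))) (.nd (.nd (.lf 0x0) (.lf 0x0)) (.nd (.lf 0x8dab61) (.lf 0)))))))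
def witT0_nbabbba : Tr := (.nd (.nd (.nd (.nd (.nd (.nd (.lf 0x0) (.lf 0x26ec37e)) (.nd (.lf 0x0) (.lf 0x21cec44))) (.nd (.nd (.lf 0x0) (.lf 0x0)) (.nd (.lf 0x0) (.lf 0x0)))) (.nd (.nd (.nd (.lf 0x0) (.lf 0x0)) (.nd (.lf 0x36e17d) (.lf 0x216abfc))) (.nd (.nd (.lf 0x0) (.lf 0xf7db32)) (.nd (.lf 0x0) (.lf 0x2724d3c))))) (.nd (.nd (.nd (.nd (.lf 0x0) (.lf 0xf473d7)) (.nd (.lf 0x0) (.lf 0x0))) (.nd (.nd (.lf 0x0) (.lf 0x7f7534)) (.nd (.lf 0x0) (.lf 0x43546c)))) (.nd (.nd (.nd (.lf 0x0) (.lf 0x0)) (.nd (.lf 0x0) (.lf 0x2347058))) (.nd (.nd (.lf 0x0) (.lf 0x2edab57)) (.nd (.lf 0xe4d955) (.lf 0x604579)))))) (.nd (.nd (.nd (.nd (.nd (.lf 0x0) (.lf 0x0)) (.nd (.lf 0x0) (.lf 0xd849af))) (.nd (.nd (.lf 0x0) (.lf 0x0)) (.nd (.lf 0x0) (.lf 0x7ec689))))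 (.nd (.nd (.nd (.lf 0x0) (.lf 0x4e437c)) (.nd (.lf 0x2b1cbde) (.lf 0x300a998))) (.nd (.nd (.lf 0x0) (.lf 0x4764e)) (.nd (.lf 0x0) (.lf 0x22c40a5))))) (.nd (.nd (.nd (.nd (.lf 0x0) (.lf 0x83716e)) (.nd (.lf 0x0) (.lf 0x49fa36))) (.nd (.nd (.lf 0x0) (.lf 0x4d060e)) (.nd (.lf 0x0) (.lf 0x8bc6a7)))) (.nd (.nd (.nd (.lf 0x0) (.lf 0xe8320c)) (.nd (.lf 0xddc101) (.lf 0x0))) (.nd (.nd (.lf 0x0) (.lf 0x0)) (.nd (.lf 0x0) (.lf 0)))))))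
def witT0_nbabbbb : Tr := (.nd (.nd (.nd (.nd (.nd (.nd (.lf 0x0) (.lf 0x1a3c25)) (.nd (.lf 0x0) (.lf 0x30d0823))) (.nd (.nd (.lf 0x0) (.lf 0x0)) (.nd (.lf 0x0) (.lf 0x223f112)))) (.nd (.nd (.nd (.lf 0x0) (.lf 0x2f48f21)) (.nd (.lf 0x3a2aee) (.lf 0x633ad5))) (.nd (.nd (.lf 0x0) (.lf 0x23a0b3)) (.nd (.lf 0x0) (.lf 0x0))))) (.nd (.nd (.nd (.nd (.lf 0x0) (.lf 0x0)) (.nd (.lf 0x5b7dbb) (.lf 0x7f5830))) (.nd (.nd (.lf 0x0) (.lf 0x25ebb42)) (.nd (.lf 0xd5c94b) (.lf 0x105e6b7)))) (.nd (.nd (.nd (.lf 0x244ee9f) (.lf 0x0)) (.nd (.lf 0x0) (.lf 0x8865b0))) (.nd (.nd (.lf 0x0) (.lf 0x0)) (.nd (.lf 0x2f84ee7) (.lf 0x29653e3)))))) (.nd (.nd (.nd (.nd (.nd (.lf 0x0) (.lf 0x0)) (.nd (.lf 0x0) (.lf 0x6bdbb4))) (.nd (.nd (.lf 0x0) (.lf 0x568c5c)) (.nd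 (.lf 0x0) (.lf 0xf02c08)))) (.nd (.nd (.nd (.lf 0x0) (.lf 0x0)) (.nd (.lf 0x2d177e3) (.lf 0x232cb83))) (.nd (.nd (.lf 0x0) (.lf 0x984684)) (.nd (.lf 0x2da6b44) (.lf 0x2480ac7))))) (.nd (.nd (.nd (.nd (.lf 0x0) (.lf 0x2ee8add)) (.nd (.lf 0x0) (.lf 0xfe7039))) (.nd (.nd (.lf 0x0) (.lf 0x0)) (.nd (.lf 0x9e3b80) (.lf 0x1162e27)))) (.nd (.nd (.nd (.lf 0x0) (.lf 0x0)) (.nd (.lf 0x0) (.lf 0x255f88c))) (.nd (.nd (.lf 0x0) (.lf 0xa63e26)) (.nd (.lf 0x0) (.lf 0)))))))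
def witT0_nbbaaaa : Tr := (.nd (.nd (.nd (.nd (.nd (.nd (.lf 0x0) (.lf 0x2f4ed8f)) (.nd (.lf 0x0) (.lf 0x36a9ef))) (.nd (.nd (.lf 0x0) (.lf 0x0)) (.nd (.lf 0x0) (.lf 0x23e15e0)))) (.nd (.nd (.nd (.lf 0x0) (.lf 0xe4e5e8)) (.nd (.lf 0xb56bfa) (.lf 0x22d310e))) (.nd (.nd (.lf 0x2885c0f) (.lf 0x0)) (.nd (.lf 0x0) (.lf 0x3187aa))))) (.nd (.nd (.nd (.nd (.lf 0x0) (.lf 0x7bc450)) (.nd (.lf 0x11754de) (.lf 0x1057182))) (.nd (.nd (.lf 0x0) (.lf 0x2e5c1ee)) (.nd (.lf 0x284a8bf) (.lf 0x0)))) (.nd (.nd (.nd (.lf 0x2155a92) (.lf 0x0)) (.nd (.lf 0x0) (.lf 0x6a2932))) (.nd (.nd (.lf 0x53420b) (.lf 0x780ede)) (.nd (.lf 0x685195) (.lf 0x264b298)))))) (.nd (.nd (.nd (.nd (.nd (.lf 0x0) (.lf 0xc096d2)) (.nd (.lf 0x57b23d) (.lf 0x6cfe6d))) (.nd (.nd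 (.lf 0x0) (.lf 0x29a9ce8)) (.nd (.lf 0x0) (.lf 0x29c7a38)))) (.nd (.nd (.nd (.lf 0x0) (.lf 0x200c0c3)) (.nd (.lf 0x0) (.lf 0x2b955a8))) (.nd (.nd (.lf 0x226ae3f) (.lf 0x20bfb09)) (.nd (.lf 0x0) (.lf 0x2ba4c78))))) (.nd (.nd (.nd (.nd (.lf 0x0) (.lf 0xa59aa2)) (.nd (.lf 0x2d59592) (.lf 0x0))) (.nd (.nd (.lf 0x0) (.lf 0x62ba9a)) (.nd (.lf 0x0) (.lf 0x5fcb7c)))) (.nd (.nd (.nd (.lf 0x0) (.lf 0x6d6974)) (.nd (.lf 0x314de35) (.lf 0xa87751))) (.nd (.nd (.lf 0x0) (.lf 0xc62304)) (.nd (.lf 0x1035f1) (.lf 0x5327a8)))))))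
def witT0_nbbaaab : Tr := (.nd (.nd (.nd (.nd (.nd (.nd (.lf 0x0) (.lf 0x0)) (.nd (.lf 0x0) (.lf 0x257121a))) (.nd (.nd (.lf 0x0) (.lf 0x2fdae9b)) (.nd (.lf 0x6527c1) (.lf 0x0)))) (.nd (.nd (.nd (.lf 0x0) (.lf 0x0)) (.nd (.lf 0x4369c4) (.lf 0x48b8bd))) (.nd (.nd (.lf 0x0) (.lf 0x0)) (.nd (.lf 0x28d9e5a) (.lf 0x6c92d8))))) (.nd (.nd (.nd (.nd (.lf 0x0) (.lf 0xc34ec5)) (.nd (.lf 0xc18435) (.lf 0x105c8c))) (.nd (.nd (.lf 0x0) (.lf 0x0)) (.nd (.lf 0x208880) (.lf 0x5e165)))) (.nd (.nd (.nd (.lf 0x0) (.lf 0x0)) (.nd (.lf 0x0) (.lf 0x22138f7))) (.nd (.nd (.lf 0x9baa19) (.lf 0xd2dc31)) (.nd (.lf 0x7c561c) (.lf 0x23a7647)))))) (.nd (.nd (.nd (.nd (.nd (.lf 0x0) (.lf 0x0)) (.nd (.lf 0x2632b55) (.lf 0x3d39ca))) (.nd (.nd (.lf 0x0) (.lf 0x20b310a))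 (.nd (.lf 0x0) (.lf 0xe26b13)))) (.nd (.nd (.nd (.lf 0x0) (.lf 0x2911668)) (.nd (.lf 0x0) (.lf 0x7730f7))) (.nd (.nd (.lf 0x0) (.lf 0x27d04d9)) (.nd (.lf 0x0) (.lf 0xe68219))))) (.nd (.nd (.nd (.nd (.lf 0x0) (.lf 0x28f1360)) (.nd (.lf 0x2882b3e) (.lf 0x27a905b))) (.nd (.nd (.lf 0x0) (.lf 0x2c4727)) (.nd (.lf 0x226b0a7) (.lf 0x31b7447)))) (.nd (.nd (.nd (.lf 0x26c6c91) (.lf 0x0)) (.nd (.lf 0x2e97657) (.lf 0xd1a220))) (.nd (.nd (.lf 0x0) (.lf 0x27aa37f)) (.nd (.lf 0x635484) (.lf 0)))))))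
def witT0_nbbaaba : Tr := (.nd (.nd (.nd (.nd (.nd (.nd (.lf 0x0) (.lf 0x0)) (.nd (.lf 0x0) (.lf 0x24e898d))) (.nd (.nd (.lf 0x0) (.lf 0x28a406c)) (.nd (.lf 0xdfddd3) (.lf 0x0)))) (.nd (.nd (.nd (.lf 0x0) (.lf 0x0)) (.nd (.lf 0x0) (.lf 0x24b03e))) (.nd (.nd (.lf 0x0) (.lf 0x2cc269f)) (.nd (.lf 0x0) (.lf 0x177057))))) (.nd (.nd (.nd (.nd (.lf 0x0) (.lf 0x0)) (.nd (.lf 0x0) (.lf 0x9375e0))) (.nd (.nd (.lf 0x0) (.lf 0x0)) (.nd (.lf 0x15630b) (.lf 0x246e90b)))) (.nd (.nd (.nd (.lf 0x0) (.lf 0x2f15557)) (.nd (.lf 0x0) (.lf 0x6184e9))) (.nd (.nd (.lf 0x0) (.lf 0x0)) (.nd (.lf 0xcf9904) (.lf 0x2a8c3d7)))))) (.nd (.nd (.nd (.nd (.nd (.lf 0x0) (.lf 0x2aad64e)) (.nd (.lf 0x0) (.lf 0x21752f2))) (.nd (.nd (.lf 0x0) (.lf 0x2bfd16f)) (.nd (.lf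 0x6005f4) (.lf 0x78a5e3)))) (.nd (.nd (.nd (.lf 0x0) (.lf 0x23bd679)) (.nd (.lf 0x0) (.lf 0x0))) (.nd (.nd (.lf 0x0) (.lf 0x119d451)) (.nd (.lf 0x0) (.lf 0x2e07d7c))))) (.nd (.nd (.nd (.nd (.lf 0x0) (.lf 0x0)) (.nd (.lf 0x0) (.lf 0x0))) (.nd (.nd (.lf 0x0) (.lf 0x0)) (.nd (.lf 0xb518e2) (.lf 0x2a7708)))) (.nd (.nd (.nd (.lf 0x0) (.lf 0x244436e)) (.nd (.lf 0x0) (.lf 0xcec4bb))) (.nd (.nd (.lf 0x0) (.lf 0x0)) (.nd (.lf 0xed9be7) (.lf 0x230c2b4)))))))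
def witT0_nbbaabb : Tr := (.nd (.nd (.nd (.nd (.nd (.nd (.lf 0x0) (.lf 0x0)) (.nd (.lf 0x0) (.lf 0xe291f8))) (.nd (.nd (.lf 0x0) (.lf 0x0)) (.nd (.lf 0x0) (.lf 0x1010835)))) (.nd (.nd (.nd (.lf 0x0) (.lf 0x268cc15)) (.nd (.lf 0x23b6a73) (.lf 0x494d46))) (.nd (.nd (.lf 0x0) (.lf 0x273cdb2)) (.nd (.lf 0x2758b84) (.lf 0x28928eb))))) (.nd (.nd (.nd (.nd (.lf 0x0) (.lf 0xf94a91)) (.nd (.lf 0x0) (.lf 0x26698b8))) (.nd (.nd (.lf 0x0) (.lf 0x0)) (.nd (.lf 0x0) (.lf 0xbac3e1)))) (.nd (.nd (.nd (.lf 0x0) (.lf 0xe2eb5e)) (.nd (.lf 0x2ba662a) (.lf 0x0))) (.nd (.nd (.lf 0x0) (.lf 0x1105d80)) (.nd (.lf 0x0) (.lf 0x254c6c4)))))) (.nd (.nd (.nd (.nd (.nd (.lf 0x0) (.lf 0xa37c80)) (.nd (.lf 0x0) (.lf 0x13589d))) (.nd (.nd (.lf 0x0) (.lf 0xfec43d))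 (.nd (.lf 0x251d1bb) (.lf 0x0)))) (.nd (.nd (.nd (.lf 0x0) (.lf 0x203d2d)) (.nd (.lf 0x0) (.lf 0x0))) (.nd (.nd (.lf 0x0) (.lf 0x0)) (.nd (.lf 0x0) (.lf 0x5ffbd2))))) (.nd (.nd (.nd (.nd (.lf 0x0) (.lf 0x0)) (.nd (.lf 0x0) (.lf 0xbf2663))) (.nd (.nd (.lf 0x0) (.lf 0x0)) (.nd (.lf 0x0) (.lf 0x313214d)))) (.nd (.nd (.nd (.lf 0x0) (.lf 0x0)) (.nd (.lf 0x0) (.lf 0xbba539))) (.nd (.nd (.lf 0x0) (.lf 0x23425ce)) (.nd (.lf 0x9049d1) (.lf 0)))))))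
def witT0_nbbabaa : Tr := (.nd (.nd (.nd (.nd (.nd (.nd (.lf 0x0) (.lf 0x2aaea3a)) (.nd (.lf 0x0) (.lf 0xfb4abb))) (.nd (.nd (.lf 0x7467c9) (.lf 0x0)) (.nd (.lf 0x0) (.lf 0x2ee6d78)))) (.nd (.nd (.nd (.lf 0x0) (.lf 0x0)) (.nd (.lf 0x3056407) (.lf 0x2e93dae))) (.nd (.nd (.lf 0x2da735) (.lf 0x0)) (.nd (.lf 0x0) (.lf 0x5c81aa))))) (.nd (.nd (.nd (.nd (.lf 0x0) (.lf 0x0)) (.nd (.lf 0x0) (.lf 0x313d13e))) (.nd (.nd (.lf 0x0) (.lf 0x2dd8a29)) (.nd (.lf 0x0) (.lf 0x8e4a80)))) (.nd (.nd (.nd (.lf 0x0) (.lf 0x0)) (.nd (.lf 0x0) (.lf 0xa6e187))) (.nd (.nd (.lf 0x0) (.lf 0x0)) (.nd (.lf 0x11033d7) (.lf 0x306831c)))))) (.nd (.nd (.nd (.nd (.nd (.lf 0x0) (.lf 0x0)) (.nd (.lf 0x220563a) (.lf 0x0))) (.nd (.nd (.lf 0x0) (.lf 0x2c197b7)) (.nd (.lf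 0x0) (.lf 0xb6896f)))) (.nd (.nd (.nd (.lf 0x0) (.lf 0x0)) (.nd (.lf 0x271f50e) (.lf 0x1f5bee))) (.nd (.nd (.lf 0x0) (.lf 0x0)) (.nd (.lf 0x99da40) (.lf 0x253ab47))))) (.nd (.nd (.nd (.nd (.lf 0x0) (.lf 0x2c2b837)) (.nd (.lf 0x0) (.lf 0x2571b06))) (.nd (.nd (.lf 0x0) (.lf 0x284ebc9)) (.nd (.lf 0x0) (.lf 0xd4b8e3)))) (.nd (.nd (.nd (.lf 0x22c21ff) (.lf 0x0)) (.nd (.lf 0x0) (.lf 0x23bd9bb))) (.nd (.nd (.lf 0x0) (.lf 0x2274056)) (.nd (.lf 0x266d759) (.lf 0x11ff1eb)))))))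
def witT0_nbbabab : Tr := (.nd (.nd (.nd (.nd (.nd (.nd (.lf 0x0) (.lf 0xe2af0)) (.nd (.lf 0x0) (.lf 0xcc9316))) (.nd (.nd (.lf 0x0) (.lf 0x29db7d0)) (.nd (.lf 0x0) (.lf 0x2ccf977)))) (.nd (.nd (.nd (.lf 0x0) (.lf 0xfd1358)) (.nd (.lf 0x1282ab) (.lf 0x61d31b))) (.nd (.nd (.lf 0x0) (.lf 0x2b80162)) (.nd (.lf 0x0) (.lf 0x27a8af8))))) (.nd (.nd (.nd (.nd (.lf 0x0) (.lf 0x0)) (.nd (.lf 0x27c1733) (.lf 0x804c91))) (.nd (.nd (.lf 0x0) (.lf 0x2af203d)) (.nd (.lf 0x0) (.lf 0x9a403)))) (.nd (.nd (.nd (.lf 0x0) (.lf 0x24c5340)) (.nd (.lf 0x0) (.lf 0x778896))) (.nd (.nd (.lf 0xa5c2d7) (.lf 0x0)) (.nd (.lf 0x2b2e73b) (.lf 0x8a9236)))))) (.nd (.nd (.nd (.nd (.nd (.lf 0x0) (.lf 0x0)) (.nd (.lf 0x0) (.lf 0x0))) (.nd (.nd (.lf 0x0) (.lf 0x274fc25))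 (.nd (.lf 0x0) (.lf 0x2e5bcef)))) (.nd (.nd (.nd (.lf 0x0) (.lf 0x0)) (.nd (.lf 0xd8b4fc) (.lf 0x27335d3))) (.nd (.nd (.lf 0x0) (.lf 0x2d05b3b)) (.nd (.lf 0x31ef8f8) (.lf 0xbe59cb))))) (.nd (.nd (.nd (.nd (.lf 0x0) (.lf 0x2198527)) (.nd (.lf 0x0) (.lf 0x283b9fd))) (.nd (.nd (.lf 0x0) (.lf 0x2047618)) (.nd (.lf 0x0) (.lf 0xb8671e)))) (.nd (.nd (.nd (.lf 0x0) (.lf 0x0)) (.nd (.lf 0x0) (.lf 0x6a7533))) (.nd (.nd (.lf 0x0) (.lf 0x103d748)) (.nd (.lf 0x2f8bc67) (.lf 0)))))))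
def witT0_nbbabba : Tr := (.nd (.nd (.nd (.nd (.nd (.nd (.lf 0x0) (.lf 0x0)) (.nd (.lf 0x2f36f97) (.lf 0x271a52b))) (.nd (.nd (.lf 0x0) (.lf 0x2296281)) (.nd (.lf 0x0) (.lf 0xf7f087)))) (.nd (.nd (.nd (.lf 0x0) (.lf 0x22f6880)) (.nd (.lf 0x32c75d) (.lf 0x0))) (.nd (.nd (.lf 0x0) (.lf 0x289b800)) (.nd (.lf 0x22f6404) (.lf 0x844c08))))) (.nd (.nd (.nd (.nd (.lf 0x0) (.lf 0x0)) (.nd (.lf 0x0) (.lf 0x2bb4574))) (.nd (.nd (.lf 0x0) (.lf 0x9f8ed0)) (.nd (.lf 0x246124b) (.lf 0x0)))) (.nd (.nd (.nd (.lf 0x0) (.lf 0x0)) (.nd (.lf 0xf0e703) (.lf 0xb0113f))) (.nd (.nd (.lf 0x0) (.lf 0x3070b3f)) (.nd (.lf 0x0) (.lf 0x2757748)))))) (.nd (.nd (.nd (.nd (.nd (.lf 0x0) (.lf 0x23c3722)) (.nd (.lf 0x0) (.lf 0xb0eb7d))) (.nd (.nd (.lf 0x0) (.lf 0x104db3e))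 (.nd (.lf 0x2d1818a) (.lf 0x103e4a4)))) (.nd (.nd (.nd (.lf 0x0) (.lf 0x2fceef3)) (.nd (.lf 0x2098eb5) (.lf 0x274c44a))) (.nd (.nd (.lf 0x0) (.lf 0x602277)) (.nd (.lf 0x2454c7) (.lf 0x2a0a812))))) (.nd (.nd (.nd (.nd (.lf 0x0) (.lf 0x0)) (.nd (.lf 0x0) (.lf 0x294b28a))) (.nd (.nd (.lf 0x0) (.lf 0x8755ae)) (.nd (.lf 0xa5bd73) (.lf 0xa2f4db)))) (.nd (.nd (.nd (.lf 0x0) (.lf 0x0)) (.nd (.lf 0x0) (.lf 0x2754ead))) (.nd (.nd (.lf 0x2715c79) (.lf 0x0)) (.nd (.lf 0x84fa7c) (.lf 0x205119c)))))))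
def witT0_nbbabbb : Tr := (.nd (.nd (.nd (.nd (.nd (.nd (.lf 0x0) (.lf 0x0)) (.nd (.lf 0x0) (.lf 0x0))) (.nd (.nd (.lf 0x0) (.lf 0x0)) (.nd (.lf 0x0) (.lf 0x26bba5)))) (.nd (.nd (.nd (.lf 0x0) (.lf 0x1ccde5)) (.nd (.lf 0x0) (.lf 0x10e5188))) (.nd (.nd (.lf 0x0) (.lf 0xcd34cd)) (.nd (.lf 0x0) (.lf 0x2a284c7))))) (.nd (.nd (.nd (.nd (.lf 0x0) (.lf 0x0)) (.nd (.lf 0xae8e53) (.lf 0x15bae7))) (.nd (.nd (.lf 0x0) (.lf 0x2019d5f)) (.nd (.lf 0x0) (.lf 0x11f564c)))) (.nd (.nd (.nd (.lf 0x0) (.lf 0x0)) (.nd (.lf 0x0) (.lf 0xe2515a))) (.nd (.nd (.lf 0x0) (.lf 0x28ba2dd)) (.nd (.lf 0x0) (.lf 0x9ef2ab)))))) (.nd (.nd (.nd (.nd (.nd (.lf 0x0) (.lf 0x0)) (.nd (.lf 0x0) (.lf 0x0))) (.nd (.nd (.lf 0x0) (.lf 0x79958d)) (.nd (.lf 0x0) (.lf 0xe957bf))))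 (.nd (.nd (.nd (.lf 0x0) (.lf 0x0)) (.nd (.lf 0x0) (.lf 0xda1b58))) (.nd (.nd (.lf 0x0) (.lf 0x2f3e65c)) (.nd (.lf 0x0) (.lf 0x2586806))))) (.nd (.nd (.nd (.nd (.lf 0x0) (.lf 0x42374e)) (.nd (.lf 0x0) (.lf 0x31a9d3d))) (.nd (.nd (.lf 0x0) (.lf 0x10f9323)) (.nd (.lf 0x0) (.lf 0x1119a34)))) (.nd (.nd (.nd (.lf 0x0) (.lf 0x2dd70f3)) (.nd (.lf 0x0) (.lf 0x2154ad))) (.nd (.nd (.lf 0x8959b7) (.lf 0x2343045)) (.nd (.lf 0x100168) (.lf 0)))))))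
def witT0_nbbbaaa : Tr := (.nd (.nd (.nd (.nd (.nd (.nd (.lf 0x0) (.lf 0x0)) (.nd (.lf 0x2420935) (.lf 0x273a9d7))) (.nd (.nd (.lf 0x23f6272) (.lf 0xbe6f08)) (.nd (.lf 0x0) (.lf 0xbf870d)))) (.nd (.nd (.nd (.lf 0x0) (.lf 0x0)) (.nd (.lf 0x0) (.lf 0xd9d547))) (.nd (.nd (.lf 0x0) (.lf 0x108f53b)) (.nd (.lf 0x0) (.lf 0xbb1841))))) (.nd (.nd (.nd (.nd (.lf 0x0) (.lf 0x296f2b3)) (.nd (.lf 0x0) (.lf 0x31f12a2))) (.nd (.nd (.lf 0x0) (.lf 0x7be564)) (.nd (.lf 0x0) (.lf 0xf8edfe)))) (.nd (.nd (.nd (.lf 0x0) (.lf 0x1019be3)) (.nd (.lf 0x0) (.lf 0x2daf161))) (.nd (.nd (.lf 0x0) (.lf 0x0)) (.nd (.lf 0x5bc20) (.lf 0x29e6bf9)))))) (.nd (.nd (.nd (.nd (.nd (.lf 0x0) (.lf 0x0)) (.nd (.lf 0x2e3a157) (.lf 0xadf5fe))) (.nd (.nd (.lf 0x22460a1) (.lf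 0x0)) (.nd (.lf 0x0) (.lf 0x4bf21f)))) (.nd (.nd (.nd (.lf 0x0) (.lf 0x0)) (.nd (.lf 0x0) (.lf 0x28d179f))) (.nd (.nd (.lf 0x0) (.lf 0x40acc5)) (.nd (.lf 0x0) (.lf 0x315c0f))))) (.nd (.nd (.nd (.nd (.lf 0x0) (.lf 0x0)) (.nd (.lf 0x2a9969a) (.lf 0x10ed67))) (.nd (.nd (.lf 0x4853f6) (.lf 0x0)) (.nd (.lf 0x117a766) (.lf 0x1161b75)))) (.nd (.nd (.nd (.lf 0x0) (.lf 0x29acf5d)) (.nd (.lf 0x0) (.lf 0xa3e48d))) (.nd (.nd (.lf 0x0) (.lf 0xfc3999)) (.nd (.lf 0x0) (.lf 0x31a52ac)))))))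
def witT0_nbbbaab : Tr := (.nd (.nd (.nd (.nd (.nd (.nd (.lf 0x0) (.lf 0x21431a1)) (.nd (.lf 0x2e64fc5) (.lf 0x7d70b))) (.nd (.nd (.lf 0x0) (.lf 0x2770b4b)) (.nd (.lf 0x2260e42) (.lf 0x27d0ccb)))) (.nd (.nd (.nd (.lf 0x0) (.lf 0x0)) (.nd (.lf 0x0) (.lf 0x95bb3e))) (.nd (.nd (.lf 0x3bca68) (.lf 0x31ab48d)) (.nd (.lf 0xd09ac0) (.lf 0x22aa9ad))))) (.nd (.nd (.nd (.nd (.lf 0x0) (.lf 0x648685)) (.nd (.lf 0xce54a0) (.lf 0x1164620))) (.nd (.nd (.lf 0x2d2bc63) (.lf 0xe572cc)) (.nd (.lf 0x0) (.lf 0x732a8)))) (.nd (.nd (.nd (.lf 0x0) (.lf 0x29c7af0)) (.nd (.lf 0x0) (.lf 0x6979c3))) (.nd (.nd (.lf 0x8b5396) (.lf 0x2745d88)) (.nd (.lf 0x0) (.lf 0x4f7233)))))) (.nd (.nd (.nd (.nd (.nd (.lf 0x0) (.lf 0x0)) (.nd (.lf 0x0) (.lf 0x1070f16))) (.nd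 (.nd (.lf 0x0) (.lf 0x28e2fff)) (.nd (.lf 0x0) (.lf 0xbfd7cd)))) (.nd (.nd (.nd (.lf 0x0) (.lf 0x2954ddd)) (.nd (.lf 0x808d20) (.lf 0x64abbf))) (.nd (.nd (.lf 0x0) (.lf 0x0)) (.nd (.lf 0x0) (.lf 0x8522c3))))) (.nd (.nd (.nd (.nd (.lf 0x0) (.lf 0x0)) (.nd (.lf 0x0) (.lf 0x2ac8c4e))) (.nd (.nd (.lf 0x0) (.lf 0x24a040e)) (.nd (.lf 0x0) (.lf 0x2e6160c)))) (.nd (.nd (.nd (.lf 0x0) (.lf 0x0)) (.nd (.lf 0x0) (.lf 0x2c4de3e))) (.nd (.nd (.lf 0x2ae3929) (.lf 0x0)) (.nd (.lf 0x0) (.lf 0)))))))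
def witT0_nbbbaba : Tr := (.nd (.nd (.nd (.nd (.nd (.nd (.lf 0x0) (.lf 0xd75437)) (.nd (.lf 0x0) (.lf 0x24dd0cf))) (.nd (.nd (.lf 0x0) (.lf 0x0)) (.nd (.lf 0x0) (.lf 0xb2f1be)))) (.nd (.nd (.nd (.lf 0x0) (.lf 0x28cabef)) (.nd (.lf 0x0) (.lf 0x62b70c))) (.nd (.nd (.lf 0x0) (.lf 0x0)) (.nd (.lf 0x0) (.lf 0x232eaa4))))) (.nd (.nd (.nd (.nd (.lf 0x0) (.lf 0x0)) (.nd (.lf 0x0) (.lf 0xd599de))) (.nd (.nd (.lf 0x30f16c) (.lf 0x0)) (.nd (.lf 0x0) (.lf 0x7e2564)))) (.nd (.nd (.nd (.lf 0x0) (.lf 0x201f12e)) (.nd (.lf 0x0) (.lf 0x2a5b377))) (.nd (.nd (.lf 0x0) (.lf 0x9dbdc5)) (.nd (.lf 0x0) (.lf 0x2d3dc0f)))))) (.nd (.nd (.nd (.nd (.nd (.lf 0x0) (.lf 0x0)) (.nd (.lf 0x0) (.lf 0x2c1d507))) (.nd (.nd (.lf 0x0) (.lf 0x23ef36f)) (.nd (.lf 0x2fac754)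 (.lf 0x435b56)))) (.nd (.nd (.nd (.lf 0x0) (.lf 0x0)) (.nd (.lf 0x0) (.lf 0xcfd34a))) (.nd (.nd (.lf 0x2861bf1) (.lf 0x6c6e1b)) (.nd (.lf 0x0) (.lf 0x201b1aa))))) (.nd (.nd (.nd (.nd (.lf 0x0) (.lf 0x2ed4198)) (.nd (.lf 0x26fec24) (.lf 0x1c9753))) (.nd (.nd (.lf 0x0) (.lf 0xf6870)) (.nd (.lf 0x23f3a65) (.lf 0x22c9922)))) (.nd (.nd (.nd (.lf 0x0) (.lf 0x0)) (.nd (.lf 0xd6519b) (.lf 0x10d0e4))) (.nd (.nd (.lf 0x0) (.lf 0x0)) (.nd (.lf 0x3195afe) (.lf 0x2cce612)))))))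
def witT0_nbbbabb : Tr := (.nd (.nd (.nd (.nd (.nd (.nd (.lf 0x0) (.lf 0x0)) (.nd (.lf 0x0) (.lf 0x0))) (.nd (.nd (.lf 0x0) (.lf 0x23fb2ce)) (.nd (.lf 0x0) (.lf 0x2978a91)))) (.nd (.nd (.nd (.lf 0x0) (.lf 0x2aa341e)) (.nd (.lf 0x0) (.lf 0xbd221b))) (.nd (.nd (.lf 0x0) (.lf 0xaeb1a0)) (.nd (.lf 0x23b8c6d) (.lf 0x2be08cc))))) (.nd (.nd (.nd (.nd (.lf 0x0) (.lf 0x0)) (.nd (.lf 0x313f90b) (.lf 0x0))) (.nd (.nd (.lf 0x0) (.lf 0x0)) (.nd (.lf 0x2bda28b) (.lf 0x30185bf)))) (.nd (.nd (.nd (.lf 0x0) (.lf 0x27cf8e8)) (.nd (.lf 0x2691075) (.lf 0x212806a))) (.nd (.nd (.lf 0x0) (.lf 0x97e5be)) (.nd (.lf 0x1c72ce) (.lf 0x285e54b)))))) (.nd (.nd (.nd (.nd (.nd (.lf 0x0) (.lf 0x23592a5)) (.nd (.lf 0x0) (.lf 0x2326264))) (.nd (.nd (.lf 0x0) (.lf 0x0))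 (.nd (.lf 0xb371ed) (.lf 0xa1f20c)))) (.nd (.nd (.nd (.lf 0x0) (.lf 0x7ce8a0)) (.nd (.lf 0x0) (.lf 0x2f316c5))) (.nd (.nd (.lf 0x0) (.lf 0x0)) (.nd (.lf 0x0) (.lf 0x279f5f5))))) (.nd (.nd (.nd (.nd (.lf 0x0) (.lf 0x2e94792)) (.nd (.lf 0x0) (.lf 0x263377e))) (.nd (.nd (.lf 0x226acc9) (.lf 0x2ed1623)) (.nd (.lf 0x0) (.lf 0x2a896c6)))) (.nd (.nd (.nd (.lf 0x0) (.lf 0x6fef97)) (.nd (.lf 0x24e45bb) (.lf 0x0))) (.nd (.nd (.lf 0x0) (.lf 0x217e02)) (.nd (.lf 0x2a24fa3) (.lf 0)))))))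
def witT0_nbbbbaa : Tr := (.nd (.nd (.nd (.nd (.nd (.nd (.lf 0x0) (.lf 0x30cbbd3)) (.nd (.lf 0x0) (.lf 0x2e72175))) (.nd (.nd (.lf 0x0) (.lf 0x0)) (.nd (.lf 0x0) (.lf 0x0)))) (.nd (.nd (.nd (.lf 0x0) (.lf 0x937136)) (.nd (.lf 0x0) (.lf 0x17f745))) (.nd (.nd (.lf 0x0) (.lf 0x105b5a7)) (.nd (.lf 0x0) (.lf 0x22f1e5))))) (.nd (.nd (.nd (.nd (.lf 0x0) (.lf 0x300497d)) (.nd (.lf 0x0) (.lf 0xef1550))) (.nd (.nd (.lf 0x0) (.lf 0xce083c)) (.nd (.lf 0xc6b0b5) (.lf 0x57059c)))) (.nd (.nd (.nd (.lf 0x0) (.lf 0x7120c8)) (.nd (.lf 0xe5ed00) (.lf 0xd11934))) (.nd (.nd (.lf 0x25410ed) (.lf 0x1071ae6)) (.nd (.lf 0x0) (.lf 0x774d7a)))))) (.nd (.nd (.nd (.nd (.nd (.lf 0x0) (.lf 0x0)) (.nd (.lf 0x0) (.lf 0x3914c1))) (.nd (.nd (.lf 0x0) (.lf 0xe1b6a7))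 (.nd (.lf 0x0) (.lf 0x0)))) (.nd (.nd (.nd (.lf 0x0) (.lf 0x0)) (.nd (.lf 0x2e6cb56) (.lf 0x2e85d94))) (.nd (.nd (.lf 0x0) (.lf 0x2f492d3)) (.nd (.lf 0x28d72d) (.lf 0x219e710))))) (.nd (.nd (.nd (.nd (.lf 0x0) (.lf 0x0)) (.nd (.lf 0x0) (.lf 0x7b6bb5))) (.nd (.nd (.lf 0x0) (.lf 0x31ddb70)) (.nd (.lf 0x0) (.lf 0xf8a04a)))) (.nd (.nd (.nd (.lf 0x0) (.lf 0x21a2cda)) (.nd (.lf 0x4db45d) (.lf 0x662c6a))) (.nd (.nd (.lf 0x0) (.lf 0x0)) (.nd (.lf 0x2ad6414) (.lf 0x7cde6e)))))))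
def witT0_nbbbbab : Tr := (.nd (.nd (.nd (.nd (.nd (.nd (.lf 0x0) (.lf 0x0)) (.nd (.lf 0x0) (.lf 0x0))) (.nd (.nd (.lf 0x0) (.lf 0x0)) (.nd (.lf 0x75500b) (.lf 0x2c8f36f)))) (.nd (.nd (.nd (.lf 0x0) (.lf 0x0)) (.nd (.lf 0x0) (.lf 0x0))) (.nd (.nd (.lf 0x0) (.lf 0x0)) (.nd (.lf 0xa6b564) (.lf 0x1181e3d))))) (.nd (.nd (.nd (.nd (.lf 0x0) (.lf 0x287cfe7)) (.nd (.lf 0x0) (.lf 0x345c0d))) (.nd (.nd (.lf 0x0) (.lf 0x2a0501c)) (.nd (.lf 0x2d3357a) (.lf 0x2af0f2e)))) (.nd (.nd (.nd (.lf 0x0) (.lf 0x7a0766)) (.nd (.lf 0x0) (.lf 0x28d3c7a))) (.nd (.nd (.lf 0x0) (.lf 0x0)) (.nd (.lf 0x2dfd13e) (.lf 0x10fa304)))))) (.nd (.nd (.nd (.nd (.nd (.lf 0x0) (.lf 0x7904f6)) (.nd (.lf 0x0) (.lf 0xdd14d7))) (.nd (.nd (.lf 0x0) (.lf 0x21dfd99)) (.nd (.lf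 0x2896907) (.lf 0x2a0c283)))) (.nd (.nd (.nd (.lf 0x0) (.lf 0x0)) (.nd (.lf 0x0) (.lf 0x2ad58a9))) (.nd (.nd (.lf 0x0) (.lf 0x10f5843)) (.nd (.lf 0x0) (.lf 0x308611f))))) (.nd (.nd (.nd (.nd (.lf 0x2496dc2) (.lf 0x306cef8)) (.nd (.lf 0x0) (.lf 0x106e179))) (.nd (.nd (.lf 0x0) (.lf 0x28f220)) (.nd (.lf 0x0) (.lf 0x69192c)))) (.nd (.nd (.nd (.lf 0x2b68e2a) (.lf 0x0)) (.nd (.lf 0x56c3e7) (.lf 0xd40bc5))) (.nd (.nd (.lf 0x0) (.lf 0x681a6)) (.nd (.lf 0x278bb68) (.lf 0)))))))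
def witT0_nbbbbba : Tr := (.nd (.nd (.nd (.nd (.nd (.nd (.lf 0x0) (.lf 0x0)) (.nd (.lf 0x0) (.lf 0x705da4))) (.nd (.nd (.lf 0x0) (.lf 0x0)) (.nd (.lf 0x0) (.lf 0xaf1417)))) (.nd (.nd (.nd (.lf 0x0) (.lf 0x0)) (.nd (.lf 0xcb8fb0) (.lf 0x28fa2))) (.nd (.nd (.lf 0x0) (.lf 0x6091e0)) (.nd (.lf 0x8d2db8) (.lf 0x2e2935b))))) (.nd (.nd (.nd (.nd (.lf 0x0) (.lf 0x0)) (.nd (.lf 0x2764d5e) (.lf 0x29ff3f9))) (.nd (.nd (.lf 0x2d3f00e) (.lf 0x64e6f2)) (.nd (.lf 0x294ca46) (.lf 0x1cc989)))) (.nd (.nd (.nd (.lf 0x0) (.lf 0x0)) (.nd (.lf 0x27dc9c7) (.lf 0xc6f341))) (.nd (.nd (.lf 0x0) (.lf 0x301ddb1)) (.nd (.lf 0x255f8a5) (.lf 0xb5390)))))) (.nd (.nd (.nd (.nd (.nd (.lf 0x0) (.lf 0x0)) (.nd (.lf 0x0) (.lf 0x25c0177))) (.nd (.nd (.lf 0x0) (.lf 0x27362af))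 (.nd (.lf 0x22b2ce9) (.lf 0x2328122)))) (.nd (.nd (.nd (.lf 0x0) (.lf 0x38228f)) (.nd (.lf 0x2ed53dd) (.lf 0x28f8cdd))) (.nd (.nd (.lf 0x0) (.lf 0x2c9738b)) (.nd (.lf 0xc49cb8) (.lf 0x28ae061))))) (.nd (.nd (.nd (.nd (.lf 0x0) (.lf 0x0)) (.nd (.lf 0x0) (.lf 0x2513263))) (.nd (.nd (.lf 0x0) (.lf 0x0)) (.nd (.lf 0x0) (.lf 0x2d9d37)))) (.nd (.nd (.nd (.lf 0x0) (.lf 0x0)) (.nd (.lf 0x217ce27) (.lf 0x214125c))) (.nd (.nd (.lf 0x225f990) (.lf 0x31aca89)) (.nd (.lf 0x0) (.lf 0)))))))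
def witT0_nbbbbbb : Tr := (.nd (.nd (.nd (.nd (.nd (.nd (.lf 0x0) (.lf 0x2d89919)) (.nd (.lf 0x0) (.lf 0x0))) (.nd (.nd (.lf 0x3037af8) (.lf 0x0)) (.nd (.lf 0x2de2ddf) (.lf 0xc2cab2)))) (.nd (.nd (.nd (.lf 0x0) (.lf 0x221e1a7)) (.nd (.lf 0x2759bf9) (.lf 0x2a56f0b))) (.nd (.nd (.lf 0x0) (.lf 0x0)) (.nd (.lf 0x0) (.lf 0x293c42))))) (.nd (.nd (.nd (.nd (.lf 0x0) (.lf 0x25dddc2)) (.nd (.lf 0x0) (.lf 0x3d6a7a))) (.nd (.nd (.lf 0xda9e3e) (.lf 0x2af5d6d)) (.nd (.lf 0x0) (.lf 0x0)))) (.nd (.nd (.nd (.lf 0x0) (.lf 0xb9d5c4)) (.nd (.lf 0x0) (.lf 0x34896a))) (.nd (.nd (.lf 0x0) (.lf 0xf2ce46)) (.nd (.lf 0x29647a4) (.lf 0x231e681)))))) (.nd (.nd (.nd (.nd (.nd (.lf 0x0) (.lf 0x23f26c7)) (.nd (.lf 0x2cfc5aa) (.lf 0xaf0e19))) (.nd (.nd (.lf 0x0)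 (.lf 0x10d5785)) (.nd (.lf 0x2eadd1) (.lf 0x7d7182)))) (.nd (.nd (.nd (.lf 0x0) (.lf 0x21c6a38)) (.nd (.lf 0x0) (.lf 0x267cb7f))) (.nd (.nd (.lf 0x0) (.lf 0x0)) (.nd (.lf 0x1ba1f8) (.lf 0x2495bd3))))) (.nd (.nd (.nd (.nd (.lf 0x0) (.lf 0x23ade2)) (.nd (.lf 0x2a1593d) (.lf 0x2f1c5aa))) (.nd (.nd (.lf 0x0) (.lf 0x0)) (.nd (.lf 0x0) (.lf 0x0)))) (.nd (.nd (.nd (.lf 0x0) (.lf 0x0)) (.nd (.lf 0x0) (.lf 0x25b7208))) (.nd (.nd (.lf 0xde4eb2) (.lf 0x26fb8b3)) (.nd (.lf 0x0) (.lf 0)))))))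
def witT0 : Tr := (.nd (.nd (.nd (.nd (.nd (.nd witT0_naaaaaa witT0_naaaaab) (.nd witT0_naaaaba witT0_naaaabb)) (.nd (.nd witT0_naaabaa witT0_naaabab) (.nd witT0_naaabba witT0_naaabbb))) (.nd (.nd (.nd witT0_naabaaa witT0_naabaab) (.nd witT0_naababa witT0_naababb)) (.nd (.nd witT0_naabbaa witT0_naabbab) (.nd witT0_naabbba witT0_naabbbb)))) (.nd (.nd (.nd (.nd witT0_nabaaaa witT0_nabaaab) (.nd witT0_nabaaba witT0_nabaabb)) (.nd (.nd witT0_nababaa witT0_nababab) (.nd witT0_nababba witT0_nababbb))) (.nd (.nd (.nd witT0_nabbaaa witT0_nabbaab) (.nd witT0_nabbaba witT0_nabbabb)) (.nd (.nd witT0_nabbbaa witT0_nabbbab) (.nd witT0_nabbbba witT0_nabbbbb))))) (.nd (.nd (.nd (.nd (.nd witT0_nbaaaaa witT0_nbaaaab) (.nd witT0_nbaaaba witT0_nbaaabb))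 (.nd (.nd witT0_nbaabaa witT0_nbaabab) (.nd witT0_nbaabba witT0_nbaabbb))) (.nd (.nd (.nd witT0_nbabaaa witT0_nbabaab) (.nd witT0_nbababa witT0_nbababb)) (.nd (.nd witT0_nbabbaa witT0_nbabbab) (.nd witT0_nbabbba witT0_nbabbbb)))) (.nd (.nd (.nd (.nd witT0_nbbaaaa witT0_nbbaaab) (.nd witT0_nbbaaba witT0_nbbaabb)) (.nd (.nd witT0_nbbabaa witT0_nbbabab) (.nd witT0_nbbabba witT0_nbbabbb))) (.nd (.nd (.nd witT0_nbbbaaa witT0_nbbbaab) (.nd witT0_nbbbaba witT0_nbbbabb)) (.nd (.nd witT0_nbbbbaa witT0_nbbbbab) (.nd witT0_nbbbbba witT0_nbbbbbb))))))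
def tabT1_naaaaaa : Tr := (.nd (.nd (.nd (.nd (.nd (.nd (.lf 0x2) (.lf 0x453)) (.nd (.lf 0x70e) (.lf 0xa8c))) (.nd (.nd (.lf 0x3cd) (.lf 0x9b0)) (.nd (.lf 0x9a1) (.lf 0xf93)))) (.nd (.nd (.nd (.lf 0x17a) (.lf 0x5ac)) (.nd (.lf 0x87b) (.lf 0xf55))) (.nd (.nd (.lf 0x578) (.lf 0xda0)) (.nd (.lf 0x145) (.lf 0xfce))))) (.nd (.nd (.nd (.nd (.lf 0x101) (.lf 0x922)) (.nd (.lf 0x429) (.lf 0xb95))) (.nd (.nd (.lf 0x49f) (.lf 0xe1a)) (.nd (.lf 0xa56) (.lf 0x1f4)))) (.nd (.nd (.nd (.lf 0x2e9) (.lf 0x5e5)) (.nd (.lf 0x678) (.lf 0xf81))) (.nd (.nd (.lf 0x647) (.lf 0x75d)) (.nd (.lf 0xb7c) (.lf 0x945)))))) (.nd (.nd (.nd (.nd (.nd (.lf 0x82) (.lf 0xc3a)) (.nd (.lf 0x769) (.lf 0xf10))) (.nd (.nd (.lf 0x436) (.lf 0xdf0)) (.nd (.lf 0x80c) (.lf 0x644))))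 (.nd (.nd (.nd (.lf 0x273) (.lf 0xbfe)) (.nd (.lf 0x8cd) (.lf 0x11b))) (.nd (.nd (.lf 0x5e0) (.lf 0xcc)) (.nd (.lf 0xb37) (.lf 0x711))))) (.nd (.nd (.nd (.nd (.lf 0x17b) (.lf 0xcaa)) (.nd (.lf 0x820) (.lf 0xc40))) (.nd (.nd (.lf 0x50e) (.lf 0xe44)) (.nd (.lf 0xa9f) (.lf 0xf1c)))) (.nd (.nd (.nd (.lf 0x362) (.lf 0x9ae)) (.nd (.lf 0x974) (.lf 0x4cf))) (.nd (.nd (.lf 0x6a8) (.lf 0xed1)) (.nd (.lf 0xbbd) (.lf 0x129)))))))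
def tabT1_naaaaab : Tr := (.nd (.nd (.nd (.nd (.nd (.nd (.lf 0x42) (.lf 0xc1c)) (.nd (.lf 0x737) (.lf 0xde))) (.nd (.nd (.lf 0x407) (.lf 0x858)) (.nd (.lf 0x554) (.lf 0x664)))) (.nd (.nd (.nd (.lf 0x235) (.lf 0xa78)) (.nd (.lf 0x8a9) (.lf 0x3da))) (.nd (.nd (.lf 0x5aa) (.lf 0x8db)) (.nd (.lf 0xb12) (.lf 0xeae))))) (.nd (.nd (.nd (.nd (.lf 0x13e) (.lf 0xc8c)) (.nd (.lf 0x7f6) (.lf 0x26c))) (.nd (.nd (.lf 0x4d7) (.lf 0x5fd)) (.nd (.lf 0x13d) (.lf 0xfc4)))) (.nd (.nd (.nd (.lf 0x147) (.lf 0xa64)) (.nd (.lf 0x949) (.lf 0x550))) (.nd (.nd (.lf 0x268) (.lf 0x87f)) (.nd (.lf 0x868) (.lf 0xade)))))) (.nd (.nd (.nd (.nd (.nd (.lf 0xc1) (.lf 0xc55)) (.nd (.lf 0x796) (.lf 0x7d6))) (.nd (.nd (.lf 0x468) (.lf 0xd02)) (.nd (.lf 0x2a7) (.lf 0xf08))))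 (.nd (.nd (.nd (.lf 0x2ae) (.lf 0xd33)) (.nd (.lf 0x8fb) (.lf 0x891))) (.nd (.nd (.lf 0x213) (.lf 0xd37)) (.nd (.lf 0x21) (.lf 0x8f0))))) (.nd (.nd (.nd (.nd (.lf 0x1ba) (.lf 0xcc5)) (.nd (.lf 0x84d) (.lf 0xd46))) (.nd (.nd (.lf 0x541) (.lf 0x315)) (.nd (.lf 0xac6) (.lf 0xf3b)))) (.nd (.nd (.nd (.lf 0x39a) (.lf 0x46e)) (.nd (.lf 0x768) (.lf 0xefa))) (.nd (.nd (.lf 0x6dc) (.lf 0x9c0)) (.nd (.lf 0x49c) (.lf 0)))))))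
def tabT1_naaaaba : Tr := (.nd (.nd (.nd (.nd (.nd (.nd (.lf 0x22) (.lf 0xc0c)) (.nd (.lf 0x5f8) (.lf 0xef7))) (.nd (.nd (.lf 0x3e9) (.lf 0xb39)) (.nd (.lf 0x327) (.lf 0xfa6)))) (.nd (.nd (.nd (.lf 0x216) (.lf 0xceb)) (.nd (.lf 0x892) (.lf 0x6e7))) (.nd (.nd (.lf 0x590) (.lf 0xc60)) (.nd (.lf 0x3c5) (.lf 0x534))))) (.nd (.nd (.nd (.nd (.lf 0x120) (.lf 0xc7d)) (.nd (.lf 0x77e) (.lf 0xf2d))) (.nd (.nd (.lf 0x4bd) (.lf 0xc7b)) (.nd (.lf 0xa68) (.lf 0x378)))) (.nd (.nd (.nd (.lf 0x306) (.lf 0xca0)) (.nd (.lf 0x5f) (.lf 0x579))) (.nd (.nd (.lf 0x65f) (.lf 0xebe)) (.nd (.lf 0xb8c) (.lf 0xe36)))))) (.nd (.nd (.nd (.nd (.nd (.lf 0xa2) (.lf 0x9f1)) (.nd (.lf 0x32f) (.lf 0x8f2))) (.nd (.nd (.lf 0x450) (.lf 0x1f)) (.nd (.lf 0x59a) (.lf 0xcb0))))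 (.nd (.nd (.nd (.lf 0x28f) (.lf 0x9d6)) (.nd (.lf 0x8e4) (.lf 0xd41))) (.nd (.nd (.lf 0x17c) (.lf 0xe96)) (.nd (.lf 0x6fd) (.lf 0x59c))))) (.nd (.nd (.nd (.nd (.lf 0x19a) (.lf 0xcba)) (.nd (.lf 0x347) (.lf 0xd76))) (.nd (.nd (.lf 0x525) (.lf 0x201)) (.nd (.lf 0xab2) (.lf 0xf73)))) (.nd (.nd (.nd (.lf 0x37d) (.lf 0xd91)) (.nd (.lf 0x986) (.lf 0xc19))) (.nd (.nd (.lf 0x6c3) (.lf 0xed9)) (.nd (.lf 0xbd1) (.lf 0xb64)))))))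
def tabT1_naaaabb : Tr := (.nd (.nd (.nd (.nd (.nd (.nd (.lf 0x62) (.lf 0xc2d)) (.nd (.lf 0x4b8) (.lf 0xdba))) (.nd (.nd (.lf 0x41e) (.lf 0x8d3)) (.nd (.lf 0x493) (.lf 0xfb4)))) (.nd (.nd (.nd (.lf 0x253) (.lf 0xd0d)) (.nd (.lf 0x8bb) (.lf 0x651))) (.nd (.nd (.lf 0x5c4) (.lf 0x800)) (.nd (.lf 0x209) (.lf 0xb30))))) (.nd (.nd (.nd (.nd (.lf 0x15c) (.lf 0x4de)) (.nd (.lf 0x80a) (.lf 0xdb3))) (.nd (.nd (.lf 0x4f3) (.lf 0xd07)) (.nd (.lf 0xa8a) (.lf 0x68d)))) (.nd (.nd (.nd (.lf 0x344) (.lf 0xd01)) (.nd (.lf 0x95f) (.lf 0xf8b))) (.nd (.nd (.lf 0x690) (.lf 0xe68)) (.nd (.lf 0x89d) (.lf 0x5d5)))))) (.nd (.nd (.nd (.nd (.nd (.lf 0xe1) (.lf 0xc2c)) (.nd (.lf 0x7b1) (.lf 0xf22))) (.nd (.nd (.lf 0x483) (.lf 0xe10)) (.nd (.lf 0xa47) (.lf 0xb2d))))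 (.nd (.nd (.nd (.lf 0x2cb) (.lf 0xd44)) (.nd (.lf 0x912) (.lf 0xf7c))) (.nd (.nd (.lf 0x62d) (.lf 0xea8)) (.nd (.lf 0x9f7) (.lf 0xda7))))) (.nd (.nd (.nd (.nd (.lf 0x1d8) (.lf 0x993)) (.nd (.lf 0x865) (.lf 0x134))) (.nd (.nd (.lf 0x55e) (.lf 0xa46)) (.nd (.lf 0xadf) (.lf 0xc20)))) (.nd (.nd (.nd (.lf 0x3b5) (.lf 0xdad)) (.nd (.lf 0x9a7) (.lf 0x1e7))) (.nd (.nd (.lf 0x6f5) (.lf 0xd4f)) (.nd (.lf 0x6c4) (.lf 0)))))))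
def tabT1_naaabaa : Tr := (.nd (.nd (.nd (.nd (.nd (.nd (.lf 0x12) (.lf 0xc06)) (.nd (.lf 0x182) (.lf 0xa24))) (.nd (.nd (.lf 0x39f) (.lf 0xbd5)) (.nd (.lf 0x9c4) (.lf 0x86b)))) (.nd (.nd (.nd (.lf 0x206) (.lf 0x4bc)) (.nd (.lf 0x887) (.lf 0xb8b))) (.nd (.nd (.lf 0x583) (.lf 0xe6c)) (.nd (.lf 0xaf7) (.lf 0xe25))))) (.nd (.nd (.nd (.nd (.lf 0x110) (.lf 0xb49)) (.nd (.lf 0x76b) (.lf 0x871))) (.nd (.nd (.lf 0x4ad) (.lf 0xe1f)) (.nd (.lf 0x93f) (.lf 0x953)))) (.nd (.nd (.nd (.lf 0x2f7) (.lf 0x94f)) (.nd (.lf 0x92e) (.lf 0x1e5))) (.nd (.nd (.lf 0x652) (.lf 0xeb7)) (.nd (.lf 0xb84) (.lf 0xc82)))))) (.nd (.nd (.nd (.nd (.nd (.lf 0x92) (.lf 0xc41)) (.nd (.lf 0x774) (.lf 0x2fc))) (.nd (.nd (.lf 0x442) (.lf 0x349)) (.nd (.lf 0xa14) (.lf 0x232))))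 (.nd (.nd (.nd (.lf 0x282) (.lf 0x51d)) (.nd (.lf 0x8da) (.lf 0xcc2))) (.nd (.nd (.lf 0x5ee) (.lf 0x53c)) (.nd (.lf 0xb43) (.lf 0x8cf))))) (.nd (.nd (.nd (.nd (.lf 0x18b) (.lf 0x108)) (.nd (.lf 0x82b) (.lf 0xebd))) (.nd (.nd (.lf 0x51b) (.lf 0xb35)) (.nd (.lf 0x9a5) (.lf 0xf42)))) (.nd (.nd (.nd (.lf 0x370) (.lf 0x243)) (.nd (.lf 0x911) (.lf 0xf91))) (.nd (.nd (.lf 0x6b6) (.lf 0xed3)) (.nd (.lf 0xbc6) (.lf 0xdc4)))))))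
def tabT1_naaabab : Tr := (.nd (.nd (.nd (.nd (.nd (.nd (.lf 0x52) (.lf 0x9fa)) (.nd (.lf 0x743) (.lf 0xe2d))) (.nd (.nd (.lf 0x413) (.lf 0xdd9)) (.nd (.lf 0x174) (.lf 0x444)))) (.nd (.nd (.nd (.lf 0x244) (.lf 0xd03)) (.nd (.lf 0x8b0) (.lf 0xeb6))) (.nd (.nd (.lf 0x17) (.lf 0xe7f)) (.nd (.lf 0x45d) (.lf 0xce1))))) (.nd (.nd (.nd (.nd (.lf 0x14e) (.lf 0x10a)) (.nd (.lf 0x801) (.lf 0x364))) (.nd (.nd (.lf 0x4e6) (.lf 0x292)) (.nd (.lf 0xa7f) (.lf 0xf97)))) (.nd (.nd (.nd (.lf 0x334) (.lf 0xd74)) (.nd (.lf 0x955) (.lf 0x38b))) (.nd (.nd (.lf 0x53a) (.lf 0x0)) (.nd (.lf 0xb08) (.lf 0xe89)))))) (.nd (.nd (.nd (.nd (.nd (.lf 0xd1) (.lf 0xc5d)) (.nd (.lf 0x59) (.lf 0xeb2))) (.nd (.nd (.lf 0xf) (.lf 0xe09)) (.nd (.lf 0xa3f) (.lf 0xf0f))))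 (.nd (.nd (.nd (.lf 0x2bd) (.lf 0x254)) (.nd (.lf 0x867) (.lf 0x884))) (.nd (.nd (.lf 0x61f) (.lf 0x95)) (.nd (.lf 0xb61) (.lf 0xea5))))) (.nd (.nd (.nd (.nd (.lf 0x1ca) (.lf 0xcca)) (.nd (.lf 0x85a) (.lf 0xf4c))) (.nd (.nd (.lf 0x54f) (.lf 0xb19)) (.nd (.lf 0xad0) (.lf 0x822)))) (.nd (.nd (.nd (.lf 0x3a8) (.lf 0xcec)) (.nd (.lf 0x9f) (.lf 0xe48))) (.nd (.nd (.lf 0x6e8) (.lf 0xe18)) (.nd (.lf 0xbd8) (.lf 0)))))))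
def tabT1_naaabba : Tr := (.nd (.nd (.nd (.nd (.nd (.nd (.lf 0x32) (.lf 0x22c)) (.nd (.lf 0x72d) (.lf 0x2b3))) (.nd (.nd (.lf 0x3f9) (.lf 0x23c)) (.nd (.lf 0x4b0) (.lf 0x3ff)))) (.nd (.nd (.nd (.lf 0xf0) (.lf 0xcf4)) (.nd (.lf 0x8a0) (.lf 0x28b))) (.nd (.nd (.lf 0x59d) (.lf 0x60c)) (.nd (.lf 0x7) (.lf 0xb8a))))) (.nd (.nd (.nd (.nd (.lf 0x130) (.lf 0x7f)) (.nd (.lf 0x513) (.lf 0x1b))) (.nd (.nd (.lf 0x16a) (.lf 0xc97)) (.nd (.lf 0xa70) (.lf 0x744)))) (.nd (.nd (.nd (.lf 0x316) (.lf 0xd64)) (.nd (.lf 0x8b6) (.lf 0xa28))) (.nd (.nd (.lf 0x66c) (.lf 0xc04)) (.nd (.lf 0xb96) (.lf 0x488)))))) (.nd (.nd (.nd (.nd (.nd (.lf 0xb1) (.lf 0x9e3)) (.nd (.lf 0x789) (.lf 0x5be))) (.nd (.nd (.lf 0x45b) (.lf 0xdff)) (.nd (.lf 0xa2b) (.lf 0xc66))))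 (.nd (.nd (.nd (.lf 0x29e) (.lf 0xd2b)) (.nd (.lf 0x8f1) (.lf 0x850))) (.nd (.nd (.lf 0x606) (.lf 0xe9d)) (.nd (.lf 0xb52) (.lf 0x621))))) (.nd (.nd (.nd (.nd (.lf 0x1aa) (.lf 0xae5)) (.nd (.lf 0x841) (.lf 0x516))) (.nd (.nd (.lf 0x533) (.lf 0xc8e)) (.nd (.lf 0xabc) (.lf 0xfca)))) (.nd (.nd (.nd (.lf 0x38c) (.lf 0x31f)) (.nd (.lf 0x12b) (.lf 0x577))) (.nd (.nd (.lf 0x6d1) (.lf 0xede)) (.nd (.lf 0x150) (.lf 0x861)))))))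
def tabT1_naaabbb : Tr := (.nd (.nd (.nd (.nd (.nd (.nd (.lf 0x72) (.lf 0xa2f)) (.nd (.lf 0x472) (.lf 0xd96))) (.nd (.nd (.lf 0x42a) (.lf 0xde8)) (.nd (.lf 0xc2) (.lf 0x6ab)))) (.nd (.nd (.nd (.lf 0x263) (.lf 0x825)) (.nd (.lf 0x8c4) (.lf 0xb20))) (.nd (.nd (.lf 0x25a) (.lf 0xca6)) (.nd (.lf 0xb2c) (.lf 0x333))))) (.nd (.nd (.nd (.nd (.lf 0x16b) (.lf 0xca1)) (.nd (.lf 0x815) (.lf 0xc53))) (.nd (.nd (.lf 0x501) (.lf 0x782)) (.nd (.lf 0xa92) (.lf 0xecf)))) (.nd (.nd (.nd (.lf 0x353) (.lf 0x69)) (.nd (.lf 0x968) (.lf 0x8bf))) (.nd (.nd (.lf 0x69d) (.lf 0x412)) (.nd (.lf 0x223) (.lf 0xfcd)))))) (.nd (.nd (.nd (.nd (.nd (.lf 0xf1) (.lf 0x5d0)) (.nd (.lf 0x9d) (.lf 0x6ff))) (.nd (.nd (.lf 0x492) (.lf 0xab)) (.nd (.lf 0x51) (.lf 0xb4b))))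 (.nd (.nd (.nd (.lf 0x2da) (.lf 0xd4e)) (.nd (.lf 0x4c4) (.lf 0xebf))) (.nd (.nd (.lf 0x639) (.lf 0x127)) (.nd (.lf 0xb71) (.lf 0xe4c))))) (.nd (.nd (.nd (.nd (.lf 0x1e8) (.lf 0x5c7)) (.nd (.lf 0x870) (.lf 0xf52))) (.nd (.nd (.lf 0x56b) (.lf 0x918)) (.nd (.lf 0x417) (.lf 0xf02)))) (.nd (.nd (.nd (.lf 0x3c0) (.lf 0xdb5)) (.nd (.lf 0x9b1) (.lf 0xa82))) (.nd (.nd (.lf 0x704) (.lf 0xc91)) (.nd (.lf 0x52e) (.lf 0)))))))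
def tabT1_naabaaa : Tr := (.nd (.nd (.nd (.nd (.nd (.nd (.lf 0xa) (.lf 0xc01)) (.nd (.lf 0x106) (.lf 0xb75))) (.nd (.nd (.lf 0x3d4) (.lf 0xdc0)) (.nd (.lf 0x9bf) (.lf 0x96d)))) (.nd (.nd (.nd (.lf 0x1fe) (.lf 0xcde)) (.nd (.lf 0x880) (.lf 0x168))) (.nd (.nd (.lf 0x286) (.lf 0xba0)) (.nd (.lf 0x2b9) (.lf 0xfc3))))) (.nd (.nd (.nd (.nd (.lf 0x109) (.lf 0xc72)) (.nd (.lf 0x7ce) (.lf 0xe8e))) (.nd (.nd (.lf 0x4a6) (.lf 0xa02)) (.nd (.lf 0xa5b) (.lf 0x6bb)))) (.nd (.nd (.nd (.lf 0x2f0) (.lf 0xd57)) (.nd (.lf 0x2ff) (.lf 0x1b1))) (.nd (.nd (.lf 0x4cd) (.lf 0xeb4)) (.nd (.lf 0x350) (.lf 0xa09)))))) (.nd (.nd (.nd (.nd (.nd (.lf 0x8a) (.lf 0xc3c)) (.nd (.lf 0x2f) (.lf 0xc3e))) (.nd (.nd (.lf 0x43d) (.lf 0xdf1)) (.nd (.lf 0xa0e) (.lf 0xd78))))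 (.nd (.nd (.nd (.lf 0x27b) (.lf 0xb8d)) (.nd (.lf 0xb4) (.lf 0x440))) (.nd (.nd (.lf 0x5e6) (.lf 0xe8f)) (.nd (.lf 0x807) (.lf 0x100))))) (.nd (.nd (.nd (.nd (.lf 0x183) (.lf 0xb06)) (.nd (.lf 0x826) (.lf 0xeaf))) (.nd (.nd (.lf 0x515) (.lf 0x611)) (.nd (.lf 0xaa4) (.lf 0xb91)))) (.nd (.nd (.nd (.lf 0x369) (.lf 0xd89)) (.nd (.lf 0x7f2) (.lf 0xf82))) (.nd (.nd (.lf 0x6b0) (.lf 0x29d)) (.nd (.lf 0x8e8) (.lf 0x113)))))))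
def tabT1_naabaab : Tr := (.nd (.nd (.nd (.nd (.nd (.nd (.lf 0x4a) (.lf 0x5f9)) (.nd (.lf 0x73d) (.lf 0xefe))) (.nd (.nd (.lf 0x40d) (.lf 0x3f8)) (.nd (.lf 0x9e8) (.lf 0x217)))) (.nd (.nd (.nd (.lf 0x23d) (.lf 0x2e8)) (.nd (.lf 0x8ac) (.lf 0xf63))) (.nd (.nd (.lf 0x2c8) (.lf 0xe7d)) (.nd (.lf 0xb17) (.lf 0x8e1))))) (.nd (.nd (.nd (.nd (.lf 0x146) (.lf 0x1ab)) (.nd (.lf 0x7fb) (.lf 0xcf9))) (.nd (.nd (.lf 0x4df) (.lf 0xe31)) (.nd (.lf 0x9fe) (.lf 0x9d9)))) (.nd (.nd (.nd (.lf 0x32c) (.lf 0xd70)) (.nd (.lf 0x90d) (.lf 0xd9f))) (.nd (.nd (.lf 0x54d) (.lf 0xe6e)) (.nd (.lf 0xba4) (.lf 0xdcd)))))) (.nd (.nd (.nd (.nd (.nd (.lf 0xc9) (.lf 0x67d)) (.nd (.lf 0x79c) (.lf 0xf1b))) (.nd (.nd (.lf 0x46f) (.lf 0x42e)) (.nd (.lf 0x2d6) (.lf 0x198))))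 (.nd (.nd (.nd (.lf 0x2b6) (.lf 0xd36)) (.nd (.lf 0x900) (.lf 0xf0e))) (.nd (.nd (.lf 0x619) (.lf 0xea1)) (.nd (.lf 0xb5c) (.lf 0xe6d))))) (.nd (.nd (.nd (.nd (.lf 0x1c2) (.lf 0xcc7)) (.nd (.lf 0x854) (.lf 0x3ca))) (.nd (.nd (.lf 0x548) (.lf 0xdd3)) (.nd (.lf 0xacb) (.lf 0xc1b)))) (.nd (.nd (.nd (.lf 0x3a0) (.lf 0xb1c)) (.nd (.lf 0x99c) (.lf 0xf6a))) (.nd (.nd (.lf 0x3bb) (.lf 0xc22)) (.nd (.lf 0x2ab) (.lf 0)))))))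
def tabT1_naababa : Tr := (.nd (.nd (.nd (.nd (.nd (.nd (.lf 0x2a) (.lf 0xc0f)) (.nd (.lf 0x728) (.lf 0xbe1))) (.nd (.nd (.lf 0x3f1) (.lf 0x2e4)) (.nd (.lf 0x888) (.lf 0xfa8)))) (.nd (.nd (.nd (.lf 0x21e) (.lf 0xcf1)) (.nd (.lf 0x899) (.lf 0xb4c))) (.nd (.nd (.lf 0x596) (.lf 0xe74)) (.nd (.lf 0xb05) (.lf 0xf7a))))) (.nd (.nd (.nd (.nd (.lf 0x128) (.lf 0xc81)) (.nd (.lf 0x7e4) (.lf 0xd90))) (.nd (.nd (.lf 0x4c3) (.lf 0x22a)) (.nd (.lf 0xa6b) (.lf 0xd84)))) (.nd (.nd (.nd (.lf 0x30e) (.lf 0xd5f)) (.nd (.lf 0x93c) (.lf 0xf3f))) (.nd (.nd (.lf 0x665) (.lf 0xc90)) (.nd (.lf 0xb90) (.lf 0x92f)))))) (.nd (.nd (.nd (.nd (.nd (.lf 0xaa) (.lf 0x96b)) (.nd (.lf 0x1dd) (.lf 0xdd4))) (.nd (.nd (.lf 0x456) (.lf 0x3f0)) (.nd (.lf 0xa25) (.lf 0xc79))))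 (.nd (.nd (.nd (.lf 0x297) (.lf 0xd13)) (.nd (.lf 0x8eb) (.lf 0xf74))) (.nd (.nd (.lf 0x600) (.lf 0xd0e)) (.nd (.lf 0x564) (.lf 0xf6f))))) (.nd (.nd (.nd (.nd (.lf 0x1a2) (.lf 0x66d)) (.nd (.lf 0x83d) (.lf 0x89))) (.nd (.nd (.lf 0x52d) (.lf 0xa57)) (.nd (.lf 0xab6) (.lf 0x2a3)))) (.nd (.nd (.nd (.lf 0x384) (.lf 0xd94)) (.nd (.lf 0x98b) (.lf 0x331))) (.nd (.nd (.lf 0x6cb) (.lf 0xedb)) (.nd (.lf 0x838) (.lf 0xbfd)))))))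
def tabT1_naababb : Tr := (.nd (.nd (.nd (.nd (.nd (.nd (.lf 0x6a) (.lf 0xc31)) (.nd (.lf 0x757) (.lf 0x8b9))) (.nd (.nd (.lf 0x24e) (.lf 0xde5)) (.nd (.lf 0x1cc) (.lf 0x72e)))) (.nd (.nd (.nd (.lf 0x25b) (.lf 0xd11)) (.nd (.lf 0x8c0) (.lf 0xf6b))) (.nd (.nd (.lf 0x5ca) (.lf 0xe6b)) (.nd (.lf 0xb28) (.lf 0xa4b))))) (.nd (.nd (.nd (.nd (.lf 0x164) (.lf 0xc9d)) (.nd (.lf 0x394) (.lf 0xf3c))) (.nd (.nd (.lf 0x4fa) (.lf 0x8ed)) (.nd (.lf 0xa8d) (.lf 0x141)))) (.nd (.nd (.nd (.lf 0x34c) (.lf 0x88c)) (.nd (.lf 0x963) (.lf 0xf00))) (.nd (.nd (.lf 0x698) (.lf 0xa8e)) (.nd (.lf 0xb6b) (.lf 0xf75)))))) (.nd (.nd (.nd (.nd (.nd (.lf 0xe9) (.lf 0xc68)) (.nd (.lf 0x7b9) (.lf 0xf24))) (.nd (.nd (.lf 0x48b) (.lf 0xb9a)) (.nd (.lf 0xb) (.lf 0x6af))))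 (.nd (.nd (.nd (.lf 0x2d3) (.lf 0xd49)) (.nd (.lf 0x917) (.lf 0x9d1))) (.nd (.nd (.lf 0x632) (.lf 0xc57)) (.nd (.lf 0xb6d) (.lf 0xf47))))) (.nd (.nd (.nd (.nd (.lf 0x1e0) (.lf 0x7fd)) (.nd (.lf 0x869) (.lf 0xf19))) (.nd (.nd (.lf 0x565) (.lf 0xe63)) (.nd (.lf 0x211) (.lf 0x28d)))) (.nd (.nd (.nd (.lf 0x3ba) (.lf 0x480)) (.nd (.lf 0x9ac) (.lf 0xaf9))) (.nd (.nd (.lf 0x6fc) (.lf 0xeeb)) (.nd (.lf 0xbf3) (.lf 0)))))))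
def tabT1_naabbaa : Tr := (.nd (.nd (.nd (.nd (.nd (.nd (.lf 0x1a) (.lf 0xc08)) (.nd (.lf 0x71c) (.lf 0xef6))) (.nd (.nd (.lf 0x3e1) (.lf 0x8d)) (.nd (.lf 0x9cb) (.lf 0x7dd)))) (.nd (.nd (.nd (.lf 0x20e) (.lf 0xce7)) (.nd (.lf 0x88d) (.lf 0xc96))) (.nd (.nd (.lf 0x58a) (.lf 0x8b1)) (.nd (.lf 0xafe) (.lf 0xfd0))))) (.nd (.nd (.nd (.nd (.lf 0x118) (.lf 0xc7a)) (.nd (.lf 0x234) (.lf 0x608))) (.nd (.nd (.lf 0x4b5) (.lf 0xc24)) (.nd (.lf 0xa63) (.lf 0xf8a)))) (.nd (.nd (.nd (.lf 0x2fe) (.lf 0xd5c)) (.nd (.lf 0x70f) (.lf 0xef2))) (.nd (.nd (.lf 0x8f) (.lf 0x4cb)) (.nd (.lf 0xb87) (.lf 0x7ea)))))) (.nd (.nd (.nd (.nd (.nd (.lf 0x9a) (.lf 0xbe)) (.nd (.lf 0x778) (.lf 0xf16))) (.nd (.nd (.lf 0x1d2) (.lf 0x736)) (.nd (.lf 0xa1a) (.lf 0xe3b))))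 (.nd (.nd (.nd (.lf 0x288) (.lf 0xb16)) (.nd (.lf 0x8df) (.lf 0xf71))) (.nd (.nd (.lf 0x5f5) (.lf 0xe94)) (.nd (.lf 0x895) (.lf 0xfa5))))) (.nd (.nd (.nd (.nd (.lf 0x193) (.lf 0xcb4)) (.nd (.lf 0x832) (.lf 0xa9e))) (.nd (.nd (.lf 0x4b) (.lf 0xe4f)) (.nd (.lf 0x739) (.lf 0xd24)))) (.nd (.nd (.nd (.lf 0x377) (.lf 0xa00)) (.nd (.lf 0x983) (.lf 0xf94))) (.nd (.nd (.lf 0x281) (.lf 0x203)) (.nd (.lf 0xbcd) (.lf 0x625)))))))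
def tabT1_naabbab : Tr := (.nd (.nd (.nd (.nd (.nd (.nd (.lf 0x5a) (.lf 0xc26)) (.nd (.lf 0x749) (.lf 0x9ed))) (.nd (.nd (.lf 0x418) (.lf 0x33)) (.nd (.lf 0x9f2) (.lf 0xfb2)))) (.nd (.nd (.nd (.lf 0x24b) (.lf 0x455)) (.nd (.lf 0x8b5) (.lf 0x792))) (.nd (.nd (.lf 0x5bd) (.lf 0xc51)) (.nd (.lf 0x805) (.lf 0x11d))))) (.nd (.nd (.nd (.nd (.lf 0x155) (.lf 0xa5c)) (.nd (.lf 0x806) (.lf 0xcf3))) (.nd (.nd (.lf 0x408) (.lf 0xe37)) (.nd (.lf 0xa84) (.lf 0xdde)))) (.nd (.nd (.nd (.lf 0x33c) (.lf 0x5bc)) (.nd (.lf 0x95b) (.lf 0xcfc))) (.nd (.nd (.lf 0x689) (.lf 0xd)) (.nd (.lf 0xbaa) (.lf 0xac3)))))) (.nd (.nd (.nd (.nd (.nd (.lf 0xd9) (.lf 0xc64)) (.nd (.lf 0x7ab) (.lf 0x5))) (.nd (.nd (.lf 0x47b) (.lf 0xe0c)) (.nd (.lf 0x1fd) (.lf 0x7c7))))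 (.nd (.nd (.nd (.lf 0x2c4) (.lf 0xb3e)) (.nd (.lf 0x90b) (.lf 0xae9))) (.nd (.nd (.lf 0x166) (.lf 0xea6)) (.nd (.lf 0x49e) (.lf 0xcfb))))) (.nd (.nd (.nd (.nd (.lf 0x1d1) (.lf 0xccd)) (.nd (.lf 0x85f) (.lf 0xbdc))) (.nd (.nd (.lf 0x557) (.lf 0x8fc)) (.nd (.lf 0xad8) (.lf 0xe29)))) (.nd (.nd (.nd (.lf 0x3ae) (.lf 0x11f)) (.nd (.lf 0x5d1) (.lf 0xd7c))) (.nd (.nd (.lf 0x6ee) (.lf 0xcab)) (.nd (.lf 0xbed) (.lf 0)))))))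
def tabT1_naabbba : Tr := (.nd (.nd (.nd (.nd (.nd (.nd (.lf 0x3a) (.lf 0xc16)) (.nd (.lf 0x731) (.lf 0xde0))) (.nd (.nd (.lf 0x400) (.lf 0xa4d)) (.nd (.lf 0x954) (.lf 0x575)))) (.nd (.nd (.nd (.lf 0x22d) (.lf 0xbc9)) (.nd (.lf 0x8a6) (.lf 0xf61))) (.nd (.nd (.lf 0x5a5) (.lf 0x68f)) (.nd (.lf 0xb0d) (.lf 0xd3c))))) (.nd (.nd (.nd (.nd (.lf 0x136) (.lf 0xc89)) (.nd (.lf 0x7f1) (.lf 0x65e))) (.nd (.nd (.lf 0x4d0) (.lf 0x55a)) (.nd (.lf 0x3a3) (.lf 0x135)))) (.nd (.nd (.nd (.lf 0x31e) (.lf 0xd69)) (.nd (.lf 0x924) (.lf 0xf88))) (.nd (.nd (.lf 0x673) (.lf 0xd7d)) (.nd (.lf 0xb9b) (.lf 0x337)))))) (.nd (.nd (.nd (.nd (.nd (.lf 0xb9) (.lf 0x3f6)) (.nd (.lf 0x78f) (.lf 0xd04))) (.nd (.nd (.lf 0x462) (.lf 0x1a5)) (.nd (.lf 0xa30) (.lf 0xdc2))))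 (.nd (.nd (.nd (.lf 0x2a6) (.lf 0xd2e)) (.nd (.lf 0x8f8) (.lf 0xc92))) (.nd (.nd (.lf 0x4f5) (.lf 0xe9e)) (.nd (.lf 0xb55) (.lf 0x79b))))) (.nd (.nd (.nd (.nd (.lf 0x1b2) (.lf 0xadc)) (.nd (.lf 0x845) (.lf 0x5b6))) (.nd (.nd (.lf 0x539) (.lf 0x465)) (.nd (.lf 0xac2) (.lf 0xd87)))) (.nd (.nd (.nd (.lf 0x393) (.lf 0xcbd)) (.nd (.lf 0x996) (.lf 0x3f2))) (.nd (.nd (.lf 0x256) (.lf 0xbc3)) (.nd (.lf 0x387) (.lf 0)))))))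
def tabT1_naabbbb : Tr := (.nd (.nd (.nd (.nd (.nd (.nd (.lf 0x7a) (.lf 0x511)) (.nd (.lf 0x763) (.lf 0xf0d))) (.nd (.nd (.lf 0x431) (.lf 0xc15)) (.nd (.lf 0xa04) (.lf 0x2ce)))) (.nd (.nd (.nd (.lf 0x26b) (.lf 0x814)) (.nd (.lf 0x8c9) (.lf 0x7ed))) (.nd (.nd (.lf 0x5d8) (.lf 0xb6c)) (.nd (.lf 0x7c5) (.lf 0xc44))))) (.nd (.nd (.nd (.nd (.lf 0x173) (.lf 0xca5)) (.nd (.lf 0x29) (.lf 0x35a))) (.nd (.nd (.lf 0x509) (.lf 0xe42)) (.nd (.lf 0xa9a) (.lf 0x35f)))) (.nd (.nd (.nd (.lf 0x35b) (.lf 0x5d)) (.nd (.lf 0x96e) (.lf 0x89b))) (.nd (.nd (.lf 0x6a3) (.lf 0xa3e)) (.nd (.lf 0xbb9) (.lf 0x47)))))) (.nd (.nd (.nd (.nd (.nd (.lf 0xf9) (.lf 0x45c)) (.nd (.lf 0x7c4) (.lf 0x688))) (.nd (.nd (.lf 0x498) (.lf 0x8d4)) (.nd (.lf 0x886) (.lf 0x82c))))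 (.nd (.nd (.nd (.lf 0x2e1) (.lf 0xce2)) (.nd (.lf 0x920) (.lf 0x853))) (.nd (.nd (.lf 0x3db) (.lf 0xb68)) (.nd (.lf 0xb78) (.lf 0xc80))))) (.nd (.nd (.nd (.nd (.lf 0x131) (.lf 0x925)) (.nd (.lf 0x24c) (.lf 0xf53))) (.nd (.nd (.lf 0x40c) (.lf 0xc50)) (.nd (.lf 0x324) (.lf 0xf3d)))) (.nd (.nd (.nd (.lf 0x2a1) (.lf 0x385)) (.nd (.lf 0x7b6) (.lf 0x5ff))) (.nd (.nd (.lf 0x70a) (.lf 0x5a2)) (.nd (.lf 0x341) (.lf 0)))))))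
def tabT1_nabaaaa : Tr := (.nd (.nd (.nd (.nd (.nd (.nd (.lf 0x6) (.lf 0xc00)) (.nd (.lf 0x470) (.lf 0xa6f))) (.nd (.nd (.lf 0x3d0) (.lf 0xdbc)) (.nd (.lf 0x159) (.lf 0xfa3)))) (.nd (.nd (.nd (.lf 0x1fa) (.lf 0xaad)) (.nd (.lf 0x87e) (.lf 0xa74))) (.nd (.nd (.lf 0x57c) (.lf 0x979)) (.nd (.lf 0xad1) (.lf 0xf58))))) (.nd (.nd (.nd (.nd (.lf 0x105) (.lf 0xbce)) (.nd (.lf 0x45) (.lf 0x90f))) (.nd (.nd (.lf 0x4a2) (.lf 0xada)) (.nd (.lf 0x2ef) (.lf 0xc35)))) (.nd (.nd (.nd (.lf 0x2ed) (.lf 0xd55)) (.nd (.lf 0x926) (.lf 0xda5))) (.nd (.nd (.lf 0x64b) (.lf 0x5d3)) (.nd (.lf 0xb7f) (.lf 0x125)))))) (.nd (.nd (.nd (.nd (.nd (.lf 0x86) (.lf 0x2c5)) (.nd (.lf 0x76c) (.lf 0xee5))) (.nd (.nd (.lf 0x21d) (.lf 0x9a3)) (.nd (.lf 0xa0a) (.lf 0xe95))))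 (.nd (.nd (.nd (.lf 0x277) (.lf 0xd1c)) (.nd (.lf 0x8d0) (.lf 0xe9c))) (.nd (.nd (.lf 0x3fd) (.lf 0x6a1)) (.nd (.lf 0xb3a) (.lf 0x2fa))))) (.nd (.nd (.nd (.nd (.lf 0x17f) (.lf 0xcad)) (.nd (.lf 0x823) (.lf 0x58b))) (.nd (.nd (.lf 0x512) (.lf 0xe47)) (.nd (.lf 0x354) (.lf 0xfb9)))) (.nd (.nd (.nd (.lf 0x365) (.lf 0xd88)) (.nd (.lf 0x976) (.lf 0xea2))) (.nd (.nd (.lf 0x6ac) (.lf 0xcbc)) (.nd (.lf 0x4c9) (.lf 0x8a3)))))))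
def tabT1_nabaaab : Tr := (.nd (.nd (.nd (.nd (.nd (.nd (.lf 0x46) (.lf 0xc0d)) (.nd (.lf 0x73a) (.lf 0xefc))) (.nd (.nd (.lf 0x409) (.lf 0x978)) (.nd (.lf 0x9e7) (.lf 0xd32)))) (.nd (.nd (.nd (.lf 0x239) (.lf 0xba3)) (.nd (.lf 0x68a) (.lf 0x91a))) (.nd (.nd (.lf 0x5ad) (.lf 0xd34)) (.nd (.lf 0xb15) (.lf 0xecd))))) (.nd (.nd (.nd (.nd (.lf 0x142) (.lf 0xc8f)) (.nd (.lf 0x7f8) (.lf 0xf36))) (.nd (.nd (.lf 0x4db) (.lf 0xe2f)) (.nd (.lf 0x1ce) (.lf 0xf09)))) (.nd (.nd (.nd (.lf 0x328) (.lf 0x7b0)) (.nd (.lf 0x49b) (.lf 0xc27))) (.nd (.nd (.lf 0x67e) (.lf 0x4d1)) (.nd (.lf 0x8b4) (.lf 0x45a)))))) (.nd (.nd (.nd (.nd (.nd (.lf 0xc5) (.lf 0x31d)) (.nd (.lf 0x799) (.lf 0x4f9))) (.nd (.nd (.lf 0x46c) (.lf 0xde2)) (.nd (.lf 0xa39) (.lf 0xe91))))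 (.nd (.nd (.nd (.lf 0x2b2) (.lf 0x3ce)) (.nd (.lf 0x589) (.lf 0xac1))) (.nd (.nd (.lf 0x615) (.lf 0xea0)) (.nd (.lf 0x9a2) (.lf 0x659))))) (.nd (.nd (.nd (.nd (.lf 0x1be) (.lf 0xcc6)) (.nd (.lf 0x851) (.lf 0x4c1))) (.nd (.nd (.lf 0x545) (.lf 0xc84)) (.nd (.lf 0x78a) (.lf 0x9d2)))) (.nd (.nd (.nd (.lf 0x27e) (.lf 0xce6)) (.nd (.lf 0x99b) (.lf 0xf67))) (.nd (.nd (.lf 0x6e0) (.lf 0xa06)) (.nd (.lf 0x3c3) (.lf 0)))))))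
def tabT1_nabaaba : Tr := (.nd (.nd (.nd (.nd (.nd (.nd (.lf 0x26) (.lf 0x61a)) (.nd (.lf 0x461) (.lf 0xef8))) (.nd (.nd (.lf 0x3ed) (.lf 0xdc9)) (.nd (.lf 0x9d5) (.lf 0x60a)))) (.nd (.nd (.nd (.lf 0x21a) (.lf 0xcef)) (.nd (.lf 0x188) (.lf 0xf5e))) (.nd (.nd (.lf 0x593) (.lf 0xe71)) (.nd (.lf 0x180) (.lf 0xf04))))) (.nd (.nd (.nd (.nd (.lf 0x124) (.lf 0x39d)) (.nd (.lf 0x7e1) (.lf 0x860))) (.nd (.nd (.lf 0x4c0) (.lf 0xe23)) (.nd (.lf 0xa6a) (.lf 0x88a)))) (.nd (.nd (.nd (.lf 0x30a) (.lf 0x591)) (.nd (.lf 0x864) (.lf 0xf86))) (.nd (.nd (.lf 0x661) (.lf 0xb1e)) (.nd (.lf 0xb8e) (.lf 0x942)))))) (.nd (.nd (.nd (.nd (.nd (.lf 0xa6) (.lf 0xa0d)) (.nd (.lf 0x23a) (.lf 0x75c))) (.nd (.nd (.lf 0x21b) (.lf 0x928)) (.nd (.lf 0x69e) (.lf 0xec2))))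 (.nd (.nd (.nd (.lf 0x293) (.lf 0xc98)) (.nd (.lf 0x8e7) (.lf 0x9fd))) (.nd (.nd (.lf 0x5fc) (.lf 0xe9a)) (.nd (.lf 0x9b8) (.lf 0xe84))))) (.nd (.nd (.nd (.nd (.lf 0x19e) (.lf 0xc63)) (.nd (.lf 0x839) (.lf 0x3c6))) (.nd (.nd (.lf 0x529) (.lf 0x7a8)) (.nd (.lf 0x44d) (.lf 0x85e)))) (.nd (.nd (.nd (.lf 0x380) (.lf 0xd93)) (.nd (.lf 0x988) (.lf 0x1af))) (.nd (.nd (.lf 0x6c7) (.lf 0x36d)) (.nd (.lf 0xbd3) (.lf 0x4fd)))))))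
def tabT1_nabaabb : Tr := (.nd (.nd (.nd (.nd (.nd (.nd (.lf 0x66) (.lf 0x4d)) (.nd (.lf 0x753) (.lf 0x8d8))) (.nd (.nd (.lf 0x190) (.lf 0xc54)) (.nd (.lf 0x982) (.lf 0xd6c)))) (.nd (.nd (.nd (.lf 0x257) (.lf 0xc56)) (.nd (.lf 0x8bd) (.lf 0xe58))) (.nd (.nd (.lf 0x16e) (.lf 0x6ca)) (.nd (.lf 0xb25) (.lf 0x705))))) (.nd (.nd (.nd (.nd (.lf 0x160) (.lf 0x1b7)) (.nd (.lf 0x766) (.lf 0x397))) (.nd (.nd (.lf 0x4f6) (.lf 0x19d)) (.nd (.lf 0x368) (.lf 0x9db)))) (.nd (.nd (.nd (.lf 0x348) (.lf 0xa21)) (.nd (.lf 0x2f6) (.lf 0x1))) (.nd (.nd (.lf 0x694) (.lf 0x2c2)) (.nd (.lf 0xbb0) (.lf 0x156)))))) (.nd (.nd (.nd (.nd (.nd (.lf 0xe5) (.lf 0x72b)) (.nd (.lf 0x7b5) (.lf 0x6f3))) (.nd (.nd (.lf 0x487) (.lf 0x9ad)) (.nd (.lf 0x831) (.lf 0x6c8))))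 (.nd (.nd (.nd (.lf 0x2cf) (.lf 0xd47)) (.nd (.lf 0x913) (.lf 0xcd0))) (.nd (.nd (.lf 0x62f) (.lf 0x123)) (.nd (.lf 0xb6a) (.lf 0xfd4))))) (.nd (.nd (.nd (.nd (.lf 0x1dc) (.lf 0xc3f)) (.nd (.lf 0x55c) (.lf 0x93a))) (.nd (.nd (.lf 0x561) (.lf 0x9bd)) (.nd (.lf 0x933) (.lf 0x2d4)))) (.nd (.nd (.nd (.lf 0x3b6) (.lf 0x81d)) (.nd (.lf 0x1c5) (.lf 0x7df))) (.nd (.nd (.lf 0x6f9) (.lf 0xeea)) (.nd (.lf 0xbf1) (.lf 0)))))))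
def tabT1_nababaa : Tr := (.nd (.nd (.nd (.nd (.nd (.nd (.lf 0x16) (.lf 0xa73)) (.nd (.lf 0x718) (.lf 0x5ae))) (.nd (.nd (.lf 0x3de) (.lf 0xdc3)) (.nd (.lf 0x9c8) (.lf 0xf31)))) (.nd (.nd (.nd (.lf 0x20a) (.lf 0xce3)) (.nd (.lf 0x6e3) (.lf 0xf5a))) (.nd (.nd (.lf 0x587) (.lf 0xbe6)) (.nd (.lf 0xafa) (.lf 0xe7b))))) (.nd (.nd (.nd (.nd (.lf 0x114) (.lf 0xc76)) (.nd (.lf 0x7d7) (.lf 0xe14))) (.nd (.nd (.lf 0x4b1) (.lf 0x22e)) (.nd (.lf 0x3bd) (.lf 0xf15)))) (.nd (.nd (.nd (.lf 0x2fb) (.lf 0xd5a)) (.nd (.lf 0x52c) (.lf 0x65b))) (.nd (.nd (.lf 0x656) (.lf 0xeb8)) (.nd (.lf 0x699) (.lf 0xe99)))))) (.nd (.nd (.nd (.nd (.nd (.lf 0x96) (.lf 0x7cd)) (.nd (.lf 0x67a) (.lf 0xbe2))) (.nd (.nd (.lf 0x445) (.lf 0xdf7)) (.nd (.lf 0xa17) (.lf 0x810))))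 (.nd (.nd (.nd (.lf 0x158) (.lf 0xd20)) (.nd (.lf 0x546) (.lf 0xf70))) (.nd (.nd (.lf 0x5f1) (.lf 0xe92)) (.nd (.lf 0x848) (.lf 0x898))))) (.nd (.nd (.nd (.nd (.lf 0x18f) (.lf 0xcb2)) (.nd (.lf 0x82e) (.lf 0xe32))) (.nd (.nd (.lf 0x458) (.lf 0xe4d)) (.nd (.lf 0xaac) (.lf 0x9c3)))) (.nd (.nd (.nd (.lf 0x374) (.lf 0xd4a)) (.nd (.lf 0x97f) (.lf 0xee0))) (.nd (.nd (.lf 0x6b9) (.lf 0xba9)) (.nd (.lf 0xbca) (.lf 0x439)))))))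
def tabT1_nababab : Tr := (.nd (.nd (.nd (.nd (.nd (.nd (.lf 0x56) (.lf 0xb0f)) (.nd (.lf 0x745) (.lf 0xeda))) (.nd (.nd (.lf 0x416) (.lf 0x77c)) (.nd (.lf 0x9ee) (.lf 0xd1a)))) (.nd (.nd (.nd (.lf 0x248) (.lf 0x6b7)) (.nd (.lf 0x8b3) (.lf 0x6cd))) (.nd (.nd (.lf 0x5b9) (.lf 0xc39)) (.nd (.lf 0x389) (.lf 0xe93))))) (.nd (.nd (.nd (.nd (.lf 0x151) (.lf 0xc95)) (.nd (.lf 0x803) (.lf 0x6ad))) (.nd (.nd (.lf 0x4e9) (.lf 0xe35)) (.nd (.lf 0x192) (.lf 0x1e1)))) (.nd (.nd (.nd (.lf 0x338) (.lf 0xd77)) (.nd (.lf 0x958) (.lf 0xbf7))) (.nd (.nd (.lf 0x2af) (.lf 0xaf4)) (.nd (.lf 0x552) (.lf 0x86d)))))) (.nd (.nd (.nd (.nd (.nd (.lf 0xd5) (.lf 0xc61)) (.nd (.lf 0x7a7) (.lf 0xf1e))) (.nd (.nd (.lf 0x478) (.lf 0xd27)) (.nd (.lf 0x990) (.lf 0xee8))))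 (.nd (.nd (.nd (.lf 0x2c1) (.lf 0xc2f)) (.nd (.lf 0x909) (.lf 0xc7e))) (.nd (.nd (.lf 0x622) (.lf 0xd21)) (.nd (.lf 0xa33) (.lf 0xdb9))))) (.nd (.nd (.nd (.nd (.lf 0x1cd) (.lf 0xccc)) (.nd (.lf 0x85c) (.lf 0xf4d))) (.nd (.nd (.lf 0x553) (.lf 0xe5e)) (.nd (.lf 0xad4) (.lf 0xfbd)))) (.nd (.nd (.nd (.lf 0x3ab) (.lf 0xda4)) (.nd (.lf 0x3dd) (.lf 0xb88))) (.nd (.nd (.lf 0x6ea) (.lf 0xcaf)) (.nd (.lf 0xbeb) (.lf 0)))))))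
def tabT1_nababba : Tr := (.nd (.nd (.nd (.nd (.nd (.nd (.lf 0x36) (.lf 0x76a)) (.nd (.lf 0x601) (.lf 0xb3b))) (.nd (.nd (.lf 0x3fc) (.lf 0xc6d)) (.nd (.lf 0x1e9) (.lf 0xaf3)))) (.nd (.nd (.nd (.lf 0x229) (.lf 0xac4)) (.nd (.lf 0x8a4) (.lf 0x876))) (.nd (.nd (.lf 0x5a1) (.lf 0xd6a)) (.nd (.lf 0xb0b) (.lf 0xf4b))))) (.nd (.nd (.nd (.nd (.lf 0x133) (.lf 0xc87)) (.nd (.lf 0x7ee) (.lf 0x5c5))) (.nd (.nd (.lf 0x4cc) (.lf 0xe2a)) (.nd (.lf 0x902) (.lf 0x94c)))) (.nd (.nd (.nd (.lf 0x31a) (.lf 0xd66)) (.nd (.lf 0x35) (.lf 0xaf1))) (.nd (.nd (.lf 0x670) (.lf 0x92d)) (.nd (.lf 0xb98) (.lf 0xfdb)))))) (.nd (.nd (.nd (.nd (.nd (.lf 0xb5) (.lf 0x196)) (.nd (.lf 0x78b) (.lf 0xd63))) (.nd (.nd (.lf 0x45e) (.lf 0x15)) (.nd (.lf 0xa2d) (.lf 0x5e9))))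 (.nd (.nd (.nd (.lf 0x2a2) (.lf 0x86f)) (.nd (.lf 0x8f5) (.lf 0xf77))) (.nd (.nd (.lf 0x609) (.lf 0xda1)) (.nd (.lf 0x1c7) (.lf 0xaee))))) (.nd (.nd (.nd (.nd (.lf 0x1ae) (.lf 0x1d9)) (.nd (.lf 0x5a9) (.lf 0xf46))) (.nd (.nd (.lf 0xea) (.lf 0xb6e)) (.nd (.lf 0xabf) (.lf 0x790)))) (.nd (.nd (.nd (.lf 0x390) (.lf 0xd99)) (.nd (.lf 0x992) (.lf 0xf7f))) (.nd (.nd (.lf 0x6d4) (.lf 0x69b)) (.nd (.lf 0x676) (.lf 0x3b7)))))))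
def tabT1_nababbb : Tr := (.nd (.nd (.nd (.nd (.nd (.nd (.lf 0x76) (.lf 0xaa6)) (.nd (.lf 0x75f) (.lf 0xd61))) (.nd (.nd (.lf 0x42d) (.lf 0x5d7)) (.nd (.lf 0xa01) (.lf 0xec7)))) (.nd (.nd (.nd (.lf 0x267) (.lf 0xa97)) (.nd (.lf 0x8c6) (.lf 0xc4e))) (.nd (.nd (.lf 0x5d4) (.lf 0xe8b)) (.nd (.lf 0xb2f) (.lf 0xded))))) (.nd (.nd (.nd (.nd (.lf 0x16f) (.lf 0x7ae)) (.nd (.lf 0x819) (.lf 0xd1b))) (.nd (.nd (.lf 0x505) (.lf 0xcee)) (.nd (.lf 0xa96) (.lf 0xb36)))) (.nd (.nd (.nd (.lf 0x357) (.lf 0xd81)) (.nd (.lf 0x514) (.lf 0x5a6))) (.nd (.nd (.lf 0x6a0) (.lf 0xa95)) (.nd (.lf 0xb24) (.lf 0xfa)))))) (.nd (.nd (.nd (.nd (.nd (.lf 0xf5) (.lf 0x56f)) (.nd (.lf 0x7c1) (.lf 0xcdc))) (.nd (.nd (.lf 0x87) (.lf 0xdef)) (.nd (.lf 0xa50) (.lf 0xdfb))))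 (.nd (.nd (.nd (.lf 0x2de) (.lf 0x16c)) (.nd (.lf 0x3d5) (.lf 0xc9a))) (.nd (.nd (.lf 0x63c) (.lf 0x1d7)) (.nd (.lf 0xb74) (.lf 0x508))))) (.nd (.nd (.nd (.nd (.lf 0x1ec) (.lf 0xcd9)) (.nd (.lf 0x29f) (.lf 0xd0b))) (.nd (.nd (.lf 0x556) (.lf 0xe65)) (.nd (.lf 0xaea) (.lf 0xf9f)))) (.nd (.nd (.nd (.lf 0x15f) (.lf 0xc88)) (.nd (.lf 0x9b4) (.lf 0xf9e))) (.nd (.nd (.lf 0x708) (.lf 0x8bc)) (.nd (.lf 0xbf9) (.lf 0)))))))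
def tabT1_nabbaaa : Tr := (.nd (.nd (.nd (.nd (.nd (.nd (.lf 0xe) (.lf 0xaab)) (.nd (.lf 0x6f8) (.lf 0xef3))) (.nd (.nd (.lf 0x3d8) (.lf 0x523)) (.nd (.lf 0x9c2) (.lf 0xfa4)))) (.nd (.nd (.nd (.lf 0x202) (.lf 0xce0)) (.nd (.lf 0x6ce) (.lf 0xb45))) (.nd (.nd (.lf 0x580) (.lf 0x57f)) (.nd (.lf 0xa7) (.lf 0xfc1))))) (.nd (.nd (.nd (.nd (.lf 0x10c) (.lf 0xaf8)) (.nd (.lf 0x7d1) (.lf 0x1a9))) (.nd (.nd (.lf 0x4aa) (.lf 0xe1e)) (.nd (.lf 0xa5e) (.lf 0xbc5)))) (.nd (.nd (.nd (.lf 0x2f3) (.lf 0xd59)) (.nd (.lf 0x92a) (.lf 0x7b8))) (.nd (.nd (.lf 0x64e) (.lf 0xbb8)) (.nd (.lf 0xb82) (.lf 0x844)))))) (.nd (.nd (.nd (.nd (.nd (.lf 0x8e) (.lf 0xa3)) (.nd (.lf 0x772) (.lf 0xf13))) (.nd (.nd (.lf 0x236) (.lf 0x11)) (.nd (.lf 0xa10) (.lf 0x5c9))))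 (.nd (.nd (.nd (.lf 0x1db) (.lf 0xd1d)) (.nd (.lf 0x8d7) (.lf 0x764))) (.nd (.nd (.lf 0x5ea) (.lf 0xe90)) (.nd (.lf 0xb3f) (.lf 0xfd6))))) (.nd (.nd (.nd (.nd (.lf 0x187) (.lf 0x84a)) (.nd (.lf 0x4a7) (.lf 0xf06))) (.nd (.nd (.lf 0x519) (.lf 0x8cb)) (.nd (.lf 0x186) (.lf 0x762)))) (.nd (.nd (.nd (.lf 0x36c) (.lf 0xd8b)) (.nd (.lf 0x97a) (.lf 0xe38))) (.nd (.nd (.lf 0x6b3) (.lf 0x798)) (.nd (.lf 0xd6) (.lf 0xcc1)))))))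
def tabT1_nabbaab : Tr := (.nd (.nd (.nd (.nd (.nd (.nd (.lf 0x4e) (.lf 0xc23)) (.nd (.lf 0x741) (.lf 0xcb5))) (.nd (.nd (.lf 0x411) (.lf 0x8f7)) (.nd (.lf 0x9eb) (.lf 0x7e6)))) (.nd (.nd (.nd (.lf 0x15d) (.lf 0xd00)) (.nd (.lf 0x414) (.lf 0xf64))) (.nd (.nd (.lf 0x5b3) (.lf 0xd3e)) (.nd (.lf 0xb1a) (.lf 0x558))))) (.nd (.nd (.nd (.nd (.lf 0x14a) (.lf 0xbbc)) (.nd (.lf 0x7fe) (.lf 0xf38))) (.nd (.nd (.lf 0x4e3) (.lf 0xb62)) (.nd (.lf 0xa7c) (.lf 0xed7)))) (.nd (.nd (.nd (.lf 0x330) (.lf 0xd71)) (.nd (.lf 0x952) (.lf 0x10f))) (.nd (.nd (.lf 0x683) (.lf 0xcc4)) (.nd (.lf 0xba6) (.lf 0xbde)))))) (.nd (.nd (.nd (.nd (.nd (.lf 0xcd) (.lf 0xc5a)) (.nd (.lf 0x7a0) (.lf 0x15b))) (.nd (.nd (.lf 0x473) (.lf 0xe07)) (.nd (.lf 0x163) (.lf 0x998))))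 (.nd (.nd (.nd (.lf 0x2ba) (.lf 0xd39)) (.nd (.lf 0x903) (.lf 0x7ef))) (.nd (.nd (.lf 0xda) (.lf 0xa9)) (.nd (.lf 0x161) (.lf 0xfcb))))) (.nd (.nd (.nd (.nd (.lf 0x1c6) (.lf 0x96a)) (.nd (.lf 0x857) (.lf 0xc46))) (.nd (.nd (.lf 0x54c) (.lf 0xe5b)) (.nd (.lf 0x9b7) (.lf 0xfc7)))) (.nd (.nd (.nd (.lf 0x3a4) (.lf 0x7fa)) (.nd (.lf 0x99e) (.lf 0xd7f))) (.nd (.nd (.lf 0x6e5) (.lf 0x1a1)) (.nd (.lf 0xbe8) (.lf 0)))))))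
def tabT1_nabbaba : Tr := (.nd (.nd (.nd (.nd (.nd (.nd (.lf 0x2e) (.lf 0xab9)) (.nd (.lf 0x4ba) (.lf 0xbc7))) (.nd (.nd (.lf 0x3f5) (.lf 0xdcc)) (.nd (.lf 0x9da) (.lf 0xfa9)))) (.nd (.nd (.nd (.lf 0x222) (.lf 0xcbb)) (.nd (.lf 0x89c) (.lf 0xa31))) (.nd (.nd (.lf 0x599) (.lf 0xab1)) (.nd (.lf 0xb07) (.lf 0x61b))))) (.nd (.nd (.nd (.nd (.lf 0x12c) (.lf 0x391)) (.nd (.lf 0x7e7) (.lf 0xe53))) (.nd (.nd (.lf 0x4c6) (.lf 0xe26)) (.nd (.lf 0xa2a) (.lf 0xdb6)))) (.nd (.nd (.nd (.lf 0x312) (.lf 0xd62)) (.nd (.lf 0x5cb) (.lf 0xdea))) (.nd (.nd (.lf 0x669) (.lf 0x325)) (.nd (.lf 0xb92) (.lf 0xfae)))))) (.nd (.nd (.nd (.nd (.nd (.lf 0xae) (.lf 0x102)) (.nd (.lf 0x786) (.lf 0xd5b))) (.nd (.nd (.lf 0x2d2) (.lf 0x9a6)) (.nd (.lf 0x71f) (.lf 0x6eb))))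 (.nd (.nd (.nd (.lf 0x29b) (.lf 0x540)) (.nd (.lf 0x8ee) (.lf 0xe97))) (.nd (.nd (.lf 0x603) (.lf 0xe9b)) (.nd (.lf 0xb4e) (.lf 0xaa2))))) (.nd (.nd (.nd (.nd (.lf 0x1a6) (.lf 0xcbe)) (.nd (.lf 0x3d3) (.lf 0x4ae))) (.nd (.nd (.lf 0x24a) (.lf 0xabe)) (.nd (.lf 0x4d3) (.lf 0xcf7)))) (.nd (.nd (.nd (.lf 0x388) (.lf 0xd95)) (.nd (.lf 0x98e) (.lf 0xdc1))) (.nd (.nd (.lf 0x5b5) (.lf 0xedc)) (.nd (.lf 0xbd7) (.lf 0xc6)))))))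
def tabT1_nabbabb : Tr := (.nd (.nd (.nd (.nd (.nd (.nd (.lf 0x6e) (.lf 0xa3a)) (.nd (.lf 0x759) (.lf 0xee1))) (.nd (.nd (.lf 0x426) (.lf 0x4a5)) (.nd (.lf 0x657) (.lf 0x241)))) (.nd (.nd (.nd (.lf 0x25f) (.lf 0xd14)) (.nd (.lf 0x808) (.lf 0xdca))) (.nd (.nd (.lf 0x5cd) (.lf 0x88f)) (.nd (.lf 0xb2a) (.lf 0xbe3))))) (.nd (.nd (.nd (.nd (.lf 0x167) (.lf 0xc9f)) (.nd (.lf 0x5f6) (.lf 0x5df))) (.nd (.nd (.lf 0x27) (.lf 0xe3d)) (.nd (.lf 0xa8f) (.lf 0x2d8)))) (.nd (.nd (.nd (.lf 0x34f) (.lf 0x1ff)) (.nd (.lf 0x194) (.lf 0xe5d))) (.nd (.nd (.lf 0x43) (.lf 0x518)) (.nd (.lf 0xbb4) (.lf 0xae0)))))) (.nd (.nd (.nd (.nd (.nd (.lf 0xed) (.lf 0xc69)) (.nd (.lf 0x7bd) (.lf 0xf26))) (.nd (.nd (.lf 0x48e) (.lf 0x89f)) (.nd (.lf 0xa4c) (.lf 0xa6c))))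 (.nd (.nd (.nd (.lf 0x2d7) (.lf 0xd4d)) (.nd (.lf 0x919) (.lf 0x6c6))) (.nd (.nd (.lf 0x636) (.lf 0xeac)) (.nd (.lf 0xac8) (.lf 0xec3))))) (.nd (.nd (.nd (.nd (.lf 0x1e4) (.lf 0x270)) (.nd (.lf 0x86c) (.lf 0x686))) (.nd (.nd (.lf 0x568) (.lf 0x76e)) (.nd (.lf 0xae4) (.lf 0xbc)))) (.nd (.nd (.nd (.lf 0x3bc) (.lf 0xdb4)) (.nd (.lf 0x9af) (.lf 0xf9d))) (.nd (.nd (.lf 0x700) (.lf 0xedf)) (.nd (.lf 0x371) (.lf 0)))))))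
def tabT1_nabbbaa : Tr := (.nd (.nd (.nd (.nd (.nd (.nd (.lf 0x1e) (.lf 0xc0a)) (.nd (.lf 0x720) (.lf 0x4c8))) (.nd (.nd (.lf 0x3e5) (.lf 0x376)) (.nd (.lf 0x9ce) (.lf 0x504)))) (.nd (.nd (.nd (.lf 0x212) (.lf 0x5c3)) (.nd (.lf 0x79d) (.lf 0xf5c))) (.nd (.nd (.lf 0x58d) (.lf 0x756)) (.nd (.lf 0x77d) (.lf 0xa49))))) (.nd (.nd (.nd (.nd (.lf 0x11c) (.lf 0xc7c)) (.nd (.lf 0x7dc) (.lf 0x35d))) (.nd (.nd (.lf 0x4b9) (.lf 0xe20)) (.nd (.lf 0xa26) (.lf 0xcf0)))) (.nd (.nd (.nd (.lf 0x302) (.lf 0x8f4)) (.nd (.lf 0x936) (.lf 0x93e))) (.nd (.nd (.lf 0x65c) (.lf 0x170)) (.nd (.lf 0x52a) (.lf 0xb0a)))))) (.nd (.nd (.nd (.nd (.nd (.lf 0x9e) (.lf 0x66a)) (.nd (.lf 0x77b) (.lf 0xf18))) (.nd (.nd (.lf 0x44c) (.lf 0xaca)) (.nd (.lf 0xa1e) (.lf 0xf6))))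 (.nd (.nd (.nd (.lf 0x28c) (.lf 0x9ef)) (.nd (.lf 0x8e2) (.lf 0x33d))) (.nd (.nd (.lf 0x225) (.lf 0x655)) (.nd (.lf 0x995) (.lf 0xfc0))))) (.nd (.nd (.nd (.nd (.lf 0x197) (.lf 0xcb6)) (.nd (.lf 0x834) (.lf 0xa18))) (.nd (.nd (.lf 0x522) (.lf 0xe50)) (.nd (.lf 0xa91) (.lf 0x3aa)))) (.nd (.nd (.nd (.lf 0x37a) (.lf 0xd8e)) (.nd (.lf 0x5dd) (.lf 0x97))) (.nd (.nd (.lf 0x6bf) (.lf 0xf2)) (.nd (.lf 0x833) (.lf 0xb40)))))))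
def tabT1_nabbbab : Tr := (.nd (.nd (.nd (.nd (.nd (.nd (.lf 0x5e) (.lf 0xc29)) (.nd (.lf 0x154) (.lf 0xd5e))) (.nd (.nd (.lf 0x41a) (.lf 0xd06)) (.nd (.lf 0x6d0) (.lf 0xc6e)))) (.nd (.nd (.nd (.lf 0x24f) (.lf 0xd0a)) (.nd (.lf 0x8b8) (.lf 0xdae))) (.nd (.nd (.lf 0x5c0) (.lf 0xe83)) (.nd (.lf 0xb21) (.lf 0xae2))))) (.nd (.nd (.nd (.nd (.lf 0x3) (.lf 0x420)) (.nd (.lf 0x3d7) (.lf 0xb4f))) (.nd (.nd (.lf 0x4f0) (.lf 0xa36)) (.nd (.lf 0xa87) (.lf 0xf7e)))) (.nd (.nd (.nd (.lf 0x340) (.lf 0xd7a)) (.nd (.lf 0x4d8) (.lf 0x785))) (.nd (.nd (.lf 0x2bb) (.lf 0x31)) (.nd (.lf 0x9f3) (.lf 0x3e8)))))) (.nd (.nd (.nd (.nd (.nd (.lf 0xdd) (.lf 0x99f)) (.nd (.lf 0x7ad) (.lf 0x73b))) (.nd (.nd (.lf 0x47f) (.lf 0x33f)) (.nd (.lf 0xa44) (.lf 0x672))))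 (.nd (.nd (.nd (.lf 0x2c7) (.lf 0xd40)) (.nd (.lf 0x90e) (.lf 0x2b))) (.nd (.nd (.lf 0x629) (.lf 0xa40)) (.nd (.lf 0x7a1) (.lf 0xdb8))))) (.nd (.nd (.nd (.nd (.lf 0x1d5) (.lf 0xcce)) (.nd (.lf 0x701) (.lf 0xbdb))) (.nd (.nd (.lf 0x55b) (.lf 0x6b2)) (.nd (.lf 0xadb) (.lf 0xee6)))) (.nd (.nd (.nd (.lf 0x3b2) (.lf 0xdaa)) (.nd (.lf 0x94d) (.lf 0xf6c))) (.nd (.nd (.lf 0x6f2) (.lf 0xee9)) (.nd (.lf 0xbee) (.lf 0)))))))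
def tabT1_nabbbba : Tr := (.nd (.nd (.nd (.nd (.nd (.nd (.lf 0x3e) (.lf 0xc18)) (.nd (.lf 0x735) (.lf 0x7c0))) (.nd (.nd (.lf 0x401) (.lf 0xdd2)) (.nd (.lf 0x684) (.lf 0xeb9)))) (.nd (.nd (.nd (.lf 0x231) (.lf 0xcfa)) (.nd (.lf 0x8a8) (.lf 0x89a))) (.nd (.nd (.lf 0x404) (.lf 0x92b)) (.nd (.lf 0xb10) (.lf 0xe45))))) (.nd (.nd (.nd (.nd (.lf 0x13a) (.lf 0xbcc)) (.nd (.lf 0x7f4) (.lf 0x373))) (.nd (.nd (.lf 0x4d4) (.lf 0x818)) (.nd (.lf 0x44b) (.lf 0xb99)))) (.nd (.nd (.nd (.lf 0x3f) (.lf 0xd6b)) (.nd (.lf 0x64a) (.lf 0xcea))) (.nd (.nd (.lf 0x677) (.lf 0x9c5)) (.nd (.lf 0xb9d) (.lf 0xfd1)))))) (.nd (.nd (.nd (.nd (.nd (.lf 0xbd) (.lf 0xc52)) (.nd (.lf 0x793) (.lf 0x9c7))) (.nd (.nd (.lf 0x79) (.lf 0xe03)) (.nd (.lf 0xa34) (.lf 0xfbc))))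 (.nd (.nd (.nd (.lf 0x2aa) (.lf 0xd30)) (.nd (.lf 0xce) (.lf 0x99d))) (.nd (.nd (.lf 0x60f) (.lf 0x96f)) (.nd (.lf 0x469) (.lf 0xe70))))) (.nd (.nd (.nd (.nd (.lf 0x1b6) (.lf 0x43c)) (.nd (.lf 0x849) (.lf 0xf12))) (.nd (.nd (.lf 0x53d) (.lf 0x29a)) (.nd (.lf 0x75e) (.lf 0xde1)))) (.nd (.nd (.nd (.lf 0x396) (.lf 0xaa3)) (.nd (.lf 0x1df) (.lf 0x45f))) (.nd (.nd (.lf 0x6d9) (.lf 0xd3b)) (.nd (.lf 0xbdf) (.lf 0)))))))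
def tabT1_nabbbbb : Tr := (.nd (.nd (.nd (.nd (.nd (.nd (.lf 0x7e) (.lf 0x48a)) (.nd (.lf 0x6a6) (.lf 0xdc5))) (.nd (.nd (.lf 0x434) (.lf 0xdee)) (.nd (.lf 0xa07) (.lf 0xfb6)))) (.nd (.nd (.nd (.lf 0x26f) (.lf 0x3d1)) (.nd (.lf 0x623) (.lf 0x34d))) (.nd (.nd (.lf 0x5dc) (.lf 0xe8d)) (.nd (.lf 0x30d) (.lf 0xf48))))) (.nd (.nd (.nd (.nd (.lf 0x177) (.lf 0x71)) (.nd (.lf 0x7c3) (.lf 0xa1))) (.nd (.nd (.lf 0x50c) (.lf 0xb86)) (.nd (.lf 0x712) (.lf 0x572)))) (.nd (.nd (.nd (.lf 0x35e) (.lf 0xd86)) (.nd (.lf 0x971) (.lf 0x37e))) (.nd (.nd (.lf 0x143) (.lf 0xed0)) (.nd (.lf 0xbbb) (.lf 0x443)))))) (.nd (.nd (.nd (.nd (.nd (.lf 0xfd) (.lf 0x27c)) (.nd (.lf 0x219) (.lf 0x63d))) (.nd (.nd (.lf 0x44f) (.lf 0x427)) (.nd (.lf 0x72f) (.lf 0xc70))))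 (.nd (.nd (.nd (.lf 0x2e5) (.lf 0xd51)) (.nd (.lf 0x78e) (.lf 0x3cc))) (.nd (.nd (.lf 0x643) (.lf 0xca4)) (.nd (.lf 0xab3) (.lf 0x754))))) (.nd (.nd (.nd (.nd (.lf 0x1f3) (.lf 0xa66)) (.nd (.lf 0x87a) (.lf 0xf54))) (.nd (.nd (.lf 0x574) (.lf 0x39b)) (.nd (.lf 0xaed) (.lf 0xf39)))) (.nd (.nd (.nd (.lf 0x3c9) (.lf 0xb44)) (.nd (.lf 0x9bb) (.lf 0xf2b))) (.nd (.nd (.lf 0x70c) (.lf 0xef1)) (.nd (.lf 0x6b4) (.lf 0)))))))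
def tabT1_nbaaaaa : Tr := (.nd (.nd (.nd (.nd (.nd (.nd (.lf 0x4) (.lf 0x29c)) (.nd (.lf 0x710) (.lf 0xdcf))) (.nd (.nd (.lf 0x3cf) (.lf 0x56a)) (.nd (.lf 0xf8) (.lf 0xfa2)))) (.nd (.nd (.nd (.lf 0x1f8) (.lf 0xcdd)) (.nd (.lf 0x87d) (.lf 0x495))) (.nd (.nd (.lf 0x57a) (.lf 0x6c0)) (.nd (.lf 0x6a4) (.lf 0xe73))))) (.nd (.nd (.nd (.nd (.lf 0x103) (.lf 0x972)) (.nd (.lf 0x3a1) (.lf 0x633))) (.nd (.nd (.lf 0x4a0) (.lf 0xe1b)) (.nd (.lf 0x2c6) (.lf 0x921)))) (.nd (.nd (.nd (.lf 0x2eb) (.lf 0xd54)) (.nd (.lf 0x85d) (.lf 0x2e6))) (.nd (.nd (.lf 0x649) (.lf 0xeab)) (.nd (.lf 0xb7e) (.lf 0xdd1)))))) (.nd (.nd (.nd (.nd (.nd (.lf 0x84) (.lf 0xc3b)) (.nd (.lf 0x258) (.lf 0xf11))) (.nd (.nd (.lf 0x438) (.lf 0x73e)) (.nd (.lf 0xa08) (.lf 0xb0e))))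 (.nd (.nd (.nd (.lf 0x275) (.lf 0xba7)) (.nd (.lf 0x8ce) (.lf 0xf6e))) (.nd (.nd (.lf 0x5e2) (.lf 0xb6)) (.nd (.lf 0xb38) (.lf 0x3e4))))) (.nd (.nd (.nd (.nd (.lf 0x17d) (.lf 0xcac)) (.nd (.lf 0x821) (.lf 0xd9a))) (.nd (.nd (.lf 0x510) (.lf 0xe46)) (.nd (.lf 0xaa0) (.lf 0xabd)))) (.nd (.nd (.nd (.lf 0x363) (.lf 0x752)) (.nd (.lf 0x671) (.lf 0xb73))) (.nd (.nd (.lf 0x6aa) (.lf 0x85b)) (.nd (.lf 0xbbf) (.lf 0x1cb)))))))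
def tabT1_nbaaaab : Tr := (.nd (.nd (.nd (.nd (.nd (.nd (.lf 0x44) (.lf 0xc1e)) (.nd (.lf 0x738) (.lf 0x883))) (.nd (.nd (.lf 0x276) (.lf 0xdd5)) (.nd (.lf 0x9e5) (.lf 0xeee)))) (.nd (.nd (.nd (.lf 0x237) (.lf 0x5db)) (.nd (.lf 0x8aa) (.lf 0x866))) (.nd (.nd (.lf 0x547) (.lf 0xe7a)) (.nd (.lf 0xb14) (.lf 0xfd2))))) (.nd (.nd (.nd (.nd (.lf 0x140) (.lf 0xc8d)) (.nd (.lf 0x7f7) (.lf 0xe06))) (.nd (.nd (.lf 0x4d9) (.lf 0xe2e)) (.nd (.lf 0xa79) (.lf 0xa71)))) (.nd (.nd (.nd (.lf 0x326) (.lf 0xd6e)) (.nd (.lf 0x94b) (.lf 0xf60))) (.nd (.nd (.lf 0x67c) (.lf 0xec1)) (.nd (.lf 0xba1) (.lf 0x725)))))) (.nd (.nd (.nd (.nd (.nd (.lf 0xc3) (.lf 0x184)) (.nd (.lf 0x797) (.lf 0xda2))) (.nd (.nd (.lf 0x46a) (.lf 0xe04)) (.nd (.lf 0xa38) (.lf 0x3b9))))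 (.nd (.nd (.nd (.lf 0x2b0) (.lf 0xd35)) (.nd (.lf 0x8fd) (.lf 0xefb))) (.nd (.nd (.lf 0x613) (.lf 0x48d)) (.nd (.lf 0xa85) (.lf 0xfaa))))) (.nd (.nd (.nd (.nd (.lf 0x1bc) (.lf 0x646)) (.nd (.lf 0x84f) (.lf 0xe56))) (.nd (.nd (.lf 0x543) (.lf 0x37f)) (.nd (.lf 0xac7) (.lf 0x81f)))) (.nd (.nd (.nd (.lf 0x39c) (.lf 0x7c2)) (.nd (.lf 0x99a) (.lf 0xeed))) (.nd (.nd (.lf 0x6de) (.lf 0xc58)) (.nd (.lf 0x602) (.lf 0)))))))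
def tabT1_nbaaaba : Tr := (.nd (.nd (.nd (.nd (.nd (.nd (.lf 0x24) (.lf 0x1c1)) (.nd (.lf 0x723) (.lf 0xedd))) (.nd (.nd (.lf 0x3eb) (.lf 0xdc8)) (.nd (.lf 0x9d3) (.lf 0x381)))) (.nd (.nd (.nd (.lf 0x218) (.lf 0xced)) (.nd (.lf 0x894) (.lf 0xf5d))) (.nd (.nd (.lf 0x39) (.lf 0x586)) (.nd (.lf 0xb03) (.lf 0xc6c))))) (.nd (.nd (.nd (.nd (.lf 0x122) (.lf 0xc7f)) (.nd (.lf 0x7e0) (.lf 0x681))) (.nd (.nd (.lf 0x4be) (.lf 0xe22)) (.nd (.lf 0xa69) (.lf 0x4f)))) (.nd (.nd (.nd (.lf 0x308) (.lf 0x403)) (.nd (.lf 0x938) (.lf 0xf85))) (.nd (.nd (.lf 0x1c3) (.lf 0x4b4)) (.nd (.lf 0x707) (.lf 0xfda)))))) (.nd (.nd (.nd (.nd (.nd (.lf 0xa4) (.lf 0x50a)) (.nd (.lf 0x77f) (.lf 0x691))) (.nd (.nd (.lf 0x452) (.lf 0x950)) (.nd (.lf 0xa22) (.lf 0x7b4))))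 (.nd (.nd (.nd (.lf 0x291) (.lf 0xd26)) (.nd (.lf 0x8e5) (.lf 0x309))) (.nd (.nd (.lf 0x5fb) (.lf 0xe98)) (.nd (.lf 0xb48) (.lf 0xfd7))))) (.nd (.nd (.nd (.nd (.lf 0x19c) (.lf 0xa42)) (.nd (.lf 0x837) (.lf 0x927))) (.nd (.nd (.lf 0x527) (.lf 0xa3d)) (.nd (.lf 0xab4) (.lf 0xdbd)))) (.nd (.nd (.nd (.lf 0x1f9) (.lf 0xd92)) (.nd (.lf 0x7d) (.lf 0xf96))) (.nd (.nd (.lf 0x6c5) (.lf 0x63b)) (.nd (.lf 0x595) (.lf 0xa77)))))))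
def tabT1_nbaaabb : Tr := (.nd (.nd (.nd (.nd (.nd (.nd (.lf 0x64) (.lf 0xc2e)) (.nd (.lf 0x751) (.lf 0xbd9))) (.nd (.nd (.lf 0x41f) (.lf 0x43e)) (.nd (.lf 0x9f6) (.lf 0xf9b)))) (.nd (.nd (.nd (.lf 0x255) (.lf 0x941)) (.nd (.lf 0x6d) (.lf 0x714))) (.nd (.nd (.lf 0x5c6) (.lf 0xe86)) (.nd (.lf 0xb23) (.lf 0xdcb))))) (.nd (.nd (.nd (.nd (.lf 0x15e) (.lf 0xc9b)) (.nd (.lf 0x80b) (.lf 0xec8))) (.nd (.nd (.lf 0x6f) (.lf 0xe3a)) (.nd (.lf 0x783) (.lf 0xf79)))) (.nd (.nd (.nd (.lf 0x346) (.lf 0x500)) (.nd (.lf 0x960) (.lf 0xc62))) (.nd (.nd (.lf 0x692) (.lf 0xecb)) (.nd (.lf 0xbaf) (.lf 0xfd9)))))) (.nd (.nd (.nd (.nd (.nd (.lf 0xe3) (.lf 0xc65)) (.nd (.lf 0x7b3) (.lf 0xf23))) (.nd (.nd (.lf 0x485) (.lf 0xd18)) (.nd (.lf 0xa48) (.lf 0xcf2))))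 (.nd (.nd (.nd (.lf 0x2cd) (.lf 0xd45)) (.nd (.lf 0x7ba) (.lf 0xdb7))) (.nd (.nd (.lf 0x549) (.lf 0x2a9)) (.nd (.lf 0xb69) (.lf 0xf44))))) (.nd (.nd (.nd (.nd (.lf 0x1da) (.lf 0x614)) (.nd (.lf 0x5e7) (.lf 0xf4f))) (.nd (.nd (.lf 0x46d) (.lf 0xdda)) (.nd (.lf 0xae1) (.lf 0x502)))) (.nd (.nd (.nd (.lf 0x137) (.lf 0xdaf)) (.nd (.lf 0x9a8) (.lf 0xf9c))) (.nd (.nd (.lf 0x6f7) (.lf 0xe80)) (.nd (.lf 0xbf0) (.lf 0)))))))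
def tabT1_nbaabaa : Tr := (.nd (.nd (.nd (.nd (.nd (.nd (.lf 0x14) (.lf 0xa11)) (.nd (.lf 0x717) (.lf 0xda9))) (.nd (.nd (.lf 0x3dc) (.lf 0xb1b)) (.nd (.lf 0x9c6) (.lf 0xa89)))) (.nd (.nd (.nd (.lf 0x208) (.lf 0xa16)) (.nd (.lf 0x889) (.lf 0x240))) (.nd (.nd (.lf 0x585) (.lf 0xccf)) (.nd (.lf 0x71b) (.lf 0xa81))))) (.nd (.nd (.nd (.nd (.lf 0x112) (.lf 0xb8)) (.nd (.lf 0x7d5) (.lf 0xf2c))) (.nd (.nd (.lf 0x4af) (.lf 0x616)) (.nd (.lf 0x6dd) (.lf 0x272)))) (.nd (.nd (.nd (.lf 0x2f9) (.lf 0xcd1)) (.nd (.lf 0x930) (.lf 0x742))) (.nd (.nd (.lf 0x654) (.lf 0x1d0)) (.nd (.lf 0x178) (.lf 0xea3)))))) (.nd (.nd (.nd (.nd (.nd (.lf 0x94) (.lf 0xc42)) (.nd (.lf 0x775) (.lf 0x104))) (.nd (.nd (.lf 0x9) (.lf 0xdf6)) (.nd (.lf 0x61e) (.lf 0x877))))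 (.nd (.nd (.nd (.lf 0x284) (.lf 0xd1f)) (.nd (.lf 0x8dc) (.lf 0x78c))) (.nd (.nd (.lf 0x5f0) (.lf 0x874)) (.nd (.lf 0x1b9) (.lf 0xe34))))) (.nd (.nd (.nd (.nd (.lf 0x18d) (.lf 0xcb1)) (.nd (.lf 0x82d) (.lf 0xf41))) (.nd (.nd (.lf 0x482) (.lf 0x25c)) (.nd (.lf 0xaaa) (.lf 0x637)))) (.nd (.nd (.nd (.lf 0x372) (.lf 0xd8c)) (.nd (.lf 0x7d2) (.lf 0xf92))) (.nd (.nd (.lf 0x6b8) (.lf 0x264)) (.nd (.lf 0xbc8) (.lf 0xd68)))))))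
def tabT1_nbaabab : Tr := (.nd (.nd (.nd (.nd (.nd (.nd (.lf 0x54) (.lf 0x228)) (.nd (.lf 0x4fb) (.lf 0xb70))) (.nd (.nd (.lf 0x13f) (.lf 0x132)) (.nd (.lf 0x432) (.lf 0x97b)))) (.nd (.nd (.nd (.lf 0x246) (.lf 0xd05)) (.nd (.lf 0x8b2) (.lf 0xf65))) (.nd (.nd (.lf 0x5b7) (.lf 0xe81)) (.nd (.lf 0xb1d) (.lf 0xf7d))))) (.nd (.nd (.nd (.nd (.lf 0x14f) (.lf 0xc94)) (.nd (.lf 0x802) (.lf 0x294))) (.nd (.nd (.lf 0x4e7) (.lf 0xe33)) (.nd (.lf 0xa80) (.lf 0x6ba)))) (.nd (.nd (.nd (.lf 0x336) (.lf 0xd75)) (.nd (.lf 0x957) (.lf 0xb5b))) (.nd (.nd (.lf 0x685) (.lf 0xec4)) (.nd (.lf 0x4ef) (.lf 0x56e)))))) (.nd (.nd (.nd (.nd (.nd (.lf 0xd3) (.lf 0xc5f)) (.nd (.lf 0x7a5) (.lf 0x58c))) (.nd (.nd (.lf 0x476) (.lf 0x289)) (.nd (.lf 0xa41) (.lf 0x20b))))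 (.nd (.nd (.nd (.lf 0x2bf) (.lf 0x8fe)) (.nd (.lf 0x907) (.lf 0xa5a))) (.nd (.nd (.lf 0x620) (.lf 0xa60)) (.nd (.lf 0xb63) (.lf 0xc2a))))) (.nd (.nd (.nd (.nd (.lf 0x115) (.lf 0x38f)) (.nd (.lf 0x262) (.lf 0xd09))) (.nd (.nd (.lf 0x551) (.lf 0xd85)) (.nd (.lf 0xad2) (.lf 0xf45)))) (.nd (.nd (.nd (.lf 0x3a9) (.lf 0xda3)) (.nd (.lf 0x6bc) (.lf 0x36a))) (.nd (.nd (.lf 0x6e9) (.lf 0xee7)) (.nd (.lf 0xbea) (.lf 0)))))))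
def tabT1_nbaabba : Tr := (.nd (.nd (.nd (.nd (.nd (.nd (.lf 0x34) (.lf 0xc12)) (.nd (.lf 0x56c) (.lf 0xacd))) (.nd (.nd (.lf 0x3fb) (.lf 0xccb)) (.nd (.lf 0x9de) (.lf 0xec0)))) (.nd (.nd (.nd (.lf 0x227) (.lf 0xcf5)) (.nd (.lf 0x8a2) (.lf 0xd58))) (.nd (.nd (.lf 0x59f) (.lf 0xe78)) (.nd (.lf 0xa53) (.lf 0xe62))))) (.nd (.nd (.nd (.nd (.lf 0x1d) (.lf 0xc86)) (.nd (.lf 0x7ec) (.lf 0xf32))) (.nd (.nd (.lf 0x4ca) (.lf 0x5e3)) (.nd (.lf 0xa72) (.lf 0x466)))) (.nd (.nd (.nd (.lf 0x318) (.lf 0x896)) (.nd (.lf 0x943) (.lf 0x8ad))) (.nd (.nd (.lf 0x66e) (.lf 0xe76)) (.nd (.lf 0x8ef) (.lf 0xee4)))))) (.nd (.nd (.nd (.nd (.nd (.lf 0xb3) (.lf 0xc4d)) (.nd (.lf 0x2b1) (.lf 0x5ce))) (.nd (.nd (.lf 0x25e) (.lf 0xe00)) (.nd (.lf 0x51e) (.lf 0x8a1))))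 (.nd (.nd (.nd (.lf 0x2a0) (.lf 0xd2c)) (.nd (.lf 0x8f3) (.lf 0xc0e))) (.nd (.nd (.lf 0x319) (.lf 0xe43)) (.nd (.lf 0xb51) (.lf 0xd2f))))) (.nd (.nd (.nd (.nd (.lf 0x1ac) (.lf 0xcc0)) (.nd (.lf 0x842) (.lf 0xdf4))) (.nd (.nd (.lf 0x55) (.lf 0xe55)) (.nd (.lf 0xdc) (.lf 0x610)))) (.nd (.nd (.nd (.lf 0x38e) (.lf 0x172)) (.nd (.lf 0x991) (.lf 0xe27))) (.nd (.nd (.lf 0x3d) (.lf 0xce8)) (.nd (.lf 0xbda) (.lf 0x3e6)))))))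
def tabT1_nbaabbb : Tr := (.nd (.nd (.nd (.nd (.nd (.nd (.lf 0x74) (.lf 0x4bf)) (.nd (.lf 0x4b6) (.lf 0x366))) (.nd (.nd (.lf 0x42b) (.lf 0xde9)) (.nd (.lf 0x91b) (.lf 0xf8f)))) (.nd (.nd (.nd (.lf 0x265) (.lf 0x6f6)) (.nd (.lf 0x674) (.lf 0xabb))) (.nd (.nd (.lf 0x5d2) (.lf 0xc0)) (.nd (.lf 0xb2e) (.lf 0xf1d))))) (.nd (.nd (.nd (.nd (.lf 0x16d) (.lf 0xbd2)) (.nd (.lf 0x817) (.lf 0xca3))) (.nd (.nd (.lf 0x503) (.lf 0xe40)) (.nd (.lf 0xa94) (.lf 0xf98)))) (.nd (.nd (.nd (.lf 0x355) (.lf 0xd80)) (.nd (.lf 0x969) (.lf 0xd73))) (.nd (.nd (.lf 0x69f) (.lf 0x734)) (.nd (.lf 0xbb7) (.lf 0xe13)))))) (.nd (.nd (.nd (.nd (.nd (.lf 0xf3) (.lf 0xc6b)) (.nd (.lf 0x5ba) (.lf 0xf27))) (.nd (.nd (.lf 0x494) (.lf 0xe15)) (.nd (.lf 0xa4f) (.lf 0xfaf))))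 (.nd (.nd (.nd (.lf 0x2dc) (.lf 0xa13)) (.nd (.lf 0x719) (.lf 0xfe))) (.nd (.nd (.lf 0x290) (.lf 0xeb0)) (.nd (.lf 0xb72) (.lf 0xaf0))))) (.nd (.nd (.nd (.nd (.lf 0x1ea) (.lf 0xcd7)) (.nd (.lf 0x872) (.lf 0xcf8))) (.nd (.nd (.lf 0x56d) (.lf 0x5f2)) (.nd (.lf 0xae8) (.lf 0x41d)))) (.nd (.nd (.nd (.lf 0x139) (.lf 0x787)) (.nd (.lf 0x9b3) (.lf 0x2a5))) (.nd (.nd (.lf 0x706) (.lf 0x5ab)) (.nd (.lf 0xc8) (.lf 0)))))))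
def tabT1_nbabaaa : Tr := (.nd (.nd (.nd (.nd (.nd (.nd (.lf 0xc) (.lf 0xc02)) (.nd (.lf 0x713) (.lf 0xd9c))) (.nd (.nd (.lf 0x3d6) (.lf 0x3b)) (.nd (.lf 0x81b) (.lf 0x7db)))) (.nd (.nd (.nd (.lf 0x200) (.lf 0xcdf)) (.nd (.lf 0x882) (.lf 0xde4))) (.nd (.nd (.lf 0x3c8) (.lf 0xdeb)) (.nd (.lf 0x63f) (.lf 0xf59))))) (.nd (.nd (.nd (.nd (.lf 0x75) (.lf 0x4ec)) (.nd (.lf 0x7d0) (.lf 0x2fd))) (.nd (.nd (.lf 0x4a8) (.lf 0xe1d)) (.nd (.lf 0xa5d) (.lf 0xdbb)))) (.nd (.nd (.nd (.lf 0x2f1) (.lf 0x528)) (.nd (.lf 0x929) (.lf 0xe39))) (.nd (.nd (.lf 0x352) (.lf 0xb11)) (.nd (.lf 0xb81) (.lf 0xe51)))))) (.nd (.nd (.nd (.nd (.nd (.lf 0x8c) (.lf 0xc3d)) (.nd (.lf 0x770) (.lf 0xa2c))) (.nd (.nd (.lf 0x43f) (.lf 0xdf2)) (.nd (.lf 0xa0f) (.lf 0xfb8))))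 (.nd (.nd (.nd (.lf 0x27d) (.lf 0xba5)) (.nd (.lf 0x8d5) (.lf 0xb18))) (.nd (.nd (.lf 0x5e8) (.lf 0x499)) (.nd (.lf 0x41) (.lf 0xc59))))) (.nd (.nd (.nd (.nd (.lf 0x185) (.lf 0x9e2)) (.nd (.lf 0x828) (.lf 0xf40))) (.nd (.nd (.lf 0x517) (.lf 0xe49)) (.nd (.lf 0xaa5) (.lf 0xfa7)))) (.nd (.nd (.nd (.lf 0x36b) (.lf 0xd8a)) (.nd (.lf 0x93) (.lf 0xe02))) (.nd (.nd (.lf 0x6b1) (.lf 0x19b)) (.nd (.lf 0xbc2) (.lf 0xfc6)))))))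
def tabT1_nbabaab : Tr := (.nd (.nd (.nd (.nd (.nd (.nd (.lf 0x4c) (.lf 0xc21)) (.nd (.lf 0x73f) (.lf 0x6b))) (.nd (.nd (.lf 0x40f) (.lf 0xdb0)) (.nd (.lf 0x9e9) (.lf 0xfb1)))) (.nd (.nd (.nd (.lf 0x23f) (.lf 0xcff)) (.nd (.lf 0x526) (.lf 0x653))) (.nd (.nd (.lf 0x5b1) (.lf 0x3b1)) (.nd (.lf 0x935) (.lf 0x4d6))))) (.nd (.nd (.nd (.nd (.lf 0x148) (.lf 0x60d)) (.nd (.lf 0x7fc) (.lf 0xd53))) (.nd (.nd (.lf 0x4e1) (.lf 0x6f4)) (.nd (.lf 0x9d4) (.lf 0xfc5)))) (.nd (.nd (.nd (.lf 0x32e) (.lf 0x5a7)) (.nd (.lf 0x951) (.lf 0xb3d))) (.nd (.nd (.lf 0x682) (.lf 0x65)) (.nd (.lf 0x298) (.lf 0xe08)))))) (.nd (.nd (.nd (.nd (.nd (.lf 0xcb) (.lf 0x343)) (.nd (.lf 0x79e) (.lf 0x18e))) (.nd (.nd (.lf 0x471) (.lf 0x83a)) (.nd (.lf 0x3af) (.lf 0xf83))))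 (.nd (.nd (.nd (.lf 0x2b8) (.lf 0xd38)) (.nd (.lf 0x2e2) (.lf 0xe66))) (.nd (.nd (.lf 0x612) (.lf 0x7eb)) (.nd (.lf 0xb5d) (.lf 0x932))))) (.nd (.nd (.nd (.nd (.lf 0x1c4) (.lf 0x2c0)) (.nd (.lf 0x856) (.lf 0x9df))) (.nd (.nd (.lf 0x54a) (.lf 0x74c)) (.nd (.lf 0xacc) (.lf 0x399)))) (.nd (.nd (.nd (.lf 0x3a2) (.lf 0xce4)) (.nd (.lf 0x152) (.lf 0xeaa))) (.nd (.nd (.lf 0x6e4) (.lf 0x964)) (.nd (.lf 0xbe7) (.lf 0)))))))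
def tabT1_nbababa : Tr := (.nd (.nd (.nd (.nd (.nd (.nd (.lf 0x2c) (.lf 0xaff)) (.nd (.lf 0x729) (.lf 0xef9))) (.nd (.nd (.lf 0x3f3) (.lf 0x9b5)) (.nd (.lf 0x9d8) (.lf 0x97e)))) (.nd (.nd (.nd (.lf 0x220) (.lf 0x66b)) (.nd (.lf 0x2ea) (.lf 0xf5f))) (.nd (.nd (.lf 0x47e) (.lf 0xe75)) (.nd (.lf 0x9e4) (.lf 0x32d))))) (.nd (.nd (.nd (.nd (.lf 0x12a) (.lf 0xc83)) (.nd (.lf 0x30b) (.lf 0x395))) (.nd (.nd (.lf 0x4c5) (.lf 0x2dd)) (.nd (.lf 0x252) (.lf 0x7d8)))) (.nd (.nd (.nd (.lf 0x310) (.lf 0xd60)) (.nd (.lf 0x62e) (.lf 0xf87))) (.nd (.nd (.lf 0x667) (.lf 0xb13)) (.nd (.lf 0x59e) (.lf 0x69a)))))) (.nd (.nd (.nd (.nd (.nd (.lf 0xac) (.lf 0xc4a)) (.nd (.lf 0x784) (.lf 0xc49))) (.nd (.nd (.lf 0x457) (.lf 0xbb1)) (.nd (.lf 0xa27) (.lf 0xde7))))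 (.nd (.nd (.nd (.lf 0x299) (.lf 0xd28)) (.nd (.lf 0x8ec) (.lf 0x562))) (.nd (.nd (.lf 0x26e) (.lf 0xc03)) (.nd (.lf 0xb4d) (.lf 0x238))))) (.nd (.nd (.nd (.nd (.lf 0x1a4) (.lf 0x605)) (.nd (.lf 0x748) (.lf 0x1bb))) (.nd (.nd (.lf 0x52f) (.lf 0xdc7)) (.nd (.lf 0xab8) (.lf 0xd1e)))) (.nd (.nd (.nd (.lf 0x386) (.lf 0x8c1)) (.nd (.lf 0x98c) (.lf 0x317))) (.nd (.nd (.lf 0x6cc) (.lf 0xb60)) (.nd (.lf 0xbd6) (.lf 0xe3e)))))))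
def tabT1_nbababb : Tr := (.nd (.nd (.nd (.nd (.nd (.nd (.lf 0x6c) (.lf 0x358)) (.nd (.lf 0x758) (.lf 0xf05))) (.nd (.nd (.lf 0x424) (.lf 0xde6)) (.nd (.lf 0x9fb) (.lf 0x9f5)))) (.nd (.nd (.nd (.lf 0x25d) (.lf 0xd12)) (.nd (.lf 0x581) (.lf 0x4f4))) (.nd (.nd (.lf 0x5cc) (.lf 0xe88)) (.nd (.lf 0xb29) (.lf 0x703))))) (.nd (.nd (.nd (.nd (.lf 0xb2) (.lf 0xc9e)) (.nd (.lf 0x811) (.lf 0xcd8))) (.nd (.nd (.lf 0x4fc) (.lf 0x2ca)) (.nd (.lf 0x1a3) (.lf 0x215)))) (.nd (.nd (.nd (.lf 0x34e) (.lf 0xd7e)) (.nd (.lf 0x965) (.lf 0xf8e))) (.nd (.nd (.lf 0x433) (.lf 0xc32)) (.nd (.lf 0x83c) (.lf 0xb7a)))))) (.nd (.nd (.nd (.nd (.nd (.lf 0xeb) (.lf 0x7a3)) (.nd (.lf 0x7bb) (.lf 0xc77))) (.nd (.nd (.lf 0x1f0) (.lf 0x230)) (.nd (.lf 0x10b) (.lf 0x3f4))))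 (.nd (.nd (.nd (.lf 0x2d5) (.lf 0xd4b)) (.nd (.lf 0x740) (.lf 0x311))) (.nd (.nd (.lf 0x634) (.lf 0xaa8)) (.nd (.lf 0x63a) (.lf 0xb5e))))) (.nd (.nd (.nd (.nd (.lf 0x1e2) (.lf 0x48f)) (.nd (.lf 0x86a) (.lf 0xf51))) (.nd (.nd (.lf 0x567) (.lf 0x777)) (.nd (.lf 0x3e2) (.lf 0x6be)))) (.nd (.nd (.nd (.lf 0x31b) (.lf 0x931)) (.nd (.lf 0x74a) (.lf 0x571))) (.nd (.nd (.lf 0x6fe) (.lf 0xeec)) (.nd (.lf 0xbf5) (.lf 0)))))))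
def tabT1_nbabbaa : Tr := (.nd (.nd (.nd (.nd (.nd (.nd (.lf 0x1c) (.lf 0x250)) (.nd (.lf 0x71e) (.lf 0x5b8))) (.nd (.nd (.lf 0x3e3) (.lf 0xad3)) (.nd (.lf 0x1b5) (.lf 0xea4)))) (.nd (.nd (.nd (.lf 0x210) (.lf 0x117)) (.nd (.lf 0x88e) (.lf 0xafd))) (.nd (.nd (.lf 0x25) (.lf 0xe24)) (.nd (.lf 0xb00) (.lf 0xd48))))) (.nd (.nd (.nd (.nd (.lf 0x11a) (.lf 0x77a)) (.nd (.lf 0x7da) (.lf 0xdfe))) (.nd (.nd (.lf 0x4b7) (.lf 0x962)) (.nd (.lf 0xa65) (.lf 0xcfd)))) (.nd (.nd (.nd (.lf 0x300) (.lf 0xcc8)) (.nd (.lf 0x934) (.lf 0x966))) (.nd (.nd (.lf 0x65a) (.lf 0x8de)) (.nd (.lf 0xb89) (.lf 0xf8c)))))) (.nd (.nd (.nd (.nd (.nd (.lf 0x9c) (.lf 0xc45)) (.nd (.lf 0x779) (.lf 0xf17))) (.nd (.nd (.lf 0x44a) (.lf 0xdfa)) (.nd (.lf 0xa1c) (.lf 0x914))))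 (.nd (.nd (.nd (.lf 0x28a) (.lf 0xd23)) (.nd (.lf 0x8e0) (.lf 0xcd6))) (.nd (.nd (.lf 0x5f7) (.lf 0xfc)) (.nd (.lf 0xb46) (.lf 0x437))))) (.nd (.nd (.nd (.nd (.lf 0x195) (.lf 0xbef)) (.nd (.lf 0x80d) (.lf 0xb85))) (.nd (.nd (.lf 0x520) (.lf 0x6b5)) (.nd (.lf 0xab0) (.lf 0xe0e)))) (.nd (.nd (.nd (.lf 0x379) (.lf 0x640)) (.nd (.lf 0x984) (.lf 0x8d1))) (.nd (.nd (.lf 0x6bd) (.lf 0xed5)) (.nd (.lf 0x1fb) (.lf 0xe16)))))))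
def tabT1_nbabbab : Tr := (.nd (.nd (.nd (.nd (.nd (.nd (.lf 0x5c) (.lf 0xbb3)) (.nd (.lf 0x74b) (.lf 0xe77))) (.nd (.nd (.lf 0x345) (.lf 0xd0f)) (.nd (.lf 0x9f4) (.lf 0x81e)))) (.nd (.nd (.nd (.lf 0x24d) (.lf 0xd08)) (.nd (.lf 0x8b7) (.lf 0xf56))) (.nd (.nd (.lf 0x5bf) (.lf 0xb5a)) (.nd (.lf 0x2f4) (.lf 0xf28))))) (.nd (.nd (.nd (.nd (.lf 0x157) (.lf 0xc99)) (.nd (.lf 0x5b0) (.lf 0xd25))) (.nd (.nd (.lf 0x4ee) (.lf 0x260)) (.nd (.lf 0xa86) (.lf 0x226)))) (.nd (.nd (.nd (.lf 0x33e) (.lf 0xd79)) (.nd (.lf 0x95c) (.lf 0x53e))) (.nd (.nd (.lf 0x68b) (.lf 0xe5c)) (.nd (.lf 0xbac) (.lf 0xf7b)))))) (.nd (.nd (.nd (.nd (.nd (.lf 0xdb) (.lf 0x2b5)) (.nd (.lf 0x7ac) (.lf 0xf21))) (.nd (.nd (.lf 0x47d) (.lf 0xae7)) (.nd (.lf 0xa43) (.lf 0xaa1))))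 (.nd (.nd (.nd (.lf 0x176) (.lf 0xd3f)) (.nd (.lf 0x90c) (.lf 0xf14))) (.nd (.nd (.lf 0x627) (.lf 0xb7d)) (.nd (.lf 0xb66) (.lf 0xed2))))) (.nd (.nd (.nd (.nd (.lf 0x1d3) (.lf 0xb04)) (.nd (.lf 0x3a5) (.lf 0xf4e))) (.nd (.nd (.lf 0x559) (.lf 0x716)) (.nd (.lf 0x840) (.lf 0xfba)))) (.nd (.nd (.nd (.lf 0x3b0) (.lf 0xda8)) (.nd (.lf 0x361) (.lf 0xe0d))) (.nd (.nd (.lf 0x6f0) (.lf 0x592)) (.nd (.lf 0xd2) (.lf 0)))))))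
def tabT1_nbabbba : Tr := (.nd (.nd (.nd (.nd (.nd (.nd (.lf 0x3c) (.lf 0x7be)) (.nd (.lf 0x733) (.lf 0xc4b))) (.nd (.nd (.lf 0x402) (.lf 0xca)) (.nd (.lf 0x9e1) (.lf 0xfad)))) (.nd (.nd (.nd (.lf 0x22f) (.lf 0x9e6)) (.nd (.lf 0x8a7) (.lf 0xaaf))) (.nd (.nd (.lf 0x544) (.lf 0xe79)) (.nd (.lf 0xa5f) (.lf 0x6ef))))) (.nd (.nd (.nd (.nd (.lf 0x138) (.lf 0xc8a)) (.nd (.lf 0x7f3) (.lf 0xf25))) (.nd (.nd (.lf 0x4d2) (.lf 0xe2c)) (.nd (.lf 0xa76) (.lf 0xebb)))) (.nd (.nd (.nd (.lf 0x320) (.lf 0xca8)) (.nd (.lf 0x946) (.lf 0xf72))) (.nd (.nd (.lf 0x675) (.lf 0xa15)) (.nd (.lf 0xb9c) (.lf 0xfab)))))) (.nd (.nd (.nd (.nd (.nd (.lf 0xbb) (.lf 0x3bf)) (.nd (.lf 0x791) (.lf 0x34b))) (.nd (.nd (.lf 0x464) (.lf 0xc5e)) (.nd (.lf 0xa32) (.lf 0xfbb))))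 (.nd (.nd (.nd (.lf 0x2a8) (.lf 0x1f7)) (.nd (.lf 0x4e2) (.lf 0xef0))) (.nd (.nd (.lf 0x60e) (.lf 0xaeb)) (.nd (.lf 0xb57) (.lf 0xe85))))) (.nd (.nd (.nd (.nd (.lf 0x1b4) (.lf 0xc14)) (.nd (.lf 0x847) (.lf 0xbe5))) (.nd (.nd (.lf 0x53b) (.lf 0xd98)) (.nd (.lf 0xa8b) (.lf 0xee2)))) (.nd (.nd (.nd (.lf 0x2ad) (.lf 0xd9b)) (.nd (.lf 0x4ea) (.lf 0xf99))) (.nd (.nd (.lf 0x6d7) (.lf 0x5ef)) (.nd (.lf 0xbdd) (.lf 0)))))))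
def tabT1_nbabbbb : Tr := (.nd (.nd (.nd (.nd (.nd (.nd (.lf 0x7c) (.lf 0xc38)) (.nd (.lf 0x765) (.lf 0x48c))) (.nd (.nd (.lf 0x49) (.lf 0xdec)) (.nd (.lf 0x9a0) (.lf 0x9c9)))) (.nd (.nd (.nd (.lf 0x26d) (.lf 0xd17)) (.nd (.lf 0x8ca) (.lf 0x881))) (.nd (.nd (.lf 0x5da) (.lf 0xe8c)) (.nd (.lf 0x451) (.lf 0xf89))))) (.nd (.nd (.nd (.nd (.lf 0x175) (.lf 0xca7)) (.nd (.lf 0x81c) (.lf 0xbc0))) (.nd (.nd (.lf 0x165) (.lf 0x2d0)) (.nd (.lf 0xa9b) (.lf 0x73)))) (.nd (.nd (.nd (.lf 0x35c) (.lf 0x7ca)) (.nd (.lf 0x18c) (.lf 0x53))) (.nd (.nd (.lf 0x6a5) (.lf 0xece)) (.nd (.lf 0x594) (.lf 0xfac)))))) (.nd (.nd (.nd (.nd (.nd (.lf 0xfb) (.lf 0xc6f)) (.nd (.lf 0x7c6) (.lf 0xc8b))) (.nd (.nd (.lf 0x49a) (.lf 0x463)) (.nd (.lf 0x79f) (.lf 0x2d))))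 (.nd (.nd (.nd (.lf 0x2e3) (.lf 0x33b)) (.nd (.lf 0x71d) (.lf 0x80f))) (.nd (.nd (.lf 0x641) (.lf 0x74d)) (.nd (.lf 0xb79) (.lf 0xf01))))) (.nd (.nd (.nd (.nd (.lf 0x1f1) (.lf 0xcdb)) (.nd (.lf 0x878) (.lf 0xad))) (.nd (.nd (.lf 0x573) (.lf 0x5ed)) (.nd (.lf 0x75a) (.lf 0xbbe)))) (.nd (.nd (.nd (.lf 0x3c7) (.lf 0x419)) (.nd (.lf 0x9b9) (.lf 0xfa0))) (.nd (.nd (.lf 0x3ac) (.lf 0xcb9)) (.nd (.lf 0xbfc) (.lf 0)))))))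
def tabT1_nbbaaaa : Tr := (.nd (.nd (.nd (.nd (.nd (.nd (.lf 0x8) (.lf 0x6df)) (.nd (.lf 0x57b) (.lf 0x3b4))) (.nd (.nd (.lf 0x3d2) (.lf 0xdbe)) (.nd (.lf 0x4f1) (.lf 0x448)))) (.nd (.nd (.nd (.lf 0x1fc) (.lf 0x901)) (.nd (.lf 0x680) (.lf 0xf57))) (.nd (.nd (.lf 0x57d) (.lf 0x303)) (.nd (.lf 0x91c) (.lf 0xfb7))))) (.nd (.nd (.nd (.nd (.lf 0x107) (.lf 0x95e)) (.nd (.lf 0x7cc) (.lf 0xf2a))) (.nd (.nd (.lf 0x4a4) (.lf 0xe1c)) (.nd (.lf 0xa59) (.lf 0xa9c)))) (.nd (.nd (.nd (.lf 0x2ee) (.lf 0xcb7)) (.nd (.lf 0x721) (.lf 0x70b))) (.nd (.nd (.lf 0x64c) (.lf 0xeb3)) (.nd (.lf 0xb80) (.lf 0xdd7)))))) (.nd (.nd (.nd (.nd (.nd (.lf 0x88) (.lf 0x486)) (.nd (.lf 0x76d) (.lf 0x7c9))) (.nd (.nd (.lf 0x43b) (.lf 0x4e8)) (.nd (.lf 0xa0c) (.lf 0xbf6))))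 (.nd (.nd (.nd (.lf 0x279) (.lf 0x812)) (.nd (.lf 0x8d2) (.lf 0x8c7))) (.nd (.nd (.lf 0x5e4) (.lf 0xe61)) (.nd (.lf 0xb3c) (.lf 0xd10))))) (.nd (.nd (.nd (.nd (.lf 0x181) (.lf 0x9cf)) (.nd (.lf 0x824) (.lf 0xbad))) (.nd (.nd (.lf 0x247) (.lf 0x38d)) (.nd (.lf 0x4e0) (.lf 0xbe9)))) (.nd (.nd (.nd (.lf 0x367) (.lf 0x57)) (.nd (.lf 0x977) (.lf 0xf90))) (.nd (.nd (.lf 0x6ae) (.lf 0xa4a)) (.nd (.lf 0x72c) (.lf 0x560)))))))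
def tabT1_nbbaaab : Tr := (.nd (.nd (.nd (.nd (.nd (.nd (.lf 0x48) (.lf 0x68c)) (.nd (.lf 0x73c) (.lf 0xefd))) (.nd (.nd (.lf 0x40b) (.lf 0xbf8)) (.nd (.lf 0x905) (.lf 0xfb0)))) (.nd (.nd (.nd (.lf 0x23b) (.lf 0x7b2)) (.nd (.lf 0x8ab) (.lf 0xf62))) (.nd (.nd (.lf 0x5af) (.lf 0xe7c)) (.nd (.lf 0x91d) (.lf 0xae3))))) (.nd (.nd (.nd (.nd (.lf 0x144) (.lf 0x266)) (.nd (.lf 0x7f9) (.lf 0xf37))) (.nd (.nd (.lf 0x4dd) (.lf 0x9ff)) (.nd (.lf 0xa7a) (.lf 0x5a0)))) (.nd (.nd (.nd (.lf 0x32a) (.lf 0xa5)) (.nd (.lf 0x94e) (.lf 0x475))) (.nd (.nd (.lf 0x67f) (.lf 0xd56)) (.nd (.lf 0x98d) (.lf 0xf29)))))) (.nd (.nd (.nd (.nd (.nd (.lf 0xc7) (.lf 0x5a4)) (.nd (.lf 0x79a) (.lf 0x3c1))) (.nd (.nd (.lf 0x2ec) (.lf 0xe05)) (.nd (.lf 0xa3b) (.lf 0xd4))))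 (.nd (.nd (.nd (.lf 0x2b4) (.lf 0x93d)) (.nd (.lf 0x8ff) (.lf 0xd43))) (.nd (.nd (.lf 0x617) (.lf 0xc33)) (.nd (.lf 0xa7b) (.lf 0x76f))))) (.nd (.nd (.nd (.nd (.lf 0x1c0) (.lf 0xe4)) (.nd (.lf 0x852) (.lf 0x69c))) (.nd (.nd (.lf 0x40e) (.lf 0xe59)) (.nd (.lf 0xac9) (.lf 0xe01)))) (.nd (.nd (.nd (.lf 0x39e) (.lf 0xd9d)) (.nd (.lf 0x635) (.lf 0xe67))) (.nd (.nd (.lf 0x6e2) (.lf 0xeca)) (.nd (.lf 0xbe4) (.lf 0)))))))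
def tabT1_nbbaaba : Tr := (.nd (.nd (.nd (.nd (.nd (.nd (.lf 0x28) (.lf 0xa51)) (.nd (.lf 0x726) (.lf 0x6e1))) (.nd (.nd (.lf 0x3ef) (.lf 0x916)) (.nd (.lf 0xe8) (.lf 0x47c)))) (.nd (.nd (.nd (.lf 0x21c) (.lf 0xcd5)) (.nd (.lf 0x897) (.lf 0x1e3))) (.nd (.nd (.lf 0x245) (.lf 0xe72)) (.nd (.lf 0x816) (.lf 0xf69))))) (.nd (.nd (.nd (.nd (.lf 0x126) (.lf 0x446)) (.nd (.lf 0x7e3) (.lf 0x794))) (.nd (.nd (.lf 0x4c2) (.lf 0x12f)) (.nd (.lf 0x1ad) (.lf 0xfc2)))) (.nd (.nd (.nd (.lf 0x30c) (.lf 0xa58)) (.nd (.lf 0x93b) (.lf 0x4f7))) (.nd (.nd (.lf 0x663) (.lf 0x9f9)) (.nd (.lf 0xb8f) (.lf 0xf34)))))) (.nd (.nd (.nd (.nd (.nd (.lf 0xa8) (.lf 0xc48)) (.nd (.lf 0x781) (.lf 0xf0b))) (.nd (.nd (.lf 0x454) (.lf 0xdfc)) (.nd (.lf 0xa23) (.lf 0x30f))))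 (.nd (.nd (.nd (.lf 0x295) (.lf 0x83)) (.nd (.lf 0x8e9) (.lf 0x484))) (.nd (.nd (.lf 0x5fe) (.lf 0xdd6)) (.nd (.lf 0x425) (.lf 0xec5))))) (.nd (.nd (.nd (.nd (.lf 0x1a0) (.lf 0x335)) (.nd (.lf 0x83b) (.lf 0x5b2))) (.nd (.nd (.lf 0x52b) (.lf 0xdab)) (.nd (.lf 0x906) (.lf 0xfc9)))) (.nd (.nd (.nd (.lf 0x382) (.lf 0x7d4)) (.nd (.lf 0x98a) (.lf 0x58f))) (.nd (.nd (.lf 0x6c9) (.lf 0x83e)) (.nd (.lf 0xbd4) (.lf 0xd9e)))))))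
def tabT1_nbbaabb : Tr := (.nd (.nd (.nd (.nd (.nd (.nd (.lf 0x68) (.lf 0x4a3)) (.nd (.lf 0x755) (.lf 0xf03))) (.nd (.nd (.lf 0x422) (.lf 0xde3)) (.nd (.lf 0x642) (.lf 0xbf4)))) (.nd (.nd (.nd (.lf 0x259) (.lf 0x506)) (.nd (.lf 0x8be) (.lf 0x42c))) (.nd (.nd (.lf 0x5c8) (.lf 0xe30)) (.nd (.lf 0xb26) (.lf 0xfd5))))) (.nd (.nd (.nd (.nd (.lf 0x162) (.lf 0xc9c)) (.nd (.lf 0x80e) (.lf 0xbb6))) (.nd (.nd (.lf 0x4f8) (.lf 0x862)) (.nd (.lf 0x4e5) (.lf 0xfbe)))) (.nd (.nd (.nd (.lf 0x34a) (.lf 0xad9)) (.nd (.lf 0x961) (.lf 0xf8d))) (.nd (.nd (.lf 0x696) (.lf 0x37b)) (.nd (.lf 0xbb2) (.lf 0xfbf)))))) (.nd (.nd (.nd (.nd (.nd (.lf 0xe7) (.lf 0xc67)) (.nd (.lf 0x7b7) (.lf 0xc11))) (.nd (.nd (.lf 0x489) (.lf 0xa20)) (.nd (.lf 0x82f) (.lf 0x2df))))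 (.nd (.nd (.nd (.lf 0x2d1) (.lf 0xafb)) (.nd (.lf 0x915) (.lf 0xb42))) (.nd (.nd (.lf 0x631) (.lf 0xad7)) (.nd (.lf 0x873) (.lf 0xbae))))) (.nd (.nd (.nd (.nd (.lf 0x1de) (.lf 0xcd2)) (.nd (.lf 0x1bf) (.lf 0xf50))) (.nd (.nd (.lf 0x563) (.lf 0x274)) (.nd (.lf 0x296) (.lf 0xe5a)))) (.nd (.nd (.nd (.lf 0x3b8) (.lf 0xdb2)) (.nd (.lf 0x9aa) (.lf 0x542))) (.nd (.nd (.lf 0x6a9) (.lf 0x7d9)) (.nd (.lf 0xbf2) (.lf 0)))))))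
def tabT1_nbbabaa : Tr := (.nd (.nd (.nd (.nd (.nd (.nd (.lf 0x18) (.lf 0xc07)) (.nd (.lf 0x71a) (.lf 0xef5))) (.nd (.nd (.lf 0x3df) (.lf 0x9a4)) (.nd (.lf 0x9ca) (.lf 0xdf3)))) (.nd (.nd (.nd (.lf 0x20c) (.lf 0xce5)) (.nd (.lf 0x88b) (.lf 0xf5b))) (.nd (.nd (.lf 0x588) (.lf 0xd8)) (.nd (.lf 0xafc) (.lf 0xfcf))))) (.nd (.nd (.nd (.nd (.lf 0x116) (.lf 0xc78)) (.nd (.lf 0x746) (.lf 0x13b))) (.nd (.nd (.lf 0x4b3) (.lf 0x9ab)) (.nd (.lf 0xa62) (.lf 0xbc1)))) (.nd (.nd (.nd (.lf 0x283) (.lf 0x2f2)) (.nd (.lf 0x1b3) (.lf 0x956))) (.nd (.nd (.lf 0x658) (.lf 0xeba)) (.nd (.lf 0x660) (.lf 0x6fb)))))) (.nd (.nd (.nd (.nd (.nd (.lf 0x98) (.lf 0x3ee)) (.nd (.lf 0x535) (.lf 0x94a))) (.nd (.nd (.lf 0x447) (.lf 0xdf8)) (.nd (.lf 0xa19) (.lf 0xf49))))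 (.nd (.nd (.nd (.lf 0x287) (.lf 0x538)) (.nd (.lf 0x8dd) (.lf 0xdbf))) (.nd (.nd (.lf 0x5f3) (.lf 0x27a)) (.nd (.lf 0x63) (.lf 0x305))))) (.nd (.nd (.nd (.nd (.lf 0x191) (.lf 0x2f8)) (.nd (.lf 0x830) (.lf 0x9e0))) (.nd (.nd (.lf 0x1bd) (.lf 0xe4e)) (.nd (.lf 0x356) (.lf 0xf43)))) (.nd (.nd (.nd (.lf 0x375) (.lf 0x477)) (.nd (.lf 0x981) (.lf 0x724))) (.nd (.nd (.lf 0x41b) (.lf 0xed4)) (.nd (.lf 0xbcb) (.lf 0x843)))))))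
def tabT1_nbbabab : Tr := (.nd (.nd (.nd (.nd (.nd (.nd (.lf 0x58) (.lf 0x383)) (.nd (.lf 0x747) (.lf 0x57e))) (.nd (.nd (.lf 0x321) (.lf 0xddb)) (.nd (.lf 0x9f0) (.lf 0x12d)))) (.nd (.nd (.nd (.lf 0x221) (.lf 0xc10)) (.nd (.lf 0x205) (.lf 0xf66))) (.nd (.nd (.lf 0x5bb) (.lf 0xb9f)) (.nd (.lf 0xb1f) (.lf 0x7a6))))) (.nd (.nd (.nd (.nd (.lf 0x153) (.lf 0xa1d)) (.nd (.lf 0x804) (.lf 0xa1b))) (.nd (.nd (.lf 0x4eb) (.lf 0x430)) (.nd (.lf 0xa83) (.lf 0xab7)))) (.nd (.nd (.nd (.lf 0x33a) (.lf 0xee)) (.nd (.lf 0x95a) (.lf 0xca2))) (.nd (.nd (.lf 0x687) (.lf 0x771)) (.nd (.lf 0x6c2) (.lf 0xd29)))))) (.nd (.nd (.nd (.nd (.nd (.lf 0xd7) (.lf 0xa9d)) (.nd (.lf 0x7a9) (.lf 0xf1f))) (.nd (.nd (.lf 0x40a) (.lf 0x285)) (.nd (.lf 0x410) (.lf 0x23e))))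 (.nd (.nd (.nd (.lf 0x9b) (.lf 0xd3d)) (.nd (.lf 0x90a) (.lf 0xe57))) (.nd (.nd (.lf 0x624) (.lf 0x339)) (.nd (.lf 0x8d9) (.lf 0xa6d))))) (.nd (.nd (.nd (.nd (.lf 0x1cf) (.lf 0xc30)) (.nd (.lf 0x50f) (.lf 0x62c))) (.nd (.nd (.lf 0x555) (.lf 0xe5f)) (.nd (.lf 0xad6) (.lf 0xa75)))) (.nd (.nd (.nd (.lf 0x3ad) (.lf 0x19f)) (.nd (.lf 0x301) (.lf 0x111))) (.nd (.nd (.lf 0x6ec) (.lf 0xa55)) (.nd (.lf 0x1f6) (.lf 0)))))))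
def tabT1_nbbabba : Tr := (.nd (.nd (.nd (.nd (.nd (.nd (.lf 0x38) (.lf 0x8ea)) (.nd (.lf 0x730) (.lf 0x566))) (.nd (.nd (.lf 0x3fe) (.lf 0xdd0)) (.nd (.lf 0x91f) (.lf 0xacf)))) (.nd (.nd (.nd (.lf 0x22b) (.lf 0xcf6)) (.nd (.lf 0x8a5) (.lf 0xbd0))) (.nd (.nd (.lf 0x5a3) (.lf 0x827)) (.nd (.lf 0xb0c) (.lf 0xf95))))) (.nd (.nd (.nd (.nd (.lf 0x91) (.lf 0x278)) (.nd (.lf 0x7f0) (.lf 0xf33))) (.nd (.nd (.lf 0x4ce) (.lf 0xe2b)) (.nd (.lf 0x780) (.lf 0x62a)))) (.nd (.nd (.nd (.lf 0x31c) (.lf 0x584)) (.nd (.lf 0x944) (.lf 0x8ae))) (.nd (.nd (.lf 0x51c) (.lf 0xe9f)) (.nd (.lf 0x597) (.lf 0x97d)))))) (.nd (.nd (.nd (.nd (.nd (.lf 0xb7) (.lf 0xc4f)) (.nd (.lf 0x78d) (.lf 0xf1a))) (.nd (.nd (.lf 0x460) (.lf 0x5d9)) (.nd (.lf 0xa2e) (.lf 0xfb3))))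 (.nd (.nd (.nd (.lf 0x2a4) (.lf 0xd2d)) (.nd (.lf 0x8f6) (.lf 0xd65))) (.nd (.nd (.lf 0x60b) (.lf 0xda6)) (.nd (.lf 0xb53) (.lf 0xe11))))) (.nd (.nd (.nd (.nd (.lf 0x1b0) (.lf 0x87c)) (.nd (.lf 0x47a) (.lf 0x1a7))) (.nd (.nd (.lf 0x537) (.lf 0xc5b)) (.nd (.lf 0xac0) (.lf 0xec6)))) (.nd (.nd (.nd (.lf 0x392) (.lf 0xb4a)) (.nd (.lf 0x994) (.lf 0xc28))) (.nd (.nd (.lf 0x32b) (.lf 0x58e)) (.nd (.lf 0x5e1) (.lf 0xb27)))))))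
def tabT1_nbbabbb : Tr := (.nd (.nd (.nd (.nd (.nd (.nd (.lf 0x78) (.lf 0xc36)) (.nd (.lf 0x761) (.lf 0xf0c))) (.nd (.nd (.lf 0x42f) (.lf 0x51f)) (.nd (.lf 0xa03) (.lf 0xfb5)))) (.nd (.nd (.nd (.lf 0x269) (.lf 0xd16)) (.nd (.lf 0x8c8) (.lf 0xf6d))) (.nd (.nd (.lf 0x5d6) (.lf 0xdb1)) (.nd (.lf 0xb31) (.lf 0xddd))))) (.nd (.nd (.nd (.nd (.lf 0x171) (.lf 0x82a)) (.nd (.lf 0x81a) (.lf 0x7cf))) (.nd (.nd (.lf 0x507) (.lf 0xb32)) (.nd (.lf 0xa98) (.lf 0xeb5)))) (.nd (.nd (.nd (.lf 0x359) (.lf 0xd83)) (.nd (.lf 0x96c) (.lf 0x5fa))) (.nd (.nd (.lf 0x6a2) (.lf 0xecc)) (.nd (.lf 0xaf5) (.lf 0xddf)))))) (.nd (.nd (.nd (.nd (.nd (.lf 0xf7) (.lf 0xc4c)) (.nd (.lf 0x67) (.lf 0x61))) (.nd (.nd (.lf 0x496) (.lf 0xe17)) (.nd (.lf 0xa52) (.lf 0x890))))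 (.nd (.nd (.nd (.lf 0x2e0) (.lf 0x9c1)) (.nd (.lf 0x91e) (.lf 0xb02))) (.nd (.nd (.lf 0x63e) (.lf 0xc17)) (.nd (.lf 0xb76) (.lf 0x7e2))))) (.nd (.nd (.nd (.nd (.lf 0x1ee) (.lf 0xcda)) (.nd (.lf 0x875) (.lf 0x695))) (.nd (.nd (.lf 0x570) (.lf 0x750)) (.nd (.lf 0xaec) (.lf 0xf78)))) (.nd (.nd (.nd (.lf 0x3c4) (.lf 0x8d6)) (.nd (.lf 0x9b6) (.lf 0x6d5))) (.nd (.nd (.lf 0x709) (.lf 0xeef)) (.nd (.lf 0xbfa) (.lf 0)))))))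
def tabT1_nbbbaaa : Tr := (.nd (.nd (.nd (.nd (.nd (.nd (.lf 0x10) (.lf 0xc05)) (.nd (.lf 0x715) (.lf 0xef4))) (.nd (.nd (.lf 0x3d9) (.lf 0x999)) (.nd (.lf 0x423) (.lf 0xbec)))) (.nd (.nd (.nd (.lf 0x204) (.lf 0xec)) (.nd (.lf 0x885) (.lf 0xaf))) (.nd (.nd (.lf 0xc4) (.lf 0xcfe)) (.nd (.lf 0xaf6) (.lf 0xc71))))) (.nd (.nd (.nd (.nd (.lf 0x10e) (.lf 0xc73)) (.nd (.lf 0x7d3) (.lf 0x307))) (.nd (.nd (.lf 0x4ac) (.lf 0xe12)) (.nd (.lf 0xa4e) (.lf 0xf0a)))) (.nd (.nd (.nd (.lf 0x2f5) (.lf 0x64f)) (.nd (.lf 0x92c) (.lf 0xa99))) (.nd (.nd (.lf 0x650) (.lf 0x836)) (.nd (.lf 0xb83) (.lf 0x14d)))))) (.nd (.nd (.nd (.nd (.nd (.lf 0x90) (.lf 0x939)) (.nd (.lf 0x773) (.lf 0x987))) (.nd (.nd (.lf 0x441) (.lf 0x4b2)) (.nd (.lf 0xa12) (.lf 0x95d))))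 (.nd (.nd (.nd (.lf 0x280) (.lf 0x119)) (.nd (.lf 0x7bc) (.lf 0xee3))) (.nd (.nd (.lf 0x5ec) (.lf 0xc09)) (.nd (.lf 0xb41) (.lf 0xfd8))))) (.nd (.nd (.nd (.nd (.lf 0x189) (.lf 0x9ea)) (.nd (.lf 0x829) (.lf 0xea9))) (.nd (.nd (.lf 0x51a) (.lf 0xe4b)) (.nd (.lf 0xaa7) (.lf 0xfc8)))) (.nd (.nd (.nd (.lf 0x36e) (.lf 0xb97)) (.nd (.lf 0x97c) (.lf 0xcd4))) (.nd (.nd (.lf 0x662) (.lf 0xab5)) (.nd (.lf 0xbc4) (.lf 0x3ec)))))))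
def tabT1_nbbbaab : Tr := (.nd (.nd (.nd (.nd (.nd (.nd (.lf 0x50) (.lf 0x989)) (.nd (.lf 0x77) (.lf 0xeff))) (.nd (.nd (.lf 0x313) (.lf 0xdd8)) (.nd (.lf 0x9ec) (.lf 0x4a9)))) (.nd (.nd (.nd (.lf 0x242) (.lf 0x66f)) (.nd (.lf 0x8af) (.lf 0xd5d))) (.nd (.nd (.lf 0x5b4) (.lf 0xb34)) (.nd (.lf 0xe0) (.lf 0xfd3))))) (.nd (.nd (.nd (.nd (.lf 0x14c) (.lf 0xc93)) (.nd (.lf 0x7ff) (.lf 0xdf5))) (.nd (.nd (.lf 0x4e4) (.lf 0x81)) (.nd (.lf 0xa7e) (.lf 0xf76)))) (.nd (.nd (.nd (.lf 0x332) (.lf 0xd72)) (.nd (.lf 0x879) (.lf 0xa61))) (.nd (.nd (.lf 0x3fa) (.lf 0x467)) (.nd (.lf 0xba8) (.lf 0xf4a)))))) (.nd (.nd (.nd (.nd (.nd (.lf 0xcf) (.lf 0xc5c)) (.nd (.lf 0x7a2) (.lf 0xeb1))) (.nd (.nd (.lf 0x249) (.lf 0x9a9)) (.nd (.lf 0x8b) (.lf 0xd67))))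 (.nd (.nd (.nd (.lf 0x2bc) (.lf 0xd3a)) (.nd (.lf 0x904) (.lf 0x6d8))) (.nd (.nd (.lf 0x61d) (.lf 0x893)) (.nd (.lf 0xb5f) (.lf 0x121))))) (.nd (.nd (.nd (.nd (.lf 0x1c8) (.lf 0xcc9)) (.nd (.lf 0x859) (.lf 0xa93))) (.nd (.nd (.lf 0x54e) (.lf 0x835)) (.nd (.lf 0xace) (.lf 0xfcc)))) (.nd (.nd (.nd (.lf 0x3a6) (.lf 0xa6e)) (.nd (.lf 0x776) (.lf 0xd50))) (.nd (.nd (.lf 0x6e6) (.lf 0x973)) (.nd (.lf 0x947) (.lf 0)))))))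
def tabT1_nbbbaba : Tr := (.nd (.nd (.nd (.nd (.nd (.nd (.lf 0x30) (.lf 0xb93)) (.nd (.lf 0x497) (.lf 0x6fa))) (.nd (.nd (.lf 0x3f7) (.lf 0xdce)) (.nd (.lf 0x9dc) (.lf 0xed6)))) (.nd (.nd (.nd (.lf 0x224) (.lf 0x1c9)) (.nd (.lf 0x89e) (.lf 0xe0b))) (.nd (.nd (.lf 0x59b) (.lf 0x329)) (.nd (.lf 0xb09) (.lf 0x4dc))))) (.nd (.nd (.nd (.nd (.lf 0x12e) (.lf 0xb54)) (.nd (.lf 0x7e9) (.lf 0xf30))) (.nd (.nd (.lf 0x4c7) (.lf 0xe28)) (.nd (.lf 0x67b) (.lf 0x55f)))) (.nd (.nd (.nd (.lf 0x314) (.lf 0xc74)) (.nd (.lf 0x940) (.lf 0xbe0))) (.nd (.nd (.lf 0x3a7) (.lf 0xe64)) (.nd (.lf 0xb94) (.lf 0x84c)))))) (.nd (.nd (.nd (.nd (.nd (.lf 0xb0) (.lf 0x9d7)) (.nd (.lf 0x788) (.lf 0xd8d))) (.nd (.nd (.lf 0x21f) (.lf 0xdfd)) (.nd (.lf 0xa29) (.lf 0x626))))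 (.nd (.nd (.nd (.lf 0x85) (.lf 0xd2a)) (.nd (.lf 0x64d) (.lf 0xe8a))) (.nd (.nd (.lf 0x604) (.lf 0x760)) (.nd (.lf 0xb50) (.lf 0xe41))))) (.nd (.nd (.nd (.nd (.lf 0x1a8) (.lf 0xcbf)) (.nd (.lf 0x83f) (.lf 0xe7e))) (.nd (.nd (.lf 0x532) (.lf 0xe54)) (.nd (.lf 0xaba) (.lf 0x1eb)))) (.nd (.nd (.nd (.lf 0x38a) (.lf 0xd97)) (.nd (.lf 0x98f) (.lf 0xcae))) (.nd (.nd (.lf 0x6cf) (.lf 0x46b)) (.nd (.lf 0x693) (.lf 0xaae)))))))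
def tabT1_nbbbabb : Tr := (.nd (.nd (.nd (.nd (.nd (.nd (.lf 0x70) (.lf 0xc34)) (.nd (.lf 0x75b) (.lf 0xf07))) (.nd (.nd (.lf 0x428) (.lf 0x54b)) (.nd (.lf 0x6d2) (.lf 0x2be)))) (.nd (.nd (.nd (.lf 0x261) (.lf 0xd15)) (.nd (.lf 0x8c2) (.lf 0x2c3))) (.nd (.nd (.lf 0x5cf) (.lf 0x491)) (.nd (.lf 0xb2b) (.lf 0x618))))) (.nd (.nd (.nd (.nd (.lf 0x169) (.lf 0xc1d)) (.nd (.lf 0x813) (.lf 0x648))) (.nd (.nd (.lf 0x4ff) (.lf 0xe3f)) (.nd (.lf 0xa90) (.lf 0x13)))) (.nd (.nd (.nd (.lf 0x351) (.lf 0x322)) (.nd (.lf 0x967) (.lf 0x9cd))) (.nd (.nd (.lf 0x421) (.lf 0xa05)) (.nd (.lf 0xbb5) (.lf 0xb56)))))) (.nd (.nd (.nd (.nd (.nd (.lf 0xef) (.lf 0xc6a)) (.nd (.lf 0x7bf) (.lf 0xf20))) (.nd (.nd (.lf 0x490) (.lf 0x26a)) (.nd (.lf 0x36f) (.lf 0x8c5))))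 (.nd (.nd (.nd (.lf 0x2d9) (.lf 0xac5)) (.nd (.lf 0x697) (.lf 0xd82))) (.nd (.nd (.lf 0x638) (.lf 0x474)) (.nd (.lf 0xb6f) (.lf 0xe6a))))) (.nd (.nd (.nd (.nd (.lf 0x1e6) (.lf 0xaf2)) (.nd (.lf 0x86e) (.lf 0x9b2))) (.nd (.nd (.lf 0x569) (.lf 0xd4c)) (.nd (.lf 0xae6) (.lf 0xf2e)))) (.nd (.nd (.nd (.lf 0x3be) (.lf 0x9fc)) (.nd (.lf 0x6db) (.lf 0x8fa))) (.nd (.nd (.lf 0x702) (.lf 0x970)) (.nd (.lf 0xb65) (.lf 0)))))))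
def tabT1_nbbbbaa : Tr := (.nd (.nd (.nd (.nd (.nd (.nd (.lf 0x20) (.lf 0xc0b)) (.nd (.lf 0x722) (.lf 0xe87))) (.nd (.nd (.lf 0x3e7) (.lf 0x4a1)) (.nd (.lf 0x9d0) (.lf 0x908)))) (.nd (.nd (.nd (.lf 0x214) (.lf 0xce9)) (.nd (.lf 0x3e0) (.lf 0xebc))) (.nd (.nd (.lf 0x449) (.lf 0xe6f)) (.nd (.lf 0x536) (.lf 0xd0))))) (.nd (.nd (.nd (.nd (.lf 0x11e) (.lf 0xc1f)) (.nd (.lf 0x7de) (.lf 0x2db))) (.nd (.nd (.lf 0x4bb) (.lf 0xe21)) (.nd (.lf 0xa67) (.lf 0x2cc)))) (.nd (.nd (.nd (.lf 0x304) (.lf 0x524)) (.nd (.lf 0x937) (.lf 0xf84))) (.nd (.nd (.lf 0x65d) (.lf 0x9be)) (.nd (.lf 0x628) (.lf 0xe52)))))) (.nd (.nd (.nd (.nd (.nd (.lf 0xa0) (.lf 0xc47)) (.nd (.lf 0x727) (.lf 0xcb3))) (.nd (.nd (.lf 0x44e) (.lf 0x582)) (.nd (.lf 0x9dd) (.lf 0x50b))))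 (.nd (.nd (.nd (.lf 0x28e) (.lf 0xe2)) (.nd (.lf 0x8e3) (.lf 0xdc6))) (.nd (.nd (.lf 0x2b7) (.lf 0xad5)) (.nd (.lf 0xb47) (.lf 0x207))))) (.nd (.nd (.nd (.nd (.lf 0x199) (.lf 0xcb8)) (.nd (.lf 0x7aa) (.lf 0x668))) (.nd (.nd (.lf 0x406) (.lf 0x9ba)) (.nd (.lf 0x1d4) (.lf 0xe0a)))) (.nd (.nd (.nd (.lf 0x37c) (.lf 0xd8f)) (.nd (.lf 0x985) (.lf 0x598))) (.nd (.nd (.lf 0x6c1) (.lf 0xed8)) (.nd (.lf 0xbcf) (.lf 0xf2f)))))))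
def tabT1_nbbbbab : Tr := (.nd (.nd (.nd (.nd (.nd (.nd (.lf 0x60) (.lf 0xc2b)) (.nd (.lf 0x74e) (.lf 0xead))) (.nd (.nd (.lf 0x41c) (.lf 0x43a)) (.nd (.lf 0x19) (.lf 0xc75)))) (.nd (.nd (.nd (.lf 0x251) (.lf 0xd0c)) (.nd (.lf 0x8ba) (.lf 0xf68))) (.nd (.nd (.lf 0x5c2) (.lf 0xba2)) (.nd (.lf 0xb22) (.lf 0x17e))))) (.nd (.nd (.nd (.nd (.lf 0x15a) (.lf 0x415)) (.nd (.lf 0x809) (.lf 0xf3a))) (.nd (.nd (.lf 0x4f2) (.lf 0x84e)) (.nd (.lf 0xa88) (.lf 0xc37)))) (.nd (.nd (.nd (.lf 0x342) (.lf 0xd7b)) (.nd (.lf 0x531) (.lf 0x5b))) (.nd (.nd (.lf 0x68e) (.lf 0xd6f)) (.nd (.lf 0x4ab) (.lf 0xe4a)))))) (.nd (.nd (.nd (.nd (.nd (.lf 0xdf) (.lf 0x8e6)) (.nd (.lf 0x7af) (.lf 0xcd3))) (.nd (.nd (.lf 0x481) (.lf 0xe0f)) (.nd (.lf 0xa45) (.lf 0x149))))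 (.nd (.nd (.nd (.lf 0x2c9) (.lf 0xd42)) (.nd (.lf 0x910) (.lf 0x1ef))) (.nd (.nd (.lf 0x62b) (.lf 0xea7)) (.nd (.lf 0x4fe) (.lf 0x1f2))))) (.nd (.nd (.nd (.nd (.lf 0x1d6) (.lf 0x4ed)) (.nd (.lf 0x863) (.lf 0xe3c))) (.nd (.nd (.lf 0x55d) (.lf 0xe60)) (.nd (.lf 0xadd) (.lf 0x630)))) (.nd (.nd (.nd (.lf 0x3b3) (.lf 0xdac)) (.nd (.lf 0x6d3) (.lf 0x6f1))) (.nd (.nd (.lf 0xf4) (.lf 0x607)) (.nd (.lf 0x980) (.lf 0)))))))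
def tabT1_nbbbbba : Tr := (.nd (.nd (.nd (.nd (.nd (.nd (.lf 0x40) (.lf 0xc1a)) (.nd (.lf 0xba) (.lf 0xbab))) (.nd (.nd (.lf 0x405) (.lf 0x9f8)) (.nd (.lf 0x9cc) (.lf 0xf80)))) (.nd (.nd (.nd (.lf 0x233) (.lf 0xc85)) (.nd (.lf 0xe6) (.lf 0xbfb))) (.nd (.nd (.lf 0x5a8) (.lf 0x6d6)) (.nd (.lf 0x6ed) (.lf 0xa0b))))) (.nd (.nd (.nd (.nd (.lf 0x13c) (.lf 0x20d)) (.nd (.lf 0x7f5) (.lf 0xf35))) (.nd (.nd (.lf 0x4d5) (.lf 0x72a)) (.nd (.lf 0x975) (.lf 0xb33)))) (.nd (.nd (.nd (.lf 0x323) (.lf 0xd6d)) (.nd (.lf 0x948) (.lf 0xb67))) (.nd (.nd (.lf 0x679) (.lf 0xdf9)) (.nd (.lf 0xb9e) (.lf 0xa7d)))))) (.nd (.nd (.nd (.nd (.nd (.lf 0xbf) (.lf 0x7e8)) (.nd (.lf 0x795) (.lf 0xa1f))) (.nd (.nd (.lf 0x3ea) (.lf 0x7b)) (.nd (.lf 0xa35) (.lf 0x23))))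 (.nd (.nd (.nd (.lf 0x2ac) (.lf 0xd31)) (.nd (.lf 0x8f9) (.lf 0xaa9))) (.nd (.nd (.lf 0x27f) (.lf 0x846)) (.nd (.lf 0xb59) (.lf 0x7cb))))) (.nd (.nd (.nd (.nd (.lf 0x1b8) (.lf 0xcc3)) (.nd (.lf 0x84b) (.lf 0x61c))) (.nd (.nd (.lf 0x53f) (.lf 0xddc)) (.nd (.lf 0x855) (.lf 0xd22)))) (.nd (.nd (.nd (.lf 0x398) (.lf 0xc25)) (.nd (.lf 0x997) (.lf 0xf9a))) (.nd (.nd (.lf 0x6da) (.lf 0x5eb)) (.nd (.lf 0x8c3) (.lf 0)))))))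
def tabT1_nbbbbbb : Tr := (.nd (.nd (.nd (.nd (.nd (.nd (.lf 0x80) (.lf 0x3c2)) (.nd (.lf 0x767) (.lf 0x459))) (.nd (.nd (.lf 0x435) (.lf 0x521)) (.nd (.lf 0x1ed) (.lf 0x20f)))) (.nd (.nd (.nd (.lf 0x271) (.lf 0xd19)) (.nd (.lf 0x8cc) (.lf 0x37))) (.nd (.nd (.lf 0x5de) (.lf 0xb58)) (.nd (.lf 0x7e5) (.lf 0x18a))))) (.nd (.nd (.nd (.nd (.lf 0x179) (.lf 0xca9)) (.nd (.lf 0x10d) (.lf 0xf3e))) (.nd (.nd (.lf 0x50d) (.lf 0x14b)) (.nd (.lf 0x530) (.lf 0xa3c)))) (.nd (.nd (.nd (.lf 0x360) (.lf 0x99)) (.nd (.lf 0x479) (.lf 0x666))) (.nd (.nd (.lf 0x6a7) (.lf 0x4da)) (.nd (.lf 0xa37) (.lf 0x74f)))))) (.nd (.nd (.nd (.nd (.nd (.lf 0xff) (.lf 0xbba)) (.nd (.lf 0x7c8) (.lf 0xec9))) (.nd (.nd (.lf 0x49d) (.lf 0xe19)) (.nd (.lf 0xa54) (.lf 0x5f4))))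 (.nd (.nd (.nd (.lf 0x2e7) (.lf 0xd52)) (.nd (.lf 0x923) (.lf 0xb77))) (.nd (.nd (.lf 0x645) (.lf 0xc13)) (.nd (.lf 0xb7b) (.lf 0xe82))))) (.nd (.nd (.nd (.nd (.lf 0x1f5) (.lf 0x5c1)) (.nd (.lf 0x732) (.lf 0xb01))) (.nd (.nd (.lf 0x576) (.lf 0xe69)) (.nd (.lf 0xaef) (.lf 0x959)))) (.nd (.nd (.nd (.lf 0x3cb) (.lf 0x7a4)) (.nd (.lf 0x9bc) (.lf 0xfa1))) (.nd (.nd (.lf 0x70d) (.lf 0xc43)) (.nd (.lf 0xbff) (.lf 0)))))))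
def tabT1 : Tr := (.nd (.nd (.nd (.nd (.nd (.nd tabT1_naaaaaa tabT1_naaaaab) (.nd tabT1_naaaaba tabT1_naaaabb)) (.nd (.nd tabT1_naaabaa tabT1_naaabab) (.nd tabT1_naaabba tabT1_naaabbb))) (.nd (.nd (.nd tabT1_naabaaa tabT1_naabaab) (.nd tabT1_naababa tabT1_naababb)) (.nd (.nd tabT1_naabbaa tabT1_naabbab) (.nd tabT1_naabbba tabT1_naabbbb)))) (.nd (.nd (.nd (.nd tabT1_nabaaaa tabT1_nabaaab) (.nd tabT1_nabaaba tabT1_nabaabb)) (.nd (.nd tabT1_nababaa tabT1_nababab) (.nd tabT1_nababba tabT1_nababbb))) (.nd (.nd (.nd tabT1_nabbaaa tabT1_nabbaab) (.nd tabT1_nabbaba tabT1_nabbabb)) (.nd (.nd tabT1_nabbbaa tabT1_nabbbab) (.nd tabT1_nabbbba tabT1_nabbbbb))))) (.nd (.nd (.nd (.nd (.nd tabT1_nbaaaaa tabT1_nbaaaab) (.nd tabT1_nbaaaba tabT1_nbaaabb))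 (.nd (.nd tabT1_nbaabaa tabT1_nbaabab) (.nd tabT1_nbaabba tabT1_nbaabbb))) (.nd (.nd (.nd tabT1_nbabaaa tabT1_nbabaab) (.nd tabT1_nbababa tabT1_nbababb)) (.nd (.nd tabT1_nbabbaa tabT1_nbabbab) (.nd tabT1_nbabbba tabT1_nbabbbb)))) (.nd (.nd (.nd (.nd tabT1_nbbaaaa tabT1_nbbaaab) (.nd tabT1_nbbaaba tabT1_nbbaabb)) (.nd (.nd tabT1_nbbabaa tabT1_nbbabab) (.nd tabT1_nbbabba tabT1_nbbabbb))) (.nd (.nd (.nd tabT1_nbbbaaa tabT1_nbbbaab) (.nd tabT1_nbbbaba tabT1_nbbbabb)) (.nd (.nd tabT1_nbbbbaa tabT1_nbbbbab) (.nd tabT1_nbbbbba tabT1_nbbbbbb))))))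
def witT1_naaaaaa : Tr := (.nd (.nd (.nd (.nd (.nd (.nd (.lf 0x0) (.lf 0x2605522)) (.nd (.lf 0x0) (.lf 0x76fb1e))) (.nd (.nd (.lf 0x0) (.lf 0x25067b0)) (.nd (.lf 0x235113a) (.lf 0x3aa792)))) (.nd (.nd (.nd (.lf 0x13702c) (.lf 0x3e055d)) (.nd (.lf 0x0) (.lf 0x0))) (.nd (.nd (.lf 0x0) (.lf 0x2c7048)) (.nd (.lf 0x2bb7721) (.lf 0x0))))) (.nd (.nd (.nd (.nd (.lf 0x0) (.lf 0x1c50c7)) (.nd (.lf 0x30ce804) (.lf 0x20bc493))) (.nd (.nd (.lf 0x0) (.lf 0x0)) (.nd (.lf 0x0) (.lf 0x8e8ea6)))) (.nd (.nd (.nd (.lf 0x0) (.lf 0xe13752)) (.nd (.lf 0x24002f9) (.lf 0x0))) (.nd (.nd (.lf 0x0) (.lf 0x2bab0a9)) (.nd (.lf 0x0) (.lf 0x755a24)))))) (.nd (.nd (.nd (.nd (.nd (.lf 0x0) (.lf 0x0)) (.nd (.lf 0x0) (.lf 0x0))) (.nd (.nd (.lf 0x0) (.lf 0x0)) (.nd (.lf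 0x9018dc) (.lf 0x8d73ab)))) (.nd (.nd (.nd (.lf 0x0) (.lf 0xcb0762)) (.nd (.lf 0x0) (.lf 0x2243886))) (.nd (.nd (.lf 0x0) (.lf 0x866b4e)) (.nd (.lf 0x0) (.lf 0x2d36ba3))))) (.nd (.nd (.nd (.nd (.lf 0x0) (.lf 0x0)) (.nd (.lf 0x0) (.lf 0x2bbe1fd))) (.nd (.nd (.lf 0x0) (.lf 0x0)) (.nd (.lf 0x0) (.lf 0x9ba8e4)))) (.nd (.nd (.nd (.lf 0x0) (.lf 0x10eb7c8)) (.nd (.lf 0x0) (.lf 0xa0adc7))) (.nd (.nd (.lf 0x0) (.lf 0x0)) (.nd (.lf 0x0) (.lf 0x432208)))))))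
def witT1_naaaaab : Tr := (.nd (.nd (.nd (.nd (.nd (.nd (.lf 0x0) (.lf 0x0)) (.nd (.lf 0x0) (.lf 0x4e4ea7))) (.nd (.nd (.lf 0x0) (.lf 0x253d25f)) (.nd (.lf 0x9cb962) (.lf 0x11ca13a)))) (.nd (.nd (.nd (.lf 0x0) (.lf 0x55e765)) (.nd (.lf 0x0) (.lf 0x28c91d1))) (.nd (.nd (.lf 0x0) (.lf 0x7c9775)) (.nd (.lf 0x0) (.lf 0x4bb952))))) (.nd (.nd (.nd (.nd (.lf 0x0) (.lf 0x0)) (.nd (.lf 0x0) (.lf 0xca8df8))) (.nd (.nd (.lf 0x0) (.lf 0x214b2e8)) (.nd (.lf 0x3bb230) (.lf 0x0)))) (.nd (.nd (.nd (.lf 0x6131a7) (.lf 0x6b8ff9)) (.nd (.lf 0x0) (.lf 0x3024cf3))) (.nd (.nd (.lf 0x2270e43) (.lf 0x1133674)) (.nd (.lf 0x27cb360) (.lf 0x24c8fb)))))) (.nd (.nd (.nd (.nd (.nd (.lf 0x0) (.lf 0x0)) (.nd (.lf 0x0) (.lf 0xf568c8))) (.nd (.nd (.lf 0x0) (.lf 0x2754854))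 (.nd (.lf 0x29ee984) (.lf 0xbf3d07)))) (.nd (.nd (.nd (.lf 0x0) (.lf 0x0)) (.nd (.lf 0x0) (.lf 0x1091e58))) (.nd (.nd (.lf 0x8e8d68) (.lf 0x90067c)) (.nd (.lf 0x9e6cf6) (.lf 0x3f6d6c))))) (.nd (.nd (.nd (.nd (.lf 0x0) (.lf 0x0)) (.nd (.lf 0x0) (.lf 0xc38412))) (.nd (.nd (.lf 0x0) (.lf 0x25ce741)) (.nd (.lf 0x0) (.lf 0x8be80a)))) (.nd (.nd (.nd (.lf 0x0) (.lf 0x998203)) (.nd (.lf 0x259f9d7) (.lf 0x4383bd))) (.nd (.nd (.lf 0x0) (.lf 0xc4f8fe)) (.nd (.lf 0x2fb3309) (.lf 0)))))))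
def witT1_naaaaba : Tr := (.nd (.nd (.nd (.nd (.nd (.nd (.lf 0x0) (.lf 0x0)) (.nd (.lf 0x5b0858) (.lf 0x0))) (.nd (.nd (.lf 0x0) (.lf 0xfa677b)) (.nd (.lf 0x2f75e5d) (.lf 0x0)))) (.nd (.nd (.nd (.lf 0x0) (.lf 0x0)) (.nd (.lf 0x0) (.lf 0x2df6d17))) (.nd (.nd (.lf 0x0) (.lf 0x68f819)) (.nd (.lf 0x64cc2f) (.lf 0x24c5de9))))) (.nd (.nd (.nd (.nd (.lf 0x0) (.lf 0x0)) (.nd (.lf 0x3135902) (.lf 0x0))) (.nd (.nd (.lf 0x0) (.lf 0x379650)) (.nd (.lf 0x0) (.lf 0x284474c)))) (.nd (.nd (.nd (.lf 0x0) (.lf 0x2f1381c)) (.nd (.lf 0x8401e3) (.lf 0x2c76f7e))) (.nd (.nd (.lf 0x0) (.lf 0x0)) (.nd (.lf 0x0) (.lf 0x2fad644)))))) (.nd (.nd (.nd (.nd (.nd (.lf 0x0) (.lf 0x4fcf6a)) (.nd (.lf 0x2f2e140) (.lf 0x2037d14))) (.nd (.nd (.lf 0x0) (.lf 0x5d2d02))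 (.nd (.lf 0x23d6cd9) (.lf 0x9116db)))) (.nd (.nd (.nd (.lf 0x0) (.lf 0xce16be)) (.nd (.lf 0x0) (.lf 0x23ec735))) (.nd (.nd (.lf 0x93643b) (.lf 0x0)) (.nd (.lf 0x26f6353) (.lf 0x114eb86))))) (.nd (.nd (.nd (.nd (.lf 0x0) (.lf 0x0)) (.nd (.lf 0x2e3e33b) (.lf 0x2630350))) (.nd (.nd (.lf 0x0) (.lf 0x210abd4)) (.nd (.lf 0x0) (.lf 0x22cdd4)))) (.nd (.nd (.nd (.lf 0x0) (.lf 0x0)) (.nd (.lf 0x0) (.lf 0x2b38aa7))) (.nd (.nd (.lf 0x0) (.lf 0x0)) (.nd (.lf 0x0) (.lf 0xa79ec)))))))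
def witT1_naaaabb : Tr := (.nd (.nd (.nd (.nd (.nd (.nd (.lf 0x0) (.lf 0x0)) (.nd (.lf 0x2826d66) (.lf 0x46d037))) (.nd (.nd (.lf 0x0) (.lf 0x52f6b5)) (.nd (.lf 0x8e0c5) (.lf 0x0)))) (.nd (.nd (.nd (.lf 0x0) (.lf 0x0)) (.nd (.lf 0x0) (.lf 0xb217f0))) (.nd (.nd (.lf 0x0) (.lf 0xc9a7b9)) (.nd (.lf 0x2162e8f) (.lf 0x10f8889))))) (.nd (.nd (.nd (.nd (.lf 0x0) (.lf 0x652bde)) (.nd (.lf 0x0) (.lf 0x6d0a85))) (.nd (.nd (.lf 0x0) (.lf 0x2cc0c7c)) (.nd (.lf 0x0) (.lf 0x299d4cf)))) (.nd (.nd (.nd (.lf 0x0) (.lf 0x2e87313)) (.nd (.lf 0x0) (.lf 0x0))) (.nd (.nd (.lf 0x0) (.lf 0x2c5d8a3)) (.nd (.lf 0x11db92b) (.lf 0x29f7922)))))) (.nd (.nd (.nd (.nd (.nd (.lf 0x0) (.lf 0x2193dd5)) (.nd (.lf 0x0) (.lf 0x0))) (.nd (.nd (.lf 0x0) (.lf 0x0)) (.nd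 (.lf 0x0) (.lf 0x2856cdf)))) (.nd (.nd (.nd (.lf 0x0) (.lf 0x0)) (.nd (.lf 0x0) (.lf 0x0))) (.nd (.nd (.lf 0x0) (.lf 0x0)) (.nd (.lf 0x94eeed) (.lf 0x3ae020))))) (.nd (.nd (.nd (.nd (.lf 0x0) (.lf 0x201e0ac)) (.nd (.lf 0x0) (.lf 0x259d88c))) (.nd (.nd (.lf 0x0) (.lf 0x29fd81f)) (.nd (.lf 0x0) (.lf 0x227d589)))) (.nd (.nd (.nd (.lf 0x0) (.lf 0x0)) (.nd (.lf 0x0) (.lf 0xaedd24))) (.nd (.nd (.lf 0x0) (.lf 0x9c4c41)) (.nd (.lf 0x574b89) (.lf 0)))))))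
def witT1_naaabaa : Tr := (.nd (.nd (.nd (.nd (.nd (.nd (.lf 0x0) (.lf 0x0)) (.nd (.lf 0x206edb9) (.lf 0x98ac80))) (.nd (.nd (.lf 0x224b7cb) (.lf 0x599942)) (.nd (.lf 0x0) (.lf 0x109f7c5)))) (.nd (.nd (.nd (.lf 0x0) (.lf 0x900d77)) (.nd (.lf 0x0) (.lf 0x3b8c42))) (.nd (.nd (.lf 0x0) (.lf 0x0)) (.nd (.lf 0x0) (.lf 0x1031cf2))))) (.nd (.nd (.nd (.nd (.lf 0x0) (.lf 0x2642aab)) (.nd (.lf 0x3f36f3) (.lf 0x2db5e2e))) (.nd (.nd (.lf 0x0) (.lf 0x0)) (.nd (.lf 0xea1502) (.lf 0x24991d2)))) (.nd (.nd (.nd (.lf 0x0) (.lf 0x2fc8718)) (.nd (.lf 0x0) (.lf 0xa74e43))) (.nd (.nd (.lf 0x0) (.lf 0x0)) (.nd (.lf 0x0) (.lf 0xf07632)))))) (.nd (.nd (.nd (.nd (.nd (.lf 0x0) (.lf 0x0)) (.nd (.lf 0x0) (.lf 0x2dc80e3))) (.nd (.nd (.lf 0x0) (.lf 0x2174b54))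 (.nd (.lf 0x0) (.lf 0x2157b02)))) (.nd (.nd (.nd (.lf 0x0) (.lf 0xd99c0a)) (.nd (.lf 0x0) (.lf 0x2907817))) (.nd (.nd (.lf 0x0) (.lf 0xa7265e)) (.nd (.lf 0x0) (.lf 0x27deef0))))) (.nd (.nd (.nd (.nd (.lf 0x0) (.lf 0x8974ea)) (.nd (.lf 0x0) (.lf 0x10167a3))) (.nd (.nd (.lf 0x0) (.lf 0x695d5a)) (.nd (.lf 0x24033d7) (.lf 0xc5bc1e)))) (.nd (.nd (.nd (.lf 0x0) (.lf 0x784160)) (.nd (.lf 0x6d917b) (.lf 0x0))) (.nd (.nd (.lf 0x0) (.lf 0x0)) (.nd (.lf 0x0) (.lf 0x2603a63)))))))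
def witT1_naaabab : Tr := (.nd (.nd (.nd (.nd (.nd (.nd (.lf 0x0) (.lf 0x8becaf)) (.nd (.lf 0x0) (.lf 0x2e22b81))) (.nd (.nd (.lf 0x0) (.lf 0x0)) (.nd (.lf 0x22bb7aa) (.lf 0x4e0347)))) (.nd (.nd (.nd (.lf 0x0) (.lf 0x0)) (.nd (.lf 0x0) (.lf 0x2a28259))) (.nd (.nd (.lf 0x2d0d162) (.lf 0x0)) (.nd (.lf 0x3e312c) (.lf 0x31d8b5b))))) (.nd (.nd (.nd (.nd (.lf 0x0) (.lf 0x2cd31a8)) (.nd (.lf 0x0) (.lf 0x31b32a3))) (.nd (.nd (.lf 0x0) (.lf 0x2d2acb7)) (.nd (.lf 0x0) (.lf 0x28d33fe)))) (.nd (.nd (.nd (.lf 0x0) (.lf 0x0)) (.nd (.lf 0x0) (.lf 0x540190))) (.nd (.nd (.lf 0xc5a4ff) (.lf 0xb1cd6f)) (.nd (.lf 0x240e85d) (.lf 0x18ce1d)))))) (.nd (.nd (.nd (.nd (.nd (.lf 0x0) (.lf 0x0)) (.nd (.lf 0x293479e) (.lf 0xf638df))) (.nd (.nd (.lf 0x2ed0106)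 (.lf 0x0)) (.nd (.lf 0x0) (.lf 0x10fb5d0)))) (.nd (.nd (.nd (.lf 0x0) (.lf 0x28e1167)) (.nd (.lf 0xb9d829) (.lf 0x838281))) (.nd (.nd (.lf 0x0) (.lf 0x2d2d958)) (.nd (.lf 0x0) (.lf 0x2ece648))))) (.nd (.nd (.nd (.nd (.lf 0x0) (.lf 0x0)) (.nd (.lf 0x0) (.lf 0x0))) (.nd (.nd (.lf 0x0) (.lf 0x8b82c2)) (.nd (.lf 0x0) (.lf 0x29fd778)))) (.nd (.nd (.nd (.lf 0x0) (.lf 0x27b48db)) (.nd (.lf 0x2b3f841) (.lf 0x830967))) (.nd (.nd (.lf 0x0) (.lf 0x2b8e97d)) (.nd (.lf 0xbc5953) (.lf 0)))))))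
def witT1_naaabba : Tr := (.nd (.nd (.nd (.nd (.nd (.nd (.lf 0x0) (.lf 0x29b177d)) (.nd (.lf 0x0) (.lf 0x70374f))) (.nd (.nd (.lf 0x0) (.lf 0x2509e3b)) (.nd (.lf 0xf98c0) (.lf 0x4e7dee)))) (.nd (.nd (.nd (.lf 0x2ba76d4) (.lf 0x0)) (.nd (.lf 0x0) (.lf 0x2cc154b))) (.nd (.nd (.lf 0x0) (.lf 0x2a4b8ca)) (.nd (.lf 0x2326e61) (.lf 0xfeb677))))) (.nd (.nd (.nd (.nd (.lf 0x0) (.lf 0x2ab726e)) (.nd (.lf 0x23d307f) (.lf 0x8664a0))) (.nd (.nd (.lf 0x2601f2) (.lf 0xdf5492)) (.nd (.lf 0x0) (.lf 0x556067)))) (.nd (.nd (.nd (.lf 0x0) (.lf 0x0)) (.nd (.lf 0x2bf510e) (.lf 0x8197ad))) (.nd (.nd (.lf 0x0) (.lf 0x2ddfcaa)) (.nd (.lf 0x0) (.lf 0x212f092)))))) (.nd (.nd (.nd (.nd (.nd (.lf 0x0) (.lf 0x4bb11e)) (.nd (.lf 0x0) (.lf 0x10ba946))) (.nd (.nd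 (.lf 0x0) (.lf 0x0)) (.nd (.lf 0x0) (.lf 0x3753c7)))) (.nd (.nd (.nd (.lf 0x0) (.lf 0x0)) (.nd (.lf 0x0) (.lf 0x1032f42))) (.nd (.nd (.lf 0x0) (.lf 0x0)) (.nd (.lf 0x0) (.lf 0x2afa796))))) (.nd (.nd (.nd (.nd (.lf 0x0) (.lf 0x6c0d0c)) (.nd (.lf 0x0) (.lf 0x2b2d4c8))) (.nd (.nd (.lf 0x0) (.lf 0x2f12c1e)) (.nd (.lf 0x0) (.lf 0x0)))) (.nd (.nd (.nd (.lf 0x0) (.lf 0x203a52a)) (.nd (.lf 0x26d40b4) (.lf 0x283d54d))) (.nd (.nd (.lf 0x0) (.lf 0x0)) (.nd (.lf 0x2955cae) (.lf 0x251a3f5)))))))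
def witT1_naaabbb : Tr := (.nd (.nd (.nd (.nd (.nd (.nd (.lf 0x0) (.lf 0x2a9508a)) (.nd (.lf 0x30dac8c) (.lf 0x24e1a02))) (.nd (.nd (.lf 0x0) (.lf 0x0)) (.nd (.lf 0x2ed2313) (.lf 0x22d1c0b)))) (.nd (.nd (.nd (.lf 0x0) (.lf 0x28f94e7)) (.nd (.lf 0x0) (.lf 0x631450))) (.nd (.nd (.lf 0x2a24733) (.lf 0x2494659)) (.nd (.lf 0x0) (.lf 0x29a33fb))))) (.nd (.nd (.nd (.nd (.lf 0x0) (.lf 0x0)) (.nd (.lf 0x0) (.lf 0x2c35273))) (.nd (.nd (.lf 0x0) (.lf 0x2baa4f1)) (.nd (.lf 0x0) (.lf 0x307c2c9)))) (.nd (.nd (.nd (.lf 0x0) (.lf 0x21a3c88)) (.nd (.lf 0x0) (.lf 0x1178b73))) (.nd (.nd (.lf 0x0) (.lf 0x24b974a)) (.nd (.lf 0x51849c) (.lf 0x201b46c)))))) (.nd (.nd (.nd (.nd (.nd (.lf 0x0) (.lf 0x853c0f)) (.nd (.lf 0x2a7b089) (.lf 0x1b8e65))) (.nd (.nd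 (.lf 0x0) (.lf 0x2e62c72)) (.nd (.lf 0x1a9ca7) (.lf 0x2fe6fae)))) (.nd (.nd (.nd (.lf 0x0) (.lf 0x0)) (.nd (.lf 0x3feb9c) (.lf 0x8d0f37))) (.nd (.nd (.lf 0x0) (.lf 0x24c518b)) (.nd (.lf 0x0) (.lf 0x2650bf4))))) (.nd (.nd (.nd (.nd (.lf 0x0) (.lf 0x8150e2)) (.nd (.lf 0x0) (.lf 0x0))) (.nd (.nd (.lf 0x0) (.lf 0x27f6357)) (.nd (.lf 0x24850) (.lf 0x29dba69)))) (.nd (.nd (.nd (.lf 0x0) (.lf 0x0)) (.nd (.lf 0x0) (.lf 0xbe107c))) (.nd (.nd (.lf 0x0) (.lf 0x2250350)) (.nd (.lf 0x21ff45e) (.lf 0)))))))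
def witT1_naabaaa : Tr := (.nd (.nd (.nd (.nd (.nd (.nd (.lf 0x0) (.lf 0x0)) (.nd (.lf 0x319cac6) (.lf 0x2a047eb))) (.nd (.nd (.lf 0x0) (.lf 0x0)) (.nd (.lf 0x0) (.lf 0x2ad4362)))) (.nd (.nd (.nd (.lf 0x0) (.lf 0x0)) (.nd (.lf 0x0) (.lf 0x2f7cd4a))) (.nd (.nd (.lf 0x2959b7) (.lf 0x15792e)) (.nd (.lf 0x6c33eb) (.lf 0x2e31a08))))) (.nd (.nd (.nd (.nd (.lf 0x0) (.lf 0x0)) (.nd (.lf 0x0) (.lf 0xf00228))) (.nd (.nd (.lf 0x0) (.lf 0x9148f0)) (.nd (.lf 0x0) (.lf 0xf662c0)))) (.nd (.nd (.nd (.lf 0x0) (.lf 0x0)) (.nd (.lf 0x7f5a94) (.lf 0xffaf7a))) (.nd (.nd (.lf 0x6353ca) (.lf 0x0)) (.nd (.lf 0x23a0390) (.lf 0x2f019e7)))))) (.nd (.nd (.nd (.nd (.nd (.lf 0x0) (.lf 0x0)) (.nd (.lf 0x2fb34d2) (.lf 0x9b267d))) (.nd (.nd (.lf 0x0) (.lf 0x0)) (.nd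 (.lf 0x0) (.lf 0x6826b8)))) (.nd (.nd (.nd (.lf 0x0) (.lf 0x2989e8)) (.nd (.lf 0xa35578) (.lf 0x5e4bdb))) (.nd (.nd (.lf 0x0) (.lf 0x0)) (.nd (.lf 0x2aec0db) (.lf 0x2ec16d0))))) (.nd (.nd (.nd (.nd (.lf 0x0) (.lf 0x2ea837d)) (.nd (.lf 0x0) (.lf 0x1148fe7))) (.nd (.nd (.lf 0x0) (.lf 0x216378a)) (.nd (.lf 0x0) (.lf 0x313c0c6)))) (.nd (.nd (.nd (.lf 0x0) (.lf 0x0)) (.nd (.lf 0xc1f2cb) (.lf 0x2139624))) (.nd (.nd (.lf 0x0) (.lf 0x2429952)) (.nd (.lf 0x29312fb) (.lf 0x2a6c727)))))))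
def witT1_naabaab : Tr := (.nd (.nd (.nd (.nd (.nd (.nd (.lf 0x0) (.lf 0x90403c)) (.nd (.lf 0x0) (.lf 0x0))) (.nd (.nd (.lf 0x0) (.lf 0x71da36)) (.nd (.lf 0x0) (.lf 0x2eff0e4)))) (.nd (.nd (.nd (.lf 0x0) (.lf 0x39b9ee)) (.nd (.lf 0x0) (.lf 0x0))) (.nd (.nd (.lf 0x242a79c) (.lf 0x0)) (.nd (.lf 0x0) (.lf 0x26e0f29))))) (.nd (.nd (.nd (.nd (.lf 0x0) (.lf 0x30ae3c6)) (.nd (.lf 0x0) (.lf 0x53ba9b))) (.nd (.nd (.lf 0x0) (.lf 0x0)) (.nd (.lf 0xba3d53) (.lf 0x308c95)))) (.nd (.nd (.nd (.lf 0x0) (.lf 0x0)) (.nd (.lf 0x2235222) (.lf 0x1130f06))) (.nd (.nd (.lf 0x231dd0a) (.lf 0x47eefe)) (.nd (.lf 0x0) (.lf 0x2786e11)))))) (.nd (.nd (.nd (.nd (.nd (.lf 0x0) (.lf 0xd0ea24)) (.nd (.lf 0x0) (.lf 0x0))) (.nd (.nd (.lf 0x0) (.lf 0x29f2f31)) (.nd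 (.lf 0x21549b) (.lf 0x80c235)))) (.nd (.nd (.nd (.lf 0x0) (.lf 0x0)) (.nd (.lf 0x0) (.lf 0xff5aad))) (.nd (.nd (.lf 0x0) (.lf 0x0)) (.nd (.lf 0x0) (.lf 0x2d5a810))))) (.nd (.nd (.nd (.nd (.lf 0x0) (.lf 0x0)) (.nd (.lf 0x0) (.lf 0x25ceaa9))) (.nd (.nd (.lf 0x0) (.lf 0x272d082)) (.nd (.lf 0x0) (.lf 0x2253d15)))) (.nd (.nd (.nd (.lf 0x0) (.lf 0xd81963)) (.nd (.lf 0x0) (.lf 0x2d23b33))) (.nd (.nd (.lf 0x54b456) (.lf 0x231dc6c)) (.nd (.lf 0x20b859) (.lf 0)))))))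
def witT1_naababa : Tr := (.nd (.nd (.nd (.nd (.nd (.nd (.lf 0x0) (.lf 0x0)) (.nd (.lf 0x0) (.lf 0x422437))) (.nd (.nd (.lf 0x0) (.lf 0xed2b34)) (.nd (.lf 0x116cf06) (.lf 0x0)))) (.nd (.nd (.nd (.lf 0x0) (.lf 0x0)) (.nd (.lf 0x0) (.lf 0x30361e9))) (.nd (.nd (.lf 0x0) (.lf 0x0)) (.nd (.lf 0x0) (.lf 0x278ac12))))) (.nd (.nd (.nd (.nd (.lf 0x0) (.lf 0x0)) (.nd (.lf 0x0) (.lf 0x3004ed1))) (.nd (.nd (.lf 0x0) (.lf 0x22e7c09)) (.nd (.lf 0x0) (.lf 0x31e165b)))) (.nd (.nd (.nd (.lf 0x0) (.lf 0x0)) (.nd (.lf 0x0) (.lf 0x2d86181))) (.nd (.nd (.lf 0x0) (.lf 0x2d9280b)) (.nd (.lf 0x0) (.lf 0xd7b255)))))) (.nd (.nd (.nd (.nd (.nd (.lf 0x0) (.lf 0xce46a1)) (.nd (.lf 0x7901c9) (.lf 0x22fa320))) (.nd (.nd (.lf 0x0) (.lf 0x2c97a2)) (.nd (.lf 0x0)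 (.lf 0x1154e45)))) (.nd (.nd (.nd (.lf 0x0) (.lf 0x30b0f34)) (.nd (.lf 0x0) (.lf 0x0))) (.nd (.nd (.lf 0x0) (.lf 0x2c00eb9)) (.nd (.lf 0x216ddd0) (.lf 0x4daec7))))) (.nd (.nd (.nd (.nd (.lf 0x0) (.lf 0x2d139a6)) (.nd (.lf 0x0) (.lf 0xac8183))) (.nd (.nd (.lf 0x0) (.lf 0x928bbb)) (.nd (.lf 0x0) (.lf 0x50f0ba)))) (.nd (.nd (.nd (.lf 0x0) (.lf 0x0)) (.nd (.lf 0x0) (.lf 0x757462))) (.nd (.nd (.lf 0x0) (.lf 0x0)) (.nd (.lf 0xc864) (.lf 0x1b26cb)))))))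
def witT1_naababb : Tr := (.nd (.nd (.nd (.nd (.nd (.nd (.lf 0x0) (.lf 0x0)) (.nd (.lf 0x0) (.lf 0x1ad84))) (.nd (.nd (.lf 0x2fb44d4) (.lf 0x0)) (.nd (.lf 0x2333059) (.lf 0xd84289)))) (.nd (.nd (.nd (.lf 0x0) (.lf 0x0)) (.nd (.lf 0x0) (.lf 0x0))) (.nd (.nd (.lf 0x0) (.lf 0x2fddf3)) (.nd (.lf 0x0) (.lf 0x51ee91))))) (.nd (.nd (.nd (.nd (.lf 0x0) (.lf 0x0)) (.nd (.lf 0x271ea23) (.lf 0x0))) (.nd (.nd (.lf 0x0) (.lf 0x27760e9)) (.nd (.lf 0x0) (.lf 0x2fd2fda)))) (.nd (.nd (.nd (.lf 0x0) (.lf 0x3a9918)) (.nd (.lf 0x0) (.lf 0x119ae3e))) (.nd (.nd (.lf 0x0) (.lf 0x29bc754)) (.nd (.lf 0x699552) (.lf 0x4edadc)))))) (.nd (.nd (.nd (.nd (.nd (.lf 0x0) (.lf 0x0)) (.nd (.lf 0x0) (.lf 0x0))) (.nd (.nd (.lf 0x0) (.lf 0x2ac1672)) (.nd (.lf 0xd9c8f1)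 (.lf 0x177c57)))) (.nd (.nd (.nd (.lf 0x0) (.lf 0x0)) (.nd (.lf 0x0) (.lf 0x2dc6c52))) (.nd (.nd (.lf 0x0) (.lf 0x26646c3)) (.nd (.lf 0x0) (.lf 0x48d91c))))) (.nd (.nd (.nd (.nd (.lf 0x0) (.lf 0xfe6c4c)) (.nd (.lf 0x0) (.lf 0x30b45d9))) (.nd (.nd (.lf 0x0) (.lf 0x0)) (.nd (.lf 0x113fca7) (.lf 0x2d72d0)))) (.nd (.nd (.nd (.lf 0x0) (.lf 0x66a3bc)) (.nd (.lf 0x0) (.lf 0x91918a))) (.nd (.nd (.lf 0x0) (.lf 0x0)) (.nd (.lf 0x0) (.lf 0)))))))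
def witT1_naabbaa : Tr := (.nd (.nd (.nd (.nd (.nd (.nd (.lf 0x0) (.lf 0x0)) (.nd (.lf 0x0) (.lf 0x0))) (.nd (.nd (.lf 0x0) (.lf 0x312d4c5)) (.nd (.lf 0x0) (.lf 0x2f6f16e)))) (.nd (.nd (.nd (.lf 0x0) (.lf 0x0)) (.nd (.lf 0x0) (.lf 0x81c657))) (.nd (.nd (.lf 0x0) (.lf 0x2d8f2ab)) (.nd (.lf 0x0) (.lf 0x0))))) (.nd (.nd (.nd (.nd (.lf 0x0) (.lf 0x0)) (.nd (.lf 0x2c22e28) (.lf 0x10d04c6))) (.nd (.nd (.lf 0x0) (.lf 0xb1996a)) (.nd (.lf 0x0) (.lf 0x26277c9)))) (.nd (.nd (.nd (.lf 0x0) (.lf 0x0)) (.nd (.lf 0x6b32b7) (.lf 0x1b84a6))) (.nd (.nd (.lf 0x2305b68) (.lf 0xecce0f)) (.nd (.lf 0x0) (.lf 0x2688f67)))))) (.nd (.nd (.nd (.nd (.nd (.lf 0x0) (.lf 0x200ccd7)) (.nd (.lf 0x0) (.lf 0x0))) (.nd (.nd (.lf 0x2330b81) (.lf 0x29da435)) (.nd (.lf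 0x0) (.lf 0x2025777)))) (.nd (.nd (.nd (.lf 0x0) (.lf 0x30a34e2)) (.nd (.lf 0x0) (.lf 0x0))) (.nd (.nd (.lf 0x0) (.lf 0x0)) (.nd (.lf 0xfc2699) (.lf 0x877ae4))))) (.nd (.nd (.nd (.nd (.lf 0x0) (.lf 0x0)) (.nd (.lf 0x0) (.lf 0x265768b))) (.nd (.nd (.lf 0x298b457) (.lf 0x0)) (.nd (.lf 0x2a64b00) (.lf 0x2de295)))) (.nd (.nd (.nd (.lf 0x0) (.lf 0xc56107)) (.nd (.lf 0x0) (.lf 0x0))) (.nd (.nd (.lf 0x8485c7) (.lf 0x2db6964)) (.nd (.lf 0x0) (.lf 0xff1406)))))))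
def witT1_naabbab : Tr := (.nd (.nd (.nd (.nd (.nd (.nd (.lf 0x0) (.lf 0x0)) (.nd (.lf 0x0) (.lf 0x243dc62))) (.nd (.nd (.lf 0x0) (.lf 0x25b5802)) (.nd (.lf 0x0) (.lf 0x0)))) (.nd (.nd (.nd (.lf 0x0) (.lf 0x2ea17be)) (.nd (.lf 0x0) (.lf 0x17e171))) (.nd (.nd (.lf 0x0) (.lf 0xa33a71)) (.nd (.lf 0x25e6848) (.lf 0x13eb54))))) (.nd (.nd (.nd (.nd (.lf 0x0) (.lf 0x2425640)) (.nd (.lf 0x0) (.lf 0x20ca317))) (.nd (.nd (.lf 0x9bad16) (.lf 0x0)) (.nd (.lf 0x0) (.lf 0xeb409a)))) (.nd (.nd (.nd (.lf 0x0) (.lf 0x34d917)) (.nd (.lf 0x0) (.lf 0x8e8359))) (.nd (.nd (.lf 0x0) (.lf 0x2fe8a09)) (.nd (.lf 0x0) (.lf 0x2d376a5)))))) (.nd (.nd (.nd (.nd (.nd (.lf 0x0) (.lf 0x0)) (.nd (.lf 0x0) (.lf 0x24b39be))) (.nd (.nd (.lf 0x0) (.lf 0x0)) (.nd (.lf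 0x6d545e) (.lf 0xd55535)))) (.nd (.nd (.nd (.lf 0x0) (.lf 0xb153fa)) (.nd (.lf 0x0) (.lf 0x163c02))) (.nd (.nd (.lf 0xb900cb) (.lf 0x0)) (.nd (.lf 0x31e3e44) (.lf 0x3112a05))))) (.nd (.nd (.nd (.nd (.lf 0x0) (.lf 0x0)) (.nd (.lf 0x0) (.lf 0x536b57))) (.nd (.nd (.lf 0x0) (.lf 0x2d05ba4)) (.nd (.lf 0x0) (.lf 0x2d7b6c)))) (.nd (.nd (.nd (.lf 0x0) (.lf 0x93297d)) (.nd (.lf 0x10a220a) (.lf 0x221322d))) (.nd (.nd (.lf 0x0) (.lf 0x31f097b)) (.nd (.lf 0x0) (.lf 0)))))))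
def witT1_naabbba : Tr := (.nd (.nd (.nd (.nd (.nd (.nd (.lf 0x0) (.lf 0x0)) (.nd (.lf 0x0) (.lf 0x2c07346))) (.nd (.nd (.lf 0x0) (.lf 0x24892b5)) (.nd (.lf 0x2e789d9) (.lf 0x20c0b5f)))) (.nd (.nd (.nd (.lf 0x0) (.lf 0x2cffb51)) (.nd (.lf 0x0) (.lf 0x0))) (.nd (.nd (.lf 0x0) (.lf 0xce4f55)) (.nd (.lf 0x0) (.lf 0x62cc6))))) (.nd (.nd (.nd (.nd (.lf 0x0) (.lf 0x0)) (.nd (.lf 0x0) (.lf 0x2e798bf))) (.nd (.nd (.lf 0x0) (.lf 0x204fa13)) (.nd (.lf 0x108e655) (.lf 0x2af47fa)))) (.nd (.nd (.nd (.lf 0x0) (.lf 0x0)) (.nd (.lf 0x69a778) (.lf 0x0))) (.nd (.nd (.lf 0x0) (.lf 0x59970b)) (.nd (.lf 0x0) (.lf 0x20bbc02)))))) (.nd (.nd (.nd (.nd (.nd (.lf 0x0) (.lf 0x317c924)) (.nd (.lf 0x0) (.lf 0x84904b))) (.nd (.nd (.lf 0x0) (.lf 0x796ed1)) (.nd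 (.lf 0x0) (.lf 0x2efc87)))) (.nd (.nd (.nd (.lf 0x0) (.lf 0x0)) (.nd (.lf 0x0) (.lf 0x2cbd4ee))) (.nd (.nd (.lf 0x2cf6320) (.lf 0x0)) (.nd (.lf 0x0) (.lf 0xbaf135))))) (.nd (.nd (.nd (.nd (.lf 0x0) (.lf 0xd475d)) (.nd (.lf 0x0) (.lf 0x2e73b1d))) (.nd (.nd (.lf 0x0) (.lf 0x105cb29)) (.nd (.lf 0x0) (.lf 0x232868d)))) (.nd (.nd (.nd (.lf 0x0) (.lf 0x2459a6)) (.nd (.lf 0x0) (.lf 0x2a70622))) (.nd (.nd (.lf 0x22e991a) (.lf 0x2a622c8)) (.nd (.lf 0xd79e3e) (.lf 0)))))))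
def witT1_naabbbb : Tr := (.nd (.nd (.nd (.nd (.nd (.nd (.lf 0x0) (.lf 0x285237e)) (.nd (.lf 0x0) (.lf 0x0))) (.nd (.nd (.lf 0x0) (.lf 0x9e4a59)) (.nd (.lf 0x0) (.lf 0x8d54f2)))) (.nd (.nd (.nd (.lf 0x0) (.lf 0x2d2613f)) (.nd (.lf 0x0) (.lf 0x2ee9a15))) (.nd (.nd (.lf 0x0) (.lf 0x4c4b0e)) (.nd (.lf 0xd7fccb) (.lf 0x48674f))))) (.nd (.nd (.nd (.nd (.lf 0x0) (.lf 0x0)) (.nd (.lf 0x317b52c) (.lf 0x277af9e))) (.nd (.nd (.lf 0x0) (.lf 0x0)) (.nd (.lf 0x0) (.lf 0x2d0caab)))) (.nd (.nd (.nd (.lf 0x0) (.lf 0x263e431)) (.nd (.lf 0x0) (.lf 0x273e93a))) (.nd (.nd (.lf 0x0) (.lf 0x114ce8f)) (.nd (.lf 0x0) (.lf 0x2141df1)))))) (.nd (.nd (.nd (.nd (.nd (.lf 0x0) (.lf 0xf93ca6)) (.nd (.lf 0x0) (.lf 0x2131820))) (.nd (.nd (.lf 0x0) (.lf 0x2c5fb81))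 (.nd (.lf 0x24ee93a) (.lf 0x2c87b64)))) (.nd (.nd (.nd (.lf 0x0) (.lf 0x7ed477)) (.nd (.lf 0x0) (.lf 0x2d909a5))) (.nd (.nd (.lf 0xa3509) (.lf 0x24d529a)) (.nd (.lf 0x0) (.lf 0x2959e1c))))) (.nd (.nd (.nd (.nd (.lf 0x9c792c) (.lf 0x247ef9d)) (.nd (.lf 0x87685b) (.lf 0x0))) (.nd (.nd (.lf 0x2553e17) (.lf 0x2ad4c40)) (.nd (.lf 0x608c38) (.lf 0xb18859)))) (.nd (.nd (.nd (.lf 0x1159e37) (.lf 0x23041c5)) (.nd (.lf 0x21ac1e7) (.lf 0x11405ff))) (.nd (.nd (.lf 0x0) (.lf 0x24c71da)) (.nd (.lf 0x1d2126) (.lf 0)))))))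
def witT1_nabaaaa : Tr := (.nd (.nd (.nd (.nd (.nd (.nd (.lf 0x0) (.lf 0x0)) (.nd (.lf 0x8648ce) (.lf 0x310ad32))) (.nd (.nd (.lf 0x0) (.lf 0x0)) (.nd (.lf 0x2facdbe) (.lf 0x0)))) (.nd (.nd (.nd (.lf 0x0) (.lf 0x2f8b038)) (.nd (.lf 0x0) (.lf 0x20731b4))) (.nd (.nd (.lf 0x0) (.lf 0x2ad078a)) (.nd (.lf 0x20f7907) (.lf 0x92fcf3))))) (.nd (.nd (.nd (.nd (.lf 0x0) (.lf 0x2e515f3)) (.nd (.lf 0x2e9adfb) (.lf 0xf1cb65))) (.nd (.nd (.lf 0x0) (.lf 0x2694ac8)) (.nd (.lf 0x18481d) (.lf 0xbc4ec5)))) (.nd (.nd (.nd (.lf 0x0) (.lf 0x0)) (.nd (.lf 0x0) (.lf 0x26988f1))) (.nd (.nd (.lf 0x0) (.lf 0x2e55244)) (.nd (.lf 0x0) (.lf 0xea070)))))) (.nd (.nd (.nd (.nd (.nd (.lf 0x0) (.lf 0xf22250)) (.nd (.lf 0x0) (.lf 0xed5597))) (.nd (.nd (.lf 0x31a739)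 (.lf 0x104618e)) (.nd (.lf 0x0) (.lf 0x9ecc94)))) (.nd (.nd (.nd (.lf 0x0) (.lf 0x0)) (.nd (.lf 0x0) (.lf 0x23e124e))) (.nd (.nd (.lf 0x65566b) (.lf 0x2e2d2da)) (.nd (.lf 0x0) (.lf 0x21e00d))))) (.nd (.nd (.nd (.nd (.lf 0x0) (.lf 0x0)) (.nd (.lf 0x0) (.lf 0x27578b0))) (.nd (.nd (.lf 0x0) (.lf 0x0)) (.nd (.lf 0x263ba80) (.lf 0x10d6f53)))) (.nd (.nd (.nd (.lf 0x0) (.lf 0x0)) (.nd (.lf 0x0) (.lf 0xbe3164))) (.nd (.nd (.lf 0x0) (.lf 0x2cf0e6b)) (.nd (.lf 0xb6249d) (.lf 0x1e40d1)))))))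
def witT1_nabaaab : Tr := (.nd (.nd (.nd (.nd (.nd (.nd (.lf 0x0) (.lf 0x4efc24)) (.nd (.lf 0x0) (.lf 0x0))) (.nd (.nd (.lf 0x0) (.lf 0x286ade1)) (.nd (.lf 0x0) (.lf 0x8e32d3)))) (.nd (.nd (.nd (.lf 0x0) (.lf 0x210415f)) (.nd (.lf 0x2324f23) (.lf 0x2673672))) (.nd (.nd (.lf 0x0) (.lf 0xe69a2)) (.nd (.lf 0x0) (.lf 0x2b27df3))))) (.nd (.nd (.nd (.nd (.lf 0x0) (.lf 0x0)) (.nd (.lf 0x0) (.lf 0x0))) (.nd (.nd (.lf 0x0) (.lf 0x0)) (.nd (.lf 0x885648) (.lf 0x34b29d)))) (.nd (.nd (.nd (.lf 0x0) (.lf 0x426fd4)) (.nd (.lf 0x3077e75) (.lf 0x280a860))) (.nd (.nd (.lf 0x0) (.lf 0x27eb385)) (.nd (.lf 0x2bc770) (.lf 0x206538f)))))) (.nd (.nd (.nd (.nd (.nd (.lf 0x0) (.lf 0x2ace958)) (.nd (.lf 0x0) (.lf 0xaae84))) (.nd (.nd (.lf 0x0) (.lf 0x28400dd))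 (.nd (.lf 0x0) (.lf 0x27e8d75)))) (.nd (.nd (.nd (.lf 0x0) (.lf 0x265ad15)) (.nd (.lf 0x25db940) (.lf 0xd82b94))) (.nd (.nd (.lf 0x0) (.lf 0x0)) (.nd (.lf 0x241533c) (.lf 0x2906982))))) (.nd (.nd (.nd (.nd (.lf 0x0) (.lf 0x0)) (.nd (.lf 0x0) (.lf 0x2ca1259))) (.nd (.nd (.lf 0x0) (.lf 0x28a6e1a)) (.nd (.lf 0x23d2485) (.lf 0x2d69534)))) (.nd (.nd (.nd (.lf 0xba8413) (.lf 0x30de236)) (.nd (.lf 0x0) (.lf 0x2b493a8))) (.nd (.nd (.lf 0x0) (.lf 0x2f4a698)) (.nd (.lf 0x2be94ef) (.lf 0)))))))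
def witT1_nabaaba : Tr := (.nd (.nd (.nd (.nd (.nd (.nd (.lf 0x0) (.lf 0x10ce858)) (.nd (.lf 0x25cf79c) (.lf 0x0))) (.nd (.nd (.lf 0x0) (.lf 0x0)) (.nd (.lf 0x0) (.lf 0x24543e6)))) (.nd (.nd (.nd (.lf 0x0) (.lf 0x0)) (.nd (.lf 0x6f0512) (.lf 0x0))) (.nd (.nd (.lf 0x0) (.lf 0x0)) (.nd (.lf 0x73c02d) (.lf 0x2a439a7))))) (.nd (.nd (.nd (.nd (.lf 0x0) (.lf 0xa11)) (.nd (.lf 0x2e8c61e) (.lf 0x29c4456))) (.nd (.nd (.lf 0x0) (.lf 0x0)) (.nd (.lf 0x0) (.lf 0x23324fc)))) (.nd (.nd (.nd (.lf 0x0) (.lf 0xfb7a80)) (.nd (.lf 0x2aeb29b) (.lf 0x0))) (.nd (.nd (.lf 0x0) (.lf 0x13ef32)) (.nd (.lf 0x0) (.lf 0x23cf3f)))))) (.nd (.nd (.nd (.nd (.nd (.lf 0x0) (.lf 0x4d04ef)) (.nd (.lf 0x2d32375) (.lf 0xa25bdc))) (.nd (.nd (.lf 0xacb01c) (.lf 0x30250d))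 (.nd (.lf 0x235e2c1) (.lf 0xa77b0e)))) (.nd (.nd (.nd (.lf 0x0) (.lf 0xa21d7b)) (.nd (.lf 0x0) (.lf 0x317337f))) (.nd (.nd (.lf 0x0) (.lf 0x0)) (.nd (.lf 0x118a856) (.lf 0x2ab3c80))))) (.nd (.nd (.nd (.nd (.lf 0x0) (.lf 0x241433a)) (.nd (.lf 0x0) (.lf 0x2cf883b))) (.nd (.nd (.lf 0x0) (.lf 0x2490654)) (.nd (.lf 0x2138908) (.lf 0xc7b3)))) (.nd (.nd (.nd (.lf 0x0) (.lf 0x0)) (.nd (.lf 0x0) (.lf 0xaf324d))) (.nd (.nd (.lf 0x0) (.lf 0x310f8a6)) (.nd (.lf 0x0) (.lf 0x41d37d)))))))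
def witT1_nabaabb : Tr := (.nd (.nd (.nd (.nd (.nd (.nd (.lf 0x0) (.lf 0x1054f22)) (.nd (.lf 0x0) (.lf 0x2e52220))) (.nd (.nd (.lf 0xabf61a) (.lf 0xa1ca5f)) (.nd (.lf 0xa59142) (.lf 0x993772)))) (.nd (.nd (.nd (.lf 0x0) (.lf 0x305fbd5)) (.nd (.lf 0x0) (.lf 0x293414c))) (.nd (.nd (.lf 0x4ad880) (.lf 0x246e0fc)) (.nd (.lf 0x0) (.lf 0x2dfedee))))) (.nd (.nd (.nd (.nd (.lf 0x0) (.lf 0x20477dc)) (.nd (.lf 0x48a6fb) (.lf 0xa35228))) (.nd (.nd (.lf 0x0) (.lf 0x28c5cb7)) (.nd (.lf 0x2c33a35) (.lf 0x24539c3)))) (.nd (.nd (.nd (.lf 0x0) (.lf 0x2a9f600)) (.nd (.lf 0x9d8c0f) (.lf 0x550706))) (.nd (.nd (.lf 0x0) (.lf 0x21f005f)) (.nd (.lf 0x0) (.lf 0x2670659)))))) (.nd (.nd (.nd (.nd (.nd (.lf 0x0) (.lf 0x25f7427)) (.nd (.lf 0x0) (.lf 0xe3d952)))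 (.nd (.nd (.lf 0x0) (.lf 0x772fc0)) (.nd (.lf 0x88056f) (.lf 0x2915445)))) (.nd (.nd (.nd (.lf 0x0) (.lf 0x0)) (.nd (.lf 0x0) (.lf 0x20320da))) (.nd (.nd (.lf 0x0) (.lf 0x4fb573)) (.nd (.lf 0x0) (.lf 0x30d16b0))))) (.nd (.nd (.nd (.nd (.lf 0x0) (.lf 0x22ccfa0)) (.nd (.lf 0x22f0af3) (.lf 0x2143089))) (.nd (.nd (.lf 0x0) (.lf 0x2d34f2a)) (.nd (.lf 0x233090) (.lf 0x206d7e2)))) (.nd (.nd (.nd (.lf 0x0) (.lf 0x229e52b)) (.nd (.lf 0x2ed7641) (.lf 0x21f31ad))) (.nd (.nd (.lf 0x0) (.lf 0x0)) (.nd (.lf 0x0) (.lf 0)))))))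
def witT1_nababaa : Tr := (.nd (.nd (.nd (.nd (.nd (.nd (.lf 0x0) (.lf 0x2adb5d1)) (.nd (.lf 0x0) (.lf 0x2e19820))) (.nd (.nd (.lf 0x0) (.lf 0x0)) (.nd (.lf 0x0) (.lf 0x2ff75e8)))) (.nd (.nd (.nd (.lf 0x0) (.lf 0x0)) (.nd (.lf 0xc9402c) (.lf 0x0))) (.nd (.nd (.lf 0x0) (.lf 0x261b35c)) (.nd (.lf 0x0) (.lf 0x3051c06))))) (.nd (.nd (.nd (.nd (.lf 0x0) (.lf 0x0)) (.nd (.lf 0x0) (.lf 0x8b9202))) (.nd (.nd (.lf 0x0) (.lf 0x934b10)) (.nd (.lf 0x2cdd479) (.lf 0xcc5492)))) (.nd (.nd (.nd (.lf 0x0) (.lf 0x0)) (.nd (.lf 0x260a978) (.lf 0x8e805c))) (.nd (.nd (.lf 0x0) (.lf 0x0)) (.nd (.lf 0x64ad0b) (.lf 0x2c98a45)))))) (.nd (.nd (.nd (.nd (.nd (.lf 0x0) (.lf 0x315b210)) (.nd (.lf 0x26a4e4) (.lf 0x26b0d8d))) (.nd (.nd (.lf 0x0) (.lf 0x0)) (.nd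 (.lf 0x0) (.lf 0x10dfc11)))) (.nd (.nd (.nd (.lf 0xf186a1) (.lf 0x0)) (.nd (.lf 0x22a3890) (.lf 0x0))) (.nd (.nd (.lf 0x0) (.lf 0x0)) (.nd (.lf 0xbc11ea) (.lf 0x80afc0))))) (.nd (.nd (.nd (.nd (.lf 0x0) (.lf 0x0)) (.nd (.lf 0x0) (.lf 0x636e50))) (.nd (.nd (.lf 0x1104996) (.lf 0x0)) (.nd (.lf 0x0) (.lf 0x115852c)))) (.nd (.nd (.nd (.lf 0x0) (.lf 0x4608f1)) (.nd (.lf 0x0) (.lf 0xcdd2c3))) (.nd (.nd (.lf 0x0) (.lf 0x41a0be)) (.nd (.lf 0x0) (.lf 0x2d35771)))))))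
def witT1_nababab : Tr := (.nd (.nd (.nd (.nd (.nd (.nd (.lf 0x0) (.lf 0x2d06c77)) (.nd (.lf 0x0) (.lf 0x318152e))) (.nd (.nd (.lf 0x0) (.lf 0x3bfddd)) (.nd (.lf 0x0) (.lf 0xdd94fe)))) (.nd (.nd (.nd (.lf 0x0) (.lf 0x232f1d9)) (.nd (.lf 0x0) (.lf 0xbae8f6))) (.nd (.nd (.lf 0x0) (.lf 0x9c961a)) (.nd (.lf 0xcf8157) (.lf 0x31ae6bb))))) (.nd (.nd (.nd (.nd (.lf 0x0) (.lf 0x0)) (.nd (.lf 0x0) (.lf 0x4d8718))) (.nd (.nd (.lf 0x0) (.lf 0x0)) (.nd (.lf 0xf1d7b0) (.lf 0xddcd65)))) (.nd (.nd (.nd (.lf 0x0) (.lf 0x0)) (.nd (.lf 0x0) (.lf 0x713532))) (.nd (.nd (.lf 0x234cfb2) (.lf 0x87caa6)) (.nd (.lf 0x2f728f8) (.lf 0x114cbc4)))))) (.nd (.nd (.nd (.nd (.nd (.lf 0x0) (.lf 0x0)) (.nd (.lf 0x0) (.lf 0x0))) (.nd (.nd (.lf 0x0) (.lf 0x1195e3d)) (.nd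 (.lf 0x1ecce1) (.lf 0x586bc0)))) (.nd (.nd (.nd (.lf 0x0) (.lf 0x2672a71)) (.nd (.lf 0x0) (.lf 0x360a7))) (.nd (.nd (.lf 0x0) (.lf 0x118a718)) (.nd (.lf 0x8f2d8d) (.lf 0x2c85bf3))))) (.nd (.nd (.nd (.nd (.lf 0x0) (.lf 0x0)) (.nd (.lf 0x0) (.lf 0x0))) (.nd (.nd (.lf 0x0) (.lf 0x0)) (.nd (.lf 0x0) (.lf 0x56b364)))) (.nd (.nd (.nd (.lf 0x0) (.lf 0x0)) (.nd (.lf 0x77a5c3) (.lf 0x2fe36b0))) (.nd (.nd (.lf 0x0) (.lf 0x30f6d0d)) (.nd (.lf 0x0) (.lf 0)))))))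
def witT1_nababba : Tr := (.nd (.nd (.nd (.nd (.nd (.nd (.lf 0x0) (.lf 0x18c82)) (.nd (.lf 0xdac6f3) (.lf 0x10826d1))) (.nd (.nd (.lf 0x0) (.lf 0x10d9441)) (.nd (.lf 0x28853ec) (.lf 0x75afde)))) (.nd (.nd (.nd (.lf 0x0) (.lf 0x2a6d00f)) (.nd (.lf 0x0) (.lf 0x9489a5))) (.nd (.nd (.lf 0x0) (.lf 0x729085)) (.nd (.lf 0x0) (.lf 0x4ca448))))) (.nd (.nd (.nd (.nd (.lf 0x0) (.lf 0x0)) (.nd (.lf 0x0) (.lf 0x8bdc03))) (.nd (.nd (.lf 0x0) (.lf 0x0)) (.nd (.lf 0xa52076) (.lf 0xf3341a)))) (.nd (.nd (.nd (.lf 0x0) (.lf 0x0)) (.nd (.lf 0x5362d5) (.lf 0x1602f2))) (.nd (.nd (.lf 0x0) (.lf 0x748a8d)) (.nd (.lf 0x0) (.lf 0x0)))))) (.nd (.nd (.nd (.nd (.nd (.lf 0x0) (.lf 0x2858e20)) (.nd (.lf 0x0) (.lf 0x60a8a7))) (.nd (.nd (.lf 0x0) (.lf 0x1192ac4))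 (.nd (.lf 0x0) (.lf 0x1c7c29)))) (.nd (.nd (.nd (.lf 0x0) (.lf 0x5e2af9)) (.nd (.lf 0x0) (.lf 0x0))) (.nd (.nd (.lf 0x0) (.lf 0x2df1e12)) (.nd (.lf 0xb53789) (.lf 0x2e0dad1))))) (.nd (.nd (.nd (.nd (.lf 0x0) (.lf 0x32e845)) (.nd (.lf 0x8a349d) (.lf 0x0))) (.nd (.nd (.lf 0xccf924) (.lf 0x295b11b)) (.nd (.lf 0x0) (.lf 0x28157e2)))) (.nd (.nd (.nd (.lf 0x0) (.lf 0x0)) (.nd (.lf 0x0) (.lf 0x2ed7ac7))) (.nd (.nd (.lf 0x0) (.lf 0x25bf059)) (.nd (.lf 0x208810e) (.lf 0xfddd6)))))))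
def witT1_nababbb : Tr := (.nd (.nd (.nd (.nd (.nd (.nd (.lf 0x0) (.lf 0x26171a1)) (.nd (.lf 0x0) (.lf 0x57aecc))) (.nd (.nd (.lf 0x0) (.lf 0x1daa3e)) (.nd (.lf 0x0) (.lf 0x2d081bb)))) (.nd (.nd (.nd (.lf 0x0) (.lf 0x79074a)) (.nd (.lf 0x0) (.lf 0x31f351b))) (.nd (.nd (.lf 0x0) (.lf 0x0)) (.nd (.lf 0x0) (.lf 0x31f21e6))))) (.nd (.nd (.nd (.nd (.lf 0x0) (.lf 0x26ee35d)) (.nd (.lf 0x0) (.lf 0x309c555))) (.nd (.nd (.lf 0x0) (.lf 0x266bc19)) (.nd (.lf 0x0) (.lf 0x230029e)))) (.nd (.nd (.nd (.lf 0x0) (.lf 0x0)) (.nd (.lf 0x2dc9e09) (.lf 0x3146b5d))) (.nd (.nd (.lf 0x0) (.lf 0x5d08)) (.nd (.lf 0x25a384a) (.lf 0xb9eef4)))))) (.nd (.nd (.nd (.nd (.nd (.lf 0x0) (.lf 0x10b2def)) (.nd (.lf 0x0) (.lf 0x2140cad))) (.nd (.nd (.lf 0x22753dc) (.lf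 0x708e28)) (.nd (.lf 0x0) (.lf 0x101aa1c)))) (.nd (.nd (.nd (.lf 0x0) (.lf 0x2d0bd5f)) (.nd (.lf 0x2f60d54) (.lf 0x6184da))) (.nd (.nd (.lf 0x0) (.lf 0x88f431)) (.nd (.lf 0x0) (.lf 0xb70a12))))) (.nd (.nd (.nd (.nd (.lf 0x0) (.lf 0x0)) (.nd (.lf 0xd7293f) (.lf 0x26273a7))) (.nd (.nd (.lf 0x2081abe) (.lf 0x0)) (.nd (.lf 0x0) (.lf 0x3147cda)))) (.nd (.nd (.nd (.lf 0x2f56d77) (.lf 0xf2300)) (.nd (.lf 0x0) (.lf 0x3408b0))) (.nd (.nd (.lf 0x0) (.lf 0x9a6393)) (.nd (.lf 0x0) (.lf 0)))))))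
def witT1_nabbaaa : Tr := (.nd (.nd (.nd (.nd (.nd (.nd (.lf 0x0) (.lf 0x21bbd26)) (.nd (.lf 0x2702f4c) (.lf 0x0))) (.nd (.nd (.lf 0x0) (.lf 0x25c154f)) (.nd (.lf 0x0) (.lf 0x0)))) (.nd (.nd (.nd (.lf 0x0) (.lf 0x0)) (.nd (.lf 0xc6a6fc) (.lf 0x222408d))) (.nd (.nd (.lf 0x0) (.lf 0x11fa796)) (.nd (.lf 0x26bb359) (.lf 0x93da30))))) (.nd (.nd (.nd (.nd (.lf 0x0) (.lf 0x5b5914)) (.nd (.lf 0x0) (.lf 0x2ca6d8c))) (.nd (.nd (.lf 0x0) (.lf 0x0)) (.nd (.lf 0x0) (.lf 0xf0cecc)))) (.nd (.nd (.nd (.lf 0x0) (.lf 0x0)) (.nd (.lf 0x0) (.lf 0x9ab935))) (.nd (.nd (.lf 0x0) (.lf 0x29894f6)) (.nd (.lf 0x0) (.lf 0x1b326a)))))) (.nd (.nd (.nd (.nd (.nd (.lf 0x0) (.lf 0x6789af)) (.nd (.lf 0x0) (.lf 0x0))) (.nd (.nd (.lf 0x11d6409) (.lf 0x3c4511)) (.nd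 (.lf 0x0) (.lf 0xe4909e)))) (.nd (.nd (.nd (.lf 0xefc829) (.lf 0x0)) (.nd (.lf 0x0) (.lf 0x2ef7b85))) (.nd (.nd (.lf 0x0) (.lf 0x0)) (.nd (.lf 0x0) (.lf 0xa90e7e))))) (.nd (.nd (.nd (.nd (.lf 0x0) (.lf 0x2d31c6c)) (.nd (.lf 0x2a14ade) (.lf 0x1461fa))) (.nd (.nd (.lf 0x0) (.lf 0xd57acc)) (.nd (.lf 0x29d48f3) (.lf 0x2de797d)))) (.nd (.nd (.nd (.lf 0x0) (.lf 0x0)) (.nd (.lf 0x0) (.lf 0x104843a))) (.nd (.nd (.lf 0x0) (.lf 0x379b74)) (.nd (.lf 0x218afed) (.lf 0x263027a)))))))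
def witT1_nabbaab : Tr := (.nd (.nd (.nd (.nd (.nd (.nd (.lf 0x0) (.lf 0x0)) (.nd (.lf 0x0) (.lf 0x7d2939))) (.nd (.nd (.lf 0x0) (.lf 0x29f63e2)) (.nd (.lf 0x0) (.lf 0x2c8559a)))) (.nd (.nd (.nd (.lf 0x678a88) (.lf 0x0)) (.nd (.lf 0xc6f286) (.lf 0x0))) (.nd (.nd (.lf 0x0) (.lf 0xf9a073)) (.nd (.lf 0x0) (.lf 0x20de821))))) (.nd (.nd (.nd (.nd (.lf 0x0) (.lf 0x2e32c00)) (.nd (.lf 0x0) (.lf 0x0))) (.nd (.nd (.lf 0x0) (.lf 0x28edc76)) (.nd (.lf 0x0) (.lf 0xbfdd5b)))) (.nd (.nd (.nd (.lf 0x0) (.lf 0x0)) (.nd (.lf 0x0) (.lf 0x3bb8d7))) (.nd (.nd (.lf 0x0) (.lf 0x2e6a517)) (.nd (.lf 0x0) (.lf 0x230a5)))))) (.nd (.nd (.nd (.nd (.nd (.lf 0x0) (.lf 0x0)) (.nd (.lf 0x0) (.lf 0xd58195))) (.nd (.nd (.lf 0x0) (.lf 0x0)) (.nd (.lf 0x7e56be) (.lf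 0xac05c8)))) (.nd (.nd (.nd (.lf 0x0) (.lf 0x0)) (.nd (.lf 0x0) (.lf 0x26791aa))) (.nd (.nd (.lf 0x118dda1) (.lf 0x27a687a)) (.nd (.lf 0xcab92b) (.lf 0x31aa58d))))) (.nd (.nd (.nd (.nd (.lf 0x0) (.lf 0x655ac)) (.nd (.lf 0x0) (.lf 0x30bf618))) (.nd (.nd (.lf 0x0) (.lf 0x0)) (.nd (.lf 0x27d04a4) (.lf 0x25b46f3)))) (.nd (.nd (.nd (.lf 0x0) (.lf 0x2742c9f)) (.nd (.lf 0x0) (.lf 0x25b6201))) (.nd (.nd (.lf 0x0) (.lf 0x2dfc60c)) (.nd (.lf 0x0) (.lf 0)))))))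
def witT1_nabbaba : Tr := (.nd (.nd (.nd (.nd (.nd (.nd (.lf 0x0) (.lf 0x107e737)) (.nd (.lf 0xdfa60) (.lf 0x2905833))) (.nd (.nd (.lf 0x0) (.lf 0x0)) (.nd (.lf 0x0) (.lf 0x0)))) (.nd (.nd (.nd (.lf 0x0) (.lf 0x97a133)) (.nd (.lf 0x0) (.lf 0xf9f2c3))) (.nd (.nd (.lf 0x0) (.lf 0x10844c3)) (.nd (.lf 0x0) (.lf 0x119b5c9))))) (.nd (.nd (.nd (.nd (.lf 0x0) (.lf 0x2369b69)) (.nd (.lf 0x0) (.lf 0x2281a9e))) (.nd (.nd (.lf 0x0) (.lf 0x0)) (.nd (.lf 0x107404e) (.lf 0x4d326)))) (.nd (.nd (.nd (.lf 0x0) (.lf 0x0)) (.nd (.lf 0x2088622) (.lf 0x2663040))) (.nd (.nd (.lf 0x0) (.lf 0x2d37b93)) (.nd (.lf 0x0) (.lf 0x25d7146)))))) (.nd (.nd (.nd (.nd (.nd (.lf 0x0) (.lf 0x18348)) (.nd (.lf 0x0) (.lf 0x2a10d1b))) (.nd (.nd (.lf 0xd1dd43) (.lf 0x20334a1))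 (.nd (.lf 0x11951c8) (.lf 0x1c6783)))) (.nd (.nd (.nd (.lf 0x0) (.lf 0xd6cc9f)) (.nd (.lf 0x0) (.lf 0x31dfdb5))) (.nd (.nd (.lf 0x0) (.lf 0x0)) (.nd (.lf 0x0) (.lf 0xc98f87))))) (.nd (.nd (.nd (.nd (.lf 0x0) (.lf 0x0)) (.nd (.lf 0x39e635) (.lf 0xeeee27))) (.nd (.nd (.lf 0xb045d2) (.lf 0x95cd47)) (.nd (.lf 0x28297ba) (.lf 0x2117996)))) (.nd (.nd (.nd (.lf 0x0) (.lf 0x0)) (.nd (.lf 0x0) (.lf 0x268a94e))) (.nd (.nd (.lf 0x306952d) (.lf 0x0)) (.nd (.lf 0x0) (.lf 0x2adb5fd)))))))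
def witT1_nabbabb : Tr := (.nd (.nd (.nd (.nd (.nd (.nd (.lf 0x0) (.lf 0x201a6ff)) (.nd (.lf 0x0) (.lf 0x2cb621e))) (.nd (.nd (.lf 0x0) (.lf 0x2d661b4)) (.nd (.lf 0x2dd8ee9) (.lf 0xe6213f)))) (.nd (.nd (.nd (.lf 0x0) (.lf 0x0)) (.nd (.lf 0x23bc348) (.lf 0x227f315))) (.nd (.nd (.lf 0x0) (.lf 0x27927b2)) (.nd (.lf 0x0) (.lf 0x251ca6e))))) (.nd (.nd (.nd (.nd (.lf 0x0) (.lf 0x0)) (.nd (.lf 0xc21b17) (.lf 0xbd8158))) (.nd (.nd (.lf 0xcb2ac5) (.lf 0x0)) (.nd (.lf 0x0) (.lf 0x2117df1)))) (.nd (.nd (.nd (.lf 0x0) (.lf 0x106fc5)) (.nd (.lf 0x7993bf) (.lf 0x896bcd))) (.nd (.nd (.lf 0xee9dbb) (.lf 0xfa76ef)) (.nd (.lf 0x0) (.lf 0x238033f)))))) (.nd (.nd (.nd (.nd (.nd (.lf 0x0) (.lf 0x0)) (.nd (.lf 0x0) (.lf 0x0))) (.nd (.nd (.lf 0x0) (.lf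 0x2325388)) (.nd (.lf 0x0) (.lf 0x2ae4db5)))) (.nd (.nd (.nd (.lf 0x0) (.lf 0x0)) (.nd (.lf 0x0) (.lf 0x105f56a))) (.nd (.nd (.lf 0x0) (.lf 0x0)) (.nd (.lf 0xeea9d8) (.lf 0x745668))))) (.nd (.nd (.nd (.nd (.lf 0x0) (.lf 0x1dc5cc)) (.nd (.lf 0x0) (.lf 0x24cf732))) (.nd (.nd (.lf 0x0) (.lf 0xdbdaf)) (.nd (.lf 0x0) (.lf 0x2b1edc7)))) (.nd (.nd (.nd (.lf 0x0) (.lf 0x0)) (.nd (.lf 0x0) (.lf 0x0))) (.nd (.nd (.lf 0x0) (.lf 0x2ed8a9f)) (.nd (.lf 0xaa01fd) (.lf 0)))))))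
def witT1_nabbbaa : Tr := (.nd (.nd (.nd (.nd (.nd (.nd (.lf 0x0) (.lf 0x0)) (.nd (.lf 0x0) (.lf 0x240734e))) (.nd (.nd (.lf 0x0) (.lf 0x209c2bd)) (.nd (.lf 0x0) (.lf 0x10aa241)))) (.nd (.nd (.nd (.lf 0x0) (.lf 0x2d0c655)) (.nd (.lf 0x5b7409) (.lf 0x0))) (.nd (.nd (.lf 0x0) (.lf 0x61cb8e)) (.nd (.lf 0x3dc0a8) (.lf 0xe0c223))))) (.nd (.nd (.nd (.nd (.lf 0x0) (.lf 0x0)) (.nd (.lf 0x0) (.lf 0xbf5d98))) (.nd (.nd (.lf 0x0) (.lf 0x0)) (.nd (.lf 0x2f3452e) (.lf 0x85fbba)))) (.nd (.nd (.nd (.lf 0x0) (.lf 0x2c57c1c)) (.nd (.lf 0x0) (.lf 0x29484f6))) (.nd (.nd (.lf 0x0) (.lf 0x2df1927)) (.nd (.lf 0x30e264c) (.lf 0x20ae18c)))))) (.nd (.nd (.nd (.nd (.nd (.lf 0x0) (.lf 0x47ac7f)) (.nd (.lf 0x0) (.lf 0x0))) (.nd (.nd (.lf 0x0) (.lf 0xc851a7))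 (.nd (.lf 0x0) (.lf 0x11823e1)))) (.nd (.nd (.nd (.lf 0x0) (.lf 0x22add38)) (.nd (.lf 0x0) (.lf 0x2e7c09a))) (.nd (.nd (.lf 0x84101e) (.lf 0x293715a)) (.nd (.lf 0xf41b62) (.lf 0xeaaf16))))) (.nd (.nd (.nd (.nd (.lf 0x0) (.lf 0x0)) (.nd (.lf 0x0) (.lf 0xa4c75e))) (.nd (.nd (.lf 0x0) (.lf 0x0)) (.nd (.lf 0x266c53c) (.lf 0xbb6315)))) (.nd (.nd (.nd (.lf 0x0) (.lf 0x0)) (.nd (.lf 0x216114a) (.lf 0xbf8507))) (.nd (.nd (.lf 0x0) (.lf 0x2f069dc)) (.nd (.lf 0xb6c052) (.lf 0x8a9645)))))))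
def witT1_nabbbab : Tr := (.nd (.nd (.nd (.nd (.nd (.nd (.lf 0x0) (.lf 0x0)) (.nd (.lf 0x25b23ec) (.lf 0x7309a7))) (.nd (.nd (.lf 0x0) (.lf 0x2549998)) (.nd (.lf 0x2283a8d) (.lf 0x4823bf)))) (.nd (.nd (.nd (.lf 0x0) (.lf 0x0)) (.nd (.lf 0x0) (.lf 0x20cddd0))) (.nd (.nd (.lf 0x0) (.lf 0x0)) (.nd (.lf 0x0) (.lf 0xd1abba))))) (.nd (.nd (.nd (.nd (.lf 0xe67d86) (.lf 0x8bda3b)) (.nd (.lf 0x310eddc) (.lf 0x1063580))) (.nd (.nd (.lf 0x0) (.lf 0x59a7d4)) (.nd (.lf 0x0) (.lf 0xcba4b0)))) (.nd (.nd (.nd (.lf 0x0) (.lf 0x0)) (.nd (.lf 0xf80079) (.lf 0x246ea42))) (.nd (.nd (.lf 0xf09c8b) (.lf 0x20d59fe)) (.nd (.lf 0x2726211) (.lf 0x2bb0e86)))))) (.nd (.nd (.nd (.nd (.nd (.lf 0x0) (.lf 0xf3b319)) (.nd (.lf 0x0) (.lf 0xbf89be))) (.nd (.nd (.lf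 0x0) (.lf 0x2246e65)) (.nd (.lf 0x0) (.lf 0x7aa414)))) (.nd (.nd (.nd (.lf 0x0) (.lf 0x0)) (.nd (.lf 0x0) (.lf 0x375d9d))) (.nd (.nd (.lf 0x0) (.lf 0x2d5dd20)) (.nd (.lf 0x6589e) (.lf 0x23af567))))) (.nd (.nd (.nd (.nd (.lf 0x0) (.lf 0x0)) (.nd (.lf 0xf7624) (.lf 0x1058a71))) (.nd (.nd (.lf 0x0) (.lf 0x239f4b7)) (.nd (.lf 0x0) (.lf 0x3f33bf)))) (.nd (.nd (.nd (.lf 0x0) (.lf 0x0)) (.nd (.lf 0x317d57b) (.lf 0x2221b67))) (.nd (.nd (.lf 0x0) (.lf 0x0)) (.nd (.lf 0x0) (.lf 0)))))))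
def witT1_nabbbba : Tr := (.nd (.nd (.nd (.nd (.nd (.nd (.lf 0x0) (.lf 0x0)) (.nd (.lf 0x0) (.lf 0x215219f))) (.nd (.nd (.lf 0xa588a7) (.lf 0x0)) (.nd (.lf 0x3046689) (.lf 0x2e90a8f)))) (.nd (.nd (.nd (.lf 0x0) (.lf 0x0)) (.nd (.lf 0x0) (.lf 0x9ef193))) (.nd (.nd (.lf 0xed14bf) (.lf 0x272b5d7)) (.nd (.lf 0x0) (.lf 0x9387b4))))) (.nd (.nd (.nd (.nd (.lf 0x0) (.lf 0x226de31)) (.nd (.lf 0x0) (.lf 0x2c2d6a0))) (.nd (.nd (.lf 0x0) (.lf 0x155a70)) (.nd (.lf 0xe2da55) (.lf 0x2454256)))) (.nd (.nd (.nd (.lf 0x11b6c2) (.lf 0x0)) (.nd (.lf 0x2cd687a) (.lf 0x1eb4d4))) (.nd (.nd (.lf 0x0) (.lf 0x10d2865)) (.nd (.lf 0x0) (.lf 0x318d73e)))))) (.nd (.nd (.nd (.nd (.nd (.lf 0x0) (.lf 0x0)) (.nd (.lf 0x0) (.lf 0x3ffe27))) (.nd (.nd (.lf 0x23fac19)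 (.lf 0x0)) (.nd (.lf 0x0) (.lf 0x0)))) (.nd (.nd (.nd (.lf 0x0) (.lf 0x0)) (.nd (.lf 0x2573a3) (.lf 0x11ca3c))) (.nd (.nd (.lf 0x0) (.lf 0x311baed)) (.nd (.lf 0x2a12438) (.lf 0xa5785))))) (.nd (.nd (.nd (.nd (.lf 0x0) (.lf 0xe5fa83)) (.nd (.lf 0x0) (.lf 0x2200d6a))) (.nd (.nd (.lf 0x0) (.lf 0x4b003f)) (.nd (.lf 0x5a7312) (.lf 0x30e5419)))) (.nd (.nd (.nd (.lf 0x0) (.lf 0x2d14474)) (.nd (.lf 0x22ef899) (.lf 0xa13a94))) (.nd (.nd (.lf 0x0) (.lf 0x23d9e5b)) (.nd (.lf 0x0) (.lf 0)))))))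
def witT1_nabbbbb : Tr := (.nd (.nd (.nd (.nd (.nd (.nd (.lf 0x0) (.lf 0xa64546)) (.nd (.lf 0x214da9d) (.lf 0x2710ef2))) (.nd (.nd (.lf 0x0) (.lf 0x0)) (.nd (.lf 0x0) (.lf 0x0)))) (.nd (.nd (.nd (.lf 0x0) (.lf 0x26d17c4)) (.nd (.lf 0x634417) (.lf 0x2ce476b))) (.nd (.nd (.lf 0x0) (.lf 0x0)) (.nd (.lf 0x29ea67) (.lf 0x29c0461))))) (.nd (.nd (.nd (.nd (.lf 0x0) (.lf 0x26343f)) (.nd (.lf 0x2d7e40a) (.lf 0x734aed))) (.nd (.nd (.lf 0x0) (.lf 0x1186fdd)) (.nd (.lf 0x276171b) (.lf 0x284aac8)))) (.nd (.nd (.nd (.lf 0x0) (.lf 0x0)) (.nd (.lf 0x0) (.lf 0x21e8cd0))) (.nd (.nd (.lf 0x994062) (.lf 0x0)) (.nd (.lf 0x0) (.lf 0x2e0a301)))))) (.nd (.nd (.nd (.nd (.nd (.lf 0x0) (.lf 0x27a3142)) (.nd (.lf 0xe305e3) (.lf 0x5b625e))) (.nd (.nd (.lf 0xf33245)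 (.lf 0xf6ee6f)) (.nd (.lf 0x30139c) (.lf 0x79a92b)))) (.nd (.nd (.nd (.lf 0x0) (.lf 0x0)) (.nd (.lf 0xcc9afc) (.lf 0x230e0d))) (.nd (.nd (.lf 0x0) (.lf 0xceb92b)) (.nd (.lf 0x10e3901) (.lf 0xd72118))))) (.nd (.nd (.nd (.nd (.lf 0x0) (.lf 0x2c4af22)) (.nd (.lf 0x0) (.lf 0x0))) (.nd (.nd (.lf 0x0) (.lf 0xa67b9b)) (.nd (.lf 0x0) (.lf 0x29b91c4)))) (.nd (.nd (.nd (.lf 0x0) (.lf 0xf7e81c)) (.nd (.lf 0x0) (.lf 0x22c82f0))) (.nd (.nd (.lf 0x0) (.lf 0x0)) (.nd (.lf 0x2800402) (.lf 0)))))))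
def witT1_nbaaaaa : Tr := (.nd (.nd (.nd (.nd (.nd (.nd (.lf 0x0) (.lf 0x3dd120)) (.nd (.lf 0x0) (.lf 0x20b4a61))) (.nd (.nd (.lf 0x0) (.lf 0xea7406)) (.nd (.lf 0xb2a6ba) (.lf 0x0)))) (.nd (.nd (.nd (.lf 0x0) (.lf 0x0)) (.nd (.lf 0x0) (.lf 0x284faa7))) (.nd (.nd (.lf 0x0) (.lf 0x31b17d4)) (.nd (.lf 0x31fe717) (.lf 0xc482db))))) (.nd (.nd (.nd (.nd (.lf 0x0) (.lf 0x2ef6f71)) (.nd (.lf 0x1c01f1) (.lf 0x57f070))) (.nd (.nd (.lf 0x0) (.lf 0x0)) (.nd (.lf 0x446b4c) (.lf 0x3f5702)))) (.nd (.nd (.nd (.lf 0x0) (.lf 0x0)) (.nd (.lf 0x2dab9d9) (.lf 0x11d0863))) (.nd (.nd (.lf 0x0) (.lf 0x27d3442)) (.nd (.lf 0x0) (.lf 0x7f72fc)))))) (.nd (.nd (.nd (.nd (.nd (.lf 0x0) (.lf 0x0)) (.nd (.lf 0x9948d9) (.lf 0x0))) (.nd (.nd (.lf 0x0) (.lf 0xaa245c))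 (.nd (.lf 0x0) (.lf 0x5fd6dd)))) (.nd (.nd (.nd (.lf 0x0) (.lf 0x702784)) (.nd (.lf 0x0) (.lf 0x0))) (.nd (.nd (.lf 0x0) (.lf 0x2c53247)) (.nd (.lf 0x0) (.lf 0x2a0f83d))))) (.nd (.nd (.nd (.nd (.lf 0x0) (.lf 0x0)) (.nd (.lf 0x0) (.lf 0x3158c5e))) (.nd (.nd (.lf 0x0) (.lf 0x0)) (.nd (.lf 0x0) (.lf 0xcead97)))) (.nd (.nd (.nd (.lf 0x0) (.lf 0x2f0d316)) (.nd (.lf 0x2b7018e) (.lf 0x9735e3))) (.nd (.nd (.lf 0x0) (.lf 0x2f29456)) (.nd (.lf 0x0) (.lf 0xe87c28)))))))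
def witT1_nbaaaab : Tr := (.nd (.nd (.nd (.nd (.nd (.nd (.lf 0x0) (.lf 0x0)) (.nd (.lf 0x0) (.lf 0xc7016a))) (.nd (.nd (.lf 0x22782e9) (.lf 0x0)) (.nd (.lf 0x0) (.lf 0x279f46c)))) (.nd (.nd (.nd (.lf 0x0) (.lf 0x25c1244)) (.nd (.lf 0x0) (.lf 0x2102098))) (.nd (.nd (.lf 0x25f8086) (.lf 0x0)) (.nd (.lf 0x0) (.lf 0x0))))) (.nd (.nd (.nd (.nd (.lf 0x0) (.lf 0x0)) (.nd (.lf 0x0) (.lf 0x6a1c9d))) (.nd (.nd (.lf 0x0) (.lf 0x0)) (.nd (.lf 0x0) (.lf 0x20bc16b)))) (.nd (.nd (.nd (.lf 0x0) (.lf 0x0)) (.nd (.lf 0x0) (.lf 0x8bd348))) (.nd (.nd (.lf 0x0) (.lf 0x0)) (.nd (.lf 0x0) (.lf 0x2ac3e73)))))) (.nd (.nd (.nd (.nd (.nd (.lf 0x0) (.lf 0x86c384)) (.nd (.lf 0x0) (.lf 0x2dc8315))) (.nd (.nd (.lf 0x0) (.lf 0x2aa032b)) (.nd (.lf 0x0) (.lf 0x22cc194))))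 (.nd (.nd (.nd (.lf 0x0) (.lf 0x0)) (.nd (.lf 0x0) (.lf 0x2d8e4a1))) (.nd (.nd (.lf 0x0) (.lf 0x47d30)) (.nd (.lf 0x22b2ef) (.lf 0x45e78c))))) (.nd (.nd (.nd (.nd (.lf 0x0) (.lf 0x1df552)) (.nd (.lf 0x0) (.lf 0x9184b0))) (.nd (.nd (.lf 0x0) (.lf 0x5ca9f4)) (.nd (.lf 0x0) (.lf 0x100154b)))) (.nd (.nd (.nd (.lf 0x0) (.lf 0x30f43c0)) (.nd (.lf 0x0) (.lf 0xf9b452))) (.nd (.nd (.lf 0x0) (.lf 0x9e9530)) (.nd (.lf 0xe77b88) (.lf 0)))))))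
def witT1_nbaaaba : Tr := (.nd (.nd (.nd (.nd (.nd (.nd (.lf 0x0) (.lf 0xabfaef)) (.nd (.lf 0x0) (.lf 0xe19663))) (.nd (.nd (.lf 0x0) (.lf 0x0)) (.nd (.lf 0x0) (.lf 0x2a8dc24)))) (.nd (.nd (.nd (.lf 0x0) (.lf 0x0)) (.nd (.lf 0x0) (.lf 0x0))) (.nd (.nd (.lf 0xa51a69) (.lf 0x2f330e0)) (.nd (.lf 0x0) (.lf 0x3984c7))))) (.nd (.nd (.nd (.nd (.lf 0x0) (.lf 0x0)) (.nd (.lf 0x0) (.lf 0x316ee84))) (.nd (.nd (.lf 0x0) (.lf 0x0)) (.nd (.lf 0x0) (.lf 0x1126ef6)))) (.nd (.nd (.nd (.lf 0x0) (.lf 0x1f1312)) (.nd (.lf 0x0) (.lf 0x0))) (.nd (.nd (.lf 0x1df2dd) (.lf 0x106ae16)) (.nd (.lf 0xbd9e61) (.lf 0x2db2818)))))) (.nd (.nd (.nd (.nd (.nd (.lf 0x0) (.lf 0x23c8850)) (.nd (.lf 0x0) (.lf 0xc09451))) (.nd (.nd (.lf 0x0) (.lf 0x958a14)) (.nd (.lf 0x0)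 (.lf 0x2d1bbf2)))) (.nd (.nd (.nd (.lf 0x0) (.lf 0x0)) (.nd (.lf 0x0) (.lf 0x21d2f78))) (.nd (.nd (.lf 0x0) (.lf 0x0)) (.nd (.lf 0x0) (.lf 0x945d49))))) (.nd (.nd (.nd (.nd (.lf 0x0) (.lf 0x10ddaa6)) (.nd (.lf 0x0) (.lf 0x2c16138))) (.nd (.nd (.lf 0x0) (.lf 0x23c137a)) (.nd (.lf 0x0) (.lf 0xd03b3a)))) (.nd (.nd (.nd (.lf 0xf46423) (.lf 0x0)) (.nd (.lf 0x30ff5cf) (.lf 0x0))) (.nd (.nd (.lf 0x0) (.lf 0x794cce)) (.nd (.lf 0xd4127b) (.lf 0x20ae97f)))))))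
def witT1_nbaaabb : Tr := (.nd (.nd (.nd (.nd (.nd (.nd (.lf 0x0) (.lf 0x0)) (.nd (.lf 0x0) (.lf 0x2370192))) (.nd (.nd (.lf 0x0) (.lf 0x30746de)) (.nd (.lf 0x0) (.lf 0x2576fd2)))) (.nd (.nd (.nd (.lf 0x0) (.lf 0x10fef12)) (.nd (.lf 0x6552f7) (.lf 0x309aa46))) (.nd (.nd (.lf 0x0) (.lf 0x0)) (.nd (.lf 0x0) (.lf 0xaade0f))))) (.nd (.nd (.nd (.nd (.lf 0x0) (.lf 0x0)) (.nd (.lf 0x0) (.lf 0x6c8950))) (.nd (.nd (.lf 0xebe5c9) (.lf 0x0)) (.nd (.lf 0x7fd3ea) (.lf 0xf899d7)))) (.nd (.nd (.nd (.lf 0x0) (.lf 0x3a4af9)) (.nd (.lf 0x0) (.lf 0xe640aa))) (.nd (.nd (.lf 0x0) (.lf 0x0)) (.nd (.lf 0x0) (.lf 0x7f1577)))))) (.nd (.nd (.nd (.nd (.nd (.lf 0x0) (.lf 0x0)) (.nd (.lf 0x0) (.lf 0x0))) (.nd (.nd (.lf 0x0) (.lf 0x302a0dd)) (.nd (.lf 0x0) (.lf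 0x3d18ed)))) (.nd (.nd (.nd (.lf 0x0) (.lf 0x0)) (.nd (.lf 0x127d7e) (.lf 0x2f62a36))) (.nd (.nd (.lf 0x29865b2) (.lf 0x24c2c5c)) (.nd (.lf 0x0) (.lf 0x3dd334))))) (.nd (.nd (.nd (.nd (.lf 0x0) (.lf 0xc2ee1f)) (.nd (.lf 0x11b7fa) (.lf 0x0))) (.nd (.nd (.lf 0x1190487) (.lf 0x26c8858)) (.nd (.lf 0x0) (.lf 0x4bdce3)))) (.nd (.nd (.nd (.lf 0x56698b) (.lf 0x0)) (.nd (.lf 0x0) (.lf 0x0))) (.nd (.nd (.lf 0x0) (.lf 0x2bc9d49)) (.nd (.lf 0x0) (.lf 0)))))))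
def witT1_nbaabaa : Tr := (.nd (.nd (.nd (.nd (.nd (.nd (.lf 0x0) (.lf 0x2d26a39)) (.nd (.lf 0x0) (.lf 0x3076a4f))) (.nd (.nd (.lf 0x0) (.lf 0x7f0914)) (.nd (.lf 0x0) (.lf 0x318dd8b)))) (.nd (.nd (.nd (.lf 0x0) (.lf 0x21830a4)) (.nd (.lf 0x0) (.lf 0x26d618e))) (.nd (.nd (.lf 0x0) (.lf 0x28910be)) (.nd (.lf 0x267b0bb) (.lf 0xc80b1c))))) (.nd (.nd (.nd (.nd (.lf 0x0) (.lf 0x23017cb)) (.nd (.lf 0x0) (.lf 0x0))) (.nd (.nd (.lf 0x0) (.lf 0x23ad14e)) (.nd (.lf 0x3177111) (.lf 0x4c9dfb)))) (.nd (.nd (.nd (.lf 0x0) (.lf 0x2ca23b3)) (.nd (.lf 0x0) (.lf 0x2628c7a))) (.nd (.nd (.lf 0x0) (.lf 0x90cfdd)) (.nd (.lf 0x631dd9) (.lf 0x2dafe05)))))) (.nd (.nd (.nd (.nd (.nd (.lf 0x0) (.lf 0x0)) (.nd (.lf 0x0) (.lf 0x27703b0))) (.nd (.nd (.lf 0x23a3723)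 (.lf 0x0)) (.nd (.lf 0x2fad903) (.lf 0x31e292a)))) (.nd (.nd (.nd (.lf 0x0) (.lf 0x0)) (.nd (.lf 0x0) (.lf 0x315cdb5))) (.nd (.nd (.lf 0x0) (.lf 0xd5909f)) (.nd (.lf 0x2b63026) (.lf 0x2a2f6fb))))) (.nd (.nd (.nd (.nd (.lf 0x0) (.lf 0x0)) (.nd (.lf 0x0) (.lf 0x0))) (.nd (.nd (.lf 0x22d279) (.lf 0x81737c)) (.nd (.lf 0x0) (.lf 0x27b02ca)))) (.nd (.nd (.nd (.lf 0x0) (.lf 0x0)) (.nd (.lf 0x24a7173) (.lf 0x0))) (.nd (.nd (.lf 0x0) (.lf 0x3172256)) (.nd (.lf 0x0) (.lf 0x245e079)))))))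
def witT1_nbaabab : Tr := (.nd (.nd (.nd (.nd (.nd (.nd (.lf 0x0) (.lf 0x6fa526)) (.nd (.lf 0x109588) (.lf 0x2230362))) (.nd (.nd (.lf 0x5a84e2) (.lf 0x271cbe7)) (.nd (.lf 0x2a189d2) (.lf 0x10cb11c)))) (.nd (.nd (.nd (.lf 0x0) (.lf 0x0)) (.nd (.lf 0x0) (.lf 0x0))) (.nd (.nd (.lf 0x0) (.lf 0x0)) (.nd (.lf 0x0) (.lf 0x255090))))) (.nd (.nd (.nd (.nd (.lf 0x21e2c69) (.lf 0x0)) (.nd (.lf 0x0) (.lf 0x2d9952e))) (.nd (.nd (.lf 0x0) (.lf 0x0)) (.nd (.lf 0x0) (.lf 0x2f04f97)))) (.nd (.nd (.nd (.lf 0x0) (.lf 0x0)) (.nd (.lf 0x0) (.lf 0x2ab2027))) (.nd (.nd (.lf 0x0) (.lf 0x0)) (.nd (.lf 0x2eedc94) (.lf 0x95766f)))))) (.nd (.nd (.nd (.nd (.nd (.lf 0x0) (.lf 0x0)) (.nd (.lf 0x0) (.lf 0x510839))) (.nd (.nd (.lf 0x0) (.lf 0x2bad0a7)) (.nd (.lf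 0x0) (.lf 0xe72520)))) (.nd (.nd (.nd (.lf 0x0) (.lf 0x22b7bb6)) (.nd (.lf 0x0) (.lf 0xbbde2e))) (.nd (.nd (.lf 0x0) (.lf 0xe543cd)) (.nd (.lf 0x0) (.lf 0xb390f))))) (.nd (.nd (.nd (.nd (.lf 0x2a4c706) (.lf 0x2c2d5d)) (.nd (.lf 0x5e2cb0) (.lf 0x800e8e))) (.nd (.nd (.lf 0x0) (.lf 0x4f418)) (.nd (.lf 0x0) (.lf 0x1192676)))) (.nd (.nd (.nd (.lf 0x0) (.lf 0x0)) (.nd (.lf 0x3033303) (.lf 0xcf5942))) (.nd (.nd (.lf 0x0) (.lf 0x0)) (.nd (.lf 0x0) (.lf 0)))))))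
def witT1_nbaabba : Tr := (.nd (.nd (.nd (.nd (.nd (.nd (.lf 0x0) (.lf 0x0)) (.nd (.lf 0x24b7d85) (.lf 0x100bd67))) (.nd (.nd (.lf 0x0) (.lf 0xc3c48a)) (.nd (.lf 0x0) (.lf 0xdfe7ab)))) (.nd (.nd (.nd (.lf 0x0) (.lf 0x0)) (.nd (.lf 0x0) (.lf 0x43a023))) (.nd (.nd (.lf 0x0) (.lf 0x0)) (.nd (.lf 0x219393f) (.lf 0x17bbe9))))) (.nd (.nd (.nd (.nd (.lf 0x22789e0) (.lf 0x0)) (.nd (.lf 0x0) (.lf 0x0))) (.nd (.nd (.lf 0x0) (.lf 0x278afaf)) (.nd (.lf 0x0) (.lf 0x96dd1e)))) (.nd (.nd (.nd (.lf 0x0) (.lf 0x10ee2f4)) (.nd (.lf 0x0) (.lf 0x144d98))) (.nd (.nd (.lf 0x0) (.lf 0x4c03b)) (.nd (.lf 0x2ba7895) (.lf 0x21e97a5)))))) (.nd (.nd (.nd (.nd (.nd (.lf 0x0) (.lf 0x0)) (.nd (.lf 0x66361f) (.lf 0x808e72))) (.nd (.nd (.lf 0x23d58cc) (.lf 0x0)) (.nd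 (.lf 0x9066e3) (.lf 0x116fe6d)))) (.nd (.nd (.nd (.lf 0x0) (.lf 0x0)) (.nd (.lf 0x0) (.lf 0x9ba108))) (.nd (.nd (.lf 0x362565) (.lf 0x2e26b23)) (.nd (.lf 0x2988220) (.lf 0xa413b2))))) (.nd (.nd (.nd (.nd (.lf 0x0) (.lf 0x0)) (.nd (.lf 0x0) (.lf 0x405b28))) (.nd (.nd (.lf 0x5e8623) (.lf 0x0)) (.nd (.lf 0x2d61874) (.lf 0x1042265)))) (.nd (.nd (.nd (.lf 0x0) (.lf 0x27cfe73)) (.nd (.lf 0x0) (.lf 0xf12fb4))) (.nd (.nd (.lf 0x30de3a5) (.lf 0xfe2b0f)) (.nd (.lf 0x0) (.lf 0x2662f1f)))))))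
def witT1_nbaabbb : Tr := (.nd (.nd (.nd (.nd (.nd (.nd (.lf 0x0) (.lf 0xd635a9)) (.nd (.lf 0xfad7cd) (.lf 0x30b4007))) (.nd (.nd (.lf 0x0) (.lf 0x0)) (.nd (.lf 0x80212a) (.lf 0x9cec85)))) (.nd (.nd (.nd (.lf 0x0) (.lf 0x2578e51)) (.nd (.lf 0x39e07d) (.lf 0x31b812f))) (.nd (.nd (.lf 0x0) (.lf 0x2a1b092)) (.nd (.lf 0x0) (.lf 0xd4f3bb))))) (.nd (.nd (.nd (.nd (.lf 0x0) (.lf 0x3bc47)) (.nd (.lf 0x0) (.lf 0x23f3530))) (.nd (.nd (.lf 0x0) (.lf 0x0)) (.nd (.lf 0x0) (.lf 0x8186fb)))) (.nd (.nd (.nd (.lf 0x0) (.lf 0x0)) (.nd (.lf 0x0) (.lf 0xb3fab6))) (.nd (.nd (.lf 0x0) (.lf 0x24880ca)) (.nd (.lf 0x0) (.lf 0x2662516)))))) (.nd (.nd (.nd (.nd (.nd (.lf 0x0) (.lf 0x0)) (.nd (.lf 0xd6fd10) (.lf 0x0))) (.nd (.nd (.lf 0x0) (.lf 0x0)) (.nd (.lf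 0x0) (.lf 0x2bcbc43)))) (.nd (.nd (.nd (.lf 0x0) (.lf 0x8e7140)) (.nd (.lf 0x2f52316) (.lf 0xa4b100))) (.nd (.nd (.lf 0x42c6c6) (.lf 0x0)) (.nd (.lf 0x0) (.lf 0xe8cac1))))) (.nd (.nd (.nd (.nd (.lf 0x0) (.lf 0x0)) (.nd (.lf 0x0) (.lf 0x1c6674))) (.nd (.nd (.lf 0x0) (.lf 0x24d5561)) (.nd (.lf 0x0) (.lf 0x952851)))) (.nd (.nd (.nd (.lf 0xd32586) (.lf 0x23fea32)) (.nd (.lf 0x0) (.lf 0x86ef70))) (.nd (.nd (.lf 0x0) (.lf 0x2692ae6)) (.nd (.lf 0x2cd2636) (.lf 0)))))))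
def witT1_nbabaaa : Tr := (.nd (.nd (.nd (.nd (.nd (.nd (.lf 0x0) (.lf 0x0)) (.nd (.lf 0x0) (.lf 0x23b3cdb))) (.nd (.nd (.lf 0x0) (.lf 0x7bb4d6)) (.nd (.lf 0xdfcdf4) (.lf 0x3000164)))) (.nd (.nd (.nd (.lf 0x0) (.lf 0x0)) (.nd (.lf 0x0) (.lf 0x209b0cc))) (.nd (.nd (.lf 0x103da7a) (.lf 0x2698655)) (.nd (.lf 0xc00282) (.lf 0x2f6cf53))))) (.nd (.nd (.nd (.nd (.lf 0xc8e8e) (.lf 0x10c8931)) (.nd (.lf 0x0) (.lf 0x2df8e7d))) (.nd (.nd (.lf 0x0) (.lf 0x0)) (.nd (.lf 0x0) (.lf 0x706f36)))) (.nd (.nd (.nd (.lf 0x0) (.lf 0x2b4500e)) (.nd (.lf 0x0) (.lf 0xac2e6c))) (.nd (.nd (.lf 0xe2e212) (.lf 0x339dea)) (.nd (.lf 0x0) (.lf 0x4350dd)))))) (.nd (.nd (.nd (.nd (.nd (.lf 0x0) (.lf 0x0)) (.nd (.lf 0x0) (.lf 0x107d1bd))) (.nd (.nd (.lf 0x0) (.lf 0x0))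 (.nd (.lf 0x0) (.lf 0x0)))) (.nd (.nd (.nd (.lf 0x0) (.lf 0x2c931e2)) (.nd (.lf 0x0) (.lf 0xa566c1))) (.nd (.nd (.lf 0x0) (.lf 0x27b51bc)) (.nd (.lf 0xf188c8) (.lf 0x1eef86))))) (.nd (.nd (.nd (.nd (.lf 0x0) (.lf 0x20dd036)) (.nd (.lf 0x0) (.lf 0x0))) (.nd (.nd (.lf 0x0) (.lf 0x0)) (.nd (.lf 0x0) (.lf 0x910df0)))) (.nd (.nd (.nd (.lf 0x0) (.lf 0x0)) (.nd (.lf 0x230ba9c) (.lf 0xdbcc09))) (.nd (.nd (.lf 0x0) (.lf 0x27b8bff)) (.nd (.lf 0x0) (.lf 0x2740ea5)))))))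
def witT1_nbabaab : Tr := (.nd (.nd (.nd (.nd (.nd (.nd (.lf 0x0) (.lf 0x0)) (.nd (.lf 0x0) (.lf 0x23c40fc))) (.nd (.nd (.lf 0x0) (.lf 0xd043b4)) (.nd (.lf 0x0) (.lf 0x0)))) (.nd (.nd (.nd (.lf 0x0) (.lf 0x0)) (.nd (.lf 0xcd3904) (.lf 0x41c48b))) (.nd (.nd (.lf 0x0) (.lf 0xe86242)) (.nd (.lf 0x3077c40) (.lf 0x28a7096))))) (.nd (.nd (.nd (.nd (.lf 0x0) (.lf 0x2bdf05f)) (.nd (.lf 0x0) (.lf 0x2628411))) (.nd (.nd (.lf 0x0) (.lf 0x2e61d2c)) (.nd (.lf 0x2843673) (.lf 0x0)))) (.nd (.nd (.nd (.lf 0x0) (.lf 0x746d69)) (.nd (.lf 0x0) (.lf 0x3f7828))) (.nd (.nd (.lf 0x0) (.lf 0x2de0f8b)) (.nd (.lf 0x20f4945) (.lf 0x2976855)))))) (.nd (.nd (.nd (.nd (.nd (.lf 0x0) (.lf 0xb0f196)) (.nd (.lf 0x0) (.lf 0x3c4e52))) (.nd (.nd (.lf 0x0) (.lf 0x423397))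 (.nd (.lf 0x5ac09e) (.lf 0x2777d52)))) (.nd (.nd (.nd (.lf 0x0) (.lf 0x0)) (.nd (.lf 0x2b674a9) (.lf 0x216fc31))) (.nd (.nd (.lf 0x2e376a) (.lf 0x3863f5)) (.nd (.lf 0x0) (.lf 0x2c58dbc))))) (.nd (.nd (.nd (.nd (.lf 0x0) (.lf 0x30970f6)) (.nd (.lf 0x0) (.lf 0x229faba))) (.nd (.nd (.lf 0x0) (.lf 0x29969f7)) (.nd (.lf 0x0) (.lf 0xe92245)))) (.nd (.nd (.nd (.lf 0x0) (.lf 0xdebdac)) (.nd (.lf 0x265d12d) (.lf 0x10824e5))) (.nd (.nd (.lf 0x0) (.lf 0x1049df7)) (.nd (.lf 0x0) (.lf 0)))))))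
def witT1_nbababa : Tr := (.nd (.nd (.nd (.nd (.nd (.nd (.lf 0x0) (.lf 0x2dab90)) (.nd (.lf 0x0) (.lf 0x0))) (.nd (.nd (.lf 0x0) (.lf 0x25d471)) (.nd (.lf 0x0) (.lf 0x1a2bec)))) (.nd (.nd (.nd (.lf 0x0) (.lf 0x79897b)) (.nd (.lf 0x33b759) (.lf 0x0))) (.nd (.nd (.lf 0xe9f35b) (.lf 0x0)) (.nd (.lf 0x47c8d4) (.lf 0x453d1))))) (.nd (.nd (.nd (.nd (.lf 0x0) (.lf 0x0)) (.nd (.lf 0x307eb74) (.lf 0x6b62f4))) (.nd (.nd (.lf 0x0) (.lf 0x1028d6b)) (.nd (.lf 0x26844b) (.lf 0x2dd78aa)))) (.nd (.nd (.nd (.lf 0x0) (.lf 0x0)) (.nd (.lf 0x23db4f4) (.lf 0x0))) (.nd (.nd (.lf 0x0) (.lf 0x2dfebf3)) (.nd (.lf 0x2004484) (.lf 0x9bbd42)))))) (.nd (.nd (.nd (.nd (.nd (.lf 0x0) (.lf 0x0)) (.nd (.lf 0x0) (.lf 0xa42ceb))) (.nd (.nd (.lf 0x0) (.lf 0x215bdc3))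 (.nd (.lf 0x0) (.lf 0x267d845)))) (.nd (.nd (.nd (.lf 0x0) (.lf 0x0)) (.nd (.lf 0x0) (.lf 0x23e8b4e))) (.nd (.nd (.lf 0xcd1b1d) (.lf 0x2b374f6)) (.nd (.lf 0x0) (.lf 0x707164))))) (.nd (.nd (.nd (.nd (.lf 0x0) (.lf 0x2e784a7)) (.nd (.lf 0x31c9890) (.lf 0x291e8f4))) (.nd (.nd (.lf 0x0) (.lf 0x2038cfe)) (.nd (.lf 0x0) (.lf 0xbc7247)))) (.nd (.nd (.nd (.lf 0x0) (.lf 0x9c329c)) (.nd (.lf 0x0) (.lf 0x204d348))) (.nd (.nd (.lf 0x0) (.lf 0x7ab57f)) (.nd (.lf 0x0) (.lf 0x8f4b7a)))))))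
def witT1_nbababb : Tr := (.nd (.nd (.nd (.nd (.nd (.nd (.lf 0x0) (.lf 0x1016405)) (.nd (.lf 0x0) (.lf 0x0))) (.nd (.nd (.lf 0x0) (.lf 0x0)) (.nd (.lf 0x0) (.lf 0x22e1356)))) (.nd (.nd (.nd (.lf 0x0) (.lf 0x0)) (.nd (.lf 0x2b9fe22) (.lf 0x12b714))) (.nd (.nd (.lf 0x0) (.lf 0x0)) (.nd (.lf 0x0) (.lf 0x2debe07))))) (.nd (.nd (.nd (.nd (.lf 0xc936b6) (.lf 0x0)) (.nd (.lf 0x0) (.lf 0xb556d))) (.nd (.nd (.lf 0x0) (.lf 0x2b07d18)) (.nd (.lf 0x1033568) (.lf 0x308da7c)))) (.nd (.nd (.nd (.lf 0x0) (.lf 0x0)) (.nd (.lf 0x0) (.lf 0x0))) (.nd (.nd (.lf 0x4e552f) (.lf 0x210730b)) (.nd (.lf 0xd5ed61) (.lf 0x2b3634f)))))) (.nd (.nd (.nd (.nd (.nd (.lf 0x0) (.lf 0x4ebaf6)) (.nd (.lf 0x0) (.lf 0x660a5e))) (.nd (.nd (.lf 0x2b7a976) (.lf 0x35d73c))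 (.nd (.lf 0xb12aea) (.lf 0x92e782)))) (.nd (.nd (.nd (.lf 0x0) (.lf 0x0)) (.nd (.lf 0xe0a41b) (.lf 0xe9d1af))) (.nd (.nd (.lf 0x0) (.lf 0x31e84f)) (.nd (.lf 0x2bd472b) (.lf 0x3066249))))) (.nd (.nd (.nd (.nd (.lf 0x0) (.lf 0x31e3b30)) (.nd (.lf 0x0) (.lf 0x0))) (.nd (.nd (.lf 0x0) (.lf 0x4a8af4)) (.nd (.lf 0x2a55166) (.lf 0x6cfaf4)))) (.nd (.nd (.nd (.lf 0x24550b8) (.lf 0x2f987e9)) (.nd (.lf 0x26fe7f6) (.lf 0xbedb97))) (.nd (.nd (.lf 0x0) (.lf 0x0)) (.nd (.lf 0x0) (.lf 0)))))))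
def witT1_nbabbaa : Tr := (.nd (.nd (.nd (.nd (.nd (.nd (.lf 0x0) (.lf 0x440447)) (.nd (.lf 0x0) (.lf 0x279d282))) (.nd (.nd (.lf 0x0) (.lf 0x8e29b1)) (.nd (.lf 0x4c85fd) (.lf 0x2fa17de)))) (.nd (.nd (.nd (.lf 0x0) (.lf 0x251f1de)) (.nd (.lf 0x0) (.lf 0x2fd1dd1))) (.nd (.nd (.lf 0x56913f) (.lf 0x2d22f44)) (.nd (.lf 0x0) (.lf 0x3c66f6))))) (.nd (.nd (.nd (.nd (.lf 0x0) (.lf 0x29e86c4)) (.nd (.lf 0x0) (.lf 0xd287d4))) (.nd (.nd (.lf 0x0) (.lf 0x2b4d2f7)) (.nd (.lf 0x0) (.lf 0x1108d55)))) (.nd (.nd (.nd (.lf 0x0) (.lf 0x2edd2a4)) (.nd (.lf 0x0) (.lf 0xa132ff))) (.nd (.nd (.lf 0x0) (.lf 0x2dda790)) (.nd (.lf 0x0) (.lf 0x2f4e4c4)))))) (.nd (.nd (.nd (.nd (.nd (.lf 0x0) (.lf 0x0)) (.nd (.lf 0x0) (.lf 0x0))) (.nd (.nd (.lf 0x0) (.lf 0x0))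 (.nd (.lf 0x0) (.lf 0x369444)))) (.nd (.nd (.nd (.lf 0x0) (.lf 0x0)) (.nd (.lf 0x0) (.lf 0x43655e))) (.nd (.nd (.lf 0x0) (.lf 0xa344a7)) (.nd (.lf 0x0) (.lf 0x589941))))) (.nd (.nd (.nd (.nd (.lf 0x0) (.lf 0x3c2e20)) (.nd (.lf 0x22c3749) (.lf 0x11a917f))) (.nd (.nd (.lf 0x0) (.lf 0x272ac39)) (.nd (.lf 0x0) (.lf 0x11c4fe5)))) (.nd (.nd (.nd (.lf 0x0) (.lf 0x892509)) (.nd (.lf 0x0) (.lf 0x86e8c))) (.nd (.nd (.lf 0x0) (.lf 0x0)) (.nd (.lf 0x7aeb2a) (.lf 0x5ac7cf)))))))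
def witT1_nbabbab : Tr := (.nd (.nd (.nd (.nd (.nd (.nd (.lf 0x0) (.lf 0x2c9663e)) (.nd (.lf 0x0) (.lf 0x7360f3))) (.nd (.nd (.lf 0x21b66f) (.lf 0x2009173)) (.nd (.lf 0x0) (.lf 0x33a543)))) (.nd (.nd (.nd (.lf 0x0) (.lf 0x0)) (.nd (.lf 0x0) (.lf 0x2b39e12))) (.nd (.nd (.lf 0x0) (.lf 0x2611109)) (.nd (.lf 0x986162) (.lf 0x23f36f6))))) (.nd (.nd (.nd (.nd (.lf 0x0) (.lf 0x0)) (.nd (.lf 0x2cdd3cf) (.lf 0x2432f32))) (.nd (.nd (.lf 0x0) (.lf 0x79d079)) (.nd (.lf 0x0) (.lf 0x15ab3f)))) (.nd (.nd (.nd (.lf 0x0) (.lf 0x0)) (.nd (.lf 0x0) (.lf 0x2821daa))) (.nd (.nd (.lf 0x0) (.lf 0x26df6bc)) (.nd (.lf 0x0) (.lf 0x2b0d4e0)))))) (.nd (.nd (.nd (.nd (.nd (.lf 0x0) (.lf 0x271f6dd)) (.nd (.lf 0x0) (.lf 0x0))) (.nd (.nd (.lf 0x0) (.lf 0x489b5a))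 (.nd (.lf 0x0) (.lf 0xfb2793)))) (.nd (.nd (.nd (.lf 0x29d2748) (.lf 0x0)) (.nd (.lf 0x0) (.lf 0x2bf9d0))) (.nd (.nd (.lf 0x0) (.lf 0x675c17)) (.nd (.lf 0x0) (.lf 0x9a17b1))))) (.nd (.nd (.nd (.nd (.lf 0x0) (.lf 0x26a5a45)) (.nd (.lf 0x234dd7) (.lf 0x0))) (.nd (.nd (.lf 0x0) (.lf 0x26f254b)) (.nd (.lf 0x310cae0) (.lf 0xf45a47)))) (.nd (.nd (.nd (.lf 0x0) (.lf 0x0)) (.nd (.lf 0x3000212) (.lf 0xaea21b))) (.nd (.nd (.lf 0x0) (.lf 0x2456e9a)) (.nd (.lf 0x2ee63a9) (.lf 0)))))))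
def witT1_nbabbba : Tr := (.nd (.nd (.nd (.nd (.nd (.nd (.lf 0x0) (.lf 0xd1277b)) (.nd (.lf 0x0) (.lf 0x664421))) (.nd (.nd (.lf 0x0) (.lf 0x2924ced)) (.nd (.lf 0x0) (.lf 0x0)))) (.nd (.nd (.nd (.lf 0x0) (.lf 0x3883c7)) (.nd (.lf 0x0) (.lf 0x2c8e41a))) (.nd (.nd (.lf 0x25e8e09) (.lf 0x0)) (.nd (.lf 0x87a445) (.lf 0x22a459))))) (.nd (.nd (.nd (.nd (.lf 0x0) (.lf 0x0)) (.nd (.lf 0x0) (.lf 0x2c2fa3d))) (.nd (.nd (.lf 0x0) (.lf 0x0)) (.nd (.lf 0x0) (.lf 0x20d2f8b)))) (.nd (.nd (.nd (.lf 0x0) (.lf 0xc49224)) (.nd (.lf 0x0) (.lf 0xcc8aa8))) (.nd (.nd (.lf 0x0) (.lf 0x20de054)) (.nd (.lf 0x0) (.lf 0x10b1230)))))) (.nd (.nd (.nd (.nd (.nd (.lf 0x0) (.lf 0x2cc988f)) (.nd (.lf 0x0) (.lf 0x106994a))) (.nd (.nd (.lf 0x0) (.lf 0x17ad44)) (.nd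 (.lf 0x0) (.lf 0x0)))) (.nd (.nd (.nd (.lf 0x0) (.lf 0x2850488)) (.nd (.lf 0x2307415) (.lf 0x45140a))) (.nd (.nd (.lf 0x0) (.lf 0x30e7080)) (.nd (.lf 0x0) (.lf 0x31f6009))))) (.nd (.nd (.nd (.nd (.lf 0x0) (.lf 0x2512d63)) (.nd (.lf 0x0) (.lf 0xfaf6eb))) (.nd (.nd (.lf 0x0) (.lf 0x2b004d5)) (.nd (.lf 0x5cde56) (.lf 0xdc58af)))) (.nd (.nd (.nd (.lf 0xd4f00f) (.lf 0x0)) (.nd (.lf 0x2ba7a6b) (.lf 0x0))) (.nd (.nd (.lf 0x0) (.lf 0x2911c4f)) (.nd (.lf 0x0) (.lf 0)))))))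
def witT1_nbabbbb : Tr := (.nd (.nd (.nd (.nd (.nd (.nd (.lf 0x0) (.lf 0x0)) (.nd (.lf 0x0) (.lf 0x223d3a0))) (.nd (.nd (.lf 0x7f20f0) (.lf 0x0)) (.nd (.lf 0xf803d3) (.lf 0x2d27c6d)))) (.nd (.nd (.nd (.lf 0x0) (.lf 0x0)) (.nd (.lf 0x0) (.lf 0x2b41c3f))) (.nd (.nd (.lf 0x0) (.lf 0x0)) (.nd (.lf 0xbc5c32) (.lf 0x96edb1))))) (.nd (.nd (.nd (.nd (.lf 0x0) (.lf 0x0)) (.nd (.lf 0x0) (.lf 0xebfc5e))) (.nd (.nd (.lf 0x2382dcf) (.lf 0x100ec88)) (.nd (.lf 0x0) (.lf 0x42a43e)))) (.nd (.nd (.nd (.lf 0x0) (.lf 0x99baf2)) (.nd (.lf 0x23207a6) (.lf 0xb12582))) (.nd (.nd (.lf 0x0) (.lf 0x0)) (.nd (.lf 0x20204f2) (.lf 0x274e1e1)))))) (.nd (.nd (.nd (.nd (.nd (.lf 0x0) (.lf 0x0)) (.nd (.lf 0x0) (.lf 0xb0e394))) (.nd (.nd (.lf 0x0) (.lf 0x2b5d780))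 (.nd (.lf 0x20e8545) (.lf 0x293e7df)))) (.nd (.nd (.nd (.lf 0x0) (.lf 0x9f502c)) (.nd (.lf 0x297b633) (.lf 0x206c3))) (.nd (.nd (.lf 0x0) (.lf 0xcf6170)) (.nd (.lf 0x0) (.lf 0x3b1502))))) (.nd (.nd (.nd (.nd (.lf 0x0) (.lf 0x0)) (.nd (.lf 0x0) (.lf 0xc3490f))) (.nd (.nd (.lf 0x0) (.lf 0x244d991)) (.nd (.lf 0xb97ca) (.lf 0xe5930e)))) (.nd (.nd (.nd (.lf 0x0) (.lf 0x5e30aa)) (.nd (.lf 0x0) (.lf 0x0))) (.nd (.nd (.lf 0xdbea0a) (.lf 0x5c6d53)) (.nd (.lf 0x0) (.lf 0)))))))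
def witT1_nbbaaaa : Tr := (.nd (.nd (.nd (.nd (.nd (.nd (.lf 0x0) (.lf 0x263f783)) (.nd (.lf 0x27b8d2e) (.lf 0x2cecc3))) (.nd (.nd (.lf 0x0) (.lf 0x0)) (.nd (.lf 0x286a1d) (.lf 0x1198beb)))) (.nd (.nd (.nd (.lf 0x0) (.lf 0x2853dba)) (.nd (.lf 0x2c853ce) (.lf 0x0))) (.nd (.nd (.lf 0x0) (.lf 0x603389)) (.nd (.lf 0x2f2ebd3) (.lf 0xb1f68b))))) (.nd (.nd (.nd (.nd (.lf 0x0) (.lf 0x2473005)) (.nd (.lf 0x0) (.lf 0x0))) (.nd (.nd (.lf 0x0) (.lf 0x0)) (.nd (.lf 0x0) (.lf 0x221d580)))) (.nd (.nd (.nd (.lf 0x0) (.lf 0x2edade3)) (.nd (.lf 0x8c0777) (.lf 0x5487b3))) (.nd (.nd (.lf 0x0) (.lf 0x0)) (.nd (.lf 0x0) (.lf 0xc935f2)))))) (.nd (.nd (.nd (.nd (.nd (.lf 0x0) (.lf 0xf4c8d9)) (.nd (.lf 0x0) (.lf 0xec09a6))) (.nd (.nd (.lf 0x0) (.lf 0x2ddf22c))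 (.nd (.lf 0x0) (.lf 0x29c7e22)))) (.nd (.nd (.nd (.lf 0x0) (.lf 0x58480)) (.nd (.lf 0x0) (.lf 0x2fcddab))) (.nd (.nd (.lf 0x0) (.lf 0x237c52e)) (.nd (.lf 0x0) (.lf 0x2b1187f))))) (.nd (.nd (.nd (.nd (.lf 0x0) (.lf 0x220f933)) (.nd (.lf 0x0) (.lf 0x262d205))) (.nd (.nd (.lf 0x21dc91b) (.lf 0x2f712e5)) (.nd (.lf 0x152e2f) (.lf 0x9696f9)))) (.nd (.nd (.nd (.lf 0x0) (.lf 0x2e6225a)) (.nd (.lf 0x0) (.lf 0x0))) (.nd (.nd (.lf 0x0) (.lf 0x2518eff)) (.nd (.lf 0x35a9c8) (.lf 0xd57bf9)))))))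
def witT1_nbbaaab : Tr := (.nd (.nd (.nd (.nd (.nd (.nd (.lf 0x0) (.lf 0x6c203f)) (.nd (.lf 0x0) (.lf 0x0))) (.nd (.nd (.lf 0x0) (.lf 0x2f7f5c8)) (.nd (.lf 0x2e0d8ec) (.lf 0x0)))) (.nd (.nd (.nd (.lf 0x0) (.lf 0xfe55f2)) (.nd (.lf 0x0) (.lf 0x0))) (.nd (.nd (.lf 0x0) (.lf 0x0)) (.nd (.lf 0x2e86c95) (.lf 0x35aae0))))) (.nd (.nd (.nd (.nd (.lf 0x0) (.lf 0x275170)) (.nd (.lf 0x0) (.lf 0x0))) (.nd (.nd (.lf 0x0) (.lf 0x211989a)) (.nd (.lf 0x0) (.lf 0x2031128)))) (.nd (.nd (.nd (.lf 0x0) (.lf 0x3059e4)) (.nd (.lf 0x0) (.lf 0x60e28d))) (.nd (.nd (.lf 0x0) (.lf 0x50c413)) (.nd (.lf 0x89d649) (.lf 0x221614f)))))) (.nd (.nd (.nd (.nd (.nd (.lf 0x0) (.lf 0x28dc161)) (.nd (.lf 0x0) (.lf 0x2dd22e3))) (.nd (.nd (.lf 0x804ec1) (.lf 0x0)) (.nd (.lf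 0x0) (.lf 0x2d309e0)))) (.nd (.nd (.nd (.lf 0x0) (.lf 0x30c2c95)) (.nd (.lf 0x0) (.lf 0x9cc308))) (.nd (.nd (.lf 0x0) (.lf 0x3bdb50)) (.nd (.lf 0x11d981b) (.lf 0x200e4ba))))) (.nd (.nd (.nd (.nd (.lf 0x0) (.lf 0x290d0ed)) (.nd (.lf 0x0) (.lf 0x212c7fc))) (.nd (.nd (.lf 0x1053c2e) (.lf 0x0)) (.nd (.lf 0x0) (.lf 0x8022bf)))) (.nd (.nd (.nd (.lf 0x0) (.lf 0x25191c7)) (.nd (.lf 0x2bc4b5e) (.lf 0xe232bf))) (.nd (.nd (.lf 0x0) (.lf 0xd4e348)) (.nd (.lf 0x0) (.lf 0)))))))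
def witT1_nbbaaba : Tr := (.nd (.nd (.nd (.nd (.nd (.nd (.lf 0x0) (.lf 0x109a8d5)) (.nd (.lf 0x0) (.lf 0xc4937b))) (.nd (.nd (.lf 0x0) (.lf 0x271c7f)) (.nd (.lf 0x20d5848) (.lf 0x6971e8)))) (.nd (.nd (.nd (.lf 0x0) (.lf 0xe5da57)) (.nd (.lf 0x0) (.lf 0x22067bd))) (.nd (.nd (.lf 0x802f00) (.lf 0x0)) (.nd (.lf 0x1087c10) (.lf 0x21d60aa))))) (.nd (.nd (.nd (.nd (.lf 0x0) (.lf 0x2d01e11)) (.nd (.lf 0x0) (.lf 0x9c751f))) (.nd (.nd (.lf 0x0) (.lf 0x68c3d7)) (.nd (.lf 0x98330d) (.lf 0x0)))) (.nd (.nd (.nd (.lf 0x0) (.lf 0xba8760)) (.nd (.lf 0x0) (.lf 0x266576e))) (.nd (.nd (.lf 0x0) (.lf 0x4d2e3e)) (.nd (.lf 0x0) (.lf 0x29fe3dd)))))) (.nd (.nd (.nd (.nd (.nd (.lf 0x0) (.lf 0x0)) (.nd (.lf 0x0) (.lf 0xdaa820))) (.nd (.nd (.lf 0x0) (.lf 0x0))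 (.nd (.lf 0x0) (.lf 0x12d617)))) (.nd (.nd (.nd (.lf 0x0) (.lf 0x24e57d5)) (.nd (.lf 0x0) (.lf 0xd7c810))) (.nd (.nd (.lf 0x0) (.lf 0x4e0048)) (.nd (.lf 0x226b697) (.lf 0x262ebfa))))) (.nd (.nd (.nd (.nd (.lf 0x0) (.lf 0xf083fb)) (.nd (.lf 0x0) (.lf 0x2152534))) (.nd (.nd (.lf 0x0) (.lf 0x2f87ce)) (.nd (.lf 0x270c87e) (.lf 0x0)))) (.nd (.nd (.nd (.lf 0x0) (.lf 0x242a4b7)) (.nd (.lf 0x0) (.lf 0x9168e7))) (.nd (.nd (.lf 0x0) (.lf 0x90e6e8)) (.nd (.lf 0x0) (.lf 0x2248542)))))))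
def witT1_nbbaabb : Tr := (.nd (.nd (.nd (.nd (.nd (.nd (.lf 0x0) (.lf 0x207ab40)) (.nd (.lf 0x0) (.lf 0x0))) (.nd (.nd (.lf 0x0) (.lf 0x0)) (.nd (.lf 0x2e75286) (.lf 0x2f967ed)))) (.nd (.nd (.nd (.lf 0x0) (.lf 0xd47ed)) (.nd (.lf 0x0) (.lf 0xcbe863))) (.nd (.nd (.lf 0x0) (.lf 0x8347cb)) (.nd (.lf 0x0) (.lf 0x0))))) (.nd (.nd (.nd (.nd (.lf 0x0) (.lf 0x0)) (.nd (.lf 0x0) (.lf 0xf30d86))) (.nd (.nd (.lf 0x0) (.lf 0x200b533)) (.nd (.lf 0x29b8240) (.lf 0xc607cb)))) (.nd (.nd (.nd (.lf 0x0) (.lf 0x311e8d1)) (.nd (.lf 0x0) (.lf 0x0))) (.nd (.nd (.lf 0x0) (.lf 0xcaae2)) (.nd (.lf 0x0) (.lf 0xc3a494)))))) (.nd (.nd (.nd (.nd (.nd (.lf 0x0) (.lf 0x0)) (.nd (.lf 0x0) (.lf 0x23c0644))) (.nd (.nd (.lf 0x0) (.lf 0x258cae4)) (.nd (.lf 0x35b20c)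 (.lf 0x98d5bd)))) (.nd (.nd (.nd (.lf 0x0) (.lf 0xa89821)) (.nd (.lf 0x0) (.lf 0x2ed5195))) (.nd (.nd (.lf 0x0) (.lf 0xed64ca)) (.nd (.lf 0x27e3c93) (.lf 0x2a88cad))))) (.nd (.nd (.nd (.nd (.lf 0x0) (.lf 0x0)) (.nd (.lf 0x6c4423) (.lf 0x0))) (.nd (.nd (.lf 0x0) (.lf 0xb50c02)) (.nd (.lf 0x4a61ac) (.lf 0x1d0192)))) (.nd (.nd (.nd (.lf 0x0) (.lf 0x0)) (.nd (.lf 0x0) (.lf 0x29e8bc7))) (.nd (.nd (.lf 0x24c15cd) (.lf 0x3199a3a)) (.nd (.lf 0x0) (.lf 0)))))))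
def witT1_nbbabaa : Tr := (.nd (.nd (.nd (.nd (.nd (.nd (.lf 0x0) (.lf 0x0)) (.nd (.lf 0x0) (.lf 0x0))) (.nd (.nd (.lf 0x0) (.lf 0x4d800f)) (.nd (.lf 0x0) (.lf 0x11f6035)))) (.nd (.nd (.nd (.lf 0x0) (.lf 0x0)) (.nd (.lf 0x0) (.lf 0x0))) (.nd (.nd (.lf 0x0) (.lf 0x42e93a)) (.nd (.lf 0x0) (.lf 0x0))))) (.nd (.nd (.nd (.nd (.lf 0x0) (.lf 0x0)) (.nd (.lf 0xbef984) (.lf 0x262c3f4))) (.nd (.nd (.lf 0x0) (.lf 0x11f2da3)) (.nd (.lf 0x0) (.lf 0x2ec4288)))) (.nd (.nd (.nd (.lf 0x2fd497c) (.lf 0x6c0b62)) (.nd (.lf 0x2b4da4f) (.lf 0x7657ac))) (.nd (.nd (.lf 0x0) (.lf 0x0)) (.nd (.lf 0x3c2fcb) (.lf 0xddc75a)))))) (.nd (.nd (.nd (.nd (.nd (.lf 0x0) (.lf 0x5b129c)) (.nd (.lf 0xe82da1) (.lf 0x8e7519))) (.nd (.nd (.lf 0x0) (.lf 0x0)) (.nd (.lf 0x0)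 (.lf 0x2c82712)))) (.nd (.nd (.nd (.lf 0x0) (.lf 0xa19e38)) (.nd (.lf 0x0) (.lf 0x2786739))) (.nd (.nd (.lf 0x0) (.lf 0xd4d4dc)) (.nd (.lf 0xc82e3a) (.lf 0x79fe55))))) (.nd (.nd (.nd (.nd (.lf 0x0) (.lf 0xfba1c)) (.nd (.lf 0x0) (.lf 0x2649825))) (.nd (.nd (.lf 0x238af5e) (.lf 0x0)) (.nd (.lf 0x2f38394) (.lf 0x21467e1)))) (.nd (.nd (.nd (.lf 0x0) (.lf 0x2c375a6)) (.nd (.lf 0x0) (.lf 0x2eac16c))) (.nd (.nd (.lf 0x2780226) (.lf 0x0)) (.nd (.lf 0x0) (.lf 0x176b50)))))))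
def witT1_nbbabab : Tr := (.nd (.nd (.nd (.nd (.nd (.nd (.lf 0x0) (.lf 0x2fceda2)) (.nd (.lf 0x0) (.lf 0x4b74ec))) (.nd (.nd (.lf 0x3f8171) (.lf 0x0)) (.nd (.lf 0x0) (.lf 0xf98f46)))) (.nd (.nd (.nd (.lf 0x2f98150) (.lf 0x2c9488a)) (.nd (.lf 0x2b238ad) (.lf 0x0))) (.nd (.nd (.lf 0x0) (.lf 0xd804ee)) (.nd (.lf 0x0) (.lf 0x2e0d8fe))))) (.nd (.nd (.nd (.nd (.lf 0x0) (.lf 0x699a98)) (.nd (.lf 0x0) (.lf 0x10009ae))) (.nd (.nd (.lf 0x0) (.lf 0xee9b09)) (.nd (.lf 0x0) (.lf 0x963746)))) (.nd (.nd (.nd (.lf 0x0) (.lf 0x2147d09)) (.nd (.lf 0x0) (.lf 0x688af9))) (.nd (.nd (.lf 0x0) (.lf 0x2e522bd)) (.nd (.lf 0xa30c0a) (.lf 0xa8e77a)))))) (.nd (.nd (.nd (.nd (.nd (.lf 0x0) (.lf 0x21cdc8f)) (.nd (.lf 0x0) (.lf 0x31b6496))) (.nd (.nd (.lf 0xfc2034)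 (.lf 0x8930b)) (.nd (.lf 0x515dd6) (.lf 0x74a2ca)))) (.nd (.nd (.nd (.lf 0x2ecb75f) (.lf 0x0)) (.nd (.lf 0x0) (.lf 0x2c72124))) (.nd (.nd (.lf 0x0) (.lf 0x2340a)) (.nd (.lf 0x41a128) (.lf 0x260970a))))) (.nd (.nd (.nd (.nd (.lf 0x0) (.lf 0x2b1a535)) (.nd (.lf 0xc6f78d) (.lf 0xe1cc6b))) (.nd (.nd (.lf 0x0) (.lf 0x0)) (.nd (.lf 0x0) (.lf 0x2b19913)))) (.nd (.nd (.nd (.lf 0x0) (.lf 0x3046d43)) (.nd (.lf 0x26d4c3d) (.lf 0xe607b2))) (.nd (.nd (.lf 0x0) (.lf 0x1188132)) (.nd (.lf 0x2392983) (.lf 0)))))))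
def witT1_nbbabba : Tr := (.nd (.nd (.nd (.nd (.nd (.nd (.lf 0x0) (.lf 0x9838de)) (.nd (.lf 0x0) (.lf 0x10dcb81))) (.nd (.nd (.lf 0x0) (.lf 0x0)) (.nd (.lf 0x3f6b63) (.lf 0x2f5c0e)))) (.nd (.nd (.nd (.lf 0x0) (.lf 0x0)) (.nd (.lf 0x0) (.lf 0x79794d))) (.nd (.nd (.lf 0x0) (.lf 0x21c21a2)) (.nd (.lf 0x0) (.lf 0xd60c36))))) (.nd (.nd (.nd (.nd (.lf 0x22af9a4) (.lf 0xbe6459)) (.nd (.lf 0x0) (.lf 0x0))) (.nd (.nd (.lf 0x0) (.lf 0x0)) (.nd (.lf 0x3164f86) (.lf 0x8c268b)))) (.nd (.nd (.nd (.lf 0x0) (.lf 0x384870)) (.nd (.lf 0x0) (.lf 0xc14f82))) (.nd (.nd (.lf 0xf9a4ea) (.lf 0x2092d30)) (.nd (.lf 0xa387ad) (.lf 0xdb0102)))))) (.nd (.nd (.nd (.nd (.nd (.lf 0x0) (.lf 0x0)) (.nd (.lf 0x0) (.lf 0x0))) (.nd (.nd (.lf 0x0) (.lf 0x2a3daed)) (.nd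 (.lf 0x0) (.lf 0x2fbc0c9)))) (.nd (.nd (.nd (.lf 0x0) (.lf 0x0)) (.nd (.lf 0x0) (.lf 0x105937d))) (.nd (.nd (.lf 0x0) (.lf 0x2e52eed)) (.nd (.lf 0x0) (.lf 0x567a8))))) (.nd (.nd (.nd (.nd (.lf 0x0) (.lf 0x9f2d4d)) (.nd (.lf 0x5ee0d9) (.lf 0x2a3a814))) (.nd (.nd (.lf 0x0) (.lf 0x21aaba0)) (.nd (.lf 0x0) (.lf 0xf61390)))) (.nd (.nd (.nd (.lf 0x0) (.lf 0xde802b)) (.nd (.lf 0x0) (.lf 0x2913404))) (.nd (.nd (.lf 0x9b6e23) (.lf 0x3162268)) (.nd (.lf 0x30d552e) (.lf 0x2686cbd)))))))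
def witT1_nbbabbb : Tr := (.nd (.nd (.nd (.nd (.nd (.nd (.lf 0x0) (.lf 0x0)) (.nd (.lf 0x0) (.lf 0x0))) (.nd (.nd (.lf 0x0) (.lf 0x849ce5)) (.nd (.lf 0x0) (.lf 0x0)))) (.nd (.nd (.nd (.lf 0x0) (.lf 0x0)) (.nd (.lf 0x0) (.lf 0x0))) (.nd (.nd (.lf 0x0) (.lf 0x2be615e)) (.nd (.lf 0x0) (.lf 0x7fd77a))))) (.nd (.nd (.nd (.nd (.lf 0x0) (.lf 0xfd103)) (.nd (.lf 0x0) (.lf 0xd0d598))) (.nd (.nd (.lf 0x0) (.lf 0x261f469)) (.nd (.lf 0x0) (.lf 0xc0b75f)))) (.nd (.nd (.nd (.lf 0x0) (.lf 0x0)) (.nd (.lf 0x0) (.lf 0x217087f))) (.nd (.nd (.lf 0x0) (.lf 0x0)) (.nd (.lf 0xb824f0) (.lf 0xefacbb)))))) (.nd (.nd (.nd (.nd (.nd (.lf 0x0) (.lf 0x10841bb)) (.nd (.lf 0x2f3e40d) (.lf 0x96054))) (.nd (.nd (.lf 0x0) (.lf 0x0)) (.nd (.lf 0x0) (.lf 0x2b7c9ca))))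 (.nd (.nd (.nd (.lf 0x0) (.lf 0x9fc4c5)) (.nd (.lf 0x0) (.lf 0x90b2e7))) (.nd (.nd (.lf 0x0) (.lf 0xf50f16)) (.nd (.lf 0x0) (.lf 0x2b2568c))))) (.nd (.nd (.nd (.nd (.lf 0x0) (.lf 0x0)) (.nd (.lf 0x0) (.lf 0x2696700))) (.nd (.nd (.lf 0x0) (.lf 0xf799f9)) (.nd (.lf 0x0) (.lf 0x2979c15)))) (.nd (.nd (.nd (.lf 0x0) (.lf 0x21f06d8)) (.nd (.lf 0x0) (.lf 0x286cd91))) (.nd (.nd (.lf 0x0) (.lf 0x0)) (.nd (.lf 0x0) (.lf 0)))))))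
def witT1_nbbbaaa : Tr := (.nd (.nd (.nd (.nd (.nd (.nd (.lf 0x0) (.lf 0x0)) (.nd (.lf 0x0) (.lf 0x0))) (.nd (.nd (.lf 0x0) (.lf 0x24139c0)) (.nd (.lf 0x84b67c) (.lf 0x2ec1a53)))) (.nd (.nd (.nd (.lf 0x0) (.lf 0x21fc9bd)) (.nd (.lf 0x0) (.lf 0xa30999))) (.nd (.nd (.lf 0xab2df) (.lf 0x9a2560)) (.nd (.lf 0x0) (.lf 0x21f8c6f))))) (.nd (.nd (.nd (.nd (.lf 0x0) (.lf 0x0)) (.nd (.lf 0x0) (.lf 0x573839))) (.nd (.nd (.lf 0x0) (.lf 0xad2b6a)) (.nd (.lf 0x2954ed3) (.lf 0x12d852)))) (.nd (.nd (.nd (.lf 0x0) (.lf 0x26fd56d)) (.nd (.lf 0x0) (.lf 0xb1d14))) (.nd (.nd (.lf 0x0) (.lf 0x31160d2)) (.nd (.lf 0x0) (.lf 0xe1096e)))))) (.nd (.nd (.nd (.nd (.nd (.lf 0x0) (.lf 0xe5fb1b)) (.nd (.lf 0x0) (.lf 0x20518f3))) (.nd (.nd (.lf 0x0) (.lf 0x77d3e4))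 (.nd (.lf 0x0) (.lf 0xe2440a)))) (.nd (.nd (.nd (.lf 0x0) (.lf 0x3154eaf)) (.nd (.lf 0x23a603a) (.lf 0x6c4f93))) (.nd (.nd (.lf 0x0) (.lf 0x25d711e)) (.nd (.lf 0x0) (.lf 0x0))))) (.nd (.nd (.nd (.nd (.lf 0x0) (.lf 0x2a5029f)) (.nd (.lf 0x0) (.lf 0x8d2e14))) (.nd (.nd (.lf 0x0) (.lf 0x0)) (.nd (.lf 0x0) (.lf 0x0)))) (.nd (.nd (.nd (.lf 0x0) (.lf 0x31b3a0f)) (.nd (.lf 0x0) (.lf 0xc7020b))) (.nd (.nd (.lf 0x6710ba) (.lf 0xf8d988)) (.nd (.lf 0x0) (.lf 0x26b4249)))))))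
def witT1_nbbbaab : Tr := (.nd (.nd (.nd (.nd (.nd (.nd (.lf 0x0) (.lf 0x18a4b5)) (.nd (.lf 0xa8454d) (.lf 0x0))) (.nd (.nd (.lf 0x263bced) (.lf 0x0)) (.nd (.lf 0x0) (.lf 0xf2623e)))) (.nd (.nd (.nd (.lf 0x0) (.lf 0xcf3648)) (.nd (.lf 0x0) (.lf 0x3f6d8c))) (.nd (.nd (.lf 0x0) (.lf 0x23caf34)) (.nd (.lf 0x2c72ac6) (.lf 0x0))))) (.nd (.nd (.nd (.nd (.lf 0x0) (.lf 0x0)) (.nd (.lf 0x0) (.lf 0x22f6b98))) (.nd (.nd (.lf 0x0) (.lf 0xd9db05)) (.nd (.lf 0x0) (.lf 0xf99dd3)))) (.nd (.nd (.nd (.lf 0x0) (.lf 0x0)) (.nd (.lf 0x19fe58) (.lf 0x116f8ab))) (.nd (.nd (.lf 0x8a39c0) (.lf 0x1fa584)) (.nd (.lf 0x0) (.lf 0x102cd39)))))) (.nd (.nd (.nd (.nd (.nd (.lf 0x0) (.lf 0x0)) (.nd (.lf 0x0) (.lf 0xb748b8))) (.nd (.nd (.lf 0x292efcf) (.lf 0x26411a3))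 (.nd (.lf 0x4ac9dd) (.lf 0x56eadc)))) (.nd (.nd (.nd (.lf 0x0) (.lf 0x0)) (.nd (.lf 0x0) (.lf 0x10fbe38))) (.nd (.nd (.lf 0x0) (.lf 0x20d5846)) (.nd (.lf 0x0) (.lf 0xc587fa))))) (.nd (.nd (.nd (.nd (.lf 0x0) (.lf 0x0)) (.nd (.lf 0x0) (.lf 0x27e9591))) (.nd (.nd (.lf 0x0) (.lf 0x205376e)) (.nd (.lf 0x0) (.lf 0x0)))) (.nd (.nd (.nd (.lf 0x0) (.lf 0x110712c)) (.nd (.lf 0x2026814) (.lf 0x20b9bbf))) (.nd (.nd (.lf 0x0) (.lf 0xd97941)) (.nd (.lf 0x10e20d0) (.lf 0)))))))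
def witT1_nbbbaba : Tr := (.nd (.nd (.nd (.nd (.nd (.nd (.lf 0x0) (.lf 0xa9bfe)) (.nd (.lf 0xed484b) (.lf 0x2d6c57e))) (.nd (.nd (.lf 0x0) (.lf 0x0)) (.nd (.lf 0x0) (.lf 0x2d9ebc1)))) (.nd (.nd (.nd (.lf 0x0) (.lf 0x3046ab1)) (.nd (.lf 0x0) (.lf 0x8ef316))) (.nd (.nd (.lf 0x0) (.lf 0x2000000)) (.nd (.lf 0x0) (.lf 0x59139d))))) (.nd (.nd (.nd (.nd (.lf 0x0) (.lf 0x2b8d4e5)) (.nd (.lf 0x0) (.lf 0x0))) (.nd (.nd (.lf 0x0) (.lf 0x0)) (.nd (.lf 0x2697b26) (.lf 0xcd0999)))) (.nd (.nd (.nd (.lf 0x0) (.lf 0x6a214c)) (.nd (.lf 0x0) (.lf 0x29410e1))) (.nd (.nd (.lf 0x26dc395) (.lf 0xddf922)) (.nd (.lf 0x0) (.lf 0x207784b)))))) (.nd (.nd (.nd (.nd (.nd (.lf 0x0) (.lf 0x1120969)) (.nd (.lf 0x0) (.lf 0x110a376))) (.nd (.nd (.lf 0x30664d7) (.lf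 0x0)) (.nd (.lf 0x0) (.lf 0x206c39f)))) (.nd (.nd (.nd (.lf 0x6e839c) (.lf 0x0)) (.nd (.lf 0x5ea8d9) (.lf 0x99f9a2))) (.nd (.nd (.lf 0x0) (.lf 0x2a430e4)) (.nd (.lf 0x0) (.lf 0x110f893))))) (.nd (.nd (.nd (.nd (.lf 0x0) (.lf 0x0)) (.nd (.lf 0x0) (.lf 0x2505783))) (.nd (.nd (.lf 0x0) (.lf 0x0)) (.nd (.lf 0x0) (.lf 0x86bb08)))) (.nd (.nd (.nd (.lf 0x0) (.lf 0x0)) (.nd (.lf 0x0) (.lf 0x5409a6))) (.nd (.nd (.lf 0x0) (.lf 0x95ba41)) (.nd (.lf 0x29258d4) (.lf 0x2747521)))))))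
def witT1_nbbbabb : Tr := (.nd (.nd (.nd (.nd (.nd (.nd (.lf 0x0) (.lf 0x0)) (.nd (.lf 0x0) (.lf 0x0))) (.nd (.nd (.lf 0x0) (.lf 0x280323a)) (.nd (.lf 0x29a0bd4) (.lf 0x2a6f5de)))) (.nd (.nd (.nd (.lf 0x0) (.lf 0x0)) (.nd (.lf 0x0) (.lf 0x254683e))) (.nd (.nd (.lf 0x0) (.lf 0x22d8f52)) (.nd (.lf 0x0) (.lf 0x10210dd))))) (.nd (.nd (.nd (.nd (.lf 0x0) (.lf 0x2266aad)) (.nd (.lf 0x0) (.lf 0x2b82680))) (.nd (.nd (.lf 0x0) (.lf 0x0)) (.nd (.lf 0x0) (.lf 0x28743e8)))) (.nd (.nd (.nd (.lf 0x0) (.lf 0x2ff12c6)) (.nd (.lf 0x0) (.lf 0x28ae3ad))) (.nd (.nd (.lf 0x2ed4827) (.lf 0x249ab31)) (.nd (.lf 0x0) (.lf 0x304d117)))))) (.nd (.nd (.nd (.nd (.nd (.lf 0x0) (.lf 0x0)) (.nd (.lf 0x0) (.lf 0x2a060c))) (.nd (.nd (.lf 0x0) (.lf 0x8160c8)) (.nd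 (.lf 0x4000) (.lf 0xc2c064)))) (.nd (.nd (.nd (.lf 0x0) (.lf 0x277140a)) (.nd (.lf 0x2bf1b43) (.lf 0x6dfc30))) (.nd (.nd (.lf 0x0) (.lf 0x682d70)) (.nd (.lf 0x0) (.lf 0x94ee))))) (.nd (.nd (.nd (.nd (.lf 0x0) (.lf 0x22e03d3)) (.nd (.lf 0x0) (.lf 0x21176dc))) (.nd (.nd (.lf 0x0) (.lf 0x890742)) (.nd (.lf 0x0) (.lf 0x50c0e0)))) (.nd (.nd (.nd (.lf 0x0) (.lf 0x251b00f)) (.nd (.lf 0x400d6d) (.lf 0x281c1da))) (.nd (.nd (.lf 0x0) (.lf 0x28b185a)) (.nd (.lf 0x3154c07) (.lf 0)))))))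
def witT1_nbbbbaa : Tr := (.nd (.nd (.nd (.nd (.nd (.nd (.lf 0x0) (.lf 0x0)) (.nd (.lf 0x0) (.lf 0x2907083))) (.nd (.nd (.lf 0x0) (.lf 0x2736a2e)) (.nd (.lf 0x0) (.lf 0xb6b861)))) (.nd (.nd (.nd (.lf 0x0) (.lf 0x0)) (.nd (.lf 0x2a25577) (.lf 0x28d2d11))) (.nd (.nd (.lf 0x2772761) (.lf 0x0)) (.nd (.lf 0x802699) (.lf 0x11db2a4))))) (.nd (.nd (.nd (.nd (.lf 0x0) (.lf 0x2f872e4)) (.nd (.lf 0x0) (.lf 0x807adb))) (.nd (.nd (.lf 0x0) (.lf 0x0)) (.nd (.lf 0x0) (.lf 0xea1d04)))) (.nd (.nd (.nd (.lf 0x0) (.lf 0x6c4a21)) (.nd (.lf 0x0) (.lf 0x0))) (.nd (.nd (.lf 0x0) (.lf 0x20a34bc)) (.nd (.lf 0x2fa64f5) (.lf 0x1952a9)))))) (.nd (.nd (.nd (.nd (.nd (.lf 0x0) (.lf 0x0)) (.nd (.lf 0x5bf408) (.lf 0x2ba3791))) (.nd (.nd (.lf 0x0) (.lf 0x2ed6b4e))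 (.nd (.lf 0x309cfd1) (.lf 0x31dfa7a)))) (.nd (.nd (.nd (.lf 0x0) (.lf 0xe7cf28)) (.nd (.lf 0x0) (.lf 0x1059702))) (.nd (.nd (.lf 0xd8bb50) (.lf 0xda2433)) (.nd (.lf 0x0) (.lf 0xa18f1))))) (.nd (.nd (.nd (.nd (.lf 0x0) (.lf 0x0)) (.nd (.lf 0x6dd535) (.lf 0x305ba90))) (.nd (.nd (.lf 0x2b90278) (.lf 0x5579c1)) (.nd (.lf 0x28bb025) (.lf 0x21850ae)))) (.nd (.nd (.nd (.lf 0x0) (.lf 0x0)) (.nd (.lf 0x0) (.lf 0x2d7f815))) (.nd (.nd (.lf 0x0) (.lf 0x0)) (.nd (.lf 0x0) (.lf 0x50b0e2)))))))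
def witT1_nbbbbab : Tr := (.nd (.nd (.nd (.nd (.nd (.nd (.lf 0x0) (.lf 0x0)) (.nd (.lf 0x0) (.lf 0xbe1bc8))) (.nd (.nd (.lf 0x0) (.lf 0xe59e27)) (.nd (.lf 0x996734) (.lf 0x98bd78)))) (.nd (.nd (.nd (.lf 0x0) (.lf 0x0)) (.nd (.lf 0x0) (.lf 0x0))) (.nd (.nd (.lf 0x0) (.lf 0xb027e7)) (.nd (.lf 0x0) (.lf 0xcf4bf5))))) (.nd (.nd (.nd (.nd (.lf 0x0) (.lf 0x85d86c)) (.nd (.lf 0x0) (.lf 0x0))) (.nd (.nd (.lf 0x0) (.lf 0x2562795)) (.nd (.lf 0x0) (.lf 0x108f374)))) (.nd (.nd (.nd (.lf 0x0) (.lf 0x0)) (.nd (.lf 0x246324d) (.lf 0x28f6499))) (.nd (.nd (.lf 0x0) (.lf 0x27741e8)) (.nd (.lf 0x2e60832) (.lf 0x313dea)))))) (.nd (.nd (.nd (.nd (.nd (.lf 0x0) (.lf 0x106d718)) (.nd (.lf 0x0) (.lf 0x2720357))) (.nd (.nd (.lf 0x0) (.lf 0x0)) (.nd (.lf 0x0)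 (.lf 0x92203e)))) (.nd (.nd (.nd (.lf 0x0) (.lf 0x0)) (.nd (.lf 0x0) (.lf 0x1b2026))) (.nd (.nd (.lf 0x0) (.lf 0x0)) (.nd (.lf 0xeb4e3a) (.lf 0x283343a))))) (.nd (.nd (.nd (.nd (.lf 0x0) (.lf 0x24d9406)) (.nd (.lf 0x0) (.lf 0x27a00d1))) (.nd (.nd (.lf 0x0) (.lf 0x0)) (.nd (.lf 0x0) (.lf 0x31b8f98)))) (.nd (.nd (.nd (.lf 0x0) (.lf 0x0)) (.nd (.lf 0x1108766) (.lf 0x22a2c9e))) (.nd (.nd (.lf 0xa6a938) (.lf 0xd4eebd)) (.nd (.lf 0x82c51a) (.lf 0)))))))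
def witT1_nbbbbba : Tr := (.nd (.nd (.nd (.nd (.nd (.nd (.lf 0x0) (.lf 0x0)) (.nd (.lf 0x24f9877) (.lf 0x2659046))) (.nd (.nd (.lf 0x0) (.lf 0xf09b2f)) (.nd (.lf 0x308cc76) (.lf 0x234e87)))) (.nd (.nd (.nd (.lf 0x0) (.lf 0x303ae38)) (.nd (.lf 0x1c66f9) (.lf 0x722215))) (.nd (.nd (.lf 0x2d114bb) (.lf 0x48c03d)) (.nd (.lf 0x4e399) (.lf 0xacb3a9))))) (.nd (.nd (.nd (.nd (.lf 0x0) (.lf 0x114aae6)) (.nd (.lf 0x0) (.lf 0x0))) (.nd (.nd (.lf 0x0) (.lf 0xf68119)) (.nd (.lf 0x2d31601) (.lf 0x2d2db62)))) (.nd (.nd (.nd (.lf 0x0) (.lf 0x0)) (.nd (.lf 0x0) (.lf 0x292eef7))) (.nd (.nd (.lf 0x0) (.lf 0x249cbb8)) (.nd (.lf 0x0) (.lf 0x8a398a)))))) (.nd (.nd (.nd (.nd (.nd (.lf 0x0) (.lf 0x2146ef8)) (.nd (.lf 0x0) (.lf 0x2bb3cc9))) (.nd (.nd (.lf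 0x65a648) (.lf 0x2fb90ef)) (.nd (.lf 0x0) (.lf 0x22f3da5)))) (.nd (.nd (.nd (.lf 0x0) (.lf 0x0)) (.nd (.lf 0x0) (.lf 0x2c5855a))) (.nd (.nd (.lf 0x56160b) (.lf 0x9f73ba)) (.nd (.lf 0x0) (.lf 0x73d1bb))))) (.nd (.nd (.nd (.nd (.lf 0x0) (.lf 0x0)) (.nd (.lf 0x0) (.lf 0x286cb3f))) (.nd (.nd (.lf 0x0) (.lf 0x228110e)) (.nd (.lf 0x27eb3e2) (.lf 0x5e07e6)))) (.nd (.nd (.nd (.lf 0x0) (.lf 0x5d6249)) (.nd (.lf 0x0) (.lf 0x0))) (.nd (.nd (.lf 0x0) (.lf 0x9aaf34)) (.nd (.lf 0xb87345) (.lf 0)))))))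
def witT1_nbbbbbb : Tr := (.nd (.nd (.nd (.nd (.nd (.nd (.lf 0x0) (.lf 0x231ae73)) (.nd (.lf 0x0) (.lf 0x2930c97))) (.nd (.nd (.lf 0x0) (.lf 0x6c312a)) (.nd (.lf 0x28d8bff) (.lf 0x2b252a5)))) (.nd (.nd (.nd (.lf 0x0) (.lf 0x0)) (.nd (.lf 0x0) (.lf 0xb24b10))) (.nd (.nd (.lf 0x0) (.lf 0x30dfc68)) (.nd (.lf 0x29b3749) (.lf 0x2a0932c))))) (.nd (.nd (.nd (.nd (.lf 0x0) (.lf 0x0)) (.nd (.lf 0x31c6874) (.lf 0x0))) (.nd (.nd (.lf 0x0) (.lf 0xd122cc)) (.nd (.lf 0x663788) (.lf 0x276b7e7)))) (.nd (.nd (.nd (.lf 0x0) (.lf 0x66a4d3)) (.nd (.lf 0xa49e64) (.lf 0x20b96f6))) (.nd (.nd (.lf 0x0) (.lf 0x200faba)) (.nd (.lf 0xc0d374) (.lf 0x2bb136a)))))) (.nd (.nd (.nd (.nd (.nd (.lf 0x0) (.lf 0xcb9a89)) (.nd (.lf 0x0) (.lf 0x303b8c1))) (.nd (.nd (.lf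 0x0) (.lf 0x0)) (.nd (.lf 0x0) (.lf 0x105c9cc)))) (.nd (.nd (.nd (.lf 0x0) (.lf 0x0)) (.nd (.lf 0x0) (.lf 0xc1e0c5))) (.nd (.nd (.lf 0x0) (.lf 0x1128321)) (.nd (.lf 0x0) (.lf 0x2c4b6b3))))) (.nd (.nd (.nd (.nd (.lf 0x0) (.lf 0x21b69ea)) (.nd (.lf 0x207ac42) (.lf 0x23c2b09))) (.nd (.nd (.lf 0x0) (.lf 0x0)) (.nd (.lf 0x0) (.lf 0x2738c25)))) (.nd (.nd (.nd (.lf 0x0) (.lf 0x31ece11)) (.nd (.lf 0x2b98592) (.lf 0x0))) (.nd (.nd (.lf 0x0) (.lf 0x93b40e)) (.nd (.lf 0x0) (.lf 0)))))))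
def witT1 : Tr := (.nd (.nd (.nd (.nd (.nd (.nd witT1_naaaaaa witT1_naaaaab) (.nd witT1_naaaaba witT1_naaaabb)) (.nd (.nd witT1_naaabaa witT1_naaabab) (.nd witT1_naaabba witT1_naaabbb))) (.nd (.nd (.nd witT1_naabaaa witT1_naabaab) (.nd witT1_naababa witT1_naababb)) (.nd (.nd witT1_naabbaa witT1_naabbab) (.nd witT1_naabbba witT1_naabbbb)))) (.nd (.nd (.nd (.nd witT1_nabaaaa witT1_nabaaab) (.nd witT1_nabaaba witT1_nabaabb)) (.nd (.nd witT1_nababaa witT1_nababab) (.nd witT1_nababba witT1_nababbb))) (.nd (.nd (.nd witT1_nabbaaa witT1_nabbaab) (.nd witT1_nabbaba witT1_nabbabb)) (.nd (.nd witT1_nabbbaa witT1_nabbbab) (.nd witT1_nabbbba witT1_nabbbbb))))) (.nd (.nd (.nd (.nd (.nd witT1_nbaaaaa witT1_nbaaaab) (.nd witT1_nbaaaba witT1_nbaaabb))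 (.nd (.nd witT1_nbaabaa witT1_nbaabab) (.nd witT1_nbaabba witT1_nbaabbb))) (.nd (.nd (.nd witT1_nbabaaa witT1_nbabaab) (.nd witT1_nbababa witT1_nbababb)) (.nd (.nd witT1_nbabbaa witT1_nbabbab) (.nd witT1_nbabbba witT1_nbabbbb)))) (.nd (.nd (.nd (.nd witT1_nbbaaaa witT1_nbbaaab) (.nd witT1_nbbaaba witT1_nbbaabb)) (.nd (.nd witT1_nbbabaa witT1_nbbabab) (.nd witT1_nbbabba witT1_nbbabbb))) (.nd (.nd (.nd witT1_nbbbaaa witT1_nbbbaab) (.nd witT1_nbbbaba witT1_nbbbabb)) (.nd (.nd witT1_nbbbbaa witT1_nbbbbab) (.nd witT1_nbbbbba witT1_nbbbbbb))))))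

end H94.RU.D
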