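import Cfsg.Agent.H94.J3.Gen

/-! Generated certificate data for the Rudvalis group. -/

namespace H94.RU.D

open H94.J3

def qT_naaaaaa : Tr := (.nd (.nd (.nd (.nd (.nd (.nd (.lf 0x4) (.lf 0x97f5ead)) (.nd (.lf 0x7a34446) (.lf 0))) (.nd (.nd (.lf 0x9c4568c) (.lf 0)) (.nd (.lf 0x75774b0) (.lf 0)))) (.nd (.nd (.nd (.lf 0xbe1710e) (.lf 0)) (.nd (.lf 0x9de7c53) (.lf 0))) (.nd (.nd (.lf 0x99ddc67) (.lf 0)) (.nd (.lf 0x37648f) (.lf 0))))) (.nd (.nd (.nd (.nd (.lf 0xf55f633) (.lf 0xcf56564)) (.nd (.lf 0x4e34afe) (.lf 0))) (.nd (.nd (.lf 0x81fd30a) (.lf 0)) (.nd (.lf 0x8715a8a) (.lf 0)))) (.nd (.nd (.nd (.lf 0x57ebd77) (.lf 0)) (.nd (.lf 0xe89530a) (.lf 0))) (.nd (.nd (.lf 0xb31c738) (.lf 0)) (.nd (.lf 0x2909269) (.lf 0)))))) (.nd (.nd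 (.nd (.nd (.nd (.lf 0x3f957bb) (.lf 0x668a4c9)) (.nd (.lf 0xcddbdc7) (.lf 0))) (.nd (.nd (.lf 0xce6af0a) (.lf 0)) (.nd (.lf 0x3c8b019) (.lf 0)))) (.nd (.nd (.nd (.lf 0x364d9bc) (.lf 0)) (.nd (.lf 0x6bf8297) (.lf 0))) (.nd (.nd (.lf 0x8f254f9) (.lf 0)) (.nd (.lf 0x46d3630) (.lf 0))))) (.nd (.nd (.nd (.nd (.lf 0x9158c6e) (.lf 0x3403852)) (.nd (.lf 0xf943b1b) (.lf 0))) (.nd (.nd (.lf 0xd9b599c) (.lf 0)) (.nd (.lf 0x5b1cf95) (.lf 0)))) (.nd (.nd (.nd (.lf 0x2d62368) (.lf 0)) (.nd (.lf 0x24b469b) (.lf 0))) (.nd (.nd (.lf 0x8160e93) (.lf 0)) (.nd (.lf 0xac6b4c9) (.lf 0)))))))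
def qT_naaaaab : Tr := (.nd (.nd (.nd (.nd (.nd (.nd (.lf 0xe628ddd) (.lf 0x203fa99)) (.nd (.lf 0x4553039) (.lf 0))) (.nd (.nd (.lf 0x4d8810d) (.lf 0)) (.nd (.lf 0x226bde2) (.lf 0)))) (.nd (.nd (.nd (.lf 0x5beda35) (.lf 0)) (.nd (.lf 0xa3db749) (.lf 0))) (.nd (.nd (.lf 0x5dbd0a8) (.lf 0)) (.nd (.lf 0xdcfe94a) (.lf 0))))) (.nd (.nd (.nd (.nd (.lf 0x3c393c5) (.lf 0xd769754)) (.nd (.lf 0x8865f70) (.lf 0))) (.nd (.nd (.lf 0xdafc15f) (.lf 0)) (.nd (.lf 0xa4f23b8) (.lf 0)))) (.nd (.nd (.nd (.lf 0xfacf241) (.lf 0)) (.nd (.lf 0x1c02d49) (.lf 0))) (.nd (.nd (.lf 0xb6568aa) (.lf 0)) (.nd (.lf 0x7d69132) (.lf 0)))))) (.nd (.nd (.nd (.nd (.nd (.lf 0x33a2ed5) (.lf 0x3d6caab)) (.nd (.lf 0xfd858d5) (.lf 0))) (.nd (.nd (.lf 0x6b048f4) (.lf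 0)) (.nd (.lf 0x32e247f) (.lf 0)))) (.nd (.nd (.nd (.lf 0xaefbbf4) (.lf 0)) (.nd (.lf 0x43a255a) (.lf 0))) (.nd (.nd (.lf 0x383f094) (.lf 0)) (.nd (.lf 0xe68ef94) (.lf 0))))) (.nd (.nd (.nd (.nd (.lf 0xe91b12e) (.lf 0x3d73f66)) (.nd (.lf 0x4387e64) (.lf 0))) (.nd (.nd (.lf 0xe0db539) (.lf 0)) (.nd (.lf 0x303a5ff) (.lf 0)))) (.nd (.nd (.nd (.lf 0xb3caea) (.lf 0)) (.nd (.lf 0xab43f37) (.lf 0))) (.nd (.nd (.lf 0x2f64c80) (.lf 0)) (.nd (.lf 0x60df23) (.lf 0)))))))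
def qT_naaaaba : Tr := (.nd (.nd (.nd (.nd (.nd (.nd (.lf 0x5035d91) (.lf 0xa802307)) (.nd (.lf 0x154144c) (.lf 0))) (.nd (.nd (.lf 0x32e7c27) (.lf 0)) (.nd (.lf 0x1667439) (.lf 0)))) (.nd (.nd (.nd (.lf 0xde696ab) (.lf 0)) (.nd (.lf 0xabd8505) (.lf 0))) (.nd (.nd (.lf 0xaaea1fa) (.lf 0)) (.nd (.lf 0x772d64a) (.lf 0))))) (.nd (.nd (.nd (.nd (.lf 0xdb61a43) (.lf 0xf6188c6)) (.nd (.lf 0x5ec8f82) (.lf 0))) (.nd (.nd (.lf 0x834d574) (.lf 0)) (.nd (.lf 0xb6e5342) (.lf 0)))) (.nd (.nd (.nd (.lf 0x5143a08) (.lf 0)) (.nd (.lf 0x49b6b5e) (.lf 0))) (.nd (.nd (.lf 0x5a099c1) (.lf 0)) (.nd (.lf 0x4a49288) (.lf 0)))))) (.nd (.nd (.nd (.nd (.nd (.lf 0xf4333e1) (.lf 0xf1da74)) (.nd (.lf 0xc6f8ca4) (.lf 0))) (.nd (.nd (.lf 0x3ce0379) (.lf 0))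 (.nd (.lf 0x95625d8) (.lf 0)))) (.nd (.nd (.nd (.lf 0xa374063) (.lf 0)) (.nd (.lf 0xa5d9e5f) (.lf 0))) (.nd (.nd (.lf 0x1f1656) (.lf 0)) (.nd (.lf 0xa3b15dc) (.lf 0))))) (.nd (.nd (.nd (.nd (.lf 0x80de9e0) (.lf 0xcd8ddf3)) (.nd (.lf 0xcd65cb7) (.lf 0))) (.nd (.nd (.lf 0x622590a) (.lf 0)) (.nd (.lf 0xeecdddf) (.lf 0)))) (.nd (.nd (.nd (.lf 0x400926b) (.lf 0)) (.nd (.lf 0x6ebd8a5) (.lf 0))) (.nd (.nd (.lf 0xc26924f) (.lf 0)) (.nd (.lf 0xa7e8961) (.lf 0)))))))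
def qT_naaaabb : Tr := (.nd (.nd (.nd (.nd (.nd (.nd (.lf 0x915e58d) (.lf 0x4c3afbc)) (.nd (.lf 0xb02a35) (.lf 0))) (.nd (.nd (.lf 0x1570e44) (.lf 0)) (.nd (.lf 0x947305e) (.lf 0)))) (.nd (.nd (.nd (.lf 0x140e76d) (.lf 0)) (.nd (.lf 0x284b147) (.lf 0))) (.nd (.nd (.lf 0x1e6479d) (.lf 0)) (.nd (.lf 0x1bd4757) (.lf 0))))) (.nd (.nd (.nd (.nd (.lf 0x7359e79) (.lf 0x3556af9)) (.nd (.lf 0x5f17c1e) (.lf 0))) (.nd (.nd (.lf 0x1c2ba62) (.lf 0)) (.nd (.lf 0xcf10bf) (.lf 0)))) (.nd (.nd (.nd (.lf 0xf1f9724) (.lf 0)) (.nd (.lf 0x913344c) (.lf 0))) (.nd (.nd (.lf 0x6957a24) (.lf 0)) (.nd (.lf 0x8917555) (.lf 0)))))) (.nd (.nd (.nd (.nd (.nd (.lf 0xd4e2fac) (.lf 0x4e38bed)) (.nd (.lf 0x297e1a9) (.lf 0))) (.nd (.nd (.lf 0x6825134) (.lf 0))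 (.nd (.lf 0xc45b0d2) (.lf 0)))) (.nd (.nd (.nd (.lf 0x1956f14) (.lf 0)) (.nd (.lf 0x45b02be) (.lf 0))) (.nd (.nd (.lf 0x17cb272) (.lf 0)) (.nd (.lf 0x4d196d7) (.lf 0))))) (.nd (.nd (.nd (.nd (.lf 0x5e0a71d) (.lf 0x88c86c1)) (.nd (.lf 0x504df12) (.lf 0))) (.nd (.nd (.lf 0x1c42dc9) (.lf 0)) (.nd (.lf 0x7490c1f) (.lf 0)))) (.nd (.nd (.nd (.lf 0x320de21) (.lf 0)) (.nd (.lf 0x2ac4e31) (.lf 0))) (.nd (.nd (.lf 0x74e8536) (.lf 0)) (.nd (.lf 0xc12a677) (.lf 0)))))))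
def qT_naaabaa : Tr := (.nd (.nd (.nd (.nd (.nd (.nd (.lf 0xd22428c) (.lf 0xd609fc)) (.nd (.lf 0xf93895d) (.lf 0))) (.nd (.nd (.lf 0x7b2a95a) (.lf 0)) (.nd (.lf 0xf9854d8) (.lf 0)))) (.nd (.nd (.nd (.lf 0xaa25e67) (.lf 0)) (.nd (.lf 0x8d25924) (.lf 0))) (.nd (.nd (.lf 0x558d235) (.lf 0)) (.nd (.lf 0xa1b1d58) (.lf 0))))) (.nd (.nd (.nd (.nd (.lf 0x840fe5b) (.lf 0x2960c96)) (.nd (.lf 0xba86457) (.lf 0))) (.nd (.nd (.lf 0xe4a95b8) (.lf 0)) (.nd (.lf 0xcf43227) (.lf 0)))) (.nd (.nd (.nd (.lf 0x7e2d3d3) (.lf 0)) (.nd (.lf 0x3c99e79) (.lf 0))) (.nd (.nd (.lf 0x18ea961) (.lf 0)) (.nd (.lf 0x93be289) (.lf 0)))))) (.nd (.nd (.nd (.nd (.nd (.lf 0x469a281) (.lf 0x7c0d3d3)) (.nd (.lf 0x65fabe7) (.lf 0))) (.nd (.nd (.lf 0xdeba294) (.lf 0))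 (.nd (.lf 0xf28f3af) (.lf 0)))) (.nd (.nd (.nd (.lf 0x8115a2c) (.lf 0)) (.nd (.lf 0xc46ad43) (.lf 0))) (.nd (.nd (.lf 0x9b4ca9c) (.lf 0)) (.nd (.lf 0xe27c040) (.lf 0))))) (.nd (.nd (.nd (.nd (.lf 0x486d2b7) (.lf 0xafde537)) (.nd (.lf 0x3f1daa3) (.lf 0))) (.nd (.nd (.lf 0xa5cb137) (.lf 0)) (.nd (.lf 0x32975fc) (.lf 0)))) (.nd (.nd (.nd (.lf 0xfff3b63) (.lf 0)) (.nd (.lf 0x7f24bb3) (.lf 0))) (.nd (.nd (.lf 0xefcc711) (.lf 0)) (.nd (.lf 0x67b1886) (.lf 0)))))))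
def qT_naaabab : Tr := (.nd (.nd (.nd (.nd (.nd (.nd (.lf 0xe884beb) (.lf 0x5ac0e5e)) (.nd (.lf 0x38c53c9) (.lf 0))) (.nd (.nd (.lf 0xf1c1870) (.lf 0)) (.nd (.lf 0xc5ee457) (.lf 0)))) (.nd (.nd (.nd (.lf 0x73f3eb3) (.lf 0)) (.nd (.lf 0xa7bdf35) (.lf 0))) (.nd (.nd (.lf 0xb70903a) (.lf 0)) (.nd (.lf 0x14ce212) (.lf 0))))) (.nd (.nd (.nd (.nd (.lf 0xdd623f2) (.lf 0xfd8ad13)) (.nd (.lf 0x8792b1a) (.lf 0))) (.nd (.nd (.lf 0x55e4723) (.lf 0)) (.nd (.lf 0xb49ec61) (.lf 0)))) (.nd (.nd (.nd (.lf 0xf904456) (.lf 0)) (.nd (.lf 0xefeacd) (.lf 0))) (.nd (.nd (.lf 0xf92ba1a) (.lf 0)) (.nd (.lf 0xe5e5abb) (.lf 0)))))) (.nd (.nd (.nd (.nd (.nd (.lf 0xa393553) (.lf 0x1b6fb08)) (.nd (.lf 0x4060dd7) (.lf 0))) (.nd (.nd (.lf 0xeb4b0ba) (.lf 0))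 (.nd (.lf 0xc8f22d2) (.lf 0)))) (.nd (.nd (.nd (.lf 0x4c3742c) (.lf 0)) (.nd (.lf 0xd3538bc) (.lf 0))) (.nd (.nd (.lf 0x5d4b7b5) (.lf 0)) (.nd (.lf 0x5beca15) (.lf 0))))) (.nd (.nd (.nd (.nd (.lf 0xec80a8d) (.lf 0x7ea4440)) (.nd (.lf 0x7ec5718) (.lf 0))) (.nd (.nd (.lf 0x56ba8f) (.lf 0)) (.nd (.lf 0xdb882c3) (.lf 0)))) (.nd (.nd (.nd (.lf 0xfc69ec3) (.lf 0)) (.nd (.lf 0x5b6599) (.lf 0))) (.nd (.nd (.lf 0x243e9a) (.lf 0)) (.nd (.lf 0xd086514) (.lf 0)))))))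
def qT_naaabba : Tr := (.nd (.nd (.nd (.nd (.nd (.nd (.lf 0x52386a4) (.lf 0x100000)) (.nd (.lf 0x7d1b127) (.lf 0))) (.nd (.nd (.lf 0x3c9b8a4) (.lf 0)) (.nd (.lf 0xf0858c9) (.lf 0)))) (.nd (.nd (.nd (.lf 0x6c1275b) (.lf 0)) (.nd (.lf 0x165f52c) (.lf 0))) (.nd (.nd (.lf 0x251dce4) (.lf 0)) (.nd (.lf 0xb6d7aa4) (.lf 0))))) (.nd (.nd (.nd (.nd (.lf 0x9ab7003) (.lf 0xbba9da3)) (.nd (.lf 0xce8282) (.lf 0))) (.nd (.nd (.lf 0xafb3a5e) (.lf 0)) (.nd (.lf 0x4d765a6) (.lf 0)))) (.nd (.nd (.nd (.lf 0x43226d5) (.lf 0)) (.nd (.lf 0xf22feb2) (.lf 0))) (.nd (.nd (.lf 0x8cda7e0) (.lf 0)) (.nd (.lf 0x2f490b3) (.lf 0)))))) (.nd (.nd (.nd (.nd (.nd (.lf 0x9810520) (.lf 0x330e821)) (.nd (.lf 0xe915cf9) (.lf 0))) (.nd (.nd (.lf 0x20000) (.lf 0))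 (.nd (.lf 0x3ccbaed) (.lf 0)))) (.nd (.nd (.nd (.lf 0x33d7c95) (.lf 0)) (.nd (.lf 0x98ba621) (.lf 0))) (.nd (.nd (.lf 0xf82984d) (.lf 0)) (.nd (.lf 0xbbab01b) (.lf 0))))) (.nd (.nd (.nd (.nd (.lf 0x20bea60) (.lf 0x14b703f)) (.nd (.lf 0x8df252) (.lf 0))) (.nd (.nd (.lf 0xa675173) (.lf 0)) (.nd (.lf 0x187e240) (.lf 0)))) (.nd (.nd (.nd (.lf 0x5e9a5da) (.lf 0)) (.nd (.lf 0x8d779d) (.lf 0))) (.nd (.nd (.lf 0x41f0bb4) (.lf 0)) (.nd (.lf 0xa85d642) (.lf 0)))))))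
def qT_naaabbb : Tr := (.nd (.nd (.nd (.nd (.nd (.nd (.lf 0xe3da5c6) (.lf 0xf743b38)) (.nd (.lf 0x5d8b6c3) (.lf 0))) (.nd (.nd (.lf 0x33c818b) (.lf 0)) (.nd (.lf 0x181000) (.lf 0)))) (.nd (.nd (.nd (.lf 0xd869ad6) (.lf 0)) (.nd (.lf 0x9092c8f) (.lf 0))) (.nd (.nd (.lf 0x42ddd48) (.lf 0)) (.nd (.lf 0x17502c5) (.lf 0))))) (.nd (.nd (.nd (.nd (.lf 0x7aae249) (.lf 0x94be671)) (.nd (.lf 0x1ad37a2) (.lf 0))) (.nd (.nd (.lf 0x979fa95) (.lf 0)) (.nd (.lf 0xc93618a) (.lf 0)))) (.nd (.nd (.nd (.lf 0xc8d3018) (.lf 0)) (.nd (.lf 0xa2d33a6) (.lf 0))) (.nd (.nd (.lf 0x33ad4c7) (.lf 0)) (.nd (.lf 0x675af9d) (.lf 0)))))) (.nd (.nd (.nd (.nd (.nd (.lf 0x14ba473) (.lf 0x9739bec)) (.nd (.lf 0x73099ac) (.lf 0))) (.nd (.nd (.lf 0x70e9943) (.lf 0))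 (.nd (.lf 0xce13749) (.lf 0)))) (.nd (.nd (.nd (.lf 0x1611dd0) (.lf 0)) (.nd (.lf 0x714c1fd) (.lf 0))) (.nd (.nd (.lf 0x781b6b) (.lf 0)) (.nd (.lf 0xa9154ca) (.lf 0))))) (.nd (.nd (.nd (.nd (.lf 0xbaf3b7e) (.lf 0x5218db8)) (.nd (.lf 0xf3d5f83) (.lf 0))) (.nd (.nd (.lf 0x887ae3a) (.lf 0)) (.nd (.lf 0x8ddc59a) (.lf 0)))) (.nd (.nd (.nd (.lf 0x753a638) (.lf 0)) (.nd (.lf 0xf1dfec8) (.lf 0))) (.nd (.nd (.lf 0xea63905) (.lf 0)) (.nd (.lf 0xcefea4d) (.lf 0)))))))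
def qT_naabaaa : Tr := (.nd (.nd (.nd (.nd (.nd (.nd (.lf 0x54a6c3d) (.lf 0xf58327b)) (.nd (.lf 0x677f18) (.lf 0))) (.nd (.nd (.lf 0xb962464) (.lf 0)) (.nd (.lf 0x6315157) (.lf 0)))) (.nd (.nd (.nd (.lf 0x4e21239) (.lf 0)) (.nd (.lf 0xf8eed2a) (.lf 0))) (.nd (.nd (.lf 0x6b6ff9c) (.lf 0)) (.nd (.lf 0x4fcc9d6) (.lf 0))))) (.nd (.nd (.nd (.nd (.lf 0x13046d1) (.lf 0x6aff9ed)) (.nd (.lf 0x28d1787) (.lf 0))) (.nd (.nd (.lf 0xd730663) (.lf 0)) (.nd (.lf 0x5fde92c) (.lf 0)))) (.nd (.nd (.nd (.lf 0x1df9874) (.lf 0)) (.nd (.lf 0x854b518) (.lf 0))) (.nd (.nd (.lf 0x6d26423) (.lf 0)) (.nd (.lf 0x4e0a719) (.lf 0)))))) (.nd (.nd (.nd (.nd (.nd (.lf 0x25b56f5) (.lf 0x2e76c70)) (.nd (.lf 0x270db89) (.lf 0))) (.nd (.nd (.lf 0x556d0b0) (.lf 0))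 (.nd (.lf 0x1c7cee0) (.lf 0)))) (.nd (.nd (.nd (.lf 0xf733423) (.lf 0)) (.nd (.lf 0x514e556) (.lf 0))) (.nd (.nd (.lf 0xa19fd3e) (.lf 0)) (.nd (.lf 0x848f902) (.lf 0))))) (.nd (.nd (.nd (.nd (.lf 0xbc3cd97) (.lf 0x9dcde05)) (.nd (.lf 0x5820602) (.lf 0))) (.nd (.nd (.lf 0x21b3a60) (.lf 0)) (.nd (.lf 0x5514a33) (.lf 0)))) (.nd (.nd (.nd (.lf 0x344ec26) (.lf 0)) (.nd (.lf 0x50655ae) (.lf 0))) (.nd (.nd (.lf 0xb82b1b5) (.lf 0)) (.nd (.lf 0xadb232f) (.lf 0)))))))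
def qT_naabaab : Tr := (.nd (.nd (.nd (.nd (.nd (.nd (.lf 0xe64217c) (.lf 0x1751424)) (.nd (.lf 0xdc8cfc6) (.lf 0))) (.nd (.nd (.lf 0x808bbad) (.lf 0)) (.nd (.lf 0xe54d0aa) (.lf 0)))) (.nd (.nd (.nd (.lf 0xbfbdbd3) (.lf 0)) (.nd (.lf 0x8fa5776) (.lf 0))) (.nd (.nd (.lf 0xc6531c) (.lf 0)) (.nd (.lf 0x707df34) (.lf 0))))) (.nd (.nd (.nd (.nd (.lf 0xa1106a4) (.lf 0xcc84651)) (.nd (.lf 0x91a8474) (.lf 0))) (.nd (.nd (.lf 0x662b60f) (.lf 0)) (.nd (.lf 0x25116f7) (.lf 0)))) (.nd (.nd (.nd (.lf 0x688592a) (.lf 0)) (.nd (.lf 0x2afa3f3) (.lf 0))) (.nd (.nd (.lf 0x66c9ff2) (.lf 0)) (.nd (.lf 0xde48556) (.lf 0)))))) (.nd (.nd (.nd (.nd (.nd (.lf 0x9d731a1) (.lf 0xceafd76)) (.nd (.lf 0xc627a11) (.lf 0))) (.nd (.nd (.lf 0xc7cb963) (.lf 0))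 (.nd (.lf 0x5fb576e) (.lf 0)))) (.nd (.nd (.nd (.lf 0xa695e35) (.lf 0)) (.nd (.lf 0xe56b17d) (.lf 0))) (.nd (.nd (.lf 0x4326c2e) (.lf 0)) (.nd (.lf 0x65287e7) (.lf 0))))) (.nd (.nd (.nd (.nd (.lf 0x712965c) (.lf 0x5dd16f5)) (.nd (.lf 0x60dc770) (.lf 0))) (.nd (.nd (.lf 0x63a9c1) (.lf 0)) (.nd (.lf 0xe6cac4) (.lf 0)))) (.nd (.nd (.nd (.lf 0x8cd5703) (.lf 0)) (.nd (.lf 0xabac843) (.lf 0))) (.nd (.nd (.lf 0x6064ca) (.lf 0)) (.nd (.lf 0x192d71a) (.lf 0)))))))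
def qT_naababa : Tr := (.nd (.nd (.nd (.nd (.nd (.nd (.lf 0xf82a85f) (.lf 0x2a537d1)) (.nd (.lf 0xc36e7ce) (.lf 0))) (.nd (.nd (.lf 0xa90f2a) (.lf 0)) (.nd (.lf 0x1e3922f) (.lf 0)))) (.nd (.nd (.nd (.lf 0x1ff07ba) (.lf 0)) (.nd (.lf 0xa57442c) (.lf 0))) (.nd (.nd (.lf 0x853f9c2) (.lf 0)) (.nd (.lf 0xadc0e1b) (.lf 0))))) (.nd (.nd (.nd (.nd (.lf 0xd47aa35) (.lf 0xe109640)) (.nd (.lf 0xc2bb555) (.lf 0))) (.nd (.nd (.lf 0xeb043b9) (.lf 0)) (.nd (.lf 0x24148bf) (.lf 0)))) (.nd (.nd (.nd (.lf 0x2aa9ab1) (.lf 0)) (.nd (.lf 0xc0e8bc) (.lf 0))) (.nd (.nd (.lf 0x5dfa147) (.lf 0)) (.nd (.lf 0x8d68f69) (.lf 0)))))) (.nd (.nd (.nd (.nd (.nd (.lf 0x48152fc) (.lf 0x45e7796)) (.nd (.lf 0xae18edc) (.lf 0))) (.nd (.nd (.lf 0xb8622a3) (.lf 0))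 (.nd (.lf 0x2dd5067) (.lf 0)))) (.nd (.nd (.nd (.lf 0xc04a81f) (.lf 0)) (.nd (.lf 0xf34142c) (.lf 0))) (.nd (.nd (.lf 0x29d4cc7) (.lf 0)) (.nd (.lf 0x1cacd2b) (.lf 0))))) (.nd (.nd (.nd (.nd (.lf 0xf385e7e) (.lf 0x842a9cb)) (.nd (.lf 0x74dc154) (.lf 0))) (.nd (.nd (.lf 0x355d781) (.lf 0)) (.nd (.lf 0x4681746) (.lf 0)))) (.nd (.nd (.nd (.lf 0xe77943d) (.lf 0)) (.nd (.lf 0x3ee2174) (.lf 0))) (.nd (.nd (.lf 0x455bda9) (.lf 0)) (.nd (.lf 0x4e4bd76) (.lf 0)))))))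
def qT_naababb : Tr := (.nd (.nd (.nd (.nd (.nd (.nd (.lf 0xd5672b) (.lf 0x5f0812f)) (.nd (.lf 0xa28d064) (.lf 0))) (.nd (.nd (.lf 0xfae9f14) (.lf 0)) (.nd (.lf 0xf889010) (.lf 0)))) (.nd (.nd (.nd (.lf 0x200806e) (.lf 0)) (.nd (.lf 0x365df7e) (.lf 0))) (.nd (.nd (.lf 0xe13f02b) (.lf 0)) (.nd (.lf 0x2c4da9c) (.lf 0))))) (.nd (.nd (.nd (.nd (.lf 0xda73d61) (.lf 0x16da1b3)) (.nd (.lf 0x211da3d) (.lf 0))) (.nd (.nd (.lf 0x5ef76d) (.lf 0)) (.nd (.lf 0x43cf837) (.lf 0)))) (.nd (.nd (.nd (.lf 0x32b382a) (.lf 0)) (.nd (.lf 0xda429b) (.lf 0))) (.nd (.nd (.lf 0xb0ea6fc) (.lf 0)) (.nd (.lf 0xba9012) (.lf 0)))))) (.nd (.nd (.nd (.nd (.nd (.lf 0x8fa7e2c) (.lf 0x4d7fee)) (.nd (.lf 0xc6fd8c6) (.lf 0))) (.nd (.nd (.lf 0x75da0c) (.lf 0)) (.nd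 (.lf 0x7c4a387) (.lf 0)))) (.nd (.nd (.nd (.lf 0xbdba5de) (.lf 0)) (.nd (.lf 0xf67d2c3) (.lf 0))) (.nd (.nd (.lf 0x3ccc996) (.lf 0)) (.nd (.lf 0x66de390) (.lf 0))))) (.nd (.nd (.nd (.nd (.lf 0xf3bf46e) (.lf 0xaf6882)) (.nd (.lf 0x789491e) (.lf 0))) (.nd (.nd (.lf 0x64f52a6) (.lf 0)) (.nd (.lf 0xd5fca9a) (.lf 0)))) (.nd (.nd (.nd (.lf 0x48033a8) (.lf 0)) (.nd (.lf 0xa60dc6e) (.lf 0))) (.nd (.nd (.lf 0x2dcd328) (.lf 0)) (.nd (.lf 0x8522ebd) (.lf 0)))))))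
def qT_naabbaa : Tr := (.nd (.nd (.nd (.nd (.nd (.nd (.lf 0x17b365e) (.lf 0x5bd692c)) (.nd (.lf 0x7c7a856) (.lf 0))) (.nd (.nd (.lf 0xb215fd) (.lf 0)) (.nd (.lf 0xa19ca8a) (.lf 0)))) (.nd (.nd (.nd (.lf 0xcbbba09) (.lf 0)) (.nd (.lf 0x4130395) (.lf 0))) (.nd (.nd (.lf 0x3823720) (.lf 0)) (.nd (.lf 0x55e2b2a) (.lf 0))))) (.nd (.nd (.nd (.nd (.lf 0x1140768) (.lf 0x150cd67)) (.nd (.lf 0xd564008) (.lf 0))) (.nd (.nd (.lf 0x2c4a733) (.lf 0)) (.nd (.lf 0xa9dc30c) (.lf 0)))) (.nd (.nd (.nd (.lf 0x6b9e65f) (.lf 0)) (.nd (.lf 0xccc76fd) (.lf 0))) (.nd (.nd (.lf 0xf35c5a) (.lf 0)) (.nd (.lf 0x7ee9960) (.lf 0)))))) (.nd (.nd (.nd (.nd (.nd (.lf 0xdd1a6c5) (.lf 0xe31cd3e)) (.nd (.lf 0x758df8d) (.lf 0))) (.nd (.nd (.lf 0x26920ed) (.lf 0))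 (.nd (.lf 0xafbfb4d) (.lf 0)))) (.nd (.nd (.nd (.lf 0xcee26d7) (.lf 0)) (.nd (.lf 0xdcc4236) (.lf 0))) (.nd (.nd (.lf 0xaa479b1) (.lf 0)) (.nd (.lf 0x15bc312) (.lf 0))))) (.nd (.nd (.nd (.nd (.lf 0x95969f7) (.lf 0xeb43905)) (.nd (.lf 0x9feb1cf) (.lf 0))) (.nd (.nd (.lf 0x3f55ff4) (.lf 0)) (.nd (.lf 0x86f75c5) (.lf 0)))) (.nd (.nd (.nd (.lf 0x35b3360) (.lf 0)) (.nd (.lf 0x7905e0c) (.lf 0))) (.nd (.nd (.lf 0x9b2b54a) (.lf 0)) (.nd (.lf 0xa1d9994) (.lf 0)))))))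
def qT_naabbab : Tr := (.nd (.nd (.nd (.nd (.nd (.nd (.lf 0x1922c5a) (.lf 0x6c5be7)) (.nd (.lf 0x2a212e0) (.lf 0))) (.nd (.nd (.lf 0x44f9e7b) (.lf 0)) (.nd (.lf 0xf2a9eb8) (.lf 0)))) (.nd (.nd (.nd (.lf 0xa65269b) (.lf 0)) (.nd (.lf 0x9caa68) (.lf 0))) (.nd (.nd (.lf 0x55a123b) (.lf 0)) (.nd (.lf 0x6409) (.lf 0))))) (.nd (.nd (.nd (.nd (.lf 0x9b2da7a) (.lf 0xa796dc6)) (.nd (.lf 0xc4bcd3b) (.lf 0))) (.nd (.nd (.lf 0xe2b58eb) (.lf 0)) (.nd (.lf 0x172430a) (.lf 0)))) (.nd (.nd (.nd (.lf 0xe6a8d21) (.lf 0)) (.nd (.lf 0xf77f633) (.lf 0))) (.nd (.nd (.lf 0x44d2ea9) (.lf 0)) (.nd (.lf 0xfb6ed6e) (.lf 0)))))) (.nd (.nd (.nd (.nd (.nd (.lf 0xef8f2bc) (.lf 0xc9002a1)) (.nd (.lf 0xeb6cd6e) (.lf 0))) (.nd (.nd (.lf 0xe8fbc63) (.lf 0)) (.nd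 (.lf 0x3d3335) (.lf 0)))) (.nd (.nd (.nd (.lf 0x9615a8a) (.lf 0)) (.nd (.lf 0xf7d27c7) (.lf 0))) (.nd (.nd (.lf 0x4698237) (.lf 0)) (.nd (.lf 0xcb76a98) (.lf 0))))) (.nd (.nd (.nd (.nd (.lf 0x5240574) (.lf 0x4cee490)) (.nd (.lf 0xa9138fd) (.lf 0))) (.nd (.nd (.lf 0x77367c7) (.lf 0)) (.nd (.lf 0x96c66b1) (.lf 0)))) (.nd (.nd (.nd (.lf 0x3894a37) (.lf 0)) (.nd (.lf 0x661dc88) (.lf 0))) (.nd (.nd (.lf 0x14a3126) (.lf 0)) (.nd (.lf 0xd4c2b11) (.lf 0)))))))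
def qT_naabbba : Tr := (.nd (.nd (.nd (.nd (.nd (.nd (.lf 0xd3101ad) (.lf 0xc7a68a2)) (.nd (.lf 0x2516eba) (.lf 0))) (.nd (.nd (.lf 0x1d812fa) (.lf 0)) (.nd (.lf 0xed865e) (.lf 0)))) (.nd (.nd (.nd (.lf 0x3d67c47) (.lf 0)) (.nd (.lf 0x65b3dd5) (.lf 0))) (.nd (.nd (.lf 0xb2ffbe3) (.lf 0)) (.nd (.lf 0x2000) (.lf 0))))) (.nd (.nd (.nd (.nd (.lf 0x8d479ac) (.lf 0xa667097)) (.nd (.lf 0x7bcf737) (.lf 0))) (.nd (.nd (.lf 0x68fbfe4) (.lf 0)) (.nd (.lf 0xcb19e9a) (.lf 0)))) (.nd (.nd (.nd (.lf 0xcce9938) (.lf 0)) (.nd (.lf 0x3bfd3a9) (.lf 0))) (.nd (.nd (.lf 0x1584edf) (.lf 0)) (.nd (.lf 0xd8c0876) (.lf 0)))))) (.nd (.nd (.nd (.nd (.nd (.lf 0xa13af53) (.lf 0xa9e9012)) (.nd (.lf 0xa4b0da) (.lf 0))) (.nd (.nd (.lf 0x9814081) (.lf 0)) (.nd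 (.lf 0xd34ccb6) (.lf 0)))) (.nd (.nd (.nd (.lf 0xa3be205) (.lf 0)) (.nd (.lf 0x58608ac) (.lf 0))) (.nd (.nd (.lf 0x253deee) (.lf 0)) (.nd (.lf 0xe68bfa4) (.lf 0))))) (.nd (.nd (.nd (.nd (.lf 0x1cb420c) (.lf 0xeef2f50)) (.nd (.lf 0xbd6ad9a) (.lf 0))) (.nd (.nd (.lf 0x49f40f4) (.lf 0)) (.nd (.lf 0xc454f55) (.lf 0)))) (.nd (.nd (.nd (.lf 0x3dca285) (.lf 0)) (.nd (.lf 0x1860692) (.lf 0))) (.nd (.nd (.lf 0xba6b9c6) (.lf 0)) (.nd (.lf 0xf7e9c1c) (.lf 0)))))))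
def qT_naabbbb : Tr := (.nd (.nd (.nd (.nd (.nd (.nd (.lf 0x977064b) (.lf 0x58f76d)) (.nd (.lf 0x7bfb559) (.lf 0))) (.nd (.nd (.lf 0x1a08242) (.lf 0)) (.nd (.lf 0x6c45b77) (.lf 0)))) (.nd (.nd (.nd (.lf 0x9c07ee4) (.lf 0)) (.nd (.lf 0x8a65f36) (.lf 0))) (.nd (.nd (.lf 0x40000) (.lf 0)) (.nd (.lf 0xb58fb2c) (.lf 0))))) (.nd (.nd (.nd (.nd (.lf 0xacaf336) (.lf 0xed58609)) (.nd (.lf 0x2423858) (.lf 0))) (.nd (.nd (.lf 0x3cb89f1) (.lf 0)) (.nd (.lf 0xd67fff3) (.lf 0)))) (.nd (.nd (.nd (.lf 0x33cf4be) (.lf 0)) (.nd (.lf 0x3be7449) (.lf 0))) (.nd (.nd (.lf 0xecf67ea) (.lf 0)) (.nd (.lf 0x89e8899) (.lf 0)))))) (.nd (.nd (.nd (.nd (.nd (.lf 0x47fa38) (.lf 0x6b95b5a)) (.nd (.lf 0xad66560) (.lf 0))) (.nd (.nd (.lf 0x175f545) (.lf 0))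 (.nd (.lf 0x7c92a33) (.lf 0)))) (.nd (.nd (.nd (.lf 0x186bfbb) (.lf 0)) (.nd (.lf 0x5ee3371) (.lf 0))) (.nd (.nd (.lf 0x419c178) (.lf 0)) (.nd (.lf 0xe5f9e24) (.lf 0))))) (.nd (.nd (.nd (.nd (.lf 0x19d6542) (.lf 0xd152607)) (.nd (.lf 0x740c133) (.lf 0))) (.nd (.nd (.lf 0x551d21d) (.lf 0)) (.nd (.lf 0xeca9164) (.lf 0)))) (.nd (.nd (.nd (.lf 0x3901e28) (.lf 0)) (.nd (.lf 0x3310a3b) (.lf 0))) (.nd (.nd (.lf 0x2a422d7) (.lf 0)) (.nd (.lf 0xab1d2a6) (.lf 0)))))))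
def qT_nabaaaa : Tr := (.nd (.nd (.nd (.nd (.nd (.nd (.lf 0x35cffa8) (.lf 0x639baf4)) (.nd (.lf 0xa3b6a24) (.lf 0))) (.nd (.nd (.lf 0xf2636e0) (.lf 0)) (.nd (.lf 0x848e228) (.lf 0)))) (.nd (.nd (.nd (.lf 0x61253a9) (.lf 0)) (.nd (.lf 0xc5bd7be) (.lf 0))) (.nd (.nd (.lf 0x90bcc6d) (.lf 0)) (.nd (.lf 0x26c3adb) (.lf 0))))) (.nd (.nd (.nd (.nd (.lf 0xea21c44) (.lf 0x318b2b1)) (.nd (.lf 0x9fa9f8c) (.lf 0))) (.nd (.nd (.lf 0x2c405ed) (.lf 0)) (.nd (.lf 0x311eef6) (.lf 0)))) (.nd (.nd (.nd (.lf 0xb84261e) (.lf 0)) (.nd (.lf 0x10e46b) (.lf 0))) (.nd (.nd (.lf 0x61abb05) (.lf 0)) (.nd (.lf 0x10498a4) (.lf 0)))))) (.nd (.nd (.nd (.nd (.nd (.lf 0xe1788bd) (.lf 0x785186d)) (.nd (.lf 0xd307039) (.lf 0))) (.nd (.nd (.lf 0xe95f092) (.lf 0))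 (.nd (.lf 0x474ed0a) (.lf 0)))) (.nd (.nd (.nd (.lf 0xa982087) (.lf 0)) (.nd (.lf 0xd56fcae) (.lf 0))) (.nd (.nd (.lf 0xadc971b) (.lf 0)) (.nd (.lf 0xd80b5d0) (.lf 0))))) (.nd (.nd (.nd (.nd (.lf 0xb29db8) (.lf 0x1e8b239)) (.nd (.lf 0x99b5fae) (.lf 0))) (.nd (.nd (.lf 0xbf3ade5) (.lf 0)) (.nd (.lf 0x50f8750) (.lf 0)))) (.nd (.nd (.nd (.lf 0xb4bc0bb) (.lf 0)) (.nd (.lf 0xacceacc) (.lf 0))) (.nd (.nd (.lf 0x1831230) (.lf 0)) (.nd (.lf 0x4709d5e) (.lf 0)))))))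
def qT_nabaaab : Tr := (.nd (.nd (.nd (.nd (.nd (.nd (.lf 0x729974d) (.lf 0xe73cb8f)) (.nd (.lf 0x184493c) (.lf 0))) (.nd (.nd (.lf 0x7a73ce7) (.lf 0)) (.nd (.lf 0xaf62889) (.lf 0)))) (.nd (.nd (.nd (.lf 0x97dbc6c) (.lf 0)) (.nd (.lf 0xa90ec09) (.lf 0))) (.nd (.nd (.lf 0x4692291) (.lf 0)) (.nd (.lf 0xf706e70) (.lf 0))))) (.nd (.nd (.nd (.nd (.lf 0xbe3f30d) (.lf 0x58e4e2)) (.nd (.lf 0xbf731a1) (.lf 0))) (.nd (.nd (.lf 0xdb986ca) (.lf 0)) (.nd (.lf 0xefcdc4c) (.lf 0)))) (.nd (.nd (.nd (.lf 0x9ab8690) (.lf 0)) (.nd (.lf 0x6333554) (.lf 0))) (.nd (.nd (.lf 0x91c8ff1) (.lf 0)) (.nd (.lf 0x3187897) (.lf 0)))))) (.nd (.nd (.nd (.nd (.nd (.lf 0x63648d2) (.lf 0xb76d709)) (.nd (.lf 0x12142b0) (.lf 0))) (.nd (.nd (.lf 0x491f892) (.lf 0))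 (.nd (.lf 0xdcddbcf) (.lf 0)))) (.nd (.nd (.nd (.lf 0x39cbc60) (.lf 0)) (.nd (.lf 0xcef3eb9) (.lf 0))) (.nd (.nd (.lf 0x3d6aaff) (.lf 0)) (.nd (.lf 0xa057805) (.lf 0))))) (.nd (.nd (.nd (.nd (.lf 0x344aec0) (.lf 0x2d9843d)) (.nd (.lf 0x8e1c800) (.lf 0))) (.nd (.nd (.lf 0xba4b278) (.lf 0)) (.nd (.lf 0xf3dc9e) (.lf 0)))) (.nd (.nd (.nd (.lf 0x23e7132) (.lf 0)) (.nd (.lf 0xd50bc57) (.lf 0))) (.nd (.nd (.lf 0xdb0722f) (.lf 0)) (.nd (.lf 0xacead7d) (.lf 0)))))))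
def qT_nabaaba : Tr := (.nd (.nd (.nd (.nd (.nd (.nd (.lf 0x58f1119) (.lf 0xe89222e)) (.nd (.lf 0xd1ba8c5) (.lf 0))) (.nd (.nd (.lf 0x2094b3a) (.lf 0)) (.nd (.lf 0x3f24b11) (.lf 0)))) (.nd (.nd (.nd (.lf 0xda501a4) (.lf 0)) (.nd (.lf 0x7cc4841) (.lf 0))) (.nd (.nd (.lf 0xb973162) (.lf 0)) (.nd (.lf 0xa7e9b38) (.lf 0))))) (.nd (.nd (.nd (.nd (.lf 0x194f62b) (.lf 0xf6a2a74)) (.nd (.lf 0x134eaba) (.lf 0))) (.nd (.nd (.lf 0x4c66cc1) (.lf 0)) (.nd (.lf 0xe70fe30) (.lf 0)))) (.nd (.nd (.nd (.lf 0x4f3945e) (.lf 0)) (.nd (.lf 0x8b3f818) (.lf 0))) (.nd (.nd (.lf 0x31544da) (.lf 0)) (.nd (.lf 0x8089c7b) (.lf 0)))))) (.nd (.nd (.nd (.nd (.nd (.lf 0xc9ac47a) (.lf 0x5848ab6)) (.nd (.lf 0x61fefd3) (.lf 0))) (.nd (.nd (.lf 0x47a2b12) (.lf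 0)) (.nd (.lf 0x271236d) (.lf 0)))) (.nd (.nd (.nd (.lf 0xbad134e) (.lf 0)) (.nd (.lf 0x2f9d14a) (.lf 0))) (.nd (.nd (.lf 0x721028b) (.lf 0)) (.nd (.lf 0xd3978ec) (.lf 0))))) (.nd (.nd (.nd (.nd (.lf 0xfb67ffb) (.lf 0x93301d6)) (.nd (.lf 0xfba55f6) (.lf 0))) (.nd (.nd (.lf 0xf2fdf7) (.lf 0)) (.nd (.lf 0xb7ebeaf) (.lf 0)))) (.nd (.nd (.nd (.lf 0x8a8561b) (.lf 0)) (.nd (.lf 0x4dc0fdd) (.lf 0))) (.nd (.nd (.lf 0x80448d6) (.lf 0)) (.nd (.lf 0x9b27df4) (.lf 0)))))))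
def qT_nabaabb : Tr := (.nd (.nd (.nd (.nd (.nd (.nd (.lf 0xf2a8677) (.lf 0x7e45ab2)) (.nd (.lf 0x9fd16a5) (.lf 0))) (.nd (.nd (.lf 0xe6d17a2) (.lf 0)) (.nd (.lf 0x6ce1929) (.lf 0)))) (.nd (.nd (.nd (.lf 0x2054ac3) (.lf 0)) (.nd (.lf 0x39734f8) (.lf 0))) (.nd (.nd (.lf 0x9d4041e) (.lf 0)) (.nd (.lf 0x7f4402e) (.lf 0))))) (.nd (.nd (.nd (.nd (.lf 0x6f128b3) (.lf 0x24701c5)) (.nd (.lf 0xcb9ebde) (.lf 0))) (.nd (.nd (.lf 0x8000000) (.lf 0)) (.nd (.lf 0x5fd8d05) (.lf 0)))) (.nd (.nd (.nd (.lf 0xedce696) (.lf 0)) (.nd (.lf 0x629fb77) (.lf 0))) (.nd (.nd (.lf 0xd94df7c) (.lf 0)) (.nd (.lf 0xb0ebefc) (.lf 0)))))) (.nd (.nd (.nd (.nd (.nd (.lf 0x8e6a1e9) (.lf 0x3ab1c52)) (.nd (.lf 0x899a5ad) (.lf 0))) (.nd (.nd (.lf 0x5034591) (.lf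 0)) (.nd (.lf 0x60cfbb8) (.lf 0)))) (.nd (.nd (.nd (.lf 0xe9e2550) (.lf 0)) (.nd (.lf 0xcc1a6c5) (.lf 0))) (.nd (.nd (.lf 0x98a9ffb) (.lf 0)) (.nd (.lf 0x657634d) (.lf 0))))) (.nd (.nd (.nd (.nd (.lf 0x16c9464) (.lf 0x4ff109a)) (.nd (.lf 0xdfd9fc4) (.lf 0))) (.nd (.nd (.lf 0xc789bf2) (.lf 0)) (.nd (.lf 0x961c90d) (.lf 0)))) (.nd (.nd (.nd (.lf 0xf6a9244) (.lf 0)) (.nd (.lf 0x45e9956) (.lf 0))) (.nd (.nd (.lf 0x3837e97) (.lf 0)) (.nd (.lf 0x39fb937) (.lf 0)))))))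
def qT_nababaa : Tr := (.nd (.nd (.nd (.nd (.nd (.nd (.lf 0xb7e285c) (.lf 0x47f51f6)) (.nd (.lf 0x71884a5) (.lf 0))) (.nd (.nd (.lf 0x9460313) (.lf 0)) (.nd (.lf 0x4e76fbf) (.lf 0)))) (.nd (.nd (.nd (.lf 0x8e113b6) (.lf 0)) (.nd (.lf 0x20) (.lf 0))) (.nd (.nd (.lf 0x236b4e0) (.lf 0)) (.nd (.lf 0x8c0d470) (.lf 0))))) (.nd (.nd (.nd (.nd (.lf 0x887c44a) (.lf 0xfd22098)) (.nd (.lf 0x2491f37) (.lf 0))) (.nd (.nd (.lf 0xa315a9f) (.lf 0)) (.nd (.lf 0x645be15) (.lf 0)))) (.nd (.nd (.nd (.lf 0x29b8a2) (.lf 0)) (.nd (.lf 0x80da7e0) (.lf 0))) (.nd (.nd (.lf 0xdb96a4f) (.lf 0)) (.nd (.lf 0x71f49cf) (.lf 0)))))) (.nd (.nd (.nd (.nd (.nd (.lf 0xfd7c21a) (.lf 0x193b496)) (.nd (.lf 0x9e1a032) (.lf 0))) (.nd (.nd (.lf 0xf4983d4) (.lf 0)) (.nd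 (.lf 0x3bc74c3) (.lf 0)))) (.nd (.nd (.nd (.lf 0xefcec2) (.lf 0)) (.nd (.lf 0x209a847) (.lf 0))) (.nd (.nd (.lf 0x18469fd) (.lf 0)) (.nd (.lf 0xc410ee9) (.lf 0))))) (.nd (.nd (.nd (.nd (.lf 0x4cde330) (.lf 0xf385691)) (.nd (.lf 0x7605b1e) (.lf 0))) (.nd (.nd (.lf 0x956bd7) (.lf 0)) (.nd (.lf 0x9891724) (.lf 0)))) (.nd (.nd (.nd (.lf 0x8f605b9) (.lf 0)) (.nd (.lf 0xc9ff126) (.lf 0))) (.nd (.nd (.lf 0x8ec245a) (.lf 0)) (.nd (.lf 0x5926463) (.lf 0)))))))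
def qT_nababab : Tr := (.nd (.nd (.nd (.nd (.nd (.nd (.lf 0x32c3e7c) (.lf 0x1ca0a8d)) (.nd (.lf 0xf46cffb) (.lf 0))) (.nd (.nd (.lf 0x477d3a5) (.lf 0)) (.nd (.lf 0xf94c12c) (.lf 0)))) (.nd (.nd (.nd (.lf 0xb7d64f6) (.lf 0)) (.nd (.lf 0x71a9864) (.lf 0))) (.nd (.nd (.lf 0xfbd051b) (.lf 0)) (.nd (.lf 0x72c6c8f) (.lf 0))))) (.nd (.nd (.nd (.nd (.lf 0xe70caca) (.lf 0x8f765f6)) (.nd (.lf 0xe56817d) (.lf 0))) (.nd (.nd (.lf 0x2e200e0) (.lf 0)) (.nd (.lf 0x72228f) (.lf 0)))) (.nd (.nd (.nd (.lf 0x9b0ba55) (.lf 0)) (.nd (.lf 0x446feee) (.lf 0))) (.nd (.nd (.lf 0xcd5adc7) (.lf 0)) (.nd (.lf 0xab3b4ce) (.lf 0)))))) (.nd (.nd (.nd (.nd (.nd (.lf 0x8ac72e3) (.lf 0x82acb47)) (.nd (.lf 0xd8b9bcc) (.lf 0))) (.nd (.nd (.lf 0x39583f3) (.lf 0))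 (.nd (.lf 0x520c5e4) (.lf 0)))) (.nd (.nd (.nd (.lf 0x169a479) (.lf 0)) (.nd (.lf 0x24c6bb5) (.lf 0))) (.nd (.nd (.lf 0x3b87449) (.lf 0)) (.nd (.lf 0x877fe7) (.lf 0))))) (.nd (.nd (.nd (.nd (.lf 0x370886e) (.lf 0xe3cb073)) (.nd (.lf 0x70e8a7) (.lf 0))) (.nd (.nd (.lf 0x98a212c) (.lf 0)) (.nd (.lf 0xea874e4) (.lf 0)))) (.nd (.nd (.nd (.lf 0x3d079cb) (.lf 0)) (.nd (.lf 0x199fea3) (.lf 0))) (.nd (.nd (.lf 0xd970c89) (.lf 0)) (.nd (.lf 0x25fafbe) (.lf 0)))))))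
def qT_nababba : Tr := (.nd (.nd (.nd (.nd (.nd (.nd (.lf 0xe7b2bba) (.lf 0x60d3639)) (.nd (.lf 0xe6bc496) (.lf 0))) (.nd (.nd (.lf 0xae49f2d) (.lf 0)) (.nd (.lf 0x9ed42e7) (.lf 0)))) (.nd (.nd (.nd (.lf 0x1f4d1cf) (.lf 0)) (.nd (.lf 0x3ce9e63) (.lf 0))) (.nd (.nd (.lf 0xa3bb749) (.lf 0)) (.nd (.lf 0xfabd21f) (.lf 0))))) (.nd (.nd (.nd (.nd (.lf 0xcc97b6) (.lf 0x429a333)) (.nd (.lf 0xefbb6df) (.lf 0))) (.nd (.nd (.lf 0x5ea9027) (.lf 0)) (.nd (.lf 0xd90b424) (.lf 0)))) (.nd (.nd (.nd (.lf 0xa1b1ddc) (.lf 0)) (.nd (.lf 0x8a797a4) (.lf 0))) (.nd (.nd (.lf 0xdebb11b) (.lf 0)) (.nd (.lf 0xf1eb61c) (.lf 0)))))) (.nd (.nd (.nd (.nd (.nd (.lf 0xd3e2801) (.lf 0x56d057b)) (.nd (.lf 0x475e9dc) (.lf 0))) (.nd (.nd (.lf 0x600c615) (.lf 0))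 (.nd (.lf 0xb361457) (.lf 0)))) (.nd (.nd (.nd (.lf 0xfefde4f) (.lf 0)) (.nd (.lf 0x27cdb89) (.lf 0))) (.nd (.nd (.lf 0xd85dfc9) (.lf 0)) (.nd (.lf 0xedab873) (.lf 0))))) (.nd (.nd (.nd (.nd (.lf 0x1c0fa7f) (.lf 0x6c28b8a)) (.nd (.lf 0xfcb1a39) (.lf 0))) (.nd (.nd (.lf 0xba81cb) (.lf 0)) (.nd (.lf 0x6825920) (.lf 0)))) (.nd (.nd (.nd (.lf 0xb709030) (.lf 0)) (.nd (.lf 0x9393999) (.lf 0))) (.nd (.nd (.lf 0x8353386) (.lf 0)) (.nd (.lf 0xbaff2fc) (.lf 0)))))))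
def qT_nababbb : Tr := (.nd (.nd (.nd (.nd (.nd (.nd (.lf 0x2c89773) (.lf 0x7894a27)) (.nd (.lf 0xcef6f82) (.lf 0))) (.nd (.nd (.lf 0x1697fcf) (.lf 0)) (.nd (.lf 0x7c24043) (.lf 0)))) (.nd (.nd (.nd (.lf 0x5d7cf9b) (.lf 0)) (.nd (.lf 0x5837eda) (.lf 0))) (.nd (.nd (.lf 0xf9eca27) (.lf 0)) (.nd (.lf 0xee7c75d) (.lf 0))))) (.nd (.nd (.nd (.nd (.lf 0x6a7f447) (.lf 0x2cf74d0)) (.nd (.lf 0x52301df) (.lf 0))) (.nd (.nd (.lf 0x3c52cb1) (.lf 0)) (.nd (.lf 0x65a4eb) (.lf 0)))) (.nd (.nd (.nd (.lf 0xa2eb227) (.lf 0)) (.nd (.lf 0x2613d3f) (.lf 0))) (.nd (.nd (.lf 0x68d3629) (.lf 0)) (.nd (.lf 0x42ac3b5) (.lf 0)))))) (.nd (.nd (.nd (.nd (.nd (.lf 0x2ad066d) (.lf 0x891f0e5)) (.nd (.lf 0x64f69b7) (.lf 0))) (.nd (.nd (.lf 0x8d8e07) (.lf 0))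 (.nd (.lf 0x9401177) (.lf 0)))) (.nd (.nd (.nd (.lf 0x3252125) (.lf 0)) (.nd (.lf 0x2b69029) (.lf 0))) (.nd (.nd (.lf 0xc0de53) (.lf 0)) (.nd (.lf 0x672ac8a) (.lf 0))))) (.nd (.nd (.nd (.nd (.lf 0x1c3af59) (.lf 0x3360e0d)) (.nd (.lf 0x2576390) (.lf 0))) (.nd (.nd (.lf 0x8368d93) (.lf 0)) (.nd (.lf 0x36f4b3a) (.lf 0)))) (.nd (.nd (.nd (.lf 0x3f6473) (.lf 0)) (.nd (.lf 0x709ea0) (.lf 0))) (.nd (.nd (.lf 0x187fe76) (.lf 0)) (.nd (.lf 0xeb57a24) (.lf 0)))))))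
def qT_nabbaaa : Tr := (.nd (.nd (.nd (.nd (.nd (.nd (.lf 0x7e26d04) (.lf 0x78432f7)) (.nd (.lf 0xbacc37c) (.lf 0))) (.nd (.nd (.lf 0xb41c8c1) (.lf 0)) (.nd (.lf 0x792a5e) (.lf 0)))) (.nd (.nd (.nd (.lf 0xc6b20e9) (.lf 0)) (.nd (.lf 0x4d4cd75) (.lf 0))) (.nd (.nd (.lf 0xd04ccb6) (.lf 0)) (.nd (.lf 0xf694465) (.lf 0))))) (.nd (.nd (.nd (.nd (.lf 0x8de441b) (.lf 0x75580db)) (.nd (.lf 0x41308f8) (.lf 0))) (.nd (.nd (.lf 0xa66c8a7) (.lf 0)) (.nd (.lf 0x6f2b1ca) (.lf 0)))) (.nd (.nd (.nd (.lf 0x543aeb1) (.lf 0)) (.nd (.lf 0xdd987e) (.lf 0))) (.nd (.nd (.lf 0xf53722a) (.lf 0)) (.nd (.lf 0xdeddfae) (.lf 0)))))) (.nd (.nd (.nd (.nd (.nd (.lf 0x4cad346) (.lf 0x1a639d7)) (.nd (.lf 0xea097d5) (.lf 0))) (.nd (.nd (.lf 0x1bdc839) (.lf 0))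 (.nd (.lf 0x7e971ae) (.lf 0)))) (.nd (.nd (.nd (.lf 0xdcd506) (.lf 0)) (.nd (.lf 0x6add992) (.lf 0))) (.nd (.nd (.lf 0x87c2837) (.lf 0)) (.nd (.lf 0x49332ba) (.lf 0))))) (.nd (.nd (.nd (.nd (.lf 0x2824a92) (.lf 0xcab9a09)) (.nd (.lf 0xa5017eb) (.lf 0))) (.nd (.nd (.lf 0x755f7b0) (.lf 0)) (.nd (.lf 0x7c94a67) (.lf 0)))) (.nd (.nd (.nd (.lf 0x79b009c) (.lf 0)) (.nd (.lf 0x8ad7bd8) (.lf 0))) (.nd (.nd (.lf 0x4c21a39) (.lf 0)) (.nd (.lf 0x2c2cc5b) (.lf 0)))))))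
def qT_nabbaab : Tr := (.nd (.nd (.nd (.nd (.nd (.nd (.lf 0x778be8d) (.lf 0x9425649)) (.nd (.lf 0x195b34c) (.lf 0))) (.nd (.nd (.lf 0x8cc9943) (.lf 0)) (.nd (.lf 0x7006d30) (.lf 0)))) (.nd (.nd (.nd (.lf 0x3b95ac8) (.lf 0)) (.nd (.lf 0xb8d4688) (.lf 0))) (.nd (.nd (.lf 0xdbb327e) (.lf 0)) (.nd (.lf 0xd237c03) (.lf 0))))) (.nd (.nd (.nd (.nd (.lf 0x3f67cc7) (.lf 0x992cf4e)) (.nd (.lf 0x9b9fea3) (.lf 0))) (.nd (.nd (.lf 0x437b7e2) (.lf 0)) (.nd (.lf 0x3c23a08) (.lf 0)))) (.nd (.nd (.nd (.lf 0xb218e0d) (.lf 0)) (.nd (.lf 0x2816c12) (.lf 0))) (.nd (.nd (.lf 0x81d0bc9) (.lf 0)) (.nd (.lf 0xb4e4a33) (.lf 0)))))) (.nd (.nd (.nd (.nd (.nd (.lf 0xe82e28d) (.lf 0xbc9d870)) (.nd (.lf 0x8fd58eb) (.lf 0))) (.nd (.nd (.lf 0x18418d9) (.lf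 0)) (.nd (.lf 0x5c31939) (.lf 0)))) (.nd (.nd (.nd (.lf 0x29a1878) (.lf 0)) (.nd (.lf 0xd9049ee) (.lf 0))) (.nd (.nd (.lf 0x2d5bba1) (.lf 0)) (.nd (.lf 0x323b84a) (.lf 0))))) (.nd (.nd (.nd (.nd (.lf 0xe9916bf) (.lf 0x1816c9f)) (.nd (.lf 0x34e0306) (.lf 0))) (.nd (.nd (.lf 0x7072541) (.lf 0)) (.nd (.lf 0xacc882f) (.lf 0)))) (.nd (.nd (.nd (.lf 0xe9d39d8) (.lf 0)) (.nd (.lf 0x5fd098a) (.lf 0))) (.nd (.nd (.lf 0x77cc41e) (.lf 0)) (.nd (.lf 0x4998014) (.lf 0)))))))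
def qT_nabbaba : Tr := (.nd (.nd (.nd (.nd (.nd (.nd (.lf 0x9d6ebc0) (.lf 0xa4d3df3)) (.nd (.lf 0xc3c309d) (.lf 0))) (.nd (.nd (.lf 0x71a383) (.lf 0)) (.nd (.lf 0xf5d37c6) (.lf 0)))) (.nd (.nd (.nd (.lf 0xabda8ac) (.lf 0)) (.nd (.lf 0x523f096) (.lf 0))) (.nd (.nd (.lf 0xd830464) (.lf 0)) (.nd (.lf 0x8f829d9) (.lf 0))))) (.nd (.nd (.nd (.nd (.lf 0x5688dc2) (.lf 0xee75f73)) (.nd (.lf 0x54bd5f4) (.lf 0))) (.nd (.nd (.lf 0xe9eab2e) (.lf 0)) (.nd (.lf 0xeb0b7d5) (.lf 0)))) (.nd (.nd (.nd (.lf 0xb89b072) (.lf 0)) (.nd (.lf 0x260044f) (.lf 0))) (.nd (.nd (.lf 0xdd2406a) (.lf 0)) (.nd (.lf 0xfa83e36) (.lf 0)))))) (.nd (.nd (.nd (.nd (.nd (.lf 0xb2ba451) (.lf 0xcf1fdcb)) (.nd (.lf 0xf554e87) (.lf 0))) (.nd (.nd (.lf 0x4fa444c) (.lf 0))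 (.nd (.lf 0xaa54c94) (.lf 0)))) (.nd (.nd (.nd (.lf 0x22db533) (.lf 0)) (.nd (.lf 0xa6ef867) (.lf 0))) (.nd (.nd (.lf 0xa8e51f4) (.lf 0)) (.nd (.lf 0x552afee) (.lf 0))))) (.nd (.nd (.nd (.nd (.lf 0x21fe5fe) (.lf 0xe034617)) (.nd (.lf 0x79aedb) (.lf 0))) (.nd (.nd (.lf 0x28a5774) (.lf 0)) (.nd (.lf 0x5e4f5aa) (.lf 0)))) (.nd (.nd (.nd (.lf 0x5c0ed4b) (.lf 0)) (.nd (.lf 0x7702cf) (.lf 0))) (.nd (.nd (.lf 0x7b81fdb) (.lf 0)) (.nd (.lf 0xf33f235) (.lf 0)))))))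
def qT_nabbabb : Tr := (.nd (.nd (.nd (.nd (.nd (.nd (.lf 0x7f49718) (.lf 0x32eab11)) (.nd (.lf 0x887fb76) (.lf 0))) (.nd (.nd (.lf 0x85e417e) (.lf 0)) (.nd (.lf 0x2b55dae) (.lf 0)))) (.nd (.nd (.nd (.lf 0x385f5c6) (.lf 0)) (.nd (.lf 0x34334ea) (.lf 0))) (.nd (.nd (.lf 0xcd96fff) (.lf 0)) (.nd (.lf 0x4a2e6f6) (.lf 0))))) (.nd (.nd (.nd (.nd (.lf 0x7ed14ad) (.lf 0xbc41f64)) (.nd (.lf 0x1e4d4b7) (.lf 0))) (.nd (.nd (.lf 0xe89fcf4) (.lf 0)) (.nd (.lf 0x13c28aa) (.lf 0)))) (.nd (.nd (.nd (.lf 0x8a80dae) (.lf 0)) (.nd (.lf 0x304515c) (.lf 0))) (.nd (.nd (.lf 0x3de7447) (.lf 0)) (.nd (.lf 0x6ce9947) (.lf 0)))))) (.nd (.nd (.nd (.nd (.nd (.lf 0xa843ba0) (.lf 0xb9ee170)) (.nd (.lf 0xa3e7332) (.lf 0))) (.nd (.nd (.lf 0x80ff23d) (.lf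 0)) (.nd (.lf 0x5192e54) (.lf 0)))) (.nd (.nd (.nd (.lf 0x7edcbdd) (.lf 0)) (.nd (.lf 0xca49719) (.lf 0))) (.nd (.nd (.lf 0xeef73f3) (.lf 0)) (.nd (.lf 0x7c5c2d3) (.lf 0))))) (.nd (.nd (.nd (.nd (.lf 0x2c8c2a2) (.lf 0x8284ba3)) (.nd (.lf 0xdccdfc6) (.lf 0))) (.nd (.nd (.lf 0xce2c403) (.lf 0)) (.nd (.lf 0x5251139) (.lf 0)))) (.nd (.nd (.nd (.lf 0x5b5feec) (.lf 0)) (.nd (.lf 0xf9d2c88) (.lf 0))) (.nd (.nd (.lf 0x6e98c29) (.lf 0)) (.nd (.lf 0xcfef32e) (.lf 0)))))))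
def qT_nabbbaa : Tr := (.nd (.nd (.nd (.nd (.nd (.nd (.lf 0x69b55dd) (.lf 0x9cd965d)) (.nd (.lf 0xdc4e2cc) (.lf 0))) (.nd (.nd (.lf 0x3a3f014) (.lf 0)) (.nd (.lf 0xaa59f0) (.lf 0)))) (.nd (.nd (.nd (.lf 0x23f6673) (.lf 0)) (.nd (.lf 0x392eaf) (.lf 0))) (.nd (.nd (.lf 0x1000000) (.lf 0)) (.nd (.lf 0xc19fce5) (.lf 0))))) (.nd (.nd (.nd (.nd (.lf 0x72e7b07) (.lf 0x7eb6fe5)) (.nd (.lf 0x8802b5) (.lf 0))) (.nd (.nd (.lf 0x3d4099f) (.lf 0)) (.nd (.lf 0x1ac36a2) (.lf 0)))) (.nd (.nd (.nd (.lf 0x6e835e0) (.lf 0)) (.nd (.lf 0xaf31b60) (.lf 0))) (.nd (.nd (.lf 0x420bc6a) (.lf 0)) (.nd (.lf 0x8c1176f) (.lf 0)))))) (.nd (.nd (.nd (.nd (.nd (.lf 0x7d3fd7c) (.lf 0x30bbba7)) (.nd (.lf 0xa8185ca) (.lf 0))) (.nd (.nd (.lf 0xbe460d2) (.lf 0))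 (.nd (.lf 0x8f40104) (.lf 0)))) (.nd (.nd (.nd (.lf 0x2b4b1b6) (.lf 0)) (.nd (.lf 0xee7642) (.lf 0))) (.nd (.nd (.lf 0x9991524) (.lf 0)) (.nd (.lf 0x3c8efed) (.lf 0))))) (.nd (.nd (.nd (.nd (.lf 0x436e0ab) (.lf 0xcc1e091)) (.nd (.lf 0x925dbf3) (.lf 0))) (.nd (.nd (.lf 0xa4994f4) (.lf 0)) (.nd (.lf 0x1f0b1b9) (.lf 0)))) (.nd (.nd (.nd (.lf 0x7efd6b4) (.lf 0)) (.nd (.lf 0x609d01a) (.lf 0))) (.nd (.nd (.lf 0x23c28aa) (.lf 0)) (.nd (.lf 0x4505e6b) (.lf 0)))))))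
def qT_nabbbab : Tr := (.nd (.nd (.nd (.nd (.nd (.nd (.lf 0xf63188c) (.lf 0x1da51cd)) (.nd (.lf 0x873064b) (.lf 0))) (.nd (.nd (.lf 0xe3b3d7e) (.lf 0)) (.nd (.lf 0x693d6dd) (.lf 0)))) (.nd (.nd (.nd (.lf 0xb4a07d2) (.lf 0)) (.nd (.lf 0xff46c30) (.lf 0))) (.nd (.nd (.lf 0x20a3c0e) (.lf 0)) (.nd (.lf 0xae5db94) (.lf 0))))) (.nd (.nd (.nd (.nd (.lf 0x7a73cbd) (.lf 0xfe38280)) (.nd (.lf 0xf785edc) (.lf 0))) (.nd (.nd (.lf 0x39b849d) (.lf 0)) (.nd (.lf 0x9e0d39f) (.lf 0)))) (.nd (.nd (.nd (.lf 0xe278614) (.lf 0)) (.nd (.lf 0x3a1af55) (.lf 0))) (.nd (.nd (.lf 0xa649f52) (.lf 0)) (.nd (.lf 0x856026f) (.lf 0)))))) (.nd (.nd (.nd (.nd (.nd (.lf 0x1b832cc) (.lf 0xd86c57)) (.nd (.lf 0xe49a3d4) (.lf 0))) (.nd (.nd (.lf 0xc22114f) (.lf 0))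 (.nd (.lf 0x72c896b) (.lf 0)))) (.nd (.nd (.nd (.lf 0xce7ea6d) (.lf 0)) (.nd (.lf 0xe5af02d) (.lf 0))) (.nd (.nd (.lf 0x7af2a3d) (.lf 0)) (.nd (.lf 0xe12515a) (.lf 0))))) (.nd (.nd (.nd (.nd (.lf 0x61d0f31) (.lf 0xc4731cc)) (.nd (.lf 0x9595b9) (.lf 0))) (.nd (.nd (.lf 0x5b6c043) (.lf 0)) (.nd (.lf 0x44f1ebf) (.lf 0)))) (.nd (.nd (.nd (.lf 0x22d3213) (.lf 0)) (.nd (.lf 0x3ab6022) (.lf 0))) (.nd (.nd (.lf 0xf962550) (.lf 0)) (.nd (.lf 0xb16ca5) (.lf 0)))))))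
def qT_nabbbba : Tr := (.nd (.nd (.nd (.nd (.nd (.nd (.lf 0xd559629) (.lf 0xc542583)) (.nd (.lf 0xdd57897) (.lf 0))) (.nd (.nd (.lf 0xd5abf01) (.lf 0)) (.nd (.lf 0x5152ce2) (.lf 0)))) (.nd (.nd (.nd (.lf 0xd7a7f99) (.lf 0)) (.nd (.lf 0xed828da) (.lf 0))) (.nd (.nd (.lf 0x2876766) (.lf 0)) (.nd (.lf 0x8d4c19c) (.lf 0))))) (.nd (.nd (.nd (.nd (.lf 0xbeca73b) (.lf 0x8b9ad60)) (.nd (.lf 0x70c7d49) (.lf 0))) (.nd (.nd (.lf 0xa5a78bc) (.lf 0)) (.nd (.lf 0x68c94e6) (.lf 0)))) (.nd (.nd (.nd (.lf 0x68816fc) (.lf 0)) (.nd (.lf 0x29c7e0f) (.lf 0))) (.nd (.nd (.lf 0x30b9eb0) (.lf 0)) (.nd (.lf 0x908cf7d) (.lf 0)))))) (.nd (.nd (.nd (.nd (.nd (.lf 0x464b488) (.lf 0xf5f9ae7)) (.nd (.lf 0x55672ce) (.lf 0))) (.nd (.nd (.lf 0x3e99d14) (.lf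 0)) (.nd (.lf 0x5db723d) (.lf 0)))) (.nd (.nd (.nd (.lf 0xc9ebac7) (.lf 0)) (.nd (.lf 0x99f28ed) (.lf 0))) (.nd (.nd (.lf 0xdd1b5dc) (.lf 0)) (.nd (.lf 0x4b3f79) (.lf 0))))) (.nd (.nd (.nd (.nd (.lf 0x4e0d462) (.lf 0x98c308a)) (.nd (.lf 0x9139d2) (.lf 0))) (.nd (.nd (.lf 0x1153a3) (.lf 0)) (.nd (.lf 0xdb38799) (.lf 0)))) (.nd (.nd (.nd (.lf 0xdd91bf) (.lf 0)) (.nd (.lf 0x3e99679) (.lf 0))) (.nd (.nd (.lf 0x94a3643) (.lf 0)) (.nd (.lf 0xd13faac) (.lf 0)))))))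
def qT_nabbbbb : Tr := (.nd (.nd (.nd (.nd (.nd (.nd (.lf 0x7ee05fc) (.lf 0x122d92d)) (.nd (.lf 0x5b6cb9e) (.lf 0))) (.nd (.nd (.lf 0xb632e44) (.lf 0)) (.nd (.lf 0xc57565e) (.lf 0)))) (.nd (.nd (.nd (.lf 0x1380a1c) (.lf 0)) (.nd (.lf 0xc1bac4c) (.lf 0))) (.nd (.nd (.lf 0x1f878d6) (.lf 0)) (.nd (.lf 0xf5a8f6b) (.lf 0))))) (.nd (.nd (.nd (.nd (.lf 0xf571972) (.lf 0xcbf9ece)) (.nd (.lf 0x8a55df1) (.lf 0))) (.nd (.nd (.lf 0xb1ae330) (.lf 0)) (.nd (.lf 0x6dee62) (.lf 0)))) (.nd (.nd (.nd (.lf 0xe651782) (.lf 0)) (.nd (.lf 0xccdf85d) (.lf 0))) (.nd (.nd (.lf 0x197a496) (.lf 0)) (.nd (.lf 0x98d318a) (.lf 0)))))) (.nd (.nd (.nd (.nd (.nd (.lf 0x3057e52) (.lf 0xf194a49)) (.nd (.lf 0xc22b361) (.lf 0))) (.nd (.nd (.lf 0x4d2b057) (.lf 0))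 (.nd (.lf 0xb31b2bf) (.lf 0)))) (.nd (.nd (.nd (.lf 0x4fc0020) (.lf 0)) (.nd (.lf 0x6ae1ba4) (.lf 0))) (.nd (.nd (.lf 0x77fd797) (.lf 0)) (.nd (.lf 0x4e531a) (.lf 0))))) (.nd (.nd (.nd (.nd (.lf 0x1782ad6) (.lf 0x997affc)) (.nd (.lf 0xc01b0e8) (.lf 0))) (.nd (.nd (.lf 0x4593f23) (.lf 0)) (.nd (.lf 0xc0d5a68) (.lf 0)))) (.nd (.nd (.nd (.lf 0x7ee920d) (.lf 0)) (.nd (.lf 0x45cb79a) (.lf 0))) (.nd (.nd (.lf 0x7888292) (.lf 0)) (.nd (.lf 0x41e43e8) (.lf 0)))))))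
def qT_nbaaaaa : Tr := (.nd (.nd (.nd (.nd (.nd (.nd (.lf 0x1b459c3) (.lf 0x144d2be)) (.nd (.lf 0xdab066b) (.lf 0))) (.nd (.nd (.lf 0xec20bf0) (.lf 0)) (.nd (.lf 0x540ad94) (.lf 0)))) (.nd (.nd (.nd (.lf 0xda6cdd) (.lf 0)) (.nd (.lf 0x141efda) (.lf 0))) (.nd (.nd (.lf 0x323388e) (.lf 0)) (.nd (.lf 0x44370c4) (.lf 0))))) (.nd (.nd (.nd (.nd (.lf 0xd7a031) (.lf 0x5c868a4)) (.nd (.lf 0xe75fbb8) (.lf 0))) (.nd (.nd (.lf 0xd8ec39) (.lf 0)) (.nd (.lf 0x543acb5) (.lf 0)))) (.nd (.nd (.nd (.lf 0xc4d0cd1) (.lf 0)) (.nd (.lf 0x6bd706d) (.lf 0))) (.nd (.nd (.lf 0xcd372ae) (.lf 0)) (.nd (.lf 0xb6d7aae) (.lf 0)))))) (.nd (.nd (.nd (.nd (.nd (.lf 0xd837c29) (.lf 0x9c11c8b)) (.nd (.lf 0xa2bd533) (.lf 0))) (.nd (.nd (.lf 0x34b56f5) (.lf 0))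 (.nd (.lf 0x2f2ee12) (.lf 0)))) (.nd (.nd (.nd (.lf 0x22760cc) (.lf 0)) (.nd (.lf 0xb4b51ad) (.lf 0))) (.nd (.nd (.lf 0xadba33f) (.lf 0)) (.nd (.lf 0x77967cd) (.lf 0))))) (.nd (.nd (.nd (.nd (.lf 0xca93fb2) (.lf 0xeb07df1)) (.nd (.lf 0xd77c69) (.lf 0))) (.nd (.nd (.lf 0x9a74043) (.lf 0)) (.nd (.lf 0x416c938) (.lf 0)))) (.nd (.nd (.nd (.lf 0x318fd58) (.lf 0)) (.nd (.lf 0xded8ae2) (.lf 0))) (.nd (.nd (.lf 0x851ddf7) (.lf 0)) (.nd (.lf 0x321743d) (.lf 0)))))))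
def qT_nbaaaab : Tr := (.nd (.nd (.nd (.nd (.nd (.nd (.lf 0xf905458) (.lf 0xca1213d)) (.nd (.lf 0x9530a90) (.lf 0))) (.nd (.nd (.lf 0xbcd07ee) (.lf 0)) (.nd (.lf 0x86184bd) (.lf 0)))) (.nd (.nd (.nd (.lf 0xb029cee) (.lf 0)) (.nd (.lf 0x623841) (.lf 0))) (.nd (.nd (.lf 0xf34ee1b) (.lf 0)) (.nd (.lf 0x149da75) (.lf 0))))) (.nd (.nd (.nd (.nd (.lf 0xae2ae1) (.lf 0x3530e6b)) (.nd (.lf 0x7ce9943) (.lf 0))) (.nd (.nd (.lf 0xd501b90) (.lf 0)) (.nd (.lf 0x4c7ba60) (.lf 0)))) (.nd (.nd (.nd (.lf 0x35c8fde) (.lf 0)) (.nd (.lf 0x98222a3) (.lf 0))) (.nd (.nd (.lf 0x7c66616) (.lf 0)) (.nd (.lf 0xd78662c) (.lf 0)))))) (.nd (.nd (.nd (.nd (.nd (.lf 0xa9a1a72) (.lf 0xf4b8e34)) (.nd (.lf 0xac81be6) (.lf 0))) (.nd (.nd (.lf 0x18fc3e) (.lf 0))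 (.nd (.lf 0x5b17333) (.lf 0)))) (.nd (.nd (.nd (.lf 0x30bfa99) (.lf 0)) (.nd (.lf 0x44d49f9) (.lf 0))) (.nd (.nd (.lf 0xad7d234) (.lf 0)) (.nd (.lf 0xc94b238) (.lf 0))))) (.nd (.nd (.nd (.nd (.lf 0x950ec6e) (.lf 0x1342339)) (.nd (.lf 0x354f6e8) (.lf 0))) (.nd (.nd (.lf 0x6563eb6) (.lf 0)) (.nd (.lf 0x44b5d83) (.lf 0)))) (.nd (.nd (.nd (.lf 0xc998436) (.lf 0)) (.nd (.lf 0x6be7a73) (.lf 0))) (.nd (.nd (.lf 0xe3e9079) (.lf 0)) (.nd (.lf 0x29a987a) (.lf 0)))))))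
def qT_nbaaaba : Tr := (.nd (.nd (.nd (.nd (.nd (.nd (.lf 0xbb6dc53) (.lf 0x7b3902a)) (.nd (.lf 0xc668912) (.lf 0))) (.nd (.nd (.lf 0x2708917) (.lf 0)) (.nd (.lf 0x101b2be) (.lf 0)))) (.nd (.nd (.nd (.lf 0xcd342ae) (.lf 0)) (.nd (.lf 0xb9f5a23) (.lf 0))) (.nd (.nd (.lf 0x8d3458e) (.lf 0)) (.nd (.lf 0x5c60b3e) (.lf 0))))) (.nd (.nd (.nd (.nd (.lf 0x2409a5f) (.lf 0xb2937c1)) (.nd (.lf 0x66b28ff) (.lf 0))) (.nd (.nd (.lf 0x705ca00) (.lf 0)) (.nd (.lf 0xca8163f) (.lf 0)))) (.nd (.nd (.nd (.lf 0xde6de68) (.lf 0)) (.nd (.lf 0x6aa6bde) (.lf 0))) (.nd (.nd (.lf 0x61b6540) (.lf 0)) (.nd (.lf 0xebcfeec) (.lf 0)))))) (.nd (.nd (.nd (.nd (.nd (.lf 0xf1e0aba) (.lf 0x398c6f3)) (.nd (.lf 0x1de316d) (.lf 0))) (.nd (.nd (.lf 0x2cf6f9d) (.lf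 0)) (.nd (.lf 0x14ab823) (.lf 0)))) (.nd (.nd (.nd (.lf 0x8f2a79a) (.lf 0)) (.nd (.lf 0x3377e8a) (.lf 0))) (.nd (.nd (.lf 0xe2b1326) (.lf 0)) (.nd (.lf 0x54f9ab8) (.lf 0))))) (.nd (.nd (.nd (.nd (.lf 0x1183845) (.lf 0x483cbfb)) (.nd (.lf 0xda01055) (.lf 0))) (.nd (.nd (.lf 0xd828862) (.lf 0)) (.nd (.lf 0xe6af6ed) (.lf 0)))) (.nd (.nd (.nd (.lf 0x74d3463) (.lf 0)) (.nd (.lf 0xf3f4f89) (.lf 0))) (.nd (.nd (.lf 0x1745143) (.lf 0)) (.nd (.lf 0xe53ef2f) (.lf 0)))))))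
def qT_nbaaabb : Tr := (.nd (.nd (.nd (.nd (.nd (.nd (.lf 0x883d041) (.lf 0xa4ca427)) (.nd (.lf 0x2f92d1) (.lf 0))) (.nd (.nd (.lf 0x31c7cfd) (.lf 0)) (.nd (.lf 0x955811d) (.lf 0)))) (.nd (.nd (.nd (.lf 0x8144e8e) (.lf 0)) (.nd (.lf 0xbacd968) (.lf 0))) (.nd (.nd (.lf 0xe6e55bb) (.lf 0)) (.nd (.lf 0x6a0881) (.lf 0))))) (.nd (.nd (.nd (.nd (.lf 0xae32b19) (.lf 0x874d3ad)) (.nd (.lf 0xdfd84ee) (.lf 0))) (.nd (.nd (.lf 0x37d2b2e) (.lf 0)) (.nd (.lf 0xc68f9ef) (.lf 0)))) (.nd (.nd (.nd (.lf 0xac4bd69) (.lf 0)) (.nd (.lf 0xa2a38b4) (.lf 0))) (.nd (.nd (.lf 0xd1741eb) (.lf 0)) (.nd (.lf 0xbb9c653) (.lf 0)))))) (.nd (.nd (.nd (.nd (.nd (.lf 0xbe3b3bd) (.lf 0xcaa7aad)) (.nd (.lf 0xb712a6a) (.lf 0))) (.nd (.nd (.lf 0x9304dd4) (.lf 0))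 (.nd (.lf 0xbe80543) (.lf 0)))) (.nd (.nd (.nd (.lf 0x2d8e2d) (.lf 0)) (.nd (.lf 0x110f46b) (.lf 0))) (.nd (.nd (.lf 0x4bc58b5) (.lf 0)) (.nd (.lf 0x5eea267) (.lf 0))))) (.nd (.nd (.nd (.nd (.lf 0x99eafba) (.lf 0x6b54f21)) (.nd (.lf 0xa104f13) (.lf 0))) (.nd (.nd (.lf 0x554ed2d) (.lf 0)) (.nd (.lf 0x1538e01) (.lf 0)))) (.nd (.nd (.nd (.lf 0xf4af5c) (.lf 0)) (.nd (.lf 0x1af1c52) (.lf 0))) (.nd (.nd (.lf 0x8ea4924) (.lf 0)) (.nd (.lf 0x4c1adaf) (.lf 0)))))))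
def qT_nbaabaa : Tr := (.nd (.nd (.nd (.nd (.nd (.nd (.lf 0x468e215) (.lf 0xc83b7e0)) (.nd (.lf 0x710bbb9) (.lf 0))) (.nd (.nd (.lf 0x5629092) (.lf 0)) (.nd (.lf 0x33e3525) (.lf 0)))) (.nd (.nd (.nd (.lf 0x62a7423) (.lf 0)) (.nd (.lf 0x21541eb) (.lf 0))) (.nd (.nd (.lf 0x62d9c28) (.lf 0)) (.nd (.lf 0xe13ac7a) (.lf 0))))) (.nd (.nd (.nd (.nd (.lf 0x264709d) (.lf 0x2be2dfc)) (.nd (.lf 0x9b53c63) (.lf 0))) (.nd (.nd (.lf 0x36fc03a) (.lf 0)) (.nd (.lf 0x58d4a27) (.lf 0)))) (.nd (.nd (.nd (.lf 0x1a27101) (.lf 0)) (.nd (.lf 0x8400119) (.lf 0))) (.nd (.nd (.lf 0x3b2188d) (.lf 0)) (.nd (.lf 0xdb828c4) (.lf 0)))))) (.nd (.nd (.nd (.nd (.nd (.lf 0x4923f72) (.lf 0x1d9011b)) (.nd (.lf 0xa42a473) (.lf 0))) (.nd (.nd (.lf 0xedc5e22) (.lf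 0)) (.nd (.lf 0x80dae21) (.lf 0)))) (.nd (.nd (.nd (.lf 0xc90bfbd) (.lf 0)) (.nd (.lf 0xc719080) (.lf 0))) (.nd (.nd (.lf 0xa53c28e) (.lf 0)) (.nd (.lf 0x2e4ed64) (.lf 0))))) (.nd (.nd (.nd (.nd (.lf 0xb7f9c22) (.lf 0xde7642)) (.nd (.lf 0xc90063f) (.lf 0))) (.nd (.nd (.lf 0x2539cf) (.lf 0)) (.nd (.lf 0xf6fe785) (.lf 0)))) (.nd (.nd (.nd (.lf 0x592ec26) (.lf 0)) (.nd (.lf 0xcf63c4) (.lf 0))) (.nd (.nd (.lf 0xc1cd126) (.lf 0)) (.nd (.lf 0xdc6fed9) (.lf 0)))))))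
def qT_nbaabab : Tr := (.nd (.nd (.nd (.nd (.nd (.nd (.lf 0x7d9ee40) (.lf 0x17ac37a)) (.nd (.lf 0xf0a7255) (.lf 0))) (.nd (.nd (.lf 0x5dba52d) (.lf 0)) (.nd (.lf 0xe0183c6) (.lf 0)))) (.nd (.nd (.nd (.lf 0xb947d5e) (.lf 0)) (.nd (.lf 0x70cf6a2) (.lf 0))) (.nd (.nd (.lf 0xd16dc9e) (.lf 0)) (.nd (.lf 0xd19a8c1) (.lf 0))))) (.nd (.nd (.nd (.nd (.lf 0x9336b54) (.lf 0xa65b6df)) (.nd (.lf 0xcb92c9) (.lf 0))) (.nd (.nd (.lf 0x70b10bb) (.lf 0)) (.nd (.lf 0xb915e4) (.lf 0)))) (.nd (.nd (.nd (.lf 0xac4b733) (.lf 0)) (.nd (.lf 0x79ec827) (.lf 0))) (.nd (.nd (.lf 0x31a589d) (.lf 0)) (.nd (.lf 0xf8a7e09) (.lf 0)))))) (.nd (.nd (.nd (.nd (.nd (.lf 0x5be8a05) (.lf 0x1868fbb)) (.nd (.lf 0x200000) (.lf 0))) (.nd (.nd (.lf 0xb430e9a) (.lf 0))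 (.nd (.lf 0xad13fb0) (.lf 0)))) (.nd (.nd (.nd (.lf 0x33f768a) (.lf 0)) (.nd (.lf 0xbd5ebed) (.lf 0))) (.nd (.nd (.lf 0x6e5e6f2) (.lf 0)) (.nd (.lf 0x51550ef) (.lf 0))))) (.nd (.nd (.nd (.nd (.lf 0x21cb743) (.lf 0x19551)) (.nd (.lf 0x60dee0d) (.lf 0))) (.nd (.nd (.lf 0x6d8d5c2) (.lf 0)) (.nd (.lf 0xe0db8cc) (.lf 0)))) (.nd (.nd (.nd (.lf 0x155e569) (.lf 0)) (.nd (.lf 0x533f016) (.lf 0))) (.nd (.nd (.lf 0x23327db) (.lf 0)) (.nd (.lf 0xd0455a4) (.lf 0)))))))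
def qT_nbaabba : Tr := (.nd (.nd (.nd (.nd (.nd (.nd (.lf 0x895c19c) (.lf 0xfb2d379)) (.nd (.lf 0xf894227) (.lf 0))) (.nd (.nd (.lf 0xfc82d62) (.lf 0)) (.nd (.lf 0x3b29266) (.lf 0)))) (.nd (.nd (.nd (.lf 0x8e7b908) (.lf 0)) (.nd (.lf 0x67a7fdd) (.lf 0))) (.nd (.nd (.lf 0x67ba6b0) (.lf 0)) (.nd (.lf 0x24a5415) (.lf 0))))) (.nd (.nd (.nd (.nd (.lf 0x3a2c17) (.lf 0x366ea0c)) (.nd (.lf 0x7635a8e) (.lf 0))) (.nd (.nd (.lf 0xc0f8f62) (.lf 0)) (.nd (.lf 0xd8ac29) (.lf 0)))) (.nd (.nd (.nd (.lf 0xe0810af) (.lf 0)) (.nd (.lf 0x1e07c13) (.lf 0))) (.nd (.nd (.lf 0xe467516) (.lf 0)) (.nd (.lf 0xe3e811b) (.lf 0)))))) (.nd (.nd (.nd (.nd (.nd (.lf 0xf06a9b1) (.lf 0x1956b7a)) (.nd (.lf 0xab695b8) (.lf 0))) (.nd (.nd (.lf 0x4b1691e) (.lf 0))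 (.nd (.lf 0xb8279f) (.lf 0)))) (.nd (.nd (.nd (.lf 0xefb4ce8) (.lf 0)) (.nd (.lf 0x4579bd) (.lf 0))) (.nd (.nd (.lf 0xf18e350) (.lf 0)) (.nd (.lf 0x11103ce) (.lf 0))))) (.nd (.nd (.nd (.nd (.lf 0xec7d269) (.lf 0x5ac06b1)) (.nd (.lf 0x51b2c5e) (.lf 0))) (.nd (.nd (.lf 0x9d7b707) (.lf 0)) (.nd (.lf 0x3dc903b) (.lf 0)))) (.nd (.nd (.nd (.lf 0x377aea9) (.lf 0)) (.nd (.lf 0x5d22463) (.lf 0))) (.nd (.nd (.lf 0x52a0c36) (.lf 0)) (.nd (.lf 0x7a071a1) (.lf 0)))))))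
def qT_nbaabbb : Tr := (.nd (.nd (.nd (.nd (.nd (.nd (.lf 0x66f0dbe) (.lf 0x5ceb326)) (.nd (.lf 0xe78764c) (.lf 0))) (.nd (.nd (.lf 0x30e82e5) (.lf 0)) (.nd (.lf 0xbfabf03) (.lf 0)))) (.nd (.nd (.nd (.lf 0xfb107f7) (.lf 0)) (.nd (.lf 0x5451f19) (.lf 0))) (.nd (.nd (.lf 0x5ae2a6b) (.lf 0)) (.nd (.lf 0x9073d76) (.lf 0))))) (.nd (.nd (.nd (.nd (.lf 0xda8722f) (.lf 0xfc9dc29)) (.nd (.lf 0x3672405) (.lf 0))) (.nd (.nd (.lf 0xd035efc) (.lf 0)) (.nd (.lf 0xacf7f9d) (.lf 0)))) (.nd (.nd (.nd (.lf 0x389327a) (.lf 0)) (.nd (.lf 0xe5095d2) (.lf 0))) (.nd (.nd (.lf 0xad4f711) (.lf 0)) (.nd (.lf 0x33e9b68) (.lf 0)))))) (.nd (.nd (.nd (.nd (.nd (.lf 0x49eec14) (.lf 0x2e458f2)) (.nd (.lf 0x8957a76) (.lf 0))) (.nd (.nd (.lf 0xce88564) (.lf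 0)) (.nd (.lf 0x7bc2ea2) (.lf 0)))) (.nd (.nd (.nd (.lf 0xabce54a) (.lf 0)) (.nd (.lf 0xd50d6dd) (.lf 0))) (.nd (.nd (.lf 0xdd606a7) (.lf 0)) (.nd (.lf 0xfaffecd) (.lf 0))))) (.nd (.nd (.nd (.nd (.lf 0xb9a9be3) (.lf 0xe105258)) (.nd (.lf 0x8ea2970) (.lf 0))) (.nd (.nd (.lf 0xc217481) (.lf 0)) (.nd (.lf 0xa30386f) (.lf 0)))) (.nd (.nd (.nd (.lf 0x63ad073) (.lf 0)) (.nd (.lf 0xfd5697e) (.lf 0))) (.nd (.nd (.lf 0x9e16121) (.lf 0)) (.nd (.lf 0x2812a46) (.lf 0)))))))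
def qT_nbabaaa : Tr := (.nd (.nd (.nd (.nd (.nd (.nd (.lf 0x3ed5640) (.lf 0xadafd6a)) (.nd (.lf 0x8c8defb) (.lf 0))) (.nd (.nd (.lf 0x3fd5838) (.lf 0)) (.nd (.lf 0x2dc0d9c) (.lf 0)))) (.nd (.nd (.nd (.lf 0x96e00d9) (.lf 0)) (.nd (.lf 0x90978b7) (.lf 0))) (.nd (.nd (.lf 0xa393443) (.lf 0)) (.nd (.lf 0xe8fa4e6) (.lf 0))))) (.nd (.nd (.nd (.nd (.lf 0xea27ffc) (.lf 0xdeef642)) (.nd (.lf 0x423fc64) (.lf 0))) (.nd (.nd (.lf 0xf4b6c95) (.lf 0)) (.nd (.lf 0xb1cb36d) (.lf 0)))) (.nd (.nd (.nd (.lf 0xc752487) (.lf 0)) (.nd (.lf 0x4a8ebb0) (.lf 0))) (.nd (.nd (.lf 0xf689a20) (.lf 0)) (.nd (.lf 0x21a4cfb) (.lf 0)))))) (.nd (.nd (.nd (.nd (.nd (.lf 0xc91f6e8) (.lf 0x1d40037)) (.nd (.lf 0x964482f) (.lf 0))) (.nd (.nd (.lf 0x67fa63a) (.lf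 0)) (.nd (.lf 0xbaccabd) (.lf 0)))) (.nd (.nd (.nd (.lf 0x9bf3c63) (.lf 0)) (.nd (.lf 0xff6d493) (.lf 0))) (.nd (.nd (.lf 0xdc149e9) (.lf 0)) (.nd (.lf 0xf3ed2d8) (.lf 0))))) (.nd (.nd (.nd (.nd (.lf 0xe3a831b) (.lf 0x49853a7)) (.nd (.lf 0xe75ebbc) (.lf 0))) (.nd (.nd (.lf 0xc7e6883) (.lf 0)) (.nd (.lf 0xc529af7) (.lf 0)))) (.nd (.nd (.nd (.lf 0x2c912a7) (.lf 0)) (.nd (.lf 0xc23a08) (.lf 0))) (.nd (.nd (.lf 0x76d14bd) (.lf 0)) (.nd (.lf 0xade415d) (.lf 0)))))))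
def qT_nbabaab : Tr := (.nd (.nd (.nd (.nd (.nd (.nd (.lf 0xa2caf29) (.lf 0xefdd217)) (.nd (.lf 0x5945c7c) (.lf 0))) (.nd (.nd (.lf 0xe3008f9) (.lf 0)) (.nd (.lf 0xfa9dfe7) (.lf 0)))) (.nd (.nd (.nd (.lf 0x7e12b80) (.lf 0)) (.nd (.lf 0xc43722) (.lf 0))) (.nd (.nd (.lf 0x8cbee44) (.lf 0)) (.nd (.lf 0x35a3f7e) (.lf 0))))) (.nd (.nd (.nd (.nd (.lf 0xd0ba868) (.lf 0x464f69)) (.nd (.lf 0x17a811a) (.lf 0))) (.nd (.nd (.lf 0x1555ddd) (.lf 0)) (.nd (.lf 0x1b8e5fa) (.lf 0)))) (.nd (.nd (.nd (.lf 0x86137ce) (.lf 0)) (.nd (.lf 0xa88e8c6) (.lf 0))) (.nd (.nd (.lf 0x2aae5ce) (.lf 0)) (.nd (.lf 0x9c956cd) (.lf 0)))))) (.nd (.nd (.nd (.nd (.nd (.lf 0x7c4c3d3) (.lf 0x7cd341c)) (.nd (.lf 0x2000000) (.lf 0))) (.nd (.nd (.lf 0x20b9e30) (.lf 0))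 (.nd (.lf 0xc19f47d) (.lf 0)))) (.nd (.nd (.nd (.lf 0xaefdfdd) (.lf 0)) (.nd (.lf 0x158cc8a) (.lf 0))) (.nd (.nd (.lf 0x8d60a4d) (.lf 0)) (.nd (.lf 0x75c2573) (.lf 0))))) (.nd (.nd (.nd (.nd (.lf 0xbdd62ff) (.lf 0x5f63b00)) (.nd (.lf 0x555e79f) (.lf 0))) (.nd (.nd (.lf 0x40492a2) (.lf 0)) (.nd (.lf 0xfef5b80) (.lf 0)))) (.nd (.nd (.nd (.lf 0xb29845b) (.lf 0)) (.nd (.lf 0x65da09f) (.lf 0))) (.nd (.nd (.lf 0xae2df1b) (.lf 0)) (.nd (.lf 0x35d124a) (.lf 0)))))))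
def qT_nbababa : Tr := (.nd (.nd (.nd (.nd (.nd (.nd (.lf 0x8aac2b9) (.lf 0x4fd090a)) (.nd (.lf 0x9e06e72) (.lf 0))) (.nd (.nd (.lf 0x1c7d5ca) (.lf 0)) (.nd (.lf 0x2b98f44) (.lf 0)))) (.nd (.nd (.nd (.lf 0x2b8ba61) (.lf 0)) (.nd (.lf 0x238aa12) (.lf 0))) (.nd (.nd (.lf 0xbe52416) (.lf 0)) (.nd (.lf 0xba4c35c) (.lf 0))))) (.nd (.nd (.nd (.nd (.lf 0xa65369f) (.lf 0x7bb86f0)) (.nd (.lf 0x8dd9cda) (.lf 0))) (.nd (.nd (.lf 0xbbb1751) (.lf 0)) (.nd (.lf 0x6248ece) (.lf 0)))) (.nd (.nd (.nd (.lf 0xfafbe7d) (.lf 0)) (.nd (.lf 0xe261913) (.lf 0))) (.nd (.nd (.lf 0x9545773) (.lf 0)) (.nd (.lf 0xeb0702a) (.lf 0)))))) (.nd (.nd (.nd (.nd (.nd (.lf 0x721d91b) (.lf 0x54122b3)) (.nd (.lf 0x16f45cf) (.lf 0))) (.nd (.nd (.lf 0xc1834f9) (.lf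 0)) (.nd (.lf 0xa0091b3) (.lf 0)))) (.nd (.nd (.nd (.lf 0xb0b730d) (.lf 0)) (.nd (.lf 0xf278562) (.lf 0))) (.nd (.nd (.lf 0xbf1d046) (.lf 0)) (.nd (.lf 0x93c7d94) (.lf 0))))) (.nd (.nd (.nd (.nd (.lf 0x6438d7d) (.lf 0x4c0ccfb)) (.nd (.lf 0x787405c) (.lf 0))) (.nd (.nd (.lf 0x5e06d0e) (.lf 0)) (.nd (.lf 0x146a414) (.lf 0)))) (.nd (.nd (.nd (.lf 0x9a0d800) (.lf 0)) (.nd (.lf 0x4d1adc6) (.lf 0))) (.nd (.nd (.lf 0x7ffd2ba) (.lf 0)) (.nd (.lf 0xdd850aa) (.lf 0)))))))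
def qT_nbababb : Tr := (.nd (.nd (.nd (.nd (.nd (.nd (.lf 0xb691e04) (.lf 0x103ae35)) (.nd (.lf 0x857152) (.lf 0))) (.nd (.nd (.lf 0x447a585) (.lf 0)) (.nd (.lf 0xb372d27) (.lf 0)))) (.nd (.nd (.nd (.lf 0xad511a8) (.lf 0)) (.nd (.lf 0xd02e7a) (.lf 0))) (.nd (.nd (.lf 0x42095d0) (.lf 0)) (.nd (.lf 0x705456e) (.lf 0))))) (.nd (.nd (.nd (.nd (.lf 0x6402e1f) (.lf 0x7a4337f)) (.nd (.lf 0x7d873de) (.lf 0))) (.nd (.nd (.lf 0x38e5774) (.lf 0)) (.nd (.lf 0xd32a6c7) (.lf 0)))) (.nd (.nd (.nd (.lf 0x107e6e3) (.lf 0)) (.nd (.lf 0xb6a990d) (.lf 0))) (.nd (.nd (.lf 0x9bd44d0) (.lf 0)) (.nd (.lf 0x48aed9a) (.lf 0)))))) (.nd (.nd (.nd (.nd (.nd (.lf 0x5be0a6b) (.lf 0xf14ec1b)) (.nd (.lf 0xd06c516) (.lf 0))) (.nd (.nd (.lf 0xa380ac) (.lf 0))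 (.nd (.lf 0x4f49802) (.lf 0)))) (.nd (.nd (.nd (.lf 0xc51ca21) (.lf 0)) (.nd (.lf 0x3eca274) (.lf 0))) (.nd (.nd (.lf 0x6b39888) (.lf 0)) (.nd (.lf 0x9e595b0) (.lf 0))))) (.nd (.nd (.nd (.nd (.lf 0x608a40a) (.lf 0xb6d6aaa)) (.nd (.lf 0x6ea75fd) (.lf 0))) (.nd (.nd (.lf 0x1f124c8) (.lf 0)) (.nd (.lf 0xc2e64db) (.lf 0)))) (.nd (.nd (.nd (.lf 0xd92eed5) (.lf 0)) (.nd (.lf 0xefedcc6) (.lf 0))) (.nd (.nd (.lf 0x410e34b) (.lf 0)) (.nd (.lf 0x43e1949) (.lf 0)))))))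
def qT_nbabbaa : Tr := (.nd (.nd (.nd (.nd (.nd (.nd (.lf 0xf52bdfd) (.lf 0xf87b646)) (.nd (.lf 0xe81ae9d) (.lf 0))) (.nd (.nd (.lf 0x29c8d4) (.lf 0)) (.nd (.lf 0xfbdde69) (.lf 0)))) (.nd (.nd (.nd (.lf 0x9c20d5d) (.lf 0)) (.nd (.lf 0xc887aad) (.lf 0))) (.nd (.nd (.lf 0xffc6e30) (.lf 0)) (.nd (.lf 0x62de3d0) (.lf 0))))) (.nd (.nd (.nd (.nd (.lf 0x9e85eb2) (.lf 0x1df3b7c)) (.nd (.lf 0x626f36d) (.lf 0))) (.nd (.nd (.lf 0xd02e2cc) (.lf 0)) (.nd (.lf 0xd7c5680) (.lf 0)))) (.nd (.nd (.nd (.lf 0x2dae629) (.lf 0)) (.nd (.lf 0x8e1a344) (.lf 0))) (.nd (.nd (.lf 0xea345ed) (.lf 0)) (.nd (.lf 0xc5312e2) (.lf 0)))))) (.nd (.nd (.nd (.nd (.nd (.lf 0x283e6ec) (.lf 0x7d32edc)) (.nd (.lf 0x816f2f1) (.lf 0))) (.nd (.nd (.lf 0xdd91221) (.lf 0))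 (.nd (.lf 0x506be53) (.lf 0)))) (.nd (.nd (.nd (.lf 0x5e871b) (.lf 0)) (.nd (.lf 0x165c048) (.lf 0))) (.nd (.nd (.lf 0xaceafaf) (.lf 0)) (.nd (.lf 0x3fe463) (.lf 0))))) (.nd (.nd (.nd (.nd (.lf 0x1d813ea) (.lf 0x50c2986)) (.nd (.lf 0x691d77a) (.lf 0))) (.nd (.nd (.lf 0xff2b114) (.lf 0)) (.nd (.lf 0x9690ee) (.lf 0)))) (.nd (.nd (.nd (.lf 0x8c5a368) (.lf 0)) (.nd (.lf 0x4be2006) (.lf 0))) (.nd (.nd (.lf 0x3b5d3a9) (.lf 0)) (.nd (.lf 0x868dcb2) (.lf 0)))))))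
def qT_nbabbab : Tr := (.nd (.nd (.nd (.nd (.nd (.nd (.lf 0x4798037) (.lf 0x9130f5d)) (.nd (.lf 0x3ed963e) (.lf 0))) (.nd (.nd (.lf 0x1f762d6) (.lf 0)) (.nd (.lf 0x1adcb80) (.lf 0)))) (.nd (.nd (.nd (.lf 0xf7daca3) (.lf 0)) (.nd (.lf 0x4d107c1) (.lf 0))) (.nd (.nd (.lf 0x6c75213) (.lf 0)) (.nd (.lf 0x7441cab) (.lf 0))))) (.nd (.nd (.nd (.nd (.lf 0x1d89d94) (.lf 0x3a9d790)) (.nd (.lf 0xb34560f) (.lf 0))) (.nd (.nd (.lf 0x869ae68) (.lf 0)) (.nd (.lf 0x9c82700) (.lf 0)))) (.nd (.nd (.nd (.lf 0xe1bfe13) (.lf 0)) (.nd (.lf 0x1a02647) (.lf 0))) (.nd (.nd (.lf 0x9ac2703) (.lf 0)) (.nd (.lf 0x25a547c) (.lf 0)))))) (.nd (.nd (.nd (.nd (.nd (.lf 0x706a947) (.lf 0x6e97d60)) (.nd (.lf 0x581b4cc) (.lf 0))) (.nd (.nd (.lf 0xc8b883a) (.lf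 0)) (.nd (.lf 0x902e3cc) (.lf 0)))) (.nd (.nd (.nd (.lf 0x2cee62) (.lf 0)) (.nd (.lf 0x2a32737) (.lf 0))) (.nd (.nd (.lf 0xbbf7afd) (.lf 0)) (.nd (.lf 0xbe99e79) (.lf 0))))) (.nd (.nd (.nd (.nd (.lf 0x74b272) (.lf 0x4f52c7c)) (.nd (.lf 0x167aab8) (.lf 0))) (.nd (.nd (.lf 0x620f42b) (.lf 0)) (.nd (.lf 0xb51ffef) (.lf 0)))) (.nd (.nd (.nd (.lf 0xa7aca80) (.lf 0)) (.nd (.lf 0xd65fff7) (.lf 0))) (.nd (.nd (.lf 0x1d68c35) (.lf 0)) (.nd (.lf 0x4529b74) (.lf 0)))))))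
def qT_nbabbba : Tr := (.nd (.nd (.nd (.nd (.nd (.nd (.lf 0x692e3f8) (.lf 0x40c05ad)) (.nd (.lf 0xe708107) (.lf 0))) (.nd (.nd (.lf 0x4c9e3f9) (.lf 0)) (.nd (.lf 0xde3a31f) (.lf 0)))) (.nd (.nd (.nd (.lf 0x77e8008) (.lf 0)) (.nd (.lf 0xc8b8378) (.lf 0))) (.nd (.nd (.lf 0x6495273) (.lf 0)) (.nd (.lf 0x5c9c4da) (.lf 0))))) (.nd (.nd (.nd (.nd (.lf 0x2d3018e) (.lf 0x4e2e564)) (.nd (.lf 0xd9c5c7c) (.lf 0))) (.nd (.nd (.lf 0xdbb05ca) (.lf 0)) (.nd (.lf 0x1b24601) (.lf 0)))) (.nd (.nd (.nd (.lf 0x194da89) (.lf 0)) (.nd (.lf 0xef92d1) (.lf 0))) (.nd (.nd (.lf 0x2f6f4b0) (.lf 0)) (.nd (.lf 0x4dfeee) (.lf 0)))))) (.nd (.nd (.nd (.nd (.nd (.lf 0xdd9f4ac) (.lf 0x45bd0db)) (.nd (.lf 0x9102c3) (.lf 0))) (.nd (.nd (.lf 0xc5fb314) (.lf 0))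 (.nd (.lf 0xb0f0a82) (.lf 0)))) (.nd (.nd (.nd (.lf 0x9c5c315) (.lf 0)) (.nd (.lf 0xd3e2885) (.lf 0))) (.nd (.nd (.lf 0x2f1e18a) (.lf 0)) (.nd (.lf 0x29f95bc) (.lf 0))))) (.nd (.nd (.nd (.nd (.lf 0x11f5374) (.lf 0xeb9ca41)) (.nd (.lf 0xc5ca63b) (.lf 0))) (.nd (.nd (.lf 0x7e5d17e) (.lf 0)) (.nd (.lf 0x63d0bb) (.lf 0)))) (.nd (.nd (.nd (.lf 0x43a275e) (.lf 0)) (.nd (.lf 0x5fbb1a8) (.lf 0))) (.nd (.nd (.lf 0xa9c4401) (.lf 0)) (.nd (.lf 0xef423e1) (.lf 0)))))))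
def qT_nbabbbb : Tr := (.nd (.nd (.nd (.nd (.nd (.nd (.lf 0x4314643) (.lf 0x23d7fe3)) (.nd (.lf 0x6034794) (.lf 0))) (.nd (.nd (.lf 0xa0fd4f7) (.lf 0)) (.nd (.lf 0xbc51dda) (.lf 0)))) (.nd (.nd (.nd (.lf 0xa226c55) (.lf 0)) (.nd (.lf 0xc336e36) (.lf 0))) (.nd (.nd (.lf 0xfac7b68) (.lf 0)) (.nd (.lf 0xfb45137) (.lf 0))))) (.nd (.nd (.nd (.nd (.lf 0x78dc895) (.lf 0xd20ce8e)) (.nd (.lf 0xe57abe7) (.lf 0))) (.nd (.nd (.lf 0x2b3d8ac) (.lf 0)) (.nd (.lf 0x3fd3249) (.lf 0)))) (.nd (.nd (.nd (.lf 0xd472135) (.lf 0)) (.nd (.lf 0xd719084) (.lf 0))) (.nd (.nd (.lf 0x9ad81eb) (.lf 0)) (.nd (.lf 0x3b39c3c) (.lf 0)))))) (.nd (.nd (.nd (.nd (.nd (.lf 0xfdf20d9) (.lf 0xd2268c1)) (.nd (.lf 0x6217326) (.lf 0))) (.nd (.nd (.lf 0xf4719f2) (.lf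 0)) (.nd (.lf 0x80000) (.lf 0)))) (.nd (.nd (.nd (.lf 0xdfad7b5) (.lf 0)) (.nd (.lf 0xbb0d1c0) (.lf 0))) (.nd (.nd (.lf 0xcc48611) (.lf 0)) (.nd (.lf 0x4d9ae3) (.lf 0))))) (.nd (.nd (.nd (.nd (.lf 0x64856ac) (.lf 0x958fe6a)) (.nd (.lf 0x8782999) (.lf 0))) (.nd (.nd (.lf 0x9260817) (.lf 0)) (.nd (.lf 0x80d299e) (.lf 0)))) (.nd (.nd (.nd (.lf 0x83f89a1) (.lf 0)) (.nd (.lf 0x4ed427b) (.lf 0))) (.nd (.nd (.lf 0xaaf779) (.lf 0)) (.nd (.lf 0xcbec312) (.lf 0)))))))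
def qT_nbbaaaa : Tr := (.nd (.nd (.nd (.nd (.nd (.nd (.lf 0xb6b0b30) (.lf 0xd119b80)) (.nd (.lf 0x40b6084) (.lf 0))) (.nd (.nd (.lf 0x36ddd7e) (.lf 0)) (.nd (.lf 0xcb3f918) (.lf 0)))) (.nd (.nd (.nd (.lf 0x623c494) (.lf 0)) (.nd (.lf 0x5c95d73) (.lf 0))) (.nd (.nd (.lf 0x78474a3) (.lf 0)) (.nd (.lf 0x5cda9e2) (.lf 0))))) (.nd (.nd (.nd (.nd (.lf 0x71feb5a) (.lf 0xe3d7029)) (.nd (.lf 0x1f25ffa) (.lf 0))) (.nd (.nd (.lf 0x70d3ddd) (.lf 0)) (.nd (.lf 0x3a63052) (.lf 0)))) (.nd (.nd (.nd (.lf 0xe6960b3) (.lf 0)) (.nd (.lf 0xdbbcef) (.lf 0))) (.nd (.nd (.lf 0x82143a1) (.lf 0)) (.nd (.lf 0x8bad22f) (.lf 0)))))) (.nd (.nd (.nd (.nd (.nd (.lf 0xc19a1ac) (.lf 0xc4091ee)) (.nd (.lf 0x34e8304) (.lf 0))) (.nd (.nd (.lf 0x64adc1) (.lf 0))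 (.nd (.lf 0x45e60cc) (.lf 0)))) (.nd (.nd (.nd (.lf 0xc834a2a) (.lf 0)) (.nd (.lf 0x34f0453) (.lf 0))) (.nd (.nd (.lf 0xb858785) (.lf 0)) (.nd (.lf 0x5120a3f) (.lf 0))))) (.nd (.nd (.nd (.nd (.lf 0x607d937) (.lf 0x208fe6b)) (.nd (.lf 0x8a7560d) (.lf 0))) (.nd (.nd (.lf 0xdbbc4ed) (.lf 0)) (.nd (.lf 0xf4ffeee) (.lf 0)))) (.nd (.nd (.nd (.lf 0x95b09d8) (.lf 0)) (.nd (.lf 0x323b0cb) (.lf 0))) (.nd (.nd (.lf 0x54940c9) (.lf 0)) (.nd (.lf 0x749a840) (.lf 0)))))))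
def qT_nbbaaab : Tr := (.nd (.nd (.nd (.nd (.nd (.nd (.lf 0xe4f1f63) (.lf 0x7c8bcd0)) (.nd (.lf 0x5b7ab5d) (.lf 0))) (.nd (.nd (.lf 0xdba48eb) (.lf 0)) (.nd (.lf 0x2cbc56) (.lf 0)))) (.nd (.nd (.nd (.lf 0xde16208) (.lf 0)) (.nd (.lf 0x990b464) (.lf 0))) (.nd (.nd (.lf 0xd9baec1) (.lf 0)) (.nd (.lf 0x6207429) (.lf 0))))) (.nd (.nd (.nd (.nd (.lf 0xdfe7e77) (.lf 0xc2da1cd)) (.nd (.lf 0x5696d40) (.lf 0))) (.nd (.nd (.lf 0x1a0730b) (.lf 0)) (.nd (.lf 0xa9fc308) (.lf 0)))) (.nd (.nd (.nd (.lf 0x15cc308) (.lf 0)) (.nd (.lf 0x8d1273b) (.lf 0))) (.nd (.nd (.lf 0x3ca3ae7) (.lf 0)) (.nd (.lf 0x1b24ff) (.lf 0)))))) (.nd (.nd (.nd (.nd (.nd (.lf 0x11096fc) (.lf 0x5fa5e21)) (.nd (.lf 0x79f9b84) (.lf 0))) (.nd (.nd (.lf 0xbf335cb) (.lf 0))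 (.nd (.lf 0xb38ef0) (.lf 0)))) (.nd (.nd (.nd (.lf 0x773b5a2) (.lf 0)) (.nd (.lf 0x8877a76) (.lf 0))) (.nd (.nd (.lf 0x8947a3e) (.lf 0)) (.nd (.lf 0x958fc6e) (.lf 0))))) (.nd (.nd (.nd (.nd (.lf 0x1c8eaab) (.lf 0xed43867)) (.nd (.lf 0xcd914c1) (.lf 0))) (.nd (.nd (.lf 0x50e0819) (.lf 0)) (.nd (.lf 0xed17222) (.lf 0)))) (.nd (.nd (.nd (.lf 0x12352ba) (.lf 0)) (.nd (.lf 0x224f746) (.lf 0))) (.nd (.nd (.lf 0xa369f74) (.lf 0)) (.nd (.lf 0xb1c4708) (.lf 0)))))))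
def qT_nbbaaba : Tr := (.nd (.nd (.nd (.nd (.nd (.nd (.lf 0x44184af) (.lf 0xb9b9de7)) (.nd (.lf 0x532a744) (.lf 0))) (.nd (.nd (.lf 0xcaac47a) (.lf 0)) (.nd (.lf 0x78d7867) (.lf 0)))) (.nd (.nd (.nd (.lf 0x845702b) (.lf 0)) (.nd (.lf 0x998b26e) (.lf 0))) (.nd (.nd (.lf 0x91785ce) (.lf 0)) (.nd (.lf 0x9e8d9c9) (.lf 0))))) (.nd (.nd (.nd (.nd (.lf 0xe74feba) (.lf 0x1786edf)) (.nd (.lf 0x2fbbecf) (.lf 0))) (.nd (.nd (.lf 0xe821d84) (.lf 0)) (.nd (.lf 0x9a94017) (.lf 0)))) (.nd (.nd (.nd (.lf 0x4acfe00) (.lf 0)) (.nd (.lf 0xb3c318d) (.lf 0))) (.nd (.nd (.lf 0xbdbdd93) (.lf 0)) (.nd (.lf 0x4805bd6) (.lf 0)))))) (.nd (.nd (.nd (.nd (.nd (.lf 0x78efd2a) (.lf 0x7c09605)) (.nd (.lf 0x7f2ba7e) (.lf 0))) (.nd (.nd (.lf 0xeec9dcf) (.lf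 0)) (.nd (.lf 0x4e3b227) (.lf 0)))) (.nd (.nd (.nd (.lf 0xee4dacc) (.lf 0)) (.nd (.lf 0x29ceb8d) (.lf 0))) (.nd (.nd (.lf 0x6362f7a) (.lf 0)) (.nd (.lf 0xe120004) (.lf 0))))) (.nd (.nd (.nd (.nd (.lf 0x6713165) (.lf 0xcaac48b)) (.nd (.lf 0xce53def) (.lf 0))) (.nd (.nd (.lf 0x9496c8f) (.lf 0)) (.nd (.lf 0xfec8da1) (.lf 0)))) (.nd (.nd (.nd (.lf 0x8e1e8b6) (.lf 0)) (.nd (.lf 0x56de390) (.lf 0))) (.nd (.nd (.lf 0x4246dff) (.lf 0)) (.nd (.lf 0x9adf946) (.lf 0)))))))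
def qT_nbbaabb : Tr := (.nd (.nd (.nd (.nd (.nd (.nd (.lf 0x139bb91) (.lf 0xc623361)) (.nd (.lf 0xf748107) (.lf 0))) (.nd (.nd (.lf 0xeee9371) (.lf 0)) (.nd (.lf 0x5898e9a) (.lf 0)))) (.nd (.nd (.nd (.lf 0x76d6114) (.lf 0)) (.nd (.lf 0x80e1076) (.lf 0))) (.nd (.nd (.lf 0x313da25) (.lf 0)) (.nd (.lf 0x681d674) (.lf 0))))) (.nd (.nd (.nd (.nd (.lf 0xa040804) (.lf 0x536812f)) (.nd (.lf 0x793bc1a) (.lf 0))) (.nd (.nd (.lf 0x8b5e4cf) (.lf 0)) (.nd (.lf 0xbc4cf3a) (.lf 0)))) (.nd (.nd (.nd (.lf 0x51d13fe) (.lf 0)) (.nd (.lf 0x4f7980) (.lf 0))) (.nd (.nd (.lf 0xe398101) (.lf 0)) (.nd (.lf 0x9a0ba3c) (.lf 0)))))) (.nd (.nd (.nd (.nd (.nd (.lf 0x5bf5512) (.lf 0xffb1054)) (.nd (.lf 0x263fb64) (.lf 0))) (.nd (.nd (.lf 0x2d6b83c) (.lf 0))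 (.nd (.lf 0x5f32645) (.lf 0)))) (.nd (.nd (.nd (.lf 0x38c887f) (.lf 0)) (.nd (.lf 0x5ca9667) (.lf 0))) (.nd (.nd (.lf 0x945256a) (.lf 0)) (.nd (.lf 0x80ceeb5) (.lf 0))))) (.nd (.nd (.nd (.nd (.lf 0xf5d2983) (.lf 0x5342379)) (.nd (.lf 0xec9d30a) (.lf 0))) (.nd (.nd (.lf 0xe2517c2) (.lf 0)) (.nd (.lf 0x55edc77) (.lf 0)))) (.nd (.nd (.nd (.lf 0x13fd0f9) (.lf 0)) (.nd (.lf 0x379678d) (.lf 0))) (.nd (.nd (.lf 0x23af328) (.lf 0)) (.nd (.lf 0x2173c48) (.lf 0)))))))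
def qT_nbbabaa : Tr := (.nd (.nd (.nd (.nd (.nd (.nd (.lf 0x7cd416b) (.lf 0xcc2a81f)) (.nd (.lf 0x79e8825) (.lf 0))) (.nd (.nd (.lf 0x1c1efca) (.lf 0)) (.nd (.lf 0x55cedad) (.lf 0)))) (.nd (.nd (.nd (.lf 0x9b92ffe) (.lf 0)) (.nd (.lf 0x3e5b5d0) (.lf 0))) (.nd (.nd (.lf 0x95baf70) (.lf 0)) (.nd (.lf 0x2434958) (.lf 0))))) (.nd (.nd (.nd (.nd (.lf 0x5bcd8df) (.lf 0x67b6e06)) (.nd (.lf 0x9e7b6a) (.lf 0))) (.nd (.nd (.lf 0xadc161b) (.lf 0)) (.nd (.lf 0xdbfafb5) (.lf 0)))) (.nd (.nd (.nd (.lf 0x47110fa) (.lf 0)) (.nd (.lf 0xbdbd9d3) (.lf 0))) (.nd (.nd (.lf 0x5ad4b7b) (.lf 0)) (.nd (.lf 0x37139e3) (.lf 0)))))) (.nd (.nd (.nd (.nd (.nd (.lf 0x88105a0) (.lf 0x4aedc3)) (.nd (.lf 0x7b5bc1c) (.lf 0))) (.nd (.nd (.lf 0xeed5a88) (.lf 0))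 (.nd (.lf 0xb104b9a) (.lf 0)))) (.nd (.nd (.nd (.lf 0x277d5fc) (.lf 0)) (.nd (.lf 0xf7c6e70) (.lf 0))) (.nd (.nd (.lf 0x733e0f4) (.lf 0)) (.nd (.lf 0x7c8f8d9) (.lf 0))))) (.nd (.nd (.nd (.nd (.lf 0x5bf0603) (.lf 0x4c743fa)) (.nd (.lf 0x6568210) (.lf 0))) (.nd (.nd (.lf 0x1bb86bd) (.lf 0)) (.nd (.lf 0xc3b706e) (.lf 0)))) (.nd (.nd (.nd (.lf 0xd6122d7) (.lf 0)) (.nd (.lf 0xd926690) (.lf 0))) (.nd (.nd (.lf 0x6c7dbd0) (.lf 0)) (.nd (.lf 0x99fa1c4) (.lf 0)))))))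
def qT_nbbabab : Tr := (.nd (.nd (.nd (.nd (.nd (.nd (.lf 0xb6c2ded) (.lf 0x7fbca90)) (.nd (.lf 0x79996d8) (.lf 0))) (.nd (.nd (.lf 0x79e22d) (.lf 0)) (.nd (.lf 0xa3bca80) (.lf 0)))) (.nd (.nd (.nd (.lf 0x7e4ea40) (.lf 0)) (.nd (.lf 0xa9178ed) (.lf 0))) (.nd (.nd (.lf 0x3a378d7) (.lf 0)) (.nd (.lf 0x2aed267) (.lf 0))))) (.nd (.nd (.nd (.nd (.lf 0x630021c) (.lf 0xa29b130)) (.nd (.lf 0xc4fcdf2) (.lf 0))) (.nd (.nd (.lf 0xdac0c54) (.lf 0)) (.nd (.lf 0xd2da294) (.lf 0)))) (.nd (.nd (.nd (.lf 0x7128624) (.lf 0)) (.nd (.lf 0x5e16799) (.lf 0))) (.nd (.nd (.lf 0xb614b4c) (.lf 0)) (.nd (.lf 0xb09e09d) (.lf 0)))))) (.nd (.nd (.nd (.nd (.nd (.lf 0x5ef67d) (.lf 0x315429d)) (.nd (.lf 0x1c6cd2b) (.lf 0))) (.nd (.nd (.lf 0x4d097d7) (.lf 0))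 (.nd (.lf 0x5032cb5) (.lf 0)))) (.nd (.nd (.nd (.lf 0x47d8935) (.lf 0)) (.nd (.lf 0x1385269) (.lf 0))) (.nd (.nd (.lf 0xec9a394) (.lf 0)) (.nd (.lf 0xef00250) (.lf 0))))) (.nd (.nd (.nd (.nd (.lf 0x5405b07) (.lf 0x4292448)) (.nd (.lf 0x1f12c27) (.lf 0))) (.nd (.nd (.lf 0xa01f093) (.lf 0)) (.nd (.lf 0x6e1ae49) (.lf 0)))) (.nd (.nd (.nd (.lf 0xe4b3ca1) (.lf 0)) (.nd (.lf 0x8f3c6c4) (.lf 0))) (.nd (.nd (.lf 0x8ba8d0f) (.lf 0)) (.nd (.lf 0x13e5019) (.lf 0)))))))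
def qT_nbbabba : Tr := (.nd (.nd (.nd (.nd (.nd (.nd (.lf 0x4fee71a) (.lf 0x200)) (.nd (.lf 0xe0129c1) (.lf 0))) (.nd (.nd (.lf 0x5c82cbe) (.lf 0)) (.nd (.lf 0x456381c) (.lf 0)))) (.nd (.nd (.nd (.lf 0x5347bef) (.lf 0)) (.nd (.lf 0x614f536) (.lf 0))) (.nd (.nd (.lf 0x2c3df11) (.lf 0)) (.nd (.lf 0xa1ed5a8) (.lf 0))))) (.nd (.nd (.nd (.nd (.lf 0x9fe42ac) (.lf 0x6044274)) (.nd (.lf 0x9352386) (.lf 0))) (.nd (.nd (.lf 0xcf3c684) (.lf 0)) (.nd (.lf 0x37d434a) (.lf 0)))) (.nd (.nd (.nd (.lf 0xa999644) (.lf 0)) (.nd (.lf 0x624aac1) (.lf 0))) (.nd (.nd (.lf 0x5a34100) (.lf 0)) (.nd (.lf 0x3d18cca) (.lf 0)))))) (.nd (.nd (.nd (.nd (.nd (.lf 0x630821e) (.lf 0x26ad75f)) (.nd (.lf 0xdba0cf1) (.lf 0))) (.nd (.nd (.lf 0x3180a05) (.lf 0))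 (.nd (.lf 0x440f13a) (.lf 0)))) (.nd (.nd (.nd (.lf 0xc4654d9) (.lf 0)) (.nd (.lf 0xa08fc61) (.lf 0))) (.nd (.nd (.lf 0x33ce3db) (.lf 0)) (.nd (.lf 0x1f86ea0) (.lf 0))))) (.nd (.nd (.nd (.nd (.lf 0x9358113) (.lf 0x3eeb0be)) (.nd (.lf 0x7dff395) (.lf 0))) (.nd (.nd (.lf 0xb4b6c85) (.lf 0)) (.nd (.lf 0xb1df60a) (.lf 0)))) (.nd (.nd (.nd (.lf 0x1786e5b) (.lf 0)) (.nd (.lf 0x2f95c5f) (.lf 0))) (.nd (.nd (.lf 0x82d3386) (.lf 0)) (.nd (.lf 0xdc6fa99) (.lf 0)))))))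
def qT_nbbabbb : Tr := (.nd (.nd (.nd (.nd (.nd (.nd (.lf 0x5a8fc4f) (.lf 0xce4f434)) (.nd (.lf 0x14a3863) (.lf 0))) (.nd (.nd (.lf 0xe995d72) (.lf 0)) (.nd (.lf 0xd56bcac) (.lf 0)))) (.nd (.nd (.nd (.lf 0xfa97cbd) (.lf 0)) (.nd (.lf 0xa2c7332) (.lf 0))) (.nd (.nd (.lf 0xb04f786) (.lf 0)) (.nd (.lf 0xee7fa42) (.lf 0))))) (.nd (.nd (.nd (.nd (.lf 0x1ce216d) (.lf 0x81c093)) (.nd (.lf 0x5ad0b79) (.lf 0))) (.nd (.nd (.lf 0xfacc725) (.lf 0)) (.nd (.lf 0xef52e29) (.lf 0)))) (.nd (.nd (.nd (.lf 0xbe08d12) (.lf 0)) (.nd (.lf 0x10053c7) (.lf 0))) (.nd (.nd (.lf 0xf9740ef) (.lf 0)) (.nd (.lf 0xd8a2205) (.lf 0)))))) (.nd (.nd (.nd (.nd (.nd (.lf 0x156695f) (.lf 0x6ec9fe2)) (.nd (.lf 0x4ef9998) (.lf 0))) (.nd (.nd (.lf 0x774df46) (.lf 0))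 (.nd (.lf 0x6b9c84b) (.lf 0)))) (.nd (.nd (.nd (.lf 0xa659669) (.lf 0)) (.nd (.lf 0x1fb4c54) (.lf 0))) (.nd (.nd (.lf 0x1e38f59) (.lf 0)) (.nd (.lf 0xccfdd81) (.lf 0))))) (.nd (.nd (.nd (.nd (.lf 0xf9794a3) (.lf 0xd0502f6)) (.nd (.lf 0x59e8805) (.lf 0))) (.nd (.nd (.lf 0xb94ccb4) (.lf 0)) (.nd (.lf 0xeb8b1df) (.lf 0)))) (.nd (.nd (.nd (.lf 0x1667cd6) (.lf 0)) (.nd (.lf 0x33d6f1a) (.lf 0))) (.nd (.nd (.lf 0x9e917e7) (.lf 0)) (.nd (.lf 0x66a18b6) (.lf 0)))))))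
def qT_nbbbaaa : Tr := (.nd (.nd (.nd (.nd (.nd (.nd (.lf 0x36118a8) (.lf 0xea2e20d)) (.nd (.lf 0xdc95b6) (.lf 0))) (.nd (.nd (.lf 0xf8833b3) (.lf 0)) (.nd (.lf 0x2d1bb21) (.lf 0)))) (.nd (.nd (.nd (.lf 0xc014c79) (.lf 0)) (.nd (.lf 0x3a9c274) (.lf 0))) (.nd (.nd (.lf 0x6fa7623) (.lf 0)) (.nd (.lf 0x57354e9) (.lf 0))))) (.nd (.nd (.nd (.nd (.lf 0x2b9ec4d) (.lf 0x5226b46)) (.nd (.lf 0xa9abcc0) (.lf 0))) (.nd (.nd (.lf 0x6a6b3e2) (.lf 0)) (.nd (.lf 0xc2dc045) (.lf 0)))) (.nd (.nd (.nd (.lf 0x61e8616) (.lf 0)) (.nd (.lf 0x510a66a) (.lf 0))) (.nd (.nd (.lf 0x5a3be42) (.lf 0)) (.nd (.lf 0x2908ad8) (.lf 0)))))) (.nd (.nd (.nd (.nd (.nd (.lf 0xf2aa278) (.lf 0x4fa7128)) (.nd (.lf 0xffab29b) (.lf 0))) (.nd (.nd (.lf 0x241188f) (.lf 0))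 (.nd (.lf 0xf58cd4c) (.lf 0)))) (.nd (.nd (.nd (.lf 0x68aab46) (.lf 0)) (.nd (.lf 0x2286cd4) (.lf 0))) (.nd (.nd (.lf 0x97ad661) (.lf 0)) (.nd (.lf 0x7319ef9) (.lf 0))))) (.nd (.nd (.nd (.nd (.lf 0x3b0ecc9) (.lf 0xf474cc)) (.nd (.lf 0x482f980) (.lf 0))) (.nd (.nd (.lf 0xbb637b5) (.lf 0)) (.nd (.lf 0x4431d13) (.lf 0)))) (.nd (.nd (.nd (.lf 0x100e58) (.lf 0)) (.nd (.lf 0x7a126f3) (.lf 0))) (.nd (.nd (.lf 0x323c3b0) (.lf 0)) (.nd (.lf 0xf453e72) (.lf 0)))))))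
def qT_nbbbaab : Tr := (.nd (.nd (.nd (.nd (.nd (.nd (.lf 0xd49244f) (.lf 0x5d3cbf1)) (.nd (.lf 0x48f03da) (.lf 0))) (.nd (.nd (.lf 0xd73c451) (.lf 0)) (.nd (.lf 0x8fa8d4f) (.lf 0)))) (.nd (.nd (.nd (.lf 0x9170d5d) (.lf 0)) (.nd (.lf 0x75730aa) (.lf 0))) (.nd (.nd (.lf 0xf4c2fa6) (.lf 0)) (.nd (.lf 0x908c93a) (.lf 0))))) (.nd (.nd (.nd (.nd (.lf 0x9de8199) (.lf 0x8adeea)) (.nd (.lf 0x45360c4) (.lf 0))) (.nd (.nd (.lf 0xa03629) (.lf 0)) (.nd (.lf 0xccdb0d4) (.lf 0)))) (.nd (.nd (.nd (.lf 0x8f8e159) (.lf 0)) (.nd (.lf 0xe2648f) (.lf 0))) (.nd (.nd (.lf 0xcc5d03d) (.lf 0)) (.nd (.lf 0xd21f6fd) (.lf 0)))))) (.nd (.nd (.nd (.nd (.nd (.lf 0x47e40cc) (.lf 0x4e033a6)) (.nd (.lf 0x8d8db83) (.lf 0))) (.nd (.nd (.lf 0xa24b171) (.lf 0))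 (.nd (.lf 0x1589cba) (.lf 0)))) (.nd (.nd (.nd (.lf 0x586281a) (.lf 0)) (.nd (.lf 0x261afc) (.lf 0))) (.nd (.nd (.lf 0xebd889d) (.lf 0)) (.nd (.lf 0xa897217) (.lf 0))))) (.nd (.nd (.nd (.nd (.lf 0xa0362f9) (.lf 0xb3a6b73)) (.nd (.lf 0x3e7a258) (.lf 0))) (.nd (.nd (.lf 0x8c8dabb) (.lf 0)) (.nd (.lf 0x43c7f4c) (.lf 0)))) (.nd (.nd (.nd (.lf 0xaa50c24) (.lf 0)) (.nd (.lf 0x9637ebf) (.lf 0))) (.nd (.nd (.lf 0x5d71dfe) (.lf 0)) (.nd (.lf 0xab3cb36) (.lf 0)))))))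
def qT_nbbbaba : Tr := (.nd (.nd (.nd (.nd (.nd (.nd (.lf 0xed41d33) (.lf 0xc4daca1)) (.nd (.lf 0x5df1ae7) (.lf 0))) (.nd (.nd (.lf 0x7854186) (.lf 0)) (.nd (.lf 0xc7619a9) (.lf 0)))) (.nd (.nd (.nd (.lf 0x4803fdb) (.lf 0)) (.nd (.lf 0x2a61052) (.lf 0))) (.nd (.nd (.lf 0xcee6d1a) (.lf 0)) (.nd (.lf 0x45694a7) (.lf 0))))) (.nd (.nd (.nd (.nd (.lf 0xed7bb94) (.lf 0xdc10de0)) (.nd (.lf 0xccef531) (.lf 0))) (.nd (.nd (.lf 0x1371b32) (.lf 0)) (.nd (.lf 0x4721e54) (.lf 0)))) (.nd (.nd (.nd (.lf 0x8300) (.lf 0)) (.nd (.lf 0xbe2a61) (.lf 0))) (.nd (.nd (.lf 0xfe2d51d) (.lf 0)) (.nd (.lf 0xb77178d) (.lf 0)))))) (.nd (.nd (.nd (.nd (.nd (.lf 0x6dad9cb) (.lf 0xe76bea7)) (.nd (.lf 0xa4223df) (.lf 0))) (.nd (.nd (.lf 0xfb6e4af) (.lf 0))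 (.nd (.lf 0x354164c) (.lf 0)))) (.nd (.nd (.nd (.lf 0x3699291) (.lf 0)) (.nd (.lf 0x14cb0c4) (.lf 0))) (.nd (.nd (.lf 0x800) (.lf 0)) (.nd (.lf 0xba56416) (.lf 0))))) (.nd (.nd (.nd (.nd (.lf 0xda67b6d) (.lf 0xd194236)) (.nd (.lf 0xe2a38a4) (.lf 0))) (.nd (.nd (.lf 0x42ebc9) (.lf 0)) (.nd (.lf 0x7054329) (.lf 0)))) (.nd (.nd (.nd (.lf 0xf5eff6) (.lf 0)) (.nd (.lf 0xd87d229) (.lf 0))) (.nd (.nd (.lf 0xe3bf76d) (.lf 0)) (.nd (.lf 0xa1a2139) (.lf 0)))))))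
def qT_nbbbabb : Tr := (.nd (.nd (.nd (.nd (.nd (.nd (.lf 0xed04833) (.lf 0xfb535b7)) (.nd (.lf 0x25b16f7) (.lf 0))) (.nd (.nd (.lf 0x8af504d) (.lf 0)) (.nd (.lf 0xae8b6c7) (.lf 0)))) (.nd (.nd (.nd (.lf 0x74bb444) (.lf 0)) (.nd (.lf 0xf453835) (.lf 0))) (.nd (.nd (.lf 0xbb0e674) (.lf 0)) (.nd (.lf 0xdecff77) (.lf 0))))) (.nd (.nd (.nd (.nd (.lf 0x5f05d77) (.lf 0xb9d871b)) (.nd (.lf 0x5077b86) (.lf 0))) (.nd (.nd (.lf 0xb1a15a3) (.lf 0)) (.nd (.lf 0x2cf64f0) (.lf 0)))) (.nd (.nd (.nd (.lf 0x8f1d97) (.lf 0)) (.nd (.lf 0xbe124df) (.lf 0))) (.nd (.nd (.lf 0xcd667e5) (.lf 0)) (.nd (.lf 0x6f32efb) (.lf 0)))))) (.nd (.nd (.nd (.nd (.nd (.lf 0x1334ce8) (.lf 0x341d346)) (.nd (.lf 0x7bc980d) (.lf 0))) (.nd (.nd (.lf 0x1d8e199) (.lf 0))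 (.nd (.lf 0xf3f0c41) (.lf 0)))) (.nd (.nd (.nd (.lf 0xf9d861b) (.lf 0)) (.nd (.lf 0xd327699) (.lf 0))) (.nd (.nd (.lf 0x8540bcf) (.lf 0)) (.nd (.lf 0xe4d7fd0) (.lf 0))))) (.nd (.nd (.nd (.nd (.lf 0xecc1cf) (.lf 0x7c6ac05)) (.nd (.lf 0x231a038) (.lf 0))) (.nd (.nd (.lf 0x4606f83) (.lf 0)) (.nd (.lf 0x63326db) (.lf 0)))) (.nd (.nd (.nd (.lf 0x9cd691f) (.lf 0)) (.nd (.lf 0x43b1e2e) (.lf 0))) (.nd (.nd (.lf 0x67f2d3a) (.lf 0)) (.nd (.lf 0xc5902b4) (.lf 0)))))))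
def qT_nbbbbaa : Tr := (.nd (.nd (.nd (.nd (.nd (.nd (.lf 0xf0ba017) (.lf 0xec5b585)) (.nd (.lf 0x8fb84f1) (.lf 0))) (.nd (.nd (.lf 0x44c4df0) (.lf 0)) (.nd (.lf 0xeb1f6e8) (.lf 0)))) (.nd (.nd (.nd (.lf 0x23fc0c1) (.lf 0)) (.nd (.lf 0xb9b0e7a) (.lf 0))) (.nd (.nd (.lf 0xe277bde) (.lf 0)) (.nd (.lf 0xae6320c) (.lf 0))))) (.nd (.nd (.nd (.nd (.lf 0x2d1bb2b) (.lf 0x1e4c497)) (.nd (.lf 0x5f63a10) (.lf 0))) (.nd (.nd (.lf 0x61fad3e) (.lf 0)) (.nd (.lf 0x73038f3) (.lf 0)))) (.nd (.nd (.nd (.lf 0x2368354) (.lf 0)) (.nd (.lf 0x620e21) (.lf 0))) (.nd (.nd (.lf 0xa7d95e9) (.lf 0)) (.nd (.lf 0xa29f9e9) (.lf 0)))))) (.nd (.nd (.nd (.nd (.nd (.lf 0xb920a7c) (.lf 0xb332dca)) (.nd (.lf 0x2f476aa) (.lf 0))) (.nd (.nd (.lf 0xc9138b0) (.lf 0))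 (.nd (.lf 0x79ba62e) (.lf 0)))) (.nd (.nd (.nd (.lf 0x403e252) (.lf 0)) (.nd (.lf 0x76e6aa2) (.lf 0))) (.nd (.nd (.lf 0xe5d7988) (.lf 0)) (.nd (.lf 0xbe1dee8) (.lf 0))))) (.nd (.nd (.nd (.nd (.lf 0x819e774) (.lf 0x76cea46)) (.nd (.lf 0x6dccd65) (.lf 0))) (.nd (.nd (.lf 0x64d6457) (.lf 0)) (.nd (.lf 0xde98e4e) (.lf 0)))) (.nd (.nd (.nd (.lf 0x713325a) (.lf 0)) (.nd (.lf 0x5ff652e) (.lf 0))) (.nd (.nd (.lf 0x1e2c5ab) (.lf 0)) (.nd (.lf 0x22fa2bb) (.lf 0)))))))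
def qT_nbbbbab : Tr := (.nd (.nd (.nd (.nd (.nd (.nd (.lf 0x616d1b3) (.lf 0x6193451)) (.nd (.lf 0x8535f70) (.lf 0))) (.nd (.nd (.lf 0x9f5ccfd) (.lf 0)) (.nd (.lf 0x9a9c057) (.lf 0)))) (.nd (.nd (.nd (.lf 0x52a9c9b) (.lf 0)) (.nd (.lf 0xf8cacd) (.lf 0))) (.nd (.nd (.lf 0x519f5e2) (.lf 0)) (.nd (.lf 0xf1e495e) (.lf 0))))) (.nd (.nd (.nd (.nd (.lf 0xc79294c) (.lf 0x39d09e5)) (.nd (.lf 0xe801c4e) (.lf 0))) (.nd (.nd (.lf 0x920cad7) (.lf 0)) (.nd (.lf 0x65c0250) (.lf 0)))) (.nd (.nd (.nd (.lf 0x681b6c9) (.lf 0)) (.nd (.lf 0x4c52eaf) (.lf 0))) (.nd (.nd (.lf 0x25015eb) (.lf 0)) (.nd (.lf 0x16f774d) (.lf 0)))))) (.nd (.nd (.nd (.nd (.nd (.lf 0x7ed2dd) (.lf 0x56c8fc2)) (.nd (.lf 0xf005835) (.lf 0))) (.nd (.nd (.lf 0x8b59b37) (.lf 0))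 (.nd (.lf 0x657d1b3) (.lf 0)))) (.nd (.nd (.nd (.lf 0x7924bbd) (.lf 0)) (.nd (.lf 0x520db94) (.lf 0))) (.nd (.nd (.lf 0x5ad6f74) (.lf 0)) (.nd (.lf 0xe52727e) (.lf 0))))) (.nd (.nd (.nd (.nd (.lf 0xc37402e) (.lf 0x178ee9f)) (.nd (.lf 0x5f42b0a) (.lf 0))) (.nd (.nd (.lf 0x2bc823) (.lf 0)) (.nd (.lf 0xa5154ca) (.lf 0)))) (.nd (.nd (.nd (.lf 0x44630d0) (.lf 0)) (.nd (.lf 0x4a5c965) (.lf 0))) (.nd (.nd (.lf 0xfcb46f4) (.lf 0)) (.nd (.lf 0xb1571e1) (.lf 0)))))))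
def qT_nbbbbba : Tr := (.nd (.nd (.nd (.nd (.nd (.nd (.lf 0x7071cc2) (.lf 0xb425e36)) (.nd (.lf 0xa40d1b3) (.lf 0))) (.nd (.nd (.lf 0x8fa4c5c) (.lf 0)) (.nd (.lf 0xebd9893) (.lf 0)))) (.nd (.nd (.nd (.lf 0x80e6000) (.lf 0)) (.nd (.lf 0x860dc4e) (.lf 0))) (.nd (.nd (.lf 0x1000) (.lf 0)) (.nd (.lf 0x3e7f789) (.lf 0))))) (.nd (.nd (.nd (.nd (.lf 0xc5a825) (.lf 0x6f83479)) (.nd (.lf 0x80) (.lf 0))) (.nd (.nd (.lf 0x651fcd5) (.lf 0)) (.nd (.lf 0x62efb6d) (.lf 0)))) (.nd (.nd (.nd (.lf 0x2000a) (.lf 0)) (.nd (.lf 0x716006e) (.lf 0))) (.nd (.nd (.lf 0x963aee1) (.lf 0)) (.nd (.lf 0xe3ed61b) (.lf 0)))))) (.nd (.nd (.nd (.nd (.nd (.lf 0x3b94ac6) (.lf 0x743922d)) (.nd (.lf 0x51bac4e) (.lf 0))) (.nd (.nd (.lf 0x4ea12b9) (.lf 0)) (.nd (.lf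 0xc6bf3e9) (.lf 0)))) (.nd (.nd (.nd (.lf 0x6c213a4) (.lf 0)) (.nd (.lf 0x60380d3) (.lf 0))) (.nd (.nd (.lf 0xde476aa) (.lf 0)) (.nd (.lf 0x7f9ca11) (.lf 0))))) (.nd (.nd (.nd (.nd (.lf 0x37053fe) (.lf 0x2cbf7d0)) (.nd (.lf 0x35b3ec7) (.lf 0))) (.nd (.nd (.lf 0x15a990d) (.lf 0)) (.nd (.lf 0x7a4e733) (.lf 0)))) (.nd (.nd (.nd (.lf 0xdef3a30) (.lf 0)) (.nd (.lf 0x38167f6) (.lf 0))) (.nd (.nd (.lf 0x12dcc8d) (.lf 0)) (.nd (.lf 0xfa4de07) (.lf 0)))))))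
def qT_nbbbbbb : Tr := (.nd (.nd (.nd (.nd (.nd (.nd (.lf 0x46ac1b8) (.lf 0x45428d8)) (.nd (.lf 0x3e2c8e9) (.lf 0))) (.nd (.nd (.lf 0xb3c86f7) (.lf 0)) (.nd (.lf 0xd5d2f4d) (.lf 0)))) (.nd (.nd (.nd (.lf 0xb545964) (.lf 0)) (.nd (.lf 0x4744b13) (.lf 0))) (.nd (.nd (.lf 0x5e2d1c) (.lf 0)) (.nd (.lf 0xcf31adc) (.lf 0))))) (.nd (.nd (.nd (.nd (.lf 0xf89d331) (.lf 0xcfa4c4c)) (.nd (.lf 0xa7da08d) (.lf 0))) (.nd (.nd (.lf 0x35c8b9e) (.lf 0)) (.nd (.lf 0x2e10ea6) (.lf 0)))) (.nd (.nd (.nd (.lf 0xe289eeb) (.lf 0)) (.nd (.lf 0xae99f4a) (.lf 0))) (.nd (.nd (.lf 0x78c5b65) (.lf 0)) (.nd (.lf 0x9e74f5b) (.lf 0)))))) (.nd (.nd (.nd (.nd (.nd (.lf 0xd1ab90f) (.lf 0xec0e21f)) (.nd (.lf 0xd14ee1b) (.lf 0))) (.nd (.nd (.lf 0xd9cc728) (.lf 0))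 (.nd (.lf 0x22dbc6d) (.lf 0)))) (.nd (.nd (.nd (.lf 0x878e8a7) (.lf 0)) (.nd (.lf 0x25440a3) (.lf 0))) (.nd (.nd (.lf 0x6dff69b) (.lf 0)) (.nd (.lf 0x20ec46b) (.lf 0))))) (.nd (.nd (.nd (.nd (.lf 0x6d39cc7) (.lf 0x56338d3)) (.nd (.lf 0x55bc0db) (.lf 0))) (.nd (.nd (.lf 0x31e1e48) (.lf 0)) (.nd (.lf 0xb6d06a3) (.lf 0)))) (.nd (.nd (.nd (.lf 0xa70bc7c) (.lf 0)) (.nd (.lf 0x92b1f5d) (.lf 0))) (.nd (.nd (.lf 0x1702cdc) (.lf 0)) (.nd (.lf 0xb009c10) (.lf 0)))))))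
def qT : Tr := (.nd (.nd (.nd (.nd (.nd (.nd qT_naaaaaa qT_naaaaab) (.nd qT_naaaaba qT_naaaabb)) (.nd (.nd qT_naaabaa qT_naaabab) (.nd qT_naaabba qT_naaabbb))) (.nd (.nd (.nd qT_naabaaa qT_naabaab) (.nd qT_naababa qT_naababb)) (.nd (.nd qT_naabbaa qT_naabbab) (.nd qT_naabbba qT_naabbbb)))) (.nd (.nd (.nd (.nd qT_nabaaaa qT_nabaaab) (.nd qT_nabaaba qT_nabaabb)) (.nd (.nd qT_nababaa qT_nababab) (.nd qT_nababba qT_nababbb))) (.nd (.nd (.nd qT_nabbaaa qT_nabbaab) (.nd qT_nabbaba qT_nabbabb)) (.nd (.nd qT_nabbbaa qT_nabbbab) (.nd qT_nabbbba qT_nabbbbb))))) (.nd (.nd (.nd (.nd (.nd qT_nbaaaaa qT_nbaaaab) (.nd qT_nbaaaba qT_nbaaabb)) (.nd (.nd qT_nbaabaa qT_nbaabab) (.nd qT_nbaabba qT_nbaabbb))) (.nd (.nd (.nd qT_nbabaaa qT_nbabaab)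 (.nd qT_nbababa qT_nbababb)) (.nd (.nd qT_nbabbaa qT_nbabbab) (.nd qT_nbabbba qT_nbabbbb)))) (.nd (.nd (.nd (.nd qT_nbbaaaa qT_nbbaaab) (.nd qT_nbbaaba qT_nbbaabb)) (.nd (.nd qT_nbbabaa qT_nbbabab) (.nd qT_nbbabba qT_nbbabbb))) (.nd (.nd (.nd qT_nbbbaaa qT_nbbbaab) (.nd qT_nbbbaba qT_nbbbabb)) (.nd (.nd qT_nbbbbaa qT_nbbbbab) (.nd qT_nbbbbba qT_nbbbbbb))))))
def rkQ_naaaaaa : Tr := (.nd (.nd (.nd (.nd (.nd (.nd (.lf 0x0) (.lf 0x579)) (.nd (.lf 0x481) (.lf 0))) (.nd (.nd (.lf 0x5a4) (.lf 0)) (.nd (.lf 0x458) (.lf 0)))) (.nd (.nd (.nd (.lf 0x6c1) (.lf 0)) (.nd (.lf 0x5af) (.lf 0))) (.nd (.nd (.lf 0x589) (.lf 0)) (.nd (.lf 0x21) (.lf 0))))) (.nd (.nd (.nd (.nd (.lf 0x8a4) (.lf 0x755)) (.nd (.lf 0x2f6) (.lf 0))) (.nd (.nd (.lf 0x4d2)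 (.lf 0)) (.nd (.lf 0x4ef) (.lf 0)))) (.nd (.nd (.nd (.lf 0x34d) (.lf 0)) (.nd (.lf 0x830) (.lf 0))) (.nd (.nd (.lf 0x665) (.lf 0)) (.nd (.lf 0x18f) (.lf 0)))))) (.nd (.nd (.nd (.nd (.nd (.lf 0x26d) (.lf 0x3df)) (.nd (.lf 0x743) (.lf 0))) (.nd (.nd (.lf 0x748) (.lf 0)) (.nd (.lf 0x24a) (.lf 0)))) (.nd (.nd (.nd (.lf 0x213) (.lf 0)) (.nd (.lf 0x40c) (.lf 0))) (.nd (.nd (.lf 0x532) (.lf 0)) (.nd (.lf 0x2b5) (.lf 0))))) (.nd (.nd (.nd (.nd (.lf 0x549) (.lf 0x1fd)) (.nd (.lf 0x8cb) (.lf 0))) (.nd (.nd (.lf 0x7a2) (.lf 0)) (.nd (.lf 0x366) (.lf 0)))) (.nd (.nd (.nd (.lf 0x1bb) (.lf 0)) (.nd (.lf 0x16d) (.lf 0))) (.nd (.nd (.lf 0x4ce) (.lf 0)) (.nd (.lf 0x62d) (.lf 0)))))))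
def rkQ_naaaaab : Tr := (.nd (.nd (.nd (.nd (.nd (.nd (.lf 0x814) (.lf 0x142)) (.nd (.lf 0x2a2) (.lf 0))) (.nd (.nd (.lf 0x2ef) (.lf 0)) (.nd (.lf 0x153) (.lf 0)))) (.nd (.nd (.nd (.lf 0x370) (.lf 0)) (.nd (.lf 0x5e7) (.lf 0))) (.nd (.nd (.lf 0x385) (.lf 0)) (.nd (.lf 0x7c4) (.lf 0))))) (.nd (.nd (.nd (.nd (.lf 0x248) (.lf 0x78e)) (.nd (.lf 0x4f8) (.lf 0))) (.nd (.nd (.lf 0x7ad) (.lf 0)) (.nd (.lf 0x5ef) (.lf 0)))) (.nd (.nd (.nd (.lf 0x8db) (.lf 0)) (.nd (.lf 0x115) (.lf 0))) (.nd (.nd (.lf 0x67b) (.lf 0)) (.nd (.lf 0x4a5) (.lf 0)))))) (.nd (.nd (.nd (.nd (.nd (.lf 0x1f3) (.lf 0x259)) (.nd (.lf 0x8f1) (.lf 0))) (.nd (.nd (.lf 0x403) (.lf 0)) (.nd (.lf 0x1ec) (.lf 0)))) (.nd (.nd (.nd (.lf 0x649) (.lf 0)) (.nd (.lf 0x28b) (.lf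 0))) (.nd (.nd (.lf 0x225) (.lf 0)) (.nd (.lf 0x818) (.lf 0))))) (.nd (.nd (.nd (.nd (.lf 0x835) (.lf 0x25a)) (.nd (.lf 0x28a) (.lf 0))) (.nd (.nd (.lf 0x7e4) (.lf 0)) (.nd (.lf 0x1d0) (.lf 0)))) (.nd (.nd (.nd (.lf 0x6f) (.lf 0)) (.nd (.lf 0x625) (.lf 0))) (.nd (.nd (.lf 0x1cb) (.lf 0)) (.nd (.lf 0x3b) (.lf 0)))))))
def rkQ_naaaaba : Tr := (.nd (.nd (.nd (.nd (.nd (.nd (.lf 0x30a) (.lf 0x60a)) (.nd (.lf 0xc9) (.lf 0))) (.nd (.nd (.lf 0x1ed) (.lf 0)) (.nd (.lf 0xd7) (.lf 0)))) (.nd (.nd (.nd (.lf 0x7d2) (.lf 0)) (.nd (.lf 0x629) (.lf 0))) (.nd (.nd (.lf 0x621) (.lf 0)) (.nd (.lf 0x461) (.lf 0))))) (.nd (.nd (.nd (.nd (.lf 0x7b0) (.lf 0x8ac)) (.nd (.lf 0x38f) (.lf 0))) (.nd (.nd (.lf 0x4d7) (.lf 0)) (.nd (.lf 0x684) (.lf 0))))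 (.nd (.nd (.nd (.lf 0x314) (.lf 0)) (.nd (.lf 0x2d0) (.lf 0))) (.nd (.nd (.lf 0x35b) (.lf 0)) (.nd (.lf 0x2d4) (.lf 0)))))) (.nd (.nd (.nd (.nd (.nd (.lf 0x897) (.lf 0x98)) (.nd (.lf 0x704) (.lf 0))) (.nd (.nd (.lf 0x252) (.lf 0)) (.nd (.lf 0x567) (.lf 0)))) (.nd (.nd (.nd (.lf 0x5df) (.lf 0)) (.nd (.lf 0x5f6) (.lf 0))) (.nd (.nd (.lf 0x15) (.lf 0)) (.nd (.lf 0x5e2) (.lf 0))))) (.nd (.nd (.nd (.nd (.lf 0x4c8) (.lf 0x740)) (.nd (.lf 0x73e) (.lf 0))) (.nd (.nd (.lf 0x3b8) (.lf 0)) (.nd (.lf 0x869) (.lf 0)))) (.nd (.nd (.nd (.lf 0x270) (.lf 0)) (.nd (.lf 0x421) (.lf 0))) (.nd (.nd (.lf 0x6df) (.lf 0)) (.nd (.lf 0x608) (.lf 0)))))))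
def rkQ_naaaabb : Tr := (.nd (.nd (.nd (.nd (.nd (.nd (.lf 0x54a) (.lf 0x2df)) (.nd (.lf 0x6a) (.lf 0))) (.nd (.nd (.lf 0xcd) (.lf 0)) (.nd (.lf 0x55f) (.lf 0)))) (.nd (.nd (.nd (.lf 0xbb) (.lf 0)) (.nd (.lf 0x18a) (.lf 0))) (.nd (.nd (.lf 0x134) (.lf 0)) (.nd (.lf 0x113) (.lf 0))))) (.nd (.nd (.nd (.nd (.lf 0x449) (.lf 0x209)) (.nd (.lf 0x394) (.lf 0))) (.nd (.nd (.lf 0x118) (.lf 0)) (.nd (.lf 0x7e) (.lf 0)))) (.nd (.nd (.nd (.lf 0x885) (.lf 0)) (.nd (.lf 0x548) (.lf 0))) (.nd (.nd (.lf 0x3fb) (.lf 0)) (.nd (.lf 0x4fe) (.lf 0)))))) (.nd (.nd (.nd (.nd (.nd (.lf 0x77d) (.lf 0x2f7)) (.nd (.lf 0x191) (.lf 0))) (.nd (.nd (.lf 0x3f0) (.lf 0)) (.nd (.lf 0x6ec) (.lf 0)))) (.nd (.nd (.nd (.lf 0xff) (.lf 0)) (.nd (.lf 0x2a7) (.lf 0)))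 (.nd (.nd (.lf 0xed) (.lf 0)) (.nd (.lf 0x2ea) (.lf 0))))) (.nd (.nd (.nd (.nd (.lf 0x38a) (.lf 0x4fd)) (.nd (.lf 0x30b) (.lf 0))) (.nd (.nd (.lf 0x11a) (.lf 0)) (.nd (.lf 0x44e) (.lf 0)))) (.nd (.nd (.nd (.lf 0x1e2) (.lf 0)) (.nd (.lf 0x19f) (.lf 0))) (.nd (.nd (.lf 0x453) (.lf 0)) (.nd (.lf 0x6d5) (.lf 0)))))))
def rkQ_naaabaa : Tr := (.nd (.nd (.nd (.nd (.nd (.nd (.lf 0x76c) (.lf 0x82)) (.nd (.lf 0x8ca) (.lf 0))) (.nd (.nd (.lf 0x488) (.lf 0)) (.nd (.lf 0x8d0) (.lf 0)))) (.nd (.nd (.nd (.lf 0x61d) (.lf 0)) (.nd (.lf 0x51f) (.lf 0))) (.nd (.nd (.lf 0x33e) (.lf 0)) (.nd (.lf 0x5cd) (.lf 0))))) (.nd (.nd (.nd (.nd (.lf 0x4dc) (.lf 0x190)) (.nd (.lf 0x6a3) (.lf 0))) (.nd (.nd (.lf 0x805) (.lf 0)) (.nd (.lf 0x754) (.lf 0)))) (.nd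 (.nd (.nd (.lf 0x4ab) (.lf 0)) (.nd (.lf 0x24c) (.lf 0))) (.nd (.nd (.lf 0xf8) (.lf 0)) (.nd (.lf 0x559) (.lf 0)))))) (.nd (.nd (.nd (.nd (.nd (.lf 0x2b3) (.lf 0x492)) (.nd (.lf 0x3dc) (.lf 0))) (.nd (.nd (.lf 0x7d5) (.lf 0)) (.nd (.lf 0x889) (.lf 0)))) (.nd (.nd (.nd (.lf 0x4cc) (.lf 0)) (.nd (.lf 0x6ee) (.lf 0))) (.nd (.nd (.lf 0x59b) (.lf 0)) (.nd (.lf 0x7f2) (.lf 0))))) (.nd (.nd (.nd (.nd (.lf 0x2c8) (.lf 0x64f)) (.nd (.lf 0x269) (.lf 0))) (.nd (.nd (.lf 0x5f5) (.lf 0)) (.nd (.lf 0x1e9) (.lf 0)))) (.nd (.nd (.nd (.lf 0x8ff) (.lf 0)) (.nd (.lf 0x4b9) (.lf 0))) (.nd (.nd (.lf 0x874) (.lf 0)) (.nd (.lf 0x3e9) (.lf 0)))))))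
def rkQ_naaabab : Tr := (.nd (.nd (.nd (.nd (.nd (.nd (.lf 0x82e) (.lf 0x360)) (.nd (.lf 0x229) (.lf 0))) (.nd (.nd (.lf 0x880) (.lf 0)) (.nd (.lf 0x6fc) (.lf 0)))) (.nd (.nd (.nd (.lf 0x44a) (.lf 0)) (.nd (.lf 0x605) (.lf 0))) (.nd (.nd (.lf 0x686) (.lf 0)) (.nd (.lf 0xc6) (.lf 0))))) (.nd (.nd (.nd (.nd (.lf 0x7ca) (.lf 0x8f2)) (.nd (.lf 0x4f4) (.lf 0))) (.nd (.nd (.lf 0x343) (.lf 0)) (.nd (.lf 0x670) (.lf 0)))) (.nd (.nd (.nd (.lf 0x8c7) (.lf 0)) (.nd (.lf 0x97) (.lf 0))) (.nd (.nd (.lf 0x8c9) (.lf 0)) (.nd (.lf 0x812) (.lf 0)))))) (.nd (.nd (.nd (.nd (.nd (.lf 0x5e1) (.lf 0x10f)) (.nd (.lf 0x273) (.lf 0))) (.nd (.nd (.lf 0x849) (.lf 0)) (.nd (.lf 0x714) (.lf 0)))) (.nd (.nd (.nd (.lf 0x2de) (.lf 0)) (.nd (.lf 0x775) (.lf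 0))) (.nd (.nd (.lf 0x37f) (.lf 0)) (.nd (.lf 0x36f) (.lf 0))))) (.nd (.nd (.nd (.nd (.lf 0x855) (.lf 0x4b0)) (.nd (.lf 0x4b2) (.lf 0))) (.nd (.nd (.lf 0x32) (.lf 0)) (.nd (.lf 0x7b2) (.lf 0)))) (.nd (.nd (.nd (.lf 0x8e9) (.lf 0)) (.nd (.lf 0x35) (.lf 0))) (.nd (.nd (.lf 0x17) (.lf 0)) (.nd (.lf 0x75e) (.lf 0)))))))
def rkQ_naaabba : Tr := (.nd (.nd (.nd (.nd (.nd (.nd (.lf 0x322) (.lf 0xe)) (.nd (.lf 0x4a2) (.lf 0))) (.nd (.nd (.lf 0x24d) (.lf 0)) (.nd (.lf 0x87a) (.lf 0)))) (.nd (.nd (.nd (.lf 0x40d) (.lf 0)) (.nd (.lf 0xd6) (.lf 0))) (.nd (.nd (.lf 0x172) (.lf 0)) (.nd (.lf 0x682) (.lf 0))))) (.nd (.nd (.nd (.nd (.lf 0x592) (.lf 0x6af)) (.nd (.lf 0x7d) (.lf 0))) (.nd (.nd (.lf 0x64d) (.lf 0)) (.nd (.lf 0x2ee) (.lf 0)))) (.nd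 (.nd (.nd (.lf 0x286) (.lf 0)) (.nd (.lf 0x886) (.lf 0))) (.nd (.nd (.lf 0x51d) (.lf 0)) (.nd (.lf 0x1ca) (.lf 0)))))) (.nd (.nd (.nd (.nd (.nd (.lf 0x57a) (.lf 0x1ef)) (.nd (.lf 0x834) (.lf 0))) (.nd (.nd (.lf 0xa) (.lf 0)) (.nd (.lf 0x250) (.lf 0)))) (.nd (.nd (.nd (.lf 0x1f9) (.lf 0)) (.nd (.lf 0x580) (.lf 0))) (.nd (.nd (.lf 0x8be) (.lf 0)) (.nd (.lf 0x6b0) (.lf 0))))) (.nd (.nd (.nd (.nd (.lf 0x149) (.lf 0xc3)) (.nd (.lf 0x59) (.lf 0))) (.nd (.nd (.lf 0x5ff) (.lf 0)) (.nd (.lf 0xf6) (.lf 0)))) (.nd (.nd (.nd (.lf 0x38d) (.lf 0)) (.nd (.lf 0x57) (.lf 0))) (.nd (.nd (.lf 0x27c) (.lf 0)) (.nd (.lf 0x60d) (.lf 0)))))))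
def rkQ_naaabbb : Tr := (.nd (.nd (.nd (.nd (.nd (.nd (.lf 0x7ff) (.lf 0x8b6)) (.nd (.lf 0x382) (.lf 0))) (.nd (.nd (.lf 0x1f5) (.lf 0)) (.nd (.lf 0x12) (.lf 0)))) (.nd (.nd (.nd (.lf 0x797) (.lf 0)) (.nd (.lf 0x544) (.lf 0))) (.nd (.nd (.lf 0x284) (.lf 0)) (.nd (.lf 0xe3) (.lf 0))))) (.nd (.nd (.nd (.nd (.lf 0x486) (.lf 0x562)) (.nd (.lf 0x10a) (.lf 0))) (.nd (.nd (.lf 0x576) (.lf 0)) (.nd (.lf 0x71a) (.lf 0)))) (.nd (.nd (.nd (.lf 0x713) (.lf 0)) (.nd (.lf 0x5da) (.lf 0))) (.nd (.nd (.lf 0x1f4) (.lf 0)) (.nd (.lf 0x3e7) (.lf 0)))))) (.nd (.nd (.nd (.nd (.nd (.lf 0xc4) (.lf 0x574)) (.nd (.lf 0x446) (.lf 0))) (.nd (.nd (.lf 0x434) (.lf 0)) (.nd (.lf 0x744) (.lf 0)))) (.nd (.nd (.nd (.lf 0xd4) (.lf 0)) (.nd (.lf 0x439) (.lf 0)))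 (.nd (.nd (.lf 0x4d) (.lf 0)) (.nd (.lf 0x613) (.lf 0))))) (.nd (.nd (.nd (.nd (.lf 0x6a8) (.lf 0x31f)) (.nd (.lf 0x893) (.lf 0))) (.nd (.nd (.lf 0x4fa) (.lf 0)) (.nd (.lf 0x527) (.lf 0)))) (.nd (.nd (.nd (.lf 0x454) (.lf 0)) (.nd (.lf 0x881) (.lf 0))) (.nd (.nd (.lf 0x841) (.lf 0)) (.nd (.lf 0x750) (.lf 0)))))))
def rkQ_naabaaa : Tr := (.nd (.nd (.nd (.nd (.nd (.nd (.lf 0x334) (.lf 0x8a6)) (.nd (.lf 0x42) (.lf 0))) (.nd (.nd (.lf 0x697) (.lf 0)) (.nd (.lf 0x3c4) (.lf 0)))) (.nd (.nd (.nd (.lf 0x2f4) (.lf 0)) (.nd (.lf 0x8c6) (.lf 0))) (.nd (.nd (.lf 0x406) (.lf 0)) (.nd (.lf 0x304) (.lf 0))))) (.nd (.nd (.nd (.nd (.lf 0xb0) (.lf 0x402)) (.nd (.lf 0x18d) (.lf 0))) (.nd (.nd (.lf 0x78c) (.lf 0)) (.nd (.lf 0x39e) (.lf 0)))) (.nd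 (.nd (.nd (.lf 0x12d) (.lf 0)) (.nd (.lf 0x4e6) (.lf 0))) (.nd (.nd (.lf 0x415) (.lf 0)) (.nd (.lf 0x2f2) (.lf 0)))))) (.nd (.nd (.nd (.nd (.nd (.lf 0x178) (.lf 0x1c6)) (.nd (.lf 0x182) (.lf 0))) (.nd (.nd (.lf 0x33d) (.lf 0)) (.nd (.lf 0x11c) (.lf 0)))) (.nd (.nd (.nd (.lf 0x8b5) (.lf 0)) (.nd (.lf 0x315) (.lf 0))) (.nd (.nd (.lf 0x5cb) (.lf 0)) (.nd (.lf 0x4e0) (.lf 0))))) (.nd (.nd (.nd (.nd (.lf 0x6b3) (.lf 0x5ae)) (.nd (.lf 0x34f) (.lf 0))) (.nd (.nd (.lf 0x14f) (.lf 0)) (.nd (.lf 0x337) (.lf 0)))) (.nd (.nd (.nd (.lf 0x201) (.lf 0)) (.nd (.lf 0x30c) (.lf 0))) (.nd (.nd (.lf 0x68e) (.lf 0)) (.nd (.lf 0x63b) (.lf 0)))))))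
def rkQ_naabaab : Tr := (.nd (.nd (.nd (.nd (.nd (.nd (.lf 0x815) (.lf 0xe4)) (.nd (.lf 0x7c0) (.lf 0))) (.nd (.nd (.lf 0x4c3) (.lf 0)) (.nd (.lf 0x80c) (.lf 0)))) (.nd (.nd (.nd (.lf 0x6cf) (.lf 0)) (.nd (.lf 0x53b) (.lf 0))) (.nd (.nd (.lf 0x7a) (.lf 0)) (.nd (.lf 0x42f) (.lf 0))))) (.nd (.nd (.nd (.nd (.lf 0x5c8) (.lf 0x734)) (.nd (.lf 0x54d) (.lf 0))) (.nd (.nd (.lf 0x3de) (.lf 0)) (.nd (.lf 0x170) (.lf 0)))) (.nd (.nd (.nd (.lf 0x3f3) (.lf 0)) (.nd (.lf 0x1a2) (.lf 0))) (.nd (.nd (.lf 0x3e2) (.lf 0)) (.nd (.lf 0x7d1) (.lf 0)))))) (.nd (.nd (.nd (.nd (.nd (.lf 0x5ac) (.lf 0x74b)) (.nd (.lf 0x6ff) (.lf 0))) (.nd (.nd (.lf 0x70c) (.lf 0)) (.nd (.lf 0x39a) (.lf 0)))) (.nd (.nd (.nd (.lf 0x600) (.lf 0)) (.nd (.lf 0x80e) (.lf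 0))) (.nd (.nd (.lf 0x287) (.lf 0)) (.nd (.lf 0x3d4) (.lf 0))))) (.nd (.nd (.nd (.nd (.lf 0x437) (.lf 0x386)) (.nd (.lf 0x3a9) (.lf 0))) (.nd (.nd (.lf 0x3e) (.lf 0)) (.nd (.lf 0x91) (.lf 0)))) (.nd (.nd (.nd (.lf 0x51c) (.lf 0)) (.nd (.lf 0x627) (.lf 0))) (.nd (.nd (.lf 0x3a) (.lf 0)) (.nd (.lf 0xfa) (.lf 0)))))))
def rkQ_naababa : Tr := (.nd (.nd (.nd (.nd (.nd (.nd (.lf 0x8bf) (.lf 0x19b)) (.nd (.lf 0x6e5) (.lf 0))) (.nd (.nd (.lf 0x65) (.lf 0)) (.nd (.lf 0x131) (.lf 0)))) (.nd (.nd (.nd (.lf 0x13f) (.lf 0)) (.nd (.lf 0x5f3) (.lf 0))) (.nd (.nd (.lf 0x4e4) (.lf 0)) (.nd (.lf 0x63d) (.lf 0))))) (.nd (.nd (.nd (.nd (.lf 0x77a) (.lf 0x7e7)) (.nd (.lf 0x6e0) (.lf 0))) (.nd (.nd (.lf 0x843) (.lf 0)) (.nd (.lf 0x167) (.lf 0))))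 (.nd (.nd (.nd (.lf 0x19d) (.lf 0)) (.nd (.lf 0x76) (.lf 0))) (.nd (.nd (.lf 0x388) (.lf 0)) (.nd (.lf 0x524) (.lf 0)))))) (.nd (.nd (.nd (.nd (.nd (.lf 0x2c5) (.lf 0x2ab)) (.nd (.lf 0x641) (.lf 0))) (.nd (.nd (.lf 0x691) (.lf 0)) (.nd (.lf 0x1c1) (.lf 0)))) (.nd (.nd (.nd (.lf 0x6d2) (.lf 0)) (.nd (.lf 0x88e) (.lf 0))) (.nd (.nd (.lf 0x196) (.lf 0)) (.nd (.lf 0x120) (.lf 0))))) (.nd (.nd (.nd (.nd (.lf 0x891) (.lf 0x4dd)) (.nd (.lf 0x452) (.lf 0))) (.nd (.nd (.lf 0x20a) (.lf 0)) (.nd (.lf 0x2af) (.lf 0)))) (.nd (.nd (.nd (.lf 0x827) (.lf 0)) (.nd (.lf 0x267) (.lf 0))) (.nd (.nd (.lf 0x2a3) (.lf 0)) (.nd (.lf 0x2f9) (.lf 0)))))))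
def rkQ_naababb : Tr := (.nd (.nd (.nd (.nd (.nd (.nd (.lf 0x81) (.lf 0x393)) (.nd (.lf 0x5d3) (.lf 0))) (.nd (.nd (.lf 0x8dc) (.lf 0)) (.nd (.lf 0x8c2) (.lf 0)))) (.nd (.nd (.nd (.lf 0x141) (.lf 0)) (.nd (.lf 0x214) (.lf 0))) (.nd (.nd (.lf 0x7eb) (.lf 0)) (.nd (.lf 0x1af) (.lf 0))))) (.nd (.nd (.nd (.nd (.lf 0x7a9) (.lf 0xdd)) (.nd (.lf 0x14b) (.lf 0))) (.nd (.nd (.lf 0x39) (.lf 0)) (.nd (.lf 0x28f) (.lf 0)))) (.nd (.nd (.nd (.lf 0x1ea) (.lf 0)) (.nd (.lf 0x88) (.lf 0))) (.nd (.nd (.lf 0x655) (.lf 0)) (.nd (.lf 0x73) (.lf 0)))))) (.nd (.nd (.nd (.nd (.nd (.lf 0x53c) (.lf 0x2d)) (.nd (.lf 0x705) (.lf 0))) (.nd (.nd (.lf 0x4b) (.lf 0)) (.nd (.lf 0x494) (.lf 0)))) (.nd (.nd (.nd (.lf 0x6bb) (.lf 0)) (.nd (.lf 0x8ae) (.lf 0)))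 (.nd (.nd (.lf 0x251) (.lf 0)) (.nd (.lf 0x3e3) (.lf 0))))) (.nd (.nd (.nd (.nd (.lf 0x892) (.lf 0x69)) (.nd (.lf 0x470) (.lf 0))) (.nd (.nd (.lf 0x3d1) (.lf 0)) (.nd (.lf 0x787) (.lf 0)))) (.nd (.nd (.nd (.lf 0x2c2) (.lf 0)) (.nd (.lf 0x5f7) (.lf 0))) (.nd (.nd (.lf 0x1c0) (.lf 0)) (.nd (.lf 0x4e2) (.lf 0)))))))
def rkQ_naabbaa : Tr := (.nd (.nd (.nd (.nd (.nd (.nd (.lf 0xec) (.lf 0x36c)) (.nd (.lf 0x499) (.lf 0))) (.nd (.nd (.lf 0x6c) (.lf 0)) (.nd (.lf 0x5ca) (.lf 0)))) (.nd (.nd (.nd (.lf 0x72c) (.lf 0)) (.nd (.lf 0x277) (.lf 0))) (.nd (.nd (.lf 0x223) (.lf 0)) (.nd (.lf 0x342) (.lf 0))))) (.nd (.nd (.nd (.nd (.lf 0xa9) (.lf 0xc7)) (.nd (.lf 0x782) (.lf 0))) (.nd (.nd (.lf 0x1ae) (.lf 0)) (.nd (.lf 0x61a) (.lf 0)))) (.nd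 (.nd (.nd (.lf 0x409) (.lf 0)) (.nd (.lf 0x735) (.lf 0))) (.nd (.nd (.lf 0x9a) (.lf 0)) (.nd (.lf 0x4b7) (.lf 0)))))) (.nd (.nd (.nd (.nd (.nd (.lf 0x7c5) (.lf 0x7f8)) (.nd (.lf 0x459) (.lf 0))) (.nd (.nd (.lf 0x17e) (.lf 0)) (.nd (.lf 0x64e) (.lf 0)))) (.nd (.nd (.nd (.lf 0x74c) (.lf 0)) (.nd (.lf 0x7c1) (.lf 0))) (.nd (.nd (.lf 0x61e) (.lf 0)) (.nd (.lf 0xd2) (.lf 0))))) (.nd (.nd (.nd (.nd (.lf 0x56a) (.lf 0x848)) (.nd (.lf 0x5bf) (.lf 0))) (.nd (.nd (.lf 0x26b) (.lf 0)) (.nd (.lf 0x4ee) (.lf 0)))) (.nd (.nd (.nd (.lf 0x20c) (.lf 0)) (.nd (.lf 0x476) (.lf 0))) (.nd (.nd (.lf 0x599) (.lf 0)) (.nd (.lf 0x5cf) (.lf 0)))))))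
def rkQ_naabbab : Tr := (.nd (.nd (.nd (.nd (.nd (.nd (.lf 0xf9) (.lf 0x44)) (.nd (.lf 0x198) (.lf 0))) (.nd (.nd (.lf 0x29d) (.lf 0)) (.nd (.lf 0x88b) (.lf 0)))) (.nd (.nd (.nd (.lf 0x5f9) (.lf 0)) (.nd (.lf 0x60) (.lf 0))) (.nd (.nd (.lf 0x33f) (.lf 0)) (.nd (.lf 0x7) (.lf 0))))) (.nd (.nd (.nd (.nd (.lf 0x59a) (.lf 0x603)) (.nd (.lf 0x6f0) (.lf 0))) (.nd (.nd (.lf 0x7f6) (.lf 0)) (.nd (.lf 0xe1) (.lf 0)))) (.nd (.nd (.nd (.lf 0x81a) (.lf 0)) (.nd (.lf 0x8b8) (.lf 0))) (.nd (.nd (.lf 0x29a) (.lf 0)) (.nd (.lf 0x8e5) (.lf 0)))))) (.nd (.nd (.nd (.nd (.nd (.lf 0x871) (.lf 0x715)) (.nd (.lf 0x84b) (.lf 0))) (.nd (.nd (.lf 0x833) (.lf 0)) (.nd (.lf 0x24) (.lf 0)))) (.nd (.nd (.nd (.lf 0x56d) (.lf 0)) (.nd (.lf 0x8bb) (.lf 0)))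 (.nd (.nd (.lf 0x2b2) (.lf 0)) (.nd (.lf 0x72a) (.lf 0))))) (.nd (.nd (.nd (.nd (.lf 0x324) (.lf 0x2e7)) (.nd (.lf 0x612) (.lf 0))) (.nd (.nd (.lf 0x462) (.lf 0)) (.nd (.lf 0x572) (.lf 0)))) (.nd (.nd (.nd (.lf 0x228) (.lf 0)) (.nd (.lf 0x3dd) (.lf 0))) (.nd (.nd (.lf 0xc0) (.lf 0)) (.nd (.lf 0x77c) (.lf 0)))))))
def rkQ_naabbba : Tr := (.nd (.nd (.nd (.nd (.nd (.nd (.lf 0x771) (.lf 0x70b)) (.nd (.lf 0x171) (.lf 0))) (.nd (.nd (.lf 0x125) (.lf 0)) (.nd (.lf 0x93) (.lf 0)))) (.nd (.nd (.nd (.lf 0x257) (.lf 0)) (.nd (.lf 0x3d9) (.lf 0))) (.nd (.nd (.lf 0x663) (.lf 0)) (.nd (.lf 0x6) (.lf 0))))) (.nd (.nd (.nd (.nd (.lf 0x521) (.lf 0x5fd)) (.nd (.lf 0x48f) (.lf 0))) (.nd (.nd (.lf 0x3f7) (.lf 0)) (.nd (.lf 0x728) (.lf 0)))) (.nd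 (.nd (.nd (.lf 0x738) (.lf 0)) (.nd (.lf 0x246) (.lf 0))) (.nd (.nd (.lf 0xce) (.lf 0)) (.nd (.lf 0x79b) (.lf 0)))))) (.nd (.nd (.nd (.nd (.nd (.lf 0x5c9) (.lf 0x61b)) (.nd (.lf 0x64) (.lf 0))) (.nd (.nd (.lf 0x57b) (.lf 0)) (.nd (.lf 0x774) (.lf 0)))) (.nd (.nd (.nd (.lf 0x5e6) (.lf 0)) (.nd (.lf 0x352) (.lf 0))) (.nd (.nd (.lf 0x173) (.lf 0)) (.nd (.lf 0x817) (.lf 0))))) (.nd (.nd (.nd (.nd (.lf 0x121) (.lf 0x86c)) (.nd (.lf 0x6ba) (.lf 0))) (.nd (.nd (.lf 0x2d2) (.lf 0)) (.nd (.lf 0x6eb) (.lf 0)))) (.nd (.nd (.nd (.lf 0x25c) (.lf 0)) (.nd (.lf 0xf3) (.lf 0))) (.nd (.nd (.lf 0x6a2) (.lf 0)) (.nd (.lf 0x8bd) (.lf 0)))))))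
def rkQ_naabbbb : Tr := (.nd (.nd (.nd (.nd (.nd (.nd (.lf 0x575) (.lf 0x34)) (.nd (.lf 0x490) (.lf 0))) (.nd (.nd (.lf 0x106) (.lf 0)) (.nd (.lf 0x410) (.lf 0)))) (.nd (.nd (.nd (.lf 0x5a1) (.lf 0)) (.nd (.lf 0x506) (.lf 0))) (.nd (.nd (.lf 0xc) (.lf 0)) (.nd (.lf 0x678) (.lf 0))))) (.nd (.nd (.nd (.nd (.lf 0x62f) (.lf 0x85e)) (.nd (.lf 0x168) (.lf 0))) (.nd (.nd (.lf 0x24f) (.lf 0)) (.nd (.lf 0x78a) (.lf 0)))) (.nd (.nd (.nd (.lf 0x1f7) (.lf 0)) (.nd (.lf 0x245) (.lf 0))) (.nd (.nd (.lf 0x859) (.lf 0)) (.nd (.lf 0x504) (.lf 0)))))) (.nd (.nd (.nd (.nd (.nd (.lf 0x2a) (.lf 0x407)) (.nd (.lf 0x638) (.lf 0))) (.nd (.nd (.lf 0xe5) (.lf 0)) (.nd (.lf 0x49c) (.lf 0)))) (.nd (.nd (.nd (.lf 0xf5) (.lf 0)) (.nd (.lf 0x390) (.lf 0)))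 (.nd (.nd (.lf 0x27a) (.lf 0)) (.nd (.lf 0x813) (.lf 0))))) (.nd (.nd (.nd (.nd (.lf 0x103) (.lf 0x763)) (.nd (.lf 0x44b) (.lf 0))) (.nd (.nd (.lf 0x338) (.lf 0)) (.nd (.lf 0x858) (.lf 0)))) (.nd (.nd (.nd (.lf 0x22c) (.lf 0)) (.nd (.lf 0x1f0) (.lf 0))) (.nd (.nd (.lf 0x19a) (.lf 0)) (.nd (.lf 0x622) (.lf 0)))))))
def rkQ_nabaaaa : Tr := (.nd (.nd (.nd (.nd (.nd (.nd (.lf 0x210) (.lf 0x3c9)) (.nd (.lf 0x5e3) (.lf 0))) (.nd (.nd (.lf 0x887) (.lf 0)) (.nd (.lf 0x4df) (.lf 0)))) (.nd (.nd (.nd (.lf 0x3ab) (.lf 0)) (.nd (.lf 0x6fa) (.lf 0))) (.nd (.nd (.lf 0x546) (.lf 0)) (.nd (.lf 0x180) (.lf 0))))) (.nd (.nd (.nd (.nd (.lf 0x83d) (.lf 0x1dd)) (.nd (.lf 0x5bc) (.lf 0))) (.nd (.nd (.lf 0x1ad) (.lf 0)) (.nd (.lf 0x1d7) (.lf 0))))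 (.nd (.nd (.nd (.lf 0x68f) (.lf 0)) (.nd (.lf 0x10) (.lf 0))) (.nd (.nd (.lf 0x3af) (.lf 0)) (.nd (.lf 0xa4) (.lf 0)))))) (.nd (.nd (.nd (.nd (.nd (.lf 0x7ec) (.lf 0x46c)) (.nd (.lf 0x770) (.lf 0))) (.nd (.nd (.lf 0x836) (.lf 0)) (.nd (.lf 0x2ba) (.lf 0)))) (.nd (.nd (.nd (.lf 0x615) (.lf 0)) (.nd (.lf 0x784) (.lf 0))) (.nd (.nd (.lf 0x63f) (.lf 0)) (.nd (.lf 0x792) (.lf 0))))) (.nd (.nd (.nd (.nd (.lf 0x6d) (.lf 0x135)) (.nd (.lf 0x588) (.lf 0))) (.nd (.nd (.lf 0x6cc) (.lf 0)) (.nd (.lf 0x311) (.lf 0)))) (.nd (.nd (.nd (.lf 0x674) (.lf 0)) (.nd (.lf 0x631) (.lf 0))) (.nd (.nd (.lf 0xef) (.lf 0)) (.nd (.lf 0x2b6) (.lf 0)))))))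
def rkQ_nabaaab : Tr := (.nd (.nd (.nd (.nd (.nd (.nd (.lf 0x441) (.lf 0x822)) (.nd (.lf 0xf1) (.lf 0))) (.nd (.nd (.lf 0x485) (.lf 0)) (.nd (.lf 0x64c) (.lf 0)))) (.nd (.nd (.nd (.lf 0x578) (.lf 0)) (.nd (.lf 0x611) (.lf 0))) (.nd (.nd (.lf 0x2b1) (.lf 0)) (.nd (.lf 0x8b4) (.lf 0))))) (.nd (.nd (.nd (.nd (.lf 0x6c4) (.lf 0x33)) (.nd (.lf 0x6cd) (.lf 0))) (.nd (.nd (.lf 0x7b4) (.lf 0)) (.nd (.lf 0x875) (.lf 0)))) (.nd (.nd (.nd (.lf 0x593) (.lf 0)) (.nd (.lf 0x3c6) (.lf 0))) (.nd (.nd (.lf 0x54e) (.lf 0)) (.nd (.lf 0x1dc) (.lf 0)))))) (.nd (.nd (.nd (.nd (.nd (.lf 0x3c8) (.lf 0x688)) (.nd (.lf 0xac) (.lf 0))) (.nd (.nd (.lf 0x2cb) (.lf 0)) (.nd (.lf 0x7c3) (.lf 0)))) (.nd (.nd (.nd (.lf 0x231) (.lf 0)) (.nd (.lf 0x74e) (.lf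 0))) (.nd (.nd (.lf 0x258) (.lf 0)) (.nd (.lf 0x5c4) (.lf 0))))) (.nd (.nd (.nd (.nd (.lf 0x200) (.lf 0x1bd)) (.nd (.lf 0x52b) (.lf 0))) (.nd (.nd (.lf 0x69f) (.lf 0)) (.nd (.lf 0x9b) (.lf 0)))) (.nd (.nd (.nd (.lf 0x162) (.lf 0)) (.nd (.lf 0x77f) (.lf 0))) (.nd (.nd (.lf 0x7ae) (.lf 0)) (.nd (.lf 0x632) (.lf 0)))))))
def rkQ_nabaaba : Tr := (.nd (.nd (.nd (.nd (.nd (.nd (.lf 0x356) (.lf 0x82f)) (.nd (.lf 0x769) (.lf 0))) (.nd (.nd (.lf 0x145) (.lf 0)) (.nd (.lf 0x26a) (.lf 0)))) (.nd (.nd (.nd (.lf 0x7a7) (.lf 0)) (.nd (.lf 0x49e) (.lf 0))) (.nd (.nd (.lf 0x698) (.lf 0)) (.nd (.lf 0x609) (.lf 0))))) (.nd (.nd (.nd (.nd (.lf 0xfd) (.lf 0x8b1)) (.nd (.lf 0xb3) (.lf 0))) (.nd (.nd (.lf 0x2e1) (.lf 0)) (.nd (.lf 0x821) (.lf 0))))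 (.nd (.nd (.nd (.lf 0x2fe) (.lf 0)) (.nd (.lf 0x50f) (.lf 0))) (.nd (.nd (.lf 0x1da) (.lf 0)) (.nd (.lf 0x4c2) (.lf 0)))))) (.nd (.nd (.nd (.nd (.nd (.lf 0x71d) (.lf 0x351)) (.nd (.lf 0x3b4) (.lf 0))) (.nd (.nd (.lf 0x2be) (.lf 0)) (.nd (.lf 0x183) (.lf 0)))) (.nd (.nd (.nd (.lf 0x6a7) (.lf 0)) (.nd (.lf 0x1ce) (.lf 0))) (.nd (.nd (.lf 0x43f) (.lf 0)) (.nd (.lf 0x776) (.lf 0))))) (.nd (.nd (.nd (.nd (.lf 0x8e3) (.lf 0x554)) (.nd (.lf 0x8e6) (.lf 0))) (.nd (.nd (.lf 0x99) (.lf 0)) (.nd (.lf 0x68c) (.lf 0)))) (.nd (.nd (.nd (.lf 0x50a) (.lf 0)) (.nd (.lf 0x2f0) (.lf 0))) (.nd (.nd (.lf 0x4c1) (.lf 0)) (.nd (.lf 0x598) (.lf 0)))))))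
def rkQ_nabaabb : Tr := (.nd (.nd (.nd (.nd (.nd (.nd (.lf 0x88a) (.lf 0x4ac)) (.nd (.lf 0x5bd) (.lf 0))) (.nd (.nd (.lf 0x81d) (.lf 0)) (.nd (.lf 0x413) (.lf 0)))) (.nd (.nd (.nd (.lf 0x143) (.lf 0)) (.nd (.lf 0x22e) (.lf 0))) (.nd (.nd (.lf 0x5aa) (.lf 0)) (.nd (.lf 0x4bb) (.lf 0))))) (.nd (.nd (.nd (.nd (.lf 0x423) (.lf 0x16a)) (.nd (.lf 0x72b) (.lf 0))) (.nd (.nd (.lf 0x4c0) (.lf 0)) (.nd (.lf 0x39d) (.lf 0)))) (.nd (.nd (.nd (.lf 0x863) (.lf 0)) (.nd (.lf 0x3bd) (.lf 0))) (.nd (.nd (.lf 0x7a0) (.lf 0)) (.nd (.lf 0x656) (.lf 0)))))) (.nd (.nd (.nd (.nd (.nd (.lf 0x52d) (.lf 0x23a)) (.nd (.lf 0x503) (.lf 0))) (.nd (.nd (.lf 0x309) (.lf 0)) (.nd (.lf 0x3a7) (.lf 0)))) (.nd (.nd (.nd (.lf 0x83a) (.lf 0)) (.nd (.lf 0x72f) (.lf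 0))) (.nd (.nd (.lf 0x57f) (.lf 0)) (.nd (.lf 0x3d7) (.lf 0))))) (.nd (.nd (.nd (.nd (.lf 0xdc) (.lf 0x307)) (.nd (.lf 0x7de) (.lf 0))) (.nd (.nd (.lf 0x709) (.lf 0)) (.nd (.lf 0x56e) (.lf 0)))) (.nd (.nd (.nd (.lf 0x8b2) (.lf 0)) (.nd (.lf 0x2ac) (.lf 0))) (.nd (.nd (.lf 0x224) (.lf 0)) (.nd (.lf 0x233) (.lf 0)))))))
def rkQ_nababaa : Tr := (.nd (.nd (.nd (.nd (.nd (.nd (.lf 0x68b) (.lf 0x2c1)) (.nd (.lf 0x43b) (.lf 0))) (.nd (.nd (.lf 0x55e) (.lf 0)) (.nd (.lf 0x2fa) (.lf 0)))) (.nd (.nd (.nd (.lf 0x529) (.lf 0)) (.nd (.lf 0x1) (.lf 0))) (.nd (.nd (.lf 0x15d) (.lf 0)) (.nd (.lf 0x515) (.lf 0))))) (.nd (.nd (.nd (.nd (.lf 0x4fb) (.lf 0x8ee)) (.nd (.lf 0x16b) (.lf 0))) (.nd (.nd (.lf 0x5dd) (.lf 0)) (.nd (.lf 0x3cd) (.lf 0))))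 (.nd (.nd (.nd (.lf 0x1a) (.lf 0)) (.nd (.lf 0x4c6) (.lf 0))) (.nd (.nd (.lf 0x7b3) (.lf 0)) (.nd (.lf 0x43d) (.lf 0)))))) (.nd (.nd (.nd (.nd (.nd (.lf 0x8f0) (.lf 0xfb)) (.nd (.lf 0x5b4) (.lf 0))) (.nd (.nd (.lf 0x89c) (.lf 0)) (.nd (.lf 0x244) (.lf 0)))) (.nd (.nd (.nd (.lf 0x96) (.lf 0)) (.nd (.lf 0x146) (.lf 0))) (.nd (.nd (.lf 0xf2) (.lf 0)) (.nd (.lf 0x6ea) (.lf 0))))) (.nd (.nd (.nd (.nd (.lf 0x2e6) (.lf 0x890)) (.nd (.lf 0x45b) (.lf 0))) (.nd (.nd (.lf 0x5d) (.lf 0)) (.nd (.lf 0x57d) (.lf 0)))) (.nd (.nd (.nd (.lf 0x536) (.lf 0)) (.nd (.lf 0x71f) (.lf 0))) (.nd (.nd (.lf 0x531) (.lf 0)) (.nd (.lf 0x357) (.lf 0)))))))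
def rkQ_nababab : Tr := (.nd (.nd (.nd (.nd (.nd (.nd (.lf 0x1eb) (.lf 0x11f)) (.nd (.lf 0x89a) (.lf 0))) (.nd (.nd (.lf 0x2bc) (.lf 0)) (.nd (.lf 0x8cc) (.lf 0)))) (.nd (.nd (.nd (.lf 0x68a) (.lf 0)) (.nd (.lf 0x43c) (.lf 0))) (.nd (.nd (.lf 0x8e7) (.lf 0)) (.nd (.lf 0x442) (.lf 0))))) (.nd (.nd (.nd (.nd (.lf 0x820) (.lf 0x537)) (.nd (.lf 0x80d) (.lf 0))) (.nd (.nd (.lf 0x1c3) (.lf 0)) (.nd (.lf 0x49) (.lf 0)))) (.nd (.nd (.nd (.lf 0x597) (.lf 0)) (.nd (.lf 0x296) (.lf 0))) (.nd (.nd (.lf 0x73d) (.lf 0)) (.nd (.lf 0x623) (.lf 0)))))) (.nd (.nd (.nd (.nd (.nd (.lf 0x50c) (.lf 0x4d5)) (.nd (.lf 0x79a) (.lf 0))) (.nd (.nd (.lf 0x22d) (.lf 0)) (.nd (.lf 0x31d) (.lf 0)))) (.nd (.nd (.nd (.lf 0xdb) (.lf 0)) (.nd (.lf 0x16e) (.lf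 0))) (.nd (.nd (.lf 0x241) (.lf 0)) (.nd (.lf 0x54) (.lf 0))))) (.nd (.nd (.nd (.nd (.lf 0x21c) (.lf 0x7fd)) (.nd (.lf 0x47) (.lf 0))) (.nd (.nd (.lf 0x57e) (.lf 0)) (.nd (.lf 0x842) (.lf 0)))) (.nd (.nd (.nd (.lf 0x254) (.lf 0)) (.nd (.lf 0x102) (.lf 0))) (.nd (.nd (.lf 0x7a1) (.lf 0)) (.nd (.lf 0x179) (.lf 0)))))))
def rkQ_nababba : Tr := (.nd (.nd (.nd (.nd (.nd (.nd (.lf 0x829) (.lf 0x3a8)) (.nd (.lf 0x81c) (.lf 0))) (.nd (.nd (.lf 0x644) (.lf 0)) (.nd (.lf 0x5ba) (.lf 0)))) (.nd (.nd (.nd (.lf 0x13a) (.lf 0)) (.nd (.lf 0x253) (.lf 0))) (.nd (.nd (.lf 0x5e4) (.lf 0)) (.nd (.lf 0x8d8) (.lf 0))))) (.nd (.nd (.nd (.nd (.lf 0x7c) (.lf 0x282)) (.nd (.lf 0x873) (.lf 0))) (.nd (.nd (.lf 0x38e) (.lf 0)) (.nd (.lf 0x79d) (.lf 0))))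 (.nd (.nd (.nd (.lf 0x5ce) (.lf 0)) (.nd (.lf 0x508) (.lf 0))) (.nd (.nd (.lf 0x7d6) (.lf 0)) (.nd (.lf 0x884) (.lf 0)))))) (.nd (.nd (.nd (.nd (.nd (.lf 0x777) (.lf 0x34a)) (.nd (.lf 0x2bb) (.lf 0))) (.nd (.nd (.lf 0x3a0) (.lf 0)) (.nd (.lf 0x668) (.lf 0)))) (.nd (.nd (.nd (.lf 0x8f8) (.lf 0)) (.nd (.lf 0x185) (.lf 0))) (.nd (.nd (.lf 0x796) (.lf 0)) (.nd (.lf 0x861) (.lf 0))))) (.nd (.nd (.nd (.nd (.lf 0x116) (.lf 0x40f)) (.nd (.lf 0x8ec) (.lf 0))) (.nd (.nd (.lf 0x72) (.lf 0)) (.nd (.lf 0x3f1) (.lf 0)))) (.nd (.nd (.nd (.lf 0x685) (.lf 0)) (.nd (.lf 0x558) (.lf 0))) (.nd (.nd (.lf 0x4d8) (.lf 0)) (.nd (.lf 0x6a9) (.lf 0)))))))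
def rkQ_nababbb : Tr := (.nd (.nd (.nd (.nd (.nd (.nd (.lf 0x1b0) (.lf 0x471)) (.nd (.lf 0x74f) (.lf 0))) (.nd (.nd (.lf 0xda) (.lf 0)) (.nd (.lf 0x493) (.lf 0)))) (.nd (.nd (.nd (.lf 0x381) (.lf 0)) (.nd (.lf 0x350) (.lf 0))) (.nd (.nd (.lf 0x8d3) (.lf 0)) (.nd (.lf 0x866) (.lf 0))))) (.nd (.nd (.nd (.nd (.lf 0x3fe) (.lf 0x1b6)) (.nd (.lf 0x321) (.lf 0))) (.nd (.nd (.lf 0x249) (.lf 0)) (.nd (.lf 0x41) (.lf 0)))) (.nd (.nd (.nd (.lf 0x5db) (.lf 0)) (.nd (.lf 0x17b) (.lf 0))) (.nd (.nd (.lf 0x3f6) (.lf 0)) (.nd (.lf 0x283) (.lf 0)))))) (.nd (.nd (.nd (.nd (.nd (.lf 0x1a0) (.lf 0x4ff)) (.nd (.lf 0x3d2) (.lf 0))) (.nd (.nd (.lf 0x58) (.lf 0)) (.nd (.lf 0x55b) (.lf 0)))) (.nd (.nd (.nd (.lf 0x1e8) (.lf 0)) (.nd (.lf 0x1a6) (.lf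 0))) (.nd (.nd (.lf 0x75) (.lf 0)) (.nd (.lf 0x3e6) (.lf 0))))) (.nd (.nd (.nd (.nd (.lf 0x119) (.lf 0x1f1)) (.nd (.lf 0x175) (.lf 0))) (.nd (.nd (.lf 0x4d9) (.lf 0)) (.nd (.lf 0x219) (.lf 0)))) (.nd (.nd (.nd (.lf 0x25) (.lf 0)) (.nd (.lf 0x46) (.lf 0))) (.nd (.nd (.lf 0xf7) (.lf 0)) (.nd (.lf 0x84a) (.lf 0)))))))
def rkQ_nabbaaa : Tr := (.nd (.nd (.nd (.nd (.nd (.nd (.lf 0x4aa) (.lf 0x46a)) (.nd (.lf 0x6a4) (.lf 0))) (.nd (.nd (.lf 0x66d) (.lf 0)) (.nd (.lf 0x4e) (.lf 0)))) (.nd (.nd (.nd (.lf 0x702) (.lf 0)) (.nd (.lf 0x2ed) (.lf 0))) (.nd (.nd (.lf 0x75b) (.lf 0)) (.nd (.lf 0x8b0) (.lf 0))))) (.nd (.nd (.nd (.nd (.lf 0x528) (.lf 0x455)) (.nd (.lf 0x278) (.lf 0))) (.nd (.nd (.lf 0x5fe) (.lf 0)) (.nd (.lf 0x424) (.lf 0))))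 (.nd (.nd (.nd (.lf 0x331) (.lf 0)) (.nd (.lf 0x8e) (.lf 0))) (.nd (.nd (.lf 0x8a2) (.lf 0)) (.nd (.lf 0x7d9) (.lf 0)))))) (.nd (.nd (.nd (.nd (.nd (.lf 0x2e5) (.lf 0x108)) (.nd (.lf 0x83c) (.lf 0))) (.nd (.nd (.lf 0x114) (.lf 0)) (.nd (.lf 0x4af) (.lf 0)))) (.nd (.nd (.nd (.lf 0x8c) (.lf 0)) (.nd (.lf 0x400) (.lf 0))) (.nd (.nd (.lf 0x4f5) (.lf 0)) (.nd (.lf 0x2cd) (.lf 0))))) (.nd (.nd (.nd (.nd (.lf 0x188) (.lf 0x727)) (.nd (.lf 0x5f0) (.lf 0))) (.nd (.nd (.lf 0x456) (.lf 0)) (.nd (.lf 0x49d) (.lf 0)))) (.nd (.nd (.nd (.lf 0x47a) (.lf 0)) (.nd (.lf 0x50d) (.lf 0))) (.nd (.nd (.lf 0x2dd) (.lf 0)) (.nd (.lf 0x1ab) (.lf 0)))))))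
def rkQ_nabbaab : Tr := (.nd (.nd (.nd (.nd (.nd (.nd (.lf 0x465) (.lf 0x55c)) (.nd (.lf 0x100) (.lf 0))) (.nd (.nd (.lf 0x51b) (.lf 0)) (.nd (.lf 0x428) (.lf 0)))) (.nd (.nd (.nd (.lf 0x243) (.lf 0)) (.nd (.lf 0x693) (.lf 0))) (.nd (.nd (.lf 0x7b8) (.lf 0)) (.nd (.lf 0x76e) (.lf 0))))) (.nd (.nd (.nd (.nd (.lf 0x26c) (.lf 0x584)) (.nd (.lf 0x59e) (.lf 0))) (.nd (.nd (.lf 0x289) (.lf 0)) (.nd (.lf 0x247) (.lf 0)))) (.nd (.nd (.nd (.lf 0x65f) (.lf 0)) (.nd (.lf 0x187) (.lf 0))) (.nd (.nd (.lf 0x4d1) (.lf 0)) (.nd (.lf 0x675) (.lf 0)))))) (.nd (.nd (.nd (.nd (.nd (.lf 0x82d) (.lf 0x6b7)) (.nd (.lf 0x53f) (.lf 0))) (.nd (.nd (.lf 0xf0) (.lf 0)) (.nd (.lf 0x374) (.lf 0)))) (.nd (.nd (.nd (.lf 0x192) (.lf 0)) (.nd (.lf 0x79c) (.lf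 0))) (.nd (.nd (.lf 0x1ba) (.lf 0)) (.nd (.lf 0x1e6) (.lf 0))))) (.nd (.nd (.nd (.nd (.lf 0x837) (.lf 0xee)) (.nd (.lf 0x203) (.lf 0))) (.nd (.nd (.lf 0x42e) (.lf 0)) (.nd (.lf 0x630) (.lf 0)))) (.nd (.nd (.nd (.lf 0x839) (.lf 0)) (.nd (.lf 0x39c) (.lf 0))) (.nd (.nd (.lf 0x467) (.lf 0)) (.nd (.lf 0x2cf) (.lf 0)))))))
def rkQ_nabbaba : Tr := (.nd (.nd (.nd (.nd (.nd (.nd (.lf 0x5ab) (.lf 0x5ee)) (.nd (.lf 0x6e8) (.lf 0))) (.nd (.nd (.lf 0x48) (.lf 0)) (.nd (.lf 0x8aa) (.lf 0)))) (.nd (.nd (.nd (.lf 0x62a) (.lf 0)) (.nd (.lf 0x323) (.lf 0))) (.nd (.nd (.lf 0x794) (.lf 0)) (.nd (.lf 0x538) (.lf 0))))) (.nd (.nd (.nd (.nd (.lf 0x347) (.lf 0x865)) (.nd (.lf 0x335) (.lf 0))) (.nd (.nd (.lf 0x83b) (.lf 0)) (.nd (.lf 0x846) (.lf 0))))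 (.nd (.nd (.nd (.lf 0x692) (.lf 0)) (.nd (.lf 0x17a) (.lf 0))) (.nd (.nd (.lf 0x7c7) (.lf 0)) (.nd (.lf 0x8d5) (.lf 0)))))) (.nd (.nd (.nd (.nd (.nd (.lf 0x662) (.lf 0x751)) (.nd (.lf 0x8a3) (.lf 0))) (.nd (.nd (.lf 0x301) (.lf 0)) (.nd (.lf 0x620) (.lf 0)))) (.nd (.nd (.nd (.lf 0x157) (.lf 0)) (.nd (.lf 0x601) (.lf 0))) (.nd (.nd (.lf 0x610) (.lf 0)) (.nd (.lf 0x339) (.lf 0))))) (.nd (.nd (.nd (.nd (.lf 0x151) (.lf 0x7e2)) (.nd (.lf 0x4f) (.lf 0))) (.nd (.nd (.lf 0x18c) (.lf 0)) (.nd (.lf 0x38c) (.lf 0)))) (.nd (.nd (.nd (.lf 0x373) (.lf 0)) (.nd (.lf 0x4c) (.lf 0))) (.nd (.nd (.lf 0x48b) (.lf 0)) (.nd (.lf 0x88d) (.lf 0)))))))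
def rkQ_nabbabb : Tr := (.nd (.nd (.nd (.nd (.nd (.nd (.lf 0x4bc) (.lf 0x1ee)) (.nd (.lf 0x4fc) (.lf 0))) (.nd (.nd (.lf 0x4e8) (.lf 0)) (.nd (.lf 0x1a5) (.lf 0)))) (.nd (.nd (.nd (.lf 0x226) (.lf 0)) (.nd (.lf 0x1ff) (.lf 0))) (.nd (.nd (.lf 0x742) (.lf 0)) (.nd (.lf 0x2d3) (.lf 0))))) (.nd (.nd (.nd (.nd (.lf 0x4b3) (.lf 0x6b4)) (.nd (.lf 0x133) (.lf 0))) (.nd (.nd (.lf 0x831) (.lf 0)) (.nd (.lf 0xb8) (.lf 0)))) (.nd (.nd (.nd (.lf 0x509) (.lf 0)) (.nd (.lf 0x1d1) (.lf 0))) (.nd (.nd (.lf 0x25d) (.lf 0)) (.nd (.lf 0x414) (.lf 0)))))) (.nd (.nd (.nd (.nd (.nd (.lf 0x60c) (.lf 0x69d)) (.nd (.lf 0x5e8) (.lf 0))) (.nd (.nd (.lf 0x4cb) (.lf 0)) (.nd (.lf 0x318) (.lf 0)))) (.nd (.nd (.nd (.lf 0x4b4) (.lf 0)) (.nd (.lf 0x721) (.lf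 0))) (.nd (.nd (.lf 0x86d) (.lf 0)) (.nd (.lf 0x496) (.lf 0))))) (.nd (.nd (.nd (.nd (.lf 0x1b1) (.lf 0x4d4)) (.nd (.lf 0x7c2) (.lf 0))) (.nd (.nd (.lf 0x745) (.lf 0)) (.nd (.lf 0x325) (.lf 0)))) (.nd (.nd (.nd (.lf 0x367) (.lf 0)) (.nd (.lf 0x8d1) (.lf 0))) (.nd (.nd (.lf 0x41f) (.lf 0)) (.nd (.lf 0x757) (.lf 0)))))))
def rkQ_nabbbaa : Tr := (.nd (.nd (.nd (.nd (.nd (.nd (.lf 0x3fc) (.lf 0x5a9)) (.nd (.lf 0x7bd) (.lf 0))) (.nd (.nd (.lf 0x236) (.lf 0)) (.nd (.lf 0x66) (.lf 0)))) (.nd (.nd (.nd (.lf 0x163) (.lf 0)) (.nd (.lf 0x22) (.lf 0))) (.nd (.nd (.lf 0xa0) (.lf 0)) (.nd (.lf 0x6d9) (.lf 0))))) (.nd (.nd (.nd (.nd (.lf 0x444) (.lf 0x4b1)) (.nd (.lf 0x55) (.lf 0))) (.nd (.nd (.lf 0x256) (.lf 0)) (.nd (.lf 0x109) (.lf 0))))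 (.nd (.nd (.nd (.lf 0x41d) (.lf 0)) (.nd (.lf 0x64b) (.lf 0))) (.nd (.nd (.lf 0x27e) (.lf 0)) (.nd (.lf 0x516) (.lf 0)))))) (.nd (.nd (.nd (.nd (.nd (.lf 0x4a4) (.lf 0x1d4)) (.nd (.lf 0x60b) (.lf 0))) (.nd (.nd (.lf 0x6c5) (.lf 0)) (.nd (.lf 0x535) (.lf 0)))) (.nd (.nd (.nd (.lf 0x1a4) (.lf 0)) (.nd (.lf 0x94) (.lf 0))) (.nd (.nd (.lf 0x587) (.lf 0)) (.nd (.lf 0x24b) (.lf 0))))) (.nd (.nd (.nd (.nd (.lf 0x288) (.lf 0x730)) (.nd (.lf 0x550) (.lf 0))) (.nd (.nd (.lf 0x5ec) (.lf 0)) (.nd (.lf 0x136) (.lf 0)))) (.nd (.nd (.nd (.lf 0x4b8) (.lf 0)) (.nd (.lf 0x3a6) (.lf 0))) (.nd (.nd (.lf 0x160) (.lf 0)) (.nd (.lf 0x29e) (.lf 0)))))))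
def rkQ_nabbbab : Tr := (.nd (.nd (.nd (.nd (.nd (.nd (.lf 0x8ad) (.lf 0x12a)) (.nd (.lf 0x4f0) (.lf 0))) (.nd (.nd (.lf 0x7fb) (.lf 0)) (.nd (.lf 0x3fa) (.lf 0)))) (.nd (.nd (.nd (.lf 0x671) (.lf 0)) (.nd (.lf 0x8fa) (.lf 0))) (.nd (.nd (.lf 0x147) (.lf 0)) (.nd (.lf 0x645) (.lf 0))))) (.nd (.nd (.nd (.nd (.lf 0x484) (.lf 0x8f5)) (.nd (.lf 0x8b9) (.lf 0))) (.nd (.nd (.lf 0x230) (.lf 0)) (.nd (.lf 0x5b2) (.lf 0)))) (.nd (.nd (.nd (.lf 0x7f1) (.lf 0)) (.nd (.lf 0x234) (.lf 0))) (.nd (.nd (.lf 0x5f8) (.lf 0)) (.nd (.lf 0x4e7) (.lf 0)))))) (.nd (.nd (.nd (.nd (.nd (.lf 0x110) (.lf 0x85)) (.nd (.lf 0x804) (.lf 0))) (.nd (.nd (.lf 0x6dd) (.lf 0)) (.nd (.lf 0x443) (.lf 0)))) (.nd (.nd (.nd (.lf 0x749) (.lf 0)) (.nd (.lf 0x810) (.lf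 0))) (.nd (.nd (.lf 0x487) (.lf 0)) (.nd (.lf 0x7e9) (.lf 0))))) (.nd (.nd (.nd (.nd (.lf 0x3b1) (.lf 0x6ef)) (.nd (.lf 0x5e) (.lf 0))) (.nd (.nd (.lf 0x368) (.lf 0)) (.nd (.lf 0x29c) (.lf 0)))) (.nd (.nd (.nd (.lf 0x156) (.lf 0)) (.nd (.lf 0x23b) (.lf 0))) (.nd (.nd (.lf 0x8cd) (.lf 0)) (.nd (.lf 0x6b) (.lf 0)))))))
def rkQ_nabbbba : Tr := (.nd (.nd (.nd (.nd (.nd (.nd (.lf 0x781) (.lf 0x6f7)) (.nd (.lf 0x7c8) (.lf 0))) (.nd (.nd (.lf 0x785) (.lf 0)) (.nd (.lf 0x316) (.lf 0)))) (.nd (.nd (.nd (.lf 0x790) (.lf 0)) (.nd (.lf 0x860) (.lf 0))) (.nd (.nd (.lf 0x18b) (.lf 0)) (.nd (.lf 0x522) (.lf 0))))) (.nd (.nd (.nd (.nd (.lf 0x6c9) (.lf 0x512)) (.nd (.lf 0x431) (.lf 0))) (.nd (.nd (.lf 0x5f4) (.lf 0)) (.nd (.lf 0x3f5) (.lf 0))))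 (.nd (.nd (.nd (.lf 0x3f2) (.lf 0)) (.nd (.lf 0x194) (.lf 0))) (.nd (.nd (.lf 0x1d3) (.lf 0)) (.nd (.lf 0x543) (.lf 0)))))) (.nd (.nd (.nd (.nd (.nd (.lf 0x2ae) (.lf 0x8ab)) (.nd (.lf 0x33c) (.lf 0))) (.nd (.nd (.lf 0x263) (.lf 0)) (.nd (.lf 0x383) (.lf 0)))) (.nd (.nd (.nd (.lf 0x71e) (.lf 0)) (.nd (.lf 0x58b) (.lf 0))) (.nd (.nd (.lf 0x7c6) (.lf 0)) (.nd (.lf 0x2c) (.lf 0))))) (.nd (.nd (.nd (.nd (.lf 0x2f3) (.lf 0x581)) (.nd (.lf 0x5c) (.lf 0))) (.nd (.nd (.lf 0x11) (.lf 0)) (.nd (.lf 0x7af) (.lf 0)))) (.nd (.nd (.nd (.lf 0x8d) (.lf 0)) (.nd (.lf 0x262) (.lf 0))) (.nd (.nd (.lf 0x561) (.lf 0)) (.nd (.lf 0x761) (.lf 0)))))))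
def rkQ_nabbbbb : Tr := (.nd (.nd (.nd (.nd (.nd (.nd (.lf 0x4b5) (.lf 0xad)) (.nd (.lf 0x369) (.lf 0))) (.nd (.nd (.lf 0x67a) (.lf 0)) (.nd (.lf 0x6f8) (.lf 0)))) (.nd (.nd (.nd (.lf 0xb5) (.lf 0)) (.nd (.lf 0x6da) (.lf 0))) (.nd (.nd (.lf 0x13d) (.lf 0)) (.nd (.lf 0x8a8) (.lf 0))))) (.nd (.nd (.nd (.nd (.lf 0x8a5) (.lf 0x72e)) (.nd (.lf 0x505) (.lf 0))) (.nd (.nd (.lf 0x65b) (.lf 0)) (.nd (.lf 0x45) (.lf 0)))) (.nd (.nd (.nd (.lf 0x816) (.lf 0)) (.nd (.lf 0x737) (.lf 0))) (.nd (.nd (.lf 0x101) (.lf 0)) (.nd (.lf 0x582) (.lf 0)))))) (.nd (.nd (.nd (.nd (.nd (.lf 0x1d2) (.lf 0x87f)) (.nd (.lf 0x6de) (.lf 0))) (.nd (.nd (.lf 0x2ec) (.lf 0)) (.nd (.lf 0x664) (.lf 0)))) (.nd (.nd (.nd (.lf 0x303) (.lf 0)) (.nd (.lf 0x401) (.lf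 0))) (.nd (.nd (.lf 0x469) (.lf 0)) (.nd (.lf 0x30) (.lf 0))))) (.nd (.nd (.nd (.nd (.lf 0xe6) (.lf 0x585)) (.nd (.lf 0x6d1) (.lf 0))) (.nd (.nd (.lf 0x2a6) (.lf 0)) (.nd (.lf 0x6d3) (.lf 0)))) (.nd (.nd (.nd (.lf 0x4b6) (.lf 0)) (.nd (.lf 0x2a9) (.lf 0))) (.nd (.nd (.lf 0x46f) (.lf 0)) (.nd (.lf 0x27b) (.lf 0)))))))
def rkQ_nbaaaaa : Tr := (.nd (.nd (.nd (.nd (.nd (.nd (.lf 0x10e) (.lf 0xbd)) (.nd (.lf 0x7ab) (.lf 0))) (.nd (.nd (.lf 0x852) (.lf 0)) (.nd (.lf 0x32e) (.lf 0)))) (.nd (.nd (.nd (.lf 0x89) (.lf 0)) (.nd (.lf 0xbc) (.lf 0))) (.nd (.nd (.lf 0x1e4) (.lf 0)) (.nd (.lf 0x294) (.lf 0))))) (.nd (.nd (.nd (.nd (.lf 0x84) (.lf 0x377)) (.nd (.lf 0x825) (.lf 0))) (.nd (.nd (.lf 0x87) (.lf 0)) (.nd (.lf 0x330) (.lf 0)))) (.nd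 (.nd (.nd (.lf 0x6f1) (.lf 0)) (.nd (.lf 0x40a) (.lf 0))) (.nd (.nd (.lf 0x73c) (.lf 0)) (.nd (.lf 0x683) (.lf 0)))))) (.nd (.nd (.nd (.nd (.nd (.lf 0x795) (.lf 0x5a2)) (.nd (.lf 0x5d7) (.lf 0))) (.nd (.nd (.lf 0x202) (.lf 0)) (.nd (.lf 0x1c8) (.lf 0)))) (.nd (.nd (.nd (.lf 0x154) (.lf 0)) (.nd (.lf 0x672) (.lf 0))) (.nd (.nd (.lf 0x63c) (.lf 0)) (.nd (.lf 0x466) (.lf 0))))) (.nd (.nd (.nd (.nd (.lf 0x723) (.lf 0x845)) (.nd (.lf 0x83) (.lf 0))) (.nd (.nd (.lf 0x58f) (.lf 0)) (.nd (.lf 0x279) (.lf 0)))) (.nd (.nd (.nd (.lf 0x1de) (.lf 0)) (.nd (.lf 0x7d8) (.lf 0))) (.nd (.nd (.lf 0x4e1) (.lf 0)) (.nd (.lf 0x1e3) (.lf 0)))))))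
def rkQ_nbaaaab : Tr := (.nd (.nd (.nd (.nd (.nd (.nd (.lf 0x8c8) (.lf 0x720)) (.nd (.lf 0x564) (.lf 0))) (.nd (.nd (.lf 0x6b8) (.lf 0)) (.nd (.lf 0x4eb) (.lf 0)))) (.nd (.nd (.nd (.lf 0x651) (.lf 0)) (.nd (.lf 0x3d) (.lf 0))) (.nd (.nd (.lf 0x88f) (.lf 0)) (.nd (.lf 0xbf) (.lf 0))))) (.nd (.nd (.nd (.nd (.lf 0x68) (.lf 0x206)) (.nd (.lf 0x4a1) (.lf 0))) (.nd (.nd (.lf 0x77e) (.lf 0)) (.nd (.lf 0x2e3) (.lf 0)))) (.nd (.nd (.nd (.lf 0x20f) (.lf 0)) (.nd (.lf 0x57c) (.lf 0))) (.nd (.nd (.lf 0x497) (.lf 0)) (.nd (.lf 0x78f) (.lf 0)))))) (.nd (.nd (.nd (.nd (.nd (.lf 0x617) (.lf 0x89e)) (.nd (.lf 0x62e) (.lf 0))) (.nd (.nd (.lf 0x13) (.lf 0)) (.nd (.lf 0x365) (.lf 0)))) (.nd (.nd (.nd (.lf 0x1d5) (.lf 0)) (.nd (.lf 0x29b) (.lf 0)))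 (.nd (.nd (.lf 0x639) (.lf 0)) (.nd (.lf 0x71b) (.lf 0))))) (.nd (.nd (.nd (.nd (.lf 0x563) (.lf 0xb2)) (.nd (.lf 0x208) (.lf 0))) (.nd (.nd (.lf 0x3d5) (.lf 0)) (.nd (.lf 0x298) (.lf 0)))) (.nd (.nd (.nd (.lf 0x71c) (.lf 0)) (.nd (.lf 0x40b) (.lf 0))) (.nd (.nd (.lf 0x801) (.lf 0)) (.nd (.lf 0x193) (.lf 0)))))))
def rkQ_nbaaaba : Tr := (.nd (.nd (.nd (.nd (.nd (.nd (.lf 0x6ad) (.lf 0x489)) (.nd (.lf 0x700) (.lf 0))) (.nd (.nd (.lf 0x181) (.lf 0)) (.nd (.lf 0xa2) (.lf 0)))) (.nd (.nd (.nd (.lf 0x73b) (.lf 0)) (.nd (.lf 0x69e) (.lf 0))) (.nd (.nd (.lf 0x520) (.lf 0)) (.nd (.lf 0x375) (.lf 0))))) (.nd (.nd (.nd (.nd (.lf 0x165) (.lf 0x660)) (.nd (.lf 0x3e1) (.lf 0))) (.nd (.nd (.lf 0x42b) (.lf 0)) (.nd (.lf 0x722) (.lf 0)))) (.nd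 (.nd (.nd (.lf 0x7d3) (.lf 0)) (.nd (.lf 0x3ff) (.lf 0))) (.nd (.nd (.lf 0x3b0) (.lf 0)) (.nd (.lf 0x84e) (.lf 0)))))) (.nd (.nd (.nd (.nd (.nd (.lf 0x882) (.lf 0x22f)) (.nd (.lf 0x12b) (.lf 0))) (.nd (.nd (.lf 0x1b5) (.lf 0)) (.nd (.lf 0xc2) (.lf 0)))) (.nd (.nd (.nd (.lf 0x533) (.lf 0)) (.nd (.lf 0x1f2) (.lf 0))) (.nd (.nd (.lf 0x7f5) (.lf 0)) (.nd (.lf 0x336) (.lf 0))))) (.nd (.nd (.nd (.nd (.lf 0xaa) (.lf 0x2c7)) (.nd (.lf 0x7a6) (.lf 0))) (.nd (.nd (.lf 0x793) (.lf 0)) (.nd (.lf 0x81b) (.lf 0)))) (.nd (.nd (.nd (.lf 0x451) (.lf 0)) (.nd (.lf 0x896) (.lf 0))) (.nd (.nd (.lf 0xe2) (.lf 0)) (.nd (.lf 0x80b) (.lf 0)))))))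
def rkQ_nbaaabb : Tr := (.nd (.nd (.nd (.nd (.nd (.nd (.lf 0x4f7) (.lf 0x5ed)) (.nd (.lf 0x20) (.lf 0))) (.nd (.nd (.lf 0x1e0) (.lf 0)) (.nd (.lf 0x566) (.lf 0)))) (.nd (.nd (.nd (.lf 0x4cd) (.lf 0)) (.nd (.lf 0x6a6) (.lf 0))) (.nd (.nd (.lf 0x81e) (.lf 0)) (.nd (.lf 0x43) (.lf 0))))) (.nd (.nd (.nd (.nd (.lf 0x643) (.lf 0x4f1)) (.nd (.lf 0x7dd) (.lf 0))) (.nd (.nd (.lf 0x220) (.lf 0)) (.nd (.lf 0x701) (.lf 0)))) (.nd (.nd (.nd (.lf 0x62c) (.lf 0)) (.nd (.lf 0x5d6) (.lf 0))) (.nd (.nd (.lf 0x765) (.lf 0)) (.nd (.lf 0x6ae) (.lf 0)))))) (.nd (.nd (.nd (.nd (.nd (.lf 0x6c3) (.lf 0x724)) (.nd (.lf 0x687) (.lf 0))) (.nd (.nd (.lf 0x553) (.lf 0)) (.nd (.lf 0x6c7) (.lf 0)))) (.nd (.nd (.nd (.lf 0x1f) (.lf 0)) (.nd (.lf 0xa7) (.lf 0)))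 (.nd (.nd (.lf 0x2d9) (.lf 0)) (.nd (.lf 0x391) (.lf 0))))) (.nd (.nd (.nd (.nd (.lf 0x58a) (.lf 0x405)) (.nd (.lf 0x5c7) (.lf 0))) (.nd (.nd (.lf 0x33a) (.lf 0)) (.nd (.lf 0xc8) (.lf 0)))) (.nd (.nd (.nd (.lf 0x9d) (.lf 0)) (.nd (.lf 0x10c) (.lf 0))) (.nd (.nd (.lf 0x530) (.lf 0)) (.nd (.lf 0x2dc) (.lf 0)))))))
def rkQ_nbaabaa : Tr := (.nd (.nd (.nd (.nd (.nd (.nd (.lf 0x2b0) (.lf 0x70f)) (.nd (.lf 0x435) (.lf 0))) (.nd (.nd (.lf 0x345) (.lf 0)) (.nd (.lf 0x1fa) (.lf 0)))) (.nd (.nd (.nd (.lf 0x3be) (.lf 0)) (.nd (.lf 0x14c) (.lf 0))) (.nd (.nd (.lf 0x3bf) (.lf 0)) (.nd (.lf 0x7ea) (.lf 0))))) (.nd (.nd (.nd (.nd (.lf 0x17d) (.lf 0x1aa)) (.nd (.lf 0x59c) (.lf 0))) (.nd (.nd (.lf 0x21a) (.lf 0)) (.nd (.lf 0x355) (.lf 0)))) (.nd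 (.nd (.nd (.lf 0x107) (.lf 0)) (.nd (.lf 0x4db) (.lf 0))) (.nd (.nd (.lf 0x23d) (.lf 0)) (.nd (.lf 0x7b1) (.lf 0)))))) (.nd (.nd (.nd (.nd (.nd (.lf 0x2cc) (.lf 0x129)) (.nd (.lf 0x5eb) (.lf 0))) (.nd (.nd (.lf 0x862) (.lf 0)) (.nd (.lf 0x4c7) (.lf 0)))) (.nd (.nd (.nd (.lf 0x717) (.lf 0)) (.nd (.lf 0x706) (.lf 0))) (.nd (.nd (.lf 0x5f2) (.lf 0)) (.nd (.lf 0x1c5) (.lf 0))))) (.nd (.nd (.nd (.nd (.lf 0x68d) (.lf 0x8f)) (.nd (.lf 0x716) (.lf 0))) (.nd (.nd (.lf 0x18) (.lf 0)) (.nd (.lf 0x8b3) (.lf 0)))) (.nd (.nd (.nd (.lf 0x358) (.lf 0)) (.nd (.lf 0x7f) (.lf 0))) (.nd (.nd (.lf 0x6db) (.lf 0)) (.nd (.lf 0x7bf) (.lf 0)))))))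
def rkQ_nbaabab : Tr := (.nd (.nd (.nd (.nd (.nd (.nd (.lf 0x4a7) (.lf 0xeb)) (.nd (.lf 0x87b) (.lf 0))) (.nd (.nd (.lf 0x384) (.lf 0)) (.nd (.lf 0x7e1) (.lf 0)))) (.nd (.nd (.nd (.lf 0x695) (.lf 0)) (.nd (.lf 0x432) (.lf 0))) (.nd (.nd (.lf 0x764) (.lf 0)) (.nd (.lf 0x767) (.lf 0))))) (.nd (.nd (.nd (.nd (.lf 0x555) (.lf 0x5fc)) (.nd (.lf 0x7b) (.lf 0))) (.nd (.nd (.lf 0x430) (.lf 0)) (.nd (.lf 0x71) (.lf 0)))) (.nd (.nd (.nd (.lf 0x62b) (.lf 0)) (.nd (.lf 0x47d) (.lf 0))) (.nd (.nd (.lf 0x1df) (.lf 0)) (.nd (.lf 0x8c5) (.lf 0)))))) (.nd (.nd (.nd (.nd (.nd (.lf 0x36e) (.lf 0xf4)) (.nd (.lf 0x16) (.lf 0))) (.nd (.nd (.lf 0x66f) (.lf 0)) (.nd (.lf 0x635) (.lf 0)))) (.nd (.nd (.nd (.lf 0x1fc) (.lf 0)) (.nd (.lf 0x6b9) (.lf 0)))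 (.nd (.nd (.lf 0x41c) (.lf 0)) (.nd (.lf 0x317) (.lf 0))))) (.nd (.nd (.nd (.nd (.lf 0x150) (.lf 0x9)) (.nd (.lf 0x3aa) (.lf 0))) (.nd (.nd (.lf 0x417) (.lf 0)) (.nd (.lf 0x7e5) (.lf 0)))) (.nd (.nd (.nd (.lf 0xcb) (.lf 0)) (.nd (.lf 0x329) (.lf 0))) (.nd (.nd (.lf 0x15b) (.lf 0)) (.nd (.lf 0x75a) (.lf 0)))))))
def rkQ_nbaabba : Tr := (.nd (.nd (.nd (.nd (.nd (.nd (.lf 0x502) (.lf 0x8e0)) (.nd (.lf 0x8c3) (.lf 0))) (.nd (.nd (.lf 0x8ea) (.lf 0)) (.nd (.lf 0x23e) (.lf 0)))) (.nd (.nd (.nd (.lf 0x52e) (.lf 0)) (.nd (.lf 0x3e8) (.lf 0))) (.nd (.nd (.lf 0x3eb) (.lf 0)) (.nd (.lf 0x16c) (.lf 0))))) (.nd (.nd (.nd (.nd (.lf 0x23) (.lf 0x215)) (.nd (.lf 0x45c) (.lf 0))) (.nd (.nd (.lf 0x6d4) (.lf 0)) (.nd (.lf 0x86) (.lf 0)))) (.nd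 (.nd (.nd (.lf 0x7e3) (.lf 0)) (.nd (.lf 0x12e) (.lf 0))) (.nd (.nd (.lf 0x803) (.lf 0)) (.nd (.lf 0x800) (.lf 0)))))) (.nd (.nd (.nd (.nd (.nd (.lf 0x879) (.lf 0xfe)) (.nd (.lf 0x626) (.lf 0))) (.nd (.nd (.lf 0x2d8) (.lf 0)) (.nd (.lf 0x70) (.lf 0)))) (.nd (.nd (.nd (.lf 0x872) (.lf 0)) (.nd (.lf 0x28) (.lf 0))) (.nd (.nd (.lf 0x87e) (.lf 0)) (.nd (.lf 0xa8) (.lf 0))))) (.nd (.nd (.nd (.nd (.lf 0x854) (.lf 0x35f)) (.nd (.lf 0x31a) (.lf 0))) (.nd (.nd (.lf 0x5ad) (.lf 0)) (.nd (.lf 0x25b) (.lf 0)))) (.nd (.nd (.nd (.lf 0x21e) (.lf 0)) (.nd (.lf 0x37d) (.lf 0))) (.nd (.nd (.lf 0x326) (.lf 0)) (.nd (.lf 0x47f) (.lf 0)))))))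
def rkQ_nbaabbb : Tr := (.nd (.nd (.nd (.nd (.nd (.nd (.lf 0x3e4) (.lf 0x37c)) (.nd (.lf 0x828) (.lf 0))) (.nd (.nd (.lf 0x1d6) (.lf 0)) (.nd (.lf 0x6ce) (.lf 0)))) (.nd (.nd (.nd (.lf 0x8df) (.lf 0)) (.nd (.lf 0x332) (.lf 0))) (.nd (.nd (.lf 0x364) (.lf 0)) (.nd (.lf 0x541) (.lf 0))))) (.nd (.nd (.nd (.nd (.lf 0x7aa) (.lf 0x8eb)) (.nd (.lf 0x216) (.lf 0))) (.nd (.nd (.lf 0x759) (.lf 0)) (.nd (.lf 0x634) (.lf 0)))) (.nd (.nd (.nd (.lf 0x227) (.lf 0)) (.nd (.lf 0x809) (.lf 0))) (.nd (.nd (.lf 0x636) (.lf 0)) (.nd (.lf 0x1fb) (.lf 0)))))) (.nd (.nd (.nd (.nd (.nd (.lf 0x2d1) (.lf 0x1c4)) (.nd (.lf 0x501) (.lf 0))) (.nd (.nd (.lf 0x74a) (.lf 0)) (.nd (.lf 0x48d) (.lf 0)))) (.nd (.nd (.nd (.lf 0x628) (.lf 0)) (.nd (.lf 0x780) (.lf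 0))) (.nd (.nd (.lf 0x7c9) (.lf 0)) (.nd (.lf 0x8de) (.lf 0))))) (.nd (.nd (.nd (.nd (.lf 0x699) (.lf 0x7e6)) (.nd (.lf 0x52f) (.lf 0))) (.nd (.nd (.lf 0x6dc) (.lf 0)) (.nd (.lf 0x5dc) (.lf 0)))) (.nd (.nd (.nd (.lf 0x3ca) (.lf 0)) (.nd (.lf 0x8ef) (.lf 0))) (.nd (.nd (.lf 0x5b3) (.lf 0)) (.nd (.lf 0x186) (.lf 0)))))))
def rkQ_nbabaaa : Tr := (.nd (.nd (.nd (.nd (.nd (.nd (.lf 0x265) (.lf 0x63a)) (.nd (.lf 0x519) (.lf 0))) (.nd (.nd (.lf 0x26f) (.lf 0)) (.nd (.lf 0x1bf) (.lf 0)))) (.nd (.nd (.nd (.lf 0x573) (.lf 0)) (.nd (.lf 0x545) (.lf 0))) (.nd (.nd (.lf 0x5e0) (.lf 0)) (.nd (.lf 0x832) (.lf 0))))) (.nd (.nd (.nd (.nd (.lf 0x83e) (.lf 0x7da)) (.nd (.lf 0x27f) (.lf 0))) (.nd (.nd (.lf 0x89d) (.lf 0)) (.nd (.lf 0x65d) (.lf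 0)))) (.nd (.nd (.nd (.lf 0x707) (.lf 0)) (.nd (.lf 0x2d6) (.lf 0))) (.nd (.nd (.lf 0x8af) (.lf 0)) (.nd (.lf 0x14e) (.lf 0)))))) (.nd (.nd (.nd (.nd (.nd (.lf 0x719) (.lf 0x123)) (.nd (.lf 0x571) (.lf 0))) (.nd (.nd (.lf 0x3ed) (.lf 0)) (.nd (.lf 0x6a5) (.lf 0)))) (.nd (.nd (.nd (.lf 0x5a0) (.lf 0)) (.nd (.lf 0x8fb) (.lf 0))) (.nd (.nd (.lf 0x7bc) (.lf 0)) (.nd (.lf 0x894) (.lf 0))))) (.nd (.nd (.nd (.nd (.lf 0x7fa) (.lf 0x2ce)) (.nd (.lf 0x824) (.lf 0))) (.nd (.nd (.lf 0x70d) (.lf 0)) (.nd (.lf 0x6f5) (.lf 0)))) (.nd (.nd (.nd (.lf 0x1b2) (.lf 0)) (.nd (.lf 0x77) (.lf 0))) (.nd (.nd (.lf 0x45e) (.lf 0)) (.nd (.lf 0x640) (.lf 0)))))))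
def rkQ_nbabaab : Tr := (.nd (.nd (.nd (.nd (.nd (.nd (.lf 0x5d9) (.lf 0x876)) (.nd (.lf 0x359) (.lf 0))) (.nd (.nd (.lf 0x7f7) (.lf 0)) (.nd (.lf 0x8d7) (.lf 0)))) (.nd (.nd (.nd (.lf 0x4a9) (.lf 0)) (.nd (.lf 0x78) (.lf 0))) (.nd (.nd (.lf 0x51a) (.lf 0)) (.nd (.lf 0x20b) (.lf 0))))) (.nd (.nd (.nd (.nd (.lf 0x75f) (.lf 0x29)) (.nd (.lf 0xea) (.lf 0))) (.nd (.nd (.lf 0xca) (.lf 0)) (.nd (.lf 0x111) (.lf 0)))) (.nd (.nd (.nd (.lf 0x4ea) (.lf 0)) (.nd (.lf 0x60e) (.lf 0))) (.nd (.nd (.lf 0x19e) (.lf 0)) (.nd (.lf 0x5a7) (.lf 0)))))) (.nd (.nd (.nd (.nd (.nd (.lf 0x495) (.lf 0x49f)) (.nd (.lf 0x140) (.lf 0))) (.nd (.nd (.lf 0x148) (.lf 0)) (.nd (.lf 0x6d8) (.lf 0)))) (.nd (.nd (.nd (.lf 0x64a) (.lf 0)) (.nd (.lf 0xd0) (.lf 0)))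 (.nd (.nd (.lf 0x523) (.lf 0)) (.nd (.lf 0x45a) (.lf 0))))) (.nd (.nd (.nd (.nd (.lf 0x6be) (.lf 0x398)) (.nd (.lf 0x33b) (.lf 0))) (.nd (.nd (.lf 0x272) (.lf 0)) (.nd (.lf 0x8f7) (.lf 0)))) (.nd (.nd (.nd (.lf 0x661) (.lf 0)) (.nd (.lf 0x3db) (.lf 0))) (.nd (.nd (.lf 0x642) (.lf 0)) (.nd (.lf 0x211) (.lf 0)))))))
def rkQ_nbababa : Tr := (.nd (.nd (.nd (.nd (.nd (.nd (.lf 0x50b) (.lf 0x305)) (.nd (.lf 0x5b1) (.lf 0))) (.nd (.nd (.lf 0x11d) (.lf 0)) (.nd (.lf 0x1a8) (.lf 0)))) (.nd (.nd (.nd (.lf 0x1a7) (.lf 0)) (.nd (.lf 0x15e) (.lf 0))) (.nd (.nd (.lf 0x6c6) (.lf 0)) (.nd (.lf 0x6a0) (.lf 0))))) (.nd (.nd (.nd (.nd (.lf 0x5fa) (.lf 0x48c)) (.nd (.lf 0x526) (.lf 0))) (.nd (.nd (.lf 0x6b1) (.lf 0)) (.nd (.lf 0x3ba) (.lf 0))))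 (.nd (.nd (.nd (.lf 0x8dd) (.lf 0)) (.nd (.lf 0x7ef) (.lf 0))) (.nd (.nd (.lf 0x565) (.lf 0)) (.nd (.lf 0x844) (.lf 0)))))) (.nd (.nd (.nd (.nd (.nd (.lf 0x440) (.lf 0x32f)) (.nd (.lf 0xde) (.lf 0))) (.nd (.nd (.lf 0x6d6) (.lf 0)) (.nd (.lf 0x5c0) (.lf 0)))) (.nd (.nd (.nd (.lf 0x654) (.lf 0)) (.nd (.lf 0x888) (.lf 0))) (.nd (.nd (.lf 0x6ca) (.lf 0)) (.nd (.lf 0x55a) (.lf 0))))) (.nd (.nd (.nd (.nd (.lf 0x3cc) (.lf 0x2db)) (.nd (.lf 0x46e) (.lf 0))) (.nd (.nd (.lf 0x389) (.lf 0)) (.nd (.lf 0xbe) (.lf 0)))) (.nd (.nd (.nd (.lf 0x58e) (.lf 0)) (.nd (.lf 0x2eb) (.lf 0))) (.nd (.nd (.lf 0x4bf) (.lf 0)) (.nd (.lf 0x7cb) (.lf 0)))))))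
def rkQ_nbababb : Tr := (.nd (.nd (.nd (.nd (.nd (.nd (.lf 0x67c) (.lf 0xa3)) (.nd (.lf 0x53) (.lf 0))) (.nd (.nd (.lf 0x297) (.lf 0)) (.nd (.lf 0x669) (.lf 0)))) (.nd (.nd (.nd (.lf 0x637) (.lf 0)) (.nd (.lf 0x80) (.lf 0))) (.nd (.nd (.lf 0x27d) (.lf 0)) (.nd (.lf 0x42a) (.lf 0))))) (.nd (.nd (.nd (.nd (.lf 0x3cb) (.lf 0x482)) (.nd (.lf 0x4a6) (.lf 0))) (.nd (.nd (.lf 0x22b) (.lf 0)) (.nd (.lf 0x773) (.lf 0)))) (.nd (.nd (.nd (.lf 0xa5) (.lf 0)) (.nd (.lf 0x67d) (.lf 0))) (.nd (.nd (.lf 0x59f) (.lf 0)) (.nd (.lf 0x2c9) (.lf 0)))))) (.nd (.nd (.nd (.nd (.nd (.lf 0x36d) (.lf 0x87d)) (.nd (.lf 0x75d) (.lf 0))) (.nd (.nd (.lf 0x63) (.lf 0)) (.nd (.lf 0x2ff) (.lf 0)))) (.nd (.nd (.nd (.lf 0x6f4) (.lf 0)) (.nd (.lf 0x264) (.lf 0)))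 (.nd (.nd (.lf 0x404) (.lf 0)) (.nd (.lf 0x5b5) (.lf 0))))) (.nd (.nd (.nd (.nd (.lf 0x3a5) (.lf 0x681)) (.nd (.lf 0x420) (.lf 0))) (.nd (.nd (.lf 0x137) (.lf 0)) (.nd (.lf 0x6e3) (.lf 0)))) (.nd (.nd (.nd (.lf 0x79f) (.lf 0)) (.nd (.lf 0x877) (.lf 0))) (.nd (.nd (.lf 0x276) (.lf 0)) (.nd (.lf 0x290) (.lf 0)))))))
def rkQ_nbabbaa : Tr := (.nd (.nd (.nd (.nd (.nd (.nd (.lf 0x8a1) (.lf 0x8c0)) (.nd (.lf 0x82b) (.lf 0))) (.nd (.nd (.lf 0x1b) (.lf 0)) (.nd (.lf 0x8e8) (.lf 0)))) (.nd (.nd (.nd (.lf 0x5a3) (.lf 0)) (.nd (.lf 0x710) (.lf 0))) (.nd (.nd (.lf 0x8fe) (.lf 0)) (.nd (.lf 0x3c0) (.lf 0))))) (.nd (.nd (.nd (.nd (.lf 0x5b7) (.lf 0x12c)) (.nd (.lf 0x3bc) (.lf 0))) (.nd (.nd (.lf 0x758) (.lf 0)) (.nd (.lf 0x791) (.lf 0))))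 (.nd (.nd (.nd (.lf 0x1be) (.lf 0)) (.nd (.lf 0x52a) (.lf 0))) (.nd (.nd (.lf 0x840) (.lf 0)) (.nd (.lf 0x6f6) (.lf 0)))))) (.nd (.nd (.nd (.nd (.nd (.lf 0x189) (.lf 0x4a3)) (.nd (.lf 0x4cf) (.lf 0))) (.nd (.nd (.lf 0x7cc) (.lf 0)) (.nd (.lf 0x30d) (.lf 0)))) (.nd (.nd (.nd (.lf 0x37) (.lf 0)) (.nd (.lf 0xd5) (.lf 0))) (.nd (.nd (.lf 0x633) (.lf 0)) (.nd (.lf 0x26) (.lf 0))))) (.nd (.nd (.nd (.nd (.lf 0x126) (.lf 0x30f)) (.nd (.lf 0x3f8) (.lf 0))) (.nd (.nd (.lf 0x8f9) (.lf 0)) (.nd (.lf 0x5f) (.lf 0)))) (.nd (.nd (.nd (.lf 0x517) (.lf 0)) (.nd (.lf 0x2da) (.lf 0))) (.nd (.nd (.lf 0x240) (.lf 0)) (.nd (.lf 0x4ec) (.lf 0)))))))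
def rkQ_nbabbab : Tr := (.nd (.nd (.nd (.nd (.nd (.nd (.lf 0x2bd) (.lf 0x547)) (.nd (.lf 0x266) (.lf 0))) (.nd (.nd (.lf 0x13b) (.lf 0)) (.nd (.lf 0x10b) (.lf 0)))) (.nd (.nd (.nd (.lf 0x8bc) (.lf 0)) (.nd (.lf 0x2e9) (.lf 0))) (.nd (.nd (.lf 0x411) (.lf 0)) (.nd (.lf 0x44d) (.lf 0))))) (.nd (.nd (.nd (.nd (.lf 0x127) (.lf 0x239)) (.nd (.lf 0x667) (.lf 0))) (.nd (.nd (.lf 0x4ed) (.lf 0)) (.nd (.lf 0x5a6) (.lf 0)))) (.nd (.nd (.nd (.lf 0x7ed) (.lf 0)) (.nd (.lf 0x104) (.lf 0))) (.nd (.nd (.lf 0x594) (.lf 0)) (.nd (.lf 0x176) (.lf 0)))))) (.nd (.nd (.nd (.nd (.nd (.lf 0x42c) (.lf 0x41e)) (.nd (.lf 0x34e) (.lf 0))) (.nd (.nd (.lf 0x712) (.lf 0)) (.nd (.lf 0x540) (.lf 0)))) (.nd (.nd (.nd (.lf 0x1e) (.lf 0)) (.nd (.lf 0x199) (.lf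 0))) (.nd (.nd (.lf 0x6b2) (.lf 0)) (.nd (.lf 0x6c8) (.lf 0))))) (.nd (.nd (.nd (.nd (.lf 0x4a) (.lf 0x300)) (.nd (.lf 0xd9) (.lf 0))) (.nd (.nd (.lf 0x3b6) (.lf 0)) (.nd (.lf 0x676) (.lf 0)))) (.nd (.nd (.nd (.lf 0x604) (.lf 0)) (.nd (.lf 0x789) (.lf 0))) (.nd (.nd (.lf 0x124) (.lf 0)) (.nd (.lf 0x29f) (.lf 0)))))))
def rkQ_nbabbba : Tr := (.nd (.nd (.nd (.nd (.nd (.nd (.lf 0x3f9) (.lf 0x275)) (.nd (.lf 0x81f) (.lf 0))) (.nd (.nd (.lf 0x2e4) (.lf 0)) (.nd (.lf 0x7cf) (.lf 0)))) (.nd (.nd (.nd (.lf 0x468) (.lf 0)) (.nd (.lf 0x711) (.lf 0))) (.nd (.nd (.lf 0x3cf) (.lf 0)) (.nd (.lf 0x379) (.lf 0))))) (.nd (.nd (.nd (.nd (.lf 0x1b9) (.lf 0x2f5)) (.nd (.lf 0x7a4) (.lf 0))) (.nd (.nd (.lf 0x7b7) (.lf 0)) (.nd (.lf 0x10d) (.lf 0))))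 (.nd (.nd (.nd (.lf 0xfc) (.lf 0)) (.nd (.lf 0x95) (.lf 0))) (.nd (.nd (.lf 0x1cc) (.lf 0)) (.nd (.lf 0x2f) (.lf 0)))))) (.nd (.nd (.nd (.nd (.nd (.lf 0x7cd) (.lf 0x2a8)) (.nd (.lf 0x5b) (.lf 0))) (.nd (.nd (.lf 0x6fd) (.lf 0)) (.nd (.lf 0x657) (.lf 0)))) (.nd (.nd (.nd (.lf 0x5a5) (.lf 0)) (.nd (.lf 0x778) (.lf 0))) (.nd (.nd (.lf 0x1c7) (.lf 0)) (.nd (.lf 0x197) (.lf 0))))) (.nd (.nd (.nd (.nd (.lf 0xab) (.lf 0x84d)) (.nd (.lf 0x6fb) (.lf 0))) (.nd (.nd (.lf 0x4ae) (.lf 0)) (.nd (.lf 0x3f) (.lf 0)))) (.nd (.nd (.nd (.lf 0x28c) (.lf 0)) (.nd (.lf 0x39b) (.lf 0))) (.nd (.nd (.lf 0x619) (.lf 0)) (.nd (.lf 0x86f) (.lf 0)))))))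
def rkQ_nbabbbb : Tr := (.nd (.nd (.nd (.nd (.nd (.nd (.lf 0x285) (.lf 0x161)) (.nd (.lf 0x3a1) (.lf 0))) (.nd (.nd (.lf 0x5c6) (.lf 0)) (.nd (.lf 0x6b6) (.lf 0)))) (.nd (.nd (.nd (.lf 0x5d1) (.lf 0)) (.nd (.lf 0x6e4) (.lf 0))) (.nd (.nd (.lf 0x8d9) (.lf 0)) (.nd (.lf 0x8e1) (.lf 0))))) (.nd (.nd (.nd (.nd (.lf 0x474) (.lf 0x76a)) (.nd (.lf 0x80f) (.lf 0))) (.nd (.nd (.lf 0x1a3) (.lf 0)) (.nd (.lf 0x26e) (.lf 0)))) (.nd (.nd (.nd (.lf 0x779) (.lf 0)) (.nd (.lf 0x78b) (.lf 0))) (.nd (.nd (.lf 0x595) (.lf 0)) (.nd (.lf 0x23f) (.lf 0)))))) (.nd (.nd (.nd (.nd (.nd (.lf 0x8f3) (.lf 0x76d)) (.nd (.lf 0x3b7) (.lf 0))) (.nd (.nd (.lf 0x89b) (.lf 0)) (.nd (.lf 0xd) (.lf 0)))) (.nd (.nd (.nd (.lf 0x7dc) (.lf 0)) (.nd (.lf 0x6aa) (.lf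 0))) (.nd (.nd (.lf 0x732) (.lf 0)) (.nd (.lf 0x2e) (.lf 0))))) (.nd (.nd (.nd (.nd (.lf 0x3ce) (.lf 0x569)) (.nd (.lf 0x4f2) (.lf 0))) (.nd (.nd (.lf 0x551) (.lf 0)) (.nd (.lf 0x4c5) (.lf 0)))) (.nd (.nd (.nd (.lf 0x4da) (.lf 0)) (.nd (.lf 0x2fc) (.lf 0))) (.nd (.nd (.lf 0x67) (.lf 0)) (.nd (.lf 0x72d) (.lf 0)))))))
def rkQ_nbbaaaa : Tr := (.nd (.nd (.nd (.nd (.nd (.nd (.lf 0x67e) (.lf 0x760)) (.nd (.lf 0x274) (.lf 0))) (.nd (.nd (.lf 0x218) (.lf 0)) (.nd (.lf 0x729) (.lf 0)))) (.nd (.nd (.nd (.lf 0x3b9) (.lf 0)) (.nd (.lf 0x378) (.lf 0))) (.nd (.nd (.lf 0x46b) (.lf 0)) (.nd (.lf 0x37b) (.lf 0))))) (.nd (.nd (.nd (.nd (.lf 0x43e) (.lf 0x7fe)) (.nd (.lf 0x139) (.lf 0))) (.nd (.nd (.lf 0x433) (.lf 0)) (.nd (.lf 0x237) (.lf 0))))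 (.nd (.nd (.nd (.lf 0x819) (.lf 0)) (.nd (.lf 0x8a) (.lf 0))) (.nd (.nd (.lf 0x4d3) (.lf 0)) (.nd (.lf 0x514) (.lf 0)))))) (.nd (.nd (.nd (.nd (.nd (.lf 0x6d7) (.lf 0x6e9)) (.nd (.lf 0x204) (.lf 0))) (.nd (.nd (.lf 0x40) (.lf 0)) (.nd (.lf 0x2aa) (.lf 0)))) (.nd (.nd (.nd (.lf 0x70e) (.lf 0)) (.nd (.lf 0x205) (.lf 0))) (.nd (.nd (.lf 0x690) (.lf 0)) (.nd (.lf 0x313) (.lf 0))))) (.nd (.nd (.nd (.nd (.lf 0x3a4) (.lf 0x144)) (.nd (.lf 0x507) (.lf 0))) (.nd (.nd (.lf 0x7b9) (.lf 0)) (.nd (.lf 0x8a0) (.lf 0)))) (.nd (.nd (.nd (.lf 0x56b) (.lf 0)) (.nd (.lf 0x1e5) (.lf 0))) (.nd (.nd (.lf 0x333) (.lf 0)) (.nd (.lf 0x44f) (.lf 0)))))))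
def rkQ_nbbaaab : Tr := (.nd (.nd (.nd (.nd (.nd (.nd (.lf 0x808) (.lf 0x49a)) (.nd (.lf 0x36a) (.lf 0))) (.nd (.nd (.lf 0x7b6) (.lf 0)) (.nd (.lf 0x1d) (.lf 0)))) (.nd (.nd (.nd (.lf 0x7ce) (.lf 0)) (.nd (.lf 0x583) (.lf 0))) (.nd (.nd (.lf 0x7a3) (.lf 0)) (.nd (.lf 0x3b5) (.lf 0))))) (.nd (.nd (.nd (.nd (.lf 0x7df) (.lf 0x6e1)) (.nd (.lf 0x348) (.lf 0))) (.nd (.nd (.lf 0x105) (.lf 0)) (.nd (.lf 0x61c) (.lf 0)))) (.nd (.nd (.nd (.lf 0xd3) (.lf 0)) (.nd (.lf 0x51e) (.lf 0))) (.nd (.nd (.lf 0x24e) (.lf 0)) (.nd (.lf 0x14) (.lf 0)))))) (.nd (.nd (.nd (.nd (.nd (.lf 0xa6) (.lf 0x399)) (.nd (.lf 0x47e) (.lf 0))) (.nd (.nd (.lf 0x6cb) (.lf 0)) (.nd (.lf 0x6e) (.lf 0)))) (.nd (.nd (.nd (.lf 0x463) (.lf 0)) (.nd (.lf 0x4f9) (.lf 0)))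 (.nd (.nd (.lf 0x500) (.lf 0)) (.nd (.lf 0x568) (.lf 0))))) (.nd (.nd (.nd (.nd (.lf 0x11e) (.lf 0x85d)) (.nd (.lf 0x741) (.lf 0))) (.nd (.nd (.lf 0x310) (.lf 0)) (.nd (.lf 0x85b) (.lf 0)))) (.nd (.nd (.nd (.lf 0xae) (.lf 0)) (.nd (.lf 0x152) (.lf 0))) (.nd (.nd (.lf 0x5de) (.lf 0)) (.nd (.lf 0x65c) (.lf 0)))))))
def rkQ_nbbaaba : Tr := (.nd (.nd (.nd (.nd (.nd (.nd (.lf 0x292) (.lf 0x69b)) (.nd (.lf 0x328) (.lf 0))) (.nd (.nd (.lf 0x725) (.lf 0)) (.nd (.lf 0x473) (.lf 0)))) (.nd (.nd (.nd (.lf 0x4de) (.lf 0)) (.nd (.lf 0x586) (.lf 0))) (.nd (.nd (.lf 0x54c) (.lf 0)) (.nd (.lf 0x5b8) (.lf 0))))) (.nd (.nd (.nd (.nd (.lf 0x823) (.lf 0xe8)) (.nd (.lf 0x1cf) (.lf 0))) (.nd (.nd (.lf 0x82c) (.lf 0)) (.nd (.lf 0x590) (.lf 0)))) (.nd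 (.nd (.nd (.lf 0x2d7) (.lf 0)) (.nd (.lf 0x66b) (.lf 0))) (.nd (.nd (.lf 0x6bd) (.lf 0)) (.nd (.lf 0x2c4) (.lf 0)))))) (.nd (.nd (.nd (.nd (.nd (.lf 0x475) (.lf 0x491)) (.nd (.lf 0x4ba) (.lf 0))) (.nd (.nd (.lf 0x868) (.lf 0)) (.nd (.lf 0x2f8) (.lf 0)))) (.nd (.nd (.nd (.lf 0x864) (.lf 0)) (.nd (.lf 0x195) (.lf 0))) (.nd (.nd (.lf 0x3c7) (.lf 0)) (.nd (.lf 0x7e8) (.lf 0))))) (.nd (.nd (.nd (.nd (.lf 0x3e5) (.lf 0x726)) (.nd (.lf 0x747) (.lf 0))) (.nd (.nd (.lf 0x560) (.lf 0)) (.nd (.lf 0x8f6) (.lf 0)))) (.nd (.nd (.nd (.lf 0x52c) (.lf 0)) (.nd (.lf 0x34b) (.lf 0))) (.nd (.nd (.lf 0x280) (.lf 0)) (.nd (.lf 0x596) (.lf 0)))))))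
def rkQ_nbbaabb : Tr := (.nd (.nd (.nd (.nd (.nd (.nd (.lf 0xb7) (.lf 0x6fe)) (.nd (.lf 0x8b7) (.lf 0))) (.nd (.nd (.lf 0x86b) (.lf 0)) (.nd (.lf 0x354) (.lf 0)))) (.nd (.nd (.nd (.lf 0x45f) (.lf 0)) (.nd (.lf 0x4c9) (.lf 0))) (.nd (.nd (.lf 0x1d8) (.lf 0)) (.nd (.lf 0x3ef) (.lf 0))))) (.nd (.nd (.nd (.nd (.lf 0x5c3) (.lf 0x32c)) (.nd (.lf 0x478) (.lf 0))) (.nd (.nd (.lf 0x511) (.lf 0)) (.nd (.lf 0x6b5) (.lf 0)))) (.nd (.nd (.nd (.lf 0x31c) (.lf 0)) (.nd (.lf 0x31) (.lf 0))) (.nd (.nd (.lf 0x7f9) (.lf 0)) (.nd (.lf 0x58d) (.lf 0)))))) (.nd (.nd (.nd (.nd (.nd (.lf 0x372) (.lf 0x8fd)) (.nd (.lf 0x17c) (.lf 0))) (.nd (.nd (.lf 0x1bc) (.lf 0)) (.nd (.lf 0x395) (.lf 0)))) (.nd (.nd (.nd (.lf 0x22a) (.lf 0)) (.nd (.lf 0x37a) (.lf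 0))) (.nd (.nd (.lf 0x55d) (.lf 0)) (.nd (.lf 0x4c4) (.lf 0))))) (.nd (.nd (.nd (.nd (.lf 0x8a9) (.lf 0x32a)) (.nd (.lf 0x857) (.lf 0))) (.nd (.nd (.lf 0x7ee) (.lf 0)) (.nd (.lf 0x344) (.lf 0)))) (.nd (.nd (.nd (.lf 0xba) (.lf 0)) (.nd (.lf 0x21f) (.lf 0))) (.nd (.nd (.lf 0x15f) (.lf 0)) (.nd (.lf 0x14d) (.lf 0)))))))
def rkQ_nbbabaa : Tr := (.nd (.nd (.nd (.nd (.nd (.nd (.lf 0x4a0) (.lf 0x731)) (.nd (.lf 0x47c) (.lf 0))) (.nd (.nd (.lf 0x117) (.lf 0)) (.nd (.lf 0x341) (.lf 0)))) (.nd (.nd (.nd (.lf 0x59d) (.lf 0)) (.nd (.lf 0x25f) (.lf 0))) (.nd (.nd (.lf 0x56c) (.lf 0)) (.nd (.lf 0x169) (.lf 0))))) (.nd (.nd (.nd (.nd (.lf 0x36b) (.lf 0x3ea)) (.nd (.lf 0x61) (.lf 0))) (.nd (.nd (.lf 0x63e) (.lf 0)) (.nd (.lf 0x7ba) (.lf 0))))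 (.nd (.nd (.nd (.lf 0x2b7) (.lf 0)) (.nd (.lf 0x6bc) (.lf 0))) (.nd (.nd (.lf 0x362) (.lf 0)) (.nd (.lf 0x21d) (.lf 0)))))) (.nd (.nd (.nd (.nd (.nd (.lf 0x4f6) (.lf 0x2b)) (.nd (.lf 0x48a) (.lf 0))) (.nd (.nd (.lf 0x86a) (.lf 0)) (.nd (.lf 0x658) (.lf 0)))) (.nd (.nd (.nd (.lf 0x184) (.lf 0)) (.nd (.lf 0x8ba) (.lf 0))) (.nd (.nd (.lf 0x448) (.lf 0)) (.nd (.lf 0x49b) (.lf 0))))) (.nd (.nd (.nd (.nd (.lf 0x371) (.lf 0x2e2)) (.nd (.lf 0x3d6) (.lf 0))) (.nd (.nd (.lf 0x112) (.lf 0)) (.nd (.lf 0x6e7) (.lf 0)))) (.nd (.nd (.nd (.lf 0x788) (.lf 0)) (.nd (.lf 0x79e) (.lf 0))) (.nd (.nd (.lf 0x412) (.lf 0)) (.nd (.lf 0x58c) (.lf 0)))))))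
def rkQ_nbbabab : Tr := (.nd (.nd (.nd (.nd (.nd (.nd (.lf 0x67f) (.lf 0x4be)) (.nd (.lf 0x479) (.lf 0))) (.nd (.nd (.lf 0x50) (.lf 0)) (.nd (.lf 0x5e5) (.lf 0)))) (.nd (.nd (.nd (.lf 0x4ad) (.lf 0)) (.nd (.lf 0x614) (.lf 0))) (.nd (.nd (.lf 0x235) (.lf 0)) (.nd (.lf 0x1a1) (.lf 0))))) (.nd (.nd (.nd (.nd (.lf 0x3c2) (.lf 0x5d4)) (.nd (.lf 0x6f3) (.lf 0))) (.nd (.nd (.lf 0x7ac) (.lf 0)) (.nd (.lf 0x76f) (.lf 0)))) (.nd (.nd (.nd (.lf 0x436) (.lf 0)) (.nd (.lf 0x38b) (.lf 0))) (.nd (.nd (.lf 0x679) (.lf 0)) (.nd (.lf 0x653) (.lf 0)))))) (.nd (.nd (.nd (.nd (.nd (.lf 0x38) (.lf 0x1d9)) (.nd (.lf 0x11b) (.lf 0))) (.nd (.nd (.lf 0x2e8) (.lf 0)) (.nd (.lf 0x308) (.lf 0)))) (.nd (.nd (.nd (.lf 0x2bf) (.lf 0)) (.nd (.lf 0xb6) (.lf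 0))) (.nd (.nd (.lf 0x856) (.lf 0)) (.nd (.lf 0x86e) (.lf 0))))) (.nd (.nd (.nd (.nd (.lf 0x32d) (.lf 0x281)) (.nd (.lf 0x138) (.lf 0))) (.nd (.nd (.lf 0x5c1) (.lf 0)) (.nd (.lf 0x41b) (.lf 0)))) (.nd (.nd (.nd (.lf 0x806) (.lf 0)) (.nd (.lf 0x534) (.lf 0))) (.nd (.nd (.lf 0x513) (.lf 0)) (.nd (.lf 0xb9) (.lf 0)))))))
def rkQ_nbbabba : Tr := (.nd (.nd (.nd (.nd (.nd (.nd (.lf 0x306) (.lf 0x3)) (.nd (.lf 0x7e0) (.lf 0))) (.nd (.nd (.lf 0x376) (.lf 0)) (.nd (.lf 0x2a4) (.lf 0)))) (.nd (.nd (.nd (.lf 0x32b) (.lf 0)) (.nd (.lf 0x3ac) (.lf 0))) (.nd (.nd (.lf 0x1ac) (.lf 0)) (.nd (.lf 0x5d0) (.lf 0))))) (.nd (.nd (.nd (.nd (.lf 0x5be) (.lf 0x3a3)) (.nd (.lf 0x556) (.lf 0))) (.nd (.nd (.lf 0x753) (.lf 0)) (.nd (.lf 0x221) (.lf 0))))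 (.nd (.nd (.nd (.lf 0x616) (.lf 0)) (.nd (.lf 0x3bb) (.lf 0))) (.nd (.nd (.lf 0x35c) (.lf 0)) (.nd (.lf 0x255) (.lf 0)))))) (.nd (.nd (.nd (.nd (.nd (.lf 0x3c3) (.lf 0x17f)) (.nd (.lf 0x7b5) (.lf 0))) (.nd (.nd (.lf 0x1db) (.lf 0)) (.nd (.lf 0x291) (.lf 0)))) (.nd (.nd (.nd (.lf 0x6ed) (.lf 0)) (.nd (.lf 0x5c5) (.lf 0))) (.nd (.nd (.lf 0x1f6) (.lf 0)) (.nd (.lf 0x13c) (.lf 0))))) (.nd (.nd (.nd (.nd (.lf 0x557) (.lf 0x268)) (.nd (.lf 0x4a8) (.lf 0))) (.nd (.nd (.lf 0x673) (.lf 0)) (.nd (.lf 0x65e) (.lf 0)))) (.nd (.nd (.nd (.lf 0xe7) (.lf 0)) (.nd (.lf 0x1cd) (.lf 0))) (.nd (.nd (.lf 0x4d6) (.lf 0)) (.nd (.lf 0x7be) (.lf 0)))))))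
def rkQ_nbbabbb : Tr := (.nd (.nd (.nd (.nd (.nd (.nd (.lf 0x35e) (.lf 0x746)) (.nd (.lf 0xc1) (.lf 0))) (.nd (.nd (.lf 0x838) (.lf 0)) (.nd (.lf 0x783) (.lf 0)))) (.nd (.nd (.nd (.lf 0x8d6) (.lf 0)) (.nd (.lf 0x5d8) (.lf 0))) (.nd (.nd (.lf 0x652) (.lf 0)) (.nd (.lf 0x867) (.lf 0))))) (.nd (.nd (.nd (.nd (.lf 0x122) (.lf 0x52)) (.nd (.lf 0x361) (.lf 0))) (.nd (.nd (.lf 0x8da) (.lf 0)) (.nd (.lf 0x870) (.lf 0)))) (.nd (.nd (.nd (.lf 0x6bf) (.lf 0)) (.nd (.lf 0xa1) (.lf 0))) (.nd (.nd (.lf 0x8ce) (.lf 0)) (.nd (.lf 0x799) (.lf 0)))))) (.nd (.nd (.nd (.nd (.nd (.lf 0xcc) (.lf 0x422)) (.nd (.lf 0x2fd) (.lf 0))) (.nd (.nd (.lf 0x464) (.lf 0)) (.nd (.lf 0x408) (.lf 0)))) (.nd (.nd (.nd (.lf 0x5fb) (.lf 0)) (.nd (.lf 0x13e) (.lf 0)))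 (.nd (.nd (.lf 0x130) (.lf 0)) (.nd (.lf 0x73a) (.lf 0))))) (.nd (.nd (.nd (.nd (.lf 0x8cf) (.lf 0x75c)) (.nd (.lf 0x35a) (.lf 0))) (.nd (.nd (.lf 0x696) (.lf 0)) (.nd (.lf 0x84c) (.lf 0)))) (.nd (.nd (.nd (.lf 0xd8) (.lf 0)) (.nd (.lf 0x1f8) (.lf 0))) (.nd (.nd (.lf 0x5b9) (.lf 0)) (.nd (.lf 0x3e0) (.lf 0)))))))
def rkQ_nbbbaaa : Tr := (.nd (.nd (.nd (.nd (.nd (.nd (.lf 0x212) (.lf 0x83f)) (.nd (.lf 0x8b) (.lf 0))) (.nd (.nd (.lf 0x8c1) (.lf 0)) (.nd (.lf 0x1b7) (.lf 0)))) (.nd (.nd (.nd (.lf 0x6d0) (.lf 0)) (.nd (.lf 0x238) (.lf 0))) (.nd (.nd (.lf 0x427) (.lf 0)) (.nd (.lf 0x34c) (.lf 0))))) (.nd (.nd (.nd (.nd (.lf 0x1a9) (.lf 0x320)) (.nd (.lf 0x618) (.lf 0))) (.nd (.nd (.lf 0x3fd) (.lf 0)) (.nd (.lf 0x6e2) (.lf 0)))) (.nd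 (.nd (.nd (.lf 0x3b2) (.lf 0)) (.nd (.lf 0x312) (.lf 0))) (.nd (.nd (.lf 0x35d) (.lf 0)) (.nd (.lf 0x18e) (.lf 0)))))) (.nd (.nd (.nd (.nd (.nd (.lf 0x88c) (.lf 0x302)) (.nd (.lf 0x8fc) (.lf 0))) (.nd (.nd (.lf 0x166) (.lf 0)) (.nd (.lf 0x8a7) (.lf 0)))) (.nd (.nd (.nd (.lf 0x3f4) (.lf 0)) (.nd (.lf 0x155) (.lf 0))) (.nd (.nd (.lf 0x577) (.lf 0)) (.nd (.lf 0x447) (.lf 0))))) (.nd (.nd (.nd (.nd (.lf 0x23c) (.lf 0x9c)) (.nd (.lf 0x2c6) (.lf 0))) (.nd (.nd (.lf 0x6ac) (.lf 0)) (.nd (.lf 0x293) (.lf 0)))) (.nd (.nd (.nd (.lf 0xf) (.lf 0)) (.nd (.lf 0x480) (.lf 0))) (.nd (.nd (.lf 0x1e7) (.lf 0)) (.nd (.lf 0x899) (.lf 0)))))))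
def rkQ_nbbbaab : Tr := (.nd (.nd (.nd (.nd (.nd (.nd (.lf 0x77b) (.lf 0x37e)) (.nd (.lf 0x2ca) (.lf 0))) (.nd (.nd (.lf 0x78d) (.lf 0)) (.nd (.lf 0x53d) (.lf 0)))) (.nd (.nd (.nd (.lf 0x54b) (.lf 0)) (.nd (.lf 0x457) (.lf 0))) (.nd (.nd (.lf 0x89f) (.lf 0)) (.nd (.lf 0x542) (.lf 0))))) (.nd (.nd (.nd (.nd (.lf 0x5b0) (.lf 0x56)) (.nd (.lf 0x2a0) (.lf 0))) (.nd (.nd (.lf 0x62) (.lf 0)) (.nd (.lf 0x736) (.lf 0)))) (.nd (.nd (.nd (.lf 0x539) (.lf 0)) (.nd (.lf 0x90) (.lf 0))) (.nd (.nd (.lf 0x733) (.lf 0)) (.nd (.lf 0x76b) (.lf 0)))))) (.nd (.nd (.nd (.nd (.nd (.lf 0x2c0) (.lf 0x2f1)) (.nd (.lf 0x525) (.lf 0))) (.nd (.nd (.lf 0x5d2) (.lf 0)) (.nd (.lf 0xcf) (.lf 0)))) (.nd (.nd (.nd (.lf 0x353) (.lf 0)) (.nd (.lf 0x19) (.lf 0)))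 (.nd (.nd (.lf 0x84f) (.lf 0)) (.nd (.lf 0x60f) (.lf 0))))) (.nd (.nd (.nd (.nd (.lf 0x5c2) (.lf 0x66a)) (.nd (.lf 0x260) (.lf 0))) (.nd (.nd (.lf 0x518) (.lf 0)) (.nd (.lf 0x28e) (.lf 0)))) (.nd (.nd (.nd (.lf 0x61f) (.lf 0)) (.nd (.lf 0x56f) (.lf 0))) (.nd (.nd (.lf 0x380) (.lf 0)) (.nd (.lf 0x624) (.lf 0)))))))
def rkQ_nbbbaba : Tr := (.nd (.nd (.nd (.nd (.nd (.nd (.lf 0x85c) (.lf 0x6f2)) (.nd (.lf 0x387) (.lf 0))) (.nd (.nd (.lf 0x46d) (.lf 0)) (.nd (.lf 0x708) (.lf 0)))) (.nd (.nd (.nd (.lf 0x2c3) (.lf 0)) (.nd (.lf 0x19c) (.lf 0))) (.nd (.nd (.lf 0x74d) (.lf 0)) (.nd (.lf 0x2a5) (.lf 0))))) (.nd (.nd (.nd (.nd (.lf 0x85f) (.lf 0x7bb)) (.nd (.lf 0x739) (.lf 0))) (.nd (.nd (.lf 0xb4) (.lf 0)) (.nd (.lf 0x2b8) (.lf 0))))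 (.nd (.nd (.nd (.lf 0x8) (.lf 0)) (.nd (.lf 0x74) (.lf 0))) (.nd (.nd (.lf 0x8f4) (.lf 0)) (.nd (.lf 0x689) (.lf 0)))))) (.nd (.nd (.nd (.nd (.nd (.lf 0x418) (.lf 0x826)) (.nd (.lf 0x5ea) (.lf 0))) (.nd (.nd (.lf 0x8e4) (.lf 0)) (.nd (.lf 0x207) (.lf 0)))) (.nd (.nd (.nd (.lf 0x217) (.lf 0)) (.nd (.lf 0xc5) (.lf 0))) (.nd (.nd (.lf 0x4) (.lf 0)) (.nd (.lf 0x6a1) (.lf 0))))) (.nd (.nd (.nd (.nd (.lf 0x7a8) (.lf 0x766)) (.nd (.lf 0x7f4) (.lf 0))) (.nd (.nd (.lf 0x27) (.lf 0)) (.nd (.lf 0x429) (.lf 0)))) (.nd (.nd (.nd (.lf 0x9e) (.lf 0)) (.nd (.lf 0x798) (.lf 0))) (.nd (.nd (.lf 0x7fc) (.lf 0)) (.nd (.lf 0x5cc) (.lf 0)))))))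
def rkQ_nbbbabb : Tr := (.nd (.nd (.nd (.nd (.nd (.nd (.lf 0x85a) (.lf 0x8e2)) (.nd (.lf 0x177) (.lf 0))) (.nd (.nd (.lf 0x50e) (.lf 0)) (.nd (.lf 0x647) (.lf 0)))) (.nd (.nd (.nd (.lf 0x450) (.lf 0)) (.nd (.lf 0x898) (.lf 0))) (.nd (.nd (.lf 0x6ab) (.lf 0)) (.nd (.lf 0x7d7) (.lf 0))))) (.nd (.nd (.nd (.nd (.lf 0x392) (.lf 0x69c)) (.nd (.lf 0x30e) (.lf 0))) (.nd (.nd (.lf 0x65a) (.lf 0)) (.nd (.lf 0x1b4) (.lf 0)))) (.nd (.nd (.nd (.lf 0x5a) (.lf 0)) (.nd (.lf 0x6c0) (.lf 0))) (.nd (.nd (.lf 0x73f) (.lf 0)) (.nd (.lf 0x425) (.lf 0)))))) (.nd (.nd (.nd (.nd (.nd (.lf 0xb1) (.lf 0x1fe)) (.nd (.lf 0x48e) (.lf 0))) (.nd (.nd (.lf 0x128) (.lf 0)) (.nd (.lf 0x895) (.lf 0)))) (.nd (.nd (.nd (.lf 0x8d2) (.lf 0)) (.nd (.lf 0x772) (.lf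 0))) (.nd (.nd (.lf 0x4e5) (.lf 0)) (.nd (.lf 0x807) (.lf 0))))) (.nd (.nd (.nd (.nd (.lf 0x92) (.lf 0x498)) (.nd (.lf 0x15a) (.lf 0))) (.nd (.nd (.lf 0x2ad) (.lf 0)) (.nd (.lf 0x3c5) (.lf 0)))) (.nd (.nd (.nd (.lf 0x5a8) (.lf 0)) (.nd (.lf 0x28d) (.lf 0))) (.nd (.nd (.lf 0x3ec) (.lf 0)) (.nd (.lf 0x6f9) (.lf 0)))))))
def rkQ_nbbbbaa : Tr := (.nd (.nd (.nd (.nd (.nd (.nd (.lf 0x87c) (.lf 0x853)) (.nd (.lf 0x53e) (.lf 0))) (.nd (.nd (.lf 0x299) (.lf 0)) (.nd (.lf 0x847) (.lf 0)))) (.nd (.nd (.nd (.lf 0x164) (.lf 0)) (.nd (.lf 0x69a) (.lf 0))) (.nd (.nd (.lf 0x7f0) (.lf 0)) (.nd (.lf 0x646) (.lf 0))))) (.nd (.nd (.nd (.nd (.lf 0x1b8) (.lf 0x132)) (.nd (.lf 0x397) (.lf 0))) (.nd (.nd (.lf 0x3b3) (.lf 0)) (.nd (.lf 0x445) (.lf 0))))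 (.nd (.nd (.nd (.lf 0x15c) (.lf 0)) (.nd (.lf 0x3c) (.lf 0))) (.nd (.nd (.lf 0x606) (.lf 0)) (.nd (.lf 0x5d5) (.lf 0)))))) (.nd (.nd (.nd (.nd (.nd (.lf 0x694) (.lf 0x666)) (.nd (.lf 0x1c9) (.lf 0))) (.nd (.nd (.lf 0x718) (.lf 0)) (.nd (.lf 0x47b) (.lf 0)))) (.nd (.nd (.nd (.lf 0x271) (.lf 0)) (.nd (.lf 0x460) (.lf 0))) (.nd (.nd (.lf 0x811) (.lf 0)) (.nd (.lf 0x6c2) (.lf 0))))) (.nd (.nd (.nd (.nd (.lf 0x4d0) (.lf 0x45d)) (.nd (.lf 0x419) (.lf 0))) (.nd (.nd (.lf 0x3d0) (.lf 0)) (.nd (.lf 0x7d4) (.lf 0)))) (.nd (.nd (.nd (.lf 0x438) (.lf 0)) (.nd (.lf 0x39f) (.lf 0))) (.nd (.nd (.lf 0x12f) (.lf 0)) (.nd (.lf 0x159) (.lf 0)))))))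
def rkQ_nbbbbab : Tr := (.nd (.nd (.nd (.nd (.nd (.nd (.lf 0x3ad) (.lf 0x3ae)) (.nd (.lf 0x4e3) (.lf 0))) (.nd (.nd (.lf 0x5bb) (.lf 0)) (.nd (.lf 0x591) (.lf 0)))) (.nd (.nd (.nd (.lf 0x327) (.lf 0)) (.nd (.lf 0x9f) (.lf 0))) (.nd (.nd (.lf 0x319) (.lf 0)) (.nd (.lf 0x883) (.lf 0))))) (.nd (.nd (.nd (.nd (.lf 0x70a) (.lf 0x232)) (.nd (.lf 0x82a) (.lf 0))) (.nd (.nd (.lf 0x54f) (.lf 0)) (.nd (.lf 0x3da) (.lf 0)))) (.nd (.nd (.nd (.lf 0x3ee) (.lf 0)) (.nd (.lf 0x2e0) (.lf 0))) (.nd (.nd (.lf 0x16f) (.lf 0)) (.nd (.lf 0xdf) (.lf 0)))))) (.nd (.nd (.nd (.nd (.nd (.lf 0x51) (.lf 0x349)) (.nd (.lf 0x878) (.lf 0))) (.nd (.nd (.lf 0x510) (.lf 0)) (.nd (.lf 0x3d8) (.lf 0)))) (.nd (.nd (.nd (.lf 0x477) (.lf 0)) (.nd (.lf 0x31e) (.lf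 0))) (.nd (.nd (.lf 0x363) (.lf 0)) (.nd (.lf 0x80a) (.lf 0))))) (.nd (.nd (.nd (.nd (.lf 0x6e6) (.lf 0xe9)) (.nd (.lf 0x396) (.lf 0))) (.nd (.nd (.lf 0x1c) (.lf 0)) (.nd (.lf 0x5f1) (.lf 0)))) (.nd (.nd (.nd (.lf 0x295) (.lf 0)) (.nd (.lf 0x2d5) (.lf 0))) (.nd (.nd (.lf 0x8ed) (.lf 0)) (.nd (.lf 0x659) (.lf 0)))))))
def rkQ_nbbbbba : Tr := (.nd (.nd (.nd (.nd (.nd (.nd (.lf 0x42d) (.lf 0x66e)) (.nd (.lf 0x5e9) (.lf 0))) (.nd (.nd (.lf 0x53a) (.lf 0)) (.nd (.lf 0x850) (.lf 0)))) (.nd (.nd (.nd (.lf 0x4ca) (.lf 0)) (.nd (.lf 0x4e9) (.lf 0))) (.nd (.nd (.lf 0x5) (.lf 0)) (.nd (.lf 0x261) (.lf 0))))) (.nd (.nd (.nd (.nd (.lf 0x79) (.lf 0x426)) (.nd (.lf 0x2) (.lf 0))) (.nd (.nd (.lf 0x3d3) (.lf 0)) (.nd (.lf 0x3c1) (.lf 0)))) (.nd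 (.nd (.nd (.lf 0xb) (.lf 0)) (.nd (.lf 0x43a) (.lf 0))) (.nd (.nd (.lf 0x570) (.lf 0)) (.nd (.lf 0x802) (.lf 0)))))) (.nd (.nd (.nd (.nd (.nd (.lf 0x242) (.lf 0x44c)) (.nd (.lf 0x31b) (.lf 0))) (.nd (.nd (.lf 0x2fb) (.lf 0)) (.nd (.lf 0x703) (.lf 0)))) (.nd (.nd (.nd (.lf 0x40e) (.lf 0)) (.nd (.lf 0x3a2) (.lf 0))) (.nd (.nd (.lf 0x7d0) (.lf 0)) (.nd (.lf 0x4bd) (.lf 0))))) (.nd (.nd (.nd (.nd (.lf 0x21b) (.lf 0x1b3)) (.nd (.lf 0x20d) (.lf 0))) (.nd (.nd (.lf 0xd1) (.lf 0)) (.nd (.lf 0x483) (.lf 0)))) (.nd (.nd (.nd (.lf 0x7db) (.lf 0)) (.nd (.lf 0x222) (.lf 0))) (.nd (.nd (.lf 0xaf) (.lf 0)) (.nd (.lf 0x8d4) (.lf 0)))))))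
def rkQ_nbbbbbb : Tr := (.nd (.nd (.nd (.nd (.nd (.nd (.lf 0x2b4) (.lf 0x2a1)) (.nd (.lf 0x25e) (.lf 0))) (.nd (.nd (.lf 0x66c) (.lf 0)) (.nd (.lf 0x786) (.lf 0)))) (.nd (.nd (.nd (.lf 0x677) (.lf 0)) (.nd (.lf 0x2b9) (.lf 0))) (.nd (.nd (.lf 0x36) (.lf 0)) (.nd (.lf 0x752) (.lf 0))))) (.nd (.nd (.nd (.nd (.lf 0x8c4) (.lf 0x756)) (.nd (.lf 0x607) (.lf 0))) (.nd (.nd (.lf 0x20e) (.lf 0)) (.nd (.lf 0x1c2) (.lf 0)))) (.nd (.nd (.nd (.lf 0x7f3) (.lf 0)) (.nd (.lf 0x648) (.lf 0))) (.nd (.nd (.lf 0x472) (.lf 0)) (.nd (.lf 0x5b6) (.lf 0)))))) (.nd (.nd (.nd (.nd (.nd (.lf 0x768) (.lf 0x851)) (.nd (.lf 0x762) (.lf 0))) (.nd (.nd (.lf 0x7a5) (.lf 0)) (.nd (.lf 0x158) (.lf 0)))) (.nd (.nd (.nd (.lf 0x4f3) (.lf 0)) (.nd (.lf 0x174) (.lf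 0))) (.nd (.nd (.lf 0x41a) (.lf 0)) (.nd (.lf 0x14a) (.lf 0))))) (.nd (.nd (.nd (.nd (.lf 0x416) (.lf 0x346)) (.nd (.lf 0x340) (.lf 0))) (.nd (.nd (.lf 0x1e1) (.lf 0)) (.nd (.lf 0x680) (.lf 0)))) (.nd (.nd (.nd (.lf 0x602) (.lf 0)) (.nd (.lf 0x552) (.lf 0))) (.nd (.nd (.lf 0xe0) (.lf 0)) (.nd (.lf 0x650) (.lf 0)))))))
def rkQ : Tr := (.nd (.nd (.nd (.nd (.nd (.nd rkQ_naaaaaa rkQ_naaaaab) (.nd rkQ_naaaaba rkQ_naaaabb)) (.nd (.nd rkQ_naaabaa rkQ_naaabab) (.nd rkQ_naaabba rkQ_naaabbb))) (.nd (.nd (.nd rkQ_naabaaa rkQ_naabaab) (.nd rkQ_naababa rkQ_naababb)) (.nd (.nd rkQ_naabbaa rkQ_naabbab) (.nd rkQ_naabbba rkQ_naabbbb)))) (.nd (.nd (.nd (.nd rkQ_nabaaaa rkQ_nabaaab) (.nd rkQ_nabaaba rkQ_nabaabb)) (.nd (.nd rkQ_nababaa rkQ_nababab)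 (.nd rkQ_nababba rkQ_nababbb))) (.nd (.nd (.nd rkQ_nabbaaa rkQ_nabbaab) (.nd rkQ_nabbaba rkQ_nabbabb)) (.nd (.nd rkQ_nabbbaa rkQ_nabbbab) (.nd rkQ_nabbbba rkQ_nabbbbb))))) (.nd (.nd (.nd (.nd (.nd rkQ_nbaaaaa rkQ_nbaaaab) (.nd rkQ_nbaaaba rkQ_nbaaabb)) (.nd (.nd rkQ_nbaabaa rkQ_nbaabab) (.nd rkQ_nbaabba rkQ_nbaabbb))) (.nd (.nd (.nd rkQ_nbabaaa rkQ_nbabaab) (.nd rkQ_nbababa rkQ_nbababb)) (.nd (.nd rkQ_nbabbaa rkQ_nbabbab) (.nd rkQ_nbabbba rkQ_nbabbbb)))) (.nd (.nd (.nd (.nd rkQ_nbbaaaa rkQ_nbbaaab) (.nd rkQ_nbbaaba rkQ_nbbaabb)) (.nd (.nd rkQ_nbbabaa rkQ_nbbabab) (.nd rkQ_nbbabba rkQ_nbbabbb))) (.nd (.nd (.nd rkQ_nbbbaaa rkQ_nbbbaab) (.nd rkQ_nbbbaba rkQ_nbbbabb)) (.nd (.nd rkQ_nbbbbaa rkQ_nbbbbab) (.nd rkQ_nbbbbba rkQ_nbbbbbb))))))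
def srtQ_naaaaaa : Tr := (.nd (.nd (.nd (.nd (.nd (.nd (.lf 0x0) (.lf 0x799)) (.nd (.lf 0x546) (.lf 0))) (.nd (.nd (.lf 0xe2) (.lf 0)) (.nd (.lf 0x164) (.lf 0)))) (.nd (.nd (.nd (.lf 0x426) (.lf 0)) (.nd (.lf 0x363) (.lf 0))) (.nd (.nd (.lf 0x8ed) (.lf 0)) (.nd (.lf 0x411) (.lf 0))))) (.nd (.nd (.nd (.nd (.lf 0x535) (.lf 0x228)) (.nd (.lf 0x5c7) (.lf 0))) (.nd (.nd (.lf 0x3d3) (.lf 0)) (.nd (.lf 0x6ff) (.lf 0)))) (.nd (.nd (.nd (.lf 0x702) (.lf 0)) (.nd (.lf 0x558) (.lf 0))) (.nd (.nd (.lf 0x3e7) (.lf 0)) (.nd (.lf 0x579) (.lf 0)))))) (.nd (.nd (.nd (.nd (.nd (.lf 0x243) (.lf 0x38d)) (.nd (.lf 0x55) (.lf 0))) (.nd (.nd (.lf 0x3cd) (.lf 0)) (.nd (.lf 0x7c5) (.lf 0)))) (.nd (.nd (.nd (.lf 0x465) (.lf 0)) (.nd (.lf 0x66d) (.lf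 0))) (.nd (.nd (.lf 0x4ff) (.lf 0)) (.nd (.lf 0x8d0) (.lf 0))))) (.nd (.nd (.nd (.nd (.lf 0x3ec) (.lf 0x80d)) (.nd (.lf 0x2b2) (.lf 0))) (.nd (.nd (.lf 0x67) (.lf 0)) (.nd (.lf 0x5b7) (.lf 0)))) (.nd (.nd (.nd (.lf 0x3f4) (.lf 0)) (.nd (.lf 0x655) (.lf 0))) (.nd (.nd (.lf 0x70d) (.lf 0)) (.nd (.lf 0x424) (.lf 0)))))))
def srtQ_naaaaab : Tr := (.nd (.nd (.nd (.nd (.nd (.nd (.lf 0x431) (.lf 0xaa)) (.nd (.lf 0x4f5) (.lf 0))) (.nd (.nd (.lf 0x2b1) (.lf 0)) (.nd (.lf 0x656) (.lf 0)))) (.nd (.nd (.nd (.lf 0x754) (.lf 0)) (.nd (.lf 0x311) (.lf 0))) (.nd (.nd (.lf 0x887) (.lf 0)) (.nd (.lf 0x821) (.lf 0))))) (.nd (.nd (.nd (.nd (.lf 0x30e) (.lf 0x6c3)) (.nd (.lf 0xb) (.lf 0))) (.nd (.nd (.lf 0x4a7) (.lf 0)) (.nd (.lf 0x715) (.lf 0))))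 (.nd (.nd (.nd (.lf 0x7a) (.lf 0)) (.nd (.lf 0x145) (.lf 0))) (.nd (.nd (.lf 0x25a) (.lf 0)) (.nd (.lf 0x3b2) (.lf 0)))))) (.nd (.nd (.nd (.nd (.nd (.lf 0x52c) (.lf 0x51e)) (.nd (.lf 0x54f) (.lf 0))) (.nd (.nd (.lf 0x4e7) (.lf 0)) (.nd (.lf 0x891) (.lf 0)))) (.nd (.nd (.nd (.lf 0x3ce) (.lf 0)) (.nd (.lf 0x2d3) (.lf 0))) (.nd (.nd (.lf 0x828) (.lf 0)) (.nd (.lf 0x803) (.lf 0))))) (.nd (.nd (.nd (.nd (.lf 0x3ff) (.lf 0x819)) (.nd (.lf 0x744) (.lf 0))) (.nd (.nd (.lf 0x5af) (.lf 0)) (.nd (.lf 0x494) (.lf 0)))) (.nd (.nd (.nd (.lf 0x231) (.lf 0)) (.nd (.lf 0x305) (.lf 0))) (.nd (.nd (.lf 0x7fb) (.lf 0)) (.nd (.lf 0x41b) (.lf 0)))))))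
def srtQ_naaaaba : Tr := (.nd (.nd (.nd (.nd (.nd (.nd (.lf 0x582) (.lf 0x56e)) (.nd (.lf 0x63c) (.lf 0))) (.nd (.nd (.lf 0x2) (.lf 0)) (.nd (.lf 0x356) (.lf 0)))) (.nd (.nd (.nd (.lf 0x6e) (.lf 0)) (.nd (.lf 0x26f) (.lf 0))) (.nd (.nd (.lf 0x2e3) (.lf 0)) (.nd (.lf 0x50d) (.lf 0))))) (.nd (.nd (.nd (.nd (.lf 0x5a7) (.lf 0x8ca)) (.nd (.lf 0x43c) (.lf 0))) (.nd (.nd (.lf 0x7f5) (.lf 0)) (.nd (.lf 0x343) (.lf 0)))) (.nd (.nd (.nd (.lf 0x888) (.lf 0)) (.nd (.lf 0x693) (.lf 0))) (.nd (.nd (.lf 0x57c) (.lf 0)) (.nd (.lf 0x11e) (.lf 0)))))) (.nd (.nd (.nd (.nd (.nd (.lf 0x22b) (.lf 0x61f)) (.nd (.lf 0x137) (.lf 0))) (.nd (.nd (.lf 0x658) (.lf 0)) (.nd (.lf 0x7ff) (.lf 0)))) (.nd (.nd (.nd (.lf 0xe9) (.lf 0)) (.nd (.lf 0x4ce) (.lf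 0))) (.nd (.nd (.lf 0x53a) (.lf 0)) (.nd (.lf 0x7f8) (.lf 0))))) (.nd (.nd (.nd (.nd (.lf 0x565) (.lf 0x608)) (.nd (.lf 0xcf) (.lf 0))) (.nd (.nd (.lf 0x590) (.lf 0)) (.nd (.lf 0x107) (.lf 0)))) (.nd (.nd (.nd (.lf 0x6e0) (.lf 0)) (.nd (.lf 0x71b) (.lf 0))) (.nd (.nd (.lf 0x2cf) (.lf 0)) (.nd (.lf 0x35f) (.lf 0)))))))
def srtQ_naaaabb : Tr := (.nd (.nd (.nd (.nd (.nd (.nd (.lf 0x77e) (.lf 0x580)) (.nd (.lf 0x2a9) (.lf 0))) (.nd (.nd (.lf 0x2ae) (.lf 0)) (.nd (.lf 0x6e6) (.lf 0)))) (.nd (.nd (.nd (.lf 0x37b) (.lf 0)) (.nd (.lf 0x3f1) (.lf 0))) (.nd (.nd (.lf 0x681) (.lf 0)) (.nd (.lf 0x8ce) (.lf 0))))) (.nd (.nd (.nd (.nd (.lf 0x84) (.lf 0x706)) (.nd (.lf 0x8e8) (.lf 0))) (.nd (.nd (.lf 0x9) (.lf 0)) (.nd (.lf 0x758) (.lf 0))))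 (.nd (.nd (.nd (.lf 0x3a) (.lf 0)) (.nd (.lf 0xa7) (.lf 0))) (.nd (.nd (.lf 0x391) (.lf 0)) (.nd (.lf 0x90) (.lf 0)))))) (.nd (.nd (.nd (.nd (.nd (.lf 0x659) (.lf 0x6bb)) (.nd (.lf 0x4f4) (.lf 0))) (.nd (.nd (.lf 0x1d0) (.lf 0)) (.nd (.lf 0x6a8) (.lf 0)))) (.nd (.nd (.nd (.lf 0x6a4) (.lf 0)) (.nd (.lf 0x39f) (.lf 0))) (.nd (.nd (.lf 0x120) (.lf 0)) (.nd (.lf 0x442) (.lf 0))))) (.nd (.nd (.nd (.nd (.lf 0x266) (.lf 0x4a)) (.nd (.lf 0x42e) (.lf 0))) (.nd (.nd (.lf 0x5d2) (.lf 0)) (.nd (.lf 0x4ac) (.lf 0)))) (.nd (.nd (.nd (.lf 0x5fc) (.lf 0)) (.nd (.lf 0x4c6) (.lf 0))) (.nd (.nd (.lf 0x270) (.lf 0)) (.nd (.lf 0x30f) (.lf 0)))))))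
def srtQ_naaabaa : Tr := (.nd (.nd (.nd (.nd (.nd (.nd (.lf 0x197) (.lf 0x23)) (.nd (.lf 0x67b) (.lf 0))) (.nd (.nd (.lf 0x4e1) (.lf 0)) (.nd (.lf 0x7d0) (.lf 0)))) (.nd (.nd (.nd (.lf 0x846) (.lf 0)) (.nd (.lf 0x59a) (.lf 0))) (.nd (.nd (.lf 0x66b) (.lf 0)) (.nd (.lf 0x617) (.lf 0))))) (.nd (.nd (.nd (.nd (.lf 0x5b4) (.lf 0x555)) (.nd (.lf 0x208) (.lf 0))) (.nd (.nd (.lf 0xce) (.lf 0)) (.nd (.lf 0x862) (.lf 0)))) (.nd (.nd (.nd (.lf 0xc6) (.lf 0)) (.nd (.lf 0x4c2) (.lf 0))) (.nd (.nd (.lf 0x394) (.lf 0)) (.nd (.lf 0x1cb) (.lf 0)))))) (.nd (.nd (.nd (.nd (.nd (.lf 0x216) (.lf 0x8cc)) (.nd (.lf 0x34b) (.lf 0))) (.nd (.nd (.lf 0xa0) (.lf 0)) (.nd (.lf 0x5bf) (.lf 0)))) (.nd (.nd (.nd (.lf 0x265) (.lf 0)) (.nd (.lf 0x5b0) (.lf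 0))) (.nd (.nd (.lf 0x4a3) (.lf 0)) (.nd (.lf 0x240) (.lf 0))))) (.nd (.nd (.nd (.nd (.lf 0x6f1) (.lf 0x21)) (.nd (.lf 0xd0) (.lf 0))) (.nd (.nd (.lf 0xc8) (.lf 0)) (.nd (.lf 0x76d) (.lf 0)))) (.nd (.nd (.nd (.lf 0x641) (.lf 0)) (.nd (.lf 0xa4) (.lf 0))) (.nd (.nd (.lf 0x62) (.lf 0)) (.nd (.lf 0x41e) (.lf 0)))))))
def srtQ_naaabab : Tr := (.nd (.nd (.nd (.nd (.nd (.nd (.lf 0x559) (.lf 0x439)) (.nd (.lf 0x626) (.lf 0))) (.nd (.nd (.lf 0x1ec) (.lf 0)) (.nd (.lf 0x179) (.lf 0)))) (.nd (.nd (.nd (.lf 0x277) (.lf 0)) (.nd (.lf 0x86) (.lf 0))) (.nd (.nd (.lf 0x413) (.lf 0)) (.nd (.lf 0x69c) (.lf 0))))) (.nd (.nd (.nd (.nd (.lf 0x759) (.lf 0x73e)) (.nd (.lf 0x4db) (.lf 0))) (.nd (.nd (.lf 0x85d) (.lf 0)) (.nd (.lf 0xf8) (.lf 0))))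 (.nd (.nd (.nd (.lf 0x615) (.lf 0)) (.nd (.lf 0x1f7) (.lf 0))) (.nd (.nd (.lf 0x81a) (.lf 0)) (.nd (.lf 0xd7) (.lf 0)))))) (.nd (.nd (.nd (.nd (.nd (.lf 0xa1) (.lf 0x253)) (.nd (.lf 0x11d) (.lf 0))) (.nd (.nd (.lf 0x8db) (.lf 0)) (.nd (.lf 0x65a) (.lf 0)))) (.nd (.nd (.nd (.lf 0x4bc) (.lf 0)) (.nd (.lf 0x763) (.lf 0))) (.nd (.nd (.lf 0x2ee) (.lf 0)) (.nd (.lf 0x7f) (.lf 0))))) (.nd (.nd (.nd (.nd (.lf 0x893) (.lf 0x60d)) (.nd (.lf 0x236) (.lf 0))) (.nd (.nd (.lf 0x26b) (.lf 0)) (.nd (.lf 0x416) (.lf 0)))) (.nd (.nd (.nd (.lf 0x17a) (.lf 0)) (.nd (.lf 0x476) (.lf 0))) (.nd (.nd (.lf 0x519) (.lf 0)) (.nd (.lf 0x753) (.lf 0)))))))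
def srtQ_naaabba : Tr := (.nd (.nd (.nd (.nd (.nd (.nd (.lf 0x2c9) (.lf 0x760)) (.nd (.lf 0x57) (.lf 0))) (.nd (.nd (.lf 0x203) (.lf 0)) (.nd (.lf 0x487) (.lf 0)))) (.nd (.nd (.nd (.lf 0x2b0) (.lf 0)) (.nd (.lf 0x2e7) (.lf 0))) (.nd (.nd (.lf 0x676) (.lf 0)) (.nd (.lf 0x24f) (.lf 0))))) (.nd (.nd (.nd (.nd (.lf 0x850) (.lf 0x537)) (.nd (.lf 0x8f7) (.lf 0))) (.nd (.nd (.lf 0x6e1) (.lf 0)) (.nd (.lf 0x312) (.lf 0)))) (.nd (.nd (.nd (.lf 0x42c) (.lf 0)) (.nd (.lf 0x7d2) (.lf 0))) (.nd (.nd (.lf 0x8e5) (.lf 0)) (.nd (.lf 0x5d7) (.lf 0)))))) (.nd (.nd (.nd (.nd (.nd (.lf 0x27a) (.lf 0x6fc)) (.nd (.lf 0x600) (.lf 0))) (.nd (.nd (.lf 0x362) (.lf 0)) (.nd (.lf 0x64b) (.lf 0)))) (.nd (.nd (.nd (.lf 0x67f) (.lf 0)) (.nd (.lf 0x5da) (.lf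 0))) (.nd (.nd (.lf 0x1c9) (.lf 0)) (.nd (.lf 0x28d) (.lf 0))))) (.nd (.nd (.nd (.nd (.lf 0x1fb) (.lf 0x71a)) (.nd (.lf 0x3da) (.lf 0))) (.nd (.nd (.lf 0x259) (.lf 0)) (.nd (.lf 0x665) (.lf 0)))) (.nd (.nd (.nd (.lf 0x333) (.lf 0)) (.nd (.lf 0x53b) (.lf 0))) (.nd (.nd (.lf 0x66f) (.lf 0)) (.nd (.lf 0x5c1) (.lf 0)))))))
def srtQ_naaabbb : Tr := (.nd (.nd (.nd (.nd (.nd (.nd (.lf 0x6b) (.lf 0x23b)) (.nd (.lf 0x1cf) (.lf 0))) (.nd (.nd (.lf 0x507) (.lf 0)) (.nd (.lf 0x47c) (.lf 0)))) (.nd (.nd (.nd (.lf 0x4eb) (.lf 0)) (.nd (.lf 0x716) (.lf 0))) (.nd (.nd (.lf 0x2fc) (.lf 0)) (.nd (.lf 0x19c) (.lf 0))))) (.nd (.nd (.nd (.nd (.lf 0x6b6) (.lf 0x5ac)) (.nd (.lf 0x1ce) (.lf 0))) (.nd (.nd (.lf 0x697) (.lf 0)) (.nd (.lf 0x221) (.lf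 0)))) (.nd (.nd (.nd (.lf 0x8f) (.lf 0)) (.nd (.lf 0x713) (.lf 0))) (.nd (.nd (.lf 0x2d0) (.lf 0)) (.nd (.lf 0x326) (.lf 0)))))) (.nd (.nd (.nd (.nd (.nd (.lf 0x525) (.lf 0x46f)) (.nd (.lf 0x4b3) (.lf 0))) (.nd (.nd (.lf 0x486) (.lf 0)) (.nd (.lf 0x73c) (.lf 0)))) (.nd (.nd (.nd (.lf 0x44) (.lf 0)) (.nd (.lf 0x122) (.lf 0))) (.nd (.nd (.lf 0x503) (.lf 0)) (.nd (.lf 0x55d) (.lf 0))))) (.nd (.nd (.nd (.nd (.lf 0x388) (.lf 0x15a)) (.nd (.lf 0x4a0) (.lf 0))) (.nd (.nd (.lf 0x653) (.lf 0)) (.nd (.lf 0x63e) (.lf 0)))) (.nd (.nd (.nd (.lf 0x5fb) (.lf 0)) (.nd (.lf 0x3ae) (.lf 0))) (.nd (.nd (.lf 0x4cd) (.lf 0)) (.nd (.lf 0x84c) (.lf 0)))))))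
def srtQ_naabaaa : Tr := (.nd (.nd (.nd (.nd (.nd (.nd (.lf 0x357) (.lf 0x46e)) (.nd (.lf 0x375) (.lf 0))) (.nd (.nd (.lf 0x443) (.lf 0)) (.nd (.lf 0x1ed) (.lf 0)))) (.nd (.nd (.nd (.lf 0x5ad) (.lf 0)) (.nd (.lf 0x7bc) (.lf 0))) (.nd (.nd (.lf 0x704) (.lf 0)) (.nd (.lf 0x450) (.lf 0))))) (.nd (.nd (.nd (.nd (.lf 0x81) (.lf 0x79a)) (.nd (.lf 0xae) (.lf 0))) (.nd (.nd (.lf 0x338) (.lf 0)) (.nd (.lf 0x690) (.lf 0)))) (.nd (.nd (.nd (.lf 0x14b) (.lf 0)) (.nd (.lf 0x8a6) (.lf 0))) (.nd (.nd (.lf 0x229) (.lf 0)) (.nd (.lf 0x542) (.lf 0)))))) (.nd (.nd (.nd (.nd (.nd (.lf 0x82c) (.lf 0x795)) (.nd (.lf 0x8e) (.lf 0))) (.nd (.nd (.lf 0x64a) (.lf 0)) (.nd (.lf 0x21a) (.lf 0)))) (.nd (.nd (.nd (.lf 0x8c3) (.lf 0)) (.nd (.lf 0x538) (.lf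 0))) (.nd (.nd (.lf 0x6f3) (.lf 0)) (.nd (.lf 0x678) (.lf 0))))) (.nd (.nd (.nd (.nd (.lf 0x78) (.lf 0xbf)) (.nd (.lf 0x773) (.lf 0))) (.nd (.nd (.lf 0x793) (.lf 0)) (.nd (.lf 0xa2) (.lf 0)))) (.nd (.nd (.nd (.lf 0x879) (.lf 0)) (.nd (.lf 0x762) (.lf 0))) (.nd (.nd (.lf 0x604) (.lf 0)) (.nd (.lf 0x720) (.lf 0)))))))
def srtQ_naabaab : Tr := (.nd (.nd (.nd (.nd (.nd (.nd (.lf 0x66c) (.lf 0x4c5)) (.nd (.lf 0x686) (.lf 0))) (.nd (.nd (.lf 0x3f2) (.lf 0)) (.nd (.lf 0x7e7) (.lf 0)))) (.nd (.nd (.nd (.lf 0x3ed) (.lf 0)) (.nd (.lf 0x794) (.lf 0))) (.nd (.nd (.lf 0xec) (.lf 0)) (.nd (.lf 0x871) (.lf 0))))) (.nd (.nd (.nd (.nd (.lf 0x782) (.lf 0x80)) (.nd (.lf 0x4e) (.lf 0))) (.nd (.nd (.lf 0x61b) (.lf 0)) (.nd (.lf 0x406) (.lf 0))))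 (.nd (.nd (.nd (.lf 0x14e) (.lf 0)) (.nd (.lf 0x200) (.lf 0))) (.nd (.nd (.lf 0xc3) (.lf 0)) (.nd (.lf 0x49d) (.lf 0)))))) (.nd (.nd (.nd (.nd (.nd (.lf 0x45c) (.lf 0x153)) (.nd (.lf 0x27b) (.lf 0))) (.nd (.nd (.lf 0x575) (.lf 0)) (.nd (.lf 0x67e) (.lf 0)))) (.nd (.nd (.nd (.lf 0x10f) (.lf 0)) (.nd (.lf 0x421) (.lf 0))) (.nd (.nd (.lf 0x339) (.lf 0)) (.nd (.lf 0x329) (.lf 0))))) (.nd (.nd (.nd (.nd (.lf 0x824) (.lf 0x257)) (.nd (.lf 0x314) (.lf 0))) (.nd (.nd (.lf 0x21d) (.lf 0)) (.nd (.lf 0x53d) (.lf 0)))) (.nd (.nd (.nd (.lf 0x301) (.lf 0)) (.nd (.lf 0x31a) (.lf 0))) (.nd (.nd (.lf 0x39) (.lf 0)) (.nd (.lf 0x2e0) (.lf 0)))))))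
def srtQ_naababa : Tr := (.nd (.nd (.nd (.nd (.nd (.nd (.lf 0x7a3) (.lf 0x20)) (.nd (.lf 0x7b6) (.lf 0))) (.nd (.nd (.lf 0x534) (.lf 0)) (.nd (.lf 0x52b) (.lf 0)))) (.nd (.nd (.nd (.lf 0x246) (.lf 0)) (.nd (.lf 0x783) (.lf 0))) (.nd (.nd (.lf 0x190) (.lf 0)) (.nd (.lf 0x668) (.lf 0))))) (.nd (.nd (.nd (.nd (.lf 0x54e) (.lf 0x745)) (.nd (.lf 0x674) (.lf 0))) (.nd (.nd (.lf 0x701) (.lf 0)) (.nd (.lf 0x4f) (.lf 0)))) (.nd (.nd (.nd (.lf 0x59e) (.lf 0)) (.nd (.lf 0x3ad) (.lf 0))) (.nd (.nd (.lf 0x4b0) (.lf 0)) (.nd (.lf 0x316) (.lf 0)))))) (.nd (.nd (.nd (.nd (.nd (.lf 0x76a) (.lf 0xd9)) (.nd (.lf 0x1f8) (.lf 0))) (.nd (.nd (.lf 0x1ea) (.lf 0)) (.nd (.lf 0x155) (.lf 0)))) (.nd (.nd (.nd (.lf 0x141) (.lf 0)) (.nd (.lf 0x8d2) (.lf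 0))) (.nd (.nd (.lf 0x633) (.lf 0)) (.nd (.lf 0x688) (.lf 0))))) (.nd (.nd (.nd (.nd (.lf 0x178) (.lf 0x7df)) (.nd (.lf 0x8f6) (.lf 0))) (.nd (.nd (.lf 0x790) (.lf 0)) (.nd (.lf 0x299) (.lf 0)))) (.nd (.nd (.nd (.lf 0x84e) (.lf 0)) (.nd (.lf 0x8ab) (.lf 0))) (.nd (.nd (.lf 0x764) (.lf 0)) (.nd (.lf 0x6cf) (.lf 0)))))))
def srtQ_naababb : Tr := (.nd (.nd (.nd (.nd (.nd (.nd (.lf 0x83c) (.lf 0x458)) (.nd (.lf 0x278) (.lf 0))) (.nd (.nd (.lf 0x5ae) (.lf 0)) (.nd (.lf 0x6b9) (.lf 0)))) (.nd (.nd (.nd (.lf 0x330) (.lf 0)) (.nd (.lf 0x5eb) (.lf 0))) (.nd (.nd (.lf 0x4) (.lf 0)) (.nd (.lf 0x8a4) (.lf 0))))) (.nd (.nd (.nd (.nd (.lf 0x297) (.lf 0x722)) (.nd (.lf 0x176) (.lf 0))) (.nd (.nd (.lf 0x3f) (.lf 0)) (.nd (.lf 0x8b6) (.lf 0))))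 (.nd (.nd (.nd (.lf 0x6b7) (.lf 0)) (.nd (.lf 0x44a) (.lf 0))) (.nd (.nd (.lf 0x452) (.lf 0)) (.nd (.lf 0x2a2) (.lf 0)))))) (.nd (.nd (.nd (.nd (.nd (.lf 0x597) (.lf 0x3c8)) (.nd (.lf 0xbd) (.lf 0))) (.nd (.nd (.lf 0x403) (.lf 0)) (.nd (.lf 0x1c2) (.lf 0)))) (.nd (.nd (.nd (.lf 0x57f) (.lf 0)) (.nd (.lf 0x878) (.lf 0))) (.nd (.nd (.lf 0x666) (.lf 0)) (.nd (.lf 0x65c) (.lf 0))))) (.nd (.nd (.nd (.nd (.lf 0x869) (.lf 0x397)) (.nd (.lf 0x4a8) (.lf 0))) (.nd (.nd (.lf 0x104) (.lf 0)) (.nd (.lf 0x175) (.lf 0)))) (.nd (.nd (.nd (.lf 0x3b8) (.lf 0)) (.nd (.lf 0x29e) (.lf 0))) (.nd (.nd (.lf 0x147) (.lf 0)) (.nd (.lf 0x4d7) (.lf 0)))))))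
def srtQ_naabbaa : Tr := (.nd (.nd (.nd (.nd (.nd (.nd (.lf 0x33c) (.lf 0x624)) (.nd (.lf 0x540) (.lf 0))) (.nd (.nd (.lf 0x1cc) (.lf 0)) (.nd (.lf 0x76) (.lf 0)))) (.nd (.nd (.nd (.lf 0x5f1) (.lf 0)) (.nd (.lf 0x6a) (.lf 0))) (.nd (.nd (.lf 0x5c4) (.lf 0)) (.nd (.lf 0x264) (.lf 0))))) (.nd (.nd (.nd (.nd (.lf 0x146) (.lf 0x47)) (.nd (.lf 0x895) (.lf 0))) (.nd (.nd (.lf 0x1dd) (.lf 0)) (.nd (.lf 0x6d2) (.lf 0)))) (.nd (.nd (.nd (.lf 0x2d6) (.lf 0)) (.nd (.lf 0x7cb) (.lf 0))) (.nd (.nd (.lf 0x6d6) (.lf 0)) (.nd (.lf 0x284) (.lf 0)))))) (.nd (.nd (.nd (.nd (.nd (.lf 0x5d6) (.lf 0x6fb)) (.nd (.lf 0x85f) (.lf 0))) (.nd (.nd (.lf 0x588) (.lf 0)) (.nd (.lf 0x622) (.lf 0)))) (.nd (.nd (.nd (.lf 0x509) (.lf 0)) (.nd (.lf 0x313) (.lf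 0))) (.nd (.nd (.lf 0x707) (.lf 0)) (.nd (.lf 0x14c) (.lf 0))))) (.nd (.nd (.nd (.nd (.lf 0x7b) (.lf 0x62a)) (.nd (.lf 0x148) (.lf 0))) (.nd (.nd (.lf 0x49) (.lf 0)) (.nd (.lf 0x2c2) (.lf 0)))) (.nd (.nd (.nd (.lf 0x39d) (.lf 0)) (.nd (.lf 0x7d7) (.lf 0))) (.nd (.nd (.lf 0xd5) (.lf 0)) (.nd (.lf 0x24d) (.lf 0)))))))
def srtQ_naabbab : Tr := (.nd (.nd (.nd (.nd (.nd (.nd (.lf 0x75e) (.lf 0x293)) (.nd (.lf 0x6d) (.lf 0))) (.nd (.nd (.lf 0x1fc) (.lf 0)) (.nd (.lf 0x1b1) (.lf 0)))) (.nd (.nd (.nd (.lf 0x88d) (.lf 0)) (.nd (.lf 0x1d3) (.lf 0))) (.nd (.nd (.lf 0x8b3) (.lf 0)) (.nd (.lf 0x10c) (.lf 0))))) (.nd (.nd (.nd (.nd (.lf 0x462) (.lf 0x890)) (.nd (.lf 0x832) (.lf 0))) (.nd (.nd (.lf 0x5f2) (.lf 0)) (.nd (.lf 0x2c7) (.lf 0))))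 (.nd (.nd (.nd (.lf 0x31b) (.lf 0)) (.nd (.lf 0x64) (.lf 0))) (.nd (.nd (.lf 0x51b) (.lf 0)) (.nd (.lf 0x2ab) (.lf 0)))))) (.nd (.nd (.nd (.nd (.nd (.lf 0x20c) (.lf 0x8dc)) (.nd (.lf 0x842) (.lf 0))) (.nd (.nd (.lf 0xa6) (.lf 0)) (.nd (.lf 0x23f) (.lf 0)))) (.nd (.nd (.nd (.lf 0x719) (.lf 0)) (.nd (.lf 0x30b) (.lf 0))) (.nd (.nd (.lf 0x80c) (.lf 0)) (.nd (.lf 0x8) (.lf 0))))) (.nd (.nd (.nd (.nd (.lf 0xc) (.lf 0x4da)) (.nd (.lf 0x7cd) (.lf 0))) (.nd (.nd (.lf 0x27e) (.lf 0)) (.nd (.lf 0x670) (.lf 0)))) (.nd (.nd (.nd (.lf 0x660) (.lf 0)) (.nd (.lf 0x2ce) (.lf 0))) (.nd (.nd (.lf 0x3f7) (.lf 0)) (.nd (.lf 0x42) (.lf 0)))))))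
def srtQ_naabbba : Tr := (.nd (.nd (.nd (.nd (.nd (.nd (.lf 0x2ef) (.lf 0x41a)) (.nd (.lf 0x369) (.lf 0))) (.nd (.nd (.lf 0xea) (.lf 0)) (.nd (.lf 0x6a3) (.lf 0)))) (.nd (.nd (.nd (.lf 0x644) (.lf 0)) (.nd (.lf 0x1e4) (.lf 0))) (.nd (.nd (.lf 0x1b3) (.lf 0)) (.nd (.lf 0x1e1) (.lf 0))))) (.nd (.nd (.nd (.nd (.lf 0x8c7) (.lf 0x24a)) (.nd (.lf 0x67c) (.lf 0))) (.nd (.nd (.lf 0x6ee) (.lf 0)) (.nd (.lf 0x8b7) (.lf 0)))) (.nd (.nd (.nd (.lf 0x517) (.lf 0)) (.nd (.lf 0x489) (.lf 0))) (.nd (.nd (.lf 0x5e6) (.lf 0)) (.nd (.lf 0x566) (.lf 0)))))) (.nd (.nd (.nd (.nd (.nd (.lf 0x4de) (.lf 0x17)) (.nd (.lf 0x499) (.lf 0))) (.nd (.nd (.lf 0x1dc) (.lf 0)) (.nd (.lf 0x7e3) (.lf 0)))) (.nd (.nd (.nd (.lf 0x18f) (.lf 0)) (.nd (.lf 0x826) (.lf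 0))) (.nd (.nd (.lf 0x39b) (.lf 0)) (.nd (.lf 0x8fb) (.lf 0))))) (.nd (.nd (.nd (.nd (.lf 0xf2) (.lf 0x234)) (.nd (.lf 0x88) (.lf 0))) (.nd (.nd (.lf 0x7f1) (.lf 0)) (.nd (.lf 0x2f9) (.lf 0)))) (.nd (.nd (.nd (.lf 0x7a2) (.lf 0)) (.nd (.lf 0x6f9) (.lf 0))) (.nd (.nd (.lf 0x448) (.lf 0)) (.nd (.lf 0x17d) (.lf 0)))))))
def srtQ_naabbbb : Tr := (.nd (.nd (.nd (.nd (.nd (.nd (.lf 0x58f) (.lf 0x446)) (.nd (.lf 0x52a) (.lf 0))) (.nd (.nd (.lf 0xc7) (.lf 0)) (.nd (.lf 0x341) (.lf 0)))) (.nd (.nd (.nd (.lf 0x75b) (.lf 0)) (.nd (.lf 0x74) (.lf 0))) (.nd (.nd (.lf 0x45e) (.lf 0)) (.nd (.lf 0x381) (.lf 0))))) (.nd (.nd (.nd (.nd (.lf 0x501) (.lf 0x12d)) (.nd (.lf 0x36) (.lf 0))) (.nd (.nd (.lf 0x22a) (.lf 0)) (.nd (.lf 0x58b) (.lf 0))))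 (.nd (.nd (.nd (.lf 0x273) (.lf 0)) (.nd (.lf 0x482) (.lf 0))) (.nd (.nd (.lf 0x48d) (.lf 0)) (.nd (.lf 0x345) (.lf 0)))))) (.nd (.nd (.nd (.nd (.nd (.lf 0x9a) (.lf 0xf)) (.nd (.lf 0x40b) (.lf 0))) (.nd (.nd (.lf 0x3d8) (.lf 0)) (.nd (.lf 0x35) (.lf 0)))) (.nd (.nd (.nd (.lf 0x473) (.lf 0)) (.nd (.lf 0x5a1) (.lf 0))) (.nd (.nd (.lf 0x839) (.lf 0)) (.nd (.lf 0x7ec) (.lf 0))))) (.nd (.nd (.nd (.nd (.lf 0x19d) (.lf 0x447)) (.nd (.lf 0x436) (.lf 0))) (.nd (.nd (.lf 0x5fd) (.lf 0)) (.nd (.lf 0x628) (.lf 0)))) (.nd (.nd (.nd (.lf 0x169) (.lf 0)) (.nd (.lf 0x8a9) (.lf 0))) (.nd (.nd (.lf 0xe) (.lf 0)) (.nd (.lf 0x3d7) (.lf 0)))))))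
def srtQ_nabaaaa : Tr := (.nd (.nd (.nd (.nd (.nd (.nd (.lf 0x49f) (.lf 0x79f)) (.nd (.lf 0x884) (.lf 0))) (.nd (.nd (.lf 0x241) (.lf 0)) (.nd (.lf 0x1ff) (.lf 0)))) (.nd (.nd (.nd (.lf 0x5ea) (.lf 0)) (.nd (.lf 0x19) (.lf 0))) (.nd (.nd (.lf 0x847) (.lf 0)) (.nd (.lf 0x106) (.lf 0))))) (.nd (.nd (.nd (.nd (.lf 0x808) (.lf 0x51)) (.nd (.lf 0x8b5) (.lf 0))) (.nd (.nd (.lf 0x89a) (.lf 0)) (.nd (.lf 0x718) (.lf 0)))) (.nd (.nd (.nd (.lf 0x444) (.lf 0)) (.nd (.lf 0x7be) (.lf 0))) (.nd (.nd (.lf 0x438) (.lf 0)) (.nd (.lf 0x48c) (.lf 0)))))) (.nd (.nd (.nd (.nd (.nd (.lf 0x404) (.lf 0x6ea)) (.nd (.lf 0x72a) (.lf 0))) (.nd (.nd (.lf 0x5f) (.lf 0)) (.nd (.lf 0x3e5) (.lf 0)))) (.nd (.nd (.nd (.lf 0x820) (.lf 0)) (.nd (.lf 0x727) (.lf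 0))) (.nd (.nd (.lf 0x70c) (.lf 0)) (.nd (.lf 0x336) (.lf 0))))) (.nd (.nd (.nd (.nd (.lf 0x651) (.lf 0x634)) (.nd (.lf 0x792) (.lf 0))) (.nd (.nd (.lf 0x1f4) (.lf 0)) (.nd (.lf 0x74f) (.lf 0)))) (.nd (.nd (.nd (.lf 0x6bf) (.lf 0)) (.nd (.lf 0xe7) (.lf 0))) (.nd (.nd (.lf 0xab) (.lf 0)) (.nd (.lf 0x4f6) (.lf 0)))))))
def srtQ_nabaaab : Tr := (.nd (.nd (.nd (.nd (.nd (.nd (.lf 0x50e) (.lf 0x822)) (.nd (.lf 0x87b) (.lf 0))) (.nd (.nd (.lf 0x5df) (.lf 0)) (.nd (.lf 0x7fc) (.lf 0)))) (.nd (.nd (.nd (.lf 0xbb) (.lf 0)) (.nd (.lf 0x71e) (.lf 0))) (.nd (.nd (.lf 0x18) (.lf 0)) (.nd (.lf 0x691) (.lf 0))))) (.nd (.nd (.nd (.nd (.lf 0x611) (.lf 0x386)) (.nd (.lf 0x418) (.lf 0))) (.nd (.nd (.lf 0x420) (.lf 0)) (.nd (.lf 0x3dc) (.lf 0))))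 (.nd (.nd (.nd (.lf 0x5a4) (.lf 0)) (.nd (.lf 0x841) (.lf 0))) (.nd (.nd (.lf 0x55f) (.lf 0)) (.nd (.lf 0x2c0) (.lf 0)))))) (.nd (.nd (.nd (.nd (.nd (.lf 0x2a7) (.lf 0x249)) (.nd (.lf 0x2ec) (.lf 0))) (.nd (.nd (.lf 0x5de) (.lf 0)) (.nd (.lf 0x56) (.lf 0)))) (.nd (.nd (.nd (.lf 0x1e2) (.lf 0)) (.nd (.lf 0x8b8) (.lf 0))) (.nd (.nd (.lf 0x38b) (.lf 0)) (.nd (.lf 0x47f) (.lf 0))))) (.nd (.nd (.nd (.nd (.lf 0x3d1) (.lf 0x837)) (.nd (.lf 0x7f4) (.lf 0))) (.nd (.nd (.lf 0x8cb) (.lf 0)) (.nd (.lf 0x687) (.lf 0)))) (.nd (.nd (.nd (.lf 0x1f0) (.lf 0)) (.nd (.lf 0x750) (.lf 0))) (.nd (.nd (.lf 0x3a4) (.lf 0)) (.nd (.lf 0x8d6) (.lf 0)))))))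
def srtQ_nabaaba : Tr := (.nd (.nd (.nd (.nd (.nd (.nd (.lf 0x638) (.lf 0x7a8)) (.nd (.lf 0x3cb) (.lf 0))) (.nd (.nd (.lf 0x7) (.lf 0)) (.nd (.lf 0x4ec) (.lf 0)))) (.nd (.nd (.nd (.lf 0x2cb) (.lf 0)) (.nd (.lf 0x89e) (.lf 0))) (.nd (.nd (.lf 0x587) (.lf 0)) (.nd (.lf 0x26d) (.lf 0))))) (.nd (.nd (.nd (.nd (.lf 0xf7) (.lf 0xf4)) (.nd (.lf 0x848) (.lf 0))) (.nd (.nd (.lf 0x13) (.lf 0)) (.nd (.lf 0x196) (.lf 0)))) (.nd (.nd (.nd (.lf 0x166) (.lf 0)) (.nd (.lf 0x98) (.lf 0))) (.nd (.nd (.lf 0xb7) (.lf 0)) (.nd (.lf 0x742) (.lf 0)))))) (.nd (.nd (.nd (.nd (.nd (.lf 0x8bb) (.lf 0x201)) (.nd (.lf 0x4d4) (.lf 0))) (.nd (.nd (.lf 0x250) (.lf 0)) (.nd (.lf 0x33b) (.lf 0)))) (.nd (.nd (.nd (.lf 0x5e3) (.lf 0)) (.nd (.lf 0x5ff) (.lf 0)))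 (.nd (.nd (.lf 0x55c) (.lf 0)) (.nd (.lf 0x73f) (.lf 0))))) (.nd (.nd (.nd (.nd (.lf 0x74c) (.lf 0x177)) (.nd (.lf 0x280) (.lf 0))) (.nd (.nd (.lf 0x2dc) (.lf 0)) (.nd (.lf 0x154) (.lf 0)))) (.nd (.nd (.nd (.lf 0x7e) (.lf 0)) (.nd (.lf 0x267) (.lf 0))) (.nd (.nd (.lf 0x47a) (.lf 0)) (.nd (.lf 0x110) (.lf 0)))))))
def srtQ_nabaabb : Tr := (.nd (.nd (.nd (.nd (.nd (.nd (.lf 0x2e8) (.lf 0x705)) (.nd (.lf 0x529) (.lf 0))) (.nd (.nd (.lf 0x8af) (.lf 0)) (.nd (.lf 0x7e2) (.lf 0)))) (.nd (.nd (.nd (.lf 0x88f) (.lf 0)) (.nd (.lf 0x340) (.lf 0))) (.nd (.nd (.lf 0x539) (.lf 0)) (.nd (.lf 0x37d) (.lf 0))))) (.nd (.nd (.nd (.nd (.lf 0x8e1) (.lf 0x1f2)) (.nd (.lf 0x4e8) (.lf 0))) (.nd (.nd (.lf 0x36c) (.lf 0)) (.nd (.lf 0x36d) (.lf 0))))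 (.nd (.nd (.nd (.lf 0x1c5) (.lf 0)) (.nd (.lf 0x6ae) (.lf 0))) (.nd (.nd (.lf 0x187) (.lf 0)) (.nd (.lf 0x6e8) (.lf 0)))))) (.nd (.nd (.nd (.nd (.nd (.lf 0x2da) (.lf 0x159)) (.nd (.lf 0x3bf) (.lf 0))) (.nd (.nd (.lf 0x2e5) (.lf 0)) (.nd (.lf 0x541) (.lf 0)))) (.nd (.nd (.nd (.lf 0x318) (.lf 0)) (.nd (.lf 0x6ec) (.lf 0))) (.nd (.nd (.lf 0x73) (.lf 0)) (.nd (.lf 0x577) (.lf 0))))) (.nd (.nd (.nd (.nd (.lf 0x34a) (.lf 0x8a8)) (.nd (.lf 0x4fd) (.lf 0))) (.nd (.nd (.lf 0x784) (.lf 0)) (.nd (.lf 0x817) (.lf 0)))) (.nd (.nd (.nd (.lf 0x551) (.lf 0)) (.nd (.lf 0x349) (.lf 0))) (.nd (.nd (.lf 0x19e) (.lf 0)) (.nd (.lf 0x748) (.lf 0)))))))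
def srtQ_nababaa : Tr := (.nd (.nd (.nd (.nd (.nd (.nd (.lf 0x258) (.lf 0x76f)) (.nd (.lf 0x581) (.lf 0))) (.nd (.nd (.lf 0x2d4) (.lf 0)) (.nd (.lf 0x810) (.lf 0)))) (.nd (.nd (.nd (.lf 0x4b8) (.lf 0)) (.nd (.lf 0x1d2) (.lf 0))) (.nd (.nd (.lf 0x10) (.lf 0)) (.nd (.lf 0xaf) (.lf 0))))) (.nd (.nd (.nd (.nd (.lf 0x583) (.lf 0x32)) (.nd (.lf 0x44b) (.lf 0))) (.nd (.nd (.lf 0x4e0) (.lf 0)) (.nd (.lf 0x12a) (.lf 0)))) (.nd (.nd (.nd (.lf 0x530) (.lf 0)) (.nd (.lf 0xf1) (.lf 0))) (.nd (.nd (.lf 0xf0) (.lf 0)) (.nd (.lf 0x6bc) (.lf 0)))))) (.nd (.nd (.nd (.nd (.nd (.lf 0xed) (.lf 0x7fa)) (.nd (.lf 0x128) (.lf 0))) (.nd (.nd (.lf 0x640) (.lf 0)) (.nd (.lf 0x165) (.lf 0)))) (.nd (.nd (.nd (.lf 0x77f) (.lf 0)) (.nd (.lf 0x30) (.lf 0)))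 (.nd (.nd (.lf 0x85a) (.lf 0)) (.nd (.lf 0x279) (.lf 0))))) (.nd (.nd (.nd (.nd (.lf 0x2a5) (.lf 0x408)) (.nd (.lf 0x11f) (.lf 0))) (.nd (.nd (.lf 0x427) (.lf 0)) (.nd (.lf 0x355) (.lf 0)))) (.nd (.nd (.nd (.lf 0x798) (.lf 0)) (.nd (.lf 0x60c) (.lf 0))) (.nd (.nd (.lf 0x1f9) (.lf 0)) (.nd (.lf 0xa8) (.lf 0)))))))
def srtQ_nababab : Tr := (.nd (.nd (.nd (.nd (.nd (.nd (.lf 0x7c) (.lf 0x4af)) (.nd (.lf 0x735) (.lf 0))) (.nd (.nd (.lf 0x173) (.lf 0)) (.nd (.lf 0x116) (.lf 0)))) (.nd (.nd (.nd (.lf 0x82e) (.lf 0)) (.nd (.lf 0x58d) (.lf 0))) (.nd (.nd (.lf 0x8f3) (.lf 0)) (.nd (.lf 0x76c) (.lf 0))))) (.nd (.nd (.nd (.nd (.lf 0xd1) (.lf 0x616)) (.nd (.lf 0x6) (.lf 0))) (.nd (.nd (.lf 0x643) (.lf 0)) (.nd (.lf 0x57d) (.lf 0)))) (.nd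 (.nd (.nd (.lf 0x889) (.lf 0)) (.nd (.lf 0x332) (.lf 0))) (.nd (.nd (.lf 0x4e9) (.lf 0)) (.nd (.lf 0xb9) (.lf 0)))))) (.nd (.nd (.nd (.nd (.nd (.lf 0x430) (.lf 0x24b)) (.nd (.lf 0x806) (.lf 0))) (.nd (.nd (.lf 0x612) (.lf 0)) (.nd (.lf 0x8e7) (.lf 0)))) (.nd (.nd (.nd (.lf 0x8b2) (.lf 0)) (.nd (.lf 0xcc) (.lf 0))) (.nd (.nd (.lf 0x423) (.lf 0)) (.nd (.lf 0x8bd) (.lf 0))))) (.nd (.nd (.nd (.nd (.lf 0x4a5) (.lf 0x219)) (.nd (.lf 0x1a5) (.lf 0))) (.nd (.nd (.lf 0x770) (.lf 0)) (.nd (.lf 0x74a) (.lf 0)))) (.nd (.nd (.nd (.lf 0x1b4) (.lf 0)) (.nd (.lf 0x457) (.lf 0))) (.nd (.nd (.lf 0x88b) (.lf 0)) (.nd (.lf 0x709) (.lf 0)))))))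
def srtQ_nababba : Tr := (.nd (.nd (.nd (.nd (.nd (.nd (.lf 0x18a) (.lf 0x1ac)) (.nd (.lf 0x37f) (.lf 0))) (.nd (.nd (.lf 0x289) (.lf 0)) (.nd (.lf 0x68c) (.lf 0)))) (.nd (.nd (.nd (.lf 0x2f0) (.lf 0)) (.nd (.lf 0x325) (.lf 0))) (.nd (.nd (.lf 0x4d9) (.lf 0)) (.nd (.lf 0x6b8) (.lf 0))))) (.nd (.nd (.nd (.nd (.lf 0x38c) (.lf 0x42a)) (.nd (.lf 0x823) (.lf 0))) (.nd (.nd (.lf 0x3ac) (.lf 0)) (.nd (.lf 0x50f) (.lf 0)))) (.nd (.nd (.nd (.lf 0x3fc) (.lf 0)) (.nd (.lf 0xac) (.lf 0))) (.nd (.nd (.lf 0x664) (.lf 0)) (.nd (.lf 0x46a) (.lf 0)))))) (.nd (.nd (.nd (.nd (.nd (.lf 0x1b7) (.lf 0x37)) (.nd (.lf 0x765) (.lf 0))) (.nd (.nd (.lf 0x8e0) (.lf 0)) (.nd (.lf 0x2b7) (.lf 0)))) (.nd (.nd (.nd (.lf 0x4f7) (.lf 0)) (.nd (.lf 0x755) (.lf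 0))) (.nd (.nd (.lf 0x4fb) (.lf 0)) (.nd (.lf 0x7e9) (.lf 0))))) (.nd (.nd (.nd (.nd (.lf 0x23a) (.lf 0x2bb)) (.nd (.lf 0x1fd) (.lf 0))) (.nd (.nd (.lf 0x5cd) (.lf 0)) (.nd (.lf 0x53e) (.lf 0)))) (.nd (.nd (.nd (.lf 0x392) (.lf 0)) (.nd (.lf 0x5b8) (.lf 0))) (.nd (.nd (.lf 0x6af) (.lf 0)) (.nd (.lf 0x885) (.lf 0)))))))
def srtQ_nababbb : Tr := (.nd (.nd (.nd (.nd (.nd (.nd (.lf 0x3e4) (.lf 0x172)) (.nd (.lf 0x59f) (.lf 0))) (.nd (.nd (.lf 0x872) (.lf 0)) (.nd (.lf 0x805) (.lf 0)))) (.nd (.nd (.nd (.lf 0x11a) (.lf 0)) (.nd (.lf 0x21f) (.lf 0))) (.nd (.nd (.lf 0x2f1) (.lf 0)) (.nd (.lf 0x77b) (.lf 0))))) (.nd (.nd (.nd (.nd (.lf 0x1f3) (.lf 0x54b)) (.nd (.lf 0x453) (.lf 0))) (.nd (.nd (.lf 0x642) (.lf 0)) (.nd (.lf 0x4dc) (.lf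 0)))) (.nd (.nd (.nd (.lf 0x366) (.lf 0)) (.nd (.lf 0x61a) (.lf 0))) (.nd (.nd (.lf 0x695) (.lf 0)) (.nd (.lf 0x68b) (.lf 0)))))) (.nd (.nd (.nd (.nd (.nd (.lf 0x324) (.lf 0x618)) (.nd (.lf 0x1c6) (.lf 0))) (.nd (.nd (.lf 0x37c) (.lf 0)) (.nd (.lf 0x23e) (.lf 0)))) (.nd (.nd (.nd (.lf 0x596) (.lf 0)) (.nd (.lf 0x58) (.lf 0))) (.nd (.nd (.lf 0x573) (.lf 0)) (.nd (.lf 0x94) (.lf 0))))) (.nd (.nd (.nd (.nd (.lf 0x7e4) (.lf 0x52e)) (.nd (.lf 0x2f8) (.lf 0))) (.nd (.nd (.lf 0x60a) (.lf 0)) (.nd (.lf 0x502) (.lf 0)))) (.nd (.nd (.nd (.lf 0x609) (.lf 0)) (.nd (.lf 0x95) (.lf 0))) (.nd (.nd (.lf 0x62e) (.lf 0)) (.nd (.lf 0xc5) (.lf 0)))))))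
def srtQ_nabbaaa : Tr := (.nd (.nd (.nd (.nd (.nd (.nd (.lf 0x71c) (.lf 0x1eb)) (.nd (.lf 0x304) (.lf 0))) (.nd (.nd (.lf 0x8a1) (.lf 0)) (.nd (.lf 0x38f) (.lf 0)))) (.nd (.nd (.nd (.lf 0x23c) (.lf 0)) (.nd (.lf 0x53c) (.lf 0))) (.nd (.nd (.lf 0x1b) (.lf 0)) (.nd (.lf 0x549) (.lf 0))))) (.nd (.nd (.nd (.nd (.lf 0x699) (.lf 0x598)) (.nd (.lf 0xb8) (.lf 0))) (.nd (.nd (.lf 0x198) (.lf 0)) (.nd (.lf 0x328) (.lf 0)))) (.nd (.nd (.nd (.lf 0x7f9) (.lf 0)) (.nd (.lf 0x513) (.lf 0))) (.nd (.nd (.lf 0x8e4) (.lf 0)) (.nd (.lf 0x63f) (.lf 0)))))) (.nd (.nd (.nd (.nd (.nd (.lf 0x5fa) (.lf 0x696)) (.nd (.lf 0x478) (.lf 0))) (.nd (.nd (.lf 0x59c) (.lf 0)) (.nd (.lf 0x70f) (.lf 0)))) (.nd (.nd (.nd (.lf 0x54a) (.lf 0)) (.nd (.lf 0x302) (.lf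 0))) (.nd (.nd (.lf 0x8ff) (.lf 0)) (.nd (.lf 0x83b) (.lf 0))))) (.nd (.nd (.nd (.nd (.lf 0x728) (.lf 0x504)) (.nd (.lf 0x58a) (.lf 0))) (.nd (.nd (.lf 0x4c7) (.lf 0)) (.nd (.lf 0x315) (.lf 0)))) (.nd (.nd (.nd (.lf 0x844) (.lf 0)) (.nd (.lf 0x23d) (.lf 0))) (.nd (.nd (.lf 0x5a2) (.lf 0)) (.nd (.lf 0x35e) (.lf 0)))))))
def srtQ_nabbaab : Tr := (.nd (.nd (.nd (.nd (.nd (.nd (.lf 0x74d) (.lf 0x857)) (.nd (.lf 0x89f) (.lf 0))) (.nd (.nd (.lf 0x136) (.lf 0)) (.nd (.lf 0x459) (.lf 0)))) (.nd (.nd (.nd (.lf 0xcd) (.lf 0)) (.nd (.lf 0x495) (.lf 0))) (.nd (.nd (.lf 0x3d9) (.lf 0)) (.nd (.lf 0x8d3) (.lf 0))))) (.nd (.nd (.nd (.nd (.lf 0x63) (.lf 0x804)) (.nd (.lf 0x4b5) (.lf 0))) (.nd (.nd (.lf 0x2fe) (.lf 0)) (.nd (.lf 0x531) (.lf 0))))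 (.nd (.nd (.nd (.lf 0x57a) (.lf 0)) (.nd (.lf 0x6ad) (.lf 0))) (.nd (.nd (.lf 0x5ce) (.lf 0)) (.nd (.lf 0x4d1) (.lf 0)))))) (.nd (.nd (.nd (.nd (.nd (.lf 0x60e) (.lf 0x73a)) (.nd (.lf 0x741) (.lf 0))) (.nd (.nd (.lf 0x42d) (.lf 0)) (.nd (.lf 0x84f) (.lf 0)))) (.nd (.nd (.nd (.lf 0x247) (.lf 0)) (.nd (.lf 0x631) (.lf 0))) (.nd (.nd (.lf 0x6c0) (.lf 0)) (.nd (.lf 0x8d7) (.lf 0))))) (.nd (.nd (.nd (.nd (.lf 0xfe) (.lf 0x4d2)) (.nd (.lf 0x584) (.lf 0))) (.nd (.nd (.lf 0xca) (.lf 0)) (.nd (.lf 0xef) (.lf 0)))) (.nd (.nd (.nd (.lf 0x766) (.lf 0)) (.nd (.lf 0x15c) (.lf 0))) (.nd (.nd (.lf 0x77a) (.lf 0)) (.nd (.lf 0x8f9) (.lf 0)))))))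
def srtQ_nabbaba : Tr := (.nd (.nd (.nd (.nd (.nd (.nd (.lf 0x469) (.lf 0x1be)) (.nd (.lf 0xff) (.lf 0))) (.nd (.nd (.lf 0x4b9) (.lf 0)) (.nd (.lf 0x19b) (.lf 0)))) (.nd (.nd (.nd (.lf 0xda) (.lf 0)) (.nd (.lf 0x78e) (.lf 0))) (.nd (.nd (.lf 0x61e) (.lf 0)) (.nd (.lf 0x4c9) (.lf 0))))) (.nd (.nd (.nd (.nd (.lf 0x14a) (.lf 0x5d1)) (.nd (.lf 0x776) (.lf 0))) (.nd (.nd (.lf 0x5aa) (.lf 0)) (.nd (.lf 0x2fb) (.lf 0)))) (.nd (.nd (.nd (.lf 0x354) (.lf 0)) (.nd (.lf 0x7d3) (.lf 0))) (.nd (.nd (.lf 0x4ef) (.lf 0)) (.nd (.lf 0x35a) (.lf 0)))))) (.nd (.nd (.nd (.nd (.nd (.lf 0x8a7) (.lf 0x36b)) (.nd (.lf 0x2c6) (.lf 0))) (.nd (.nd (.lf 0x28e) (.lf 0)) (.nd (.lf 0x7b2) (.lf 0)))) (.nd (.nd (.nd (.lf 0x1ee) (.lf 0)) (.nd (.lf 0x49b) (.lf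 0))) (.nd (.nd (.lf 0x12) (.lf 0)) (.nd (.lf 0x8bf) (.lf 0))))) (.nd (.nd (.nd (.nd (.lf 0x518) (.lf 0x13b)) (.nd (.lf 0x3db) (.lf 0))) (.nd (.nd (.lf 0x585) (.lf 0)) (.nd (.lf 0x255) (.lf 0)))) (.nd (.nd (.nd (.lf 0x239) (.lf 0)) (.nd (.lf 0x5b1) (.lf 0))) (.nd (.nd (.lf 0x4cb) (.lf 0)) (.nd (.lf 0x39a) (.lf 0)))))))
def srtQ_nabbabb : Tr := (.nd (.nd (.nd (.nd (.nd (.nd (.lf 0x33f) (.lf 0x242)) (.nd (.lf 0x1ab) (.lf 0))) (.nd (.nd (.lf 0x20e) (.lf 0)) (.nd (.lf 0x3b9) (.lf 0)))) (.nd (.nd (.nd (.lf 0x6ce) (.lf 0)) (.nd (.lf 0x1ca) (.lf 0))) (.nd (.nd (.lf 0x751) (.lf 0)) (.nd (.lf 0x6a7) (.lf 0))))) (.nd (.nd (.nd (.nd (.lf 0x56b) (.lf 0x838)) (.nd (.lf 0x1fe) (.lf 0))) (.nd (.nd (.lf 0x7c2) (.lf 0)) (.nd (.lf 0x63d) (.lf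 0)))) (.nd (.nd (.nd (.lf 0x8ba) (.lf 0)) (.nd (.lf 0x7bf) (.lf 0))) (.nd (.nd (.lf 0x2ed) (.lf 0)) (.nd (.lf 0x223) (.lf 0)))))) (.nd (.nd (.nd (.nd (.nd (.lf 0x594) (.lf 0x825)) (.nd (.lf 0x5cc) (.lf 0))) (.nd (.nd (.lf 0x3f5) (.lf 0)) (.nd (.lf 0x6ed) (.lf 0)))) (.nd (.nd (.nd (.lf 0x7ad) (.lf 0)) (.nd (.lf 0x2b8) (.lf 0))) (.nd (.nd (.lf 0x21b) (.lf 0)) (.nd (.lf 0x752) (.lf 0))))) (.nd (.nd (.nd (.nd (.lf 0x6d8) (.lf 0x6d3)) (.nd (.lf 0x4b) (.lf 0))) (.nd (.nd (.lf 0x480) (.lf 0)) (.nd (.lf 0x78d) (.lf 0)))) (.nd (.nd (.nd (.lf 0x35b) (.lf 0)) (.nd (.lf 0x550) (.lf 0))) (.nd (.nd (.lf 0x3ba) (.lf 0)) (.nd (.lf 0x2ac) (.lf 0)))))))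
def srtQ_nabbbaa : Tr := (.nd (.nd (.nd (.nd (.nd (.nd (.lf 0x818) (.lf 0x564)) (.nd (.lf 0x15f) (.lf 0))) (.nd (.nd (.lf 0x2bf) (.lf 0)) (.nd (.lf 0x5a5) (.lf 0)))) (.nd (.nd (.nd (.lf 0x1) (.lf 0)) (.nd (.lf 0x237) (.lf 0))) (.nd (.nd (.lf 0x4b7) (.lf 0)) (.nd (.lf 0x143) (.lf 0))))) (.nd (.nd (.nd (.nd (.lf 0x586) (.lf 0x554)) (.nd (.lf 0x477) (.lf 0))) (.nd (.nd (.lf 0x6e7) (.lf 0)) (.nd (.lf 0x3c4) (.lf 0)))) (.nd (.nd (.nd (.lf 0x787) (.lf 0)) (.nd (.lf 0x1d5) (.lf 0))) (.nd (.nd (.lf 0x29a) (.lf 0)) (.nd (.lf 0x8a0) (.lf 0)))))) (.nd (.nd (.nd (.nd (.nd (.lf 0x606) (.lf 0x791)) (.nd (.lf 0x6f0) (.lf 0))) (.nd (.nd (.lf 0x3a3) (.lf 0)) (.nd (.lf 0x64c) (.lf 0)))) (.nd (.nd (.nd (.lf 0x785) (.lf 0)) (.nd (.lf 0x3a2) (.lf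 0))) (.nd (.nd (.lf 0x46d) (.lf 0)) (.nd (.lf 0x562) (.lf 0))))) (.nd (.nd (.nd (.nd (.lf 0x39c) (.lf 0x3bb)) (.nd (.lf 0x3c0) (.lf 0))) (.nd (.nd (.lf 0x8c5) (.lf 0)) (.nd (.lf 0x639) (.lf 0)))) (.nd (.nd (.nd (.lf 0x552) (.lf 0)) (.nd (.lf 0x19a) (.lf 0))) (.nd (.nd (.lf 0xfd) (.lf 0)) (.nd (.lf 0x123) (.lf 0)))))))
def srtQ_nabbbab : Tr := (.nd (.nd (.nd (.nd (.nd (.nd (.lf 0x77d) (.lf 0x28)) (.nd (.lf 0x2e6) (.lf 0))) (.nd (.nd (.lf 0x532) (.lf 0)) (.nd (.lf 0x461) (.lf 0)))) (.nd (.nd (.nd (.lf 0x599) (.lf 0)) (.nd (.lf 0x119) (.lf 0))) (.nd (.nd (.lf 0x601) (.lf 0)) (.nd (.lf 0x8be) (.lf 0))))) (.nd (.nd (.nd (.nd (.lf 0x1e3) (.lf 0x574)) (.nd (.lf 0x2dd) (.lf 0))) (.nd (.nd (.lf 0x5e) (.lf 0)) (.nd (.lf 0x7b1) (.lf 0))))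 (.nd (.nd (.nd (.lf 0x28c) (.lf 0)) (.nd (.lf 0x8c4) (.lf 0))) (.nd (.nd (.lf 0x82f) (.lf 0)) (.nd (.lf 0x3e2) (.lf 0)))))) (.nd (.nd (.nd (.nd (.nd (.lf 0x663) (.lf 0x76b)) (.nd (.lf 0x4d5) (.lf 0))) (.nd (.nd (.lf 0x6bd) (.lf 0)) (.nd (.lf 0x81f) (.lf 0)))) (.nd (.nd (.nd (.lf 0x56a) (.lf 0)) (.nd (.lf 0x6f2) (.lf 0))) (.nd (.nd (.lf 0x69) (.lf 0)) (.nd (.lf 0x726) (.lf 0))))) (.nd (.nd (.nd (.nd (.lf 0x8e6) (.lf 0x88a)) (.nd (.lf 0x6cc) (.lf 0))) (.nd (.nd (.lf 0x698) (.lf 0)) (.nd (.lf 0x548) (.lf 0)))) (.nd (.nd (.nd (.lf 0x836) (.lf 0)) (.nd (.lf 0x816) (.lf 0))) (.nd (.nd (.lf 0x1af) (.lf 0)) (.nd (.lf 0x2f3) (.lf 0)))))))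
def srtQ_nabbbba : Tr := (.nd (.nd (.nd (.nd (.nd (.nd (.lf 0x16d) (.lf 0x331)) (.nd (.lf 0x86d) (.lf 0))) (.nd (.nd (.lf 0x1d9) (.lf 0)) (.nd (.lf 0x34c) (.lf 0)))) (.nd (.nd (.nd (.lf 0xe3) (.lf 0)) (.nd (.lf 0x5a3) (.lf 0))) (.nd (.nd (.lf 0x56f) (.lf 0)) (.nd (.lf 0x15e) (.lf 0))))) (.nd (.nd (.nd (.nd (.lf 0x1d7) (.lf 0x861)) (.nd (.lf 0x512) (.lf 0))) (.nd (.nd (.lf 0x7ce) (.lf 0)) (.nd (.lf 0x511) (.lf 0)))) (.nd (.nd (.nd (.lf 0x3a5) (.lf 0)) (.nd (.lf 0x4a6) (.lf 0))) (.nd (.nd (.lf 0x684) (.lf 0)) (.nd (.lf 0x5cb) (.lf 0)))))) (.nd (.nd (.nd (.nd (.nd (.lf 0x4ee) (.lf 0x8bc)) (.nd (.lf 0x3c5) (.lf 0))) (.nd (.nd (.lf 0x43f) (.lf 0)) (.nd (.lf 0x6db) (.lf 0)))) (.nd (.nd (.nd (.lf 0x515) (.lf 0)) (.nd (.lf 0x20a) (.lf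 0))) (.nd (.nd (.lf 0x3b) (.lf 0)) (.nd (.lf 0x7e8) (.lf 0))))) (.nd (.nd (.nd (.nd (.lf 0x455) (.lf 0x779)) (.nd (.lf 0x113) (.lf 0))) (.nd (.nd (.lf 0x168) (.lf 0)) (.nd (.lf 0x47e) (.lf 0)))) (.nd (.nd (.nd (.lf 0x1c1) (.lf 0)) (.nd (.lf 0x3e3) (.lf 0))) (.nd (.nd (.lf 0x2a4) (.lf 0)) (.nd (.lf 0x4f2) (.lf 0)))))))
def srtQ_nabbbbb : Tr := (.nd (.nd (.nd (.nd (.nd (.nd (.lf 0x2e4) (.lf 0x85)) (.nd (.lf 0x83) (.lf 0))) (.nd (.nd (.lf 0x619) (.lf 0)) (.nd (.lf 0x28b) (.lf 0)))) (.nd (.nd (.nd (.lf 0x57b) (.lf 0)) (.nd (.lf 0x40f) (.lf 0))) (.nd (.nd (.lf 0x308) (.lf 0)) (.nd (.lf 0x4d0) (.lf 0))))) (.nd (.nd (.nd (.nd (.lf 0x6d5) (.lf 0x358)) (.nd (.lf 0x82b) (.lf 0))) (.nd (.nd (.lf 0x252) (.lf 0)) (.nd (.lf 0xe5) (.lf 0))))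 (.nd (.nd (.nd (.lf 0x18d) (.lf 0)) (.nd (.lf 0x9b) (.lf 0))) (.nd (.nd (.lf 0x109) (.lf 0)) (.nd (.lf 0x7db) (.lf 0)))))) (.nd (.nd (.nd (.nd (.nd (.lf 0x6b0) (.lf 0x359)) (.nd (.lf 0x463) (.lf 0))) (.nd (.nd (.lf 0x38e) (.lf 0)) (.nd (.lf 0x3) (.lf 0)))) (.nd (.nd (.nd (.lf 0x24c) (.lf 0)) (.nd (.lf 0x2ea) (.lf 0))) (.nd (.nd (.lf 0x827) (.lf 0)) (.nd (.lf 0x2a1) (.lf 0))))) (.nd (.nd (.nd (.nd (.lf 0x859) (.lf 0x30d)) (.nd (.lf 0x7b0) (.lf 0))) (.nd (.nd (.lf 0x192) (.lf 0)) (.nd (.lf 0x833) (.lf 0)))) (.nd (.nd (.nd (.lf 0x877) (.lf 0)) (.nd (.lf 0x286) (.lf 0))) (.nd (.nd (.lf 0xba) (.lf 0)) (.nd (.lf 0x883) (.lf 0)))))))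
def srtQ_nbaaaaa : Tr := (.nd (.nd (.nd (.nd (.nd (.nd (.lf 0x50a) (.lf 0x3e1)) (.nd (.lf 0x57e) (.lf 0))) (.nd (.nd (.lf 0x1c4) (.lf 0)) (.nd (.lf 0x556) (.lf 0)))) (.nd (.nd (.nd (.lf 0x3be) (.lf 0)) (.nd (.lf 0x479) (.lf 0))) (.nd (.nd (.lf 0x256) (.lf 0)) (.nd (.lf 0x6b1) (.lf 0))))) (.nd (.nd (.nd (.nd (.lf 0x34) (.lf 0x5f8)) (.nd (.lf 0x400) (.lf 0))) (.nd (.nd (.lf 0x8eb) (.lf 0)) (.nd (.lf 0x8f5) (.lf 0)))) (.nd (.nd (.nd (.lf 0x211) (.lf 0)) (.nd (.lf 0x8de) (.lf 0))) (.nd (.nd (.lf 0x13a) (.lf 0)) (.nd (.lf 0x1e) (.lf 0)))))) (.nd (.nd (.nd (.nd (.nd (.lf 0x6ba) (.lf 0x3f8)) (.nd (.lf 0x22) (.lf 0))) (.nd (.nd (.lf 0x36a) (.lf 0)) (.nd (.lf 0x454) (.lf 0)))) (.nd (.nd (.nd (.lf 0x134) (.lf 0)) (.nd (.lf 0x739) (.lf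 0))) (.nd (.nd (.lf 0x60b) (.lf 0)) (.nd (.lf 0x4e3) (.lf 0))))) (.nd (.nd (.nd (.nd (.lf 0x43b) (.lf 0x207)) (.nd (.lf 0x3d2) (.lf 0))) (.nd (.nd (.lf 0x80a) (.lf 0)) (.nd (.lf 0x100) (.lf 0)))) (.nd (.nd (.nd (.lf 0x654) (.lf 0)) (.nd (.lf 0x2eb) (.lf 0))) (.nd (.nd (.lf 0x69f) (.lf 0)) (.nd (.lf 0x54c) (.lf 0)))))))
def srtQ_nbaaaab : Tr := (.nd (.nd (.nd (.nd (.nd (.nd (.lf 0x700) (.lf 0x692)) (.nd (.lf 0x5d0) (.lf 0))) (.nd (.nd (.lf 0x69b) (.lf 0)) (.nd (.lf 0x310) (.lf 0)))) (.nd (.nd (.nd (.lf 0xdc) (.lf 0)) (.nd (.lf 0x9c) (.lf 0))) (.nd (.nd (.lf 0x4ba) (.lf 0)) (.nd (.lf 0x576) (.lf 0))))) (.nd (.nd (.nd (.nd (.lf 0x5bb) (.lf 0xd)) (.nd (.lf 0x4a1) (.lf 0))) (.nd (.nd (.lf 0x83f) (.lf 0)) (.nd (.lf 0x757) (.lf 0))))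 (.nd (.nd (.nd (.lf 0x72b) (.lf 0)) (.nd (.lf 0x13c) (.lf 0))) (.nd (.nd (.lf 0x43d) (.lf 0)) (.nd (.lf 0x3ea) (.lf 0)))))) (.nd (.nd (.nd (.nd (.nd (.lf 0x48b) (.lf 0x75a)) (.nd (.lf 0x710) (.lf 0))) (.nd (.nd (.lf 0x71f) (.lf 0)) (.nd (.lf 0x1e5) (.lf 0)))) (.nd (.nd (.nd (.lf 0x83d) (.lf 0)) (.nd (.lf 0x3de) (.lf 0))) (.nd (.nd (.lf 0x4bb) (.lf 0)) (.nd (.lf 0x7de) (.lf 0))))) (.nd (.nd (.nd (.nd (.lf 0x6ac) (.lf 0x73d)) (.nd (.lf 0x3c1) (.lf 0))) (.nd (.nd (.lf 0x292) (.lf 0)) (.nd (.lf 0x8a3) (.lf 0)))) (.nd (.nd (.nd (.lf 0x2ff) (.lf 0)) (.nd (.lf 0x68) (.lf 0))) (.nd (.nd (.lf 0x491) (.lf 0)) (.nd (.lf 0x629) (.lf 0)))))))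
def srtQ_nbaaaba : Tr := (.nd (.nd (.nd (.nd (.nd (.nd (.lf 0x2de) (.lf 0x34f)) (.nd (.lf 0x32d) (.lf 0))) (.nd (.nd (.lf 0x7e5) (.lf 0)) (.nd (.lf 0x522) (.lf 0)))) (.nd (.nd (.nd (.lf 0x6a5) (.lf 0)) (.nd (.lf 0x2b3) (.lf 0))) (.nd (.nd (.lf 0x6c2) (.lf 0)) (.nd (.lf 0x51d) (.lf 0))))) (.nd (.nd (.nd (.nd (.lf 0x6e4) (.lf 0xd4)) (.nd (.lf 0x853) (.lf 0))) (.nd (.nd (.lf 0x65b) (.lf 0)) (.nd (.lf 0x254) (.lf 0)))) (.nd (.nd (.nd (.lf 0x470) (.lf 0)) (.nd (.lf 0x62f) (.lf 0))) (.nd (.nd (.lf 0x771) (.lf 0)) (.nd (.lf 0x68d) (.lf 0)))))) (.nd (.nd (.nd (.nd (.nd (.lf 0x6f) (.lf 0x87f)) (.nd (.lf 0x1d1) (.lf 0))) (.nd (.nd (.lf 0x374) (.lf 0)) (.nd (.lf 0x121) (.lf 0)))) (.nd (.nd (.nd (.lf 0xd6) (.lf 0)) (.nd (.lf 0x2fd) (.lf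 0))) (.nd (.nd (.lf 0x852) (.lf 0)) (.nd (.lf 0x856) (.lf 0))))) (.nd (.nd (.nd (.nd (.lf 0x2df) (.lf 0x5f6)) (.nd (.lf 0x3a6) (.lf 0))) (.nd (.nd (.lf 0x79) (.lf 0)) (.nd (.lf 0x4fe) (.lf 0)))) (.nd (.nd (.nd (.lf 0x5b6) (.lf 0)) (.nd (.lf 0x13d) (.lf 0))) (.nd (.nd (.lf 0x2f4) (.lf 0)) (.nd (.lf 0x7a4) (.lf 0)))))))
def srtQ_nbaaabb : Tr := (.nd (.nd (.nd (.nd (.nd (.nd (.lf 0x5b3) (.lf 0x2b6)) (.nd (.lf 0x49e) (.lf 0))) (.nd (.nd (.lf 0x162) (.lf 0)) (.nd (.lf 0x5c2) (.lf 0)))) (.nd (.nd (.nd (.lf 0x614) (.lf 0)) (.nd (.lf 0x3ca) (.lf 0))) (.nd (.nd (.lf 0x186) (.lf 0)) (.nd (.lf 0x80b) (.lf 0))))) (.nd (.nd (.nd (.nd (.lf 0x77) (.lf 0x892)) (.nd (.lf 0x88e) (.lf 0))) (.nd (.nd (.lf 0x322) (.lf 0)) (.nd (.lf 0x295) (.lf 0))))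 (.nd (.nd (.nd (.lf 0xf6) (.lf 0)) (.nd (.lf 0x415) (.lf 0))) (.nd (.nd (.lf 0xee) (.lf 0)) (.nd (.lf 0x789) (.lf 0)))))) (.nd (.nd (.nd (.nd (.nd (.lf 0x6a9) (.lf 0x6c)) (.nd (.lf 0x83a) (.lf 0))) (.nd (.nd (.lf 0x14f) (.lf 0)) (.nd (.lf 0x12e) (.lf 0)))) (.nd (.nd (.nd (.lf 0x41c) (.lf 0)) (.nd (.lf 0x445) (.lf 0))) (.nd (.nd (.lf 0xcb) (.lf 0)) (.nd (.lf 0x1c) (.lf 0))))) (.nd (.nd (.nd (.nd (.lf 0x422) (.lf 0x460)) (.nd (.lf 0x8b1) (.lf 0))) (.nd (.nd (.lf 0x867) (.lf 0)) (.nd (.lf 0x181) (.lf 0)))) (.nd (.nd (.nd (.lf 0x8fa) (.lf 0)) (.nd (.lf 0x6ef) (.lf 0))) (.nd (.nd (.lf 0x6da) (.lf 0)) (.nd (.lf 0x1ae) (.lf 0)))))))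
def srtQ_nbaabaa : Tr := (.nd (.nd (.nd (.nd (.nd (.nd (.lf 0x8e9) (.lf 0x5b9)) (.nd (.lf 0x18c) (.lf 0))) (.nd (.nd (.lf 0x8b0) (.lf 0)) (.nd (.lf 0x712) (.lf 0)))) (.nd (.nd (.nd (.lf 0x68e) (.lf 0)) (.nd (.lf 0x1b6) (.lf 0))) (.nd (.nd (.lf 0x272) (.lf 0)) (.nd (.lf 0x2f2) (.lf 0))))) (.nd (.nd (.nd (.nd (.lf 0x101) (.lf 0x648)) (.nd (.lf 0x811) (.lf 0))) (.nd (.nd (.lf 0x2a6) (.lf 0)) (.nd (.lf 0x797) (.lf 0)))) (.nd (.nd (.nd (.lf 0x4d) (.lf 0)) (.nd (.lf 0x300) (.lf 0))) (.nd (.nd (.lf 0x2d5) (.lf 0)) (.nd (.lf 0x5ed) (.lf 0)))))) (.nd (.nd (.nd (.nd (.nd (.lf 0x6aa) (.lf 0x268)) (.nd (.lf 0xb0) (.lf 0))) (.nd (.nd (.lf 0x2ba) (.lf 0)) (.nd (.lf 0x160) (.lf 0)))) (.nd (.nd (.nd (.lf 0xd8) (.lf 0)) (.nd (.lf 0xc0) (.lf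 0))) (.nd (.nd (.lf 0x86f) (.lf 0)) (.nd (.lf 0x16e) (.lf 0))))) (.nd (.nd (.nd (.nd (.lf 0x410) (.lf 0x3a8)) (.nd (.lf 0x533) (.lf 0))) (.nd (.nd (.lf 0x7b5) (.lf 0)) (.nd (.lf 0x9e) (.lf 0)))) (.nd (.nd (.nd (.lf 0x44f) (.lf 0)) (.nd (.lf 0x5c) (.lf 0))) (.nd (.nd (.lf 0x802) (.lf 0)) (.nd (.lf 0x379) (.lf 0)))))))
def srtQ_nbaabab : Tr := (.nd (.nd (.nd (.nd (.nd (.nd (.lf 0x8a5) (.lf 0x1a)) (.nd (.lf 0x6d7) (.lf 0))) (.nd (.nd (.lf 0x428) (.lf 0)) (.nd (.lf 0x510) (.lf 0)))) (.nd (.nd (.nd (.lf 0x849) (.lf 0)) (.nd (.lf 0x10a) (.lf 0))) (.nd (.nd (.lf 0x5e9) (.lf 0)) (.nd (.lf 0x603) (.lf 0))))) (.nd (.nd (.nd (.nd (.lf 0x8c) (.lf 0xf3)) (.nd (.lf 0x125) (.lf 0))) (.nd (.nd (.lf 0x5fe) (.lf 0)) (.nd (.lf 0x7da) (.lf 0))))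 (.nd (.nd (.nd (.lf 0x87) (.lf 0)) (.nd (.lf 0x80e) (.lf 0))) (.nd (.nd (.lf 0x4e4) (.lf 0)) (.nd (.lf 0xb4) (.lf 0)))))) (.nd (.nd (.nd (.nd (.nd (.lf 0x8f4) (.lf 0x6d0)) (.nd (.lf 0x37e) (.lf 0))) (.nd (.nd (.lf 0x4c8) (.lf 0)) (.nd (.lf 0x635) (.lf 0)))) (.nd (.nd (.nd (.lf 0x70b) (.lf 0)) (.nd (.lf 0x8fd) (.lf 0))) (.nd (.nd (.lf 0x43e) (.lf 0)) (.nd (.lf 0x412) (.lf 0))))) (.nd (.nd (.nd (.nd (.lf 0x8ef) (.lf 0x1e8)) (.nd (.lf 0x51f) (.lf 0))) (.nd (.nd (.lf 0x52d) (.lf 0)) (.nd (.lf 0x843) (.lf 0)))) (.nd (.nd (.nd (.lf 0x6c8) (.lf 0)) (.nd (.lf 0x41f) (.lf 0))) (.nd (.nd (.lf 0x7c8) (.lf 0)) (.nd (.lf 0x76e) (.lf 0)))))))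
def srtQ_nbaabba : Tr := (.nd (.nd (.nd (.nd (.nd (.nd (.lf 0x567) (.lf 0x183)) (.nd (.lf 0x4cf) (.lf 0))) (.nd (.nd (.lf 0x6fa) (.lf 0)) (.nd (.lf 0x3dd) (.lf 0)))) (.nd (.nd (.nd (.lf 0xfa) (.lf 0)) (.nd (.lf 0x405) (.lf 0))) (.nd (.nd (.lf 0x32f) (.lf 0)) (.nd (.lf 0x45) (.lf 0))))) (.nd (.nd (.nd (.nd (.lf 0x2d2) (.lf 0x7c7)) (.nd (.lf 0x40c) (.lf 0))) (.nd (.nd (.lf 0x20f) (.lf 0)) (.nd (.lf 0xf9) (.lf 0)))) (.nd (.nd (.nd (.lf 0x56d) (.lf 0)) (.nd (.lf 0x3cc) (.lf 0))) (.nd (.nd (.lf 0x863) (.lf 0)) (.nd (.lf 0x7bb) (.lf 0)))))) (.nd (.nd (.nd (.nd (.nd (.lf 0x4d8) (.lf 0x3bc)) (.nd (.lf 0x44c) (.lf 0))) (.nd (.nd (.lf 0x860) (.lf 0)) (.nd (.lf 0x7ef) (.lf 0)))) (.nd (.nd (.nd (.lf 0x7cf) (.lf 0)) (.nd (.lf 0x788) (.lf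 0))) (.nd (.nd (.lf 0x425) (.lf 0)) (.nd (.lf 0x2b9) (.lf 0))))) (.nd (.nd (.nd (.nd (.lf 0x4ed) (.lf 0x33d)) (.nd (.lf 0x2fa) (.lf 0))) (.nd (.nd (.lf 0x371) (.lf 0)) (.nd (.lf 0x70e) (.lf 0)))) (.nd (.nd (.nd (.lf 0x86b) (.lf 0)) (.nd (.lf 0x25) (.lf 0))) (.nd (.nd (.lf 0x51c) (.lf 0)) (.nd (.lf 0x786) (.lf 0)))))))
def srtQ_nbaabbb : Tr := (.nd (.nd (.nd (.nd (.nd (.nd (.lf 0x2b4) (.lf 0x1e6)) (.nd (.lf 0x578) (.lf 0))) (.nd (.nd (.lf 0x8ad) (.lf 0)) (.nd (.lf 0x361) (.lf 0)))) (.nd (.nd (.nd (.lf 0x483) (.lf 0)) (.nd (.lf 0x1a7) (.lf 0))) (.nd (.nd (.lf 0x756) (.lf 0)) (.nd (.lf 0x497) (.lf 0))))) (.nd (.nd (.nd (.nd (.lf 0x7eb) (.lf 0x4ae)) (.nd (.lf 0x5c8) (.lf 0))) (.nd (.nd (.lf 0x53f) (.lf 0)) (.nd (.lf 0x569) (.lf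 0)))) (.nd (.nd (.nd (.lf 0x9d) (.lf 0)) (.nd (.lf 0x3fb) (.lf 0))) (.nd (.nd (.lf 0x103) (.lf 0)) (.nd (.lf 0x2c3) (.lf 0)))))) (.nd (.nd (.nd (.nd (.nd (.lf 0x9f) (.lf 0x59)) (.nd (.lf 0x42b) (.lf 0))) (.nd (.nd (.lf 0x6c1) (.lf 0)) (.nd (.lf 0x3ab) (.lf 0)))) (.nd (.nd (.nd (.lf 0x7ea) (.lf 0)) (.nd (.lf 0x800) (.lf 0))) (.nd (.nd (.lf 0x71d) (.lf 0)) (.nd (.lf 0x1bd) (.lf 0))))) (.nd (.nd (.nd (.nd (.lf 0x2c) (.lf 0x2cd)) (.nd (.lf 0x563) (.lf 0))) (.nd (.nd (.lf 0x7d4) (.lf 0)) (.nd (.lf 0x7f7) (.lf 0)))) (.nd (.nd (.nd (.lf 0x158) (.lf 0)) (.nd (.lf 0x12c) (.lf 0))) (.nd (.nd (.lf 0x1d) (.lf 0)) (.nd (.lf 0x3b3) (.lf 0)))))))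
def srtQ_nbabaaa : Tr := (.nd (.nd (.nd (.nd (.nd (.nd (.lf 0x31f) (.lf 0x288)) (.nd (.lf 0x8f1) (.lf 0))) (.nd (.nd (.lf 0x543) (.lf 0)) (.nd (.lf 0x528) (.lf 0)))) (.nd (.nd (.nd (.lf 0x2a3) (.lf 0)) (.nd (.lf 0x4be) (.lf 0))) (.nd (.nd (.lf 0x815) (.lf 0)) (.nd (.lf 0x474) (.lf 0))))) (.nd (.nd (.nd (.nd (.lf 0x86e) (.lf 0x1b0)) (.nd (.lf 0x222) (.lf 0))) (.nd (.nd (.lf 0x3d) (.lf 0)) (.nd (.lf 0x1da) (.lf 0)))) (.nd (.nd (.nd (.lf 0x55a) (.lf 0)) (.nd (.lf 0x8fe) (.lf 0))) (.nd (.nd (.lf 0x320) (.lf 0)) (.nd (.lf 0x21e) (.lf 0)))))) (.nd (.nd (.nd (.nd (.nd (.lf 0x6be) (.lf 0x8c1)) (.nd (.lf 0x68f) (.lf 0))) (.nd (.nd (.lf 0x5bc) (.lf 0)) (.nd (.lf 0x72e) (.lf 0)))) (.nd (.nd (.nd (.lf 0x212) (.lf 0)) (.nd (.lf 0x505) (.lf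 0))) (.nd (.nd (.lf 0x209) (.lf 0)) (.nd (.lf 0x2f6) (.lf 0))))) (.nd (.nd (.nd (.nd (.lf 0x557) (.lf 0x7a9)) (.nd (.lf 0x6fd) (.lf 0))) (.nd (.nd (.lf 0x54) (.lf 0)) (.nd (.lf 0x24e) (.lf 0)))) (.nd (.nd (.nd (.lf 0x749) (.lf 0)) (.nd (.lf 0x55b) (.lf 0))) (.nd (.nd (.lf 0x6f7) (.lf 0)) (.nd (.lf 0x4c) (.lf 0)))))))
def srtQ_nbabaab : Tr := (.nd (.nd (.nd (.nd (.nd (.nd (.lf 0x1fa) (.lf 0x481)) (.nd (.lf 0x7b7) (.lf 0))) (.nd (.nd (.lf 0x360) (.lf 0)) (.nd (.lf 0x5e0) (.lf 0)))) (.nd (.nd (.nd (.lf 0x21c) (.lf 0)) (.nd (.lf 0x467) (.lf 0))) (.nd (.nd (.lf 0x6f6) (.lf 0)) (.nd (.lf 0x213) (.lf 0))))) (.nd (.nd (.nd (.nd (.lf 0x1b5) (.lf 0xbe)) (.nd (.lf 0x7a0) (.lf 0))) (.nd (.nd (.lf 0x717) (.lf 0)) (.nd (.lf 0x645) (.lf 0))))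 (.nd (.nd (.nd (.lf 0x636) (.lf 0)) (.nd (.lf 0x15d) (.lf 0))) (.nd (.nd (.lf 0xf5) (.lf 0)) (.nd (.lf 0x27f) (.lf 0)))))) (.nd (.nd (.nd (.nd (.nd (.lf 0x214) (.lf 0x896)) (.nd (.lf 0x26) (.lf 0))) (.nd (.nd (.lf 0x5) (.lf 0)) (.nd (.lf 0x380) (.lf 0)))) (.nd (.nd (.nd (.lf 0x91) (.lf 0)) (.nd (.lf 0x395) (.lf 0))) (.nd (.nd (.lf 0x661) (.lf 0)) (.nd (.lf 0x3b1) (.lf 0))))) (.nd (.nd (.nd (.nd (.lf 0x27c) (.lf 0x7ac)) (.nd (.lf 0x377) (.lf 0))) (.nd (.nd (.lf 0x46) (.lf 0)) (.nd (.lf 0x414) (.lf 0)))) (.nd (.nd (.nd (.lf 0x5c3) (.lf 0)) (.nd (.lf 0x62b) (.lf 0))) (.nd (.nd (.lf 0xd3) (.lf 0)) (.nd (.lf 0x6e9) (.lf 0)))))))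
def srtQ_nbababa : Tr := (.nd (.nd (.nd (.nd (.nd (.nd (.lf 0x350) (.lf 0x24)) (.nd (.lf 0x384) (.lf 0))) (.nd (.nd (.lf 0x899) (.lf 0)) (.nd (.lf 0x142) (.lf 0)))) (.nd (.nd (.nd (.lf 0x5a0) (.lf 0)) (.nd (.lf 0x70a) (.lf 0))) (.nd (.nd (.lf 0x544) (.lf 0)) (.nd (.lf 0x86c) (.lf 0))))) (.nd (.nd (.nd (.nd (.lf 0x59d) (.lf 0x677)) (.nd (.lf 0x65) (.lf 0))) (.nd (.nd (.lf 0x1ef) (.lf 0)) (.nd (.lf 0x129) (.lf 0)))) (.nd (.nd (.nd (.lf 0x553) (.lf 0)) (.nd (.lf 0x3bd) (.lf 0))) (.nd (.nd (.lf 0x673) (.lf 0)) (.nd (.lf 0x41) (.lf 0)))))) (.nd (.nd (.nd (.nd (.nd (.lf 0x48e) (.lf 0xe8)) (.nd (.lf 0x886) (.lf 0))) (.nd (.nd (.lf 0x79b) (.lf 0)) (.nd (.lf 0x3b4) (.lf 0)))) (.nd (.nd (.nd (.lf 0x547) (.lf 0)) (.nd (.lf 0xa9) (.lf 0)))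 (.nd (.nd (.lf 0x689) (.lf 0)) (.nd (.lf 0x880) (.lf 0))))) (.nd (.nd (.nd (.nd (.lf 0x54d) (.lf 0x796)) (.nd (.lf 0x86a) (.lf 0))) (.nd (.nd (.lf 0x5ef) (.lf 0)) (.nd (.lf 0x7f0) (.lf 0)))) (.nd (.nd (.nd (.lf 0x161) (.lf 0)) (.nd (.lf 0x78f) (.lf 0))) (.nd (.nd (.lf 0x2e1) (.lf 0)) (.nd (.lf 0x248) (.lf 0)))))))
def srtQ_nbababb : Tr := (.nd (.nd (.nd (.nd (.nd (.nd (.lf 0x5e8) (.lf 0xe0)) (.nd (.lf 0x409) (.lf 0))) (.nd (.nd (.lf 0x32b) (.lf 0)) (.nd (.lf 0x669) (.lf 0)))) (.nd (.nd (.nd (.lf 0x8c2) (.lf 0)) (.nd (.lf 0x64e) (.lf 0))) (.nd (.nd (.lf 0x496) (.lf 0)) (.nd (.lf 0x58c) (.lf 0))))) (.nd (.nd (.nd (.nd (.lf 0x13e) (.lf 0x144)) (.nd (.lf 0x3e) (.lf 0))) (.nd (.nd (.lf 0x740) (.lf 0)) (.nd (.lf 0x6b3) (.lf 0))))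 (.nd (.nd (.nd (.lf 0x251) (.lf 0)) (.nd (.lf 0x775) (.lf 0))) (.nd (.nd (.lf 0x723) (.lf 0)) (.nd (.lf 0x45b) (.lf 0)))))) (.nd (.nd (.nd (.nd (.nd (.lf 0x37a) (.lf 0x6a2)) (.nd (.lf 0x53) (.lf 0))) (.nd (.nd (.lf 0x81d) (.lf 0)) (.nd (.lf 0x7a6) (.lf 0)))) (.nd (.nd (.nd (.lf 0x4fa) (.lf 0)) (.nd (.lf 0x3c) (.lf 0))) (.nd (.nd (.lf 0x711) (.lf 0)) (.nd (.lf 0x568) (.lf 0))))) (.nd (.nd (.nd (.nd (.lf 0x17c) (.lf 0x8ae)) (.nd (.lf 0x346) (.lf 0))) (.nd (.nd (.lf 0x89d) (.lf 0)) (.nd (.lf 0x6c5) (.lf 0)))) (.nd (.nd (.nd (.lf 0x238) (.lf 0)) (.nd (.lf 0x2c8) (.lf 0))) (.nd (.nd (.lf 0x69e) (.lf 0)) (.nd (.lf 0x351) (.lf 0)))))))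
def srtQ_nbabbaa : Tr := (.nd (.nd (.nd (.nd (.nd (.nd (.lf 0x67d) (.lf 0x4aa)) (.nd (.lf 0x118) (.lf 0))) (.nd (.nd (.lf 0x4df) (.lf 0)) (.nd (.lf 0x7d8) (.lf 0)))) (.nd (.nd (.nd (.lf 0x69d) (.lf 0)) (.nd (.lf 0x5c6) (.lf 0))) (.nd (.nd (.lf 0x64d) (.lf 0)) (.nd (.lf 0x2c5) (.lf 0))))) (.nd (.nd (.nd (.nd (.lf 0x1de) (.lf 0x7d6)) (.nd (.lf 0x679) (.lf 0))) (.nd (.nd (.lf 0x5f7) (.lf 0)) (.nd (.lf 0xc9) (.lf 0)))) (.nd (.nd (.nd (.lf 0x484) (.lf 0)) (.nd (.lf 0x7b3) (.lf 0))) (.nd (.nd (.lf 0x1d8) (.lf 0)) (.nd (.lf 0x227) (.lf 0)))))) (.nd (.nd (.nd (.nd (.nd (.lf 0x378) (.lf 0x8dd)) (.nd (.lf 0x72d) (.lf 0))) (.nd (.nd (.lf 0x218) (.lf 0)) (.nd (.lf 0x298) (.lf 0)))) (.nd (.nd (.nd (.lf 0x7f3) (.lf 0)) (.nd (.lf 0x4a4) (.lf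 0))) (.nd (.nd (.lf 0x180) (.lf 0)) (.nd (.lf 0x317) (.lf 0))))) (.nd (.nd (.nd (.nd (.lf 0x230) (.lf 0x3ee)) (.nd (.lf 0x131) (.lf 0))) (.nd (.nd (.lf 0x746) (.lf 0)) (.nd (.lf 0x4a2) (.lf 0)))) (.nd (.nd (.nd (.lf 0x5db) (.lf 0)) (.nd (.lf 0x708) (.lf 0))) (.nd (.nd (.lf 0x68a) (.lf 0)) (.nd (.lf 0x5d) (.lf 0)))))))
def srtQ_nbabbab : Tr := (.nd (.nd (.nd (.nd (.nd (.nd (.lf 0x874) (.lf 0x66)) (.nd (.lf 0x1f) (.lf 0))) (.nd (.nd (.lf 0x26a) (.lf 0)) (.nd (.lf 0x7c0) (.lf 0)))) (.nd (.nd (.nd (.lf 0x184) (.lf 0)) (.nd (.lf 0x72) (.lf 0))) (.nd (.nd (.lf 0xeb) (.lf 0)) (.nd (.lf 0x7fd) (.lf 0))))) (.nd (.nd (.nd (.nd (.lf 0x83e) (.lf 0x2e)) (.nd (.lf 0x12b) (.lf 0))) (.nd (.nd (.lf 0x2f7) (.lf 0)) (.nd (.lf 0x11) (.lf 0))))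 (.nd (.nd (.nd (.lf 0x282) (.lf 0)) (.nd (.lf 0x2d9) (.lf 0))) (.nd (.nd (.lf 0x2f) (.lf 0)) (.nd (.lf 0x2a0) (.lf 0)))))) (.nd (.nd (.nd (.nd (.nd (.lf 0xc2) (.lf 0x376)) (.nd (.lf 0x217) (.lf 0))) (.nd (.nd (.lf 0x40) (.lf 0)) (.nd (.lf 0x206) (.lf 0)))) (.nd (.nd (.nd (.lf 0x5c0) (.lf 0)) (.nd (.lf 0x16c) (.lf 0))) (.nd (.nd (.lf 0x75) (.lf 0)) (.nd (.lf 0x87d) (.lf 0))))) (.nd (.nd (.nd (.nd (.lf 0x370) (.lf 0x3ef)) (.nd (.lf 0x2ad) (.lf 0))) (.nd (.nd (.lf 0x506) (.lf 0)) (.nd (.lf 0x15b) (.lf 0)))) (.nd (.nd (.nd (.lf 0x210) (.lf 0)) (.nd (.lf 0x831) (.lf 0))) (.nd (.nd (.lf 0x245) (.lf 0)) (.nd (.lf 0x1ad) (.lf 0)))))))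
def srtQ_nbabbba : Tr := (.nd (.nd (.nd (.nd (.nd (.nd (.lf 0x623) (.lf 0x232)) (.nd (.lf 0x18e) (.lf 0))) (.nd (.nd (.lf 0x78b) (.lf 0)) (.nd (.lf 0x108) (.lf 0)))) (.nd (.nd (.nd (.lf 0x215) (.lf 0)) (.nd (.lf 0x398) (.lf 0))) (.nd (.nd (.lf 0x66a) (.lf 0)) (.nd (.lf 0x52) (.lf 0))))) (.nd (.nd (.nd (.nd (.lf 0x1f1) (.lf 0x285)) (.nd (.lf 0x6c6) (.lf 0))) (.nd (.nd (.lf 0x22c) (.lf 0)) (.nd (.lf 0x876) (.lf 0)))) (.nd (.nd (.nd (.lf 0x194) (.lf 0)) (.nd (.lf 0x10b) (.lf 0))) (.nd (.nd (.lf 0x6b2) (.lf 0)) (.nd (.lf 0x69a) (.lf 0)))))) (.nd (.nd (.nd (.nd (.nd (.lf 0x2ca) (.lf 0x8e3)) (.nd (.lf 0x8cf) (.lf 0))) (.nd (.nd (.lf 0x3b6) (.lf 0)) (.nd (.lf 0x685) (.lf 0)))) (.nd (.nd (.nd (.lf 0x30a) (.lf 0)) (.nd (.lf 0x373) (.lf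 0))) (.nd (.nd (.lf 0x387) (.lf 0)) (.nd (.lf 0x475) (.lf 0))))) (.nd (.nd (.nd (.nd (.lf 0x8b4) (.lf 0x195)) (.nd (.lf 0x8d4) (.lf 0))) (.nd (.nd (.lf 0x3c6) (.lf 0)) (.nd (.lf 0x26e) (.lf 0)))) (.nd (.nd (.nd (.lf 0x882) (.lf 0)) (.nd (.lf 0x28a) (.lf 0))) (.nd (.nd (.lf 0x5ec) (.lf 0)) (.nd (.lf 0x4b1) (.lf 0)))))))
def srtQ_nbabbbb : Tr := (.nd (.nd (.nd (.nd (.nd (.nd (.lf 0x521) (.lf 0x82)) (.nd (.lf 0x78a) (.lf 0))) (.nd (.nd (.lf 0x389) (.lf 0)) (.nd (.lf 0x714) (.lf 0)))) (.nd (.nd (.nd (.lf 0x33e) (.lf 0)) (.nd (.lf 0x627) (.lf 0))) (.nd (.nd (.lf 0x244) (.lf 0)) (.nd (.lf 0x3aa) (.lf 0))))) (.nd (.nd (.nd (.nd (.lf 0x801) (.lf 0x7dc)) (.nd (.lf 0x75f) (.lf 0))) (.nd (.nd (.lf 0x2d) (.lf 0)) (.nd (.lf 0x393) (.lf 0))))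 (.nd (.nd (.nd (.lf 0x8e2) (.lf 0)) (.nd (.lf 0x432) (.lf 0))) (.nd (.nd (.lf 0x5b2) (.lf 0)) (.nd (.lf 0x40e) (.lf 0)))))) (.nd (.nd (.nd (.nd (.nd (.lf 0x498) (.lf 0x875)) (.nd (.lf 0x5a9) (.lf 0))) (.nd (.nd (.lf 0x335) (.lf 0)) (.nd (.lf 0x5b5) (.lf 0)))) (.nd (.nd (.nd (.lf 0x89) (.lf 0)) (.nd (.lf 0x6ca) (.lf 0))) (.nd (.nd (.lf 0x5d9) (.lf 0)) (.nd (.lf 0x70) (.lf 0))))) (.nd (.nd (.nd (.nd (.lf 0x92) (.lf 0x873)) (.nd (.lf 0x8f0) (.lf 0))) (.nd (.nd (.lf 0x47b) (.lf 0)) (.nd (.lf 0x25d) (.lf 0)))) (.nd (.nd (.nd (.lf 0x8c0) (.lf 0)) (.nd (.lf 0x89c) (.lf 0))) (.nd (.nd (.lf 0x287) (.lf 0)) (.nd (.lf 0x8ea) (.lf 0)))))))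
def srtQ_nbbaaaa : Tr := (.nd (.nd (.nd (.nd (.nd (.nd (.lf 0x81b) (.lf 0x399)) (.nd (.lf 0x260) (.lf 0))) (.nd (.nd (.lf 0x4e6) (.lf 0)) (.nd (.lf 0x8ac) (.lf 0)))) (.nd (.nd (.nd (.lf 0xfc) (.lf 0)) (.nd (.lf 0x472) (.lf 0))) (.nd (.nd (.lf 0x17e) (.lf 0)) (.nd (.lf 0x65f) (.lf 0))))) (.nd (.nd (.nd (.nd (.lf 0x4c1) (.lf 0x72f)) (.nd (.lf 0x6df) (.lf 0))) (.nd (.nd (.lf 0x7ba) (.lf 0)) (.nd (.lf 0x781) (.lf 0)))) (.nd (.nd (.nd (.lf 0x652) (.lf 0)) (.nd (.lf 0x523) (.lf 0))) (.nd (.nd (.lf 0x65e) (.lf 0)) (.nd (.lf 0x63b) (.lf 0)))))) (.nd (.nd (.nd (.nd (.nd (.lf 0x731) (.lf 0x294)) (.nd (.lf 0x66e) (.lf 0))) (.nd (.nd (.lf 0x126) (.lf 0)) (.nd (.lf 0xb1) (.lf 0)))) (.nd (.nd (.nd (.lf 0x132) (.lf 0)) (.nd (.lf 0x79e) (.lf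 0))) (.nd (.nd (.lf 0x2a8) (.lf 0)) (.nd (.lf 0x440) (.lf 0))))) (.nd (.nd (.nd (.nd (.lf 0x8d8) (.lf 0x419)) (.nd (.lf 0x224) (.lf 0))) (.nd (.nd (.lf 0x117) (.lf 0)) (.nd (.lf 0x71) (.lf 0)))) (.nd (.nd (.nd (.lf 0x2aa) (.lf 0)) (.nd (.lf 0xb3) (.lf 0))) (.nd (.nd (.lf 0x5b) (.lf 0)) (.nd (.lf 0x662) (.lf 0)))))))
def srtQ_nbbaaab : Tr := (.nd (.nd (.nd (.nd (.nd (.nd (.lf 0x99) (.lf 0x93)) (.nd (.lf 0xb2) (.lf 0))) (.nd (.nd (.lf 0x30c) (.lf 0)) (.nd (.lf 0x7aa) (.lf 0)))) (.nd (.nd (.nd (.lf 0x845) (.lf 0)) (.nd (.lf 0x365) (.lf 0))) (.nd (.nd (.lf 0x516) (.lf 0)) (.nd (.lf 0xc1) (.lf 0))))) (.nd (.nd (.nd (.nd (.lf 0x835) (.lf 0x456)) (.nd (.lf 0x84d) (.lf 0))) (.nd (.nd (.lf 0x3d4) (.lf 0)) (.nd (.lf 0x488) (.lf 0))))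 (.nd (.nd (.nd (.lf 0x2bd) (.lf 0)) (.nd (.lf 0x10d) (.lf 0))) (.nd (.nd (.lf 0x89b) (.lf 0)) (.nd (.lf 0x323) (.lf 0)))))) (.nd (.nd (.nd (.nd (.nd (.lf 0x275) (.lf 0x1b2)) (.nd (.lf 0x163) (.lf 0))) (.nd (.nd (.lf 0x25e) (.lf 0)) (.nd (.lf 0x31c) (.lf 0)))) (.nd (.nd (.nd (.lf 0x10e) (.lf 0)) (.nd (.lf 0xe1) (.lf 0))) (.nd (.nd (.lf 0x36f) (.lf 0)) (.nd (.lf 0x8fc) (.lf 0))))) (.nd (.nd (.nd (.nd (.lf 0x738) (.lf 0xd2)) (.nd (.lf 0x42f) (.lf 0))) (.nd (.nd (.lf 0x6a1) (.lf 0)) (.nd (.lf 0x6f5) (.lf 0)))) (.nd (.nd (.nd (.lf 0x7c1) (.lf 0)) (.nd (.lf 0x402) (.lf 0))) (.nd (.nd (.lf 0x774) (.lf 0)) (.nd (.lf 0x199) (.lf 0)))))))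
def srtQ_nbbaaba : Tr := (.nd (.nd (.nd (.nd (.nd (.nd (.lf 0x261) (.lf 0x77c)) (.nd (.lf 0x632) (.lf 0))) (.nd (.nd (.lf 0x140) (.lf 0)) (.nd (.lf 0x778) (.lf 0)))) (.nd (.nd (.nd (.lf 0x730) (.lf 0)) (.nd (.lf 0x3eb) (.lf 0))) (.nd (.nd (.lf 0x743) (.lf 0)) (.nd (.lf 0x1b8) (.lf 0))))) (.nd (.nd (.nd (.nd (.lf 0x61c) (.lf 0x4f8)) (.nd (.lf 0x63a) (.lf 0))) (.nd (.nd (.lf 0x6c7) (.lf 0)) (.nd (.lf 0x526) (.lf 0)))) (.nd (.nd (.nd (.lf 0x7e1) (.lf 0)) (.nd (.lf 0x1a2) (.lf 0))) (.nd (.nd (.lf 0x834) (.lf 0)) (.nd (.lf 0x2d1) (.lf 0)))))) (.nd (.nd (.nd (.nd (.nd (.lf 0x435) (.lf 0x80f)) (.nd (.lf 0x3f0) (.lf 0))) (.nd (.nd (.lf 0x51a) (.lf 0)) (.nd (.lf 0x7ab) (.lf 0)))) (.nd (.nd (.nd (.lf 0x620) (.lf 0)) (.nd (.lf 0x271) (.lf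 0))) (.nd (.nd (.lf 0x167) (.lf 0)) (.nd (.lf 0x29b) (.lf 0))))) (.nd (.nd (.nd (.nd (.lf 0x1a3) (.lf 0x33a)) (.nd (.lf 0x383) (.lf 0))) (.nd (.nd (.lf 0x736) (.lf 0)) (.nd (.lf 0x6fe) (.lf 0)))) (.nd (.nd (.nd (.lf 0x39e) (.lf 0)) (.nd (.lf 0x434) (.lf 0))) (.nd (.nd (.lf 0x29f) (.lf 0)) (.nd (.lf 0x191) (.lf 0)))))))
def srtQ_nbbaabb : Tr := (.nd (.nd (.nd (.nd (.nd (.nd (.lf 0x8a2) (.lf 0x26c)) (.nd (.lf 0x283) (.lf 0))) (.nd (.nd (.lf 0x7f2) (.lf 0)) (.nd (.lf 0x34d) (.lf 0)))) (.nd (.nd (.nd (.lf 0x4b6) (.lf 0)) (.nd (.lf 0x151) (.lf 0))) (.nd (.nd (.lf 0x3c3) (.lf 0)) (.nd (.lf 0x3a7) (.lf 0))))) (.nd (.nd (.nd (.nd (.lf 0x492) (.lf 0x6c9)) (.nd (.lf 0xb6) (.lf 0))) (.nd (.nd (.lf 0x48) (.lf 0)) (.nd (.lf 0xc4) (.lf 0))))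 (.nd (.nd (.nd (.lf 0x8df) (.lf 0)) (.nd (.lf 0x3f9) (.lf 0))) (.nd (.nd (.lf 0x28f) (.lf 0)) (.nd (.lf 0x38a) (.lf 0)))))) (.nd (.nd (.nd (.nd (.nd (.lf 0x7b4) (.lf 0x49a)) (.nd (.lf 0x613) (.lf 0))) (.nd (.nd (.lf 0x468) (.lf 0)) (.nd (.lf 0x2db) (.lf 0)))) (.nd (.nd (.nd (.lf 0x35c) (.lf 0)) (.nd (.lf 0x105) (.lf 0))) (.nd (.nd (.lf 0x1d6) (.lf 0)) (.nd (.lf 0x6b5) (.lf 0))))) (.nd (.nd (.nd (.nd (.lf 0x5dc) (.lf 0x7d)) (.nd (.lf 0x17f) (.lf 0))) (.nd (.nd (.lf 0xde) (.lf 0)) (.nd (.lf 0x4ab) (.lf 0)))) (.nd (.nd (.nd (.lf 0x60) (.lf 0)) (.nd (.lf 0x514) (.lf 0))) (.nd (.nd (.lf 0x1a4) (.lf 0)) (.nd (.lf 0x1bf) (.lf 0)))))))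
def srtQ_nbbabaa : Tr := (.nd (.nd (.nd (.nd (.nd (.nd (.lf 0x19f) (.lf 0x7d1)) (.nd (.lf 0x5e1) (.lf 0))) (.nd (.nd (.lf 0x725) (.lf 0)) (.nd (.lf 0x44e) (.lf 0)))) (.nd (.nd (.nd (.lf 0x62d) (.lf 0)) (.nd (.lf 0x15) (.lf 0))) (.nd (.nd (.lf 0x4f0) (.lf 0)) (.nd (.lf 0x81c) (.lf 0))))) (.nd (.nd (.nd (.nd (.lf 0x407) (.lf 0x62c)) (.nd (.lf 0x3d6) (.lf 0))) (.nd (.nd (.lf 0x560) (.lf 0)) (.nd (.lf 0xa) (.lf 0)))) (.nd (.nd (.nd (.lf 0x31e) (.lf 0)) (.nd (.lf 0x55e) (.lf 0))) (.nd (.nd (.lf 0x5ab) (.lf 0)) (.nd (.lf 0x5bd) (.lf 0)))))) (.nd (.nd (.nd (.nd (.nd (.lf 0x274) (.lf 0x46c)) (.nd (.lf 0x4fc) (.lf 0))) (.nd (.nd (.lf 0x74e) (.lf 0)) (.nd (.lf 0x58e) (.lf 0)))) (.nd (.nd (.nd (.lf 0x4b4) (.lf 0)) (.nd (.lf 0x127) (.lf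 0))) (.nd (.nd (.lf 0x5d3) (.lf 0)) (.nd (.lf 0x864) (.lf 0))))) (.nd (.nd (.nd (.nd (.lf 0x1e9) (.lf 0x4c0)) (.nd (.lf 0x276) (.lf 0))) (.nd (.nd (.lf 0x262) (.lf 0)) (.nd (.lf 0x263) (.lf 0)))) (.nd (.nd (.nd (.lf 0x3e0) (.lf 0)) (.nd (.lf 0x344) (.lf 0))) (.nd (.nd (.lf 0xb5) (.lf 0)) (.nd (.lf 0x7d5) (.lf 0)))))))
def srtQ_nbbabab : Tr := (.nd (.nd (.nd (.nd (.nd (.nd (.lf 0x84b) (.lf 0x40d)) (.nd (.lf 0x291) (.lf 0))) (.nd (.nd (.lf 0x2b5) (.lf 0)) (.nd (.lf 0x1a9) (.lf 0)))) (.nd (.nd (.nd (.lf 0x451) (.lf 0)) (.nd (.lf 0x4e2) (.lf 0))) (.nd (.nd (.lf 0x11b) (.lf 0)) (.nd (.lf 0x4b2) (.lf 0))))) (.nd (.nd (.nd (.nd (.lf 0xdd) (.lf 0x85e)) (.nd (.lf 0x188) (.lf 0))) (.nd (.nd (.lf 0x854) (.lf 0)) (.nd (.lf 0x337) (.lf 0))))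 (.nd (.nd (.nd (.lf 0x7c6) (.lf 0)) (.nd (.lf 0x16) (.lf 0))) (.nd (.nd (.lf 0x102) (.lf 0)) (.nd (.lf 0x401) (.lf 0)))))) (.nd (.nd (.nd (.nd (.nd (.lf 0x7ee) (.lf 0x233)) (.nd (.lf 0x303) (.lf 0))) (.nd (.nd (.lf 0x2cc) (.lf 0)) (.nd (.lf 0x593) (.lf 0)))) (.nd (.nd (.nd (.lf 0x48a) (.lf 0)) (.nd (.lf 0x1c3) (.lf 0))) (.nd (.nd (.lf 0x8b) (.lf 0)) (.nd (.lf 0x7a7) (.lf 0))))) (.nd (.nd (.nd (.nd (.lf 0x829) (.lf 0x8b9)) (.nd (.lf 0x621) (.lf 0))) (.nd (.nd (.lf 0x5d5) (.lf 0)) (.nd (.lf 0x6dc) (.lf 0)))) (.nd (.nd (.nd (.lf 0x2a) (.lf 0)) (.nd (.lf 0x449) (.lf 0))) (.nd (.nd (.lf 0x319) (.lf 0)) (.nd (.lf 0x334) (.lf 0)))))))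
def srtQ_nbbabba : Tr := (.nd (.nd (.nd (.nd (.nd (.nd (.lf 0x20d) (.lf 0x6d1)) (.nd (.lf 0x6eb) (.lf 0))) (.nd (.nd (.lf 0xdf) (.lf 0)) (.nd (.lf 0x85c) (.lf 0)))) (.nd (.nd (.nd (.lf 0x46b) (.lf 0)) (.nd (.lf 0x226) (.lf 0))) (.nd (.nd (.lf 0x45f) (.lf 0)) (.nd (.lf 0x761) (.lf 0))))) (.nd (.nd (.nd (.nd (.lf 0x6e2) (.lf 0x27d)) (.nd (.lf 0x74b) (.lf 0))) (.nd (.nd (.lf 0x561) (.lf 0)) (.nd (.lf 0x813) (.lf 0)))) (.nd (.nd (.nd (.lf 0x814) (.lf 0)) (.nd (.lf 0x348) (.lf 0))) (.nd (.nd (.lf 0x5dd) (.lf 0)) (.nd (.lf 0x79c) (.lf 0)))))) (.nd (.nd (.nd (.nd (.nd (.lf 0x45d) (.lf 0x6e3)) (.nd (.lf 0x4ca) (.lf 0))) (.nd (.nd (.lf 0x6d9) (.lf 0)) (.nd (.lf 0x2be) (.lf 0)))) (.nd (.nd (.nd (.lf 0x3e9) (.lf 0)) (.nd (.lf 0x67a) (.lf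 0))) (.nd (.nd (.lf 0x390) (.lf 0)) (.nd (.lf 0x306) (.lf 0))))) (.nd (.nd (.nd (.nd (.lf 0x16a) (.lf 0x1a0)) (.nd (.lf 0x589) (.lf 0))) (.nd (.nd (.lf 0x8d5) (.lf 0)) (.nd (.lf 0x3c9) (.lf 0)))) (.nd (.nd (.nd (.lf 0x25b) (.lf 0)) (.nd (.lf 0x1ba) (.lf 0))) (.nd (.nd (.lf 0x5e5) (.lf 0)) (.nd (.lf 0x1df) (.lf 0)))))))
def srtQ_nbbabbb : Tr := (.nd (.nd (.nd (.nd (.nd (.nd (.lf 0x7e0) (.lf 0x296)) (.nd (.lf 0x40a) (.lf 0))) (.nd (.nd (.lf 0x5ee) (.lf 0)) (.nd (.lf 0x7c4) (.lf 0)))) (.nd (.nd (.nd (.lf 0x22d) (.lf 0)) (.nd (.lf 0x524) (.lf 0))) (.nd (.nd (.lf 0x4e5) (.lf 0)) (.nd (.lf 0x111) (.lf 0))))) (.nd (.nd (.nd (.nd (.lf 0x130) (.lf 0x56c)) (.nd (.lf 0x732) (.lf 0))) (.nd (.nd (.lf 0x45a) (.lf 0)) (.nd (.lf 0x174) (.lf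 0)))) (.nd (.nd (.nd (.lf 0x1c0) (.lf 0)) (.nd (.lf 0x22f) (.lf 0))) (.nd (.nd (.lf 0x59b) (.lf 0)) (.nd (.lf 0x897) (.lf 0)))))) (.nd (.nd (.nd (.nd (.nd (.lf 0x4a9) (.lf 0x429)) (.nd (.lf 0x64f) (.lf 0))) (.nd (.nd (.lf 0x7fe) (.lf 0)) (.nd (.lf 0x3a0) (.lf 0)))) (.nd (.nd (.nd (.lf 0x5ba) (.lf 0)) (.nd (.lf 0x25c) (.lf 0))) (.nd (.nd (.lf 0x703) (.lf 0)) (.nd (.lf 0x27) (.lf 0))))) (.nd (.nd (.nd (.nd (.lf 0x84a) (.lf 0x545)) (.nd (.lf 0x8a) (.lf 0))) (.nd (.nd (.lf 0x25f) (.lf 0)) (.nd (.lf 0x4dd) (.lf 0)))) (.nd (.nd (.nd (.lf 0x7b9) (.lf 0)) (.nd (.lf 0x17b) (.lf 0))) (.nd (.nd (.lf 0x3b0) (.lf 0)) (.nd (.lf 0x22e) (.lf 0)))))))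
def srtQ_nbbbaaa : Tr := (.nd (.nd (.nd (.nd (.nd (.nd (.lf 0x72c) (.lf 0x777)) (.nd (.lf 0x87c) (.lf 0))) (.nd (.nd (.lf 0x657) (.lf 0)) (.nd (.lf 0x4bf) (.lf 0)))) (.nd (.nd (.nd (.lf 0x189) (.lf 0)) (.nd (.lf 0x4c3) (.lf 0))) (.nd (.nd (.lf 0x8f2) (.lf 0)) (.nd (.lf 0x185) (.lf 0))))) (.nd (.nd (.nd (.nd (.lf 0x281) (.lf 0x202)) (.nd (.lf 0x36e) (.lf 0))) (.nd (.nd (.lf 0x364) (.lf 0)) (.nd (.lf 0x471) (.lf 0)))) (.nd (.nd (.nd (.lf 0x5a6) (.lf 0)) (.nd (.lf 0x34e) (.lf 0))) (.nd (.nd (.lf 0x417) (.lf 0)) (.nd (.lf 0x6f4) (.lf 0)))))) (.nd (.nd (.nd (.nd (.nd (.lf 0x4ea) (.lf 0x60f)) (.nd (.lf 0x747) (.lf 0))) (.nd (.nd (.lf 0x6a6) (.lf 0)) (.nd (.lf 0x637) (.lf 0)))) (.nd (.nd (.nd (.lf 0x32e) (.lf 0)) (.nd (.lf 0x82d) (.lf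 0))) (.nd (.nd (.lf 0x96) (.lf 0)) (.nd (.lf 0x4d3) (.lf 0))))) (.nd (.nd (.nd (.nd (.lf 0x88c) (.lf 0x1a8)) (.nd (.lf 0x649) (.lf 0))) (.nd (.nd (.lf 0x8d1) (.lf 0)) (.nd (.lf 0x671) (.lf 0)))) (.nd (.nd (.nd (.lf 0x35d) (.lf 0)) (.nd (.lf 0x4f1) (.lf 0))) (.nd (.nd (.lf 0x353) (.lf 0)) (.nd (.lf 0x396) (.lf 0)))))))
def srtQ_nbbbaab : Tr := (.nd (.nd (.nd (.nd (.nd (.nd (.lf 0x2d7) (.lf 0x1d4)) (.nd (.lf 0x307) (.lf 0))) (.nd (.nd (.lf 0x1b9) (.lf 0)) (.nd (.lf 0x5e4) (.lf 0)))) (.nd (.nd (.nd (.lf 0xad) (.lf 0)) (.nd (.lf 0x6f8) (.lf 0))) (.nd (.nd (.lf 0x12f) (.lf 0)) (.nd (.lf 0x8c6) (.lf 0))))) (.nd (.nd (.nd (.nd (.lf 0x571) (.lf 0x647)) (.nd (.lf 0x29) (.lf 0))) (.nd (.nd (.lf 0x570) (.lf 0)) (.nd (.lf 0x152) (.lf 0))))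 (.nd (.nd (.nd (.lf 0x115) (.lf 0)) (.nd (.lf 0x7a5) (.lf 0))) (.nd (.nd (.lf 0x672) (.lf 0)) (.nd (.lf 0x112) (.lf 0)))))) (.nd (.nd (.nd (.nd (.nd (.lf 0x3fd) (.lf 0x73b)) (.nd (.lf 0x3e6) (.lf 0))) (.nd (.nd (.lf 0x5d4) (.lf 0)) (.nd (.lf 0x4ad) (.lf 0)))) (.nd (.nd (.nd (.lf 0x694) (.lf 0)) (.nd (.lf 0x650) (.lf 0))) (.nd (.nd (.lf 0x1f6) (.lf 0)) (.nd (.lf 0x729) (.lf 0))))) (.nd (.nd (.nd (.nd (.lf 0x1db) (.lf 0x32a)) (.nd (.lf 0x7ae) (.lf 0))) (.nd (.nd (.lf 0x8ec) (.lf 0)) (.nd (.lf 0x6cb) (.lf 0)))) (.nd (.nd (.nd (.lf 0x3c7) (.lf 0)) (.nd (.lf 0x520) (.lf 0))) (.nd (.nd (.lf 0x7b8) (.lf 0)) (.nd (.lf 0x894) (.lf 0)))))))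
def srtQ_nbbbaba : Tr := (.nd (.nd (.nd (.nd (.nd (.nd (.lf 0x3e8) (.lf 0x75c)) (.nd (.lf 0x2e9) (.lf 0))) (.nd (.nd (.lf 0x157) (.lf 0)) (.nd (.lf 0x61) (.lf 0)))) (.nd (.nd (.nd (.lf 0x20b) (.lf 0)) (.nd (.lf 0x1cd) (.lf 0))) (.nd (.nd (.lf 0x769) (.lf 0)) (.nd (.lf 0x149) (.lf 0))))) (.nd (.nd (.nd (.nd (.lf 0x5a8) (.lf 0x50)) (.nd (.lf 0x3a1) (.lf 0))) (.nd (.nd (.lf 0x235) (.lf 0)) (.nd (.lf 0x204) (.lf 0)))) (.nd (.nd (.nd (.lf 0x75d) (.lf 0)) (.nd (.lf 0x1aa) (.lf 0))) (.nd (.nd (.lf 0x48f) (.lf 0)) (.nd (.lf 0x138) (.lf 0)))))) (.nd (.nd (.nd (.nd (.nd (.lf 0x5d8) (.lf 0x4f3)) (.nd (.lf 0x527) (.lf 0))) (.nd (.nd (.lf 0x11c) (.lf 0)) (.nd (.lf 0x65d) (.lf 0)))) (.nd (.nd (.nd (.lf 0x156) (.lf 0)) (.nd (.lf 0xdb) (.lf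 0))) (.nd (.nd (.lf 0x7ca) (.lf 0)) (.nd (.lf 0x7f6) (.lf 0))))) (.nd (.nd (.nd (.nd (.lf 0x610) (.lf 0x625)) (.nd (.lf 0x290) (.lf 0))) (.nd (.nd (.lf 0x193) (.lf 0)) (.nd (.lf 0x43) (.lf 0)))) (.nd (.nd (.nd (.lf 0x682) (.lf 0)) (.nd (.lf 0x441) (.lf 0))) (.nd (.nd (.lf 0x772) (.lf 0)) (.nd (.lf 0x737) (.lf 0)))))))
def srtQ_nbbbabb : Tr := (.nd (.nd (.nd (.nd (.nd (.nd (.lf 0x14d) (.lf 0xe6)) (.nd (.lf 0xe4) (.lf 0))) (.nd (.nd (.lf 0x683) (.lf 0)) (.nd (.lf 0x135) (.lf 0)))) (.nd (.nd (.nd (.lf 0x2f5) (.lf 0)) (.nd (.lf 0x8aa) (.lf 0))) (.nd (.nd (.lf 0x6c4) (.lf 0)) (.nd (.lf 0x5be) (.lf 0))))) (.nd (.nd (.nd (.nd (.lf 0x33) (.lf 0x433)) (.nd (.lf 0x78c) (.lf 0))) (.nd (.nd (.lf 0x18b) (.lf 0)) (.nd (.lf 0x866) (.lf 0))))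 (.nd (.nd (.nd (.lf 0x607) (.lf 0)) (.nd (.lf 0x8d) (.lf 0))) (.nd (.nd (.lf 0x47d) (.lf 0)) (.nd (.lf 0x29d) (.lf 0)))))) (.nd (.nd (.nd (.nd (.nd (.lf 0x5c5) (.lf 0x5f5)) (.nd (.lf 0x16f) (.lf 0))) (.nd (.nd (.lf 0x50c) (.lf 0)) (.nd (.lf 0x13f) (.lf 0)))) (.nd (.nd (.nd (.lf 0x437) (.lf 0)) (.nd (.lf 0x347) (.lf 0))) (.nd (.nd (.lf 0x881) (.lf 0)) (.nd (.lf 0x5a) (.lf 0))))) (.nd (.nd (.nd (.nd (.lf 0x3fa) (.lf 0x6e5)) (.nd (.lf 0x31) (.lf 0))) (.nd (.nd (.lf 0x870) (.lf 0)) (.nd (.lf 0x81e) (.lf 0)))) (.nd (.nd (.nd (.lf 0x1bc) (.lf 0)) (.nd (.lf 0x5f4) (.lf 0))) (.nd (.nd (.lf 0x29c) (.lf 0)) (.nd (.lf 0x225) (.lf 0)))))))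
def srtQ_nbbbbaa : Tr := (.nd (.nd (.nd (.nd (.nd (.nd (.lf 0x1c7) (.lf 0x4bd)) (.nd (.lf 0x8da) (.lf 0))) (.nd (.nd (.lf 0x1a1) (.lf 0)) (.nd (.lf 0x767) (.lf 0)))) (.nd (.nd (.nd (.lf 0x868) (.lf 0)) (.nd (.lf 0x592) (.lf 0))) (.nd (.nd (.lf 0x8cd) (.lf 0)) (.nd (.lf 0x809) (.lf 0))))) (.nd (.nd (.nd (.nd (.lf 0x8c9) (.lf 0x321)) (.nd (.lf 0x49c) (.lf 0))) (.nd (.nd (.lf 0x6b4) (.lf 0)) (.nd (.lf 0x182) (.lf 0)))) (.nd (.nd (.nd (.lf 0x780) (.lf 0)) (.nd (.lf 0x2c1) (.lf 0))) (.nd (.nd (.lf 0x490) (.lf 0)) (.nd (.lf 0x7a1) (.lf 0)))))) (.nd (.nd (.nd (.nd (.nd (.lf 0x4d6) (.lf 0x367)) (.nd (.lf 0x7c3) (.lf 0))) (.nd (.nd (.lf 0x2bc) (.lf 0)) (.nd (.lf 0x8c8) (.lf 0)))) (.nd (.nd (.nd (.lf 0x2c4) (.lf 0)) (.nd (.lf 0x2af) (.lf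 0))) (.nd (.nd (.lf 0x4c4) (.lf 0)) (.nd (.lf 0x43a) (.lf 0))))) (.nd (.nd (.nd (.nd (.lf 0x667) (.lf 0xfb)) (.nd (.lf 0x44d) (.lf 0))) (.nd (.nd (.lf 0x7e6) (.lf 0)) (.nd (.lf 0x124) (.lf 0)))) (.nd (.nd (.nd (.lf 0x493) (.lf 0)) (.nd (.lf 0x7cc) (.lf 0))) (.nd (.nd (.lf 0x31d) (.lf 0)) (.nd (.lf 0x61d) (.lf 0)))))))
def srtQ_nbbbbab : Tr := (.nd (.nd (.nd (.nd (.nd (.nd (.lf 0x79d) (.lf 0x812)) (.nd (.lf 0x724) (.lf 0))) (.nd (.nd (.lf 0x851) (.lf 0)) (.nd (.lf 0xbc) (.lf 0)))) (.nd (.nd (.nd (.lf 0x3cf) (.lf 0)) (.nd (.lf 0x4f9) (.lf 0))) (.nd (.nd (.lf 0x855) (.lf 0)) (.nd (.lf 0x572) (.lf 0))))) (.nd (.nd (.nd (.nd (.lf 0x3df) (.lf 0x385)) (.nd (.lf 0x646) (.lf 0))) (.nd (.nd (.lf 0x6d4) (.lf 0)) (.nd (.lf 0x898) (.lf 0))))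 (.nd (.nd (.nd (.lf 0x734) (.lf 0)) (.nd (.lf 0x500) (.lf 0))) (.nd (.nd (.lf 0x382) (.lf 0)) (.nd (.lf 0x6de) (.lf 0)))))) (.nd (.nd (.nd (.nd (.nd (.lf 0x1e0) (.lf 0x7dd)) (.nd (.lf 0x3fe) (.lf 0))) (.nd (.nd (.lf 0x205) (.lf 0)) (.nd (.lf 0x269) (.lf 0)))) (.nd (.nd (.nd (.lf 0x3af) (.lf 0)) (.nd (.lf 0x5e7) (.lf 0))) (.nd (.nd (.lf 0x768) (.lf 0)) (.nd (.lf 0x6ab) (.lf 0))))) (.nd (.nd (.nd (.nd (.lf 0x3c2) (.lf 0x5f9)) (.nd (.lf 0x680) (.lf 0))) (.nd (.nd (.lf 0x220) (.lf 0)) (.nd (.lf 0x8ee) (.lf 0)))) (.nd (.nd (.nd (.lf 0x858) (.lf 0)) (.nd (.lf 0x6a0) (.lf 0))) (.nd (.nd (.lf 0x733) (.lf 0)) (.nd (.lf 0x595) (.lf 0)))))))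
def srtQ_nbbbbba : Tr := (.nd (.nd (.nd (.nd (.nd (.nd (.lf 0x171) (.lf 0x41d)) (.nd (.lf 0x3f6) (.lf 0))) (.nd (.nd (.lf 0x5f3) (.lf 0)) (.nd (.lf 0x1e7) (.lf 0)))) (.nd (.nd (.nd (.lf 0x82a) (.lf 0)) (.nd (.lf 0x508) (.lf 0))) (.nd (.nd (.lf 0x8f8) (.lf 0)) (.nd (.lf 0x5ca) (.lf 0))))) (.nd (.nd (.nd (.nd (.lf 0x52f) (.lf 0x327)) (.nd (.lf 0x865) (.lf 0))) (.nd (.nd (.lf 0x7ed) (.lf 0)) (.nd (.lf 0x2e2) (.lf 0)))) (.nd (.nd (.nd (.lf 0x5f0) (.lf 0)) (.nd (.lf 0x3b5) (.lf 0))) (.nd (.nd (.lf 0x5cf) (.lf 0)) (.nd (.lf 0x1f5) (.lf 0)))))) (.nd (.nd (.nd (.nd (.nd (.lf 0x6cd) (.lf 0x97)) (.nd (.lf 0x133) (.lf 0))) (.nd (.nd (.lf 0x50b) (.lf 0)) (.nd (.lf 0x1a6) (.lf 0)))) (.nd (.nd (.nd (.lf 0x3f3) (.lf 0)) (.nd (.lf 0x630) (.lf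 0))) (.nd (.nd (.lf 0x8d9) (.lf 0)) (.nd (.lf 0xa5) (.lf 0))))) (.nd (.nd (.nd (.nd (.lf 0x7af) (.lf 0x139)) (.nd (.lf 0x602) (.lf 0))) (.nd (.nd (.lf 0x830) (.lf 0)) (.nd (.lf 0x3d0) (.lf 0)))) (.nd (.nd (.nd (.lf 0x3a9) (.lf 0)) (.nd (.lf 0x150) (.lf 0))) (.nd (.nd (.lf 0x840) (.lf 0)) (.nd (.lf 0xa3) (.lf 0)))))))
def srtQ_nbbbbbb : Tr := (.nd (.nd (.nd (.nd (.nd (.nd (.lf 0x6dd) (.lf 0x807)) (.nd (.lf 0x352) (.lf 0))) (.nd (.nd (.lf 0x7bd) (.lf 0)) (.nd (.lf 0x342) (.lf 0)))) (.nd (.nd (.nd (.lf 0x114) (.lf 0)) (.nd (.lf 0x466) (.lf 0))) (.nd (.nd (.lf 0x32c) (.lf 0)) (.nd (.lf 0x3b7) (.lf 0))))) (.nd (.nd (.nd (.nd (.lf 0x721) (.lf 0x14)) (.nd (.lf 0x3d5) (.lf 0))) (.nd (.nd (.lf 0x16b) (.lf 0)) (.nd (.lf 0x1bb) (.lf 0))))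 (.nd (.nd (.nd (.lf 0x605) (.lf 0)) (.nd (.lf 0x4cc) (.lf 0))) (.nd (.nd (.lf 0x309) (.lf 0)) (.nd (.lf 0x7c9) (.lf 0)))))) (.nd (.nd (.nd (.nd (.nd (.lf 0x5c9) (.lf 0x87e)) (.nd (.lf 0x7d9) (.lf 0))) (.nd (.nd (.lf 0x485) (.lf 0)) (.nd (.lf 0x2b) (.lf 0)))) (.nd (.nd (.nd (.lf 0x85b) (.lf 0)) (.nd (.lf 0x372) (.lf 0))) (.nd (.nd (.lf 0x368) (.lf 0)) (.nd (.lf 0x5e2) (.lf 0))))) (.nd (.nd (.nd (.nd (.lf 0x170) (.lf 0x1c8)) (.nd (.lf 0x87a) (.lf 0))) (.nd (.nd (.lf 0x675) (.lf 0)) (.nd (.lf 0x464) (.lf 0)))) (.nd (.nd (.nd (.lf 0x536) (.lf 0)) (.nd (.lf 0x2d8) (.lf 0))) (.nd (.nd (.lf 0x591) (.lf 0)) (.nd (.lf 0x38) (.lf 0)))))))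
def srtQ : Tr := (.nd (.nd (.nd (.nd (.nd (.nd srtQ_naaaaaa srtQ_naaaaab) (.nd srtQ_naaaaba srtQ_naaaabb)) (.nd (.nd srtQ_naaabaa srtQ_naaabab) (.nd srtQ_naaabba srtQ_naaabbb))) (.nd (.nd (.nd srtQ_naabaaa srtQ_naabaab) (.nd srtQ_naababa srtQ_naababb)) (.nd (.nd srtQ_naabbaa srtQ_naabbab) (.nd srtQ_naabbba srtQ_naabbbb)))) (.nd (.nd (.nd (.nd srtQ_nabaaaa srtQ_nabaaab) (.nd srtQ_nabaaba srtQ_nabaabb)) (.nd (.nd srtQ_nababaa srtQ_nababab) (.nd srtQ_nababba srtQ_nababbb))) (.nd (.nd (.nd srtQ_nabbaaa srtQ_nabbaab) (.nd srtQ_nabbaba srtQ_nabbabb)) (.nd (.nd srtQ_nabbbaa srtQ_nabbbab) (.nd srtQ_nabbbba srtQ_nabbbbb))))) (.nd (.nd (.nd (.nd (.nd srtQ_nbaaaaa srtQ_nbaaaab) (.nd srtQ_nbaaaba srtQ_nbaaabb)) (.nd (.nd srtQ_nbaabaa srtQ_nbaabab)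 (.nd srtQ_nbaabba srtQ_nbaabbb))) (.nd (.nd (.nd srtQ_nbabaaa srtQ_nbabaab) (.nd srtQ_nbababa srtQ_nbababb)) (.nd (.nd srtQ_nbabbaa srtQ_nbabbab) (.nd srtQ_nbabbba srtQ_nbabbbb)))) (.nd (.nd (.nd (.nd srtQ_nbbaaaa srtQ_nbbaaab) (.nd srtQ_nbbaaba srtQ_nbbaabb)) (.nd (.nd srtQ_nbbabaa srtQ_nbbabab) (.nd srtQ_nbbabba srtQ_nbbabbb))) (.nd (.nd (.nd srtQ_nbbbaaa srtQ_nbbbaab) (.nd srtQ_nbbbaba srtQ_nbbbabb)) (.nd (.nd srtQ_nbbbbaa srtQ_nbbbbab) (.nd srtQ_nbbbbba srtQ_nbbbbbb))))))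
def parQ_naaaaaa : Tr := (.nd (.nd (.nd (.nd (.nd (.nd (.lf 0x0) (.lf 0x14df)) (.nd (.lf 0x119b) (.lf 0))) (.nd (.nd (.lf 0x20bb) (.lf 0)) (.nd (.lf 0x12c7) (.lf 0)))) (.nd (.nd (.nd (.lf 0x5a) (.lf 0)) (.nd (.lf 0x223) (.lf 0))) (.nd (.nd (.lf 0x1125) (.lf 0)) (.nd (.lf 0x398) (.lf 0))))) (.nd (.nd (.nd (.nd (.lf 0x2b) (.lf 0x25d7)) (.nd (.lf 0x1de) (.lf 0))) (.nd (.nd (.lf 0x10ef) (.lf 0)) (.nd (.lf 0x2327) (.lf 0)))) (.nd (.nd (.nd (.lf 0x8a) (.lf 0)) (.nd (.lf 0x1272) (.lf 0))) (.nd (.nd (.lf 0x215f) (.lf 0)) (.nd (.lf 0x1428) (.lf 0)))))) (.nd (.nd (.nd (.nd (.nd (.lf 0x1015) (.lf 0x253f)) (.nd (.lf 0x21ba) (.lf 0))) (.nd (.nd (.lf 0x20d5) (.lf 0)) (.nd (.lf 0x22f9) (.lf 0)))) (.nd (.nd (.nd (.lf 0x1071) (.lf 0)) (.nd (.lf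 0x224a) (.lf 0))) (.nd (.nd (.lf 0x1142) (.lf 0)) (.nd (.lf 0x23de) (.lf 0))))) (.nd (.nd (.nd (.nd (.lf 0x1042) (.lf 0x69b)) (.nd (.lf 0x2204) (.lf 0))) (.nd (.nd (.lf 0x10a) (.lf 0)) (.nd (.lf 0x135f) (.lf 0)))) (.nd (.nd (.nd (.lf 0x20a1) (.lf 0)) (.nd (.lf 0x1296) (.lf 0))) (.nd (.nd (.lf 0x217e) (.lf 0)) (.nd (.lf 0x2482) (.lf 0)))))))
def parQ_naaaaab : Tr := (.nd (.nd (.nd (.nd (.nd (.nd (.lf 0x100a) (.lf 0x150f)) (.nd (.lf 0x1ac) (.lf 0))) (.nd (.nd (.lf 0x10c7) (.lf 0)) (.nd (.lf 0x2e0) (.lf 0)))) (.nd (.nd (.nd (.lf 0x2066) (.lf 0)) (.nd (.lf 0x2236) (.lf 0))) (.nd (.nd (.lf 0x133) (.lf 0)) (.nd (.lf 0x23bf) (.lf 0))))) (.nd (.nd (.nd (.nd (.lf 0x1037) (.lf 0x262e)) (.nd (.lf 0x1f1) (.lf 0))) (.nd (.nd (.lf 0xfd) (.lf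 0)) (.nd (.lf 0x133e) (.lf 0)))) (.nd (.nd (.nd (.lf 0x1096) (.lf 0)) (.nd (.lf 0x1282) (.lf 0))) (.nd (.nd (.lf 0x116d) (.lf 0)) (.nd (.lf 0x44e) (.lf 0)))))) (.nd (.nd (.nd (.nd (.nd (.lf 0x1020) (.lf 0x257a)) (.nd (.lf 0x21cd) (.lf 0))) (.nd (.nd (.lf 0x10e3) (.lf 0)) (.nd (.lf 0x310) (.lf 0)))) (.nd (.nd (.nd (.lf 0x207c) (.lf 0)) (.nd (.lf 0x125e) (.lf 0))) (.nd (.nd (.lf 0x1151) (.lf 0)) (.nd (.lf 0x140f) (.lf 0))))) (.nd (.nd (.nd (.nd (.lf 0x4e) (.lf 0x713)) (.nd (.lf 0x2212) (.lf 0))) (.nd (.nd (.lf 0x2116) (.lf 0)) (.nd (.lf 0x137f) (.lf 0)))) (.nd (.nd (.nd (.lf 0x10ae) (.lf 0)) (.nd (.lf 0x2b0) (.lf 0))) (.nd (.nd (.lf 0x118c) (.lf 0)) (.nd (.lf 0x4a7) (.lf 0)))))))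
def parQ_naaaaba : Tr := (.nd (.nd (.nd (.nd (.nd (.nd (.lf 0x5) (.lf 0x24f5)) (.nd (.lf 0x11a3) (.lf 0))) (.nd (.nd (.lf 0x10c1) (.lf 0)) (.nd (.lf 0x22d2) (.lf 0)))) (.nd (.nd (.nd (.lf 0x205f) (.lf 0)) (.nd (.lf 0x122b) (.lf 0))) (.nd (.nd (.lf 0x212b) (.lf 0)) (.nd (.lf 0x3ab) (.lf 0))))) (.nd (.nd (.nd (.nd (.lf 0x31) (.lf 0x608)) (.nd (.lf 0x21e6) (.lf 0))) (.nd (.nd (.lf 0x20f6) (.lf 0)) (.nd (.lf 0x1332) (.lf 0)))) (.nd (.nd (.nd (.lf 0x2090) (.lf 0)) (.nd (.lf 0x227a) (.lf 0))) (.nd (.nd (.lf 0x1165) (.lf 0)) (.nd (.lf 0x143b) (.lf 0)))))) (.nd (.nd (.nd (.nd (.nd (.lf 0x201a) (.lf 0x563)) (.nd (.lf 0x11c6) (.lf 0))) (.nd (.nd (.lf 0xdc) (.lf 0)) (.nd (.lf 0x1305) (.lf 0)))) (.nd (.nd (.nd (.lf 0x77) (.lf 0)) (.nd (.lf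 0x1256) (.lf 0))) (.nd (.nd (.lf 0x2149) (.lf 0)) (.nd (.lf 0x23f6) (.lf 0))))) (.nd (.nd (.nd (.nd (.lf 0x1048) (.lf 0x16d3)) (.nd (.lf 0x220a) (.lf 0))) (.nd (.nd (.lf 0x110) (.lf 0)) (.nd (.lf 0x2373) (.lf 0)))) (.nd (.nd (.nd (.lf 0x10a7) (.lf 0)) (.nd (.lf 0x22a4) (.lf 0))) (.nd (.nd (.lf 0x185) (.lf 0)) (.nd (.lf 0x2492) (.lf 0)))))))
def parQ_naaaabb : Tr := (.nd (.nd (.nd (.nd (.nd (.nd (.lf 0x200f) (.lf 0x2527)) (.nd (.lf 0x21b4) (.lf 0))) (.nd (.nd (.lf 0x10cf) (.lf 0)) (.nd (.lf 0x2f0) (.lf 0)))) (.nd (.nd (.nd (.lf 0x6c) (.lf 0)) (.nd (.lf 0x223e) (.lf 0))) (.nd (.nd (.lf 0x13c) (.lf 0)) (.nd (.lf 0x23d1) (.lf 0))))) (.nd (.nd (.nd (.nd (.lf 0x203c) (.lf 0x661)) (.nd (.lf 0x21fa) (.lf 0))) (.nd (.nd (.lf 0x104) (.lf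 0)) (.nd (.lf 0x34e) (.lf 0)))) (.nd (.nd (.nd (.lf 0x109c) (.lf 0)) (.nd (.lf 0x228a) (.lf 0))) (.nd (.nd (.lf 0x1175) (.lf 0)) (.nd (.lf 0x46b) (.lf 0)))))) (.nd (.nd (.nd (.nd (.nd (.lf 0x2025) (.lf 0x5a5)) (.nd (.lf 0x11d6) (.lf 0))) (.nd (.nd (.lf 0x10e9) (.lf 0)) (.nd (.lf 0x31c) (.lf 0)))) (.nd (.nd (.nd (.lf 0x1083) (.lf 0)) (.nd (.lf 0x2268) (.lf 0))) (.nd (.nd (.lf 0x2158) (.lf 0)) (.nd (.lf 0x241b) (.lf 0))))) (.nd (.nd (.nd (.nd (.lf 0x1054) (.lf 0x77e)) (.nd (.lf 0x21a) (.lf 0))) (.nd (.nd (.lf 0x11f) (.lf 0)) (.nd (.lf 0x238a) (.lf 0)))) (.nd (.nd (.nd (.lf 0xb5) (.lf 0)) (.nd (.lf 0x2bc) (.lf 0))) (.nd (.nd (.lf 0x192) (.lf 0)) (.nd (.lf 0x4c7) (.lf 0)))))))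
def parQ_naaabaa : Tr := (.nd (.nd (.nd (.nd (.nd (.nd (.lf 0x1002) (.lf 0x14eb)) (.nd (.lf 0x219f) (.lf 0))) (.nd (.nd (.lf 0x10be) (.lf 0)) (.nd (.lf 0x2cc) (.lf 0)))) (.nd (.nd (.nd (.lf 0x5d) (.lf 0)) (.nd (.lf 0x227) (.lf 0))) (.nd (.nd (.lf 0x2128) (.lf 0)) (.nd (.lf 0x23a3) (.lf 0))))) (.nd (.nd (.nd (.nd (.lf 0x2e) (.lf 0x5e6)) (.nd (.lf 0x1e2) (.lf 0))) (.nd (.nd (.lf 0xf3) (.lf 0)) (.nd (.lf 0x132e) (.lf 0)))) (.nd (.nd (.nd (.lf 0x108d) (.lf 0)) (.nd (.lf 0x276) (.lf 0))) (.nd (.nd (.lf 0x2162) (.lf 0)) (.nd (.lf 0x2432) (.lf 0)))))) (.nd (.nd (.nd (.nd (.nd (.lf 0x18) (.lf 0x254e)) (.nd (.lf 0x21bd) (.lf 0))) (.nd (.nd (.lf 0x10d8) (.lf 0)) (.nd (.lf 0x301) (.lf 0)))) (.nd (.nd (.nd (.lf 0x74) (.lf 0)) (.nd (.lf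 0x1251) (.lf 0))) (.nd (.nd (.lf 0x146) (.lf 0)) (.nd (.lf 0x3ec) (.lf 0))))) (.nd (.nd (.nd (.nd (.lf 0x1045) (.lf 0x6b8)) (.nd (.lf 0x1207) (.lf 0))) (.nd (.nd (.lf 0x10d) (.lf 0)) (.nd (.lf 0x1368) (.lf 0)))) (.nd (.nd (.nd (.lf 0x10a4) (.lf 0)) (.nd (.lf 0x29e) (.lf 0))) (.nd (.nd (.lf 0x1181) (.lf 0)) (.nd (.lf 0x248b) (.lf 0)))))))
def parQ_naaabab : Tr := (.nd (.nd (.nd (.nd (.nd (.nd (.lf 0xd) (.lf 0x51a)) (.nd (.lf 0x1af) (.lf 0))) (.nd (.nd (.lf 0xcb) (.lf 0)) (.nd (.lf 0x12e6) (.lf 0)))) (.nd (.nd (.nd (.lf 0x1069) (.lf 0)) (.nd (.lf 0x23b) (.lf 0))) (.nd (.nd (.lf 0x138) (.lf 0)) (.nd (.lf 0x23ca) (.lf 0))))) (.nd (.nd (.nd (.nd (.lf 0x3a) (.lf 0x644)) (.nd (.lf 0x1f5) (.lf 0))) (.nd (.nd (.lf 0x2100) (.lf 0)) (.nd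 (.lf 0x2348) (.lf 0)))) (.nd (.nd (.nd (.lf 0x99) (.lf 0)) (.nd (.lf 0x286) (.lf 0))) (.nd (.nd (.lf 0x2170) (.lf 0)) (.nd (.lf 0x245f) (.lf 0)))))) (.nd (.nd (.nd (.nd (.nd (.lf 0x23) (.lf 0x58d)) (.nd (.lf 0x11d1) (.lf 0))) (.nd (.nd (.lf 0x10e6) (.lf 0)) (.nd (.lf 0x1315) (.lf 0)))) (.nd (.nd (.nd (.lf 0x80) (.lf 0)) (.nd (.lf 0x1264) (.lf 0))) (.nd (.nd (.lf 0x1154) (.lf 0)) (.nd (.lf 0x1415) (.lf 0))))) (.nd (.nd (.nd (.nd (.lf 0x1051) (.lf 0x172b)) (.nd (.lf 0x2216) (.lf 0))) (.nd (.nd (.lf 0x211a) (.lf 0)) (.nd (.lf 0x385) (.lf 0)))) (.nd (.nd (.nd (.lf 0x10b1) (.lf 0)) (.nd (.lf 0x2b6) (.lf 0))) (.nd (.nd (.lf 0x118f) (.lf 0)) (.nd (.lf 0x4b8) (.lf 0)))))))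
def parQ_naaabba : Tr := (.nd (.nd (.nd (.nd (.nd (.nd (.lf 0x2007) (.lf 0x502)) (.nd (.lf 0x11a8) (.lf 0))) (.nd (.nd (.lf 0x20c4) (.lf 0)) (.nd (.lf 0x22d8) (.lf 0)))) (.nd (.nd (.nd (.lf 0x64) (.lf 0)) (.nd (.lf 0x232) (.lf 0))) (.nd (.nd (.lf 0x212e) (.lf 0)) (.nd (.lf 0x3b2) (.lf 0))))) (.nd (.nd (.nd (.nd (.lf 0x2033) (.lf 0x2619)) (.nd (.lf 0x1ec) (.lf 0))) (.nd (.nd (.lf 0x10fa) (.lf 0)) (.nd (.lf 0x2337) (.lf 0)))) (.nd (.nd (.nd (.lf 0x1093) (.lf 0)) (.nd (.lf 0x127e) (.lf 0))) (.nd (.nd (.lf 0x2168) (.lf 0)) (.nd (.lf 0x444) (.lf 0)))))) (.nd (.nd (.nd (.nd (.nd (.lf 0x201d) (.lf 0x56f)) (.nd (.lf 0x21c9) (.lf 0))) (.nd (.nd (.lf 0xe0) (.lf 0)) (.nd (.lf 0x230b) (.lf 0)))) (.nd (.nd (.nd (.lf 0x7a) (.lf 0)) (.nd (.lf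 0x225a) (.lf 0))) (.nd (.nd (.lf 0x214c) (.lf 0)) (.nd (.lf 0x2403) (.lf 0))))) (.nd (.nd (.nd (.nd (.lf 0x4b) (.lf 0x16ee)) (.nd (.lf 0x20e) (.lf 0))) (.nd (.nd (.lf 0x2112) (.lf 0)) (.nd (.lf 0x237a) (.lf 0)))) (.nd (.nd (.nd (.lf 0xaa) (.lf 0)) (.nd (.lf 0x22ab) (.lf 0))) (.nd (.nd (.lf 0x1188) (.lf 0)) (.nd (.lf 0x14a1) (.lf 0)))))))
def parQ_naaabbb : Tr := (.nd (.nd (.nd (.nd (.nd (.nd (.lf 0x1012) (.lf 0x530)) (.nd (.lf 0x21b7) (.lf 0))) (.nd (.nd (.lf 0xd2) (.lf 0)) (.nd (.lf 0x12f3) (.lf 0)))) (.nd (.nd (.nd (.lf 0x206e) (.lf 0)) (.nd (.lf 0x2243) (.lf 0))) (.nd (.nd (.lf 0x113f) (.lf 0)) (.nd (.lf 0x13d8) (.lf 0))))) (.nd (.nd (.nd (.nd (.lf 0x203f) (.lf 0x67e)) (.nd (.lf 0x1ff) (.lf 0))) (.nd (.nd (.lf 0x2106) (.lf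 0)) (.nd (.lf 0x2355) (.lf 0)))) (.nd (.nd (.nd (.lf 0x9f) (.lf 0)) (.nd (.lf 0x291) (.lf 0))) (.nd (.nd (.lf 0x117a) (.lf 0)) (.nd (.lf 0x476) (.lf 0)))))) (.nd (.nd (.nd (.nd (.nd (.lf 0x1028) (.lf 0x5b5)) (.nd (.lf 0x1da) (.lf 0))) (.nd (.nd (.lf 0xec) (.lf 0)) (.nd (.lf 0x1321) (.lf 0)))) (.nd (.nd (.nd (.lf 0x86) (.lf 0)) (.nd (.lf 0x226d) (.lf 0))) (.nd (.nd (.lf 0x15c) (.lf 0)) (.nd (.lf 0x421) (.lf 0))))) (.nd (.nd (.nd (.nd (.lf 0x57) (.lf 0x80f)) (.nd (.lf 0x21f) (.lf 0))) (.nd (.nd (.lf 0x122) (.lf 0)) (.nd (.lf 0x393) (.lf 0)))) (.nd (.nd (.nd (.lf 0x20b7) (.lf 0)) (.nd (.lf 0x12c2) (.lf 0))) (.nd (.nd (.lf 0x1197) (.lf 0)) (.nd (.lf 0x4d3) (.lf 0)))))))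
def parQ_naabaaa : Tr := (.nd (.nd (.nd (.nd (.nd (.nd (.lf 0x1) (.lf 0x24e6)) (.nd (.lf 0x19d) (.lf 0))) (.nd (.nd (.lf 0xbd) (.lf 0)) (.nd (.lf 0x12c9) (.lf 0)))) (.nd (.nd (.nd (.lf 0x105b) (.lf 0)) (.nd (.lf 0x2224) (.lf 0))) (.nd (.nd (.lf 0x127) (.lf 0)) (.nd (.lf 0x239c) (.lf 0))))) (.nd (.nd (.nd (.nd (.lf 0x102c) (.lf 0x5de)) (.nd (.lf 0x11df) (.lf 0))) (.nd (.nd (.lf 0xf1) (.lf 0)) (.nd (.lf 0x132a) (.lf 0)))) (.nd (.nd (.nd (.lf 0x108b) (.lf 0)) (.nd (.lf 0x2273) (.lf 0))) (.nd (.nd (.lf 0x1161) (.lf 0)) (.nd (.lf 0x42d) (.lf 0)))))) (.nd (.nd (.nd (.nd (.nd (.lf 0x2016) (.lf 0x547)) (.nd (.lf 0x1bc) (.lf 0))) (.nd (.nd (.lf 0xd7) (.lf 0)) (.nd (.lf 0x22fb) (.lf 0)))) (.nd (.nd (.nd (.lf 0x2072) (.lf 0)) (.nd (.lf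 0x224d) (.lf 0))) (.nd (.nd (.lf 0x2143) (.lf 0)) (.nd (.lf 0x3e5) (.lf 0))))) (.nd (.nd (.nd (.nd (.lf 0x2043) (.lf 0x6ac)) (.nd (.lf 0x206) (.lf 0))) (.nd (.nd (.lf 0x210b) (.lf 0)) (.nd (.lf 0x364) (.lf 0)))) (.nd (.nd (.nd (.lf 0xa3) (.lf 0)) (.nd (.lf 0x2298) (.lf 0))) (.nd (.nd (.lf 0x180) (.lf 0)) (.nd (.lf 0x1487) (.lf 0)))))))
def parQ_naabaab : Tr := (.nd (.nd (.nd (.nd (.nd (.nd (.lf 0x200b) (.lf 0x1515)) (.nd (.lf 0x11ad) (.lf 0))) (.nd (.nd (.lf 0xc9) (.lf 0)) (.nd (.lf 0x12e1) (.lf 0)))) (.nd (.nd (.nd (.lf 0x68) (.lf 0)) (.nd (.lf 0x239) (.lf 0))) (.nd (.nd (.lf 0x2135) (.lf 0)) (.nd (.lf 0x13c4) (.lf 0))))) (.nd (.nd (.nd (.nd (.lf 0x2038) (.lf 0x263a)) (.nd (.lf 0x11f3) (.lf 0))) (.nd (.nd (.lf 0xff) (.lf 0))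 (.nd (.lf 0x345) (.lf 0)))) (.nd (.nd (.nd (.lf 0x2097) (.lf 0)) (.nd (.lf 0x2284) (.lf 0))) (.nd (.nd (.lf 0x16f) (.lf 0)) (.nd (.lf 0x455) (.lf 0)))))) (.nd (.nd (.nd (.nd (.nd (.lf 0x2021) (.lf 0x2580)) (.nd (.lf 0x1cf) (.lf 0))) (.nd (.nd (.lf 0x20e4) (.lf 0)) (.nd (.lf 0x1312) (.lf 0)))) (.nd (.nd (.nd (.lf 0x207e) (.lf 0)) (.nd (.lf 0x261) (.lf 0))) (.nd (.nd (.lf 0x2152) (.lf 0)) (.nd (.lf 0x2412) (.lf 0))))) (.nd (.nd (.nd (.nd (.lf 0x204f) (.lf 0x271c)) (.nd (.lf 0x215) (.lf 0))) (.nd (.nd (.lf 0x2118) (.lf 0)) (.nd (.lf 0x382) (.lf 0)))) (.nd (.nd (.nd (.lf 0xb0) (.lf 0)) (.nd (.lf 0x22b2) (.lf 0))) (.nd (.nd (.lf 0x218d) (.lf 0)) (.nd (.lf 0x24b2) (.lf 0)))))))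
def parQ_naababa : Tr := (.nd (.nd (.nd (.nd (.nd (.nd (.lf 0x1006) (.lf 0x4fd)) (.nd (.lf 0x21a5) (.lf 0))) (.nd (.nd (.lf 0xc3) (.lf 0)) (.nd (.lf 0x22d5) (.lf 0)))) (.nd (.nd (.nd (.lf 0x1062) (.lf 0)) (.nd (.lf 0x222e) (.lf 0))) (.nd (.nd (.lf 0x112d) (.lf 0)) (.nd (.lf 0x3b0) (.lf 0))))) (.nd (.nd (.nd (.nd (.lf 0x1032) (.lf 0x2611)) (.nd (.lf 0x21e9) (.lf 0))) (.nd (.nd (.lf 0xf9) (.lf 0)) (.nd (.lf 0x2334) (.lf 0)))) (.nd (.nd (.nd (.lf 0x92) (.lf 0)) (.nd (.lf 0x27d) (.lf 0))) (.nd (.nd (.lf 0x167) (.lf 0)) (.nd (.lf 0x243e) (.lf 0)))))) (.nd (.nd (.nd (.nd (.nd (.lf 0x1c) (.lf 0x2569)) (.nd (.lf 0x1c8) (.lf 0))) (.nd (.nd (.lf 0xde) (.lf 0)) (.nd (.lf 0x309) (.lf 0)))) (.nd (.nd (.nd (.lf 0x2078) (.lf 0)) (.nd (.lf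 0x258) (.lf 0))) (.nd (.nd (.lf 0x114b) (.lf 0)) (.nd (.lf 0x3ff) (.lf 0))))) (.nd (.nd (.nd (.nd (.lf 0x2049) (.lf 0x16d9)) (.nd (.lf 0x120c) (.lf 0))) (.nd (.nd (.lf 0x1111) (.lf 0)) (.nd (.lf 0x2377) (.lf 0)))) (.nd (.nd (.nd (.lf 0x20a8) (.lf 0)) (.nd (.lf 0x2a7) (.lf 0))) (.nd (.nd (.lf 0x2186) (.lf 0)) (.nd (.lf 0x1496) (.lf 0)))))))
def parQ_naababb : Tr := (.nd (.nd (.nd (.nd (.nd (.nd (.lf 0x11) (.lf 0x252d)) (.nd (.lf 0x1b6) (.lf 0))) (.nd (.nd (.lf 0x20d0) (.lf 0)) (.nd (.lf 0x22f1) (.lf 0)))) (.nd (.nd (.nd (.lf 0x106d) (.lf 0)) (.nd (.lf 0x242) (.lf 0))) (.nd (.nd (.lf 0x213d) (.lf 0)) (.nd (.lf 0x13d5) (.lf 0))))) (.nd (.nd (.nd (.nd (.lf 0x3e) (.lf 0x1669)) (.nd (.lf 0x11fc) (.lf 0))) (.nd (.nd (.lf 0x1105) (.lf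 0)) (.nd (.lf 0x354) (.lf 0)))) (.nd (.nd (.nd (.lf 0x209d) (.lf 0)) (.nd (.lf 0x228d) (.lf 0))) (.nd (.nd (.lf 0x177) (.lf 0)) (.nd (.lf 0x246f) (.lf 0)))))) (.nd (.nd (.nd (.nd (.nd (.lf 0x27) (.lf 0x5a9)) (.nd (.lf 0x11d8) (.lf 0))) (.nd (.nd (.lf 0x20ea) (.lf 0)) (.nd (.lf 0x131e) (.lf 0)))) (.nd (.nd (.nd (.lf 0x2084) (.lf 0)) (.nd (.lf 0x26c) (.lf 0))) (.nd (.nd (.lf 0x15a) (.lf 0)) (.nd (.lf 0x141e) (.lf 0))))) (.nd (.nd (.nd (.nd (.lf 0x2055) (.lf 0x27b4)) (.nd (.lf 0x121d) (.lf 0))) (.nd (.nd (.lf 0x2120) (.lf 0)) (.nd (.lf 0x2390) (.lf 0)))) (.nd (.nd (.nd (.lf 0x10b6) (.lf 0)) (.nd (.lf 0x22bf) (.lf 0))) (.nd (.nd (.lf 0x2195) (.lf 0)) (.nd (.lf 0x14c8) (.lf 0)))))))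
def parQ_naabbaa : Tr := (.nd (.nd (.nd (.nd (.nd (.nd (.lf 0x2003) (.lf 0x14ee)) (.nd (.lf 0x11a1) (.lf 0))) (.nd (.nd (.lf 0x20bf) (.lf 0)) (.nd (.lf 0x12ce) (.lf 0)))) (.nd (.nd (.nd (.lf 0x105e) (.lf 0)) (.nd (.lf 0x22a) (.lf 0))) (.nd (.nd (.lf 0x112a) (.lf 0)) (.nd (.lf 0x13a5) (.lf 0))))) (.nd (.nd (.nd (.nd (.lf 0x102f) (.lf 0x5fd)) (.nd (.lf 0x21e3) (.lf 0))) (.nd (.nd (.lf 0x10f5) (.lf 0)) (.nd (.lf 0x1330) (.lf 0)))) (.nd (.nd (.nd (.lf 0x8f) (.lf 0)) (.nd (.lf 0x278) (.lf 0))) (.nd (.nd (.lf 0x164) (.lf 0)) (.nd (.lf 0x1437) (.lf 0)))))) (.nd (.nd (.nd (.nd (.nd (.lf 0x1019) (.lf 0x55a)) (.nd (.lf 0x11c2) (.lf 0))) (.nd (.nd (.lf 0xda) (.lf 0)) (.nd (.lf 0x1303) (.lf 0)))) (.nd (.nd (.nd (.lf 0x2075) (.lf 0)) (.nd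 (.lf 0x1253) (.lf 0))) (.nd (.nd (.lf 0x2147) (.lf 0)) (.nd (.lf 0x23f2) (.lf 0))))) (.nd (.nd (.nd (.nd (.lf 0x2046) (.lf 0x26c3)) (.nd (.lf 0x209) (.lf 0))) (.nd (.nd (.lf 0x110e) (.lf 0)) (.nd (.lf 0x136b) (.lf 0)))) (.nd (.nd (.nd (.lf 0xa6) (.lf 0)) (.nd (.lf 0x229f) (.lf 0))) (.nd (.nd (.lf 0x183) (.lf 0)) (.nd (.lf 0x1490) (.lf 0)))))))
def parQ_naabbab : Tr := (.nd (.nd (.nd (.nd (.nd (.nd (.lf 0x100e) (.lf 0x520)) (.nd (.lf 0x1b2) (.lf 0))) (.nd (.nd (.lf 0x20cd) (.lf 0)) (.nd (.lf 0x12eb) (.lf 0)))) (.nd (.nd (.nd (.lf 0x206a) (.lf 0)) (.nd (.lf 0x123d) (.lf 0))) (.nd (.nd (.lf 0x13a) (.lf 0)) (.nd (.lf 0x23cc) (.lf 0))))) (.nd (.nd (.nd (.nd (.lf 0x103b) (.lf 0x1657)) (.nd (.lf 0x21f7) (.lf 0))) (.nd (.nd (.lf 0x102)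 (.lf 0)) (.nd (.lf 0x234a) (.lf 0)))) (.nd (.nd (.nd (.lf 0x209a) (.lf 0)) (.nd (.lf 0x2288) (.lf 0))) (.nd (.nd (.lf 0x2172) (.lf 0)) (.nd (.lf 0x465) (.lf 0)))))) (.nd (.nd (.nd (.nd (.nd (.lf 0x1024) (.lf 0x591)) (.nd (.lf 0x1d3) (.lf 0))) (.nd (.nd (.lf 0x20e7) (.lf 0)) (.nd (.lf 0x2318) (.lf 0)))) (.nd (.nd (.nd (.lf 0x2081) (.lf 0)) (.nd (.lf 0x267) (.lf 0))) (.nd (.nd (.lf 0x156) (.lf 0)) (.nd (.lf 0x41a) (.lf 0))))) (.nd (.nd (.nd (.nd (.lf 0x53) (.lf 0x174c)) (.nd (.lf 0x218) (.lf 0))) (.nd (.nd (.lf 0x211c) (.lf 0)) (.nd (.lf 0x2386) (.lf 0)))) (.nd (.nd (.nd (.lf 0xb3) (.lf 0)) (.nd (.lf 0x2b9) (.lf 0))) (.nd (.nd (.lf 0x2190) (.lf 0)) (.nd (.lf 0x14be) (.lf 0)))))))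
def parQ_naabbba : Tr := (.nd (.nd (.nd (.nd (.nd (.nd (.lf 0x9) (.lf 0x508)) (.nd (.lf 0x1aa) (.lf 0))) (.nd (.nd (.lf 0xc6) (.lf 0)) (.nd (.lf 0x12dc) (.lf 0)))) (.nd (.nd (.nd (.lf 0x1065) (.lf 0)) (.nd (.lf 0x1234) (.lf 0))) (.nd (.nd (.lf 0x130) (.lf 0)) (.nd (.lf 0x13bb) (.lf 0))))) (.nd (.nd (.nd (.nd (.lf 0x2035) (.lf 0x628)) (.nd (.lf 0x1ee) (.lf 0))) (.nd (.nd (.lf 0x20fb) (.lf 0)) (.nd (.lf 0x233b) (.lf 0)))) (.nd (.nd (.nd (.lf 0x2094) (.lf 0)) (.nd (.lf 0x227f) (.lf 0))) (.nd (.nd (.lf 0x216a) (.lf 0)) (.nd (.lf 0x244a) (.lf 0)))))) (.nd (.nd (.nd (.nd (.nd (.lf 0x1f) (.lf 0x2577)) (.nd (.lf 0x1cc) (.lf 0))) (.nd (.nd (.lf 0x20e1) (.lf 0)) (.nd (.lf 0x230d) (.lf 0)))) (.nd (.nd (.nd (.lf 0x107b) (.lf 0)) (.nd (.lf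 0x125c) (.lf 0))) (.nd (.nd (.lf 0x114f) (.lf 0)) (.nd (.lf 0x2408) (.lf 0))))) (.nd (.nd (.nd (.nd (.lf 0x104c) (.lf 0x2700)) (.nd (.lf 0x1210) (.lf 0))) (.nd (.nd (.lf 0x114) (.lf 0)) (.nd (.lf 0x37d) (.lf 0)))) (.nd (.nd (.nd (.lf 0x20ab) (.lf 0)) (.nd (.lf 0x2ad) (.lf 0))) (.nd (.nd (.lf 0x2189) (.lf 0)) (.nd (.lf 0x24a3) (.lf 0)))))))
def parQ_naabbbb : Tr := (.nd (.nd (.nd (.nd (.nd (.nd (.lf 0x14) (.lf 0x1535)) (.nd (.lf 0x1b9) (.lf 0))) (.nd (.nd (.lf 0x10d4) (.lf 0)) (.nd (.lf 0x2f7) (.lf 0)))) (.nd (.nd (.nd (.lf 0x70) (.lf 0)) (.nd (.lf 0x2246) (.lf 0))) (.nd (.nd (.lf 0x2140) (.lf 0)) (.nd (.lf 0x23db) (.lf 0))))) (.nd (.nd (.nd (.nd (.lf 0x41) (.lf 0x2690)) (.nd (.lf 0x2202) (.lf 0))) (.nd (.nd (.lf 0x1108) (.lf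 0)) (.nd (.lf 0x135c) (.lf 0)))) (.nd (.nd (.nd (.lf 0x10a0) (.lf 0)) (.nd (.lf 0x294) (.lf 0))) (.nd (.nd (.lf 0x17c) (.lf 0)) (.nd (.lf 0x1478) (.lf 0)))))) (.nd (.nd (.nd (.nd (.nd (.lf 0x2029) (.lf 0x25cb)) (.nd (.lf 0x21db) (.lf 0))) (.nd (.nd (.lf 0x20ed) (.lf 0)) (.nd (.lf 0x1325) (.lf 0)))) (.nd (.nd (.nd (.lf 0x88) (.lf 0)) (.nd (.lf 0x270) (.lf 0))) (.nd (.nd (.lf 0x115e) (.lf 0)) (.nd (.lf 0x1425) (.lf 0))))) (.nd (.nd (.nd (.nd (.lf 0x1058) (.lf 0x835)) (.nd (.lf 0x1220) (.lf 0))) (.nd (.nd (.lf 0x1123) (.lf 0)) (.nd (.lf 0x1396) (.lf 0)))) (.nd (.nd (.nd (.lf 0x10b9) (.lf 0)) (.nd (.lf 0x12c5) (.lf 0))) (.nd (.nd (.lf 0x2199) (.lf 0)) (.nd (.lf 0x24dc) (.lf 0)))))))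
def parQ_nabaaaa : Tr := (.nd (.nd (.nd (.nd (.nd (.nd (.lf 0x1000) (.lf 0x4e2)) (.nd (.lf 0x19c) (.lf 0))) (.nd (.nd (.lf 0x10bc) (.lf 0)) (.nd (.lf 0x2c8) (.lf 0)))) (.nd (.nd (.nd (.lf 0x205a) (.lf 0)) (.nd (.lf 0x224) (.lf 0))) (.nd (.nd (.lf 0x126) (.lf 0)) (.nd (.lf 0x39b) (.lf 0))))) (.nd (.nd (.nd (.nd (.lf 0x202b) (.lf 0x15d9)) (.nd (.lf 0x21de) (.lf 0))) (.nd (.nd (.lf 0xf0) (.lf 0)) (.nd (.lf 0x329) (.lf 0)))) (.nd (.nd (.nd (.lf 0x208a) (.lf 0)) (.nd (.lf 0x273) (.lf 0))) (.nd (.nd (.lf 0x2160) (.lf 0)) (.nd (.lf 0x242a) (.lf 0)))))) (.nd (.nd (.nd (.nd (.nd (.lf 0x16) (.lf 0x544)) (.nd (.lf 0x11bb) (.lf 0))) (.nd (.nd (.lf 0x10d6) (.lf 0)) (.nd (.lf 0x12fa) (.lf 0)))) (.nd (.nd (.nd (.lf 0x72) (.lf 0)) (.nd (.lf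 0x24d) (.lf 0))) (.nd (.nd (.lf 0x143) (.lf 0)) (.nd (.lf 0x23e2) (.lf 0))))) (.nd (.nd (.nd (.nd (.lf 0x43) (.lf 0x269d)) (.nd (.lf 0x1205) (.lf 0))) (.nd (.nd (.lf 0x10b) (.lf 0)) (.nd (.lf 0x1362) (.lf 0)))) (.nd (.nd (.nd (.lf 0x10a2) (.lf 0)) (.nd (.lf 0x2297) (.lf 0))) (.nd (.nd (.lf 0x117f) (.lf 0)) (.nd (.lf 0x1486) (.lf 0)))))))
def parQ_nabaaab : Tr := (.nd (.nd (.nd (.nd (.nd (.nd (.lf 0xb) (.lf 0x513)) (.nd (.lf 0x21ac) (.lf 0))) (.nd (.nd (.lf 0xc8) (.lf 0)) (.nd (.lf 0x22e0) (.lf 0)))) (.nd (.nd (.nd (.lf 0x1067) (.lf 0)) (.nd (.lf 0x1237) (.lf 0))) (.nd (.nd (.lf 0x134) (.lf 0)) (.nd (.lf 0x23c0) (.lf 0))))) (.nd (.nd (.nd (.nd (.lf 0x38) (.lf 0x2634)) (.nd (.lf 0x1f2) (.lf 0))) (.nd (.nd (.lf 0xfe) (.lf 0)) (.nd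 (.lf 0x1343) (.lf 0)))) (.nd (.nd (.nd (.lf 0x97) (.lf 0)) (.nd (.lf 0x2283) (.lf 0))) (.nd (.nd (.lf 0x116e) (.lf 0)) (.nd (.lf 0x1452) (.lf 0)))))) (.nd (.nd (.nd (.nd (.nd (.lf 0x21) (.lf 0x57d)) (.nd (.lf 0x11ce) (.lf 0))) (.nd (.nd (.lf 0xe4) (.lf 0)) (.nd (.lf 0x2311) (.lf 0)))) (.nd (.nd (.nd (.lf 0x7e) (.lf 0)) (.nd (.lf 0x1260) (.lf 0))) (.nd (.nd (.lf 0x152) (.lf 0)) (.nd (.lf 0x1410) (.lf 0))))) (.nd (.nd (.nd (.nd (.lf 0x4f) (.lf 0x719)) (.nd (.lf 0x214) (.lf 0))) (.nd (.nd (.lf 0x1117) (.lf 0)) (.nd (.lf 0x2380) (.lf 0)))) (.nd (.nd (.nd (.lf 0x10af) (.lf 0)) (.nd (.lf 0x2b2) (.lf 0))) (.nd (.nd (.lf 0x18d) (.lf 0)) (.nd (.lf 0x24af) (.lf 0)))))))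
def parQ_nabaaba : Tr := (.nd (.nd (.nd (.nd (.nd (.nd (.lf 0x2005) (.lf 0x24f8)) (.nd (.lf 0x11a4) (.lf 0))) (.nd (.nd (.lf 0x10c2) (.lf 0)) (.nd (.lf 0x2d4) (.lf 0)))) (.nd (.nd (.nd (.lf 0x1060) (.lf 0)) (.nd (.lf 0x122d) (.lf 0))) (.nd (.nd (.lf 0x112c) (.lf 0)) (.nd (.lf 0x13ad) (.lf 0))))) (.nd (.nd (.nd (.nd (.lf 0x2031) (.lf 0x260f)) (.nd (.lf 0x21e8) (.lf 0))) (.nd (.nd (.lf 0x20f7) (.lf 0)) (.nd (.lf 0x1333) (.lf 0)))) (.nd (.nd (.nd (.lf 0x1091) (.lf 0)) (.nd (.lf 0x227b) (.lf 0))) (.nd (.nd (.lf 0x166) (.lf 0)) (.nd (.lf 0x143c) (.lf 0)))))) (.nd (.nd (.nd (.nd (.nd (.lf 0x101b) (.lf 0x565)) (.nd (.lf 0x11c7) (.lf 0))) (.nd (.nd (.lf 0x10dd) (.lf 0)) (.nd (.lf 0x1308) (.lf 0)))) (.nd (.nd (.nd (.lf 0x2077) (.lf 0))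 (.nd (.lf 0x1257) (.lf 0))) (.nd (.nd (.lf 0x114a) (.lf 0)) (.nd (.lf 0x13fb) (.lf 0))))) (.nd (.nd (.nd (.nd (.lf 0x49) (.lf 0x16d6)) (.nd (.lf 0x220b) (.lf 0))) (.nd (.nd (.lf 0x2110) (.lf 0)) (.nd (.lf 0x375) (.lf 0)))) (.nd (.nd (.nd (.lf 0xa8) (.lf 0)) (.nd (.lf 0x2a6) (.lf 0))) (.nd (.nd (.lf 0x2185) (.lf 0)) (.nd (.lf 0x494) (.lf 0)))))))
def parQ_nabaabb : Tr := (.nd (.nd (.nd (.nd (.nd (.nd (.lf 0x1010) (.lf 0x529)) (.nd (.lf 0x11b5) (.lf 0))) (.nd (.nd (.lf 0xd0) (.lf 0)) (.nd (.lf 0x22f0) (.lf 0)))) (.nd (.nd (.nd (.lf 0x206c) (.lf 0)) (.nd (.lf 0x1240) (.lf 0))) (.nd (.nd (.lf 0x13d) (.lf 0)) (.nd (.lf 0x13d2) (.lf 0))))) (.nd (.nd (.nd (.nd (.lf 0x103d) (.lf 0x1668)) (.nd (.lf 0x11fb) (.lf 0))) (.nd (.nd (.lf 0x2104)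 (.lf 0)) (.nd (.lf 0x1353) (.lf 0)))) (.nd (.nd (.nd (.lf 0x9d) (.lf 0)) (.nd (.lf 0x128c) (.lf 0))) (.nd (.nd (.lf 0x1176) (.lf 0)) (.nd (.lf 0x46f) (.lf 0)))))) (.nd (.nd (.nd (.nd (.nd (.lf 0x1026) (.lf 0x15a6)) (.nd (.lf 0x11d7) (.lf 0))) (.nd (.nd (.lf 0xea) (.lf 0)) (.nd (.lf 0x31d) (.lf 0)))) (.nd (.nd (.nd (.lf 0x84) (.lf 0)) (.nd (.lf 0x2269) (.lf 0))) (.nd (.nd (.lf 0x1159) (.lf 0)) (.nd (.lf 0x141d) (.lf 0))))) (.nd (.nd (.nd (.nd (.lf 0x55) (.lf 0x1791)) (.nd (.lf 0x21c) (.lf 0))) (.nd (.nd (.lf 0x211f) (.lf 0)) (.nd (.lf 0x238c) (.lf 0)))) (.nd (.nd (.nd (.lf 0x20b5) (.lf 0)) (.nd (.lf 0x2be) (.lf 0))) (.nd (.nd (.lf 0x194) (.lf 0)) (.nd (.lf 0x24c7) (.lf 0)))))))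
def parQ_nababaa : Tr := (.nd (.nd (.nd (.nd (.nd (.nd (.lf 0x3) (.lf 0x4ed)) (.nd (.lf 0x11a0) (.lf 0))) (.nd (.nd (.lf 0xbf) (.lf 0)) (.nd (.lf 0x22cd) (.lf 0)))) (.nd (.nd (.nd (.lf 0x205d) (.lf 0)) (.nd (.lf 0x229) (.lf 0))) (.nd (.nd (.lf 0x1129) (.lf 0)) (.nd (.lf 0x23a4) (.lf 0))))) (.nd (.nd (.nd (.nd (.lf 0x202e) (.lf 0x25e7)) (.nd (.lf 0x21e2) (.lf 0))) (.nd (.nd (.lf 0x20f4) (.lf 0)) (.nd (.lf 0x132f) (.lf 0)))) (.nd (.nd (.nd (.lf 0x108e) (.lf 0)) (.nd (.lf 0x277) (.lf 0))) (.nd (.nd (.lf 0x1163) (.lf 0)) (.nd (.lf 0x1434) (.lf 0)))))) (.nd (.nd (.nd (.nd (.nd (.lf 0x2018) (.lf 0x552)) (.nd (.lf 0x11c0) (.lf 0))) (.nd (.nd (.lf 0x10d9) (.lf 0)) (.nd (.lf 0x2301) (.lf 0)))) (.nd (.nd (.nd (.lf 0x2074) (.lf 0)) (.nd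 (.lf 0x252) (.lf 0))) (.nd (.nd (.lf 0x147) (.lf 0)) (.nd (.lf 0x3f1) (.lf 0))))) (.nd (.nd (.nd (.nd (.lf 0x46) (.lf 0x26bc)) (.nd (.lf 0x208) (.lf 0))) (.nd (.nd (.lf 0x210d) (.lf 0)) (.nd (.lf 0x36a) (.lf 0)))) (.nd (.nd (.nd (.lf 0x10a5) (.lf 0)) (.nd (.lf 0x229e) (.lf 0))) (.nd (.nd (.lf 0x1182) (.lf 0)) (.nd (.lf 0x148d) (.lf 0)))))))
def parQ_nababab : Tr := (.nd (.nd (.nd (.nd (.nd (.nd (.lf 0x200d) (.lf 0x51e)) (.nd (.lf 0x11b0) (.lf 0))) (.nd (.nd (.lf 0x20cc) (.lf 0)) (.nd (.lf 0x12e7) (.lf 0)))) (.nd (.nd (.nd (.lf 0x6a) (.lf 0)) (.nd (.lf 0x223c) (.lf 0))) (.nd (.nd (.lf 0x139) (.lf 0)) (.nd (.lf 0x13cb) (.lf 0))))) (.nd (.nd (.nd (.nd (.lf 0x203a) (.lf 0x650)) (.nd (.lf 0x1f7) (.lf 0))) (.nd (.nd (.lf 0x1101) (.lf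 0)) (.nd (.lf 0x2349) (.lf 0)))) (.nd (.nd (.nd (.lf 0x9a) (.lf 0)) (.nd (.lf 0x1287) (.lf 0))) (.nd (.nd (.lf 0x1171) (.lf 0)) (.nd (.lf 0x1460) (.lf 0)))))) (.nd (.nd (.nd (.nd (.nd (.lf 0x2023) (.lf 0x258f)) (.nd (.lf 0x1d2) (.lf 0))) (.nd (.nd (.lf 0xe7) (.lf 0)) (.nd (.lf 0x1317) (.lf 0)))) (.nd (.nd (.nd (.lf 0x81) (.lf 0)) (.nd (.lf 0x1265) (.lf 0))) (.nd (.nd (.lf 0x1155) (.lf 0)) (.nd (.lf 0x1416) (.lf 0))))) (.nd (.nd (.nd (.nd (.lf 0x52) (.lf 0x2738)) (.nd (.lf 0x1217) (.lf 0))) (.nd (.nd (.lf 0x211b) (.lf 0)) (.nd (.lf 0x386) (.lf 0)))) (.nd (.nd (.nd (.lf 0xb2) (.lf 0)) (.nd (.lf 0x2b8) (.lf 0))) (.nd (.nd (.lf 0x190) (.lf 0)) (.nd (.lf 0x14bc) (.lf 0)))))))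
def parQ_nababba : Tr := (.nd (.nd (.nd (.nd (.nd (.nd (.lf 0x1008) (.lf 0x1505)) (.nd (.lf 0x11a9) (.lf 0))) (.nd (.nd (.lf 0x10c5) (.lf 0)) (.nd (.lf 0x22da) (.lf 0)))) (.nd (.nd (.nd (.lf 0x2064) (.lf 0)) (.nd (.lf 0x2233) (.lf 0))) (.nd (.nd (.lf 0x112f) (.lf 0)) (.nd (.lf 0x13b6) (.lf 0))))) (.nd (.nd (.nd (.nd (.lf 0x1034) (.lf 0x1624)) (.nd (.lf 0x11ed) (.lf 0))) (.nd (.nd (.lf 0xfb) (.lf 0)) (.nd (.lf 0x33a) (.lf 0)))) (.nd (.nd (.nd (.lf 0x94) (.lf 0)) (.nd (.lf 0x27f) (.lf 0))) (.nd (.nd (.lf 0x16a) (.lf 0)) (.nd (.lf 0x448) (.lf 0)))))) (.nd (.nd (.nd (.nd (.nd (.lf 0x101e) (.lf 0x574)) (.nd (.lf 0x11ca) (.lf 0))) (.nd (.nd (.lf 0xe1) (.lf 0)) (.nd (.lf 0x230c) (.lf 0)))) (.nd (.nd (.nd (.lf 0x207a) (.lf 0)) (.nd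 (.lf 0x225b) (.lf 0))) (.nd (.nd (.lf 0x14e) (.lf 0)) (.nd (.lf 0x2405) (.lf 0))))) (.nd (.nd (.nd (.nd (.lf 0x204b) (.lf 0x16fa)) (.nd (.lf 0x120f) (.lf 0))) (.nd (.nd (.lf 0x1113) (.lf 0)) (.nd (.lf 0x137b) (.lf 0)))) (.nd (.nd (.nd (.lf 0x20aa) (.lf 0)) (.nd (.lf 0x12ac) (.lf 0))) (.nd (.nd (.lf 0x189) (.lf 0)) (.nd (.lf 0x14a2) (.lf 0)))))))
def parQ_nababbb : Tr := (.nd (.nd (.nd (.nd (.nd (.nd (.lf 0x13) (.lf 0x2532)) (.nd (.lf 0x11b8) (.lf 0))) (.nd (.nd (.lf 0x10d3) (.lf 0)) (.nd (.lf 0x12f4) (.lf 0)))) (.nd (.nd (.nd (.lf 0x106f) (.lf 0)) (.nd (.lf 0x2244) (.lf 0))) (.nd (.nd (.lf 0x140) (.lf 0)) (.nd (.lf 0x23da) (.lf 0))))) (.nd (.nd (.nd (.nd (.lf 0x1040) (.lf 0x1684)) (.nd (.lf 0x202) (.lf 0))) (.nd (.nd (.lf 0x2107)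 (.lf 0)) (.nd (.lf 0x1359) (.lf 0)))) (.nd (.nd (.nd (.lf 0x209f) (.lf 0)) (.nd (.lf 0x293) (.lf 0))) (.nd (.nd (.lf 0x117b) (.lf 0)) (.nd (.lf 0x2476) (.lf 0)))))) (.nd (.nd (.nd (.nd (.nd (.lf 0x29) (.lf 0x25c3)) (.nd (.lf 0x21da) (.lf 0))) (.nd (.nd (.lf 0xed) (.lf 0)) (.nd (.lf 0x324) (.lf 0)))) (.nd (.nd (.nd (.lf 0x87) (.lf 0)) (.nd (.lf 0x226e) (.lf 0))) (.nd (.nd (.lf 0x215c) (.lf 0)) (.nd (.lf 0x1422) (.lf 0))))) (.nd (.nd (.nd (.nd (.lf 0x2057) (.lf 0x1821)) (.nd (.lf 0x221f) (.lf 0))) (.nd (.nd (.lf 0x2122) (.lf 0)) (.nd (.lf 0x1395) (.lf 0)))) (.nd (.nd (.nd (.lf 0x20b8) (.lf 0)) (.nd (.lf 0x22c3) (.lf 0))) (.nd (.nd (.lf 0x2198) (.lf 0)) (.nd (.lf 0x4d5) (.lf 0)))))))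
def parQ_nabbaaa : Tr := (.nd (.nd (.nd (.nd (.nd (.nd (.lf 0x2001) (.lf 0x24e7)) (.nd (.lf 0x219e) (.lf 0))) (.nd (.nd (.lf 0x20bd) (.lf 0)) (.nd (.lf 0x2cb) (.lf 0)))) (.nd (.nd (.nd (.lf 0x5c) (.lf 0)) (.nd (.lf 0x2225) (.lf 0))) (.nd (.nd (.lf 0x128) (.lf 0)) (.nd (.lf 0x239e) (.lf 0))))) (.nd (.nd (.nd (.nd (.lf 0x2d) (.lf 0x5e0)) (.nd (.lf 0x1e1) (.lf 0))) (.nd (.nd (.lf 0x20f1) (.lf 0)) (.nd (.lf 0x132d) (.lf 0)))) (.nd (.nd (.nd (.lf 0x108c) (.lf 0)) (.nd (.lf 0x1275) (.lf 0))) (.nd (.nd (.lf 0x162) (.lf 0)) (.nd (.lf 0x2431) (.lf 0)))))) (.nd (.nd (.nd (.nd (.nd (.lf 0x1017) (.lf 0x1549)) (.nd (.lf 0x1bd) (.lf 0))) (.nd (.nd (.lf 0x20d7) (.lf 0)) (.nd (.lf 0x2ff) (.lf 0)))) (.nd (.nd (.nd (.lf 0x1073) (.lf 0)) (.nd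 (.lf 0x24f) (.lf 0))) (.nd (.nd (.lf 0x2144) (.lf 0)) (.nd (.lf 0x23e8) (.lf 0))))) (.nd (.nd (.nd (.nd (.lf 0x1044) (.lf 0x6b3)) (.nd (.lf 0x2206) (.lf 0))) (.nd (.nd (.lf 0x110c) (.lf 0)) (.nd (.lf 0x365) (.lf 0)))) (.nd (.nd (.nd (.lf 0x20a3) (.lf 0)) (.nd (.lf 0x2299) (.lf 0))) (.nd (.nd (.lf 0x2180) (.lf 0)) (.nd (.lf 0x48b) (.lf 0)))))))
def parQ_nabbaab : Tr := (.nd (.nd (.nd (.nd (.nd (.nd (.lf 0x100c) (.lf 0x518)) (.nd (.lf 0x11ae) (.lf 0))) (.nd (.nd (.lf 0xca) (.lf 0)) (.nd (.lf 0x22e3) (.lf 0)))) (.nd (.nd (.nd (.lf 0x2068) (.lf 0)) (.nd (.lf 0x2239) (.lf 0))) (.nd (.nd (.lf 0x137) (.lf 0)) (.nd (.lf 0x13c9) (.lf 0))))) (.nd (.nd (.nd (.nd (.lf 0x1039) (.lf 0x263b)) (.nd (.lf 0x1f4) (.lf 0))) (.nd (.nd (.lf 0x20ff)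 (.lf 0)) (.nd (.lf 0x348) (.lf 0)))) (.nd (.nd (.nd (.lf 0x1098) (.lf 0)) (.nd (.lf 0x1285) (.lf 0))) (.nd (.nd (.lf 0x170) (.lf 0)) (.nd (.lf 0x45e) (.lf 0)))))) (.nd (.nd (.nd (.nd (.nd (.lf 0x1022) (.lf 0x1587)) (.nd (.lf 0x21d0) (.lf 0))) (.nd (.nd (.lf 0x10e5) (.lf 0)) (.nd (.lf 0x2313) (.lf 0)))) (.nd (.nd (.nd (.lf 0x107f) (.lf 0)) (.nd (.lf 0x263) (.lf 0))) (.nd (.nd (.lf 0x1153) (.lf 0)) (.nd (.lf 0x414) (.lf 0))))) (.nd (.nd (.nd (.nd (.lf 0x1050) (.lf 0x2725)) (.nd (.lf 0x216) (.lf 0))) (.nd (.nd (.lf 0x2119) (.lf 0)) (.nd (.lf 0x2383) (.lf 0)))) (.nd (.nd (.nd (.lf 0x20b0) (.lf 0)) (.nd (.lf 0x12b4) (.lf 0))) (.nd (.nd (.lf 0x118e) (.lf 0)) (.nd (.lf 0x4b6) (.lf 0)))))))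
def parQ_nabbaba : Tr := (.nd (.nd (.nd (.nd (.nd (.nd (.lf 0x7) (.lf 0x14fe)) (.nd (.lf 0x11a7) (.lf 0))) (.nd (.nd (.lf 0x20c3) (.lf 0)) (.nd (.lf 0x2d7) (.lf 0)))) (.nd (.nd (.nd (.lf 0x1063) (.lf 0)) (.nd (.lf 0x230) (.lf 0))) (.nd (.nd (.lf 0x12e) (.lf 0)) (.nd (.lf 0x23b0) (.lf 0))))) (.nd (.nd (.nd (.nd (.lf 0x33) (.lf 0x1613)) (.nd (.lf 0x21ea) (.lf 0))) (.nd (.nd (.lf 0x20f9) (.lf 0)) (.nd (.lf 0x2336) (.lf 0)))) (.nd (.nd (.nd (.lf 0x2092) (.lf 0)) (.nd (.lf 0x227d) (.lf 0))) (.nd (.nd (.lf 0x2167) (.lf 0)) (.nd (.lf 0x440) (.lf 0)))))) (.nd (.nd (.nd (.nd (.nd (.lf 0x201c) (.lf 0x56d)) (.nd (.lf 0x1c9) (.lf 0))) (.nd (.nd (.lf 0xdf) (.lf 0)) (.nd (.lf 0x230a) (.lf 0)))) (.nd (.nd (.nd (.lf 0x1079) (.lf 0)) (.nd (.lf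 0x2258) (.lf 0))) (.nd (.nd (.lf 0x14c) (.lf 0)) (.nd (.lf 0x402) (.lf 0))))) (.nd (.nd (.nd (.nd (.lf 0x104a) (.lf 0x6e0)) (.nd (.lf 0x120d) (.lf 0))) (.nd (.nd (.lf 0x112) (.lf 0)) (.nd (.lf 0x2378) (.lf 0)))) (.nd (.nd (.nd (.lf 0x10a9) (.lf 0)) (.nd (.lf 0x22aa) (.lf 0))) (.nd (.nd (.lf 0x2187) (.lf 0)) (.nd (.lf 0x249a) (.lf 0)))))))
def parQ_nabbabb : Tr := (.nd (.nd (.nd (.nd (.nd (.nd (.lf 0x2011) (.lf 0x152f)) (.nd (.lf 0x21b6) (.lf 0))) (.nd (.nd (.lf 0x10d1) (.lf 0)) (.nd (.lf 0x12f2) (.lf 0)))) (.nd (.nd (.nd (.lf 0x6e) (.lf 0)) (.nd (.lf 0x243) (.lf 0))) (.nd (.nd (.lf 0x113e) (.lf 0)) (.nd (.lf 0x23d6) (.lf 0))))) (.nd (.nd (.nd (.nd (.lf 0x203e) (.lf 0x2674)) (.nd (.lf 0x21fd) (.lf 0))) (.nd (.nd (.lf 0x106) (.lf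 0)) (.nd (.lf 0x355) (.lf 0)))) (.nd (.nd (.nd (.lf 0x109e) (.lf 0)) (.nd (.lf 0x228e) (.lf 0))) (.nd (.nd (.lf 0x2178) (.lf 0)) (.nd (.lf 0x1473) (.lf 0)))))) (.nd (.nd (.nd (.nd (.nd (.lf 0x2027) (.lf 0x25ac)) (.nd (.lf 0x1d9) (.lf 0))) (.nd (.nd (.lf 0x10eb) (.lf 0)) (.nd (.lf 0x320) (.lf 0)))) (.nd (.nd (.nd (.lf 0x1085) (.lf 0)) (.nd (.lf 0x26d) (.lf 0))) (.nd (.nd (.lf 0x15b) (.lf 0)) (.nd (.lf 0x141f) (.lf 0))))) (.nd (.nd (.nd (.nd (.lf 0x1056) (.lf 0x7c9)) (.nd (.lf 0x121e) (.lf 0))) (.nd (.nd (.lf 0x1121) (.lf 0)) (.nd (.lf 0x1391) (.lf 0)))) (.nd (.nd (.nd (.lf 0xb7) (.lf 0)) (.nd (.lf 0x2c1) (.lf 0))) (.nd (.nd (.lf 0x1196) (.lf 0)) (.nd (.lf 0x24d1) (.lf 0)))))))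
def parQ_nabbbaa : Tr := (.nd (.nd (.nd (.nd (.nd (.nd (.lf 0x1004) (.lf 0x4f2)) (.nd (.lf 0x1a2) (.lf 0))) (.nd (.nd (.lf 0x20c0) (.lf 0)) (.nd (.lf 0x22d0) (.lf 0)))) (.nd (.nd (.nd (.lf 0x5f) (.lf 0)) (.nd (.lf 0x222a) (.lf 0))) (.nd (.nd (.lf 0x12b) (.lf 0)) (.nd (.lf 0x23a9) (.lf 0))))) (.nd (.nd (.nd (.nd (.lf 0x30) (.lf 0x1603)) (.nd (.lf 0x21e4) (.lf 0))) (.nd (.nd (.lf 0xf6) (.lf 0)) (.nd (.lf 0x331) (.lf 0)))) (.nd (.nd (.nd (.lf 0x208f) (.lf 0)) (.nd (.lf 0x27a) (.lf 0))) (.nd (.nd (.lf 0x2164) (.lf 0)) (.nd (.lf 0x1438) (.lf 0)))))) (.nd (.nd (.nd (.nd (.nd (.lf 0x1a) (.lf 0x55f)) (.nd (.lf 0x11c4) (.lf 0))) (.nd (.nd (.lf 0xdb) (.lf 0)) (.nd (.lf 0x1304) (.lf 0)))) (.nd (.nd (.nd (.lf 0x1076) (.lf 0)) (.nd (.lf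 0x255) (.lf 0))) (.nd (.nd (.lf 0x2148) (.lf 0)) (.nd (.lf 0x23f3) (.lf 0))))) (.nd (.nd (.nd (.nd (.lf 0x2047) (.lf 0x16c7)) (.nd (.lf 0x2209) (.lf 0))) (.nd (.nd (.lf 0x10f) (.lf 0)) (.nd (.lf 0x136c) (.lf 0)))) (.nd (.nd (.nd (.lf 0x20a6) (.lf 0)) (.nd (.lf 0x12a0) (.lf 0))) (.nd (.nd (.lf 0x2183) (.lf 0)) (.nd (.lf 0x1491) (.lf 0)))))))
def parQ_nabbbab : Tr := (.nd (.nd (.nd (.nd (.nd (.nd (.lf 0xf) (.lf 0x2524)) (.nd (.lf 0x21b3) (.lf 0))) (.nd (.nd (.lf 0x10ce) (.lf 0)) (.nd (.lf 0x22ed) (.lf 0)))) (.nd (.nd (.nd (.lf 0x106b) (.lf 0)) (.nd (.lf 0x23e) (.lf 0))) (.nd (.nd (.lf 0x213a) (.lf 0)) (.nd (.lf 0x13d0) (.lf 0))))) (.nd (.nd (.nd (.nd (.lf 0x3c) (.lf 0x165a)) (.nd (.lf 0x11f9) (.lf 0))) (.nd (.nd (.lf 0x1103) (.lf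 0)) (.nd (.lf 0x234c) (.lf 0)))) (.nd (.nd (.nd (.lf 0x209b) (.lf 0)) (.nd (.lf 0x1289) (.lf 0))) (.nd (.nd (.lf 0x1174) (.lf 0)) (.nd (.lf 0x1468) (.lf 0)))))) (.nd (.nd (.nd (.nd (.nd (.lf 0x25) (.lf 0x59b)) (.nd (.lf 0x21d4) (.lf 0))) (.nd (.nd (.lf 0x20e8) (.lf 0)) (.nd (.lf 0x131a) (.lf 0)))) (.nd (.nd (.nd (.lf 0x1082) (.lf 0)) (.nd (.lf 0x268) (.lf 0))) (.nd (.nd (.lf 0x157) (.lf 0)) (.nd (.lf 0x41b) (.lf 0))))) (.nd (.nd (.nd (.nd (.lf 0x2053) (.lf 0x765)) (.nd (.lf 0x1219) (.lf 0))) (.nd (.nd (.lf 0x111d) (.lf 0)) (.nd (.lf 0x1388) (.lf 0)))) (.nd (.nd (.nd (.lf 0xb4) (.lf 0)) (.nd (.lf 0x22ba) (.lf 0))) (.nd (.nd (.lf 0x1191) (.lf 0)) (.nd (.lf 0x4c1) (.lf 0)))))))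
def parQ_nabbbba : Tr := (.nd (.nd (.nd (.nd (.nd (.nd (.lf 0x2009) (.lf 0x1509)) (.nd (.lf 0x21aa) (.lf 0))) (.nd (.nd (.lf 0x20c6) (.lf 0)) (.nd (.lf 0x2dd) (.lf 0)))) (.nd (.nd (.nd (.lf 0x66) (.lf 0)) (.nd (.lf 0x236) (.lf 0))) (.nd (.nd (.lf 0x131) (.lf 0)) (.nd (.lf 0x3bf) (.lf 0))))) (.nd (.nd (.nd (.nd (.lf 0x1036) (.lf 0x62b)) (.nd (.lf 0x11f0) (.lf 0))) (.nd (.nd (.lf 0x10fc) (.lf 0)) (.nd (.lf 0x233d) (.lf 0)))) (.nd (.nd (.nd (.lf 0x2095) (.lf 0)) (.nd (.lf 0x2280) (.lf 0))) (.nd (.nd (.lf 0x16c) (.lf 0)) (.nd (.lf 0x144d) (.lf 0)))))) (.nd (.nd (.nd (.nd (.nd (.lf 0x201f) (.lf 0x2579)) (.nd (.lf 0x1cd) (.lf 0))) (.nd (.nd (.lf 0x20e2) (.lf 0)) (.nd (.lf 0x230e) (.lf 0)))) (.nd (.nd (.nd (.lf 0x7c) (.lf 0)) (.nd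 (.lf 0x125d) (.lf 0))) (.nd (.nd (.lf 0x2150) (.lf 0)) (.nd (.lf 0x2409) (.lf 0))))) (.nd (.nd (.nd (.nd (.lf 0x4d) (.lf 0x70b)) (.nd (.lf 0x2211) (.lf 0))) (.nd (.nd (.lf 0x2114) (.lf 0)) (.nd (.lf 0x37e) (.lf 0)))) (.nd (.nd (.nd (.lf 0xad) (.lf 0)) (.nd (.lf 0x12af) (.lf 0))) (.nd (.nd (.lf 0x18b) (.lf 0)) (.nd (.lf 0x14a4) (.lf 0)))))))
def parQ_nabbbbb : Tr := (.nd (.nd (.nd (.nd (.nd (.nd (.lf 0x2014) (.lf 0x2539)) (.nd (.lf 0x21b9) (.lf 0))) (.nd (.nd (.lf 0xd5) (.lf 0)) (.nd (.lf 0x12f8) (.lf 0)))) (.nd (.nd (.nd (.lf 0x2070) (.lf 0)) (.nd (.lf 0x249) (.lf 0))) (.nd (.nd (.lf 0x2141) (.lf 0)) (.nd (.lf 0x23dc) (.lf 0))))) (.nd (.nd (.nd (.nd (.lf 0x2041) (.lf 0x2693)) (.nd (.lf 0x2203) (.lf 0))) (.nd (.nd (.lf 0x109)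 (.lf 0)) (.nd (.lf 0x235d) (.lf 0)))) (.nd (.nd (.nd (.lf 0xa1) (.lf 0)) (.nd (.lf 0x295) (.lf 0))) (.nd (.nd (.lf 0x217c) (.lf 0)) (.nd (.lf 0x1480) (.lf 0)))))) (.nd (.nd (.nd (.nd (.nd (.lf 0x102a) (.lf 0x25cf)) (.nd (.lf 0x11dc) (.lf 0))) (.nd (.nd (.lf 0x20ee) (.lf 0)) (.nd (.lf 0x327) (.lf 0)))) (.nd (.nd (.nd (.lf 0x2088) (.lf 0)) (.nd (.lf 0x2270) (.lf 0))) (.nd (.nd (.lf 0x15f) (.lf 0)) (.nd (.lf 0x2427) (.lf 0))))) (.nd (.nd (.nd (.nd (.lf 0x59) (.lf 0x183f)) (.nd (.lf 0x222) (.lf 0))) (.nd (.nd (.lf 0x1124) (.lf 0)) (.nd (.lf 0x1397) (.lf 0)))) (.nd (.nd (.nd (.lf 0xba) (.lf 0)) (.nd (.lf 0x22c6) (.lf 0))) (.nd (.nd (.lf 0x119a) (.lf 0)) (.nd (.lf 0x14de) (.lf 0)))))))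
def parQ_nbaaaaa : Tr := (.nd (.nd (.nd (.nd (.nd (.nd (.lf 0x0) (.lf 0x4e0)) (.nd (.lf 0x219b) (.lf 0))) (.nd (.nd (.lf 0xbc) (.lf 0)) (.nd (.lf 0x22c7) (.lf 0)))) (.nd (.nd (.nd (.lf 0x105a) (.lf 0)) (.nd (.lf 0x2223) (.lf 0))) (.nd (.nd (.lf 0x2125) (.lf 0)) (.nd (.lf 0x1399) (.lf 0))))) (.nd (.nd (.nd (.nd (.lf 0x102b) (.lf 0x5d8)) (.nd (.lf 0x11de) (.lf 0))) (.nd (.nd (.lf 0x20ef) (.lf 0)) (.nd (.lf 0x328) (.lf 0)))) (.nd (.nd (.nd (.lf 0x108a) (.lf 0)) (.nd (.lf 0x2272) (.lf 0))) (.nd (.nd (.lf 0x160) (.lf 0)) (.nd (.lf 0x2429) (.lf 0)))))) (.nd (.nd (.nd (.nd (.nd (.lf 0x2015) (.lf 0x1543)) (.nd (.lf 0x1bb) (.lf 0))) (.nd (.nd (.lf 0xd6) (.lf 0)) (.nd (.lf 0x2fa) (.lf 0)))) (.nd (.nd (.nd (.lf 0x2071) (.lf 0)) (.nd (.lf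 0x124c) (.lf 0))) (.nd (.nd (.lf 0x2142) (.lf 0)) (.nd (.lf 0x3e2) (.lf 0))))) (.nd (.nd (.nd (.nd (.lf 0x2042) (.lf 0x169b)) (.nd (.lf 0x205) (.lf 0))) (.nd (.nd (.lf 0x210a) (.lf 0)) (.nd (.lf 0x362) (.lf 0)))) (.nd (.nd (.nd (.lf 0xa2) (.lf 0)) (.nd (.lf 0x2296) (.lf 0))) (.nd (.nd (.lf 0x17f) (.lf 0)) (.nd (.lf 0x486) (.lf 0)))))))
def parQ_nbaaaab : Tr := (.nd (.nd (.nd (.nd (.nd (.nd (.lf 0x200a) (.lf 0x1512)) (.nd (.lf 0x11ac) (.lf 0))) (.nd (.nd (.lf 0x20c7) (.lf 0)) (.nd (.lf 0x12e0) (.lf 0)))) (.nd (.nd (.nd (.lf 0x67) (.lf 0)) (.nd (.lf 0x237) (.lf 0))) (.nd (.nd (.lf 0x2133) (.lf 0)) (.nd (.lf 0x13c0) (.lf 0))))) (.nd (.nd (.nd (.nd (.lf 0x2037) (.lf 0x2633)) (.nd (.lf 0x21f1) (.lf 0))) (.nd (.nd (.lf 0x10fd) (.lf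 0)) (.nd (.lf 0x233e) (.lf 0)))) (.nd (.nd (.nd (.lf 0x2096) (.lf 0)) (.nd (.lf 0x283) (.lf 0))) (.nd (.nd (.lf 0x16e) (.lf 0)) (.nd (.lf 0x1450) (.lf 0)))))) (.nd (.nd (.nd (.nd (.nd (.lf 0x2020) (.lf 0x157b)) (.nd (.lf 0x1ce) (.lf 0))) (.nd (.nd (.lf 0x20e3) (.lf 0)) (.nd (.lf 0x2310) (.lf 0)))) (.nd (.nd (.nd (.lf 0x7d) (.lf 0)) (.nd (.lf 0x125f) (.lf 0))) (.nd (.nd (.lf 0x2151) (.lf 0)) (.nd (.lf 0x240f) (.lf 0))))) (.nd (.nd (.nd (.nd (.lf 0x104e) (.lf 0x2713)) (.nd (.lf 0x2213) (.lf 0))) (.nd (.nd (.lf 0x117) (.lf 0)) (.nd (.lf 0x237f) (.lf 0)))) (.nd (.nd (.nd (.lf 0xaf) (.lf 0)) (.nd (.lf 0x12b0) (.lf 0))) (.nd (.nd (.lf 0x218c) (.lf 0)) (.nd (.lf 0x4a8) (.lf 0)))))))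
def parQ_nbaaaba : Tr := (.nd (.nd (.nd (.nd (.nd (.nd (.lf 0x1005) (.lf 0x14f6)) (.nd (.lf 0x1a4) (.lf 0))) (.nd (.nd (.lf 0xc2) (.lf 0)) (.nd (.lf 0x22d3) (.lf 0)))) (.nd (.nd (.nd (.lf 0x60) (.lf 0)) (.nd (.lf 0x122c) (.lf 0))) (.nd (.nd (.lf 0x12c) (.lf 0)) (.nd (.lf 0x23ab) (.lf 0))))) (.nd (.nd (.nd (.nd (.lf 0x1031) (.lf 0x60c)) (.nd (.lf 0x21e7) (.lf 0))) (.nd (.nd (.lf 0x10f7) (.lf 0)) (.nd (.lf 0x2332) (.lf 0)))) (.nd (.nd (.nd (.lf 0x91) (.lf 0)) (.nd (.lf 0x27b) (.lf 0))) (.nd (.nd (.lf 0x2165) (.lf 0)) (.nd (.lf 0x243b) (.lf 0)))))) (.nd (.nd (.nd (.nd (.nd (.lf 0x1b) (.lf 0x564)) (.nd (.lf 0x21c6) (.lf 0))) (.nd (.nd (.lf 0x10dc) (.lf 0)) (.nd (.lf 0x1306) (.lf 0)))) (.nd (.nd (.nd (.lf 0x1077) (.lf 0)) (.nd (.lf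 0x2256) (.lf 0))) (.nd (.nd (.lf 0x14a) (.lf 0)) (.nd (.lf 0x3f8) (.lf 0))))) (.nd (.nd (.nd (.nd (.lf 0x2048) (.lf 0x6d4)) (.nd (.lf 0x20b) (.lf 0))) (.nd (.nd (.lf 0x1110) (.lf 0)) (.nd (.lf 0x2374) (.lf 0)))) (.nd (.nd (.nd (.lf 0x20a7) (.lf 0)) (.nd (.lf 0x12a5) (.lf 0))) (.nd (.nd (.lf 0x1185) (.lf 0)) (.nd (.lf 0x2493) (.lf 0)))))))
def parQ_nbaaabb : Tr := (.nd (.nd (.nd (.nd (.nd (.nd (.lf 0x10) (.lf 0x1528)) (.nd (.lf 0x1b5) (.lf 0))) (.nd (.nd (.lf 0x20cf) (.lf 0)) (.nd (.lf 0x12f0) (.lf 0)))) (.nd (.nd (.nd (.lf 0x106c) (.lf 0)) (.nd (.lf 0x23f) (.lf 0))) (.nd (.nd (.lf 0x113c) (.lf 0)) (.nd (.lf 0x3d2) (.lf 0))))) (.nd (.nd (.nd (.nd (.lf 0x3d) (.lf 0x2662)) (.nd (.lf 0x1fb) (.lf 0))) (.nd (.nd (.lf 0x1104) (.lf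 0)) (.nd (.lf 0x234e) (.lf 0)))) (.nd (.nd (.nd (.lf 0x209c) (.lf 0)) (.nd (.lf 0x28c) (.lf 0))) (.nd (.nd (.lf 0x176) (.lf 0)) (.nd (.lf 0x246d) (.lf 0)))))) (.nd (.nd (.nd (.nd (.nd (.lf 0x26) (.lf 0x5a6)) (.nd (.lf 0x21d6) (.lf 0))) (.nd (.nd (.lf 0x20e9) (.lf 0)) (.nd (.lf 0x131c) (.lf 0)))) (.nd (.nd (.nd (.lf 0x2083) (.lf 0)) (.nd (.lf 0x1269) (.lf 0))) (.nd (.nd (.lf 0x159) (.lf 0)) (.nd (.lf 0x41c) (.lf 0))))) (.nd (.nd (.nd (.nd (.lf 0x2054) (.lf 0x278a)) (.nd (.lf 0x21b) (.lf 0))) (.nd (.nd (.lf 0x111f) (.lf 0)) (.nd (.lf 0x238b) (.lf 0)))) (.nd (.nd (.nd (.lf 0x10b5) (.lf 0)) (.nd (.lf 0x12bd) (.lf 0))) (.nd (.nd (.lf 0x2192) (.lf 0)) (.nd (.lf 0x14c7) (.lf 0)))))))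
def parQ_nbaabaa : Tr := (.nd (.nd (.nd (.nd (.nd (.nd (.lf 0x2002) (.lf 0x4ec)) (.nd (.lf 0x1a0) (.lf 0))) (.nd (.nd (.lf 0x20be) (.lf 0)) (.nd (.lf 0x22cc) (.lf 0)))) (.nd (.nd (.nd (.lf 0x105d) (.lf 0)) (.nd (.lf 0x228) (.lf 0))) (.nd (.nd (.lf 0x129) (.lf 0)) (.nd (.lf 0x13a4) (.lf 0))))) (.nd (.nd (.nd (.nd (.lf 0x102e) (.lf 0x25e6)) (.nd (.lf 0x11e2) (.lf 0))) (.nd (.nd (.lf 0x10f4) (.lf 0)) (.nd (.lf 0x232e) (.lf 0)))) (.nd (.nd (.nd (.lf 0x8e) (.lf 0)) (.nd (.lf 0x2276) (.lf 0))) (.nd (.nd (.lf 0x163) (.lf 0)) (.nd (.lf 0x433) (.lf 0)))))) (.nd (.nd (.nd (.nd (.nd (.lf 0x1018) (.lf 0x54f)) (.nd (.lf 0x1be) (.lf 0))) (.nd (.nd (.lf 0x20d8) (.lf 0)) (.nd (.lf 0x1301) (.lf 0)))) (.nd (.nd (.nd (.lf 0x1074) (.lf 0)) (.nd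 (.lf 0x2251) (.lf 0))) (.nd (.nd (.lf 0x1146) (.lf 0)) (.nd (.lf 0x23ed) (.lf 0))))) (.nd (.nd (.nd (.nd (.lf 0x2045) (.lf 0x6bb)) (.nd (.lf 0x2207) (.lf 0))) (.nd (.nd (.lf 0x110d) (.lf 0)) (.nd (.lf 0x2368) (.lf 0)))) (.nd (.nd (.nd (.lf 0x20a4) (.lf 0)) (.nd (.lf 0x129e) (.lf 0))) (.nd (.nd (.lf 0x182) (.lf 0)) (.nd (.lf 0x48d) (.lf 0)))))))
def parQ_nbaabab : Tr := (.nd (.nd (.nd (.nd (.nd (.nd (.lf 0x100d) (.lf 0x151a)) (.nd (.lf 0x21af) (.lf 0))) (.nd (.nd (.lf 0xcc) (.lf 0)) (.nd (.lf 0x2e7) (.lf 0)))) (.nd (.nd (.nd (.lf 0x2069) (.lf 0)) (.nd (.lf 0x23c) (.lf 0))) (.nd (.nd (.lf 0x2138) (.lf 0)) (.nd (.lf 0x3cb) (.lf 0))))) (.nd (.nd (.nd (.nd (.lf 0x103a) (.lf 0x64f)) (.nd (.lf 0x21f6) (.lf 0))) (.nd (.nd (.lf 0x101)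 (.lf 0)) (.nd (.lf 0x1349) (.lf 0)))) (.nd (.nd (.nd (.lf 0x1099) (.lf 0)) (.nd (.lf 0x2286) (.lf 0))) (.nd (.nd (.lf 0x171) (.lf 0)) (.nd (.lf 0x460) (.lf 0)))))) (.nd (.nd (.nd (.nd (.nd (.lf 0x1023) (.lf 0x158e)) (.nd (.lf 0x21d1) (.lf 0))) (.nd (.nd (.lf 0x20e6) (.lf 0)) (.nd (.lf 0x317) (.lf 0)))) (.nd (.nd (.nd (.lf 0x2080) (.lf 0)) (.nd (.lf 0x2264) (.lf 0))) (.nd (.nd (.lf 0x2154) (.lf 0)) (.nd (.lf 0x2415) (.lf 0))))) (.nd (.nd (.nd (.nd (.lf 0x2051) (.lf 0x736)) (.nd (.lf 0x217) (.lf 0))) (.nd (.nd (.lf 0x11b) (.lf 0)) (.nd (.lf 0x1385) (.lf 0)))) (.nd (.nd (.nd (.lf 0x20b1) (.lf 0)) (.nd (.lf 0x22b6) (.lf 0))) (.nd (.nd (.lf 0x218f) (.lf 0)) (.nd (.lf 0x4b9) (.lf 0)))))))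
def parQ_nbaabba : Tr := (.nd (.nd (.nd (.nd (.nd (.nd (.lf 0x8) (.lf 0x1502)) (.nd (.lf 0x1a9) (.lf 0))) (.nd (.nd (.lf 0xc5) (.lf 0)) (.nd (.lf 0x12da) (.lf 0)))) (.nd (.nd (.nd (.lf 0x1064) (.lf 0)) (.nd (.lf 0x1232) (.lf 0))) (.nd (.nd (.lf 0x12f) (.lf 0)) (.nd (.lf 0x3b3) (.lf 0))))) (.nd (.nd (.nd (.nd (.lf 0x34) (.lf 0x61e)) (.nd (.lf 0x21ec) (.lf 0))) (.nd (.nd (.lf 0x20fa) (.lf 0)) (.nd (.lf 0x338) (.lf 0)))) (.nd (.nd (.nd (.lf 0x2093) (.lf 0)) (.nd (.lf 0x227e) (.lf 0))) (.nd (.nd (.lf 0x2169) (.lf 0)) (.nd (.lf 0x1447) (.lf 0)))))) (.nd (.nd (.nd (.nd (.nd (.lf 0x1e) (.lf 0x2572)) (.nd (.lf 0x1ca) (.lf 0))) (.nd (.nd (.lf 0x20e0) (.lf 0)) (.nd (.lf 0x130c) (.lf 0)))) (.nd (.nd (.nd (.lf 0x107a) (.lf 0)) (.nd (.lf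 0x25b) (.lf 0))) (.nd (.nd (.lf 0x114d) (.lf 0)) (.nd (.lf 0x404) (.lf 0))))) (.nd (.nd (.nd (.nd (.lf 0x104b) (.lf 0x6f2)) (.nd (.lf 0x20f) (.lf 0))) (.nd (.nd (.lf 0x113) (.lf 0)) (.nd (.lf 0x37b) (.lf 0)))) (.nd (.nd (.nd (.lf 0x10aa) (.lf 0)) (.nd (.lf 0x2ac) (.lf 0))) (.nd (.nd (.lf 0x2188) (.lf 0)) (.nd (.lf 0x4a2) (.lf 0)))))))
def parQ_nbaabbb : Tr := (.nd (.nd (.nd (.nd (.nd (.nd (.lf 0x2012) (.lf 0x532)) (.nd (.lf 0x1b8) (.lf 0))) (.nd (.nd (.lf 0xd3) (.lf 0)) (.nd (.lf 0x22f3) (.lf 0)))) (.nd (.nd (.nd (.lf 0x6f) (.lf 0)) (.nd (.lf 0x244) (.lf 0))) (.nd (.nd (.lf 0x213f) (.lf 0)) (.nd (.lf 0x13d9) (.lf 0))))) (.nd (.nd (.nd (.nd (.lf 0x40) (.lf 0x1682)) (.nd (.lf 0x1201) (.lf 0))) (.nd (.nd (.lf 0x107) (.lf 0)) (.nd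 (.lf 0x358) (.lf 0)))) (.nd (.nd (.nd (.lf 0x109f) (.lf 0)) (.nd (.lf 0x1291) (.lf 0))) (.nd (.nd (.lf 0x217a) (.lf 0)) (.nd (.lf 0x1476) (.lf 0)))))) (.nd (.nd (.nd (.nd (.nd (.lf 0x2028) (.lf 0x25ba)) (.nd (.lf 0x11da) (.lf 0))) (.nd (.nd (.lf 0x10ec) (.lf 0)) (.nd (.lf 0x2322) (.lf 0)))) (.nd (.nd (.nd (.lf 0x1086) (.lf 0)) (.nd (.lf 0x126e) (.lf 0))) (.nd (.nd (.lf 0x115c) (.lf 0)) (.nd (.lf 0x2421) (.lf 0))))) (.nd (.nd (.nd (.nd (.lf 0x1057) (.lf 0x181c)) (.nd (.lf 0x121f) (.lf 0))) (.nd (.nd (.lf 0x1122) (.lf 0)) (.nd (.lf 0x394) (.lf 0)))) (.nd (.nd (.nd (.lf 0x10b8) (.lf 0)) (.nd (.lf 0x2c3) (.lf 0))) (.nd (.nd (.lf 0x2197) (.lf 0)) (.nd (.lf 0x14d4) (.lf 0)))))))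
def parQ_nbabaaa : Tr := (.nd (.nd (.nd (.nd (.nd (.nd (.lf 0x1001) (.lf 0x14e7)) (.nd (.lf 0x119e) (.lf 0))) (.nd (.nd (.lf 0x10bd) (.lf 0)) (.nd (.lf 0x22c9) (.lf 0)))) (.nd (.nd (.nd (.lf 0x205b) (.lf 0)) (.nd (.lf 0x225) (.lf 0))) (.nd (.nd (.lf 0x2127) (.lf 0)) (.nd (.lf 0x39e) (.lf 0))))) (.nd (.nd (.nd (.nd (.lf 0x202c) (.lf 0x25de)) (.nd (.lf 0x21df) (.lf 0))) (.nd (.nd (.lf 0x10f1) (.lf 0)) (.nd (.lf 0x132b) (.lf 0)))) (.nd (.nd (.nd (.lf 0x208b) (.lf 0)) (.nd (.lf 0x274) (.lf 0))) (.nd (.nd (.lf 0x2161) (.lf 0)) (.nd (.lf 0x42f) (.lf 0)))))) (.nd (.nd (.nd (.nd (.nd (.lf 0x17) (.lf 0x548)) (.nd (.lf 0x21bc) (.lf 0))) (.nd (.nd (.lf 0x10d7) (.lf 0)) (.nd (.lf 0x12fc) (.lf 0)))) (.nd (.nd (.nd (.lf 0x73) (.lf 0)) (.nd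 (.lf 0x224e) (.lf 0))) (.nd (.nd (.lf 0x1144) (.lf 0)) (.nd (.lf 0x23e7) (.lf 0))))) (.nd (.nd (.nd (.nd (.lf 0x44) (.lf 0x6b2)) (.nd (.lf 0x1206) (.lf 0))) (.nd (.nd (.lf 0x10c) (.lf 0)) (.nd (.lf 0x1364) (.lf 0)))) (.nd (.nd (.nd (.lf 0x10a3) (.lf 0)) (.nd (.lf 0x299) (.lf 0))) (.nd (.nd (.lf 0x1180) (.lf 0)) (.nd (.lf 0x48a) (.lf 0)))))))
def parQ_nbabaab : Tr := (.nd (.nd (.nd (.nd (.nd (.nd (.lf 0xc) (.lf 0x2517)) (.nd (.lf 0x1ae) (.lf 0))) (.nd (.nd (.lf 0x20c9) (.lf 0)) (.nd (.lf 0x22e1) (.lf 0)))) (.nd (.nd (.nd (.lf 0x1068) (.lf 0)) (.nd (.lf 0x1239) (.lf 0))) (.nd (.nd (.lf 0x136) (.lf 0)) (.nd (.lf 0x3c7) (.lf 0))))) (.nd (.nd (.nd (.nd (.lf 0x39) (.lf 0x163b)) (.nd (.lf 0x21f3) (.lf 0))) (.nd (.nd (.lf 0x10ff) (.lf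 0)) (.nd (.lf 0x1346) (.lf 0)))) (.nd (.nd (.nd (.lf 0x98) (.lf 0)) (.nd (.lf 0x285) (.lf 0))) (.nd (.nd (.lf 0x216f) (.lf 0)) (.nd (.lf 0x45c) (.lf 0)))))) (.nd (.nd (.nd (.nd (.nd (.lf 0x22) (.lf 0x585)) (.nd (.lf 0x11d0) (.lf 0))) (.nd (.nd (.lf 0xe5) (.lf 0)) (.nd (.lf 0x2312) (.lf 0)))) (.nd (.nd (.nd (.lf 0x7f) (.lf 0)) (.nd (.lf 0x262) (.lf 0))) (.nd (.nd (.lf 0x153) (.lf 0)) (.nd (.lf 0x2413) (.lf 0))))) (.nd (.nd (.nd (.nd (.lf 0x50) (.lf 0x171f)) (.nd (.lf 0x2215) (.lf 0))) (.nd (.nd (.lf 0x119) (.lf 0)) (.nd (.lf 0x383) (.lf 0)))) (.nd (.nd (.nd (.lf 0x10b0) (.lf 0)) (.nd (.lf 0x2b3) (.lf 0))) (.nd (.nd (.lf 0x18e) (.lf 0)) (.nd (.lf 0x24b4) (.lf 0)))))))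
def parQ_nbababa : Tr := (.nd (.nd (.nd (.nd (.nd (.nd (.lf 0x2006) (.lf 0x4fe)) (.nd (.lf 0x1a7) (.lf 0))) (.nd (.nd (.lf 0x10c3) (.lf 0)) (.nd (.lf 0x22d6) (.lf 0)))) (.nd (.nd (.nd (.lf 0x2062) (.lf 0)) (.nd (.lf 0x122f) (.lf 0))) (.nd (.nd (.lf 0x212d) (.lf 0)) (.nd (.lf 0x13b0) (.lf 0))))) (.nd (.nd (.nd (.nd (.lf 0x2032) (.lf 0x613)) (.nd (.lf 0x11ea) (.lf 0))) (.nd (.nd (.lf 0x10f9) (.lf 0)) (.nd (.lf 0x335) (.lf 0)))) (.nd (.nd (.nd (.lf 0x1092) (.lf 0)) (.nd (.lf 0x127d) (.lf 0))) (.nd (.nd (.lf 0x1167) (.lf 0)) (.nd (.lf 0x143f) (.lf 0)))))) (.nd (.nd (.nd (.nd (.nd (.lf 0x101c) (.lf 0x256a)) (.nd (.lf 0x11c8) (.lf 0))) (.nd (.nd (.lf 0x10de) (.lf 0)) (.nd (.lf 0x130a) (.lf 0)))) (.nd (.nd (.nd (.lf 0x79) (.lf 0))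 (.nd (.lf 0x1258) (.lf 0))) (.nd (.nd (.lf 0x214b) (.lf 0)) (.nd (.lf 0x400) (.lf 0))))) (.nd (.nd (.nd (.nd (.lf 0x4a) (.lf 0x16dc)) (.nd (.lf 0x220c) (.lf 0))) (.nd (.nd (.lf 0x2111) (.lf 0)) (.nd (.lf 0x378) (.lf 0)))) (.nd (.nd (.nd (.lf 0xa9) (.lf 0)) (.nd (.lf 0x12a8) (.lf 0))) (.nd (.nd (.lf 0x1187) (.lf 0)) (.nd (.lf 0x149a) (.lf 0)))))))
def parQ_nbababb : Tr := (.nd (.nd (.nd (.nd (.nd (.nd (.lf 0x1011) (.lf 0x252e)) (.nd (.lf 0x11b6) (.lf 0))) (.nd (.nd (.lf 0xd1) (.lf 0)) (.nd (.lf 0x2f2) (.lf 0)))) (.nd (.nd (.nd (.lf 0x206d) (.lf 0)) (.nd (.lf 0x2242) (.lf 0))) (.nd (.nd (.lf 0x13e) (.lf 0)) (.nd (.lf 0x3d6) (.lf 0))))) (.nd (.nd (.nd (.nd (.lf 0x103e) (.lf 0x670)) (.nd (.lf 0x1fd) (.lf 0))) (.nd (.nd (.lf 0x2105)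 (.lf 0)) (.nd (.lf 0x2354) (.lf 0)))) (.nd (.nd (.nd (.lf 0x9e) (.lf 0)) (.nd (.lf 0x28e) (.lf 0))) (.nd (.nd (.lf 0x1178) (.lf 0)) (.nd (.lf 0x2470) (.lf 0)))))) (.nd (.nd (.nd (.nd (.nd (.lf 0x1027) (.lf 0x15ab)) (.nd (.lf 0x21d8) (.lf 0))) (.nd (.nd (.lf 0xeb) (.lf 0)) (.nd (.lf 0x231f) (.lf 0)))) (.nd (.nd (.nd (.lf 0x85) (.lf 0)) (.nd (.lf 0x226c) (.lf 0))) (.nd (.nd (.lf 0x215a) (.lf 0)) (.nd (.lf 0x241e) (.lf 0))))) (.nd (.nd (.nd (.nd (.lf 0x56) (.lf 0x7c8)) (.nd (.lf 0x221d) (.lf 0))) (.nd (.nd (.lf 0x121) (.lf 0)) (.nd (.lf 0x391) (.lf 0)))) (.nd (.nd (.nd (.lf 0x20b6) (.lf 0)) (.nd (.lf 0x2c0) (.lf 0))) (.nd (.nd (.lf 0x196) (.lf 0)) (.nd (.lf 0x4cc) (.lf 0)))))))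
def parQ_nbabbaa : Tr := (.nd (.nd (.nd (.nd (.nd (.nd (.lf 0x4) (.lf 0x24ef)) (.nd (.lf 0x21a1) (.lf 0))) (.nd (.nd (.lf 0x10c0) (.lf 0)) (.nd (.lf 0x22ce) (.lf 0)))) (.nd (.nd (.nd (.lf 0x205e) (.lf 0)) (.nd (.lf 0x122a) (.lf 0))) (.nd (.nd (.lf 0x212a) (.lf 0)) (.nd (.lf 0x13a7) (.lf 0))))) (.nd (.nd (.nd (.nd (.lf 0x202f) (.lf 0x1600)) (.nd (.lf 0x1e4) (.lf 0))) (.nd (.nd (.lf 0x20f5) (.lf 0)) (.nd (.lf 0x2330) (.lf 0)))) (.nd (.nd (.nd (.lf 0x108f) (.lf 0)) (.nd (.lf 0x279) (.lf 0))) (.nd (.nd (.lf 0x1164) (.lf 0)) (.nd (.lf 0x2437) (.lf 0)))))) (.nd (.nd (.nd (.nd (.nd (.lf 0x2019) (.lf 0x155d)) (.nd (.lf 0x21c3) (.lf 0))) (.nd (.nd (.lf 0x10da) (.lf 0)) (.nd (.lf 0x2303) (.lf 0)))) (.nd (.nd (.nd (.lf 0x76) (.lf 0)) (.nd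 (.lf 0x2253) (.lf 0))) (.nd (.nd (.lf 0x1148) (.lf 0)) (.nd (.lf 0x3f3) (.lf 0))))) (.nd (.nd (.nd (.nd (.lf 0x47) (.lf 0x16c5)) (.nd (.lf 0x1209) (.lf 0))) (.nd (.nd (.lf 0x210e) (.lf 0)) (.nd (.lf 0x36c) (.lf 0)))) (.nd (.nd (.nd (.lf 0x10a6) (.lf 0)) (.nd (.lf 0x2a0) (.lf 0))) (.nd (.nd (.lf 0x1183) (.lf 0)) (.nd (.lf 0x491) (.lf 0)))))))
def parQ_nbabbab : Tr := (.nd (.nd (.nd (.nd (.nd (.nd (.lf 0x200e) (.lf 0x1524)) (.nd (.lf 0x11b3) (.lf 0))) (.nd (.nd (.lf 0xce) (.lf 0)) (.nd (.lf 0x12ed) (.lf 0)))) (.nd (.nd (.nd (.lf 0x6b) (.lf 0)) (.nd (.lf 0x223d) (.lf 0))) (.nd (.nd (.lf 0x113a) (.lf 0)) (.nd (.lf 0x13ce) (.lf 0))))) (.nd (.nd (.nd (.nd (.lf 0x203b) (.lf 0x2659)) (.nd (.lf 0x1f9) (.lf 0))) (.nd (.nd (.lf 0x2102)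 (.lf 0)) (.nd (.lf 0x134c) (.lf 0)))) (.nd (.nd (.nd (.lf 0x109b) (.lf 0)) (.nd (.lf 0x289) (.lf 0))) (.nd (.nd (.lf 0x173) (.lf 0)) (.nd (.lf 0x468) (.lf 0)))))) (.nd (.nd (.nd (.nd (.nd (.lf 0x2024) (.lf 0x259a)) (.nd (.lf 0x21d3) (.lf 0))) (.nd (.nd (.lf 0xe8) (.lf 0)) (.nd (.lf 0x1319) (.lf 0)))) (.nd (.nd (.nd (.lf 0x82) (.lf 0)) (.nd (.lf 0x1267) (.lf 0))) (.nd (.nd (.lf 0x2156) (.lf 0)) (.nd (.lf 0x241a) (.lf 0))))) (.nd (.nd (.nd (.nd (.lf 0x1053) (.lf 0x2753)) (.nd (.lf 0x2218) (.lf 0))) (.nd (.nd (.lf 0x11d) (.lf 0)) (.nd (.lf 0x388) (.lf 0)))) (.nd (.nd (.nd (.lf 0x20b3) (.lf 0)) (.nd (.lf 0x22b9) (.lf 0))) (.nd (.nd (.lf 0x191) (.lf 0)) (.nd (.lf 0x14bf) (.lf 0)))))))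
def parQ_nbabbba : Tr := (.nd (.nd (.nd (.nd (.nd (.nd (.lf 0x1009) (.lf 0x509)) (.nd (.lf 0x11aa) (.lf 0))) (.nd (.nd (.lf 0x10c6) (.lf 0)) (.nd (.lf 0x22dc) (.lf 0)))) (.nd (.nd (.nd (.lf 0x2065) (.lf 0)) (.nd (.lf 0x1235) (.lf 0))) (.nd (.nd (.lf 0x2130) (.lf 0)) (.nd (.lf 0x3bd) (.lf 0))))) (.nd (.nd (.nd (.nd (.lf 0x36) (.lf 0x162a)) (.nd (.lf 0x21ee) (.lf 0))) (.nd (.nd (.lf 0xfc) (.lf 0)) (.nd (.lf 0x133d) (.lf 0)))) (.nd (.nd (.nd (.lf 0x95) (.lf 0)) (.nd (.lf 0x280) (.lf 0))) (.nd (.nd (.lf 0x16b) (.lf 0)) (.nd (.lf 0x244b) (.lf 0)))))) (.nd (.nd (.nd (.nd (.nd (.lf 0x101f) (.lf 0x578)) (.nd (.lf 0x11cc) (.lf 0))) (.nd (.nd (.lf 0xe2) (.lf 0)) (.nd (.lf 0x130e) (.lf 0)))) (.nd (.nd (.nd (.lf 0x207b) (.lf 0)) (.nd (.lf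 0x25d) (.lf 0))) (.nd (.nd (.lf 0x1150) (.lf 0)) (.nd (.lf 0x1409) (.lf 0))))) (.nd (.nd (.nd (.nd (.lf 0x204c) (.lf 0x2701)) (.nd (.lf 0x2210) (.lf 0))) (.nd (.nd (.lf 0x1114) (.lf 0)) (.nd (.lf 0x237d) (.lf 0)))) (.nd (.nd (.nd (.lf 0xac) (.lf 0)) (.nd (.lf 0x22ad) (.lf 0))) (.nd (.nd (.lf 0x118a) (.lf 0)) (.nd (.lf 0x4a4) (.lf 0)))))))
def parQ_nbabbbb : Tr := (.nd (.nd (.nd (.nd (.nd (.nd (.lf 0x1014) (.lf 0x539)) (.nd (.lf 0x11b9) (.lf 0))) (.nd (.nd (.lf 0x20d4) (.lf 0)) (.nd (.lf 0x22f7) (.lf 0)))) (.nd (.nd (.nd (.lf 0x1070) (.lf 0)) (.nd (.lf 0x1248) (.lf 0))) (.nd (.nd (.lf 0x141) (.lf 0)) (.nd (.lf 0x13dc) (.lf 0))))) (.nd (.nd (.nd (.nd (.lf 0x1041) (.lf 0x691)) (.nd (.lf 0x203) (.lf 0))) (.nd (.nd (.lf 0x2108) (.lf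 0)) (.nd (.lf 0x35d) (.lf 0)))) (.nd (.nd (.nd (.lf 0x20a0) (.lf 0)) (.nd (.lf 0x2294) (.lf 0))) (.nd (.nd (.lf 0x117c) (.lf 0)) (.nd (.lf 0x47e) (.lf 0)))))) (.nd (.nd (.nd (.nd (.nd (.lf 0x2a) (.lf 0x15cd)) (.nd (.lf 0x1dc) (.lf 0))) (.nd (.nd (.lf 0xee) (.lf 0)) (.nd (.lf 0x1326) (.lf 0)))) (.nd (.nd (.nd (.lf 0x1088) (.lf 0)) (.nd (.lf 0x1270) (.lf 0))) (.nd (.nd (.lf 0x215e) (.lf 0)) (.nd (.lf 0x2426) (.lf 0))))) (.nd (.nd (.nd (.nd (.lf 0x2058) (.lf 0x1839)) (.nd (.lf 0x221) (.lf 0))) (.nd (.nd (.lf 0x124) (.lf 0)) (.nd (.lf 0x397) (.lf 0)))) (.nd (.nd (.nd (.lf 0x20b9) (.lf 0)) (.nd (.lf 0x2c6) (.lf 0))) (.nd (.nd (.lf 0x19a) (.lf 0)) (.nd (.lf 0x4de) (.lf 0)))))))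
def parQ_nbbaaaa : Tr := (.nd (.nd (.nd (.nd (.nd (.nd (.lf 0x2000) (.lf 0x14e4)) (.nd (.lf 0x219c) (.lf 0))) (.nd (.nd (.lf 0x20bc) (.lf 0)) (.nd (.lf 0x2c9) (.lf 0)))) (.nd (.nd (.nd (.lf 0x5b) (.lf 0)) (.nd (.lf 0x1224) (.lf 0))) (.nd (.nd (.lf 0x2126) (.lf 0)) (.nd (.lf 0x139c) (.lf 0))))) (.nd (.nd (.nd (.nd (.lf 0x2c) (.lf 0x15da)) (.nd (.lf 0x1df) (.lf 0))) (.nd (.nd (.lf 0x20f0) (.lf 0)) (.nd (.lf 0x32a) (.lf 0)))) (.nd (.nd (.nd (.lf 0x8b) (.lf 0)) (.nd (.lf 0x1273) (.lf 0))) (.nd (.nd (.lf 0x161) (.lf 0)) (.nd (.lf 0x242c) (.lf 0)))))) (.nd (.nd (.nd (.nd (.nd (.lf 0x1016) (.lf 0x2546)) (.nd (.lf 0x21bb) (.lf 0))) (.nd (.nd (.lf 0x20d6) (.lf 0)) (.nd (.lf 0x22fa) (.lf 0)))) (.nd (.nd (.nd (.lf 0x1072) (.lf 0)) (.nd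 (.lf 0x124d) (.lf 0))) (.nd (.nd (.lf 0x1143) (.lf 0)) (.nd (.lf 0x13e3) (.lf 0))))) (.nd (.nd (.nd (.nd (.lf 0x1043) (.lf 0x16a2)) (.nd (.lf 0x2205) (.lf 0))) (.nd (.nd (.lf 0x110b) (.lf 0)) (.nd (.lf 0x2363) (.lf 0)))) (.nd (.nd (.nd (.lf 0x20a2) (.lf 0)) (.nd (.lf 0x1298) (.lf 0))) (.nd (.nd (.lf 0x217f) (.lf 0)) (.nd (.lf 0x487) (.lf 0)))))))
def parQ_nbbaaab : Tr := (.nd (.nd (.nd (.nd (.nd (.nd (.lf 0x100b) (.lf 0x2513)) (.nd (.lf 0x1ad) (.lf 0))) (.nd (.nd (.lf 0x20c8) (.lf 0)) (.nd (.lf 0x2e1) (.lf 0)))) (.nd (.nd (.nd (.lf 0x2067) (.lf 0)) (.nd (.lf 0x2237) (.lf 0))) (.nd (.nd (.lf 0x1134) (.lf 0)) (.nd (.lf 0x23c3) (.lf 0))))) (.nd (.nd (.nd (.nd (.lf 0x1038) (.lf 0x637)) (.nd (.lf 0x11f2) (.lf 0))) (.nd (.nd (.lf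 0x10fe) (.lf 0)) (.nd (.lf 0x2344) (.lf 0)))) (.nd (.nd (.nd (.lf 0x1097) (.lf 0)) (.nd (.lf 0x1284) (.lf 0))) (.nd (.nd (.lf 0x216e) (.lf 0)) (.nd (.lf 0x453) (.lf 0)))))) (.nd (.nd (.nd (.nd (.nd (.lf 0x1021) (.lf 0x57f)) (.nd (.lf 0x21ce) (.lf 0))) (.nd (.nd (.lf 0x10e4) (.lf 0)) (.nd (.lf 0x312) (.lf 0)))) (.nd (.nd (.nd (.lf 0x107e) (.lf 0)) (.nd (.lf 0x2260) (.lf 0))) (.nd (.nd (.lf 0x1152) (.lf 0)) (.nd (.lf 0x1412) (.lf 0))))) (.nd (.nd (.nd (.nd (.lf 0x104f) (.lf 0x171a)) (.nd (.lf 0x1214) (.lf 0))) (.nd (.nd (.lf 0x2117) (.lf 0)) (.nd (.lf 0x1381) (.lf 0)))) (.nd (.nd (.nd (.lf 0x20af) (.lf 0)) (.nd (.lf 0x12b2) (.lf 0))) (.nd (.nd (.lf 0x118d) (.lf 0)) (.nd (.lf 0x24b1) (.lf 0)))))))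
def parQ_nbbaaba : Tr := (.nd (.nd (.nd (.nd (.nd (.nd (.lf 0x6) (.lf 0x24f9)) (.nd (.lf 0x11a5) (.lf 0))) (.nd (.nd (.lf 0x20c2) (.lf 0)) (.nd (.lf 0x12d5) (.lf 0)))) (.nd (.nd (.nd (.lf 0x2061) (.lf 0)) (.nd (.lf 0x22e) (.lf 0))) (.nd (.nd (.lf 0x212c) (.lf 0)) (.nd (.lf 0x13ae) (.lf 0))))) (.nd (.nd (.nd (.nd (.lf 0x32) (.lf 0x610)) (.nd (.lf 0x11e9) (.lf 0))) (.nd (.nd (.lf 0xf8) (.lf 0)) (.nd (.lf 0x1334) (.lf 0)))) (.nd (.nd (.nd (.lf 0x2091) (.lf 0)) (.nd (.lf 0x127c) (.lf 0))) (.nd (.nd (.lf 0x2166) (.lf 0)) (.nd (.lf 0x143e) (.lf 0)))))) (.nd (.nd (.nd (.nd (.nd (.lf 0x201b) (.lf 0x1566)) (.nd (.lf 0x21c7) (.lf 0))) (.nd (.nd (.lf 0x20dd) (.lf 0)) (.nd (.lf 0x2308) (.lf 0)))) (.nd (.nd (.nd (.lf 0x1078) (.lf 0)) (.nd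 (.lf 0x2257) (.lf 0))) (.nd (.nd (.lf 0x14b) (.lf 0)) (.nd (.lf 0x3fe) (.lf 0))))) (.nd (.nd (.nd (.nd (.lf 0x1049) (.lf 0x6d8)) (.nd (.lf 0x20c) (.lf 0))) (.nd (.nd (.lf 0x111) (.lf 0)) (.nd (.lf 0x2376) (.lf 0)))) (.nd (.nd (.nd (.lf 0x10a8) (.lf 0)) (.nd (.lf 0x22a6) (.lf 0))) (.nd (.nd (.lf 0x1186) (.lf 0)) (.nd (.lf 0x1495) (.lf 0)))))))
def parQ_nbbaabb : Tr := (.nd (.nd (.nd (.nd (.nd (.nd (.lf 0x2010) (.lf 0x2529)) (.nd (.lf 0x21b5) (.lf 0))) (.nd (.nd (.lf 0x10d0) (.lf 0)) (.nd (.lf 0x12f1) (.lf 0)))) (.nd (.nd (.nd (.lf 0x6d) (.lf 0)) (.nd (.lf 0x2240) (.lf 0))) (.nd (.nd (.lf 0x113d) (.lf 0)) (.nd (.lf 0x23d4) (.lf 0))))) (.nd (.nd (.nd (.nd (.lf 0x203d) (.lf 0x669)) (.nd (.lf 0x21fb) (.lf 0))) (.nd (.nd (.lf 0x105)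 (.lf 0)) (.nd (.lf 0x2353) (.lf 0)))) (.nd (.nd (.nd (.lf 0x109d) (.lf 0)) (.nd (.lf 0x228c) (.lf 0))) (.nd (.nd (.lf 0x2176) (.lf 0)) (.nd (.lf 0x146f) (.lf 0)))))) (.nd (.nd (.nd (.nd (.nd (.lf 0x2026) (.lf 0x25a6)) (.nd (.lf 0x1d8) (.lf 0))) (.nd (.nd (.lf 0x10ea) (.lf 0)) (.nd (.lf 0x31e) (.lf 0)))) (.nd (.nd (.nd (.lf 0x1084) (.lf 0)) (.nd (.lf 0x226a) (.lf 0))) (.nd (.nd (.lf 0x2159) (.lf 0)) (.nd (.lf 0x41e) (.lf 0))))) (.nd (.nd (.nd (.nd (.lf 0x1055) (.lf 0x179e)) (.nd (.lf 0x21d) (.lf 0))) (.nd (.nd (.lf 0x120) (.lf 0)) (.nd (.lf 0x238e) (.lf 0)))) (.nd (.nd (.nd (.lf 0xb6) (.lf 0)) (.nd (.lf 0x22be) (.lf 0))) (.nd (.nd (.lf 0x1194) (.lf 0)) (.nd (.lf 0x4c8) (.lf 0)))))))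
def parQ_nbbabaa : Tr := (.nd (.nd (.nd (.nd (.nd (.nd (.lf 0x1003) (.lf 0x24ed)) (.nd (.lf 0x21a0) (.lf 0))) (.nd (.nd (.lf 0x10bf) (.lf 0)) (.nd (.lf 0x2ce) (.lf 0)))) (.nd (.nd (.nd (.lf 0x5e) (.lf 0)) (.nd (.lf 0x1229) (.lf 0))) (.nd (.nd (.lf 0x2129) (.lf 0)) (.nd (.lf 0x3a5) (.lf 0))))) (.nd (.nd (.nd (.nd (.lf 0x2f) (.lf 0x15e9)) (.nd (.lf 0x1e3) (.lf 0))) (.nd (.nd (.lf 0xf5) (.lf 0)) (.nd (.lf 0x232f) (.lf 0)))) (.nd (.nd (.nd (.lf 0x208e) (.lf 0)) (.nd (.lf 0x2277) (.lf 0))) (.nd (.nd (.lf 0x2163) (.lf 0)) (.nd (.lf 0x437) (.lf 0)))))) (.nd (.nd (.nd (.nd (.nd (.lf 0x19) (.lf 0x1559)) (.nd (.lf 0x1c2) (.lf 0))) (.nd (.nd (.lf 0x20d9) (.lf 0)) (.nd (.lf 0x303) (.lf 0)))) (.nd (.nd (.nd (.lf 0x1075) (.lf 0)) (.nd (.lf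 0x253) (.lf 0))) (.nd (.nd (.lf 0x1147) (.lf 0)) (.nd (.lf 0x3f2) (.lf 0))))) (.nd (.nd (.nd (.nd (.lf 0x1046) (.lf 0x26bf)) (.nd (.lf 0x2208) (.lf 0))) (.nd (.nd (.lf 0x10e) (.lf 0)) (.nd (.lf 0x236a) (.lf 0)))) (.nd (.nd (.nd (.lf 0x20a5) (.lf 0)) (.nd (.lf 0x129f) (.lf 0))) (.nd (.nd (.lf 0x2182) (.lf 0)) (.nd (.lf 0x148e) (.lf 0)))))))
def parQ_nbbabab : Tr := (.nd (.nd (.nd (.nd (.nd (.nd (.lf 0xe) (.lf 0x151f)) (.nd (.lf 0x11b1) (.lf 0))) (.nd (.nd (.lf 0xcd) (.lf 0)) (.nd (.lf 0x22e7) (.lf 0)))) (.nd (.nd (.nd (.lf 0x106a) (.lf 0)) (.nd (.lf 0x23d) (.lf 0))) (.nd (.nd (.lf 0x1139) (.lf 0)) (.nd (.lf 0x13cc) (.lf 0))))) (.nd (.nd (.nd (.nd (.lf 0x3b) (.lf 0x1652)) (.nd (.lf 0x11f7) (.lf 0))) (.nd (.nd (.lf 0x2101) (.lf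 0)) (.nd (.lf 0x134a) (.lf 0)))) (.nd (.nd (.nd (.lf 0x109a) (.lf 0)) (.nd (.lf 0x1288) (.lf 0))) (.nd (.nd (.lf 0x1172) (.lf 0)) (.nd (.lf 0x2460) (.lf 0)))))) (.nd (.nd (.nd (.nd (.nd (.lf 0x24) (.lf 0x2590)) (.nd (.lf 0x11d2) (.lf 0))) (.nd (.nd (.lf 0x10e7) (.lf 0)) (.nd (.lf 0x2317) (.lf 0)))) (.nd (.nd (.nd (.lf 0x1081) (.lf 0)) (.nd (.lf 0x1266) (.lf 0))) (.nd (.nd (.lf 0x2155) (.lf 0)) (.nd (.lf 0x2416) (.lf 0))))) (.nd (.nd (.nd (.nd (.lf 0x1052) (.lf 0x2748)) (.nd (.lf 0x2217) (.lf 0))) (.nd (.nd (.lf 0x11c) (.lf 0)) (.nd (.lf 0x1386) (.lf 0)))) (.nd (.nd (.nd (.lf 0x20b2) (.lf 0)) (.nd (.lf 0x22b8) (.lf 0))) (.nd (.nd (.lf 0x1190) (.lf 0)) (.nd (.lf 0x4be) (.lf 0)))))))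
def parQ_nbbabba : Tr := (.nd (.nd (.nd (.nd (.nd (.nd (.lf 0x2008) (.lf 0x2506)) (.nd (.lf 0x21a9) (.lf 0))) (.nd (.nd (.lf 0x20c5) (.lf 0)) (.nd (.lf 0x2db) (.lf 0)))) (.nd (.nd (.nd (.lf 0x65) (.lf 0)) (.nd (.lf 0x234) (.lf 0))) (.nd (.nd (.lf 0x212f) (.lf 0)) (.nd (.lf 0x23b8) (.lf 0))))) (.nd (.nd (.nd (.nd (.lf 0x2034) (.lf 0x1627)) (.nd (.lf 0x21ed) (.lf 0))) (.nd (.nd (.lf 0x10fb) (.lf 0)) (.nd (.lf 0x33b) (.lf 0)))) (.nd (.nd (.nd (.lf 0x1094) (.lf 0)) (.nd (.lf 0x127f) (.lf 0))) (.nd (.nd (.lf 0x116a) (.lf 0)) (.nd (.lf 0x2449) (.lf 0)))))) (.nd (.nd (.nd (.nd (.nd (.lf 0x201e) (.lf 0x1577)) (.nd (.lf 0x21ca) (.lf 0))) (.nd (.nd (.lf 0x10e1) (.lf 0)) (.nd (.lf 0x130d) (.lf 0)))) (.nd (.nd (.nd (.lf 0x7b) (.lf 0)) (.nd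 (.lf 0x25c) (.lf 0))) (.nd (.nd (.lf 0x214e) (.lf 0)) (.nd (.lf 0x407) (.lf 0))))) (.nd (.nd (.nd (.nd (.lf 0x4c) (.lf 0x16fd)) (.nd (.lf 0x210) (.lf 0))) (.nd (.nd (.lf 0x2113) (.lf 0)) (.nd (.lf 0x237b) (.lf 0)))) (.nd (.nd (.nd (.lf 0x10ab) (.lf 0)) (.nd (.lf 0x22ac) (.lf 0))) (.nd (.nd (.lf 0x1189) (.lf 0)) (.nd (.lf 0x4a3) (.lf 0)))))))
def parQ_nbbabbb : Tr := (.nd (.nd (.nd (.nd (.nd (.nd (.lf 0x1013) (.lf 0x1534)) (.nd (.lf 0x21b8) (.lf 0))) (.nd (.nd (.lf 0xd4) (.lf 0)) (.nd (.lf 0x22f5) (.lf 0)))) (.nd (.nd (.nd (.lf 0x206f) (.lf 0)) (.nd (.lf 0x246) (.lf 0))) (.nd (.nd (.lf 0x1140) (.lf 0)) (.nd (.lf 0x3db) (.lf 0))))) (.nd (.nd (.nd (.nd (.lf 0x2040) (.lf 0x68a)) (.nd (.lf 0x1202) (.lf 0))) (.nd (.nd (.lf 0x108)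 (.lf 0)) (.nd (.lf 0x2359) (.lf 0)))) (.nd (.nd (.nd (.lf 0xa0) (.lf 0)) (.nd (.lf 0x2293) (.lf 0))) (.nd (.nd (.lf 0x217b) (.lf 0)) (.nd (.lf 0x477) (.lf 0)))))) (.nd (.nd (.nd (.nd (.nd (.lf 0x1029) (.lf 0x5cb)) (.nd (.lf 0x1db) (.lf 0))) (.nd (.nd (.lf 0x10ed) (.lf 0)) (.nd (.lf 0x1324) (.lf 0)))) (.nd (.nd (.nd (.lf 0x1087) (.lf 0)) (.nd (.lf 0x226f) (.lf 0))) (.nd (.nd (.lf 0x215d) (.lf 0)) (.nd (.lf 0x423) (.lf 0))))) (.nd (.nd (.nd (.nd (.lf 0x58) (.lf 0x1829)) (.nd (.lf 0x220) (.lf 0))) (.nd (.nd (.lf 0x123) (.lf 0)) (.nd (.lf 0x2395) (.lf 0)))) (.nd (.nd (.nd (.lf 0xb9) (.lf 0)) (.nd (.lf 0x2c4) (.lf 0))) (.nd (.nd (.lf 0x1199) (.lf 0)) (.nd (.lf 0x24da) (.lf 0)))))))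
def parQ_nbbbaaa : Tr := (.nd (.nd (.nd (.nd (.nd (.nd (.lf 0x2) (.lf 0x24e9)) (.nd (.lf 0x119f) (.lf 0))) (.nd (.nd (.lf 0xbe) (.lf 0)) (.nd (.lf 0x12cb) (.lf 0)))) (.nd (.nd (.nd (.lf 0x105c) (.lf 0)) (.nd (.lf 0x226) (.lf 0))) (.nd (.nd (.lf 0x1128) (.lf 0)) (.nd (.lf 0x239f) (.lf 0))))) (.nd (.nd (.nd (.nd (.lf 0x202d) (.lf 0x15e3)) (.nd (.lf 0x11e1) (.lf 0))) (.nd (.nd (.lf 0xf2) (.lf 0)) (.nd (.lf 0x232d) (.lf 0)))) (.nd (.nd (.nd (.lf 0x208c) (.lf 0)) (.nd (.lf 0x2275) (.lf 0))) (.nd (.nd (.lf 0x1162) (.lf 0)) (.nd (.lf 0x1432) (.lf 0)))))) (.nd (.nd (.nd (.nd (.nd (.lf 0x2017) (.lf 0x54a)) (.nd (.lf 0x11bd) (.lf 0))) (.nd (.nd (.lf 0xd8) (.lf 0)) (.nd (.lf 0x1300) (.lf 0)))) (.nd (.nd (.nd (.lf 0x2073) (.lf 0)) (.nd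 (.lf 0x250) (.lf 0))) (.nd (.nd (.lf 0x145) (.lf 0)) (.nd (.lf 0x13eb) (.lf 0))))) (.nd (.nd (.nd (.nd (.lf 0x2044) (.lf 0x6b5)) (.nd (.lf 0x207) (.lf 0))) (.nd (.nd (.lf 0x210c) (.lf 0)) (.nd (.lf 0x2365) (.lf 0)))) (.nd (.nd (.nd (.lf 0xa4) (.lf 0)) (.nd (.lf 0x129a) (.lf 0))) (.nd (.nd (.lf 0x181) (.lf 0)) (.nd (.lf 0x148b) (.lf 0)))))))
def parQ_nbbbaab : Tr := (.nd (.nd (.nd (.nd (.nd (.nd (.lf 0x200c) (.lf 0x2518)) (.nd (.lf 0x21ae) (.lf 0))) (.nd (.nd (.lf 0x10ca) (.lf 0)) (.nd (.lf 0x12e5) (.lf 0)))) (.nd (.nd (.nd (.lf 0x69) (.lf 0)) (.nd (.lf 0x223a) (.lf 0))) (.nd (.nd (.lf 0x2137) (.lf 0)) (.nd (.lf 0x13ca) (.lf 0))))) (.nd (.nd (.nd (.nd (.lf 0x2039) (.lf 0x263e)) (.nd (.lf 0x21f4) (.lf 0))) (.nd (.nd (.lf 0x100)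 (.lf 0)) (.nd (.lf 0x1348) (.lf 0)))) (.nd (.nd (.nd (.lf 0x2098) (.lf 0)) (.nd (.lf 0x2285) (.lf 0))) (.nd (.nd (.lf 0x1170) (.lf 0)) (.nd (.lf 0x45f) (.lf 0)))))) (.nd (.nd (.nd (.nd (.nd (.lf 0x2022) (.lf 0x1588)) (.nd (.lf 0x1d1) (.lf 0))) (.nd (.nd (.lf 0xe6) (.lf 0)) (.nd (.lf 0x1314) (.lf 0)))) (.nd (.nd (.nd (.lf 0x207f) (.lf 0)) (.nd (.lf 0x2263) (.lf 0))) (.nd (.nd (.lf 0x154) (.lf 0)) (.nd (.lf 0x1414) (.lf 0))))) (.nd (.nd (.nd (.nd (.lf 0x2050) (.lf 0x1726)) (.nd (.lf 0x1216) (.lf 0))) (.nd (.nd (.lf 0x111a) (.lf 0)) (.nd (.lf 0x384) (.lf 0)))) (.nd (.nd (.nd (.lf 0xb1) (.lf 0)) (.nd (.lf 0x22b5) (.lf 0))) (.nd (.nd (.lf 0x18f) (.lf 0)) (.nd (.lf 0x14b6) (.lf 0)))))))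
def parQ_nbbbaba : Tr := (.nd (.nd (.nd (.nd (.nd (.nd (.lf 0x1007) (.lf 0x2501)) (.nd (.lf 0x21a7) (.lf 0))) (.nd (.nd (.lf 0xc4) (.lf 0)) (.nd (.lf 0x22d7) (.lf 0)))) (.nd (.nd (.nd (.lf 0x2063) (.lf 0)) (.nd (.lf 0x2230) (.lf 0))) (.nd (.nd (.lf 0x112e) (.lf 0)) (.nd (.lf 0x13b1) (.lf 0))))) (.nd (.nd (.nd (.nd (.lf 0x1033) (.lf 0x2613)) (.nd (.lf 0x11eb) (.lf 0))) (.nd (.nd (.lf 0xfa) (.lf 0)) (.nd (.lf 0x1337) (.lf 0)))) (.nd (.nd (.nd (.lf 0x93) (.lf 0)) (.nd (.lf 0x27e) (.lf 0))) (.nd (.nd (.lf 0x1168) (.lf 0)) (.nd (.lf 0x441) (.lf 0)))))) (.nd (.nd (.nd (.nd (.nd (.lf 0x101d) (.lf 0x56e)) (.nd (.lf 0x11c9) (.lf 0))) (.nd (.nd (.lf 0x20df) (.lf 0)) (.nd (.lf 0x30b) (.lf 0)))) (.nd (.nd (.nd (.lf 0x2079) (.lf 0)) (.nd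 (.lf 0x25a) (.lf 0))) (.nd (.nd (.lf 0x114c) (.lf 0)) (.nd (.lf 0x2402) (.lf 0))))) (.nd (.nd (.nd (.nd (.lf 0x204a) (.lf 0x26e9)) (.nd (.lf 0x220d) (.lf 0))) (.nd (.nd (.lf 0x1112) (.lf 0)) (.nd (.lf 0x379) (.lf 0)))) (.nd (.nd (.nd (.lf 0x20a9) (.lf 0)) (.nd (.lf 0x12ab) (.lf 0))) (.nd (.nd (.lf 0x188) (.lf 0)) (.nd (.lf 0x49b) (.lf 0)))))))
def parQ_nbbbabb : Tr := (.nd (.nd (.nd (.nd (.nd (.nd (.lf 0x12) (.lf 0x252f)) (.nd (.lf 0x11b7) (.lf 0))) (.nd (.nd (.lf 0x20d1) (.lf 0)) (.nd (.lf 0x22f2) (.lf 0)))) (.nd (.nd (.nd (.lf 0x106e) (.lf 0)) (.nd (.lf 0x1243) (.lf 0))) (.nd (.nd (.lf 0x13f) (.lf 0)) (.nd (.lf 0x3d7) (.lf 0))))) (.nd (.nd (.nd (.nd (.lf 0x3f) (.lf 0x676)) (.nd (.lf 0x11fe) (.lf 0))) (.nd (.nd (.lf 0x1106)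 (.lf 0)) (.nd (.lf 0x1355) (.lf 0)))) (.nd (.nd (.nd (.lf 0x209e) (.lf 0)) (.nd (.lf 0x228f) (.lf 0))) (.nd (.nd (.lf 0x17a) (.lf 0)) (.nd (.lf 0x1475) (.lf 0)))))) (.nd (.nd (.nd (.nd (.nd (.lf 0x28) (.lf 0x15ae)) (.nd (.lf 0x11d9) (.lf 0))) (.nd (.nd (.lf 0x20eb) (.lf 0)) (.nd (.lf 0x321) (.lf 0)))) (.nd (.nd (.nd (.lf 0x2085) (.lf 0)) (.nd (.lf 0x126d) (.lf 0))) (.nd (.nd (.lf 0x115b) (.lf 0)) (.nd (.lf 0x241f) (.lf 0))))) (.nd (.nd (.nd (.nd (.lf 0x2056) (.lf 0x7f6)) (.nd (.lf 0x221e) (.lf 0))) (.nd (.nd (.lf 0x2121) (.lf 0)) (.nd (.lf 0x392) (.lf 0)))) (.nd (.nd (.nd (.lf 0x10b7) (.lf 0)) (.nd (.lf 0x12c1) (.lf 0))) (.nd (.nd (.lf 0x197) (.lf 0)) (.nd (.lf 0x4d2) (.lf 0)))))))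
def parQ_nbbbbaa : Tr := (.nd (.nd (.nd (.nd (.nd (.nd (.lf 0x2004) (.lf 0x24f3)) (.nd (.lf 0x1a3) (.lf 0))) (.nd (.nd (.lf 0xc1) (.lf 0)) (.nd (.lf 0x12d1) (.lf 0)))) (.nd (.nd (.nd (.lf 0x105f) (.lf 0)) (.nd (.lf 0x22b) (.lf 0))) (.nd (.nd (.lf 0x112b) (.lf 0)) (.nd (.lf 0x23aa) (.lf 0))))) (.nd (.nd (.nd (.nd (.lf 0x1030) (.lf 0x605)) (.nd (.lf 0x11e5) (.lf 0))) (.nd (.nd (.lf 0x10f6) (.lf 0)) (.nd (.lf 0x1331) (.lf 0)))) (.nd (.nd (.nd (.lf 0x1090) (.lf 0)) (.nd (.lf 0x127a) (.lf 0))) (.nd (.nd (.lf 0x165) (.lf 0)) (.nd (.lf 0x2438) (.lf 0)))))) (.nd (.nd (.nd (.nd (.nd (.lf 0x101a) (.lf 0x2562)) (.nd (.lf 0x1c5) (.lf 0))) (.nd (.nd (.lf 0x10db) (.lf 0)) (.nd (.lf 0x2304) (.lf 0)))) (.nd (.nd (.nd (.lf 0x2076) (.lf 0)) (.nd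 (.lf 0x2255) (.lf 0))) (.nd (.nd (.lf 0x1149) (.lf 0)) (.nd (.lf 0x3f5) (.lf 0))))) (.nd (.nd (.nd (.nd (.lf 0x48) (.lf 0x26cf)) (.nd (.lf 0x20a) (.lf 0))) (.nd (.nd (.lf 0x110f) (.lf 0)) (.nd (.lf 0x136d) (.lf 0)))) (.nd (.nd (.nd (.lf 0xa7) (.lf 0)) (.nd (.lf 0x2a3) (.lf 0))) (.nd (.nd (.lf 0x1184) (.lf 0)) (.nd (.lf 0x1492) (.lf 0)))))))
def parQ_nbbbbab : Tr := (.nd (.nd (.nd (.nd (.nd (.nd (.lf 0x100f) (.lf 0x525)) (.nd (.lf 0x11b4) (.lf 0))) (.nd (.nd (.lf 0xcf) (.lf 0)) (.nd (.lf 0x12ef) (.lf 0)))) (.nd (.nd (.nd (.lf 0x206b) (.lf 0)) (.nd (.lf 0x123e) (.lf 0))) (.nd (.nd (.lf 0x13b) (.lf 0)) (.nd (.lf 0x3d1) (.lf 0))))) (.nd (.nd (.nd (.nd (.lf 0x103c) (.lf 0x65c)) (.nd (.lf 0x1fa) (.lf 0))) (.nd (.nd (.lf 0x2103) (.lf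 0)) (.nd (.lf 0x134d) (.lf 0)))) (.nd (.nd (.nd (.lf 0x9c) (.lf 0)) (.nd (.lf 0x128a) (.lf 0))) (.nd (.nd (.lf 0x175) (.lf 0)) (.nd (.lf 0x46a) (.lf 0)))))) (.nd (.nd (.nd (.nd (.nd (.lf 0x1025) (.lf 0x15a1)) (.nd (.lf 0x11d5) (.lf 0))) (.nd (.nd (.lf 0xe9) (.lf 0)) (.nd (.lf 0x231a) (.lf 0)))) (.nd (.nd (.nd (.lf 0x2082) (.lf 0)) (.nd (.lf 0x1268) (.lf 0))) (.nd (.nd (.lf 0x1158) (.lf 0)) (.nd (.lf 0x141b) (.lf 0))))) (.nd (.nd (.nd (.nd (.lf 0x54) (.lf 0x77d)) (.nd (.lf 0x2219) (.lf 0))) (.nd (.nd (.lf 0x111e) (.lf 0)) (.nd (.lf 0x2389) (.lf 0)))) (.nd (.nd (.nd (.lf 0x10b4) (.lf 0)) (.nd (.lf 0x12bb) (.lf 0))) (.nd (.nd (.lf 0x2191) (.lf 0)) (.nd (.lf 0x4c2) (.lf 0)))))))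
def parQ_nbbbbba : Tr := (.nd (.nd (.nd (.nd (.nd (.nd (.lf 0xa) (.lf 0x50f)) (.nd (.lf 0x21ab) (.lf 0))) (.nd (.nd (.lf 0xc7) (.lf 0)) (.nd (.lf 0x22df) (.lf 0)))) (.nd (.nd (.nd (.lf 0x1066) (.lf 0)) (.nd (.lf 0x1236) (.lf 0))) (.nd (.nd (.lf 0x2131) (.lf 0)) (.nd (.lf 0x13bf) (.lf 0))))) (.nd (.nd (.nd (.nd (.lf 0x2036) (.lf 0x162b)) (.nd (.lf 0x21f0) (.lf 0))) (.nd (.nd (.lf 0x20fc) (.lf 0)) (.nd (.lf 0x33e) (.lf 0)))) (.nd (.nd (.nd (.lf 0x96) (.lf 0)) (.nd (.lf 0x2281) (.lf 0))) (.nd (.nd (.lf 0x16d) (.lf 0)) (.nd (.lf 0x244d) (.lf 0)))))) (.nd (.nd (.nd (.nd (.nd (.lf 0x20) (.lf 0x57a)) (.nd (.lf 0x11cd) (.lf 0))) (.nd (.nd (.lf 0xe3) (.lf 0)) (.nd (.lf 0x30f) (.lf 0)))) (.nd (.nd (.nd (.lf 0x107c) (.lf 0)) (.nd (.lf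 0x225d) (.lf 0))) (.nd (.nd (.lf 0x151) (.lf 0)) (.nd (.lf 0x140d) (.lf 0))))) (.nd (.nd (.nd (.nd (.lf 0x104d) (.lf 0x2712)) (.nd (.lf 0x212) (.lf 0))) (.nd (.nd (.lf 0x2115) (.lf 0)) (.nd (.lf 0x137e) (.lf 0)))) (.nd (.nd (.nd (.lf 0x20ad) (.lf 0)) (.nd (.lf 0x22af) (.lf 0))) (.nd (.nd (.lf 0x218b) (.lf 0)) (.nd (.lf 0x4a5) (.lf 0)))))))
def parQ_nbbbbbb : Tr := (.nd (.nd (.nd (.nd (.nd (.nd (.lf 0x15) (.lf 0x153c)) (.nd (.lf 0x11ba) (.lf 0))) (.nd (.nd (.lf 0x10d5) (.lf 0)) (.nd (.lf 0x2f9) (.lf 0)))) (.nd (.nd (.nd (.lf 0x71) (.lf 0)) (.nd (.lf 0x1249) (.lf 0))) (.nd (.nd (.lf 0x142) (.lf 0)) (.nd (.lf 0x3de) (.lf 0))))) (.nd (.nd (.nd (.nd (.lf 0x42) (.lf 0x697)) (.nd (.lf 0x204) (.lf 0))) (.nd (.nd (.lf 0x2109) (.lf 0))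 (.nd (.lf 0x135e) (.lf 0)))) (.nd (.nd (.nd (.lf 0x10a1) (.lf 0)) (.nd (.lf 0x2295) (.lf 0))) (.nd (.nd (.lf 0x17e) (.lf 0)) (.nd (.lf 0x482) (.lf 0)))))) (.nd (.nd (.nd (.nd (.nd (.lf 0x202a) (.lf 0x25d3)) (.nd (.lf 0x1dd) (.lf 0))) (.nd (.nd (.lf 0xef) (.lf 0)) (.nd (.lf 0x1327) (.lf 0)))) (.nd (.nd (.nd (.lf 0x89) (.lf 0)) (.nd (.lf 0x2271) (.lf 0))) (.nd (.nd (.lf 0x115f) (.lf 0)) (.nd (.lf 0x428) (.lf 0))))) (.nd (.nd (.nd (.nd (.lf 0x1059) (.lf 0x1843)) (.nd (.lf 0x2222) (.lf 0))) (.nd (.nd (.lf 0x2124) (.lf 0)) (.nd (.lf 0x2397) (.lf 0)))) (.nd (.nd (.nd (.lf 0x10ba) (.lf 0)) (.nd (.lf 0x2c7) (.lf 0))) (.nd (.nd (.lf 0x219a) (.lf 0)) (.nd (.lf 0x4df) (.lf 0)))))))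
def parQ : Tr := (.nd (.nd (.nd (.nd (.nd (.nd parQ_naaaaaa parQ_naaaaab) (.nd parQ_naaaaba parQ_naaaabb)) (.nd (.nd parQ_naaabaa parQ_naaabab) (.nd parQ_naaabba parQ_naaabbb))) (.nd (.nd (.nd parQ_naabaaa parQ_naabaab) (.nd parQ_naababa parQ_naababb)) (.nd (.nd parQ_naabbaa parQ_naabbab) (.nd parQ_naabbba parQ_naabbbb)))) (.nd (.nd (.nd (.nd parQ_nabaaaa parQ_nabaaab) (.nd parQ_nabaaba parQ_nabaabb)) (.nd (.nd parQ_nababaa parQ_nababab) (.nd parQ_nababba parQ_nababbb))) (.nd (.nd (.nd parQ_nabbaaa parQ_nabbaab) (.nd parQ_nabbaba parQ_nabbabb)) (.nd (.nd parQ_nabbbaa parQ_nabbbab) (.nd parQ_nabbbba parQ_nabbbbb))))) (.nd (.nd (.nd (.nd (.nd parQ_nbaaaaa parQ_nbaaaab) (.nd parQ_nbaaaba parQ_nbaaabb)) (.nd (.nd parQ_nbaabaa parQ_nbaabab)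 (.nd parQ_nbaabba parQ_nbaabbb))) (.nd (.nd (.nd parQ_nbabaaa parQ_nbabaab) (.nd parQ_nbababa parQ_nbababb)) (.nd (.nd parQ_nbabbaa parQ_nbabbab) (.nd parQ_nbabbba parQ_nbabbbb)))) (.nd (.nd (.nd (.nd parQ_nbbaaaa parQ_nbbaaab) (.nd parQ_nbbaaba parQ_nbbaabb)) (.nd (.nd parQ_nbbabaa parQ_nbbabab) (.nd parQ_nbbabba parQ_nbbabbb))) (.nd (.nd (.nd parQ_nbbbaaa parQ_nbbbaab) (.nd parQ_nbbbaba parQ_nbbbabb)) (.nd (.nd parQ_nbbbbaa parQ_nbbbbab) (.nd parQ_nbbbbba parQ_nbbbbbb))))))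
def tabQ0_naaaaaa : Tr := (.nd (.nd (.nd (.nd (.nd (.nd (.lf 0x1) (.lf 0x3e9)) (.nd (.lf 0x755) (.lf 0))) (.nd (.nd (.lf 0x3) (.lf 0)) (.nd (.lf 0xd7) (.lf 0)))) (.nd (.nd (.nd (.lf 0x2a7) (.lf 0)) (.nd (.lf 0x253) (.lf 0))) (.nd (.nd (.lf 0x570) (.lf 0)) (.nd (.lf 0x6ec) (.lf 0))))) (.nd (.nd (.nd (.nd (.lf 0x168) (.lf 0x3eb)) (.nd (.lf 0x6af) (.lf 0))) (.nd (.nd (.lf 0x59d) (.lf 0)) (.nd (.lf 0x88d) (.lf 0)))) (.nd (.nd (.nd (.lf 0x3c4) (.lf 0)) (.nd (.lf 0x779) (.lf 0))) (.nd (.nd (.lf 0x91) (.lf 0)) (.nd (.lf 0x8b6) (.lf 0)))))) (.nd (.nd (.nd (.nd (.nd (.lf 0xb9) (.lf 0x720)) (.nd (.lf 0x796) (.lf 0))) (.nd (.nd (.lf 0xc1) (.lf 0)) (.nd (.lf 0x3d6) (.lf 0)))) (.nd (.nd (.nd (.lf 0x33a) (.lf 0)) (.nd (.lf 0x400) (.lf 0)))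 (.nd (.nd (.lf 0x131) (.lf 0)) (.nd (.lf 0x715) (.lf 0))))) (.nd (.nd (.nd (.nd (.lf 0x17d) (.lf 0x793)) (.nd (.lf 0x63e) (.lf 0))) (.nd (.nd (.lf 0x5f5) (.lf 0)) (.nd (.lf 0x5c2) (.lf 0)))) (.nd (.nd (.nd (.lf 0xc9) (.lf 0)) (.nd (.lf 0x848) (.lf 0))) (.nd (.nd (.lf 0x29e) (.lf 0)) (.nd (.lf 0x694) (.lf 0)))))))
def tabQ0_naaaaab : Tr := (.nd (.nd (.nd (.nd (.nd (.nd (.lf 0x5f) (.lf 0x864)) (.nd (.lf 0x4a) (.lf 0))) (.nd (.nd (.lf 0x4fb) (.lf 0)) (.nd (.lf 0x722) (.lf 0)))) (.nd (.nd (.nd (.lf 0x2f3) (.lf 0)) (.nd (.lf 0x82c) (.lf 0))) (.nd (.nd (.lf 0x676) (.lf 0)) (.nd (.lf 0x5) (.lf 0))))) (.nd (.nd (.nd (.nd (.lf 0x1bb) (.lf 0x1f5)) (.nd (.lf 0x76b) (.lf 0))) (.nd (.nd (.lf 0x5cd) (.lf 0)) (.nd (.lf 0x592) (.lf 0)))) (.nd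 (.nd (.nd (.lf 0x409) (.lf 0)) (.nd (.lf 0x3aa) (.lf 0))) (.nd (.nd (.lf 0x5f8) (.lf 0)) (.nd (.lf 0x5e) (.lf 0)))))) (.nd (.nd (.nd (.nd (.nd (.lf 0x111) (.lf 0x81e)) (.nd (.lf 0x7a9) (.lf 0))) (.nd (.nd (.lf 0x95) (.lf 0)) (.nd (.lf 0x701) (.lf 0)))) (.nd (.nd (.nd (.lf 0x381) (.lf 0)) (.nd (.lf 0x687) (.lf 0))) (.nd (.nd (.lf 0x64) (.lf 0)) (.nd (.lf 0x1bf) (.lf 0))))) (.nd (.nd (.nd (.nd (.lf 0x258) (.lf 0x4b6)) (.nd (.lf 0x801) (.lf 0))) (.nd (.nd (.lf 0x620) (.lf 0)) (.nd (.lf 0x8d6) (.lf 0)))) (.nd (.nd (.nd (.lf 0x181) (.lf 0)) (.nd (.lf 0x886) (.lf 0))) (.nd (.nd (.lf 0x41e) (.lf 0)) (.nd (.lf 0x827) (.lf 0)))))))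
def tabQ0_naaaaba : Tr := (.nd (.nd (.nd (.nd (.nd (.nd (.lf 0x31) (.lf 0x390)) (.nd (.lf 0x5ab) (.lf 0))) (.nd (.nd (.lf 0x4db) (.lf 0)) (.nd (.lf 0x893) (.lf 0)))) (.nd (.nd (.nd (.lf 0x2d0) (.lf 0)) (.nd (.lf 0x581) (.lf 0))) (.nd (.nd (.lf 0x660) (.lf 0)) (.nd (.lf 0x216) (.lf 0))))) (.nd (.nd (.nd (.nd (.lf 0x171) (.lf 0x2de)) (.nd (.lf 0x379) (.lf 0))) (.nd (.nd (.lf 0x1a4) (.lf 0)) (.nd (.lf 0x643) (.lf 0)))) (.nd (.nd (.nd (.lf 0x3ea) (.lf 0)) (.nd (.lf 0x129) (.lf 0))) (.nd (.nd (.lf 0x2ec) (.lf 0)) (.nd (.lf 0x457) (.lf 0)))))) (.nd (.nd (.nd (.nd (.nd (.lf 0xe5) (.lf 0x727)) (.nd (.lf 0x212) (.lf 0))) (.nd (.nd (.lf 0x547) (.lf 0)) (.nd (.lf 0x8aa) (.lf 0)))) (.nd (.nd (.nd (.lf 0x208) (.lf 0)) (.nd (.lf 0x4f6) (.lf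 0))) (.nd (.nd (.lf 0x7e) (.lf 0)) (.nd (.lf 0x4b2) (.lf 0))))) (.nd (.nd (.nd (.nd (.lf 0x232) (.lf 0xff)) (.nd (.lf 0x5cb) (.lf 0))) (.nd (.nd (.lf 0x102) (.lf 0)) (.nd (.lf 0xeb) (.lf 0)))) (.nd (.nd (.nd (.lf 0x339) (.lf 0)) (.nd (.lf 0x3b5) (.lf 0))) (.nd (.nd (.lf 0x285) (.lf 0)) (.nd (.lf 0x3b0) (.lf 0)))))))
def tabQ0_naaaabb : Tr := (.nd (.nd (.nd (.nd (.nd (.nd (.lf 0x8e) (.lf 0x8f4)) (.nd (.lf 0x5dd) (.lf 0))) (.nd (.nd (.lf 0x516) (.lf 0)) (.nd (.lf 0x5bd) (.lf 0)))) (.nd (.nd (.nd (.lf 0x31c) (.lf 0)) (.nd (.lf 0x838) (.lf 0))) (.nd (.nd (.lf 0x5a4) (.lf 0)) (.nd (.lf 0x49e) (.lf 0))))) (.nd (.nd (.nd (.nd (.lf 0x1e4) (.lf 0x78d)) (.nd (.lf 0x7cf) (.lf 0))) (.nd (.nd (.lf 0x5e0) (.lf 0)) (.nd (.lf 0xf0) (.lf 0))))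 (.nd (.nd (.nd (.lf 0x40c) (.lf 0)) (.nd (.lf 0x202) (.lf 0))) (.nd (.nd (.lf 0x714) (.lf 0)) (.nd (.lf 0x276) (.lf 0)))))) (.nd (.nd (.nd (.nd (.nd (.lf 0x13c) (.lf 0x117)) (.nd (.lf 0x6c7) (.lf 0))) (.nd (.nd (.lf 0x57c) (.lf 0)) (.nd (.lf 0x8b5) (.lf 0)))) (.nd (.nd (.nd (.lf 0x3a6) (.lf 0)) (.nd (.lf 0x5b3) (.lf 0))) (.nd (.nd (.lf 0x1ef) (.lf 0)) (.nd (.lf 0x54c) (.lf 0))))) (.nd (.nd (.nd (.nd (.lf 0x282) (.lf 0x312)) (.nd (.lf 0x303) (.lf 0))) (.nd (.nd (.lf 0x630) (.lf 0)) (.nd (.lf 0x14b) (.lf 0)))) (.nd (.nd (.nd (.lf 0x3d9) (.lf 0)) (.nd (.lf 0x4a9) (.lf 0))) (.nd (.nd (.lf 0x174) (.lf 0)) (.nd (.lf 0x555) (.lf 0)))))))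
def tabQ0_naaabaa : Tr := (.nd (.nd (.nd (.nd (.nd (.nd (.lf 0x19) (.lf 0x2d5)) (.nd (.lf 0x5b9) (.lf 0))) (.nd (.nd (.lf 0x4ca) (.lf 0)) (.nd (.lf 0x890) (.lf 0)))) (.nd (.nd (.nd (.lf 0x2bb) (.lf 0)) (.nd (.lf 0x81c) (.lf 0))) (.nd (.nd (.lf 0x49f) (.lf 0)) (.nd (.lf 0x62e) (.lf 0))))) (.nd (.nd (.nd (.nd (.lf 0x17c) (.lf 0x49b)) (.nd (.lf 0x777) (.lf 0))) (.nd (.nd (.lf 0x3ce) (.lf 0)) (.nd (.lf 0x397) (.lf 0)))) (.nd (.nd (.nd (.lf 0x3d7) (.lf 0)) (.nd (.lf 0x179) (.lf 0))) (.nd (.nd (.lf 0x6ed) (.lf 0)) (.nd (.lf 0x80d) (.lf 0)))))) (.nd (.nd (.nd (.nd (.nd (.lf 0xcf) (.lf 0x460)) (.nd (.lf 0x79a) (.lf 0))) (.nd (.nd (.lf 0xd0) (.lf 0)) (.nd (.lf 0x1b0) (.lf 0)))) (.nd (.nd (.nd (.lf 0x227) (.lf 0)) (.nd (.lf 0x845) (.lf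 0))) (.nd (.nd (.lf 0x6a6) (.lf 0)) (.nd (.lf 0x84) (.lf 0))))) (.nd (.nd (.nd (.nd (.lf 0x222) (.lf 0x8f2)) (.nd (.lf 0x7f3) (.lf 0))) (.nd (.nd (.lf 0x602) (.lf 0)) (.nd (.lf 0x4cd) (.lf 0)))) (.nd (.nd (.nd (.lf 0x454) (.lf 0)) (.nd (.lf 0x770) (.lf 0))) (.nd (.nd (.lf 0x143) (.lf 0)) (.nd (.lf 0x8f5) (.lf 0)))))))
def tabQ0_naaabab : Tr := (.nd (.nd (.nd (.nd (.nd (.nd (.lf 0x77) (.lf 0x8d4)) (.nd (.lf 0x77f) (.lf 0))) (.nd (.nd (.lf 0x509) (.lf 0)) (.nd (.lf 0x89c) (.lf 0)))) (.nd (.nd (.nd (.lf 0x306) (.lf 0)) (.nd (.lf 0x6ce) (.lf 0))) (.nd (.nd (.lf 0x681) (.lf 0)) (.nd (.lf 0x2cc) (.lf 0))))) (.nd (.nd (.nd (.nd (.lf 0x1d2) (.lf 0x445)) (.nd (.lf 0x7e1) (.lf 0))) (.nd (.nd (.lf 0x75) (.lf 0)) (.nd (.lf 0x186) (.lf 0))))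 (.nd (.nd (.nd (.lf 0x28d) (.lf 0)) (.nd (.lf 0x3fa) (.lf 0))) (.nd (.nd (.lf 0x53) (.lf 0)) (.nd (.lf 0x501) (.lf 0)))))) (.nd (.nd (.nd (.nd (.nd (.lf 0x124) (.lf 0x8e3)) (.nd (.lf 0x7ad) (.lf 0))) (.nd (.nd (.lf 0x56e) (.lf 0)) (.nd (.lf 0x60) (.lf 0)))) (.nd (.nd (.nd (.lf 0x7b) (.lf 0)) (.nd (.lf 0x803) (.lf 0))) (.nd (.nd (.lf 0x2ef) (.lf 0)) (.nd (.lf 0x1b4) (.lf 0))))) (.nd (.nd (.nd (.nd (.lf 0x26d) (.lf 0x87f)) (.nd (.lf 0x55c) (.lf 0))) (.nd (.nd (.lf 0x3dd) (.lf 0)) (.nd (.lf 0x185) (.lf 0)))) (.nd (.nd (.nd (.lf 0x42d) (.lf 0)) (.nd (.lf 0xb2) (.lf 0))) (.nd (.nd (.lf 0x6da) (.lf 0)) (.nd (.lf 0x8) (.lf 0)))))))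
def tabQ0_naaabba : Tr := (.nd (.nd (.nd (.nd (.nd (.nd (.lf 0x48) (.lf 0x1cd)) (.nd (.lf 0x427) (.lf 0))) (.nd (.nd (.lf 0x4ec) (.lf 0)) (.nd (.lf 0x2f6) (.lf 0)))) (.nd (.nd (.nd (.lf 0x18d) (.lf 0)) (.nd (.lf 0x826) (.lf 0))) (.nd (.nd (.lf 0x5d0) (.lf 0)) (.nd (.lf 0x712) (.lf 0))))) (.nd (.nd (.nd (.nd (.lf 0x1a5) (.lf 0x861)) (.nd (.lf 0xb6) (.lf 0))) (.nd (.nd (.lf 0x52f) (.lf 0)) (.nd (.lf 0x596) (.lf 0)))) (.nd (.nd (.nd (.lf 0x8f) (.lf 0)) (.nd (.lf 0x53d) (.lf 0))) (.nd (.nd (.lf 0x700) (.lf 0)) (.nd (.lf 0x206) (.lf 0)))))) (.nd (.nd (.nd (.nd (.nd (.lf 0xfb) (.lf 0x482)) (.nd (.lf 0x69) (.lf 0))) (.nd (.nd (.lf 0x554) (.lf 0)) (.nd (.lf 0x615) (.lf 0)))) (.nd (.nd (.nd (.lf 0x154) (.lf 0)) (.nd (.lf 0x560) (.lf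 0))) (.nd (.nd (.lf 0x6b9) (.lf 0)) (.nd (.lf 0x652) (.lf 0))))) (.nd (.nd (.nd (.nd (.lf 0x247) (.lf 0x2ee)) (.nd (.lf 0x5a3) (.lf 0))) (.nd (.nd (.lf 0x36f) (.lf 0)) (.nd (.lf 0x8d3) (.lf 0)))) (.nd (.nd (.nd (.lf 0x473) (.lf 0)) (.nd (.lf 0x881) (.lf 0))) (.nd (.nd (.lf 0x98) (.lf 0)) (.nd (.lf 0x614) (.lf 0)))))))
def tabQ0_naaabbb : Tr := (.nd (.nd (.nd (.nd (.nd (.nd (.lf 0xa2) (.lf 0x77a)) (.nd (.lf 0x6a1) (.lf 0))) (.nd (.nd (.lf 0x264) (.lf 0)) (.nd (.lf 0x6d0) (.lf 0)))) (.nd (.nd (.nd (.lf 0x328) (.lf 0)) (.nd (.lf 0x349) (.lf 0))) (.nd (.nd (.lf 0x699) (.lf 0)) (.nd (.lf 0x451) (.lf 0))))) (.nd (.nd (.nd (.nd (.lf 0x40) (.lf 0x24b)) (.nd (.lf 0x7e8) (.lf 0))) (.nd (.nd (.lf 0x5ea) (.lf 0)) (.nd (.lf 0x8c8) (.lf 0))))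 (.nd (.nd (.nd (.lf 0x439) (.lf 0)) (.nd (.lf 0x193) (.lf 0))) (.nd (.nd (.lf 0x6b1) (.lf 0)) (.nd (.lf 0x8b4) (.lf 0)))))) (.nd (.nd (.nd (.nd (.nd (.lf 0x1a) (.lf 0x704)) (.nd (.lf 0x54f) (.lf 0))) (.nd (.nd (.lf 0x58c) (.lf 0)) (.nd (.lf 0x455) (.lf 0)))) (.nd (.nd (.nd (.lf 0x5d) (.lf 0)) (.nd (.lf 0x85d) (.lf 0))) (.nd (.nd (.lf 0x6d5) (.lf 0)) (.nd (.lf 0x5c0) (.lf 0))))) (.nd (.nd (.nd (.nd (.lf 0x293) (.lf 0x373)) (.nd (.lf 0x346) (.lf 0))) (.nd (.nd (.lf 0x593) (.lf 0)) (.nd (.lf 0xc3) (.lf 0)))) (.nd (.nd (.nd (.lf 0x1cb) (.lf 0)) (.nd (.lf 0x599) (.lf 0))) (.nd (.nd (.lf 0x751) (.lf 0)) (.nd (.lf 0x678) (.lf 0)))))))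
def tabQ0_naabaaa : Tr := (.nd (.nd (.nd (.nd (.nd (.nd (.lf 0xd) (.lf 0x5ae)) (.nd (.lf 0x759) (.lf 0))) (.nd (.nd (.lf 0x4bf) (.lf 0)) (.nd (.lf 0x728) (.lf 0)))) (.nd (.nd (.nd (.lf 0x2b0) (.lf 0)) (.nd (.lf 0x76a) (.lf 0))) (.nd (.nd (.lf 0xa0) (.lf 0)) (.nd (.lf 0x3dc) (.lf 0))))) (.nd (.nd (.nd (.nd (.lf 0x172) (.lf 0x537)) (.nd (.lf 0x2e0) (.lf 0))) (.nd (.nd (.lf 0x511) (.lf 0)) (.nd (.lf 0x30a) (.lf 0)))) (.nd (.nd (.nd (.lf 0x248) (.lf 0)) (.nd (.lf 0x24a) (.lf 0))) (.nd (.nd (.lf 0x6e7) (.lf 0)) (.nd (.lf 0x16c) (.lf 0)))))) (.nd (.nd (.nd (.nd (.nd (.lf 0xc5) (.lf 0x89d)) (.nd (.lf 0x798) (.lf 0))) (.nd (.nd (.lf 0x539) (.lf 0)) (.nd (.lf 0x8a8) (.lf 0)))) (.nd (.nd (.nd (.lf 0x177) (.lf 0)) (.nd (.lf 0x842) (.lf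 0))) (.nd (.nd (.lf 0x370) (.lf 0)) (.nd (.lf 0x859) (.lf 0))))) (.nd (.nd (.nd (.nd (.lf 0x217) (.lf 0x2f4)) (.nd (.lf 0x240) (.lf 0))) (.nd (.nd (.lf 0x5fb) (.lf 0)) (.nd (.lf 0x274) (.lf 0)))) (.nd (.nd (.nd (.lf 0x401) (.lf 0)) (.nd (.lf 0x4d7) (.lf 0))) (.nd (.nd (.lf 0x15a) (.lf 0)) (.nd (.lf 0x532) (.lf 0)))))))
def tabQ0_naabaab : Tr := (.nd (.nd (.nd (.nd (.nd (.nd (.lf 0x6b) (.lf 0x18b)) (.nd (.lf 0x1e9) (.lf 0))) (.nd (.nd (.lf 0x502) (.lf 0)) (.nd (.lf 0x523) (.lf 0)))) (.nd (.nd (.nd (.lf 0x2fd) (.lf 0)) (.nd (.lf 0x18e) (.lf 0))) (.nd (.nd (.lf 0x67a) (.lf 0)) (.nd (.lf 0x7c2) (.lf 0))))) (.nd (.nd (.nd (.nd (.lf 0x1c7) (.lf 0x8ea)) (.nd (.lf 0x7dd) (.lf 0))) (.nd (.nd (.lf 0x30c) (.lf 0)) (.nd (.lf 0x75d) (.lf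 0)))) (.nd (.nd (.nd (.lf 0x411) (.lf 0)) (.nd (.lf 0x36d) (.lf 0))) (.nd (.nd (.lf 0x2bf) (.lf 0)) (.nd (.lf 0x8be) (.lf 0)))))) (.nd (.nd (.nd (.nd (.nd (.lf 0x118) (.lf 0x834)) (.nd (.lf 0x280) (.lf 0))) (.nd (.nd (.lf 0x471) (.lf 0)) (.nd (.lf 0x62b) (.lf 0)))) (.nd (.nd (.nd (.lf 0x38c) (.lf 0)) (.nd (.lf 0x851) (.lf 0))) (.nd (.nd (.lf 0x6c4) (.lf 0)) (.nd (.lf 0x2fe) (.lf 0))))) (.nd (.nd (.nd (.nd (.lf 0x262) (.lf 0x879)) (.nd (.lf 0x639) (.lf 0))) (.nd (.nd (.lf 0x1ab) (.lf 0)) (.nd (.lf 0x70d) (.lf 0)))) (.nd (.nd (.nd (.lf 0x48d) (.lf 0)) (.nd (.lf 0x853) (.lf 0))) (.nd (.nd (.lf 0x65b) (.lf 0)) (.nd (.lf 0x6b3) (.lf 0)))))))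
def tabQ0_naababa : Tr := (.nd (.nd (.nd (.nd (.nd (.nd (.lf 0x3c) (.lf 0x7ab)) (.nd (.lf 0x766) (.lf 0))) (.nd (.nd (.lf 0x4e2) (.lf 0)) (.nd (.lf 0x170) (.lf 0)))) (.nd (.nd (.nd (.lf 0x2dc) (.lf 0)) (.nd (.lf 0x310) (.lf 0))) (.nd (.nd (.lf 0x8d) (.lf 0)) (.nd (.lf 0x6e2) (.lf 0))))) (.nd (.nd (.nd (.nd (.lf 0x19a) (.lf 0x584)) (.nd (.lf 0x7d2) (.lf 0))) (.nd (.nd (.lf 0x5bc) (.lf 0)) (.nd (.lf 0x4d6) (.lf 0)))) (.nd (.nd (.nd (.lf 0x3f2) (.lf 0)) (.nd (.lf 0x39) (.lf 0))) (.nd (.nd (.lf 0x6f9) (.lf 0)) (.nd (.lf 0x6f6) (.lf 0)))))) (.nd (.nd (.nd (.nd (.nd (.lf 0xef) (.lf 0x20b)) (.nd (.lf 0x32d) (.lf 0))) (.nd (.nd (.lf 0xcb) (.lf 0)) (.nd (.lf 0x5df) (.lf 0)))) (.nd (.nd (.nd (.lf 0x367) (.lf 0)) (.nd (.lf 0x221) (.lf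 0))) (.nd (.nd (.lf 0x6b4) (.lf 0)) (.nd (.lf 0x83f) (.lf 0))))) (.nd (.nd (.nd (.nd (.lf 0x23b) (.lf 0x3ef)) (.nd (.lf 0x135) (.lf 0))) (.nd (.nd (.lf 0x612) (.lf 0)) (.nd (.lf 0x8d1) (.lf 0)))) (.nd (.nd (.nd (.lf 0x2ff) (.lf 0)) (.nd (.lf 0x323) (.lf 0))) (.nd (.nd (.lf 0x70c) (.lf 0)) (.nd (.lf 0x792) (.lf 0)))))))
def tabQ0_naababb : Tr := (.nd (.nd (.nd (.nd (.nd (.nd (.lf 0x99) (.lf 0x740)) (.nd (.lf 0x61c) (.lf 0))) (.nd (.nd (.lf 0x51b) (.lf 0)) (.nd (.lf 0x56d) (.lf 0)))) (.nd (.nd (.nd (.lf 0x322) (.lf 0)) (.nd (.lf 0x72c) (.lf 0))) (.nd (.nd (.lf 0x2ea) (.lf 0)) (.nd (.lf 0x8ac) (.lf 0))))) (.nd (.nd (.nd (.nd (.lf 0x1ee) (.lf 0x651)) (.nd (.lf 0x653) (.lf 0))) (.nd (.nd (.lf 0x552) (.lf 0)) (.nd (.lf 0x5b0) (.lf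 0)))) (.nd (.nd (.nd (.lf 0x18f) (.lf 0)) (.nd (.lf 0x2b8) (.lf 0))) (.nd (.nd (.lf 0x3a7) (.lf 0)) (.nd (.lf 0x7c4) (.lf 0)))))) (.nd (.nd (.nd (.nd (.nd (.lf 0x148) (.lf 0x5d3)) (.nd (.lf 0x786) (.lf 0))) (.nd (.nd (.lf 0x585) (.lf 0)) (.nd (.lf 0x8a0) (.lf 0)))) (.nd (.nd (.nd (.lf 0x1a0) (.lf 0)) (.nd (.lf 0x85a) (.lf 0))) (.nd (.nd (.lf 0x2b4) (.lf 0)) (.nd (.lf 0x781) (.lf 0))))) (.nd (.nd (.nd (.nd (.lf 0x41) (.lf 0x435)) (.nd (.lf 0x7d8) (.lf 0))) (.nd (.nd (.lf 0x526) (.lf 0)) (.nd (.lf 0x1c0) (.lf 0)))) (.nd (.nd (.nd (.lf 0x4a6) (.lf 0)) (.nd (.lf 0x829) (.lf 0))) (.nd (.nd (.lf 0x5a7) (.lf 0)) (.nd (.lf 0x885) (.lf 0)))))))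
def tabQ0_naabbaa : Tr := (.nd (.nd (.nd (.nd (.nd (.nd (.lf 0x25) (.lf 0x634)) (.nd (.lf 0x4e3) (.lf 0))) (.nd (.nd (.lf 0x4d3) (.lf 0)) (.nd (.lf 0x891) (.lf 0)))) (.nd (.nd (.nd (.lf 0x2c5) (.lf 0)) (.nd (.lf 0x4fa) (.lf 0))) (.nd (.nd (.lf 0x47) (.lf 0)) (.nd (.lf 0x89a) (.lf 0))))) (.nd (.nd (.nd (.nd (.lf 0x166) (.lf 0x6d3)) (.nd (.lf 0x46d) (.lf 0))) (.nd (.nd (.lf 0x5b1) (.lf 0)) (.nd (.lf 0x3fe) (.lf 0)))) (.nd (.nd (.nd (.lf 0x2a3) (.lf 0)) (.nd (.lf 0x6f0) (.lf 0))) (.nd (.nd (.lf 0x6b7) (.lf 0)) (.nd (.lf 0x3f6) (.lf 0)))))) (.nd (.nd (.nd (.nd (.nd (.lf 0xdb) (.lf 0x132)) (.nd (.lf 0x795) (.lf 0))) (.nd (.nd (.lf 0x2f1) (.lf 0)) (.nd (.lf 0x5e3) (.lf 0)))) (.nd (.nd (.nd (.lf 0x356) (.lf 0)) (.nd (.lf 0x640) (.lf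 0))) (.nd (.nd (.lf 0x4e0) (.lf 0)) (.nd (.lf 0x88e) (.lf 0))))) (.nd (.nd (.nd (.nd (.lf 0x229) (.lf 0x889)) (.nd (.lf 0x7f5) (.lf 0))) (.nd (.nd (.lf 0x608) (.lf 0)) (.nd (.lf 0x70e) (.lf 0)))) (.nd (.nd (.nd (.lf 0x45c) (.lf 0)) (.nd (.lf 0x199) (.lf 0))) (.nd (.nd (.lf 0x13e) (.lf 0)) (.nd (.lf 0x6c5) (.lf 0)))))))
def tabQ0_naabbab : Tr := (.nd (.nd (.nd (.nd (.nd (.nd (.lf 0x83) (.lf 0x354)) (.nd (.lf 0x6db) (.lf 0))) (.nd (.nd (.lf 0x1e5) (.lf 0)) (.nd (.lf 0x1c8) (.lf 0)))) (.nd (.nd (.nd (.lf 0x311) (.lf 0)) (.nd (.lf 0x791) (.lf 0))) (.nd (.nd (.lf 0x38a) (.lf 0)) (.nd (.lf 0x8a1) (.lf 0))))) (.nd (.nd (.nd (.nd (.lf 0x1dd) (.lf 0x89)) (.nd (.lf 0x717) (.lf 0))) (.nd (.nd (.lf 0x5d9) (.lf 0)) (.nd (.lf 0x8c4) (.lf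 0)))) (.nd (.nd (.nd (.lf 0x420) (.lf 0)) (.nd (.lf 0x56f) (.lf 0))) (.nd (.nd (.lf 0x662) (.lf 0)) (.nd (.lf 0x81a) (.lf 0)))))) (.nd (.nd (.nd (.nd (.nd (.lf 0x130) (.lf 0x6dd)) (.nd (.lf 0x469) (.lf 0))) (.nd (.nd (.lf 0x574) (.lf 0)) (.nd (.lf 0x481) (.lf 0)))) (.nd (.nd (.nd (.lf 0x39e) (.lf 0)) (.nd (.lf 0x572) (.lf 0))) (.nd (.nd (.lf 0x6cd) (.lf 0)) (.nd (.lf 0x8e8) (.lf 0))))) (.nd (.nd (.nd (.nd (.lf 0x278) (.lf 0x7bc)) (.nd (.lf 0x809) (.lf 0))) (.nd (.nd (.lf 0x33) (.lf 0)) (.nd (.lf 0x624) (.lf 0)))) (.nd (.nd (.nd (.lf 0x498) (.lf 0)) (.nd (.lf 0x52c) (.lf 0))) (.nd (.nd (.lf 0x748) (.lf 0)) (.nd (.lf 0x2e4) (.lf 0)))))))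
def tabQ0_naabbba : Tr := (.nd (.nd (.nd (.nd (.nd (.nd (.lf 0x54) (.lf 0x5f3)) (.nd (.lf 0x771) (.lf 0))) (.nd (.nd (.lf 0x4f2) (.lf 0)) (.nd (.lf 0x59c) (.lf 0)))) (.nd (.nd (.nd (.lf 0x2eb) (.lf 0)) (.nd (.lf 0x6c0) (.lf 0))) (.nd (.nd (.lf 0x670) (.lf 0)) (.nd (.lf 0x416) (.lf 0))))) (.nd (.nd (.nd (.nd (.lf 0x1af) (.lf 0x6cc)) (.nd (.lf 0x298) (.lf 0))) (.nd (.nd (.lf 0xaa) (.lf 0)) (.nd (.lf 0x611) (.lf 0)))) (.nd (.nd (.nd (.lf 0x402) (.lf 0)) (.nd (.lf 0x7cc) (.lf 0))) (.nd (.nd (.lf 0x66c) (.lf 0)) (.nd (.lf 0x4d) (.lf 0)))))) (.nd (.nd (.nd (.nd (.nd (.lf 0x106) (.lf 0x8ed)) (.nd (.lf 0x7a5) (.lf 0))) (.nd (.nd (.lf 0x55b) (.lf 0)) (.nd (.lf 0x8af) (.lf 0)))) (.nd (.nd (.nd (.lf 0x378) (.lf 0)) (.nd (.lf 0x579) (.lf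 0))) (.nd (.nd (.lf 0x1a6) (.lf 0)) (.nd (.lf 0x4a4) (.lf 0))))) (.nd (.nd (.nd (.nd (.lf 0x250) (.lf 0x2c4)) (.nd (.lf 0x15f) (.lf 0))) (.nd (.nd (.lf 0x231) (.lf 0)) (.nd (.lf 0x880) (.lf 0)))) (.nd (.nd (.nd (.lf 0x47d) (.lf 0)) (.nd (.lf 0xb8) (.lf 0))) (.nd (.nd (.lf 0x5ca) (.lf 0)) (.nd (.lf 0x841) (.lf 0)))))))
def tabQ0_naabbbb : Tr := (.nd (.nd (.nd (.nd (.nd (.nd (.lf 0xae) (.lf 0x88a)) (.nd (.lf 0x307) (.lf 0))) (.nd (.nd (.lf 0x529) (.lf 0)) (.nd (.lf 0x5af) (.lf 0)))) (.nd (.nd (.nd (.lf 0x330) (.lf 0)) (.nd (.lf 0x5d6) (.lf 0))) (.nd (.nd (.lf 0xd6) (.lf 0)) (.nd (.lf 0x41f) (.lf 0))))) (.nd (.nd (.nd (.nd (.lf 0x201) (.lf 0x78a)) (.nd (.lf 0x11c) (.lf 0))) (.nd (.nd (.lf 0x5f0) (.lf 0)) (.nd (.lf 0x6fe) (.lf 0))))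 (.nd (.nd (.nd (.lf 0x444) (.lf 0)) (.nd (.lf 0x736) (.lf 0))) (.nd (.nd (.lf 0x2a6) (.lf 0)) (.nd (.lf 0x7b5) (.lf 0)))))) (.nd (.nd (.nd (.nd (.nd (.lf 0x15e) (.lf 0x7b4)) (.nd (.lf 0x1f7) (.lf 0))) (.nd (.nd (.lf 0x176) (.lf 0)) (.nd (.lf 0x5ce) (.lf 0)))) (.nd (.nd (.nd (.lf 0x3bc) (.lf 0)) (.nd (.lf 0x4dd) (.lf 0))) (.nd (.nd (.lf 0x156) (.lf 0)) (.nd (.lf 0x854) (.lf 0))))) (.nd (.nd (.nd (.nd (.lf 0x29d) (.lf 0x79d)) (.nd (.lf 0x522) (.lf 0))) (.nd (.nd (.lf 0x41a) (.lf 0)) (.nd (.lf 0x894) (.lf 0)))) (.nd (.nd (.nd (.lf 0x38d) (.lf 0)) (.nd (.lf 0x1f9) (.lf 0))) (.nd (.nd (.lf 0x644) (.lf 0)) (.nd (.lf 0x558) (.lf 0)))))))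
def tabQ0_nabaaaa : Tr := (.nd (.nd (.nd (.nd (.nd (.nd (.lf 0x7) (.lf 0x86a)) (.nd (.lf 0x756) (.lf 0))) (.nd (.nd (.lf 0x4ba) (.lf 0)) (.nd (.lf 0x589) (.lf 0)))) (.nd (.nd (.nd (.lf 0x2ac) (.lf 0)) (.nd (.lf 0x818) (.lf 0))) (.nd (.nd (.lf 0x343) (.lf 0)) (.nd (.lf 0x188) (.lf 0))))) (.nd (.nd (.nd (.nd (.lf 0x16d) (.lf 0x3c8)) (.nd (.lf 0x7bf) (.lf 0))) (.nd (.nd (.lf 0x29f) (.lf 0)) (.nd (.lf 0x58f) (.lf 0)))) (.nd (.nd (.nd (.lf 0x3c9) (.lf 0)) (.nd (.lf 0x49d) (.lf 0))) (.nd (.nd (.lf 0x6e4) (.lf 0)) (.nd (.lf 0x8db) (.lf 0)))))) (.nd (.nd (.nd (.nd (.nd (.lf 0xbf) (.lf 0x22a)) (.nd (.lf 0x6d8) (.lf 0))) (.nd (.nd (.lf 0x534) (.lf 0)) (.nd (.lf 0x86f) (.lf 0)))) (.nd (.nd (.nd (.lf 0x33f) (.lf 0)) (.nd (.lf 0x255) (.lf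 0))) (.nd (.nd (.lf 0x414) (.lf 0)) (.nd (.lf 0x7b9) (.lf 0))))) (.nd (.nd (.nd (.nd (.lf 0x211) (.lf 0x8ad)) (.nd (.lf 0x7ef) (.lf 0))) (.nd (.nd (.lf 0x2b5) (.lf 0)) (.nd (.lf 0xb) (.lf 0)))) (.nd (.nd (.nd (.lf 0x44b) (.lf 0)) (.nd (.lf 0x7da) (.lf 0))) (.nd (.nd (.lf 0x236) (.lf 0)) (.nd (.lf 0x63a) (.lf 0)))))))
def tabQ0_nabaaab : Tr := (.nd (.nd (.nd (.nd (.nd (.nd (.lf 0x65) (.lf 0x421)) (.nd (.lf 0x668) (.lf 0))) (.nd (.nd (.lf 0x4fe) (.lf 0)) (.nd (.lf 0x860) (.lf 0)))) (.nd (.nd (.nd (.lf 0x2f8) (.lf 0)) (.nd (.lf 0x313) (.lf 0))) (.nd (.nd (.lf 0x289) (.lf 0)) (.nd (.lf 0x72) (.lf 0))))) (.nd (.nd (.nd (.nd (.lf 0x1c1) (.lf 0x2e6)) (.nd (.lf 0x7d9) (.lf 0))) (.nd (.nd (.lf 0x105) (.lf 0)) (.nd (.lf 0xf1) (.lf 0))))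 (.nd (.nd (.nd (.lf 0x40e) (.lf 0)) (.nd (.lf 0x647) (.lf 0))) (.nd (.nd (.lf 0x443) (.lf 0)) (.nd (.lf 0x6df) (.lf 0)))))) (.nd (.nd (.nd (.nd (.nd (.lf 0x112) (.lf 0x742)) (.nd (.lf 0x12f) (.lf 0))) (.nd (.nd (.lf 0x565) (.lf 0)) (.nd (.lf 0x807) (.lf 0)))) (.nd (.nd (.nd (.lf 0x386) (.lf 0)) (.nd (.lf 0x83c) (.lf 0))) (.nd (.nd (.lf 0x6c1) (.lf 0)) (.nd (.lf 0x6b5) (.lf 0))))) (.nd (.nd (.nd (.nd (.lf 0x25d) (.lf 0x149)) (.nd (.lf 0x802) (.lf 0))) (.nd (.nd (.lf 0x35e) (.lf 0)) (.nd (.lf 0x82d) (.lf 0)))) (.nd (.nd (.nd (.lf 0x488) (.lf 0)) (.nd (.lf 0x637) (.lf 0))) (.nd (.nd (.lf 0x741) (.lf 0)) (.nd (.lf 0x3ca) (.lf 0)))))))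
def tabQ0_nabaaba : Tr := (.nd (.nd (.nd (.nd (.nd (.nd (.lf 0x37) (.lf 0x87a)) (.nd (.lf 0x438) (.lf 0))) (.nd (.nd (.lf 0x4df) (.lf 0)) (.nd (.lf 0x618) (.lf 0)))) (.nd (.nd (.nd (.lf 0x2d6) (.lf 0)) (.nd (.lf 0x195) (.lf 0))) (.nd (.nd (.lf 0x663) (.lf 0)) (.nd (.lf 0x37c) (.lf 0))))) (.nd (.nd (.nd (.nd (.lf 0x194) (.lf 0x1d9)) (.nd (.lf 0x113) (.lf 0))) (.nd (.nd (.lf 0x0) (.lf 0)) (.nd (.lf 0x125) (.lf 0)))) (.nd (.nd (.nd (.lf 0x3f0) (.lf 0)) (.nd (.lf 0x234) (.lf 0))) (.nd (.nd (.lf 0x6f7) (.lf 0)) (.nd (.lf 0x21a) (.lf 0)))))) (.nd (.nd (.nd (.nd (.nd (.lf 0xea) (.lf 0x9e)) (.nd (.lf 0x458) (.lf 0))) (.nd (.nd (.lf 0x54a) (.lf 0)) (.nd (.lf 0x60e) (.lf 0)))) (.nd (.nd (.nd (.lf 0x362) (.lf 0)) (.nd (.lf 0x84a) (.lf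 0))) (.nd (.nd (.lf 0x4ee) (.lf 0)) (.nd (.lf 0x7fe) (.lf 0))))) (.nd (.nd (.nd (.nd (.lf 0x238) (.lf 0x7de)) (.nd (.lf 0x7f7) (.lf 0))) (.nd (.nd (.lf 0x580) (.lf 0)) (.nd (.lf 0x512) (.lf 0)))) (.nd (.nd (.nd (.lf 0x46a) (.lf 0)) (.nd (.lf 0x1d) (.lf 0))) (.nd (.nd (.lf 0x731) (.lf 0)) (.nd (.lf 0x3ae) (.lf 0)))))))
def tabQ0_nabaabb : Tr := (.nd (.nd (.nd (.nd (.nd (.nd (.lf 0x93) (.lf 0x6ab)) (.nd (.lf 0x75e) (.lf 0))) (.nd (.nd (.lf 0x518) (.lf 0)) (.nd (.lf 0x872) (.lf 0)))) (.nd (.nd (.nd (.lf 0x205) (.lf 0)) (.nd (.lf 0x839) (.lf 0))) (.nd (.nd (.lf 0x42e) (.lf 0)) (.nd (.lf 0x450) (.lf 0))))) (.nd (.nd (.nd (.nd (.lf 0x1ea) (.lf 0x8d2)) (.nd (.lf 0x87) (.lf 0))) (.nd (.nd (.lf 0x5e2) (.lf 0)) (.nd (.lf 0x8c5) (.lf 0))))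 (.nd (.nd (.nd (.lf 0x42c) (.lf 0)) (.nd (.lf 0xe8) (.lf 0))) (.nd (.nd (.lf 0x718) (.lf 0)) (.nd (.lf 0x686) (.lf 0)))))) (.nd (.nd (.nd (.nd (.nd (.lf 0x142) (.lf 0x3cf)) (.nd (.lf 0x3e) (.lf 0))) (.nd (.nd (.lf 0x14e) (.lf 0)) (.nd (.lf 0x45d) (.lf 0)))) (.nd (.nd (.nd (.lf 0x37a) (.lf 0)) (.nd (.lf 0x5b7) (.lf 0))) (.nd (.nd (.lf 0x4c9) (.lf 0)) (.nd (.lf 0x48a) (.lf 0))))) (.nd (.nd (.nd (.nd (.lf 0x287) (.lf 0x81b)) (.nd (.lf 0x80e) (.lf 0))) (.nd (.nd (.lf 0x635) (.lf 0)) (.nd (.lf 0x8d9) (.lf 0)))) (.nd (.nd (.nd (.lf 0x4a2) (.lf 0)) (.nd (.lf 0x384) (.lf 0))) (.nd (.nd (.lf 0x74b) (.lf 0)) (.nd (.lf 0x21d) (.lf 0)))))))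
def tabQ0_nababaa : Tr := (.nd (.nd (.nd (.nd (.nd (.nd (.lf 0x1f) (.lf 0x808)) (.nd (.lf 0x53a) (.lf 0))) (.nd (.nd (.lf 0x4cf) (.lf 0)) (.nd (.lf 0x169) (.lf 0)))) (.nd (.nd (.nd (.lf 0x2c0) (.lf 0)) (.nd (.lf 0x684) (.lf 0))) (.nd (.nd (.lf 0x358) (.lf 0)) (.nd (.lf 0x398) (.lf 0))))) (.nd (.nd (.nd (.nd (.lf 0x180) (.lf 0x30)) (.nd (.lf 0x7c5) (.lf 0))) (.nd (.nd (.lf 0xc0) (.lf 0)) (.nd (.lf 0x8bb) (.lf 0)))) (.nd (.nd (.nd (.lf 0x2df) (.lf 0)) (.nd (.lf 0x62c) (.lf 0))) (.nd (.nd (.lf 0x20c) (.lf 0)) (.nd (.lf 0x80f) (.lf 0)))))) (.nd (.nd (.nd (.nd (.nd (.lf 0xd5) (.lf 0x36a)) (.nd (.lf 0x6e0) (.lf 0))) (.nd (.nd (.lf 0xfa) (.lf 0)) (.nd (.lf 0x75c) (.lf 0)))) (.nd (.nd (.nd (.lf 0x351) (.lf 0)) (.nd (.lf 0x847) (.lf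 0))) (.nd (.nd (.lf 0x2e7) (.lf 0)) (.nd (.lf 0x3a8) (.lf 0))))) (.nd (.nd (.nd (.nd (.lf 0x226) (.lf 0xe9)) (.nd (.lf 0x292) (.lf 0))) (.nd (.nd (.lf 0x198) (.lf 0)) (.nd (.lf 0x8a) (.lf 0)))) (.nd (.nd (.nd (.lf 0x459) (.lf 0)) (.nd (.lf 0x2b1) (.lf 0))) (.nd (.nd (.lf 0x9c) (.lf 0)) (.nd (.lf 0xda) (.lf 0)))))))
def tabQ0_nababab : Tr := (.nd (.nd (.nd (.nd (.nd (.nd (.lf 0x7d) (.lf 0x29b)) (.nd (.lf 0x43a) (.lf 0))) (.nd (.nd (.lf 0x50c) (.lf 0)) (.nd (.lf 0x4be) (.lf 0)))) (.nd (.nd (.nd (.lf 0x81) (.lf 0)) (.nd (.lf 0x6a) (.lf 0))) (.nd (.nd (.lf 0x683) (.lf 0)) (.nd (.lf 0xac) (.lf 0))))) (.nd (.nd (.nd (.nd (.lf 0x1d8) (.lf 0x5c9)) (.nd (.lf 0x527) (.lf 0))) (.nd (.nd (.lf 0x19c) (.lf 0)) (.nd (.lf 0x41d) (.lf 0))))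 (.nd (.nd (.nd (.lf 0x41c) (.lf 0)) (.nd (.lf 0x16e) (.lf 0))) (.nd (.nd (.lf 0x25c) (.lf 0)) (.nd (.lf 0x1f2) (.lf 0)))))) (.nd (.nd (.nd (.nd (.nd (.lf 0x12a) (.lf 0x65e)) (.nd (.lf 0x7af) (.lf 0))) (.nd (.nd (.lf 0x556) (.lf 0)) (.nd (.lf 0x7e7) (.lf 0)))) (.nd (.nd (.nd (.lf 0x39a) (.lf 0)) (.nd (.lf 0x819) (.lf 0))) (.nd (.nd (.lf 0x6ca) (.lf 0)) (.nd (.lf 0x3d5) (.lf 0))))) (.nd (.nd (.nd (.nd (.lf 0x272) (.lf 0x7ba)) (.nd (.lf 0x58b) (.lf 0))) (.nd (.nd (.lf 0x4f5) (.lf 0)) (.nd (.lf 0x709) (.lf 0)))) (.nd (.nd (.nd (.lf 0x200) (.lf 0)) (.nd (.lf 0x1ac) (.lf 0))) (.nd (.nd (.lf 0x48f) (.lf 0)) (.nd (.lf 0x465) (.lf 0)))))))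
def tabQ0_nababba : Tr := (.nd (.nd (.nd (.nd (.nd (.nd (.lf 0x4e) (.lf 0x538)) (.nd (.lf 0x76c) (.lf 0))) (.nd (.nd (.lf 0x4f0) (.lf 0)) (.nd (.lf 0x470) (.lf 0)))) (.nd (.nd (.nd (.lf 0x2dd) (.lf 0)) (.nd (.lf 0x828) (.lf 0))) (.nd (.nd (.lf 0x94) (.lf 0)) (.nd (.lf 0x7d0) (.lf 0))))) (.nd (.nd (.nd (.nd (.lf 0x1aa) (.lf 0x764)) (.nd (.lf 0x77e) (.lf 0))) (.nd (.nd (.lf 0x568) (.lf 0)) (.nd (.lf 0x816) (.lf 0)))) (.nd (.nd (.nd (.lf 0x3fd) (.lf 0)) (.nd (.lf 0x1ba) (.lf 0))) (.nd (.nd (.lf 0x281) (.lf 0)) (.nd (.lf 0x7b6) (.lf 0)))))) (.nd (.nd (.nd (.nd (.nd (.lf 0x100) (.lf 0x6b8)) (.nd (.lf 0x72b) (.lf 0))) (.nd (.nd (.lf 0x557) (.lf 0)) (.nd (.lf 0x7ea) (.lf 0)))) (.nd (.nd (.nd (.lf 0x374) (.lf 0)) (.nd (.lf 0x84c) (.lf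 0))) (.nd (.nd (.lf 0x3e8) (.lf 0)) (.nd (.lf 0x23d) (.lf 0))))) (.nd (.nd (.nd (.nd (.lf 0x24c) (.lf 0x6f2)) (.nd (.lf 0x607) (.lf 0))) (.nd (.nd (.lf 0x2c7) (.lf 0)) (.nd (.lf 0x873) (.lf 0)))) (.nd (.nd (.nd (.lf 0x478) (.lf 0)) (.nd (.lf 0x3cb) (.lf 0))) (.nd (.nd (.lf 0x1a7) (.lf 0)) (.nd (.lf 0x6aa) (.lf 0)))))))
def tabQ0_nababbb : Tr := (.nd (.nd (.nd (.nd (.nd (.nd (.lf 0xa8) (.lf 0x8f9)) (.nd (.lf 0x33e) (.lf 0))) (.nd (.nd (.lf 0x31d) (.lf 0)) (.nd (.lf 0x48e) (.lf 0)))) (.nd (.nd (.nd (.lf 0x32c) (.lf 0)) (.nd (.lf 0x110) (.lf 0))) (.nd (.nd (.lf 0x69a) (.lf 0)) (.nd (.lf 0x3f8) (.lf 0))))) (.nd (.nd (.nd (.nd (.lf 0x1fe) (.lf 0x691)) (.nd (.lf 0x1a1) (.lf 0))) (.nd (.nd (.lf 0x364) (.lf 0)) (.nd (.lf 0x63d) (.lf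 0)))) (.nd (.nd (.nd (.lf 0x3a3) (.lf 0)) (.nd (.lf 0xe7) (.lf 0))) (.nd (.nd (.lf 0x146) (.lf 0)) (.nd (.lf 0x291) (.lf 0)))))) (.nd (.nd (.nd (.nd (.nd (.lf 0x158) (.lf 0x73)) (.nd (.lf 0x1b7) (.lf 0))) (.nd (.nd (.lf 0x58e) (.lf 0)) (.nd (.lf 0x2fa) (.lf 0)))) (.nd (.nd (.nd (.lf 0x3b7) (.lf 0)) (.nd (.lf 0x85f) (.lf 0))) (.nd (.nd (.lf 0x6cb) (.lf 0)) (.nd (.lf 0x674) (.lf 0))))) (.nd (.nd (.nd (.nd (.lf 0x297) (.lf 0x2a5)) (.nd (.lf 0x5da) (.lf 0))) (.nd (.nd (.lf 0x641) (.lf 0)) (.nd (.lf 0x45f) (.lf 0)))) (.nd (.nd (.nd (.lf 0x4af) (.lf 0)) (.nd (.lf 0x5fc) (.lf 0))) (.nd (.nd (.lf 0x4ef) (.lf 0)) (.nd (.lf 0x1c3) (.lf 0)))))))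
def tabQ0_nabbaaa : Tr := (.nd (.nd (.nd (.nd (.nd (.nd (.lf 0x13) (.lf 0x73d)) (.nd (.lf 0xe3) (.lf 0))) (.nd (.nd (.lf 0x4c4) (.lf 0)) (.nd (.lf 0x4a3) (.lf 0)))) (.nd (.nd (.nd (.lf 0x2b6) (.lf 0)) (.nd (.lf 0x5a9) (.lf 0))) (.nd (.nd (.lf 0x12) (.lf 0)) (.nd (.lf 0x3ff) (.lf 0))))) (.nd (.nd (.nd (.nd (.lf 0x178) (.lf 0x8ca)) (.nd (.lf 0x7c1) (.lf 0))) (.nd (.nd (.lf 0x5a8) (.lf 0)) (.nd (.lf 0x43d) (.lf 0)))) (.nd (.nd (.nd (.lf 0x3b8) (.lf 0)) (.nd (.lf 0x510) (.lf 0))) (.nd (.nd (.lf 0x6ea) (.lf 0)) (.nd (.lf 0x8ab) (.lf 0)))))) (.nd (.nd (.nd (.nd (.nd (.lf 0xca) (.lf 0x6c2)) (.nd (.lf 0x496) (.lf 0))) (.nd (.nd (.lf 0x53b) (.lf 0)) (.nd (.lf 0x6eb) (.lf 0)))) (.nd (.nd (.nd (.lf 0x348) (.lf 0)) (.nd (.lf 0x83b) (.lf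 0))) (.nd (.nd (.lf 0x490) (.lf 0)) (.nd (.lf 0x192) (.lf 0))))) (.nd (.nd (.nd (.nd (.lf 0x21c) (.lf 0x436)) (.nd (.lf 0x375) (.lf 0))) (.nd (.nd (.lf 0x5fd) (.lf 0)) (.nd (.lf 0x1eb) (.lf 0)))) (.nd (.nd (.nd (.lf 0x3be) (.lf 0)) (.nd (.lf 0x85c) (.lf 0))) (.nd (.nd (.lf 0x4c) (.lf 0)) (.nd (.lf 0x53c) (.lf 0)))))))
def tabQ0_nabbaab : Tr := (.nd (.nd (.nd (.nd (.nd (.nd (.lf 0x71) (.lf 0x5d1)) (.nd (.lf 0x15d) (.lf 0))) (.nd (.nd (.lf 0x507) (.lf 0)) (.nd (.lf 0x4b3) (.lf 0)))) (.nd (.nd (.nd (.lf 0x302) (.lf 0)) (.nd (.lf 0x1d6) (.lf 0))) (.nd (.nd (.lf 0x1ff) (.lf 0)) (.nd (.lf 0x5c3) (.lf 0))))) (.nd (.nd (.nd (.nd (.lf 0x1cc) (.lf 0x182)) (.nd (.lf 0x5c1) (.lf 0))) (.nd (.nd (.lf 0x5d2) (.lf 0)) (.nd (.lf 0x706) (.lf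 0)))) (.nd (.nd (.nd (.lf 0x366) (.lf 0)) (.nd (.lf 0x871) (.lf 0))) (.nd (.nd (.lf 0x251) (.lf 0)) (.nd (.lf 0x747) (.lf 0)))))) (.nd (.nd (.nd (.nd (.nd (.lf 0x11e) (.lf 0x533)) (.nd (.lf 0x72a) (.lf 0))) (.nd (.nd (.lf 0x545) (.lf 0)) (.nd (.lf 0x44e) (.lf 0)))) (.nd (.nd (.nd (.lf 0x392) (.lf 0)) (.nd (.lf 0x619) (.lf 0))) (.nd (.nd (.lf 0x39c) (.lf 0)) (.nd (.lf 0x675) (.lf 0))))) (.nd (.nd (.nd (.nd (.lf 0x267) (.lf 0x2d4)) (.nd (.lf 0x4f7) (.lf 0))) (.nd (.nd (.lf 0x610) (.lf 0)) (.nd (.lf 0x84d) (.lf 0)))) (.nd (.nd (.nd (.lf 0x2c6) (.lf 0)) (.nd (.lf 0x888) (.lf 0))) (.nd (.nd (.lf 0x336) (.lf 0)) (.nd (.lf 0x493) (.lf 0)))))))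
def tabQ0_nabbaba : Tr := (.nd (.nd (.nd (.nd (.nd (.nd (.lf 0x42) (.lf 0x14a)) (.nd (.lf 0x4a1) (.lf 0))) (.nd (.nd (.lf 0x4e6) (.lf 0)) (.nd (.lf 0x72e) (.lf 0)))) (.nd (.nd (.nd (.lf 0x2aa) (.lf 0)) (.nd (.lf 0x5f1) (.lf 0))) (.nd (.nd (.lf 0x2c3) (.lf 0)) (.nd (.lf 0x61d) (.lf 0))))) (.nd (.nd (.nd (.nd (.lf 0x19f) (.lf 0x659)) (.nd (.lf 0x553) (.lf 0))) (.nd (.nd (.lf 0x243) (.lf 0)) (.nd (.lf 0x69d) (.lf 0)))) (.nd (.nd (.nd (.lf 0x3f5) (.lf 0)) (.nd (.lf 0x3a5) (.lf 0))) (.nd (.nd (.lf 0x551) (.lf 0)) (.nd (.lf 0x71b) (.lf 0)))))) (.nd (.nd (.nd (.nd (.nd (.lf 0xf5) (.lf 0x8fa)) (.nd (.lf 0x1ed) (.lf 0))) (.nd (.nd (.lf 0x1d4) (.lf 0)) (.nd (.lf 0x4ce) (.lf 0)))) (.nd (.nd (.nd (.lf 0x36c) (.lf 0)) (.nd (.lf 0x5a6) (.lf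 0))) (.nd (.nd (.lf 0x295) (.lf 0)) (.nd (.lf 0x4b9) (.lf 0))))) (.nd (.nd (.nd (.nd (.lf 0x241) (.lf 0x89b)) (.nd (.lf 0x8c) (.lf 0))) (.nd (.nd (.lf 0x20e) (.lf 0)) (.nd (.lf 0x6c3) (.lf 0)))) (.nd (.nd (.nd (.lf 0xce) (.lf 0)) (.nd (.lf 0x19e) (.lf 0))) (.nd (.nd (.lf 0x735) (.lf 0)) (.nd (.lf 0x499) (.lf 0)))))))
def tabQ0_nabbabb : Tr := (.nd (.nd (.nd (.nd (.nd (.nd (.lf 0x9d) (.lf 0x5e7)) (.nd (.lf 0x55f) (.lf 0))) (.nd (.nd (.lf 0x51e) (.lf 0)) (.nd (.lf 0x46e) (.lf 0)))) (.nd (.nd (.nd (.lf 0x325) (.lf 0)) (.nd (.lf 0x11d) (.lf 0))) (.nd (.nd (.lf 0x252) (.lf 0)) (.nd (.lf 0x8e9) (.lf 0))))) (.nd (.nd (.nd (.nd (.lf 0x1f3) (.lf 0x8a5)) (.nd (.lf 0x7e6) (.lf 0))) (.nd (.nd (.lf 0x5e8) (.lf 0)) (.nd (.lf 0x883) (.lf 0))))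 (.nd (.nd (.nd (.lf 0x434) (.lf 0)) (.nd (.lf 0x3cd) (.lf 0))) (.nd (.nd (.lf 0x452) (.lf 0)) (.nd (.lf 0x8b1) (.lf 0)))))) (.nd (.nd (.nd (.nd (.nd (.lf 0x14d) (.lf 0x372)) (.nd (.lf 0x7b8) (.lf 0))) (.nd (.nd (.lf 0x588) (.lf 0)) (.nd (.lf 0x8b7) (.lf 0)))) (.nd (.nd (.nd (.lf 0x3b1) (.lf 0)) (.nd (.lf 0x7ec) (.lf 0))) (.nd (.nd (.lf 0x4fc) (.lf 0)) (.nd (.lf 0x716) (.lf 0))))) (.nd (.nd (.nd (.nd (.lf 0x28e) (.lf 0x8ec)) (.nd (.lf 0x7b1) (.lf 0))) (.nd (.nd (.lf 0x2b7) (.lf 0)) (.nd (.lf 0x790) (.lf 0)))) (.nd (.nd (.nd (.lf 0x453) (.lf 0)) (.nd (.lf 0x16f) (.lf 0))) (.nd (.nd (.lf 0x66e) (.lf 0)) (.nd (.lf 0x8f7) (.lf 0)))))))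
def tabQ0_nabbbaa : Tr := (.nd (.nd (.nd (.nd (.nd (.nd (.lf 0x2b) (.lf 0x8a4)) (.nd (.lf 0x4bb) (.lf 0))) (.nd (.nd (.lf 0x4d8) (.lf 0)) (.nd (.lf 0x369) (.lf 0)))) (.nd (.nd (.nd (.lf 0x2cb) (.lf 0)) (.nd (.lf 0x692) (.lf 0))) (.nd (.nd (.lf 0xa4) (.lf 0)) (.nd (.lf 0x825) (.lf 0))))) (.nd (.nd (.nd (.nd (.lf 0x189) (.lf 0x61f)) (.nd (.lf 0x5aa) (.lf 0))) (.nd (.nd (.lf 0x5b5) (.lf 0)) (.nd (.lf 0x525) (.lf 0)))) (.nd (.nd (.nd (.lf 0x3e5) (.lf 0)) (.nd (.lf 0x7b3) (.lf 0))) (.nd (.nd (.lf 0x4ff) (.lf 0)) (.nd (.lf 0x24) (.lf 0)))))) (.nd (.nd (.nd (.nd (.nd (.lf 0xe0) (.lf 0x324)) (.nd (.lf 0x7a0) (.lf 0))) (.nd (.nd (.lf 0x2db) (.lf 0)) (.nd (.lf 0x86b) (.lf 0)))) (.nd (.nd (.nd (.lf 0x35a) (.lf 0)) (.nd (.lf 0x746) (.lf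 0))) (.nd (.nd (.lf 0x6b0) (.lf 0)) (.nd (.lf 0x4d2) (.lf 0))))) (.nd (.nd (.nd (.nd (.lf 0x22d) (.lf 0x7c7)) (.nd (.lf 0x72d) (.lf 0))) (.nd (.nd (.lf 0x60b) (.lf 0)) (.nd (.lf 0x772) (.lf 0)))) (.nd (.nd (.nd (.lf 0x461) (.lf 0)) (.nd (.lf 0x1e) (.lf 0))) (.nd (.nd (.lf 0xf9) (.lf 0)) (.nd (.lf 0xdd) (.lf 0)))))))
def tabQ0_nabbbab : Tr := (.nd (.nd (.nd (.nd (.nd (.nd (.lf 0x88) (.lf 0x8da)) (.nd (.lf 0x625) (.lf 0))) (.nd (.nd (.lf 0x513) (.lf 0)) (.nd (.lf 0x218) (.lf 0)))) (.nd (.nd (.nd (.lf 0x316) (.lf 0)) (.nd (.lf 0x413) (.lf 0))) (.nd (.nd (.lf 0xc4) (.lf 0)) (.nd (.lf 0x42f) (.lf 0))))) (.nd (.nd (.nd (.nd (.lf 0x1d3) (.lf 0x79c)) (.nd (.lf 0x48c) (.lf 0))) (.nd (.nd (.lf 0x9) (.lf 0)) (.nd (.lf 0xd3) (.lf 0))))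 (.nd (.nd (.nd (.lf 0x425) (.lf 0)) (.nd (.lf 0x7f) (.lf 0))) (.nd (.nd (.lf 0x1b3) (.lf 0)) (.nd (.lf 0x76f) (.lf 0)))))) (.nd (.nd (.nd (.nd (.nd (.lf 0x136) (.lf 0x345)) (.nd (.lf 0x78c) (.lf 0))) (.nd (.nd (.lf 0x56) (.lf 0)) (.nd (.lf 0x843) (.lf 0)))) (.nd (.nd (.nd (.lf 0x3a1) (.lf 0)) (.nd (.lf 0x857) (.lf 0))) (.nd (.nd (.lf 0x55e) (.lf 0)) (.nd (.lf 0x739) (.lf 0))))) (.nd (.nd (.nd (.nd (.lf 0x27d) (.lf 0x8d5)) (.nd (.lf 0x17b) (.lf 0))) (.nd (.nd (.lf 0x3ba) (.lf 0)) (.nd (.lf 0x1d7) (.lf 0)))) (.nd (.nd (.nd (.lf 0x49c) (.lf 0)) (.nd (.lf 0x4f4) (.lf 0))) (.nd (.nd (.lf 0x403) (.lf 0)) (.nd (.lf 0x246) (.lf 0)))))))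
def tabQ0_nabbbba : Tr := (.nd (.nd (.nd (.nd (.nd (.nd (.lf 0x59) (.lf 0x812)) (.nd (.lf 0x773) (.lf 0))) (.nd (.nd (.lf 0x448) (.lf 0)) (.nd (.lf 0x899) (.lf 0)))) (.nd (.nd (.nd (.lf 0x1c2) (.lf 0)) (.nd (.lf 0x82a) (.lf 0))) (.nd (.nd (.lf 0x673) (.lf 0)) (.nd (.lf 0x41b) (.lf 0))))) (.nd (.nd (.nd (.nd (.lf 0x1b5) (.lf 0x7d1)) (.nd (.lf 0x213) (.lf 0))) (.nd (.nd (.lf 0x5c8) (.lf 0)) (.nd (.lf 0x562) (.lf 0)))) (.nd (.nd (.nd (.lf 0x26) (.lf 0)) (.nd (.lf 0x27) (.lf 0))) (.nd (.nd (.lf 0x705) (.lf 0)) (.nd (.lf 0x2ca) (.lf 0)))))) (.nd (.nd (.nd (.nd (.nd (.lf 0x10b) (.lf 0x680)) (.nd (.lf 0x7a6) (.lf 0))) (.nd (.nd (.lf 0x29) (.lf 0)) (.nd (.lf 0x60a) (.lf 0)))) (.nd (.nd (.nd (.lf 0x141) (.lf 0)) (.nd (.lf 0x269) (.lf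 0))) (.nd (.nd (.lf 0xa1) (.lf 0)) (.nd (.lf 0x6ef) (.lf 0))))) (.nd (.nd (.nd (.nd (.lf 0x254) (.lf 0x762)) (.nd (.lf 0x7fd) (.lf 0))) (.nd (.nd (.lf 0x56a) (.lf 0)) (.nd (.lf 0x867) (.lf 0)))) (.nd (.nd (.nd (.lf 0x480) (.lf 0)) (.nd (.lf 0x884) (.lf 0))) (.nd (.nd (.lf 0x73f) (.lf 0)) (.nd (.lf 0x47a) (.lf 0)))))))
def tabQ0_nabbbbb : Tr := (.nd (.nd (.nd (.nd (.nd (.nd (.lf 0xb4) (.lf 0x548)) (.nd (.lf 0x317) (.lf 0))) (.nd (.nd (.lf 0x52e) (.lf 0)) (.nd (.lf 0x5c7) (.lf 0)))) (.nd (.nd (.nd (.lf 0x335) (.lf 0)) (.nd (.lf 0x697) (.lf 0))) (.nd (.nd (.lf 0x69f) (.lf 0)) (.nd (.lf 0x6f3) (.lf 0))))) (.nd (.nd (.nd (.nd (.lf 0x207) (.lf 0x13a)) (.nd (.lf 0x7eb) (.lf 0))) (.nd (.nd (.lf 0x5f2) (.lf 0)) (.nd (.lf 0x8ae) (.lf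 0)))) (.nd (.nd (.nd (.lf 0x449) (.lf 0)) (.nd (.lf 0x665) (.lf 0))) (.nd (.nd (.lf 0x395) (.lf 0)) (.nd (.lf 0x67c) (.lf 0)))))) (.nd (.nd (.nd (.nd (.nd (.lf 0x162) (.lf 0x5db)) (.nd (.lf 0x7bd) (.lf 0))) (.nd (.nd (.lf 0x597) (.lf 0)) (.nd (.lf 0x8b8) (.lf 0)))) (.nd (.nd (.nd (.lf 0x3bf) (.lf 0)) (.nd (.lf 0x3d2) (.lf 0))) (.nd (.nd (.lf 0x6de) (.lf 0)) (.nd (.lf 0x8f0) (.lf 0))))) (.nd (.nd (.nd (.nd (.lf 0x2a2) (.lf 0x3b9)) (.nd (.lf 0x815) (.lf 0))) (.nd (.nd (.lf 0x49a) (.lf 0)) (.nd (.lf 0x8a7) (.lf 0)))) (.nd (.nd (.nd (.lf 0x463) (.lf 0)) (.nd (.lf 0x85b) (.lf 0))) (.nd (.nd (.lf 0x753) (.lf 0)) (.nd (.lf 0x550) (.lf 0)))))))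
def tabQ0_nbaaaaa : Tr := (.nd (.nd (.nd (.nd (.nd (.nd (.lf 0x4) (.lf 0x68a)) (.nd (.lf 0x6a2) (.lf 0))) (.nd (.nd (.lf 0x128) (.lf 0)) (.nd (.lf 0x5c4) (.lf 0)))) (.nd (.nd (.nd (.lf 0x2a9) (.lf 0)) (.nd (.lf 0x45a) (.lf 0))) (.nd (.nd (.lf 0x648) (.lf 0)) (.nd (.lf 0x2e8) (.lf 0))))) (.nd (.nd (.nd (.nd (.lf 0x16a) (.lf 0x8c3)) (.nd (.lf 0x1b9) (.lf 0))) (.nd (.nd (.lf 0x187) (.lf 0)) (.nd (.lf 0x820) (.lf 0)))) (.nd (.nd (.nd (.lf 0x3c7) (.lf 0)) (.nd (.lf 0x65d) (.lf 0))) (.nd (.nd (.lf 0x138) (.lf 0)) (.nd (.lf 0x649) (.lf 0)))))) (.nd (.nd (.nd (.nd (.nd (.lf 0xbc) (.lf 0x8dc)) (.nd (.lf 0x797) (.lf 0))) (.nd (.nd (.lf 0x14c) (.lf 0)) (.nd (.lf 0x7e4) (.lf 0)))) (.nd (.nd (.nd (.lf 0x33d) (.lf 0)) (.nd (.lf 0x5ac) (.lf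 0))) (.nd (.nd (.lf 0x10a) (.lf 0)) (.nd (.lf 0x3fc) (.lf 0))))) (.nd (.nd (.nd (.nd (.lf 0x20f) (.lf 0x89f)) (.nd (.lf 0x7ee) (.lf 0))) (.nd (.nd (.lf 0x5f6) (.lf 0)) (.nd (.lf 0x666) (.lf 0)))) (.nd (.nd (.nd (.lf 0x116) (.lf 0)) (.nd (.lf 0x59f) (.lf 0))) (.nd (.nd (.lf 0x64f) (.lf 0)) (.nd (.lf 0x52d) (.lf 0)))))))
def tabQ0_nbaaaab : Tr := (.nd (.nd (.nd (.nd (.nd (.nd (.lf 0x62) (.lf 0x3d)) (.nd (.lf 0x778) (.lf 0))) (.nd (.nd (.lf 0x4fd) (.lf 0)) (.nd (.lf 0x3c2) (.lf 0)))) (.nd (.nd (.nd (.lf 0x2f5) (.lf 0)) (.nd (.lf 0x811) (.lf 0))) (.nd (.nd (.lf 0x677) (.lf 0)) (.nd (.lf 0x3ab) (.lf 0))))) (.nd (.nd (.nd (.nd (.lf 0x1be) (.lf 0x8c1)) (.nd (.lf 0x79b) (.lf 0))) (.nd (.nd (.lf 0x55) (.lf 0)) (.nd (.lf 0x1e2) (.lf 0))))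 (.nd (.nd (.nd (.lf 0x1fd) (.lf 0)) (.nd (.lf 0x3c0) (.lf 0))) (.nd (.nd (.lf 0x650) (.lf 0)) (.nd (.lf 0x67d) (.lf 0)))))) (.nd (.nd (.nd (.nd (.nd (.lf 0x10c) (.lf 0x66b)) (.nd (.lf 0x73e) (.lf 0))) (.nd (.nd (.lf 0x564) (.lf 0)) (.nd (.lf 0x8b0) (.lf 0)))) (.nd (.nd (.nd (.lf 0x383) (.lf 0)) (.nd (.lf 0x357) (.lf 0))) (.nd (.nd (.lf 0x66a) (.lf 0)) (.nd (.lf 0x5b2) (.lf 0))))) (.nd (.nd (.nd (.nd (.lf 0x25a) (.lf 0x8f1)) (.nd (.lf 0x6d4) (.lf 0))) (.nd (.nd (.lf 0x623) (.lf 0)) (.nd (.lf 0x49) (.lf 0)))) (.nd (.nd (.nd (.lf 0x486) (.lf 0)) (.nd (.lf 0x6b2) (.lf 0))) (.nd (.nd (.lf 0x2fc) (.lf 0)) (.nd (.lf 0x875) (.lf 0)))))))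
def tabQ0_nbaaaba : Tr := (.nd (.nd (.nd (.nd (.nd (.nd (.lf 0x34) (.lf 0x8b9)) (.nd (.lf 0x664) (.lf 0))) (.nd (.nd (.lf 0x17e) (.lf 0)) (.nd (.lf 0x68b) (.lf 0)))) (.nd (.nd (.nd (.lf 0x2d3) (.lf 0)) (.nd (.lf 0x7f4) (.lf 0))) (.nd (.nd (.lf 0x321) (.lf 0)) (.nd (.lf 0x491) (.lf 0))))) (.nd (.nd (.nd (.nd (.lf 0x191) (.lf 0x8fd)) (.nd (.lf 0x7cd) (.lf 0))) (.nd (.nd (.lf 0x5b8) (.lf 0)) (.nd (.lf 0x8bd) (.lf 0)))) (.nd (.nd (.nd (.lf 0x3ed) (.lf 0)) (.nd (.lf 0x86c) (.lf 0))) (.nd (.nd (.lf 0x6f5) (.lf 0)) (.nd (.lf 0x151) (.lf 0)))))) (.nd (.nd (.nd (.nd (.nd (.lf 0xbe) (.lf 0x2ad)) (.nd (.lf 0x6ad) (.lf 0))) (.nd (.nd (.lf 0x535) (.lf 0)) (.nd (.lf 0x757) (.lf 0)))) (.nd (.nd (.nd (.lf 0x35f) (.lf 0)) (.nd (.lf 0x776) (.lf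 0))) (.nd (.nd (.lf 0x689) (.lf 0)) (.nd (.lf 0x6d) (.lf 0))))) (.nd (.nd (.nd (.nd (.lf 0x235) (.lf 0x3e4)) (.nd (.lf 0x721) (.lf 0))) (.nd (.nd (.lf 0x57d) (.lf 0)) (.nd (.lf 0x9f) (.lf 0)))) (.nd (.nd (.nd (.lf 0x467) (.lf 0)) (.nd (.lf 0x424) (.lf 0))) (.nd (.nd (.lf 0x72f) (.lf 0)) (.nd (.lf 0x7cb) (.lf 0)))))))
def tabQ0_nbaaabb : Tr := (.nd (.nd (.nd (.nd (.nd (.nd (.lf 0x90) (.lf 0x38b)) (.nd (.lf 0x4ae) (.lf 0))) (.nd (.nd (.lf 0x3b2) (.lf 0)) (.nd (.lf 0xcc) (.lf 0)))) (.nd (.nd (.nd (.lf 0x31e) (.lf 0)) (.nd (.lf 0x32b) (.lf 0))) (.nd (.nd (.lf 0x68e) (.lf 0)) (.nd (.lf 0x8e4) (.lf 0))))) (.nd (.nd (.nd (.nd (.lf 0x1e7) (.lf 0x1f4)) (.nd (.lf 0x261) (.lf 0))) (.nd (.nd (.lf 0x2a8) (.lf 0)) (.nd (.lf 0x15) (.lf 0))))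 (.nd (.nd (.nd (.lf 0x2af) (.lf 0)) (.nd (.lf 0x738) (.lf 0))) (.nd (.nd (.lf 0x53f) (.lf 0)) (.nd (.lf 0x1e0) (.lf 0)))))) (.nd (.nd (.nd (.nd (.nd (.lf 0x13f) (.lf 0x359)) (.nd (.lf 0x760) (.lf 0))) (.nd (.nd (.lf 0x27e) (.lf 0)) (.nd (.lf 0x636) (.lf 0)))) (.nd (.nd (.nd (.lf 0x3a9) (.lf 0)) (.nd (.lf 0x7dc) (.lf 0))) (.nd (.nd (.lf 0x334) (.lf 0)) (.nd (.lf 0x79) (.lf 0))))) (.nd (.nd (.nd (.nd (.lf 0x284) (.lf 0x711)) (.nd (.lf 0x340) (.lf 0))) (.nd (.nd (.lf 0x355) (.lf 0)) (.nd (.lf 0x6ff) (.lf 0)))) (.nd (.nd (.nd (.lf 0x4a0) (.lf 0)) (.nd (.lf 0x4ac) (.lf 0))) (.nd (.nd (.lf 0x74a) (.lf 0)) (.nd (.lf 0x621) (.lf 0)))))))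
def tabQ0_nbaabaa : Tr := (.nd (.nd (.nd (.nd (.nd (.nd (.lf 0x1c) (.lf 0x301)) (.nd (.lf 0x24d) (.lf 0))) (.nd (.nd (.lf 0x4cc) (.lf 0)) (.nd (.lf 0x642) (.lf 0)))) (.nd (.nd (.nd (.lf 0x2be) (.lf 0)) (.nd (.lf 0x81d) (.lf 0))) (.nd (.nd (.lf 0x654) (.lf 0)) (.nd (.lf 0x723) (.lf 0))))) (.nd (.nd (.nd (.nd (.lf 0x17f) (.lf 0x300)) (.nd (.lf 0x363) (.lf 0))) (.nd (.nd (.lf 0x5ad) (.lf 0)) (.nd (.lf 0x126) (.lf 0)))) (.nd (.nd (.nd (.lf 0x3da) (.lf 0)) (.nd (.lf 0x7a2) (.lf 0))) (.nd (.nd (.lf 0x628) (.lf 0)) (.nd (.lf 0x837) (.lf 0)))))) (.nd (.nd (.nd (.nd (.nd (.lf 0xd2) (.lf 0x503)) (.nd (.lf 0xc) (.lf 0))) (.nd (.nd (.lf 0x53e) (.lf 0)) (.nd (.lf 0x3d1) (.lf 0)))) (.nd (.nd (.nd (.lf 0x16b) (.lf 0)) (.nd (.lf 0x578) (.lf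 0))) (.nd (.nd (.lf 0x382) (.lf 0)) (.nd (.lf 0x8d0) (.lf 0))))) (.nd (.nd (.nd (.nd (.lf 0x224) (.lf 0x7f9)) (.nd (.lf 0x412) (.lf 0))) (.nd (.nd (.lf 0x603) (.lf 0)) (.nd (.lf 0x876) (.lf 0)))) (.nd (.nd (.nd (.lf 0x456) (.lf 0)) (.nd (.lf 0x724) (.lf 0))) (.nd (.nd (.lf 0x713) (.lf 0)) (.nd (.lf 0x8f6) (.lf 0)))))))
def tabQ0_nbaabab : Tr := (.nd (.nd (.nd (.nd (.nd (.nd (.lf 0x7a) (.lf 0x7c8)) (.nd (.lf 0x296) (.lf 0))) (.nd (.nd (.lf 0x50a) (.lf 0)) (.nd (.lf 0x396) (.lf 0)))) (.nd (.nd (.nd (.lf 0x309) (.lf 0)) (.nd (.lf 0x832) (.lf 0))) (.nd (.nd (.lf 0x682) (.lf 0)) (.nd (.lf 0x73c) (.lf 0))))) (.nd (.nd (.nd (.nd (.lf 0x1d5) (.lf 0x549)) (.nd (.lf 0x693) (.lf 0))) (.nd (.nd (.lf 0x12e) (.lf 0)) (.nd (.lf 0x83e) (.lf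 0)))) (.nd (.nd (.nd (.lf 0x419) (.lf 0)) (.nd (.lf 0x874) (.lf 0))) (.nd (.nd (.lf 0x37f) (.lf 0)) (.nd (.lf 0x82b) (.lf 0)))))) (.nd (.nd (.nd (.nd (.nd (.lf 0x127) (.lf 0x655)) (.nd (.lf 0x97) (.lf 0))) (.nd (.nd (.lf 0x1e8) (.lf 0)) (.nd (.lf 0x8b3) (.lf 0)))) (.nd (.nd (.nd (.lf 0x393) (.lf 0)) (.nd (.lf 0x21) (.lf 0))) (.nd (.nd (.lf 0x3b) (.lf 0)) (.nd (.lf 0x11) (.lf 0))))) (.nd (.nd (.nd (.nd (.lf 0x26f) (.lf 0x8c2)) (.nd (.lf 0x804) (.lf 0))) (.nd (.nd (.lf 0x164) (.lf 0)) (.nd (.lf 0x835) (.lf 0)))) (.nd (.nd (.nd (.lf 0x3f9) (.lf 0)) (.nd (.lf 0x73a) (.lf 0))) (.nd (.nd (.lf 0x698) (.lf 0)) (.nd (.lf 0x38) (.lf 0)))))))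
def tabQ0_nbaabba : Tr := (.nd (.nd (.nd (.nd (.nd (.nd (.lf 0x4b) (.lf 0x1d0)) (.nd (.lf 0x422) (.lf 0))) (.nd (.nd (.lf 0x407) (.lf 0)) (.nd (.lf 0x4c8) (.lf 0)))) (.nd (.nd (.nd (.lf 0x2e5) (.lf 0)) (.nd (.lf 0xa3) (.lf 0))) (.nd (.nd (.lf 0x24f) (.lf 0)) (.nd (.lf 0x8e2) (.lf 0))))) (.nd (.nd (.nd (.nd (.lf 0x1a8) (.lf 0x685)) (.nd (.lf 0x794) (.lf 0))) (.nd (.nd (.lf 0x5c5) (.lf 0)) (.nd (.lf 0x47e) (.lf 0)))) (.nd (.nd (.nd (.lf 0x31b) (.lf 0)) (.nd (.lf 0x62f) (.lf 0))) (.nd (.nd (.lf 0x515) (.lf 0)) (.nd (.lf 0x21e) (.lf 0)))))) (.nd (.nd (.nd (.nd (.nd (.lf 0xfe) (.lf 0x869)) (.nd (.lf 0x77d) (.lf 0))) (.nd (.nd (.lf 0x4dc) (.lf 0)) (.nd (.lf 0x2a1) (.lf 0)))) (.nd (.nd (.nd (.lf 0x371) (.lf 0)) (.nd (.lf 0x575) (.lf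 0))) (.nd (.nd (.lf 0x57) (.lf 0)) (.nd (.lf 0x8eb) (.lf 0))))) (.nd (.nd (.nd (.nd (.lf 0xd1) (.lf 0x8cb)) (.nd (.lf 0x66f) (.lf 0))) (.nd (.nd (.lf 0xa7) (.lf 0)) (.nd (.lf 0x7fc) (.lf 0)))) (.nd (.nd (.nd (.lf 0x476) (.lf 0)) (.nd (.lf 0x65c) (.lf 0))) (.nd (.nd (.lf 0x609) (.lf 0)) (.nd (.lf 0x68d) (.lf 0)))))))
def tabQ0_nbaabbb : Tr := (.nd (.nd (.nd (.nd (.nd (.nd (.lf 0xa5) (.lf 0x3bd)) (.nd (.lf 0x600) (.lf 0))) (.nd (.nd (.lf 0x524) (.lf 0)) (.nd (.lf 0x1ae) (.lf 0)))) (.nd (.nd (.nd (.lf 0x32a) (.lf 0)) (.nd (.lf 0x83d) (.lf 0))) (.nd (.nd (.lf 0x604) (.lf 0)) (.nd (.lf 0x577) (.lf 0))))) (.nd (.nd (.nd (.nd (.lf 0x1fb) (.lf 0x587)) (.nd (.lf 0x7e9) (.lf 0))) (.nd (.nd (.lf 0x5ec) (.lf 0)) (.nd (.lf 0x707) (.lf 0))))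 (.nd (.nd (.nd (.lf 0x43c) (.lf 0)) (.nd (.lf 0x6fa) (.lf 0))) (.nd (.nd (.lf 0x447) (.lf 0)) (.nd (.lf 0x286) (.lf 0)))))) (.nd (.nd (.nd (.nd (.nd (.lf 0x155) (.lf 0x30d)) (.nd (.lf 0x626) (.lf 0))) (.nd (.nd (.lf 0x58d) (.lf 0)) (.nd (.lf 0x750) (.lf 0)))) (.nd (.nd (.nd (.lf 0x37d) (.lf 0)) (.nd (.lf 0x3f3) (.lf 0))) (.nd (.nd (.lf 0x6d7) (.lf 0)) (.nd (.lf 0x10d) (.lf 0))))) (.nd (.nd (.nd (.nd (.lf 0x294) (.lf 0x817)) (.nd (.lf 0x14f) (.lf 0))) (.nd (.nd (.lf 0x63f) (.lf 0)) (.nd (.lf 0x84f) (.lf 0)))) (.nd (.nd (.nd (.lf 0x4ad) (.lf 0)) (.nd (.lf 0x6a0) (.lf 0))) (.nd (.nd (.lf 0x184) (.lf 0)) (.nd (.lf 0x11f) (.lf 0)))))))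
def tabQ0_nbabaaa : Tr := (.nd (.nd (.nd (.nd (.nd (.nd (.lf 0x10) (.lf 0x85e)) (.nd (.lf 0x23c) (.lf 0))) (.nd (.nd (.lf 0x4c1) (.lf 0)) (.nd (.lf 0x88f) (.lf 0)))) (.nd (.nd (.nd (.lf 0x2b3) (.lf 0)) (.nd (.lf 0x230) (.lf 0))) (.nd (.nd (.lf 0x245) (.lf 0)) (.nd (.lf 0x157) (.lf 0))))) (.nd (.nd (.nd (.nd (.lf 0x175) (.lf 0x519)) (.nd (.lf 0x1dc) (.lf 0))) (.nd (.nd (.lf 0x5a5) (.lf 0)) (.nd (.lf 0x34e) (.lf 0)))) (.nd (.nd (.nd (.lf 0x3d0) (.lf 0)) (.nd (.lf 0x865) (.lf 0))) (.nd (.nd (.lf 0x6e8) (.lf 0)) (.nd (.lf 0x215) (.lf 0)))))) (.nd (.nd (.nd (.nd (.nd (.lf 0xf) (.lf 0x279)) (.nd (.lf 0x360) (.lf 0))) (.nd (.nd (.lf 0x1da) (.lf 0)) (.nd (.lf 0x3ee) (.lf 0)))) (.nd (.nd (.nd (.lf 0x347) (.lf 0)) (.nd (.lf 0x55a) (.lf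 0))) (.nd (.nd (.lf 0x6a4) (.lf 0)) (.nd (.lf 0x153) (.lf 0))))) (.nd (.nd (.nd (.nd (.lf 0x219) (.lf 0x5b6)) (.nd (.lf 0x7e2) (.lf 0))) (.nd (.nd (.lf 0x590) (.lf 0)) (.nd (.lf 0x74c) (.lf 0)))) (.nd (.nd (.nd (.lf 0x44f) (.lf 0)) (.nd (.lf 0x34d) (.lf 0))) (.nd (.nd (.lf 0x4f9) (.lf 0)) (.nd (.lf 0x28a) (.lf 0)))))))
def tabQ0_nbabaab : Tr := (.nd (.nd (.nd (.nd (.nd (.nd (.lf 0x6e) (.lf 0x2cf)) (.nd (.lf 0x2d7) (.lf 0))) (.nd (.nd (.lf 0x505) (.lf 0)) (.nd (.lf 0x758) (.lf 0)))) (.nd (.nd (.nd (.lf 0x6) (.lf 0)) (.nd (.lf 0x82f) (.lf 0))) (.nd (.nd (.lf 0x2e2) (.lf 0)) (.nd (.lf 0x6a5) (.lf 0))))) (.nd (.nd (.nd (.nd (.lf 0x115) (.lf 0x43b)) (.nd (.lf 0x7df) (.lf 0))) (.nd (.nd (.lf 0x44c) (.lf 0)) (.nd (.lf 0x752) (.lf 0))))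 (.nd (.nd (.nd (.lf 0x23) (.lf 0)) (.nd (.lf 0x870) (.lf 0))) (.nd (.nd (.lf 0x70b) (.lf 0)) (.nd (.lf 0x824) (.lf 0)))))) (.nd (.nd (.nd (.nd (.nd (.lf 0x11b) (.lf 0x78e)) (.nd (.lf 0x7ac) (.lf 0))) (.nd (.nd (.lf 0x333) (.lf 0)) (.nd (.lf 0x696) (.lf 0)))) (.nd (.nd (.nd (.lf 0x38f) (.lf 0)) (.nd (.lf 0x852) (.lf 0))) (.nd (.nd (.lf 0x6c6) (.lf 0)) (.nd (.lf 0x8ee) (.lf 0))))) (.nd (.nd (.nd (.nd (.lf 0x265) (.lf 0x76d)) (.nd (.lf 0x1c9) (.lf 0))) (.nd (.nd (.lf 0x5ee) (.lf 0)) (.nd (.lf 0x8bc) (.lf 0)))) (.nd (.nd (.nd (.lf 0x163) (.lf 0)) (.nd (.lf 0x7be) (.lf 0))) (.nd (.nd (.lf 0x744) (.lf 0)) (.nd (.lf 0x605) (.lf 0)))))))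
def tabQ0_nbababa : Tr := (.nd (.nd (.nd (.nd (.nd (.nd (.lf 0x3f) (.lf 0x429)) (.nd (.lf 0x69e) (.lf 0))) (.nd (.nd (.lf 0x4e4) (.lf 0)) (.nd (.lf 0x561) (.lf 0)))) (.nd (.nd (.nd (.lf 0xe1) (.lf 0)) (.nd (.lf 0x474) (.lf 0))) (.nd (.nd (.lf 0x4c3) (.lf 0)) (.nd (.lf 0x160) (.lf 0))))) (.nd (.nd (.nd (.nd (.lf 0x19d) (.lf 0x514)) (.nd (.lf 0x67) (.lf 0))) (.nd (.nd (.lf 0x5be) (.lf 0)) (.nd (.lf 0x433) (.lf 0)))) (.nd (.nd (.nd (.lf 0x388) (.lf 0)) (.nd (.lf 0x46f) (.lf 0))) (.nd (.nd (.lf 0x583) (.lf 0)) (.nd (.lf 0x4e7) (.lf 0)))))) (.nd (.nd (.nd (.nd (.nd (.lf 0xf2) (.lf 0x59e)) (.nd (.lf 0x7a4) (.lf 0))) (.nd (.nd (.lf 0x54e) (.lf 0)) (.nd (.lf 0x6ae) (.lf 0)))) (.nd (.nd (.nd (.lf 0x1ad) (.lf 0)) (.nd (.lf 0x352) (.lf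 0))) (.nd (.nd (.lf 0x6b6) (.lf 0)) (.nd (.lf 0x836) (.lf 0))))) (.nd (.nd (.nd (.nd (.lf 0x23e) (.lf 0x1df)) (.nd (.lf 0x7fa) (.lf 0))) (.nd (.nd (.lf 0x260) (.lf 0)) (.nd (.lf 0x79f) (.lf 0)))) (.nd (.nd (.nd (.lf 0x44) (.lf 0)) (.nd (.lf 0x632) (.lf 0))) (.nd (.nd (.lf 0xfc) (.lf 0)) (.nd (.lf 0x318) (.lf 0)))))))
def tabQ0_nbababb : Tr := (.nd (.nd (.nd (.nd (.nd (.nd (.lf 0x18) (.lf 0x8fc)) (.nd (.lf 0xed) (.lf 0))) (.nd (.nd (.lf 0x430) (.lf 0)) (.nd (.lf 0x622) (.lf 0)))) (.nd (.nd (.nd (.lf 0x299) (.lf 0)) (.nd (.lf 0x119) (.lf 0))) (.nd (.nd (.lf 0x695) (.lf 0)) (.nd (.lf 0x283) (.lf 0))))) (.nd (.nd (.nd (.nd (.lf 0x1f0) (.lf 0x331)) (.nd (.lf 0x520) (.lf 0))) (.nd (.nd (.lf 0x152) (.lf 0)) (.nd (.lf 0x8c7) (.lf 0))))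 (.nd (.nd (.nd (.lf 0x431) (.lf 0)) (.nd (.lf 0x878) (.lf 0))) (.nd (.nd (.lf 0x391) (.lf 0)) (.nd (.lf 0x4a5) (.lf 0)))))) (.nd (.nd (.nd (.nd (.nd (.lf 0xf6) (.lf 0x54d)) (.nd (.lf 0x233) (.lf 0))) (.nd (.nd (.lf 0x21b) (.lf 0)) (.nd (.lf 0x68c) (.lf 0)))) (.nd (.nd (.nd (.lf 0x3af) (.lf 0)) (.nd (.lf 0x26b) (.lf 0))) (.nd (.nd (.lf 0x6d2) (.lf 0)) (.nd (.lf 0x627) (.lf 0))))) (.nd (.nd (.nd (.nd (.lf 0x28b) (.lf 0x3ec)) (.nd (.lf 0x10f) (.lf 0))) (.nd (.nd (.lf 0x4bc) (.lf 0)) (.nd (.lf 0x4f) (.lf 0)))) (.nd (.nd (.nd (.lf 0x4a8) (.lf 0)) (.nd (.lf 0x4e1) (.lf 0))) (.nd (.nd (.lf 0x74f) (.lf 0)) (.nd (.lf 0x87e) (.lf 0)))))))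
def tabQ0_nbabbaa : Tr := (.nd (.nd (.nd (.nd (.nd (.nd (.lf 0x28) (.lf 0x2ab)) (.nd (.lf 0x658) (.lf 0))) (.nd (.nd (.lf 0xb3) (.lf 0)) (.nd (.lf 0xdc) (.lf 0)))) (.nd (.nd (.nd (.lf 0x2c8) (.lf 0)) (.nd (.lf 0x159) (.lf 0))) (.nd (.nd (.lf 0x3a0) (.lf 0)) (.nd (.lf 0x65a) (.lf 0))))) (.nd (.nd (.nd (.nd (.lf 0x104) (.lf 0x866)) (.nd (.lf 0x7c9) (.lf 0))) (.nd (.nd (.lf 0x1c6) (.lf 0)) (.nd (.lf 0x122) (.lf 0)))) (.nd (.nd (.nd (.lf 0x3e2) (.lf 0)) (.nd (.lf 0x868) (.lf 0))) (.nd (.nd (.lf 0x6a3) (.lf 0)) (.nd (.lf 0x4ea) (.lf 0)))))) (.nd (.nd (.nd (.nd (.nd (.lf 0xde) (.lf 0x8e1)) (.nd (.lf 0x631) (.lf 0))) (.nd (.nd (.lf 0x542) (.lf 0)) (.nd (.lf 0x80b) (.lf 0)))) (.nd (.nd (.nd (.lf 0x2c1) (.lf 0)) (.nd (.lf 0x530) (.lf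 0))) (.nd (.nd (.lf 0x3c5) (.lf 0)) (.nd (.lf 0x8e5) (.lf 0))))) (.nd (.nd (.nd (.nd (.lf 0x22b) (.lf 0x7e5)) (.nd (.lf 0x573) (.lf 0))) (.nd (.nd (.lf 0x2ae) (.lf 0)) (.nd (.lf 0x114) (.lf 0)))) (.nd (.nd (.nd (.lf 0x45e) (.lf 0)) (.nd (.lf 0x6ac) (.lf 0))) (.nd (.nd (.lf 0x263) (.lf 0)) (.nd (.lf 0x440) (.lf 0)))))))
def tabQ0_nbabbab : Tr := (.nd (.nd (.nd (.nd (.nd (.nd (.lf 0x86) (.lf 0x3d3)) (.nd (.lf 0x784) (.lf 0))) (.nd (.nd (.lf 0xfd) (.lf 0)) (.nd (.lf 0x4eb) (.lf 0)))) (.nd (.nd (.nd (.lf 0x2ba) (.lf 0)) (.nd (.lf 0x2e3) (.lf 0))) (.nd (.nd (.lf 0x42a) (.lf 0)) (.nd (.lf 0x703) (.lf 0))))) (.nd (.nd (.nd (.nd (.lf 0x1de) (.lf 0xf3)) (.nd (.lf 0x3ac) (.lf 0))) (.nd (.nd (.lf 0x5dc) (.lf 0)) (.nd (.lf 0x40d) (.lf 0))))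 (.nd (.nd (.nd (.lf 0x423) (.lf 0)) (.nd (.lf 0x70a) (.lf 0))) (.nd (.nd (.lf 0xa6) (.lf 0)) (.nd (.lf 0x617) (.lf 0)))))) (.nd (.nd (.nd (.nd (.nd (.lf 0x133) (.lf 0x417)) (.nd (.lf 0xe4) (.lf 0))) (.nd (.nd (.lf 0x576) (.lf 0)) (.nd (.lf 0x7f1) (.lf 0)))) (.nd (.nd (.nd (.lf 0x39f) (.lf 0)) (.nd (.lf 0x856) (.lf 0))) (.nd (.nd (.lf 0x51f) (.lf 0)) (.nd (.lf 0x788) (.lf 0))))) (.nd (.nd (.nd (.nd (.lf 0x27a) (.lf 0x7ca)) (.nd (.lf 0x80a) (.lf 0))) (.nd (.nd (.lf 0xc8) (.lf 0)) (.nd (.lf 0x196) (.lf 0)))) (.nd (.nd (.nd (.lf 0x3b3) (.lf 0)) (.nd (.lf 0x484) (.lf 0))) (.nd (.nd (.lf 0x70) (.lf 0)) (.nd (.lf 0x27c) (.lf 0)))))))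
def tabQ0_nbabbba : Tr := (.nd (.nd (.nd (.nd (.nd (.nd (.lf 0x17) (.lf 0x6be)) (.nd (.lf 0x43e) (.lf 0))) (.nd (.nd (.lf 0x4f3) (.lf 0)) (.nd (.lf 0x823) (.lf 0)))) (.nd (.nd (.nd (.lf 0x2ed) (.lf 0)) (.nd (.lf 0x671) (.lf 0))) (.nd (.nd (.lf 0x672) (.lf 0)) (.nd (.lf 0x68f) (.lf 0))))) (.nd (.nd (.nd (.nd (.lf 0x1b2) (.lf 0x8e7)) (.nd (.lf 0x74e) (.lf 0))) (.nd (.nd (.lf 0x2c9) (.lf 0)) (.nd (.lf 0x33c) (.lf 0)))) (.nd (.nd (.nd (.lf 0x404) (.lf 0)) (.nd (.lf 0x6ba) (.lf 0))) (.nd (.nd (.lf 0x4e5) (.lf 0)) (.nd (.lf 0x7f2) (.lf 0)))))) (.nd (.nd (.nd (.nd (.nd (.lf 0x108) (.lf 0x734)) (.nd (.lf 0x477) (.lf 0))) (.nd (.nd (.lf 0x55d) (.lf 0)) (.nd (.lf 0x432) (.lf 0)))) (.nd (.nd (.nd (.lf 0xe6) (.lf 0)) (.nd (.lf 0x7d5) (.lf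 0))) (.nd (.nd (.lf 0x6bd) (.lf 0)) (.nd (.lf 0x633) (.lf 0))))) (.nd (.nd (.nd (.nd (.lf 0x190) (.lf 0x466)) (.nd (.lf 0x667) (.lf 0))) (.nd (.nd (.lf 0x61e) (.lf 0)) (.nd (.lf 0x679) (.lf 0)))) (.nd (.nd (.nd (.lf 0x47f) (.lf 0)) (.nd (.lf 0x84b) (.lf 0))) (.nd (.nd (.lf 0x308) (.lf 0)) (.nd (.lf 0x813) (.lf 0)))))))
def tabQ0_nbabbbb : Tr := (.nd (.nd (.nd (.nd (.nd (.nd (.lf 0xb1) (.lf 0x60f)) (.nd (.lf 0x109) (.lf 0))) (.nd (.nd (.lf 0x52b) (.lf 0)) (.nd (.lf 0x492) (.lf 0)))) (.nd (.nd (.nd (.lf 0x332) (.lf 0)) (.nd (.lf 0x5ef) (.lf 0))) (.nd (.nd (.lf 0x5e4) (.lf 0)) (.nd (.lf 0x806) (.lf 0))))) (.nd (.nd (.nd (.nd (.lf 0x204) (.lf 0xa9)) (.nd (.lf 0x761) (.lf 0))) (.nd (.nd (.lf 0x569) (.lf 0)) (.nd (.lf 0x242) (.lf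 0)))) (.nd (.nd (.nd (.lf 0x446) (.lf 0)) (.nd (.lf 0x69c) (.lf 0))) (.nd (.nd (.lf 0x71d) (.lf 0)) (.nd (.lf 0x26e) (.lf 0)))))) (.nd (.nd (.nd (.nd (.nd (.lf 0x161) (.lf 0x830)) (.nd (.lf 0x4cb) (.lf 0))) (.nd (.nd (.lf 0x594) (.lf 0)) (.nd (.lf 0x75a) (.lf 0)))) (.nd (.nd (.nd (.lf 0xd4) (.lf 0)) (.nd (.lf 0x862) (.lf 0))) (.nd (.nd (.lf 0x6dc) (.lf 0)) (.nd (.lf 0x8ef) (.lf 0))))) (.nd (.nd (.nd (.nd (.lf 0x2a0) (.lf 0x63)) (.nd (.lf 0x814) (.lf 0))) (.nd (.nd (.lf 0x2da) (.lf 0)) (.nd (.lf 0x504) (.lf 0)))) (.nd (.nd (.nd (.lf 0x4b5) (.lf 0)) (.nd (.lf 0x88c) (.lf 0))) (.nd (.nd (.lf 0x56b) (.lf 0)) (.nd (.lf 0x6cf) (.lf 0)))))))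
def tabQ0_nbbaaaa : Tr := (.nd (.nd (.nd (.nd (.nd (.nd (.lf 0xa) (.lf 0x361)) (.nd (.lf 0x59b) (.lf 0))) (.nd (.nd (.lf 0x4bd) (.lf 0)) (.nd (.lf 0x688) (.lf 0)))) (.nd (.nd (.nd (.lf 0x66) (.lf 0)) (.nd (.lf 0x6d6) (.lf 0))) (.nd (.nd (.lf 0x64b) (.lf 0)) (.nd (.lf 0x8ce) (.lf 0))))) (.nd (.nd (.nd (.nd (.lf 0xf4) (.lf 0x5c6)) (.nd (.lf 0x1ce) (.lf 0))) (.nd (.nd (.lf 0x5a1) (.lf 0)) (.nd (.lf 0x656) (.lf 0)))) (.nd (.nd (.nd (.lf 0x3cc) (.lf 0)) (.nd (.lf 0x769) (.lf 0))) (.nd (.nd (.lf 0x6e5) (.lf 0)) (.nd (.lf 0x743) (.lf 0)))))) (.nd (.nd (.nd (.nd (.nd (.lf 0xc2) (.lf 0x64d)) (.nd (.lf 0x225) (.lf 0))) (.nd (.nd (.lf 0x536) (.lf 0)) (.nd (.lf 0x3fb) (.lf 0)))) (.nd (.nd (.nd (.lf 0x342) (.lf 0)) (.nd (.lf 0x2b2) (.lf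 0))) (.nd (.nd (.lf 0x140) (.lf 0)) (.nd (.lf 0x1d1) (.lf 0))))) (.nd (.nd (.nd (.nd (.lf 0x214) (.lf 0x26c)) (.nd (.lf 0x92) (.lf 0))) (.nd (.nd (.lf 0x5f9) (.lf 0)) (.nd (.lf 0x71f) (.lf 0)))) (.nd (.nd (.nd (.lf 0xc7) (.lf 0)) (.nd (.lf 0x730) (.lf 0))) (.nd (.nd (.lf 0x2bd) (.lf 0)) (.nd (.lf 0x30b) (.lf 0)))))))
def tabQ0_nbbaaab : Tr := (.nd (.nd (.nd (.nd (.nd (.nd (.lf 0x68) (.lf 0x147)) (.nd (.lf 0x77b) (.lf 0))) (.nd (.nd (.lf 0x500) (.lf 0)) (.nd (.lf 0x385) (.lf 0)))) (.nd (.nd (.nd (.lf 0x2fb) (.lf 0)) (.nd (.lf 0x134) (.lf 0))) (.nd (.nd (.lf 0x468) (.lf 0)) (.nd (.lf 0x563) (.lf 0))))) (.nd (.nd (.nd (.nd (.lf 0x1c4) (.lf 0x8cc)) (.nd (.lf 0x7db) (.lf 0))) (.nd (.nd (.lf 0x5cf) (.lf 0)) (.nd (.lf 0x79e) (.lf 0))))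 (.nd (.nd (.nd (.lf 0x40f) (.lf 0)) (.nd (.lf 0x3c3) (.lf 0))) (.nd (.nd (.lf 0x2cd) (.lf 0)) (.nd (.lf 0x6a8) (.lf 0)))))) (.nd (.nd (.nd (.nd (.nd (.lf 0xad) (.lf 0x66d)) (.nd (.lf 0x1a9) (.lf 0))) (.nd (.nd (.lf 0x566) (.lf 0)) (.nd (.lf 0x3d4) (.lf 0)))) (.nd (.nd (.nd (.lf 0x389) (.lf 0)) (.nd (.lf 0x850) (.lf 0))) (.nd (.nd (.lf 0x223) (.lf 0)) (.nd (.lf 0x18a) (.lf 0))))) (.nd (.nd (.nd (.nd (.lf 0x25f) (.lf 0x35b)) (.nd (.lf 0x708) (.lf 0))) (.nd (.nd (.lf 0x4c2) (.lf 0)) (.nd (.lf 0x765) (.lf 0)))) (.nd (.nd (.nd (.lf 0x48b) (.lf 0)) (.nd (.lf 0x787) (.lf 0))) (.nd (.nd (.lf 0x52a) (.lf 0)) (.nd (.lf 0x732) (.lf 0)))))))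
def tabQ0_nbbaaba : Tr := (.nd (.nd (.nd (.nd (.nd (.nd (.lf 0x3a) (.lf 0x7b7)) (.nd (.lf 0x5b4) (.lf 0))) (.nd (.nd (.lf 0x209) (.lf 0)) (.nd (.lf 0x895) (.lf 0)))) (.nd (.nd (.nd (.lf 0x2d9) (.lf 0)) (.nd (.lf 0x822) (.lf 0))) (.nd (.nd (.lf 0xe) (.lf 0)) (.nd (.lf 0x8e0) (.lf 0))))) (.nd (.nd (.nd (.nd (.lf 0x197) (.lf 0x273)) (.nd (.lf 0x782) (.lf 0))) (.nd (.nd (.lf 0x5ba) (.lf 0)) (.nd (.lf 0x541) (.lf 0)))) (.nd (.nd (.nd (.lf 0xc6) (.lf 0)) (.nd (.lf 0x7ae) (.lf 0))) (.nd (.nd (.lf 0x6f8) (.lf 0)) (.nd (.lf 0x259) (.lf 0)))))) (.nd (.nd (.nd (.nd (.nd (.lf 0xec) (.lf 0x29c)) (.nd (.lf 0x7a3) (.lf 0))) (.nd (.nd (.lf 0x54b) (.lf 0)) (.nd (.lf 0x833) (.lf 0)))) (.nd (.nd (.nd (.lf 0x365) (.lf 0)) (.nd (.lf 0x810) (.lf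 0))) (.nd (.nd (.lf 0x3f1) (.lf 0)) (.nd (.lf 0x882) (.lf 0))))) (.nd (.nd (.nd (.nd (.lf 0x239) (.lf 0x8e6)) (.nd (.lf 0x7f8) (.lf 0))) (.nd (.nd (.lf 0xba) (.lf 0)) (.nd (.lf 0x7ed) (.lf 0)))) (.nd (.nd (.nd (.lf 0x46c) (.lf 0)) (.nd (.lf 0x6fc) (.lf 0))) (.nd (.nd (.lf 0x601) (.lf 0)) (.nd (.lf 0x745) (.lf 0)))))))
def tabQ0_nbbaabb : Tr := (.nd (.nd (.nd (.nd (.nd (.nd (.lf 0x96) (.lf 0x6e9)) (.nd (.lf 0x789) (.lf 0))) (.nd (.nd (.lf 0x76) (.lf 0)) (.nd (.lf 0x88b) (.lf 0)))) (.nd (.nd (.nd (.lf 0x320) (.lf 0)) (.nd (.lf 0x487) (.lf 0))) (.nd (.nd (.lf 0x3c6) (.lf 0)) (.nd (.lf 0x78f) (.lf 0))))) (.nd (.nd (.nd (.nd (.lf 0x1ec) (.lf 0x51c)) (.nd (.lf 0x6c8) (.lf 0))) (.nd (.nd (.lf 0x5e5) (.lf 0)) (.nd (.lf 0x8c6) (.lf 0))))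 (.nd (.nd (.nd (.lf 0x23f) (.lf 0)) (.nd (.lf 0x543) (.lf 0))) (.nd (.nd (.lf 0x719) (.lf 0)) (.nd (.lf 0x7f6) (.lf 0)))))) (.nd (.nd (.nd (.nd (.nd (.lf 0x145) (.lf 0x410)) (.nd (.lf 0x7c) (.lf 0))) (.nd (.nd (.lf 0x582) (.lf 0)) (.nd (.lf 0x638) (.lf 0)))) (.nd (.nd (.nd (.lf 0x3ad) (.lf 0)) (.nd (.lf 0x497) (.lf 0))) (.nd (.nd (.lf 0x2a) (.lf 0)) (.nd (.lf 0x5fe) (.lf 0))))) (.nd (.nd (.nd (.nd (.lf 0x288) (.lf 0x6c)) (.nd (.lf 0x4b4) (.lf 0))) (.nd (.nd (.lf 0x60c) (.lf 0)) (.nd (.lf 0x6e3) (.lf 0)))) (.nd (.nd (.nd (.lf 0x12b) (.lf 0)) (.nd (.lf 0x5bf) (.lf 0))) (.nd (.nd (.lf 0x74d) (.lf 0)) (.nd (.lf 0x5e1) (.lf 0)))))))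
def tabQ0_nbbabaa : Tr := (.nd (.nd (.nd (.nd (.nd (.nd (.lf 0x22) (.lf 0x51d)) (.nd (.lf 0x475) (.lf 0))) (.nd (.nd (.lf 0x4d1) (.lf 0)) (.nd (.lf 0x517) (.lf 0)))) (.nd (.nd (.nd (.lf 0x2c2) (.lf 0)) (.nd (.lf 0x494) (.lf 0))) (.nd (.nd (.lf 0x657) (.lf 0)) (.nd (.lf 0x8de) (.lf 0))))) (.nd (.nd (.nd (.nd (.lf 0x183) (.lf 0x645)) (.nd (.lf 0x7c6) (.lf 0))) (.nd (.nd (.lf 0x1b1) (.lf 0)) (.nd (.lf 0x6bb) (.lf 0)))) (.nd (.nd (.nd (.lf 0x3de) (.lf 0)) (.nd (.lf 0x3e6) (.lf 0))) (.nd (.nd (.lf 0x1c5) (.lf 0)) (.nd (.lf 0x6e1) (.lf 0)))))) (.nd (.nd (.nd (.nd (.nd (.lf 0xd8) (.lf 0x210)) (.nd (.lf 0x144) (.lf 0))) (.nd (.nd (.lf 0xdf) (.lf 0)) (.nd (.lf 0x763) (.lf 0)))) (.nd (.nd (.nd (.lf 0x353) (.lf 0)) (.nd (.lf 0x485) (.lf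 0))) (.nd (.nd (.lf 0x3e3) (.lf 0)) (.nd (.lf 0x775) (.lf 0))))) (.nd (.nd (.nd (.nd (.lf 0x228) (.lf 0x8fb)) (.nd (.lf 0x489) (.lf 0))) (.nd (.nd (.lf 0x606) (.lf 0)) (.nd (.lf 0x5f4) (.lf 0)))) (.nd (.nd (.nd (.lf 0x34c) (.lf 0)) (.nd (.lf 0x87b) (.lf 0))) (.nd (.nd (.lf 0x729) (.lf 0)) (.nd (.lf 0x86d) (.lf 0)))))))
def tabQ0_nbbabab : Tr := (.nd (.nd (.nd (.nd (.nd (.nd (.lf 0x80) (.lf 0x22e)) (.nd (.lf 0x341) (.lf 0))) (.nd (.nd (.lf 0x50f) (.lf 0)) (.nd (.lf 0x89e) (.lf 0)))) (.nd (.nd (.nd (.lf 0x30e) (.lf 0)) (.nd (.lf 0x540) (.lf 0))) (.nd (.nd (.lf 0x5a2) (.lf 0)) (.nd (.lf 0x8dd) (.lf 0))))) (.nd (.nd (.nd (.nd (.lf 0x13d) (.lf 0x8ff)) (.nd (.lf 0x35c) (.lf 0))) (.nd (.nd (.lf 0x4e8) (.lf 0)) (.nd (.lf 0x15c) (.lf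 0)))) (.nd (.nd (.nd (.lf 0x203) (.lf 0)) (.nd (.lf 0x52) (.lf 0))) (.nd (.nd (.lf 0x710) (.lf 0)) (.nd (.lf 0x78) (.lf 0)))))) (.nd (.nd (.nd (.nd (.nd (.lf 0x12d) (.lf 0x87c)) (.nd (.lf 0x7b0) (.lf 0))) (.nd (.nd (.lf 0x31f) (.lf 0)) (.nd (.lf 0x60d) (.lf 0)))) (.nd (.nd (.nd (.lf 0x39d) (.lf 0)) (.nd (.lf 0x62a) (.lf 0))) (.nd (.nd (.lf 0x1b6) (.lf 0)) (.nd (.lf 0x831) (.lf 0))))) (.nd (.nd (.nd (.nd (.lf 0x275) (.lf 0x4ed)) (.nd (.lf 0xd9) (.lf 0))) (.nd (.nd (.lf 0x268) (.lf 0)) (.nd (.lf 0x327) (.lf 0)))) (.nd (.nd (.nd (.lf 0x28f) (.lf 0)) (.nd (.lf 0x344) (.lf 0))) (.nd (.nd (.lf 0x45b) (.lf 0)) (.nd (.lf 0x1a3) (.lf 0)))))))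
def tabQ0_nbbabba : Tr := (.nd (.nd (.nd (.nd (.nd (.nd (.lf 0x51) (.lf 0x5d8)) (.nd (.lf 0x76e) (.lf 0))) (.nd (.nd (.lf 0x4f1) (.lf 0)) (.nd (.lf 0x50) (.lf 0)))) (.nd (.nd (.nd (.lf 0x2e9) (.lf 0)) (.nd (.lf 0x101) (.lf 0))) (.nd (.nd (.lf 0x4de) (.lf 0)) (.nd (.lf 0x6e6) (.lf 0))))) (.nd (.nd (.nd (.nd (.lf 0xbb) (.lf 0x7e3)) (.nd (.lf 0x7d7) (.lf 0))) (.nd (.nd (.lf 0x57f) (.lf 0)) (.nd (.lf 0x8c0) (.lf 0)))) (.nd (.nd (.nd (.lf 0x3a2) (.lf 0)) (.nd (.lf 0x86e) (.lf 0))) (.nd (.nd (.lf 0x702) (.lf 0)) (.nd (.lf 0x82e) (.lf 0)))))) (.nd (.nd (.nd (.nd (.nd (.lf 0x103) (.lf 0x36)) (.nd (.lf 0x46b) (.lf 0))) (.nd (.nd (.lf 0x559) (.lf 0)) (.nd (.lf 0x42b) (.lf 0)))) (.nd (.nd (.nd (.lf 0x376) (.lf 0)) (.nd (.lf 0x462) (.lf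 0))) (.nd (.nd (.lf 0x4b7) (.lf 0)) (.nd (.lf 0x8ba) (.lf 0))))) (.nd (.nd (.nd (.nd (.lf 0x24e) (.lf 0x8a6)) (.nd (.lf 0x62d) (.lf 0))) (.nd (.nd (.lf 0x61b) (.lf 0)) (.nd (.lf 0x3e0) (.lf 0)))) (.nd (.nd (.nd (.lf 0x47b) (.lf 0)) (.nd (.lf 0x726) (.lf 0))) (.nd (.nd (.lf 0x73b) (.lf 0)) (.nd (.lf 0x83a) (.lf 0)))))))
def tabQ0_nbbabbb : Tr := (.nd (.nd (.nd (.nd (.nd (.nd (.lf 0xab) (.lf 0x5a0)) (.nd (.lf 0xb5) (.lf 0))) (.nd (.nd (.lf 0x528) (.lf 0)) (.nd (.lf 0x6f1) (.lf 0)))) (.nd (.nd (.nd (.lf 0x32f) (.lf 0)) (.nd (.lf 0x266) (.lf 0))) (.nd (.nd (.lf 0x69b) (.lf 0)) (.nd (.lf 0x67b) (.lf 0))))) (.nd (.nd (.nd (.nd (.lf 0x9b) (.lf 0x3db)) (.nd (.lf 0x14) (.lf 0))) (.nd (.nd (.lf 0x4d0) (.lf 0)) (.nd (.lf 0x8c9) (.lf 0))))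 (.nd (.nd (.nd (.lf 0x441) (.lf 0)) (.nd (.lf 0x32e) (.lf 0))) (.nd (.nd (.lf 0x30f) (.lf 0)) (.nd (.lf 0x821) (.lf 0)))))) (.nd (.nd (.nd (.nd (.nd (.lf 0x15b) (.lf 0x767)) (.nd (.lf 0x6bf) (.lf 0))) (.nd (.nd (.lf 0x591) (.lf 0)) (.nd (.lf 0x1f8) (.lf 0)))) (.nd (.nd (.nd (.lf 0x1b) (.lf 0)) (.nd (.lf 0x442) (.lf 0))) (.nd (.nd (.lf 0x6d9) (.lf 0)) (.nd (.lf 0x8cf) (.lf 0))))) (.nd (.nd (.nd (.nd (.lf 0x29a) (.lf 0x71c)) (.nd (.lf 0x4d4) (.lf 0))) (.nd (.nd (.lf 0x315) (.lf 0)) (.nd (.lf 0x897) (.lf 0)))) (.nd (.nd (.nd (.lf 0x4b1) (.lf 0)) (.nd (.lf 0x5d5) (.lf 0))) (.nd (.nd (.lf 0x4c0) (.lf 0)) (.nd (.lf 0xee) (.lf 0)))))))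
def tabQ0_nbbbaaa : Tr := (.nd (.nd (.nd (.nd (.nd (.nd (.lf 0x16) (.lf 0x38e)) (.nd (.lf 0x75b) (.lf 0))) (.nd (.nd (.lf 0x4c7) (.lf 0)) (.nd (.lf 0x46) (.lf 0)))) (.nd (.nd (.nd (.lf 0x2b9) (.lf 0)) (.nd (.lf 0x32) (.lf 0))) (.nd (.nd (.lf 0x4ab) (.lf 0)) (.nd (.lf 0x44d) (.lf 0))))) (.nd (.nd (.nd (.nd (.lf 0x17a) (.lf 0x368)) (.nd (.lf 0x7c3) (.lf 0))) (.nd (.nd (.lf 0x12c) (.lf 0)) (.nd (.lf 0x249) (.lf 0)))) (.nd (.nd (.nd (.lf 0x34b) (.lf 0)) (.nd (.lf 0x43f) (.lf 0))) (.nd (.nd (.lf 0x2d2) (.lf 0)) (.nd (.lf 0x70f) (.lf 0)))))) (.nd (.nd (.nd (.nd (.nd (.lf 0xcd) (.lf 0x661)) (.nd (.lf 0x6bc) (.lf 0))) (.nd (.nd (.lf 0x137) (.lf 0)) (.nd (.lf 0x50b) (.lf 0)))) (.nd (.nd (.nd (.lf 0x34a) (.lf 0)) (.nd (.lf 0x844) (.lf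 0))) (.nd (.nd (.lf 0x2f2) (.lf 0)) (.nd (.lf 0x6f4) (.lf 0))))) (.nd (.nd (.nd (.nd (.lf 0x21f) (.lf 0x800)) (.nd (.lf 0x7f0) (.lf 0))) (.nd (.nd (.lf 0x5ff) (.lf 0)) (.nd (.lf 0x75f) (.lf 0)))) (.nd (.nd (.nd (.lf 0x20d) (.lf 0)) (.nd (.lf 0x877) (.lf 0))) (.nd (.nd (.lf 0x725) (.lf 0)) (.nd (.lf 0x6f) (.lf 0)))))))
def tabQ0_nbbbaab : Tr := (.nd (.nd (.nd (.nd (.nd (.nd (.lf 0x74) (.lf 0x892)) (.nd (.lf 0x47c) (.lf 0))) (.nd (.nd (.lf 0x508) (.lf 0)) (.nd (.lf 0x123) (.lf 0)))) (.nd (.nd (.nd (.lf 0x304) (.lf 0)) (.nd (.lf 0x768) (.lf 0))) (.nd (.nd (.lf 0x67e) (.lf 0)) (.nd (.lf 0x350) (.lf 0))))) (.nd (.nd (.nd (.nd (.lf 0x1cf) (.lf 0x8cd)) (.nd (.lf 0x7e0) (.lf 0))) (.nd (.nd (.lf 0x5d4) (.lf 0)) (.nd (.lf 0x840) (.lf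 0)))) (.nd (.nd (.nd (.lf 0x415) (.lf 0)) (.nd (.lf 0x167) (.lf 0))) (.nd (.nd (.lf 0x5b) (.lf 0)) (.nd (.lf 0x35) (.lf 0)))))) (.nd (.nd (.nd (.nd (.nd (.lf 0x121) (.lf 0x33b)) (.nd (.lf 0x3f4) (.lf 0))) (.nd (.nd (.lf 0x56c) (.lf 0)) (.nd (.lf 0x57a) (.lf 0)))) (.nd (.nd (.nd (.lf 0x394) (.lf 0)) (.nd (.lf 0x5fa) (.lf 0))) (.nd (.nd (.lf 0x5e6) (.lf 0)) (.nd (.lf 0x2d) (.lf 0))))) (.nd (.nd (.nd (.nd (.lf 0x26a) (.lf 0x898)) (.nd (.lf 0x5f7) (.lf 0))) (.nd (.nd (.lf 0x629) (.lf 0)) (.nd (.lf 0x595) (.lf 0)))) (.nd (.nd (.nd (.lf 0x23a) (.lf 0)) (.nd (.lf 0x7a1) (.lf 0))) (.nd (.nd (.lf 0x418) (.lf 0)) (.nd (.lf 0x733) (.lf 0)))))))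
def tabQ0_nbbbaba : Tr := (.nd (.nd (.nd (.nd (.nd (.nd (.lf 0x45) (.lf 0x20)) (.nd (.lf 0x290) (.lf 0))) (.nd (.nd (.lf 0x4e9) (.lf 0)) (.nd (.lf 0x6fb) (.lf 0)))) (.nd (.nd (.nd (.lf 0x2e1) (.lf 0)) (.nd (.lf 0x50d) (.lf 0))) (.nd (.nd (.lf 0x669) (.lf 0)) (.nd (.lf 0x19b) (.lf 0))))) (.nd (.nd (.nd (.nd (.lf 0x1a2) (.lf 0x5a)) (.nd (.lf 0x406) (.lf 0))) (.nd (.nd (.lf 0x506) (.lf 0)) (.nd (.lf 0x8bf) (.lf 0)))) (.nd (.nd (.nd (.lf 0x3f7) (.lf 0)) (.nd (.lf 0x3df) (.lf 0))) (.nd (.nd (.lf 0x6fd) (.lf 0)) (.nd (.lf 0x3b6) (.lf 0)))))) (.nd (.nd (.nd (.nd (.nd (.lf 0xf8) (.lf 0x495)) (.nd (.lf 0x1ca) (.lf 0))) (.nd (.nd (.lf 0x314) (.lf 0)) (.nd (.lf 0x805) (.lf 0)))) (.nd (.nd (.nd (.lf 0x36e) (.lf 0)) (.nd (.lf 0x7fb) (.lf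 0))) (.nd (.nd (.lf 0x28c) (.lf 0)) (.nd (.lf 0x4a7) (.lf 0))))) (.nd (.nd (.nd (.nd (.lf 0x244) (.lf 0x598)) (.nd (.lf 0x71a) (.lf 0))) (.nd (.nd (.lf 0x616) (.lf 0)) (.nd (.lf 0x4d5) (.lf 0)))) (.nd (.nd (.nd (.lf 0x35d) (.lf 0)) (.nd (.lf 0x7d4) (.lf 0))) (.nd (.nd (.lf 0x737) (.lf 0)) (.nd (.lf 0x25e) (.lf 0)))))))
def tabQ0_nbbbabb : Tr := (.nd (.nd (.nd (.nd (.nd (.nd (.lf 0x2c) (.lf 0x2f)) (.nd (.lf 0x78b) (.lf 0))) (.nd (.nd (.lf 0x521) (.lf 0)) (.nd (.lf 0x8a3) (.lf 0)))) (.nd (.nd (.nd (.lf 0x326) (.lf 0)) (.nd (.lf 0x1f1) (.lf 0))) (.nd (.nd (.lf 0x1e3) (.lf 0)) (.nd (.lf 0x8b2) (.lf 0))))) (.nd (.nd (.nd (.nd (.lf 0x1f6) (.lf 0x377)) (.nd (.lf 0x6a9) (.lf 0))) (.nd (.nd (.lf 0x57b) (.lf 0)) (.nd (.lf 0x846) (.lf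 0)))) (.nd (.nd (.nd (.lf 0x39b) (.lf 0)) (.nd (.lf 0x82) (.lf 0))) (.nd (.nd (.lf 0x27b) (.lf 0)) (.nd (.lf 0x13b) (.lf 0)))))) (.nd (.nd (.nd (.nd (.nd (.lf 0x150) (.lf 0x85)) (.nd (.lf 0x7bb) (.lf 0))) (.nd (.nd (.lf 0x58a) (.lf 0)) (.nd (.lf 0x896) (.lf 0)))) (.nd (.nd (.nd (.lf 0x3b4) (.lf 0)) (.nd (.lf 0x43) (.lf 0))) (.nd (.nd (.lf 0x5e9) (.lf 0)) (.nd (.lf 0x6c9) (.lf 0))))) (.nd (.nd (.nd (.nd (.lf 0x25b) (.lf 0x87d)) (.nd (.lf 0x77c) (.lf 0))) (.nd (.nd (.lf 0x63c) (.lf 0)) (.nd (.lf 0xbd) (.lf 0)))) (.nd (.nd (.nd (.lf 0x4aa) (.lf 0)) (.nd (.lf 0x80c) (.lf 0))) (.nd (.nd (.lf 0x4da) (.lf 0)) (.nd (.lf 0x8a2) (.lf 0)))))))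
def tabQ0_nbbbbaa : Tr := (.nd (.nd (.nd (.nd (.nd (.nd (.lf 0x2e) (.lf 0x8f8)) (.nd (.lf 0x31a) (.lf 0))) (.nd (.nd (.lf 0x4d9) (.lf 0)) (.nd (.lf 0x6d1) (.lf 0)))) (.nd (.nd (.nd (.lf 0x2ce) (.lf 0)) (.nd (.lf 0x81f) (.lf 0))) (.nd (.nd (.lf 0x65f) (.lf 0)) (.nd (.lf 0x5cc) (.lf 0))))) (.nd (.nd (.nd (.nd (.lf 0x18c) (.lf 0x8fe)) (.nd (.lf 0x774) (.lf 0))) (.nd (.nd (.lf 0x329) (.lf 0)) (.nd (.lf 0x64e) (.lf 0)))) (.nd (.nd (.nd (.lf 0x3e7) (.lf 0)) (.nd (.lf 0x7d3) (.lf 0))) (.nd (.nd (.lf 0x5bb) (.lf 0)) (.nd (.lf 0x58) (.lf 0)))))) (.nd (.nd (.nd (.nd (.nd (.lf 0xe2) (.lf 0x783)) (.nd (.lf 0x5de) (.lf 0))) (.nd (.nd (.lf 0x546) (.lf 0)) (.nd (.lf 0x8a9) (.lf 0)))) (.nd (.nd (.nd (.lf 0x220) (.lf 0)) (.nd (.lf 0x849) (.lf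 0))) (.nd (.nd (.lf 0x2d1) (.lf 0)) (.nd (.lf 0x4c6) (.lf 0))))) (.nd (.nd (.nd (.nd (.lf 0x22f) (.lf 0x9a)) (.nd (.lf 0x3bb) (.lf 0))) (.nd (.nd (.lf 0x22c) (.lf 0)) (.nd (.lf 0x64c) (.lf 0)))) (.nd (.nd (.nd (.lf 0x464) (.lf 0)) (.nd (.lf 0x1fc) (.lf 0))) (.nd (.nd (.lf 0x571) (.lf 0)) (.nd (.lf 0xaf) (.lf 0)))))))
def tabQ0_nbbbbab : Tr := (.nd (.nd (.nd (.nd (.nd (.nd (.lf 0x8b) (.lf 0x8f3)) (.nd (.lf 0x785) (.lf 0))) (.nd (.nd (.lf 0x408) (.lf 0)) (.nd (.lf 0x57e) (.lf 0)))) (.nd (.nd (.nd (.lf 0x319) (.lf 0)) (.nd (.lf 0x1db) (.lf 0))) (.nd (.nd (.lf 0x1fa) (.lf 0)) (.nd (.lf 0x7ce) (.lf 0))))) (.nd (.nd (.nd (.nd (.lf 0x1e1) (.lf 0x67f)) (.nd (.lf 0x64a) (.lf 0))) (.nd (.nd (.lf 0x338) (.lf 0)) (.nd (.lf 0x120) (.lf 0))))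 (.nd (.nd (.nd (.lf 0x428) (.lf 0)) (.nd (.lf 0x107) (.lf 0))) (.nd (.nd (.lf 0x690) (.lf 0)) (.nd (.lf 0x50e) (.lf 0)))))) (.nd (.nd (.nd (.nd (.nd (.lf 0x139) (.lf 0x780)) (.nd (.lf 0x7b2) (.lf 0))) (.nd (.nd (.lf 0x257) (.lf 0)) (.nd (.lf 0x1bc) (.lf 0)))) (.nd (.nd (.nd (.lf 0x3a4) (.lf 0)) (.nd (.lf 0x858) (.lf 0))) (.nd (.nd (.lf 0x5ed) (.lf 0)) (.nd (.lf 0x7aa) (.lf 0))))) (.nd (.nd (.nd (.nd (.lf 0x27f) (.lf 0x7d6)) (.nd (.lf 0x34f) (.lf 0))) (.nd (.nd (.lf 0x4c5) (.lf 0)) (.nd (.lf 0x63b) (.lf 0)))) (.nd (.nd (.nd (.lf 0xf7) (.lf 0)) (.nd (.lf 0x3e1) (.lf 0))) (.nd (.nd (.lf 0x399) (.lf 0)) (.nd (.lf 0x4b0) (.lf 0)))))))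
def tabQ0_nbbbbba : Tr := (.nd (.nd (.nd (.nd (.nd (.nd (.lf 0x5c) (.lf 0x749)) (.nd (.lf 0x544) (.lf 0))) (.nd (.nd (.lf 0x4f8) (.lf 0)) (.nd (.lf 0x36b) (.lf 0)))) (.nd (.nd (.nd (.lf 0x2f0) (.lf 0)) (.nd (.lf 0x380) (.lf 0))) (.nd (.nd (.lf 0x5eb) (.lf 0)) (.nd (.lf 0x305) (.lf 0))))) (.nd (.nd (.nd (.nd (.lf 0x1b8) (.lf 0x6ee)) (.nd (.lf 0x613) (.lf 0))) (.nd (.nd (.lf 0x11a) (.lf 0)) (.nd (.lf 0x277) (.lf 0)))) (.nd (.nd (.nd (.lf 0x1bd) (.lf 0)) (.nd (.lf 0x799) (.lf 0))) (.nd (.nd (.lf 0x426) (.lf 0)) (.nd (.lf 0x8df) (.lf 0)))))) (.nd (.nd (.nd (.nd (.nd (.lf 0x10e) (.lf 0x61a)) (.nd (.lf 0x7a7) (.lf 0))) (.nd (.nd (.lf 0x479) (.lf 0)) (.nd (.lf 0x2) (.lf 0)))) (.nd (.nd (.nd (.lf 0x37e) (.lf 0)) (.nd (.lf 0x84e) (.lf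 0))) (.nd (.nd (.lf 0x2f7) (.lf 0)) (.nd (.lf 0x270) (.lf 0))))) (.nd (.nd (.nd (.nd (.lf 0x256) (.lf 0x405)) (.nd (.lf 0x7ff) (.lf 0))) (.nd (.nd (.lf 0x5d7) (.lf 0)) (.nd (.lf 0x387) (.lf 0)))) (.nd (.nd (.nd (.lf 0x483) (.lf 0)) (.nd (.lf 0x2f9) (.lf 0))) (.nd (.nd (.lf 0x237) (.lf 0)) (.nd (.lf 0xb0) (.lf 0)))))))
def tabQ0_nbbbbbb : Tr := (.nd (.nd (.nd (.nd (.nd (.nd (.lf 0xb7) (.lf 0x8d8)) (.nd (.lf 0x271) (.lf 0))) (.nd (.nd (.lf 0x531) (.lf 0)) (.nd (.lf 0x61) (.lf 0)))) (.nd (.nd (.nd (.lf 0x337) (.lf 0)) (.nd (.lf 0x1e6) (.lf 0))) (.nd (.nd (.lf 0x2d8) (.lf 0)) (.nd (.lf 0x173) (.lf 0))))) (.nd (.nd (.nd (.nd (.lf 0x20a) (.lf 0x37b)) (.nd (.lf 0x7c0) (.lf 0))) (.nd (.nd (.lf 0x40b) (.lf 0)) (.nd (.lf 0x472) (.lf 0))))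 (.nd (.nd (.nd (.lf 0x437) (.lf 0)) (.nd (.lf 0x855) (.lf 0))) (.nd (.nd (.lf 0x71e) (.lf 0)) (.nd (.lf 0x2bc) (.lf 0)))))) (.nd (.nd (.nd (.nd (.nd (.lf 0x165) (.lf 0x8d7)) (.nd (.lf 0x7a8) (.lf 0))) (.nd (.nd (.lf 0x59a) (.lf 0)) (.nd (.lf 0x40a) (.lf 0)))) (.nd (.nd (.nd (.lf 0x3c1) (.lf 0)) (.nd (.lf 0x863) (.lf 0))) (.nd (.nd (.lf 0x6a7) (.lf 0)) (.nd (.lf 0x887) (.lf 0))))) (.nd (.nd (.nd (.nd (.lf 0x2a4) (.lf 0x51a)) (.nd (.lf 0x567) (.lf 0))) (.nd (.nd (.lf 0x646) (.lf 0)) (.nd (.lf 0x586) (.lf 0)))) (.nd (.nd (.nd (.lf 0x4b8) (.lf 0)) (.nd (.lf 0x3d8) (.lf 0))) (.nd (.nd (.lf 0x754) (.lf 0)) (.nd (.lf 0x44a) (.lf 0)))))))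
def tabQ0 : Tr := (.nd (.nd (.nd (.nd (.nd (.nd tabQ0_naaaaaa tabQ0_naaaaab) (.nd tabQ0_naaaaba tabQ0_naaaabb)) (.nd (.nd tabQ0_naaabaa tabQ0_naaabab) (.nd tabQ0_naaabba tabQ0_naaabbb))) (.nd (.nd (.nd tabQ0_naabaaa tabQ0_naabaab) (.nd tabQ0_naababa tabQ0_naababb)) (.nd (.nd tabQ0_naabbaa tabQ0_naabbab) (.nd tabQ0_naabbba tabQ0_naabbbb)))) (.nd (.nd (.nd (.nd tabQ0_nabaaaa tabQ0_nabaaab) (.nd tabQ0_nabaaba tabQ0_nabaabb)) (.nd (.nd tabQ0_nababaa tabQ0_nababab) (.nd tabQ0_nababba tabQ0_nababbb))) (.nd (.nd (.nd tabQ0_nabbaaa tabQ0_nabbaab) (.nd tabQ0_nabbaba tabQ0_nabbabb)) (.nd (.nd tabQ0_nabbbaa tabQ0_nabbbab) (.nd tabQ0_nabbbba tabQ0_nabbbbb))))) (.nd (.nd (.nd (.nd (.nd tabQ0_nbaaaaa tabQ0_nbaaaab) (.nd tabQ0_nbaaaba tabQ0_nbaaabb))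 (.nd (.nd tabQ0_nbaabaa tabQ0_nbaabab) (.nd tabQ0_nbaabba tabQ0_nbaabbb))) (.nd (.nd (.nd tabQ0_nbabaaa tabQ0_nbabaab) (.nd tabQ0_nbababa tabQ0_nbababb)) (.nd (.nd tabQ0_nbabbaa tabQ0_nbabbab) (.nd tabQ0_nbabbba tabQ0_nbabbbb)))) (.nd (.nd (.nd (.nd tabQ0_nbbaaaa tabQ0_nbbaaab) (.nd tabQ0_nbbaaba tabQ0_nbbaabb)) (.nd (.nd tabQ0_nbbabaa tabQ0_nbbabab) (.nd tabQ0_nbbabba tabQ0_nbbabbb))) (.nd (.nd (.nd tabQ0_nbbbaaa tabQ0_nbbbaab) (.nd tabQ0_nbbbaba tabQ0_nbbbabb)) (.nd (.nd tabQ0_nbbbbaa tabQ0_nbbbbab) (.nd tabQ0_nbbbbba tabQ0_nbbbbbb))))))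
def witQ0_naaaaaa : Tr := (.nd (.nd (.nd (.nd (.nd (.nd (.lf 0x0) (.lf 0x69e)) (.nd (.lf 0x0) (.lf 0))) (.nd (.nd (.lf 0xbe9) (.lf 0)) (.nd (.lf 0xc51) (.lf 0)))) (.nd (.nd (.nd (.lf 0x0) (.lf 0)) (.nd (.lf 0x1332) (.lf 0))) (.nd (.nd (.lf 0x8e4) (.lf 0)) (.nd (.lf 0x197b) (.lf 0))))) (.nd (.nd (.nd (.nd (.lf 0x0) (.lf 0xf3a)) (.nd (.lf 0xe68) (.lf 0))) (.nd (.nd (.lf 0x0) (.lf 0)) (.nd (.lf 0xccf) (.lf 0)))) (.nd (.nd (.nd (.lf 0x0) (.lf 0)) (.nd (.lf 0x1671) (.lf 0))) (.nd (.nd (.lf 0xd4a) (.lf 0)) (.nd (.lf 0x1d70) (.lf 0)))))) (.nd (.nd (.nd (.nd (.nd (.lf 0x0) (.lf 0x128c)) (.nd (.lf 0x0) (.lf 0))) (.nd (.nd (.lf 0x199c) (.lf 0)) (.nd (.lf 0xfc1) (.lf 0)))) (.nd (.nd (.nd (.lf 0x0) (.lf 0)) (.nd (.lf 0x2e4) (.lf 0))) (.nd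 (.nd (.lf 0x185) (.lf 0)) (.nd (.lf 0x2b0) (.lf 0))))) (.nd (.nd (.nd (.nd (.lf 0x1a07) (.lf 0x16b1)) (.nd (.lf 0x1ad9) (.lf 0))) (.nd (.nd (.lf 0x0) (.lf 0)) (.nd (.lf 0xe6a) (.lf 0)))) (.nd (.nd (.nd (.lf 0x166f) (.lf 0)) (.nd (.lf 0x1de2) (.lf 0))) (.nd (.nd (.lf 0x16ad) (.lf 0)) (.nd (.lf 0x153d) (.lf 0)))))))
def witQ0_naaaaab : Tr := (.nd (.nd (.nd (.nd (.nd (.nd (.lf 0x0) (.lf 0x1b0c)) (.nd (.lf 0x1857) (.lf 0))) (.nd (.nd (.lf 0x0) (.lf 0)) (.nd (.lf 0x6ab) (.lf 0)))) (.nd (.nd (.nd (.lf 0x0) (.lf 0)) (.nd (.lf 0x0) (.lf 0))) (.nd (.nd (.lf 0x0) (.lf 0)) (.nd (.lf 0x157b) (.lf 0))))) (.nd (.nd (.nd (.nd (.lf 0x0) (.lf 0x1e76)) (.nd (.lf 0xd4b) (.lf 0))) (.nd (.nd (.lf 0x0) (.lf 0)) (.nd (.lf 0x1d16) (.lf 0)))) (.nd (.nd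 (.nd (.lf 0x0) (.lf 0)) (.nd (.lf 0x17c9) (.lf 0))) (.nd (.nd (.lf 0xc21) (.lf 0)) (.nd (.lf 0x1207) (.lf 0)))))) (.nd (.nd (.nd (.nd (.nd (.lf 0x0) (.lf 0x1e62)) (.nd (.lf 0x0) (.lf 0))) (.nd (.nd (.lf 0xc3f) (.lf 0)) (.nd (.lf 0x13e6) (.lf 0)))) (.nd (.nd (.nd (.lf 0x0) (.lf 0)) (.nd (.lf 0x1572) (.lf 0))) (.nd (.nd (.lf 0xb84) (.lf 0)) (.nd (.lf 0x1b49) (.lf 0))))) (.nd (.nd (.nd (.nd (.lf 0x0) (.lf 0x650)) (.nd (.lf 0x0) (.lf 0))) (.nd (.nd (.lf 0x0) (.lf 0)) (.nd (.lf 0x0) (.lf 0)))) (.nd (.nd (.nd (.lf 0xa56) (.lf 0)) (.nd (.lf 0x0) (.lf 0))) (.nd (.nd (.lf 0xbd) (.lf 0)) (.nd (.lf 0xeef) (.lf 0)))))))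
def witQ0_naaaaba : Tr := (.nd (.nd (.nd (.nd (.nd (.nd (.lf 0x0) (.lf 0x164b)) (.nd (.lf 0x454) (.lf 0))) (.nd (.nd (.lf 0x0) (.lf 0)) (.nd (.lf 0x0) (.lf 0)))) (.nd (.nd (.nd (.lf 0x0) (.lf 0)) (.nd (.lf 0x1513) (.lf 0))) (.nd (.nd (.lf 0x0) (.lf 0)) (.nd (.lf 0x2e4) (.lf 0))))) (.nd (.nd (.nd (.nd (.lf 0x18fd) (.lf 0x10a6)) (.nd (.lf 0x109a) (.lf 0))) (.nd (.nd (.lf 0x871) (.lf 0)) (.nd (.lf 0x8c5) (.lf 0)))) (.nd (.nd (.nd (.lf 0x0) (.lf 0)) (.nd (.lf 0x687) (.lf 0))) (.nd (.nd (.lf 0x18e9) (.lf 0)) (.nd (.lf 0x17d1) (.lf 0)))))) (.nd (.nd (.nd (.nd (.nd (.lf 0x0) (.lf 0xbc4)) (.nd (.lf 0x5a0) (.lf 0))) (.nd (.nd (.lf 0x0) (.lf 0)) (.nd (.lf 0x0) (.lf 0)))) (.nd (.nd (.nd (.lf 0x1a58) (.lf 0)) (.nd (.lf 0x1e) (.lf 0))) (.nd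 (.nd (.lf 0x158d) (.lf 0)) (.nd (.lf 0x1c4a) (.lf 0))))) (.nd (.nd (.nd (.nd (.lf 0x0) (.lf 0x1c58)) (.nd (.lf 0x114d) (.lf 0))) (.nd (.nd (.lf 0x6ed) (.lf 0)) (.nd (.lf 0x196f) (.lf 0)))) (.nd (.nd (.nd (.lf 0x1aa1) (.lf 0)) (.nd (.lf 0xf71) (.lf 0))) (.nd (.nd (.lf 0x14f6) (.lf 0)) (.nd (.lf 0x10ca) (.lf 0)))))))
def witQ0_naaaabb : Tr := (.nd (.nd (.nd (.nd (.nd (.nd (.lf 0x0) (.lf 0x1470)) (.nd (.lf 0x5a2) (.lf 0))) (.nd (.nd (.lf 0x0) (.lf 0)) (.nd (.lf 0x146b) (.lf 0)))) (.nd (.nd (.nd (.lf 0x0) (.lf 0)) (.nd (.lf 0x0) (.lf 0))) (.nd (.nd (.lf 0x5c) (.lf 0)) (.nd (.lf 0x1d39) (.lf 0))))) (.nd (.nd (.nd (.nd (.lf 0x0) (.lf 0x1d0f)) (.nd (.lf 0x14b) (.lf 0))) (.nd (.nd (.lf 0x0) (.lf 0)) (.nd (.lf 0x1335) (.lf 0)))) (.nd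 (.nd (.nd (.lf 0x13b0) (.lf 0)) (.nd (.lf 0xbb3) (.lf 0))) (.nd (.nd (.lf 0x0) (.lf 0)) (.nd (.lf 0x44a) (.lf 0)))))) (.nd (.nd (.nd (.nd (.nd (.lf 0x0) (.lf 0x19ad)) (.nd (.lf 0xc72) (.lf 0))) (.nd (.nd (.lf 0x0) (.lf 0)) (.nd (.lf 0x0) (.lf 0)))) (.nd (.nd (.nd (.lf 0x0) (.lf 0)) (.nd (.lf 0xa3c) (.lf 0))) (.nd (.nd (.lf 0x978) (.lf 0)) (.nd (.lf 0xfee) (.lf 0))))) (.nd (.nd (.nd (.nd (.lf 0x0) (.lf 0x1084)) (.nd (.lf 0xfed) (.lf 0))) (.nd (.nd (.lf 0x0) (.lf 0)) (.nd (.lf 0xe5e) (.lf 0)))) (.nd (.nd (.nd (.lf 0x96b) (.lf 0)) (.nd (.lf 0x1119) (.lf 0))) (.nd (.nd (.lf 0x1b6c) (.lf 0)) (.nd (.lf 0x15bf) (.lf 0)))))))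
def witQ0_naaabaa : Tr := (.nd (.nd (.nd (.nd (.nd (.nd (.lf 0x0) (.lf 0x1834)) (.nd (.lf 0x19b9) (.lf 0))) (.nd (.nd (.lf 0x0) (.lf 0)) (.nd (.lf 0x0) (.lf 0)))) (.nd (.nd (.nd (.lf 0x0) (.lf 0)) (.nd (.lf 0x0) (.lf 0))) (.nd (.nd (.lf 0x17c4) (.lf 0)) (.nd (.lf 0x84f) (.lf 0))))) (.nd (.nd (.nd (.nd (.lf 0x0) (.lf 0x4a4)) (.nd (.lf 0x1710) (.lf 0))) (.nd (.nd (.lf 0x1654) (.lf 0)) (.nd (.lf 0x1d98) (.lf 0)))) (.nd (.nd (.nd (.lf 0x0) (.lf 0)) (.nd (.lf 0xcc2) (.lf 0))) (.nd (.nd (.lf 0x0) (.lf 0)) (.nd (.lf 0xee3) (.lf 0)))))) (.nd (.nd (.nd (.nd (.nd (.lf 0x0) (.lf 0x832)) (.nd (.lf 0x0) (.lf 0))) (.nd (.nd (.lf 0x1a21) (.lf 0)) (.nd (.lf 0x8d4) (.lf 0)))) (.nd (.nd (.nd (.lf 0xb62) (.lf 0)) (.nd (.lf 0x0) (.lf 0))) (.nd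 (.nd (.lf 0x0) (.lf 0)) (.nd (.lf 0x1110) (.lf 0))))) (.nd (.nd (.nd (.nd (.lf 0x0) (.lf 0x14b6)) (.nd (.lf 0x0) (.lf 0))) (.nd (.nd (.lf 0x0) (.lf 0)) (.nd (.lf 0x627) (.lf 0)))) (.nd (.nd (.nd (.lf 0x0) (.lf 0)) (.nd (.lf 0xab7) (.lf 0))) (.nd (.nd (.lf 0x185f) (.lf 0)) (.nd (.lf 0x0) (.lf 0)))))))
def witQ0_naaabab : Tr := (.nd (.nd (.nd (.nd (.nd (.nd (.lf 0x0) (.lf 0x1a4f)) (.nd (.lf 0x0) (.lf 0))) (.nd (.nd (.lf 0x0) (.lf 0)) (.nd (.lf 0x0) (.lf 0)))) (.nd (.nd (.nd (.lf 0x0) (.lf 0)) (.nd (.lf 0x11f) (.lf 0))) (.nd (.nd (.lf 0x0) (.lf 0)) (.nd (.lf 0x15b5) (.lf 0))))) (.nd (.nd (.nd (.nd (.lf 0x0) (.lf 0x57d)) (.nd (.lf 0x0) (.lf 0))) (.nd (.nd (.lf 0x177d) (.lf 0)) (.nd (.lf 0x359) (.lf 0)))) (.nd (.nd (.nd (.lf 0x1e1)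 (.lf 0)) (.nd (.lf 0x1dde) (.lf 0))) (.nd (.nd (.lf 0x1551) (.lf 0)) (.nd (.lf 0x1b24) (.lf 0)))))) (.nd (.nd (.nd (.nd (.nd (.lf 0x0) (.lf 0x152f)) (.nd (.lf 0x0) (.lf 0))) (.nd (.nd (.lf 0x0) (.lf 0)) (.nd (.lf 0x74e) (.lf 0)))) (.nd (.nd (.nd (.lf 0x14e4) (.lf 0)) (.nd (.lf 0x2b5) (.lf 0))) (.nd (.nd (.lf 0x553) (.lf 0)) (.nd (.lf 0x4b6) (.lf 0))))) (.nd (.nd (.nd (.nd (.lf 0x0) (.lf 0x1ad9)) (.nd (.lf 0x6cc) (.lf 0))) (.nd (.nd (.lf 0x1c52) (.lf 0)) (.nd (.lf 0x181a) (.lf 0)))) (.nd (.nd (.nd (.lf 0x954) (.lf 0)) (.nd (.lf 0xc4d) (.lf 0))) (.nd (.nd (.lf 0xb53) (.lf 0)) (.nd (.lf 0x69c) (.lf 0)))))))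
def witQ0_naaabba : Tr := (.nd (.nd (.nd (.nd (.nd (.nd (.lf 0x0) (.lf 0x15f)) (.nd (.lf 0xddb) (.lf 0))) (.nd (.nd (.lf 0x0) (.lf 0)) (.nd (.lf 0x18ae) (.lf 0)))) (.nd (.nd (.nd (.lf 0x2cc) (.lf 0)) (.nd (.lf 0x0) (.lf 0))) (.nd (.nd (.lf 0x152d) (.lf 0)) (.nd (.lf 0x25d) (.lf 0))))) (.nd (.nd (.nd (.nd (.lf 0x0) (.lf 0x1aaf)) (.nd (.lf 0x5b4) (.lf 0))) (.nd (.nd (.lf 0xd8b) (.lf 0)) (.nd (.lf 0x1d5b) (.lf 0)))) (.nd (.nd (.nd (.lf 0x8a6) (.lf 0)) (.nd (.lf 0x9a7) (.lf 0))) (.nd (.nd (.lf 0x0) (.lf 0)) (.nd (.lf 0x1b76) (.lf 0)))))) (.nd (.nd (.nd (.nd (.nd (.lf 0x0) (.lf 0x1b9f)) (.nd (.lf 0x5e4) (.lf 0))) (.nd (.nd (.lf 0x0) (.lf 0)) (.nd (.lf 0x10b0) (.lf 0)))) (.nd (.nd (.nd (.lf 0xf83) (.lf 0)) (.nd (.lf 0x17ab) (.lf 0)))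 (.nd (.nd (.lf 0x0) (.lf 0)) (.nd (.lf 0x9e9) (.lf 0))))) (.nd (.nd (.nd (.nd (.lf 0x0) (.lf 0x1a52)) (.nd (.lf 0x629) (.lf 0))) (.nd (.nd (.lf 0x1a79) (.lf 0)) (.nd (.lf 0x0) (.lf 0)))) (.nd (.nd (.nd (.lf 0x0) (.lf 0)) (.nd (.lf 0x0) (.lf 0))) (.nd (.nd (.lf 0x690) (.lf 0)) (.nd (.lf 0xa28) (.lf 0)))))))
def witQ0_naaabbb : Tr := (.nd (.nd (.nd (.nd (.nd (.nd (.lf 0x0) (.lf 0xaa6)) (.nd (.lf 0x799) (.lf 0))) (.nd (.nd (.lf 0x1581) (.lf 0)) (.nd (.lf 0xd4a) (.lf 0)))) (.nd (.nd (.nd (.lf 0x0) (.lf 0)) (.nd (.lf 0x1acc) (.lf 0))) (.nd (.nd (.lf 0x0) (.lf 0)) (.nd (.lf 0x929) (.lf 0))))) (.nd (.nd (.nd (.nd (.lf 0x1d95) (.lf 0x1618)) (.nd (.lf 0x0) (.lf 0))) (.nd (.nd (.lf 0x0) (.lf 0)) (.nd (.lf 0x0) (.lf 0)))) (.nd (.nd (.nd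 (.lf 0x0) (.lf 0)) (.nd (.lf 0x8b4) (.lf 0))) (.nd (.nd (.lf 0x12d6) (.lf 0)) (.nd (.lf 0x78a) (.lf 0)))))) (.nd (.nd (.nd (.nd (.nd (.lf 0xbd1) (.lf 0x1a3c)) (.nd (.lf 0x1e53) (.lf 0))) (.nd (.nd (.lf 0x0) (.lf 0)) (.nd (.lf 0xf74) (.lf 0)))) (.nd (.nd (.nd (.lf 0x1390) (.lf 0)) (.nd (.lf 0x0) (.lf 0))) (.nd (.nd (.lf 0x0) (.lf 0)) (.nd (.lf 0xbf2) (.lf 0))))) (.nd (.nd (.nd (.nd (.lf 0x0) (.lf 0x6df)) (.nd (.lf 0x1775) (.lf 0))) (.nd (.nd (.lf 0x1406) (.lf 0)) (.nd (.lf 0x1aac) (.lf 0)))) (.nd (.nd (.nd (.lf 0xa88) (.lf 0)) (.nd (.lf 0xa3d) (.lf 0))) (.nd (.nd (.lf 0x0) (.lf 0)) (.nd (.lf 0x3d) (.lf 0)))))))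
def witQ0_naabaaa : Tr := (.nd (.nd (.nd (.nd (.nd (.nd (.lf 0x0) (.lf 0x1b82)) (.nd (.lf 0x0) (.lf 0))) (.nd (.nd (.lf 0x0) (.lf 0)) (.nd (.lf 0x198f) (.lf 0)))) (.nd (.nd (.nd (.lf 0x0) (.lf 0)) (.nd (.lf 0x70) (.lf 0))) (.nd (.nd (.lf 0x11e8) (.lf 0)) (.nd (.lf 0xcce) (.lf 0))))) (.nd (.nd (.nd (.nd (.lf 0x0) (.lf 0x1623)) (.nd (.lf 0x1bf7) (.lf 0))) (.nd (.nd (.lf 0xb9e) (.lf 0)) (.nd (.lf 0x55c) (.lf 0)))) (.nd (.nd (.nd (.lf 0x1420) (.lf 0)) (.nd (.lf 0x10c9) (.lf 0))) (.nd (.nd (.lf 0x0) (.lf 0)) (.nd (.lf 0xb5f) (.lf 0)))))) (.nd (.nd (.nd (.nd (.nd (.lf 0x0) (.lf 0x1b0f)) (.nd (.lf 0x0) (.lf 0))) (.nd (.nd (.lf 0x0) (.lf 0)) (.nd (.lf 0x0) (.lf 0)))) (.nd (.nd (.nd (.lf 0xb36) (.lf 0)) (.nd (.lf 0x0) (.lf 0))) (.nd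 (.nd (.lf 0x1b90) (.lf 0)) (.nd (.lf 0x1e32) (.lf 0))))) (.nd (.nd (.nd (.nd (.lf 0x0) (.lf 0x10d2)) (.nd (.lf 0x15b5) (.lf 0))) (.nd (.nd (.lf 0x0) (.lf 0)) (.nd (.lf 0x1ad6) (.lf 0)))) (.nd (.nd (.nd (.lf 0x6b7) (.lf 0)) (.nd (.lf 0x1b98) (.lf 0))) (.nd (.nd (.lf 0x923) (.lf 0)) (.nd (.lf 0x1e10) (.lf 0)))))))
def witQ0_naabaab : Tr := (.nd (.nd (.nd (.nd (.nd (.nd (.lf 0x0) (.lf 0x1432)) (.nd (.lf 0x195d) (.lf 0))) (.nd (.nd (.lf 0x0) (.lf 0)) (.nd (.lf 0x1a11) (.lf 0)))) (.nd (.nd (.nd (.lf 0x0) (.lf 0)) (.nd (.lf 0x1749) (.lf 0))) (.nd (.nd (.lf 0x0) (.lf 0)) (.nd (.lf 0x104b) (.lf 0))))) (.nd (.nd (.nd (.nd (.lf 0x0) (.lf 0x18c9)) (.nd (.lf 0x0) (.lf 0))) (.nd (.nd (.lf 0xd65) (.lf 0)) (.nd (.lf 0xe0c) (.lf 0)))) (.nd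 (.nd (.nd (.lf 0x0) (.lf 0)) (.nd (.lf 0x765) (.lf 0))) (.nd (.nd (.lf 0x8c0) (.lf 0)) (.nd (.lf 0x1d88) (.lf 0)))))) (.nd (.nd (.nd (.nd (.nd (.lf 0x0) (.lf 0x13e5)) (.nd (.lf 0x49) (.lf 0))) (.nd (.nd (.lf 0x12f1) (.lf 0)) (.nd (.lf 0x27a) (.lf 0)))) (.nd (.nd (.nd (.lf 0x0) (.lf 0)) (.nd (.lf 0x0) (.lf 0))) (.nd (.nd (.lf 0x0) (.lf 0)) (.nd (.lf 0x1a6b) (.lf 0))))) (.nd (.nd (.nd (.nd (.lf 0x0) (.lf 0x1a78)) (.nd (.lf 0x13db) (.lf 0))) (.nd (.nd (.lf 0x125e) (.lf 0)) (.nd (.lf 0x1618) (.lf 0)))) (.nd (.nd (.nd (.lf 0x0) (.lf 0)) (.nd (.lf 0xa45) (.lf 0))) (.nd (.nd (.lf 0x1503) (.lf 0)) (.nd (.lf 0x9ee) (.lf 0)))))))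
def witQ0_naababa : Tr := (.nd (.nd (.nd (.nd (.nd (.nd (.lf 0x0) (.lf 0x409)) (.nd (.lf 0x0) (.lf 0))) (.nd (.nd (.lf 0x0) (.lf 0)) (.nd (.lf 0xef1) (.lf 0)))) (.nd (.nd (.nd (.lf 0x0) (.lf 0)) (.nd (.lf 0x28e) (.lf 0))) (.nd (.nd (.lf 0x925) (.lf 0)) (.nd (.lf 0xf1c) (.lf 0))))) (.nd (.nd (.nd (.nd (.lf 0x0) (.lf 0x10be)) (.nd (.lf 0x0) (.lf 0))) (.nd (.nd (.lf 0x0) (.lf 0)) (.nd (.lf 0x1d4d) (.lf 0)))) (.nd (.nd (.nd (.lf 0x0) (.lf 0)) (.nd (.lf 0x14f1) (.lf 0))) (.nd (.nd (.lf 0x0) (.lf 0)) (.nd (.lf 0x1cd7) (.lf 0)))))) (.nd (.nd (.nd (.nd (.nd (.lf 0x0) (.lf 0x16fa)) (.nd (.lf 0xd5f) (.lf 0))) (.nd (.nd (.lf 0x1032) (.lf 0)) (.nd (.lf 0xf91) (.lf 0)))) (.nd (.nd (.nd (.lf 0x0) (.lf 0)) (.nd (.lf 0x564) (.lf 0))) (.nd (.nd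 (.lf 0x0) (.lf 0)) (.nd (.lf 0xb24) (.lf 0))))) (.nd (.nd (.nd (.nd (.lf 0x0) (.lf 0x1d67)) (.nd (.lf 0x1608) (.lf 0))) (.nd (.nd (.lf 0x0) (.lf 0)) (.nd (.lf 0x0) (.lf 0)))) (.nd (.nd (.nd (.lf 0x1397) (.lf 0)) (.nd (.lf 0x10ae) (.lf 0))) (.nd (.nd (.lf 0x89f) (.lf 0)) (.nd (.lf 0x1db8) (.lf 0)))))))
def witQ0_naababb : Tr := (.nd (.nd (.nd (.nd (.nd (.nd (.lf 0x0) (.lf 0x293)) (.nd (.lf 0x1ac2) (.lf 0))) (.nd (.nd (.lf 0x0) (.lf 0)) (.nd (.lf 0x468) (.lf 0)))) (.nd (.nd (.nd (.lf 0x0) (.lf 0)) (.nd (.lf 0x547) (.lf 0))) (.nd (.nd (.lf 0x151b) (.lf 0)) (.nd (.lf 0x43c) (.lf 0))))) (.nd (.nd (.nd (.nd (.lf 0x0) (.lf 0x16d4)) (.nd (.lf 0xdd0) (.lf 0))) (.nd (.nd (.lf 0xd2a) (.lf 0)) (.nd (.lf 0x51b) (.lf 0)))) (.nd (.nd (.nd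 (.lf 0xd9f) (.lf 0)) (.nd (.lf 0xad9) (.lf 0))) (.nd (.nd (.lf 0x17a4) (.lf 0)) (.nd (.lf 0x17a9) (.lf 0)))))) (.nd (.nd (.nd (.nd (.nd (.lf 0x0) (.lf 0x747)) (.nd (.lf 0x13e) (.lf 0))) (.nd (.nd (.lf 0x0) (.lf 0)) (.nd (.lf 0xad5) (.lf 0)))) (.nd (.nd (.nd (.lf 0x780) (.lf 0)) (.nd (.lf 0x0) (.lf 0))) (.nd (.nd (.lf 0x9eb) (.lf 0)) (.nd (.lf 0x10e0) (.lf 0))))) (.nd (.nd (.nd (.nd (.lf 0xb02) (.lf 0x2a5)) (.nd (.lf 0x1422) (.lf 0))) (.nd (.nd (.lf 0x1ccb) (.lf 0)) (.nd (.lf 0xfbd) (.lf 0)))) (.nd (.nd (.nd (.lf 0x0) (.lf 0)) (.nd (.lf 0x7d4) (.lf 0))) (.nd (.nd (.lf 0x1f) (.lf 0)) (.nd (.lf 0x1182) (.lf 0)))))))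
def witQ0_naabbaa : Tr := (.nd (.nd (.nd (.nd (.nd (.nd (.lf 0x0) (.lf 0x162d)) (.nd (.lf 0x175a) (.lf 0))) (.nd (.nd (.lf 0x0) (.lf 0)) (.nd (.lf 0x0) (.lf 0)))) (.nd (.nd (.nd (.lf 0x0) (.lf 0)) (.nd (.lf 0x79b) (.lf 0))) (.nd (.nd (.lf 0x189d) (.lf 0)) (.nd (.lf 0x903) (.lf 0))))) (.nd (.nd (.nd (.nd (.lf 0x81c) (.lf 0x1b9a)) (.nd (.lf 0x1254) (.lf 0))) (.nd (.nd (.lf 0x0) (.lf 0)) (.nd (.lf 0x82d) (.lf 0)))) (.nd (.nd (.nd (.lf 0x114) (.lf 0)) (.nd (.lf 0xf4f) (.lf 0))) (.nd (.nd (.lf 0x1c85) (.lf 0)) (.nd (.lf 0xc08) (.lf 0)))))) (.nd (.nd (.nd (.nd (.nd (.lf 0x0) (.lf 0x9d8)) (.nd (.lf 0x80e) (.lf 0))) (.nd (.nd (.lf 0x1189) (.lf 0)) (.nd (.lf 0x1cf0) (.lf 0)))) (.nd (.nd (.nd (.lf 0x0) (.lf 0)) (.nd (.lf 0x18d3) (.lf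 0))) (.nd (.nd (.lf 0xeb4) (.lf 0)) (.nd (.lf 0x1cfa) (.lf 0))))) (.nd (.nd (.nd (.nd (.lf 0x0) (.lf 0xba8)) (.nd (.lf 0x0) (.lf 0))) (.nd (.nd (.lf 0x0) (.lf 0)) (.nd (.lf 0xca) (.lf 0)))) (.nd (.nd (.nd (.lf 0x0) (.lf 0)) (.nd (.lf 0x1aa1) (.lf 0))) (.nd (.nd (.lf 0x133a) (.lf 0)) (.nd (.lf 0x1359) (.lf 0)))))))
def witQ0_naabbab : Tr := (.nd (.nd (.nd (.nd (.nd (.nd (.lf 0x0) (.lf 0x611)) (.nd (.lf 0x78f) (.lf 0))) (.nd (.nd (.lf 0xdfa) (.lf 0)) (.nd (.lf 0x749) (.lf 0)))) (.nd (.nd (.nd (.lf 0x0) (.lf 0)) (.nd (.lf 0x1c5d) (.lf 0))) (.nd (.nd (.lf 0x2b6) (.lf 0)) (.nd (.lf 0x1571) (.lf 0))))) (.nd (.nd (.nd (.nd (.lf 0x0) (.lf 0x768)) (.nd (.lf 0xac) (.lf 0))) (.nd (.nd (.lf 0x0) (.lf 0)) (.nd (.lf 0x0) (.lf 0)))) (.nd (.nd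 (.nd (.lf 0x0) (.lf 0)) (.nd (.lf 0x16af) (.lf 0))) (.nd (.nd (.lf 0x1b2b) (.lf 0)) (.nd (.lf 0x43e) (.lf 0)))))) (.nd (.nd (.nd (.nd (.nd (.lf 0x0) (.lf 0x601)) (.nd (.lf 0x1179) (.lf 0))) (.nd (.nd (.lf 0x0) (.lf 0)) (.nd (.lf 0x8f1) (.lf 0)))) (.nd (.nd (.nd (.lf 0x0) (.lf 0)) (.nd (.lf 0xf86) (.lf 0))) (.nd (.nd (.lf 0x0) (.lf 0)) (.nd (.lf 0x7dd) (.lf 0))))) (.nd (.nd (.nd (.nd (.lf 0x0) (.lf 0xc15)) (.nd (.lf 0x0) (.lf 0))) (.nd (.nd (.lf 0x1bac) (.lf 0)) (.nd (.lf 0x1ca) (.lf 0)))) (.nd (.nd (.nd (.lf 0x0) (.lf 0)) (.nd (.lf 0xc1a) (.lf 0))) (.nd (.nd (.lf 0x0) (.lf 0)) (.nd (.lf 0x121d) (.lf 0)))))))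
def witQ0_naabbba : Tr := (.nd (.nd (.nd (.nd (.nd (.nd (.lf 0x0) (.lf 0xbc7)) (.nd (.lf 0x0) (.lf 0))) (.nd (.nd (.lf 0x0) (.lf 0)) (.nd (.lf 0x19ce) (.lf 0)))) (.nd (.nd (.nd (.lf 0x0) (.lf 0)) (.nd (.lf 0x4c3) (.lf 0))) (.nd (.nd (.lf 0x0) (.lf 0)) (.nd (.lf 0x11f0) (.lf 0))))) (.nd (.nd (.nd (.nd (.lf 0x0) (.lf 0xaef)) (.nd (.lf 0x12e3) (.lf 0))) (.nd (.nd (.lf 0x1490) (.lf 0)) (.nd (.lf 0x964) (.lf 0)))) (.nd (.nd (.nd (.lf 0x0) (.lf 0)) (.nd (.lf 0x864) (.lf 0))) (.nd (.nd (.lf 0x3) (.lf 0)) (.nd (.lf 0xd06) (.lf 0)))))) (.nd (.nd (.nd (.nd (.nd (.lf 0x0) (.lf 0x3e0)) (.nd (.lf 0x0) (.lf 0))) (.nd (.nd (.lf 0x0) (.lf 0)) (.nd (.lf 0x0) (.lf 0)))) (.nd (.nd (.nd (.lf 0x0) (.lf 0)) (.nd (.lf 0x1537) (.lf 0))) (.nd (.nd (.lf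 0x100b) (.lf 0)) (.nd (.lf 0x83d) (.lf 0))))) (.nd (.nd (.nd (.nd (.lf 0x0) (.lf 0x1cd5)) (.nd (.lf 0x696) (.lf 0))) (.nd (.nd (.lf 0x16f8) (.lf 0)) (.nd (.lf 0x1157) (.lf 0)))) (.nd (.nd (.nd (.lf 0x0) (.lf 0)) (.nd (.lf 0x210) (.lf 0))) (.nd (.nd (.lf 0x1dde) (.lf 0)) (.nd (.lf 0x10c8) (.lf 0)))))))
def witQ0_naabbbb : Tr := (.nd (.nd (.nd (.nd (.nd (.nd (.lf 0x0) (.lf 0xb67)) (.nd (.lf 0xac5) (.lf 0))) (.nd (.nd (.lf 0x0) (.lf 0)) (.nd (.lf 0x1ef) (.lf 0)))) (.nd (.nd (.nd (.lf 0x0) (.lf 0)) (.nd (.lf 0xafe) (.lf 0))) (.nd (.nd (.lf 0x410) (.lf 0)) (.nd (.lf 0x1756) (.lf 0))))) (.nd (.nd (.nd (.nd (.lf 0x0) (.lf 0x16c4)) (.nd (.lf 0x1902) (.lf 0))) (.nd (.nd (.lf 0x0) (.lf 0)) (.nd (.lf 0x85a) (.lf 0)))) (.nd (.nd (.nd (.lf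 0x0) (.lf 0)) (.nd (.lf 0x9bd) (.lf 0))) (.nd (.nd (.lf 0x1a2c) (.lf 0)) (.nd (.lf 0x568) (.lf 0)))))) (.nd (.nd (.nd (.nd (.nd (.lf 0x0) (.lf 0x14f4)) (.nd (.lf 0x7c0) (.lf 0))) (.nd (.nd (.lf 0x16a0) (.lf 0)) (.nd (.lf 0x30e) (.lf 0)))) (.nd (.nd (.nd (.lf 0x0) (.lf 0)) (.nd (.lf 0x14c) (.lf 0))) (.nd (.nd (.lf 0xf33) (.lf 0)) (.nd (.lf 0x6b4) (.lf 0))))) (.nd (.nd (.nd (.nd (.lf 0x0) (.lf 0x1ac0)) (.nd (.lf 0xaae) (.lf 0))) (.nd (.nd (.lf 0x51) (.lf 0)) (.nd (.lf 0x1801) (.lf 0)))) (.nd (.nd (.nd (.lf 0x1234) (.lf 0)) (.nd (.lf 0x169c) (.lf 0))) (.nd (.nd (.lf 0x1b06) (.lf 0)) (.nd (.lf 0x15d5) (.lf 0)))))))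
def witQ0_nabaaaa : Tr := (.nd (.nd (.nd (.nd (.nd (.nd (.lf 0x0) (.lf 0x14cf)) (.nd (.lf 0x0) (.lf 0))) (.nd (.nd (.lf 0x0) (.lf 0)) (.nd (.lf 0xc12) (.lf 0)))) (.nd (.nd (.nd (.lf 0x0) (.lf 0)) (.nd (.lf 0x0) (.lf 0))) (.nd (.nd (.lf 0x952) (.lf 0)) (.nd (.lf 0xebf) (.lf 0))))) (.nd (.nd (.nd (.nd (.lf 0x0) (.lf 0x102b)) (.nd (.lf 0x0) (.lf 0))) (.nd (.nd (.lf 0x3d5) (.lf 0)) (.nd (.lf 0x1e24) (.lf 0)))) (.nd (.nd (.nd (.lf 0x0) (.lf 0)) (.nd (.lf 0x1848) (.lf 0))) (.nd (.nd (.lf 0x0) (.lf 0)) (.nd (.lf 0x1340) (.lf 0)))))) (.nd (.nd (.nd (.nd (.nd (.lf 0x0) (.lf 0x16f7)) (.nd (.lf 0x1138) (.lf 0))) (.nd (.nd (.lf 0x0) (.lf 0)) (.nd (.lf 0xcf5) (.lf 0)))) (.nd (.nd (.nd (.lf 0x0) (.lf 0)) (.nd (.lf 0x1441) (.lf 0))) (.nd (.nd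 (.lf 0x951) (.lf 0)) (.nd (.lf 0x1c8b) (.lf 0))))) (.nd (.nd (.nd (.nd (.lf 0x0) (.lf 0x533)) (.nd (.lf 0x0) (.lf 0))) (.nd (.nd (.lf 0x12f5) (.lf 0)) (.nd (.lf 0x1d5d) (.lf 0)))) (.nd (.nd (.nd (.lf 0x0) (.lf 0)) (.nd (.lf 0x132f) (.lf 0))) (.nd (.nd (.lf 0x218) (.lf 0)) (.nd (.lf 0x596) (.lf 0)))))))
def witQ0_nabaaab : Tr := (.nd (.nd (.nd (.nd (.nd (.nd (.lf 0x0) (.lf 0xf00)) (.nd (.lf 0x144) (.lf 0))) (.nd (.nd (.lf 0x0) (.lf 0)) (.nd (.lf 0x1460) (.lf 0)))) (.nd (.nd (.nd (.lf 0x0) (.lf 0)) (.nd (.lf 0x18ec) (.lf 0))) (.nd (.nd (.lf 0x1aa7) (.lf 0)) (.nd (.lf 0xcc3) (.lf 0))))) (.nd (.nd (.nd (.nd (.lf 0x0) (.lf 0x1107)) (.nd (.lf 0x0) (.lf 0))) (.nd (.nd (.lf 0x12c) (.lf 0)) (.nd (.lf 0x883) (.lf 0)))) (.nd (.nd (.nd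 (.lf 0x0) (.lf 0)) (.nd (.lf 0x341) (.lf 0))) (.nd (.nd (.lf 0x1ba5) (.lf 0)) (.nd (.lf 0x15e) (.lf 0)))))) (.nd (.nd (.nd (.nd (.nd (.lf 0xe53) (.lf 0x1059)) (.nd (.lf 0x928) (.lf 0))) (.nd (.nd (.lf 0x0) (.lf 0)) (.nd (.lf 0x1814) (.lf 0)))) (.nd (.nd (.nd (.lf 0x0) (.lf 0)) (.nd (.lf 0x1245) (.lf 0))) (.nd (.nd (.lf 0x0) (.lf 0)) (.nd (.lf 0x774) (.lf 0))))) (.nd (.nd (.nd (.nd (.lf 0x0) (.lf 0x19c8)) (.nd (.lf 0x0) (.lf 0))) (.nd (.nd (.lf 0xb23) (.lf 0)) (.nd (.lf 0x2cc) (.lf 0)))) (.nd (.nd (.nd (.lf 0x0) (.lf 0)) (.nd (.lf 0xd43) (.lf 0))) (.nd (.nd (.lf 0x0) (.lf 0)) (.nd (.lf 0x3ef) (.lf 0)))))))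
def witQ0_nabaaba : Tr := (.nd (.nd (.nd (.nd (.nd (.nd (.lf 0x0) (.lf 0x12eb)) (.nd (.lf 0x1549) (.lf 0))) (.nd (.nd (.lf 0x0) (.lf 0)) (.nd (.lf 0x1963) (.lf 0)))) (.nd (.nd (.nd (.lf 0x0) (.lf 0)) (.nd (.lf 0x794) (.lf 0))) (.nd (.nd (.lf 0x0) (.lf 0)) (.nd (.lf 0x102d) (.lf 0))))) (.nd (.nd (.nd (.nd (.lf 0x0) (.lf 0x1c87)) (.nd (.lf 0x1b06) (.lf 0))) (.nd (.nd (.lf 0x1abd) (.lf 0)) (.nd (.lf 0x13aa) (.lf 0)))) (.nd (.nd (.nd (.lf 0x0) (.lf 0)) (.nd (.lf 0x1878) (.lf 0))) (.nd (.nd (.lf 0x0) (.lf 0)) (.nd (.lf 0x682) (.lf 0)))))) (.nd (.nd (.nd (.nd (.nd (.lf 0x0) (.lf 0x593)) (.nd (.lf 0x123b) (.lf 0))) (.nd (.nd (.lf 0x0) (.lf 0)) (.nd (.lf 0x3c8) (.lf 0)))) (.nd (.nd (.nd (.lf 0x0) (.lf 0)) (.nd (.lf 0x0) (.lf 0))) (.nd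 (.nd (.lf 0x1abe) (.lf 0)) (.nd (.lf 0x539) (.lf 0))))) (.nd (.nd (.nd (.nd (.lf 0x0) (.lf 0xb2f)) (.nd (.lf 0x0) (.lf 0))) (.nd (.nd (.lf 0x141f) (.lf 0)) (.nd (.lf 0x164) (.lf 0)))) (.nd (.nd (.nd (.lf 0x0) (.lf 0)) (.nd (.lf 0x1a0e) (.lf 0))) (.nd (.nd (.lf 0x0) (.lf 0)) (.nd (.lf 0x18fc) (.lf 0)))))))
def witQ0_nabaabb : Tr := (.nd (.nd (.nd (.nd (.nd (.nd (.lf 0x0) (.lf 0x179b)) (.nd (.lf 0x931) (.lf 0))) (.nd (.nd (.lf 0x0) (.lf 0)) (.nd (.lf 0xe5c) (.lf 0)))) (.nd (.nd (.nd (.lf 0x1a26) (.lf 0)) (.nd (.lf 0x0) (.lf 0))) (.nd (.nd (.lf 0x1969) (.lf 0)) (.nd (.lf 0xee0) (.lf 0))))) (.nd (.nd (.nd (.nd (.lf 0x0) (.lf 0x10a8)) (.nd (.lf 0x1133) (.lf 0))) (.nd (.nd (.lf 0x0) (.lf 0)) (.nd (.lf 0x0) (.lf 0)))) (.nd (.nd (.nd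 (.lf 0x0) (.lf 0)) (.nd (.lf 0x107b) (.lf 0))) (.nd (.nd (.lf 0x0) (.lf 0)) (.nd (.lf 0xf71) (.lf 0)))))) (.nd (.nd (.nd (.nd (.nd (.lf 0x0) (.lf 0x4b3)) (.nd (.lf 0x644) (.lf 0))) (.nd (.nd (.lf 0xee2) (.lf 0)) (.nd (.lf 0xe1c) (.lf 0)))) (.nd (.nd (.nd (.lf 0x932) (.lf 0)) (.nd (.lf 0x6ba) (.lf 0))) (.nd (.nd (.lf 0x1058) (.lf 0)) (.nd (.lf 0x18fb) (.lf 0))))) (.nd (.nd (.nd (.nd (.lf 0x0) (.lf 0x5cb)) (.nd (.lf 0x0) (.lf 0))) (.nd (.nd (.lf 0x0) (.lf 0)) (.nd (.lf 0x0) (.lf 0)))) (.nd (.nd (.nd (.lf 0x0) (.lf 0)) (.nd (.lf 0x14d2) (.lf 0))) (.nd (.nd (.lf 0x0) (.lf 0)) (.nd (.lf 0x12c6) (.lf 0)))))))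
def witQ0_nababaa : Tr := (.nd (.nd (.nd (.nd (.nd (.nd (.lf 0x0) (.lf 0x1609)) (.nd (.lf 0x18e1) (.lf 0))) (.nd (.nd (.lf 0x0) (.lf 0)) (.nd (.lf 0x1f2) (.lf 0)))) (.nd (.nd (.nd (.lf 0x0) (.lf 0)) (.nd (.lf 0x1d98) (.lf 0))) (.nd (.nd (.lf 0x6aa) (.lf 0)) (.nd (.lf 0x5bb) (.lf 0))))) (.nd (.nd (.nd (.nd (.lf 0x0) (.lf 0x17e1)) (.nd (.lf 0x0) (.lf 0))) (.nd (.nd (.lf 0xd23) (.lf 0)) (.nd (.lf 0x0) (.lf 0)))) (.nd (.nd (.nd (.lf 0x337) (.lf 0)) (.nd (.lf 0x13b5) (.lf 0))) (.nd (.nd (.lf 0x22e) (.lf 0)) (.nd (.lf 0xbe0) (.lf 0)))))) (.nd (.nd (.nd (.nd (.nd (.lf 0x0) (.lf 0xe79)) (.nd (.lf 0x985) (.lf 0))) (.nd (.nd (.lf 0x687) (.lf 0)) (.nd (.lf 0xe50) (.lf 0)))) (.nd (.nd (.nd (.lf 0x0) (.lf 0)) (.nd (.lf 0x0) (.lf 0))) (.nd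 (.nd (.lf 0x1dd0) (.lf 0)) (.nd (.lf 0x238) (.lf 0))))) (.nd (.nd (.nd (.nd (.lf 0x0) (.lf 0x19e)) (.nd (.lf 0x922) (.lf 0))) (.nd (.nd (.lf 0x14e6) (.lf 0)) (.nd (.lf 0x1daa) (.lf 0)))) (.nd (.nd (.nd (.lf 0x0) (.lf 0)) (.nd (.lf 0x1703) (.lf 0))) (.nd (.nd (.lf 0x75c) (.lf 0)) (.nd (.lf 0x17f) (.lf 0)))))))
def witQ0_nababab : Tr := (.nd (.nd (.nd (.nd (.nd (.nd (.lf 0x0) (.lf 0x1552)) (.nd (.lf 0x901) (.lf 0))) (.nd (.nd (.lf 0x0) (.lf 0)) (.nd (.lf 0x1b41) (.lf 0)))) (.nd (.nd (.nd (.lf 0x9a6) (.lf 0)) (.nd (.lf 0x3e4) (.lf 0))) (.nd (.nd (.lf 0x0) (.lf 0)) (.nd (.lf 0xb24) (.lf 0))))) (.nd (.nd (.nd (.nd (.lf 0x0) (.lf 0x95e)) (.nd (.lf 0x1126) (.lf 0))) (.nd (.nd (.lf 0xc06) (.lf 0)) (.nd (.lf 0x102c) (.lf 0)))) (.nd (.nd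 (.nd (.lf 0x0) (.lf 0)) (.nd (.lf 0x16d8) (.lf 0))) (.nd (.nd (.lf 0x7ec) (.lf 0)) (.nd (.lf 0x123a) (.lf 0)))))) (.nd (.nd (.nd (.nd (.nd (.lf 0x0) (.lf 0x1008)) (.nd (.lf 0x0) (.lf 0))) (.nd (.nd (.lf 0x652) (.lf 0)) (.nd (.lf 0x2f2) (.lf 0)))) (.nd (.nd (.nd (.lf 0x0) (.lf 0)) (.nd (.lf 0x74d) (.lf 0))) (.nd (.nd (.lf 0x0) (.lf 0)) (.nd (.lf 0x1133) (.lf 0))))) (.nd (.nd (.nd (.nd (.lf 0x0) (.lf 0x1d28)) (.nd (.lf 0x8c0) (.lf 0))) (.nd (.nd (.lf 0x233) (.lf 0)) (.nd (.lf 0x59) (.lf 0)))) (.nd (.nd (.nd (.lf 0x56f) (.lf 0)) (.nd (.lf 0xecd) (.lf 0))) (.nd (.nd (.lf 0xf75) (.lf 0)) (.nd (.lf 0xfe9) (.lf 0)))))))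
def witQ0_nababba : Tr := (.nd (.nd (.nd (.nd (.nd (.nd (.lf 0x0) (.lf 0x1d8c)) (.nd (.lf 0x0) (.lf 0))) (.nd (.nd (.lf 0x0) (.lf 0)) (.nd (.lf 0x176d) (.lf 0)))) (.nd (.nd (.nd (.lf 0x1d4f) (.lf 0)) (.nd (.lf 0x0) (.lf 0))) (.nd (.nd (.lf 0x163) (.lf 0)) (.nd (.lf 0x1d6f) (.lf 0))))) (.nd (.nd (.nd (.nd (.lf 0x0) (.lf 0x1c84)) (.nd (.lf 0x4ce) (.lf 0))) (.nd (.nd (.lf 0x33b) (.lf 0)) (.nd (.lf 0xbc2) (.lf 0)))) (.nd (.nd (.nd (.lf 0x0) (.lf 0)) (.nd (.lf 0x19d9) (.lf 0))) (.nd (.nd (.lf 0x296) (.lf 0)) (.nd (.lf 0x13c4) (.lf 0)))))) (.nd (.nd (.nd (.nd (.nd (.lf 0x0) (.lf 0x709)) (.nd (.lf 0xbd4) (.lf 0))) (.nd (.nd (.lf 0x0) (.lf 0)) (.nd (.lf 0x16b1) (.lf 0)))) (.nd (.nd (.nd (.lf 0x0) (.lf 0)) (.nd (.lf 0x0) (.lf 0))) (.nd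 (.nd (.lf 0x107d) (.lf 0)) (.nd (.lf 0x4) (.lf 0))))) (.nd (.nd (.nd (.nd (.lf 0x0) (.lf 0xa65)) (.nd (.lf 0x9f) (.lf 0))) (.nd (.nd (.lf 0x193c) (.lf 0)) (.nd (.lf 0x180f) (.lf 0)))) (.nd (.nd (.nd (.lf 0x0) (.lf 0)) (.nd (.lf 0x17b5) (.lf 0))) (.nd (.nd (.lf 0x1ac2) (.lf 0)) (.nd (.lf 0x97f) (.lf 0)))))))
def witQ0_nababbb : Tr := (.nd (.nd (.nd (.nd (.nd (.nd (.lf 0x0) (.lf 0xf4d)) (.nd (.lf 0x875) (.lf 0))) (.nd (.nd (.lf 0x13e5) (.lf 0)) (.nd (.lf 0x1c06) (.lf 0)))) (.nd (.nd (.nd (.lf 0x0) (.lf 0)) (.nd (.lf 0x1d96) (.lf 0))) (.nd (.nd (.lf 0x0) (.lf 0)) (.nd (.lf 0x14c0) (.lf 0))))) (.nd (.nd (.nd (.nd (.lf 0x0) (.lf 0x18ef)) (.nd (.lf 0x4e4) (.lf 0))) (.nd (.nd (.lf 0x1604) (.lf 0)) (.nd (.lf 0xc94) (.lf 0)))) (.nd (.nd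 (.nd (.lf 0x315) (.lf 0)) (.nd (.lf 0xad8) (.lf 0))) (.nd (.nd (.lf 0xb10) (.lf 0)) (.nd (.lf 0x1e36) (.lf 0)))))) (.nd (.nd (.nd (.nd (.nd (.lf 0x0) (.lf 0x9f3)) (.nd (.lf 0x17f3) (.lf 0))) (.nd (.nd (.lf 0x0) (.lf 0)) (.nd (.lf 0x1807) (.lf 0)))) (.nd (.nd (.nd (.lf 0x0) (.lf 0)) (.nd (.lf 0x0) (.lf 0))) (.nd (.nd (.lf 0x1ce1) (.lf 0)) (.nd (.lf 0x17d7) (.lf 0))))) (.nd (.nd (.nd (.nd (.lf 0x0) (.lf 0x1bf7)) (.nd (.lf 0x610) (.lf 0))) (.nd (.nd (.lf 0x0) (.lf 0)) (.nd (.lf 0x1902) (.lf 0)))) (.nd (.nd (.nd (.lf 0x0) (.lf 0)) (.nd (.lf 0x18cb) (.lf 0))) (.nd (.nd (.lf 0x741) (.lf 0)) (.nd (.lf 0xdd6) (.lf 0)))))))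
def witQ0_nabbaaa : Tr := (.nd (.nd (.nd (.nd (.nd (.nd (.lf 0x0) (.lf 0x55e)) (.nd (.lf 0x1cb6) (.lf 0))) (.nd (.nd (.lf 0x0) (.lf 0)) (.nd (.lf 0x1b26) (.lf 0)))) (.nd (.nd (.nd (.lf 0x0) (.lf 0)) (.nd (.lf 0xe2f) (.lf 0))) (.nd (.nd (.lf 0x1398) (.lf 0)) (.nd (.lf 0xaa9) (.lf 0))))) (.nd (.nd (.nd (.nd (.lf 0x0) (.lf 0x16ad)) (.nd (.lf 0x0) (.lf 0))) (.nd (.nd (.lf 0x0) (.lf 0)) (.nd (.lf 0x6ed) (.lf 0)))) (.nd (.nd (.nd (.lf 0x1dcc) (.lf 0)) (.nd (.lf 0x8e4) (.lf 0))) (.nd (.nd (.lf 0x0) (.lf 0)) (.nd (.lf 0xe00) (.lf 0)))))) (.nd (.nd (.nd (.nd (.nd (.lf 0x0) (.lf 0x358)) (.nd (.lf 0x1cb9) (.lf 0))) (.nd (.nd (.lf 0x0) (.lf 0)) (.nd (.lf 0x1e60) (.lf 0)))) (.nd (.nd (.nd (.lf 0x0) (.lf 0)) (.nd (.lf 0x1d7) (.lf 0))) (.nd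 (.nd (.lf 0x1de0) (.lf 0)) (.nd (.lf 0x170) (.lf 0))))) (.nd (.nd (.nd (.nd (.lf 0x0) (.lf 0x2c6)) (.nd (.lf 0x516) (.lf 0))) (.nd (.nd (.lf 0x0) (.lf 0)) (.nd (.lf 0x1974) (.lf 0)))) (.nd (.nd (.nd (.lf 0xd43) (.lf 0)) (.nd (.lf 0x882) (.lf 0))) (.nd (.nd (.lf 0x1dc8) (.lf 0)) (.nd (.lf 0x1286) (.lf 0)))))))
def witQ0_nabbaab : Tr := (.nd (.nd (.nd (.nd (.nd (.nd (.lf 0x0) (.lf 0x1548)) (.nd (.lf 0x1381) (.lf 0))) (.nd (.nd (.lf 0x0) (.lf 0)) (.nd (.lf 0x916) (.lf 0)))) (.nd (.nd (.nd (.lf 0x0) (.lf 0)) (.nd (.lf 0x18d6) (.lf 0))) (.nd (.nd (.lf 0xe8) (.lf 0)) (.nd (.lf 0x4a8) (.lf 0))))) (.nd (.nd (.nd (.nd (.lf 0x0) (.lf 0x1e23)) (.nd (.lf 0xa72) (.lf 0))) (.nd (.nd (.lf 0x0) (.lf 0)) (.nd (.lf 0x7b5) (.lf 0)))) (.nd (.nd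 (.nd (.lf 0x167f) (.lf 0)) (.nd (.lf 0x0) (.lf 0))) (.nd (.nd (.lf 0x1e58) (.lf 0)) (.nd (.lf 0x59c) (.lf 0)))))) (.nd (.nd (.nd (.nd (.nd (.lf 0x0) (.lf 0x1b6e)) (.nd (.lf 0x963) (.lf 0))) (.nd (.nd (.lf 0x12f) (.lf 0)) (.nd (.lf 0x16f) (.lf 0)))) (.nd (.nd (.nd (.lf 0x0) (.lf 0)) (.nd (.lf 0x442) (.lf 0))) (.nd (.nd (.lf 0xac8) (.lf 0)) (.nd (.lf 0x55f) (.lf 0))))) (.nd (.nd (.nd (.nd (.lf 0x0) (.lf 0xfc9)) (.nd (.lf 0x1167) (.lf 0))) (.nd (.nd (.lf 0xc9) (.lf 0)) (.nd (.lf 0x849) (.lf 0)))) (.nd (.nd (.nd (.lf 0x1ced) (.lf 0)) (.nd (.lf 0x0) (.lf 0))) (.nd (.nd (.lf 0x263) (.lf 0)) (.nd (.lf 0xab) (.lf 0)))))))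
def witQ0_nabbaba : Tr := (.nd (.nd (.nd (.nd (.nd (.nd (.lf 0x0) (.lf 0x753)) (.nd (.lf 0x1d25) (.lf 0))) (.nd (.nd (.lf 0x0) (.lf 0)) (.nd (.lf 0x480) (.lf 0)))) (.nd (.nd (.nd (.lf 0x786) (.lf 0)) (.nd (.lf 0x2f9) (.lf 0))) (.nd (.nd (.lf 0x60b) (.lf 0)) (.nd (.lf 0x161) (.lf 0))))) (.nd (.nd (.nd (.nd (.lf 0x0) (.lf 0xef7)) (.nd (.lf 0xfc5) (.lf 0))) (.nd (.nd (.lf 0x1ce) (.lf 0)) (.nd (.lf 0x1bcb) (.lf 0)))) (.nd (.nd (.nd (.lf 0x0) (.lf 0)) (.nd (.lf 0x634) (.lf 0))) (.nd (.nd (.lf 0xcec) (.lf 0)) (.nd (.lf 0x1177) (.lf 0)))))) (.nd (.nd (.nd (.nd (.nd (.lf 0x0) (.lf 0x17c0)) (.nd (.lf 0x166d) (.lf 0))) (.nd (.nd (.lf 0x82f) (.lf 0)) (.nd (.lf 0x13b8) (.lf 0)))) (.nd (.nd (.nd (.lf 0x0) (.lf 0)) (.nd (.lf 0x127d) (.lf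 0))) (.nd (.nd (.lf 0x1526) (.lf 0)) (.nd (.lf 0x14f8) (.lf 0))))) (.nd (.nd (.nd (.nd (.lf 0x0) (.lf 0x361)) (.nd (.lf 0x1bd5) (.lf 0))) (.nd (.nd (.lf 0x4f8) (.lf 0)) (.nd (.lf 0xef6) (.lf 0)))) (.nd (.nd (.nd (.lf 0xb4f) (.lf 0)) (.nd (.lf 0x5ab) (.lf 0))) (.nd (.nd (.lf 0x0) (.lf 0)) (.nd (.lf 0xfc2) (.lf 0)))))))
def witQ0_nabbabb : Tr := (.nd (.nd (.nd (.nd (.nd (.nd (.lf 0x0) (.lf 0x2af)) (.nd (.lf 0x1a08) (.lf 0))) (.nd (.nd (.lf 0x0) (.lf 0)) (.nd (.lf 0x1960) (.lf 0)))) (.nd (.nd (.nd (.lf 0x0) (.lf 0)) (.nd (.lf 0x1c6a) (.lf 0))) (.nd (.nd (.lf 0x134b) (.lf 0)) (.nd (.lf 0x0) (.lf 0))))) (.nd (.nd (.nd (.nd (.lf 0x0) (.lf 0x1d4c)) (.nd (.lf 0x0) (.lf 0))) (.nd (.nd (.lf 0x0) (.lf 0)) (.nd (.lf 0xe19) (.lf 0)))) (.nd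 (.nd (.nd (.lf 0x0) (.lf 0)) (.nd (.lf 0x1bba) (.lf 0))) (.nd (.nd (.lf 0x610) (.lf 0)) (.nd (.lf 0xa5d) (.lf 0)))))) (.nd (.nd (.nd (.nd (.nd (.lf 0x0) (.lf 0x1c0e)) (.nd (.lf 0x0) (.lf 0))) (.nd (.nd (.lf 0x0) (.lf 0)) (.nd (.lf 0x0) (.lf 0)))) (.nd (.nd (.nd (.lf 0x0) (.lf 0)) (.nd (.lf 0x16e8) (.lf 0))) (.nd (.nd (.lf 0x786) (.lf 0)) (.nd (.lf 0xd31) (.lf 0))))) (.nd (.nd (.nd (.nd (.lf 0x0) (.lf 0x55f)) (.nd (.lf 0x1326) (.lf 0))) (.nd (.nd (.lf 0x67a) (.lf 0)) (.nd (.lf 0x1d95) (.lf 0)))) (.nd (.nd (.nd (.lf 0x1129) (.lf 0)) (.nd (.lf 0x1476) (.lf 0))) (.nd (.nd (.lf 0x833) (.lf 0)) (.nd (.lf 0x0) (.lf 0)))))))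
def witQ0_nabbbaa : Tr := (.nd (.nd (.nd (.nd (.nd (.nd (.lf 0x0) (.lf 0xd99)) (.nd (.lf 0x391) (.lf 0))) (.nd (.nd (.lf 0x0) (.lf 0)) (.nd (.lf 0x1388) (.lf 0)))) (.nd (.nd (.nd (.lf 0x0) (.lf 0)) (.nd (.lf 0x113e) (.lf 0))) (.nd (.nd (.lf 0x6e0) (.lf 0)) (.nd (.lf 0xf40) (.lf 0))))) (.nd (.nd (.nd (.nd (.lf 0x0) (.lf 0x1146)) (.nd (.lf 0x1cc5) (.lf 0))) (.nd (.nd (.lf 0x0) (.lf 0)) (.nd (.lf 0x592) (.lf 0)))) (.nd (.nd (.nd (.lf 0x0) (.lf 0)) (.nd (.lf 0x525) (.lf 0))) (.nd (.nd (.lf 0x6b7) (.lf 0)) (.nd (.lf 0x1b0e) (.lf 0)))))) (.nd (.nd (.nd (.nd (.nd (.lf 0x0) (.lf 0xfd)) (.nd (.lf 0x0) (.lf 0))) (.nd (.nd (.lf 0x1157) (.lf 0)) (.nd (.lf 0x513) (.lf 0)))) (.nd (.nd (.nd (.lf 0x0) (.lf 0)) (.nd (.lf 0xab5) (.lf 0))) (.nd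 (.nd (.lf 0x0) (.lf 0)) (.nd (.lf 0x15ef) (.lf 0))))) (.nd (.nd (.nd (.nd (.lf 0x0) (.lf 0x1bc4)) (.nd (.lf 0x3a2) (.lf 0))) (.nd (.nd (.lf 0x0) (.lf 0)) (.nd (.lf 0x4cb) (.lf 0)))) (.nd (.nd (.nd (.lf 0x0) (.lf 0)) (.nd (.lf 0x233) (.lf 0))) (.nd (.nd (.lf 0x1699) (.lf 0)) (.nd (.lf 0x17f7) (.lf 0)))))))
def witQ0_nabbbab : Tr := (.nd (.nd (.nd (.nd (.nd (.nd (.lf 0x0) (.lf 0xc1b)) (.nd (.lf 0x1289) (.lf 0))) (.nd (.nd (.lf 0x0) (.lf 0)) (.nd (.lf 0xd0b) (.lf 0)))) (.nd (.nd (.nd (.lf 0x0) (.lf 0)) (.nd (.lf 0x84b) (.lf 0))) (.nd (.nd (.lf 0x8a0) (.lf 0)) (.nd (.lf 0x16aa) (.lf 0))))) (.nd (.nd (.nd (.nd (.lf 0x141b) (.lf 0x142b)) (.nd (.lf 0x19b3) (.lf 0))) (.nd (.nd (.lf 0xaac) (.lf 0)) (.nd (.lf 0x19c0) (.lf 0)))) (.nd (.nd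 (.nd (.lf 0x0) (.lf 0)) (.nd (.lf 0x178a) (.lf 0))) (.nd (.nd (.lf 0x1501) (.lf 0)) (.nd (.lf 0x17e1) (.lf 0)))))) (.nd (.nd (.nd (.nd (.nd (.lf 0x0) (.lf 0xd70)) (.nd (.lf 0x9d4) (.lf 0))) (.nd (.nd (.lf 0x1d93) (.lf 0)) (.nd (.lf 0x226) (.lf 0)))) (.nd (.nd (.nd (.lf 0x0) (.lf 0)) (.nd (.lf 0x0) (.lf 0))) (.nd (.nd (.lf 0x391) (.lf 0)) (.nd (.lf 0x800) (.lf 0))))) (.nd (.nd (.nd (.nd (.lf 0x0) (.lf 0x1dd2)) (.nd (.lf 0x54c) (.lf 0))) (.nd (.nd (.lf 0x1571) (.lf 0)) (.nd (.lf 0x916) (.lf 0)))) (.nd (.nd (.nd (.lf 0x0) (.lf 0)) (.nd (.lf 0x12a7) (.lf 0))) (.nd (.nd (.lf 0x7f) (.lf 0)) (.nd (.lf 0xcd1) (.lf 0)))))))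
def witQ0_nabbbba : Tr := (.nd (.nd (.nd (.nd (.nd (.nd (.lf 0x0) (.lf 0xf4f)) (.nd (.lf 0x0) (.lf 0))) (.nd (.nd (.lf 0x1420) (.lf 0)) (.nd (.lf 0x0) (.lf 0)))) (.nd (.nd (.nd (.lf 0x1772) (.lf 0)) (.nd (.lf 0x0) (.lf 0))) (.nd (.nd (.lf 0x0) (.lf 0)) (.nd (.lf 0xfd9) (.lf 0))))) (.nd (.nd (.nd (.nd (.lf 0x0) (.lf 0x1cbb)) (.nd (.lf 0x1bba) (.lf 0))) (.nd (.nd (.lf 0x0) (.lf 0)) (.nd (.lf 0x1dd8) (.lf 0)))) (.nd (.nd (.nd (.lf 0x1e06) (.lf 0)) (.nd (.lf 0x1781) (.lf 0))) (.nd (.nd (.lf 0x0) (.lf 0)) (.nd (.lf 0x179d) (.lf 0)))))) (.nd (.nd (.nd (.nd (.nd (.lf 0x0) (.lf 0xe68)) (.nd (.lf 0x0) (.lf 0))) (.nd (.nd (.lf 0x535) (.lf 0)) (.nd (.lf 0xcef) (.lf 0)))) (.nd (.nd (.nd (.lf 0x5cb) (.lf 0)) (.nd (.lf 0x191b) (.lf 0))) (.nd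 (.nd (.lf 0x3e3) (.lf 0)) (.nd (.lf 0x12c4) (.lf 0))))) (.nd (.nd (.nd (.nd (.lf 0x0) (.lf 0x1726)) (.nd (.lf 0x0) (.lf 0))) (.nd (.nd (.lf 0x79) (.lf 0)) (.nd (.lf 0x1a4f) (.lf 0)))) (.nd (.nd (.nd (.lf 0x0) (.lf 0)) (.nd (.lf 0x0) (.lf 0))) (.nd (.nd (.lf 0x0) (.lf 0)) (.nd (.lf 0x2f3) (.lf 0)))))))
def witQ0_nabbbbb : Tr := (.nd (.nd (.nd (.nd (.nd (.nd (.lf 0x0) (.lf 0x1652)) (.nd (.lf 0x1004) (.lf 0))) (.nd (.nd (.lf 0x0) (.lf 0)) (.nd (.lf 0x1849) (.lf 0)))) (.nd (.nd (.nd (.lf 0x0) (.lf 0)) (.nd (.lf 0x74d) (.lf 0))) (.nd (.nd (.lf 0x0) (.lf 0)) (.nd (.lf 0x985) (.lf 0))))) (.nd (.nd (.nd (.nd (.lf 0x0) (.lf 0x15e3)) (.nd (.lf 0x0) (.lf 0))) (.nd (.nd (.lf 0x0) (.lf 0)) (.nd (.lf 0xea0) (.lf 0)))) (.nd (.nd (.nd (.lf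 0x0) (.lf 0)) (.nd (.lf 0x16be) (.lf 0))) (.nd (.nd (.lf 0x635) (.lf 0)) (.nd (.lf 0xed) (.lf 0)))))) (.nd (.nd (.nd (.nd (.nd (.lf 0x0) (.lf 0x1a6a)) (.nd (.lf 0x0) (.lf 0))) (.nd (.nd (.lf 0x0) (.lf 0)) (.nd (.lf 0x0) (.lf 0)))) (.nd (.nd (.nd (.lf 0x0) (.lf 0)) (.nd (.lf 0x260) (.lf 0))) (.nd (.nd (.lf 0x0) (.lf 0)) (.nd (.lf 0x0) (.lf 0))))) (.nd (.nd (.nd (.nd (.lf 0x0) (.lf 0x37c)) (.nd (.lf 0x0) (.lf 0))) (.nd (.nd (.lf 0x622) (.lf 0)) (.nd (.lf 0x516) (.lf 0)))) (.nd (.nd (.nd (.lf 0x9a7) (.lf 0)) (.nd (.lf 0x9b5) (.lf 0))) (.nd (.nd (.lf 0x0) (.lf 0)) (.nd (.lf 0x1e9) (.lf 0)))))))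
def witQ0_nbaaaaa : Tr := (.nd (.nd (.nd (.nd (.nd (.nd (.lf 0x0) (.lf 0x1b12)) (.nd (.lf 0x1b54) (.lf 0))) (.nd (.nd (.lf 0xa06) (.lf 0)) (.nd (.lf 0x1a48) (.lf 0)))) (.nd (.nd (.nd (.lf 0x0) (.lf 0)) (.nd (.lf 0xe7e) (.lf 0))) (.nd (.nd (.lf 0x0) (.lf 0)) (.nd (.lf 0x4e4) (.lf 0))))) (.nd (.nd (.nd (.nd (.lf 0x0) (.lf 0x10d)) (.nd (.lf 0x197) (.lf 0))) (.nd (.nd (.lf 0x24) (.lf 0)) (.nd (.lf 0x6ad) (.lf 0)))) (.nd (.nd (.nd (.lf 0x0) (.lf 0)) (.nd (.lf 0x1913) (.lf 0))) (.nd (.nd (.lf 0xdc2) (.lf 0)) (.nd (.lf 0x1d60) (.lf 0)))))) (.nd (.nd (.nd (.nd (.nd (.lf 0x0) (.lf 0x7d)) (.nd (.lf 0x0) (.lf 0))) (.nd (.nd (.lf 0x184) (.lf 0)) (.nd (.lf 0x1872) (.lf 0)))) (.nd (.nd (.nd (.lf 0x0) (.lf 0)) (.nd (.lf 0xd3) (.lf 0))) (.nd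 (.nd (.lf 0x16dc) (.lf 0)) (.nd (.lf 0xea7) (.lf 0))))) (.nd (.nd (.nd (.nd (.lf 0x0) (.lf 0x6ca)) (.nd (.lf 0x0) (.lf 0))) (.nd (.nd (.lf 0x0) (.lf 0)) (.nd (.lf 0xc40) (.lf 0)))) (.nd (.nd (.nd (.lf 0xa0b) (.lf 0)) (.nd (.lf 0x12cb) (.lf 0))) (.nd (.nd (.lf 0x5ae) (.lf 0)) (.nd (.lf 0x176f) (.lf 0)))))))
def witQ0_nbaaaab : Tr := (.nd (.nd (.nd (.nd (.nd (.nd (.lf 0x0) (.lf 0xf0c)) (.nd (.lf 0x0) (.lf 0))) (.nd (.nd (.lf 0x0) (.lf 0)) (.nd (.lf 0x5b) (.lf 0)))) (.nd (.nd (.nd (.lf 0x0) (.lf 0)) (.nd (.lf 0x1ab4) (.lf 0))) (.nd (.nd (.lf 0x0) (.lf 0)) (.nd (.lf 0x1e2d) (.lf 0))))) (.nd (.nd (.nd (.nd (.lf 0x0) (.lf 0x1242)) (.nd (.lf 0x1881) (.lf 0))) (.nd (.nd (.lf 0xcbe) (.lf 0)) (.nd (.lf 0x146e) (.lf 0)))) (.nd (.nd (.nd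 (.lf 0x768) (.lf 0)) (.nd (.lf 0x632) (.lf 0))) (.nd (.nd (.lf 0x1128) (.lf 0)) (.nd (.lf 0xbb1) (.lf 0)))))) (.nd (.nd (.nd (.nd (.nd (.lf 0x16cf) (.lf 0x9ce)) (.nd (.lf 0x11c2) (.lf 0))) (.nd (.nd (.lf 0x0) (.lf 0)) (.nd (.lf 0x0) (.lf 0)))) (.nd (.nd (.nd (.lf 0x0) (.lf 0)) (.nd (.lf 0x44) (.lf 0))) (.nd (.nd (.lf 0xf12) (.lf 0)) (.nd (.lf 0x77a) (.lf 0))))) (.nd (.nd (.nd (.nd (.lf 0x0) (.lf 0x172e)) (.nd (.lf 0xc98) (.lf 0))) (.nd (.nd (.lf 0x0) (.lf 0)) (.nd (.lf 0x103c) (.lf 0)))) (.nd (.nd (.nd (.lf 0x0) (.lf 0)) (.nd (.lf 0x998) (.lf 0))) (.nd (.nd (.lf 0x1442) (.lf 0)) (.nd (.lf 0x268) (.lf 0)))))))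
def witQ0_nbaaaba : Tr := (.nd (.nd (.nd (.nd (.nd (.nd (.lf 0x0) (.lf 0x23f)) (.nd (.lf 0x1424) (.lf 0))) (.nd (.nd (.lf 0x77a) (.lf 0)) (.nd (.lf 0x15a1) (.lf 0)))) (.nd (.nd (.nd (.lf 0x0) (.lf 0)) (.nd (.lf 0x1bb5) (.lf 0))) (.nd (.nd (.lf 0xd2c) (.lf 0)) (.nd (.lf 0x8ca) (.lf 0))))) (.nd (.nd (.nd (.nd (.lf 0x0) (.lf 0x549)) (.nd (.lf 0x0) (.lf 0))) (.nd (.nd (.lf 0x0) (.lf 0)) (.nd (.lf 0x0) (.lf 0)))) (.nd (.nd (.nd (.lf 0x0) (.lf 0)) (.nd (.lf 0x0) (.lf 0))) (.nd (.nd (.lf 0x0) (.lf 0)) (.nd (.lf 0xb4) (.lf 0)))))) (.nd (.nd (.nd (.nd (.nd (.lf 0x1e4a) (.lf 0x1597)) (.nd (.lf 0x17da) (.lf 0))) (.nd (.nd (.lf 0x1813) (.lf 0)) (.nd (.lf 0x3fa) (.lf 0)))) (.nd (.nd (.nd (.lf 0x0) (.lf 0)) (.nd (.lf 0x690) (.lf 0))) (.nd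 (.nd (.lf 0xc17) (.lf 0)) (.nd (.lf 0x1b7b) (.lf 0))))) (.nd (.nd (.nd (.nd (.lf 0x0) (.lf 0x41)) (.nd (.lf 0x1897) (.lf 0))) (.nd (.nd (.lf 0x16eb) (.lf 0)) (.nd (.lf 0xb65) (.lf 0)))) (.nd (.nd (.nd (.lf 0x0) (.lf 0)) (.nd (.lf 0x151c) (.lf 0))) (.nd (.nd (.lf 0x0) (.lf 0)) (.nd (.lf 0x1a32) (.lf 0)))))))
def witQ0_nbaaabb : Tr := (.nd (.nd (.nd (.nd (.nd (.nd (.lf 0x0) (.lf 0x190b)) (.nd (.lf 0x1618) (.lf 0))) (.nd (.nd (.lf 0x196) (.lf 0)) (.nd (.lf 0x125d) (.lf 0)))) (.nd (.nd (.nd (.lf 0x0) (.lf 0)) (.nd (.lf 0x1c4d) (.lf 0))) (.nd (.nd (.lf 0x0) (.lf 0)) (.nd (.lf 0x1a37) (.lf 0))))) (.nd (.nd (.nd (.nd (.lf 0x0) (.lf 0xa74)) (.nd (.lf 0x1c3b) (.lf 0))) (.nd (.nd (.lf 0x16b5) (.lf 0)) (.nd (.lf 0x1411) (.lf 0)))) (.nd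 (.nd (.nd (.lf 0x623) (.lf 0)) (.nd (.lf 0x40d) (.lf 0))) (.nd (.nd (.lf 0x1b0d) (.lf 0)) (.nd (.lf 0x195e) (.lf 0)))))) (.nd (.nd (.nd (.nd (.nd (.lf 0x0) (.lf 0x519)) (.nd (.lf 0x55b) (.lf 0))) (.nd (.nd (.lf 0x4f3) (.lf 0)) (.nd (.lf 0x8cc) (.lf 0)))) (.nd (.nd (.nd (.lf 0x0) (.lf 0)) (.nd (.lf 0x495) (.lf 0))) (.nd (.nd (.lf 0x5a0) (.lf 0)) (.nd (.lf 0xc7d) (.lf 0))))) (.nd (.nd (.nd (.nd (.lf 0x0) (.lf 0x394)) (.nd (.lf 0x1891) (.lf 0))) (.nd (.nd (.lf 0x16bf) (.lf 0)) (.nd (.lf 0x114e) (.lf 0)))) (.nd (.nd (.nd (.lf 0x0) (.lf 0)) (.nd (.lf 0x1242) (.lf 0))) (.nd (.nd (.lf 0x0) (.lf 0)) (.nd (.lf 0x93d) (.lf 0)))))))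
def witQ0_nbaabaa : Tr := (.nd (.nd (.nd (.nd (.nd (.nd (.lf 0x0) (.lf 0x1e58)) (.nd (.lf 0xcc5) (.lf 0))) (.nd (.nd (.lf 0x0) (.lf 0)) (.nd (.lf 0x1a8c) (.lf 0)))) (.nd (.nd (.nd (.lf 0x0) (.lf 0)) (.nd (.lf 0x0) (.lf 0))) (.nd (.nd (.lf 0x0) (.lf 0)) (.nd (.lf 0x2af) (.lf 0))))) (.nd (.nd (.nd (.nd (.lf 0x0) (.lf 0xa3c)) (.nd (.lf 0x1032) (.lf 0))) (.nd (.nd (.lf 0x0) (.lf 0)) (.nd (.lf 0x7a) (.lf 0)))) (.nd (.nd (.nd (.lf 0x0) (.lf 0)) (.nd (.lf 0x228) (.lf 0))) (.nd (.nd (.lf 0x1426) (.lf 0)) (.nd (.lf 0x1ae7) (.lf 0)))))) (.nd (.nd (.nd (.nd (.nd (.lf 0x0) (.lf 0x313)) (.nd (.lf 0x1494) (.lf 0))) (.nd (.nd (.lf 0x0) (.lf 0)) (.nd (.lf 0x16fe) (.lf 0)))) (.nd (.nd (.nd (.lf 0x17e3) (.lf 0)) (.nd (.lf 0x104f) (.lf 0))) (.nd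 (.nd (.lf 0x19) (.lf 0)) (.nd (.lf 0x15e1) (.lf 0))))) (.nd (.nd (.nd (.nd (.lf 0x0) (.lf 0x169a)) (.nd (.lf 0x88f) (.lf 0))) (.nd (.nd (.lf 0x0) (.lf 0)) (.nd (.lf 0x92e) (.lf 0)))) (.nd (.nd (.nd (.lf 0x0) (.lf 0)) (.nd (.lf 0x1042) (.lf 0))) (.nd (.nd (.lf 0xf6c) (.lf 0)) (.nd (.lf 0x0) (.lf 0)))))))
def witQ0_nbaabab : Tr := (.nd (.nd (.nd (.nd (.nd (.nd (.lf 0x0) (.lf 0x1430)) (.nd (.lf 0x11d7) (.lf 0))) (.nd (.nd (.lf 0x0) (.lf 0)) (.nd (.lf 0x123a) (.lf 0)))) (.nd (.nd (.nd (.lf 0x0) (.lf 0)) (.nd (.lf 0x0) (.lf 0))) (.nd (.nd (.lf 0x0) (.lf 0)) (.nd (.lf 0x1a03) (.lf 0))))) (.nd (.nd (.nd (.nd (.lf 0x0) (.lf 0xe95)) (.nd (.lf 0x6a8) (.lf 0))) (.nd (.nd (.lf 0x2c1) (.lf 0)) (.nd (.lf 0x1684) (.lf 0)))) (.nd (.nd (.nd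 (.lf 0x0) (.lf 0)) (.nd (.lf 0x0) (.lf 0))) (.nd (.nd (.lf 0x1010) (.lf 0)) (.nd (.lf 0x1f0) (.lf 0)))))) (.nd (.nd (.nd (.nd (.nd (.lf 0x0) (.lf 0x1951)) (.nd (.lf 0xae5) (.lf 0))) (.nd (.nd (.lf 0x447) (.lf 0)) (.nd (.lf 0x0) (.lf 0)))) (.nd (.nd (.nd (.lf 0x1aba) (.lf 0)) (.nd (.lf 0x4b3) (.lf 0))) (.nd (.nd (.lf 0xa9a) (.lf 0)) (.nd (.lf 0x1ab) (.lf 0))))) (.nd (.nd (.nd (.nd (.lf 0x0) (.lf 0x6ea)) (.nd (.lf 0x51e) (.lf 0))) (.nd (.nd (.lf 0x1b96) (.lf 0)) (.nd (.lf 0x102a) (.lf 0)))) (.nd (.nd (.nd (.lf 0x1041) (.lf 0)) (.nd (.lf 0x113c) (.lf 0))) (.nd (.nd (.lf 0xe48) (.lf 0)) (.nd (.lf 0xd87) (.lf 0)))))))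
def witQ0_nbaabba : Tr := (.nd (.nd (.nd (.nd (.nd (.nd (.lf 0x0) (.lf 0xd8f)) (.nd (.lf 0xc89) (.lf 0))) (.nd (.nd (.lf 0xc74) (.lf 0)) (.nd (.lf 0x183e) (.lf 0)))) (.nd (.nd (.nd (.lf 0x0) (.lf 0)) (.nd (.lf 0x61d) (.lf 0))) (.nd (.nd (.lf 0xe6b) (.lf 0)) (.nd (.lf 0x0) (.lf 0))))) (.nd (.nd (.nd (.nd (.lf 0x0) (.lf 0x1512)) (.nd (.lf 0xd98) (.lf 0))) (.nd (.nd (.lf 0x0) (.lf 0)) (.nd (.lf 0x17b9) (.lf 0)))) (.nd (.nd (.nd (.lf 0x874) (.lf 0)) (.nd (.lf 0x768) (.lf 0))) (.nd (.nd (.lf 0x14db) (.lf 0)) (.nd (.lf 0x15af) (.lf 0)))))) (.nd (.nd (.nd (.nd (.nd (.lf 0x0) (.lf 0x1032)) (.nd (.lf 0x866) (.lf 0))) (.nd (.nd (.lf 0x109b) (.lf 0)) (.nd (.lf 0xca8) (.lf 0)))) (.nd (.nd (.nd (.lf 0x0) (.lf 0)) (.nd (.lf 0x375) (.lf 0)))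 (.nd (.nd (.lf 0x85) (.lf 0)) (.nd (.lf 0xd65) (.lf 0))))) (.nd (.nd (.nd (.nd (.lf 0x1b3f) (.lf 0x17be)) (.nd (.lf 0xb57) (.lf 0))) (.nd (.nd (.lf 0x1bc3) (.lf 0)) (.nd (.lf 0x10db) (.lf 0)))) (.nd (.nd (.nd (.lf 0x0) (.lf 0)) (.nd (.lf 0xeb4) (.lf 0))) (.nd (.nd (.lf 0x144f) (.lf 0)) (.nd (.lf 0x8e7) (.lf 0)))))))
def witQ0_nbaabbb : Tr := (.nd (.nd (.nd (.nd (.nd (.nd (.lf 0x0) (.lf 0x88d)) (.nd (.lf 0x1c92) (.lf 0))) (.nd (.nd (.lf 0x0) (.lf 0)) (.nd (.lf 0x13cb) (.lf 0)))) (.nd (.nd (.nd (.lf 0x0) (.lf 0)) (.nd (.lf 0x0) (.lf 0))) (.nd (.nd (.lf 0x119a) (.lf 0)) (.nd (.lf 0x1c2f) (.lf 0))))) (.nd (.nd (.nd (.nd (.lf 0x0) (.lf 0x2f1)) (.nd (.lf 0x0) (.lf 0))) (.nd (.nd (.lf 0x0) (.lf 0)) (.nd (.lf 0x3fe) (.lf 0)))) (.nd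 (.nd (.nd (.lf 0x0) (.lf 0)) (.nd (.lf 0xacc) (.lf 0))) (.nd (.nd (.lf 0x1a62) (.lf 0)) (.nd (.lf 0xa26) (.lf 0)))))) (.nd (.nd (.nd (.nd (.nd (.lf 0x0) (.lf 0x162f)) (.nd (.lf 0x311) (.lf 0))) (.nd (.nd (.lf 0x0) (.lf 0)) (.nd (.lf 0x392) (.lf 0)))) (.nd (.nd (.nd (.lf 0x162e) (.lf 0)) (.nd (.lf 0x928) (.lf 0))) (.nd (.nd (.lf 0x0) (.lf 0)) (.nd (.lf 0x2e) (.lf 0))))) (.nd (.nd (.nd (.nd (.lf 0x0) (.lf 0x1b22)) (.nd (.lf 0x15af) (.lf 0))) (.nd (.nd (.lf 0x0) (.lf 0)) (.nd (.lf 0x1769) (.lf 0)))) (.nd (.nd (.nd (.lf 0x0) (.lf 0)) (.nd (.lf 0x8ed) (.lf 0))) (.nd (.nd (.lf 0x93e) (.lf 0)) (.nd (.lf 0x93) (.lf 0)))))))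
def witQ0_nbabaaa : Tr := (.nd (.nd (.nd (.nd (.nd (.nd (.lf 0x0) (.lf 0x35b)) (.nd (.lf 0x1447) (.lf 0))) (.nd (.nd (.lf 0x0) (.lf 0)) (.nd (.lf 0x0) (.lf 0)))) (.nd (.nd (.nd (.lf 0x0) (.lf 0)) (.nd (.lf 0x18af) (.lf 0))) (.nd (.nd (.lf 0x981) (.lf 0)) (.nd (.lf 0x1e57) (.lf 0))))) (.nd (.nd (.nd (.nd (.lf 0x0) (.lf 0x1ce7)) (.nd (.lf 0x14fb) (.lf 0))) (.nd (.nd (.lf 0x0) (.lf 0)) (.nd (.lf 0x1ca3) (.lf 0)))) (.nd (.nd (.nd (.lf 0x0) (.lf 0)) (.nd (.lf 0x0) (.lf 0))) (.nd (.nd (.lf 0x0) (.lf 0)) (.nd (.lf 0x4ec) (.lf 0)))))) (.nd (.nd (.nd (.nd (.nd (.lf 0x11a0) (.lf 0xa7c)) (.nd (.lf 0x1509) (.lf 0))) (.nd (.nd (.lf 0x1086) (.lf 0)) (.nd (.lf 0x1561) (.lf 0)))) (.nd (.nd (.nd (.lf 0x0) (.lf 0)) (.nd (.lf 0xbef) (.lf 0)))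 (.nd (.nd (.lf 0x0) (.lf 0)) (.nd (.lf 0x27d) (.lf 0))))) (.nd (.nd (.nd (.nd (.lf 0x0) (.lf 0x5f8)) (.nd (.lf 0x6b4) (.lf 0))) (.nd (.nd (.lf 0x1803) (.lf 0)) (.nd (.lf 0x1129) (.lf 0)))) (.nd (.nd (.nd (.lf 0x0) (.lf 0)) (.nd (.lf 0x16fa) (.lf 0))) (.nd (.nd (.lf 0xdb1) (.lf 0)) (.nd (.lf 0x1b46) (.lf 0)))))))
def witQ0_nbabaab : Tr := (.nd (.nd (.nd (.nd (.nd (.nd (.lf 0x0) (.lf 0x130b)) (.nd (.lf 0x906) (.lf 0))) (.nd (.nd (.lf 0x0) (.lf 0)) (.nd (.lf 0x9a3) (.lf 0)))) (.nd (.nd (.nd (.lf 0x79f) (.lf 0)) (.nd (.lf 0x0) (.lf 0))) (.nd (.nd (.lf 0x1705) (.lf 0)) (.nd (.lf 0x6b4) (.lf 0))))) (.nd (.nd (.nd (.nd (.lf 0x126c) (.lf 0x122)) (.nd (.lf 0x0) (.lf 0))) (.nd (.nd (.lf 0x9eb) (.lf 0)) (.nd (.lf 0x13d0) (.lf 0)))) (.nd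 (.nd (.nd (.lf 0x11fb) (.lf 0)) (.nd (.lf 0x0) (.lf 0))) (.nd (.nd (.lf 0x0) (.lf 0)) (.nd (.lf 0x118a) (.lf 0)))))) (.nd (.nd (.nd (.nd (.nd (.lf 0x0) (.lf 0xa6c)) (.nd (.lf 0x0) (.lf 0))) (.nd (.nd (.lf 0x1804) (.lf 0)) (.nd (.lf 0xed8) (.lf 0)))) (.nd (.nd (.nd (.lf 0x0) (.lf 0)) (.nd (.lf 0x0) (.lf 0))) (.nd (.nd (.lf 0x0) (.lf 0)) (.nd (.lf 0x0) (.lf 0))))) (.nd (.nd (.nd (.nd (.lf 0x0) (.lf 0x8e9)) (.nd (.lf 0x704) (.lf 0))) (.nd (.nd (.lf 0x7c6) (.lf 0)) (.nd (.lf 0x1907) (.lf 0)))) (.nd (.nd (.nd (.lf 0x85a) (.lf 0)) (.nd (.lf 0xe4f) (.lf 0))) (.nd (.nd (.lf 0x0) (.lf 0)) (.nd (.lf 0x95f) (.lf 0)))))))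
def witQ0_nbababa : Tr := (.nd (.nd (.nd (.nd (.nd (.nd (.lf 0x0) (.lf 0x1476)) (.nd (.lf 0x167a) (.lf 0))) (.nd (.nd (.lf 0x0) (.lf 0)) (.nd (.lf 0x1bb) (.lf 0)))) (.nd (.nd (.nd (.lf 0xa54) (.lf 0)) (.nd (.lf 0x1ab5) (.lf 0))) (.nd (.nd (.lf 0x602) (.lf 0)) (.nd (.lf 0x76c) (.lf 0))))) (.nd (.nd (.nd (.nd (.lf 0x0) (.lf 0x8c1)) (.nd (.lf 0x90a) (.lf 0))) (.nd (.nd (.lf 0x0) (.lf 0)) (.nd (.lf 0x14c3) (.lf 0)))) (.nd (.nd (.nd (.lf 0x10d4) (.lf 0)) (.nd (.lf 0x1535) (.lf 0))) (.nd (.nd (.lf 0x1806) (.lf 0)) (.nd (.lf 0x1949) (.lf 0)))))) (.nd (.nd (.nd (.nd (.nd (.lf 0x0) (.lf 0xb74)) (.nd (.lf 0x0) (.lf 0))) (.nd (.nd (.lf 0x0) (.lf 0)) (.nd (.lf 0xc94) (.lf 0)))) (.nd (.nd (.nd (.lf 0x130) (.lf 0)) (.nd (.lf 0x6fe) (.lf 0)))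 (.nd (.nd (.lf 0x0) (.lf 0)) (.nd (.lf 0x1845) (.lf 0))))) (.nd (.nd (.nd (.nd (.lf 0x0) (.lf 0x1afe)) (.nd (.lf 0x0) (.lf 0))) (.nd (.nd (.lf 0x510) (.lf 0)) (.nd (.lf 0x152c) (.lf 0)))) (.nd (.nd (.nd (.lf 0x17d9) (.lf 0)) (.nd (.lf 0x1c94) (.lf 0))) (.nd (.nd (.lf 0x1a69) (.lf 0)) (.nd (.lf 0x1394) (.lf 0)))))))
def witQ0_nbababb : Tr := (.nd (.nd (.nd (.nd (.nd (.nd (.lf 0xc86) (.lf 0x0)) (.nd (.lf 0x871) (.lf 0))) (.nd (.nd (.lf 0xd0c) (.lf 0)) (.nd (.lf 0x41d) (.lf 0)))) (.nd (.nd (.nd (.lf 0xfc) (.lf 0)) (.nd (.lf 0x1524) (.lf 0))) (.nd (.nd (.lf 0x0) (.lf 0)) (.nd (.lf 0x8b) (.lf 0))))) (.nd (.nd (.nd (.nd (.lf 0x0) (.lf 0xb3f)) (.nd (.lf 0x5b4) (.lf 0))) (.nd (.nd (.lf 0x1357) (.lf 0)) (.nd (.lf 0x0) (.lf 0)))) (.nd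 (.nd (.nd (.lf 0x0) (.lf 0)) (.nd (.lf 0x0) (.lf 0))) (.nd (.nd (.lf 0x693) (.lf 0)) (.nd (.lf 0xab8) (.lf 0)))))) (.nd (.nd (.nd (.nd (.nd (.lf 0x5fd) (.lf 0x1979)) (.nd (.lf 0x14ad) (.lf 0))) (.nd (.nd (.lf 0x672) (.lf 0)) (.nd (.lf 0xa71) (.lf 0)))) (.nd (.nd (.nd (.lf 0x0) (.lf 0)) (.nd (.lf 0xd95) (.lf 0))) (.nd (.nd (.lf 0x0) (.lf 0)) (.nd (.lf 0x72a) (.lf 0))))) (.nd (.nd (.nd (.nd (.lf 0x0) (.lf 0x1b61)) (.nd (.lf 0x1be1) (.lf 0))) (.nd (.nd (.lf 0x8) (.lf 0)) (.nd (.lf 0x94e) (.lf 0)))) (.nd (.nd (.nd (.lf 0x0) (.lf 0)) (.nd (.lf 0x540) (.lf 0))) (.nd (.nd (.lf 0x0) (.lf 0)) (.nd (.lf 0xaa3) (.lf 0)))))))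
def witQ0_nbabbaa : Tr := (.nd (.nd (.nd (.nd (.nd (.nd (.lf 0x0) (.lf 0x52d)) (.nd (.lf 0x733) (.lf 0))) (.nd (.nd (.lf 0xb7e) (.lf 0)) (.nd (.lf 0xde8) (.lf 0)))) (.nd (.nd (.nd (.lf 0x0) (.lf 0)) (.nd (.lf 0x1761) (.lf 0))) (.nd (.nd (.lf 0x1018) (.lf 0)) (.nd (.lf 0x1a3e) (.lf 0))))) (.nd (.nd (.nd (.nd (.lf 0x104a) (.lf 0x1132)) (.nd (.lf 0x0) (.lf 0))) (.nd (.nd (.lf 0x11cd) (.lf 0)) (.nd (.lf 0xc1c) (.lf 0)))) (.nd (.nd (.nd (.lf 0x0) (.lf 0)) (.nd (.lf 0x0) (.lf 0))) (.nd (.nd (.lf 0xb6a) (.lf 0)) (.nd (.lf 0x1083) (.lf 0)))))) (.nd (.nd (.nd (.nd (.nd (.lf 0x0) (.lf 0x1054)) (.nd (.lf 0x1302) (.lf 0))) (.nd (.nd (.lf 0x0) (.lf 0)) (.nd (.lf 0x148b) (.lf 0)))) (.nd (.nd (.nd (.lf 0x1b2c) (.lf 0)) (.nd (.lf 0x136f) (.lf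 0))) (.nd (.nd (.lf 0x16b7) (.lf 0)) (.nd (.lf 0xbf1) (.lf 0))))) (.nd (.nd (.nd (.nd (.lf 0x0) (.lf 0x1707)) (.nd (.lf 0x3fa) (.lf 0))) (.nd (.nd (.lf 0x17d2) (.lf 0)) (.nd (.lf 0xe1) (.lf 0)))) (.nd (.nd (.nd (.lf 0x0) (.lf 0)) (.nd (.lf 0x15eb) (.lf 0))) (.nd (.nd (.lf 0x1a31) (.lf 0)) (.nd (.lf 0x16e6) (.lf 0)))))))
def witQ0_nbabbab : Tr := (.nd (.nd (.nd (.nd (.nd (.nd (.lf 0x0) (.lf 0xb41)) (.nd (.lf 0x0) (.lf 0))) (.nd (.nd (.lf 0x12) (.lf 0)) (.nd (.lf 0x88f) (.lf 0)))) (.nd (.nd (.nd (.lf 0xed9) (.lf 0)) (.nd (.lf 0x1069) (.lf 0))) (.nd (.nd (.lf 0x7c6) (.lf 0)) (.nd (.lf 0x1e3f) (.lf 0))))) (.nd (.nd (.nd (.nd (.lf 0x0) (.lf 0x1ddc)) (.nd (.lf 0xf67) (.lf 0))) (.nd (.nd (.lf 0x0) (.lf 0)) (.nd (.lf 0x61f) (.lf 0))))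 (.nd (.nd (.nd (.lf 0x0) (.lf 0)) (.nd (.lf 0x64e) (.lf 0))) (.nd (.nd (.lf 0x18d0) (.lf 0)) (.nd (.lf 0x1863) (.lf 0)))))) (.nd (.nd (.nd (.nd (.nd (.lf 0x0) (.lf 0xf25)) (.nd (.lf 0x1970) (.lf 0))) (.nd (.nd (.lf 0x0) (.lf 0)) (.nd (.lf 0x3e0) (.lf 0)))) (.nd (.nd (.nd (.lf 0x0) (.lf 0)) (.nd (.lf 0x0) (.lf 0))) (.nd (.nd (.lf 0x1529) (.lf 0)) (.nd (.lf 0xa66) (.lf 0))))) (.nd (.nd (.nd (.nd (.lf 0x0) (.lf 0x60f)) (.nd (.lf 0x0) (.lf 0))) (.nd (.nd (.lf 0x15c5) (.lf 0)) (.nd (.lf 0x1e4f) (.lf 0)))) (.nd (.nd (.nd (.lf 0x14d3) (.lf 0)) (.nd (.lf 0x781) (.lf 0))) (.nd (.nd (.lf 0x7db) (.lf 0)) (.nd (.lf 0x184e) (.lf 0)))))))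
def witQ0_nbabbba : Tr := (.nd (.nd (.nd (.nd (.nd (.nd (.lf 0x8cf) (.lf 0x11e6)) (.nd (.lf 0x986) (.lf 0))) (.nd (.nd (.lf 0x0) (.lf 0)) (.nd (.lf 0x1a61) (.lf 0)))) (.nd (.nd (.nd (.lf 0x0) (.lf 0)) (.nd (.lf 0x1b79) (.lf 0))) (.nd (.nd (.lf 0x0) (.lf 0)) (.nd (.lf 0x173f) (.lf 0))))) (.nd (.nd (.nd (.nd (.lf 0x0) (.lf 0x18de)) (.nd (.lf 0x1e4f) (.lf 0))) (.nd (.nd (.lf 0x1ce7) (.lf 0)) (.nd (.lf 0x1de0) (.lf 0)))) (.nd (.nd (.nd (.lf 0x0) (.lf 0)) (.nd (.lf 0x17b2) (.lf 0))) (.nd (.nd (.lf 0x515) (.lf 0)) (.nd (.lf 0x915) (.lf 0)))))) (.nd (.nd (.nd (.nd (.nd (.lf 0x0) (.lf 0x1a3d)) (.nd (.lf 0x917) (.lf 0))) (.nd (.nd (.lf 0x0) (.lf 0)) (.nd (.lf 0x4d2) (.lf 0)))) (.nd (.nd (.nd (.lf 0x1c01) (.lf 0)) (.nd (.lf 0x1080) (.lf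 0))) (.nd (.nd (.lf 0x0) (.lf 0)) (.nd (.lf 0x1718) (.lf 0))))) (.nd (.nd (.nd (.nd (.lf 0xd9a) (.lf 0x3e6)) (.nd (.lf 0xbca) (.lf 0))) (.nd (.nd (.lf 0x0) (.lf 0)) (.nd (.lf 0x1c4b) (.lf 0)))) (.nd (.nd (.nd (.lf 0x0) (.lf 0)) (.nd (.lf 0x61a) (.lf 0))) (.nd (.nd (.lf 0x737) (.lf 0)) (.nd (.lf 0xd48) (.lf 0)))))))
def witQ0_nbabbbb : Tr := (.nd (.nd (.nd (.nd (.nd (.nd (.lf 0x0) (.lf 0xae2)) (.nd (.lf 0x1bce) (.lf 0))) (.nd (.nd (.lf 0x0) (.lf 0)) (.nd (.lf 0x10a6) (.lf 0)))) (.nd (.nd (.nd (.lf 0x0) (.lf 0)) (.nd (.lf 0x1c60) (.lf 0))) (.nd (.nd (.lf 0xf13) (.lf 0)) (.nd (.lf 0x904) (.lf 0))))) (.nd (.nd (.nd (.nd (.lf 0x0) (.lf 0xa89)) (.nd (.lf 0x146e) (.lf 0))) (.nd (.nd (.lf 0x128f) (.lf 0)) (.nd (.lf 0x1666) (.lf 0))))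 (.nd (.nd (.nd (.lf 0x0) (.lf 0)) (.nd (.lf 0x14b0) (.lf 0))) (.nd (.nd (.lf 0x0) (.lf 0)) (.nd (.lf 0x162a) (.lf 0)))))) (.nd (.nd (.nd (.nd (.nd (.lf 0x0) (.lf 0x1098)) (.nd (.lf 0x14ff) (.lf 0))) (.nd (.nd (.lf 0x0) (.lf 0)) (.nd (.lf 0x176) (.lf 0)))) (.nd (.nd (.nd (.lf 0x17ff) (.lf 0)) (.nd (.lf 0x0) (.lf 0))) (.nd (.nd (.lf 0x0) (.lf 0)) (.nd (.lf 0x0) (.lf 0))))) (.nd (.nd (.nd (.nd (.lf 0x0) (.lf 0x1284)) (.nd (.lf 0x0) (.lf 0))) (.nd (.nd (.lf 0xcf5) (.lf 0)) (.nd (.lf 0x16ae) (.lf 0)))) (.nd (.nd (.nd (.lf 0x0) (.lf 0)) (.nd (.lf 0x0) (.lf 0))) (.nd (.nd (.lf 0xad8) (.lf 0)) (.nd (.lf 0x161c) (.lf 0)))))))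
def witQ0_nbbaaaa : Tr := (.nd (.nd (.nd (.nd (.nd (.nd (.lf 0x0) (.lf 0xc6)) (.nd (.lf 0x1708) (.lf 0))) (.nd (.nd (.lf 0x0) (.lf 0)) (.nd (.lf 0x9c1) (.lf 0)))) (.nd (.nd (.nd (.lf 0xc99) (.lf 0)) (.nd (.lf 0x6a2) (.lf 0))) (.nd (.nd (.lf 0x0) (.lf 0)) (.nd (.lf 0xc41) (.lf 0))))) (.nd (.nd (.nd (.nd (.lf 0xc1a) (.lf 0x821)) (.nd (.lf 0x6da) (.lf 0))) (.nd (.nd (.lf 0x0) (.lf 0)) (.nd (.lf 0x1adf) (.lf 0)))) (.nd (.nd (.nd (.lf 0x0) (.lf 0)) (.nd (.lf 0xccc) (.lf 0))) (.nd (.nd (.lf 0x0) (.lf 0)) (.nd (.lf 0xc7d) (.lf 0)))))) (.nd (.nd (.nd (.nd (.nd (.lf 0x0) (.lf 0xfd7)) (.nd (.lf 0x1b99) (.lf 0))) (.nd (.nd (.lf 0x0) (.lf 0)) (.nd (.lf 0x19a3) (.lf 0)))) (.nd (.nd (.nd (.lf 0x0) (.lf 0)) (.nd (.lf 0xc2b) (.lf 0))) (.nd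 (.nd (.lf 0x1931) (.lf 0)) (.nd (.lf 0x1449) (.lf 0))))) (.nd (.nd (.nd (.nd (.lf 0x0) (.lf 0x1281)) (.nd (.lf 0xed4) (.lf 0))) (.nd (.nd (.lf 0x0) (.lf 0)) (.nd (.lf 0xad4) (.lf 0)))) (.nd (.nd (.nd (.lf 0xb80) (.lf 0)) (.nd (.lf 0x74) (.lf 0))) (.nd (.nd (.lf 0x506) (.lf 0)) (.nd (.lf 0x1bc7) (.lf 0)))))))
def witQ0_nbbaaab : Tr := (.nd (.nd (.nd (.nd (.nd (.nd (.lf 0x0) (.lf 0x12f8)) (.nd (.lf 0x0) (.lf 0))) (.nd (.nd (.lf 0x0) (.lf 0)) (.nd (.lf 0x1922) (.lf 0)))) (.nd (.nd (.nd (.lf 0x0) (.lf 0)) (.nd (.lf 0x18cc) (.lf 0))) (.nd (.nd (.lf 0x8ef) (.lf 0)) (.nd (.lf 0x13e4) (.lf 0))))) (.nd (.nd (.nd (.nd (.lf 0x0) (.lf 0x6c9)) (.nd (.lf 0x0) (.lf 0))) (.nd (.nd (.lf 0x0) (.lf 0)) (.nd (.lf 0x6b2) (.lf 0)))) (.nd (.nd (.nd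 (.lf 0x0) (.lf 0)) (.nd (.lf 0x1c14) (.lf 0))) (.nd (.nd (.lf 0x9f1) (.lf 0)) (.nd (.lf 0x10e0) (.lf 0)))))) (.nd (.nd (.nd (.nd (.nd (.lf 0x1c83) (.lf 0x7ec)) (.nd (.lf 0x1a25) (.lf 0))) (.nd (.nd (.lf 0x0) (.lf 0)) (.nd (.lf 0x1a06) (.lf 0)))) (.nd (.nd (.nd (.lf 0x0) (.lf 0)) (.nd (.lf 0x0) (.lf 0))) (.nd (.nd (.lf 0x1bb8) (.lf 0)) (.nd (.lf 0x106b) (.lf 0))))) (.nd (.nd (.nd (.nd (.lf 0x0) (.lf 0x109d)) (.nd (.lf 0x1115) (.lf 0))) (.nd (.nd (.lf 0x1c18) (.lf 0)) (.nd (.lf 0x4ee) (.lf 0)))) (.nd (.nd (.nd (.lf 0x0) (.lf 0)) (.nd (.lf 0xc9b) (.lf 0))) (.nd (.nd (.lf 0x1181) (.lf 0)) (.nd (.lf 0x138d) (.lf 0)))))))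
def witQ0_nbbaaba : Tr := (.nd (.nd (.nd (.nd (.nd (.nd (.lf 0x0) (.lf 0x59e)) (.nd (.lf 0x225) (.lf 0))) (.nd (.nd (.lf 0x6b4) (.lf 0)) (.nd (.lf 0x0) (.lf 0)))) (.nd (.nd (.nd (.lf 0x0) (.lf 0)) (.nd (.lf 0x0) (.lf 0))) (.nd (.nd (.lf 0x123a) (.lf 0)) (.nd (.lf 0x0) (.lf 0))))) (.nd (.nd (.nd (.nd (.lf 0x0) (.lf 0x16ae)) (.nd (.lf 0x99) (.lf 0))) (.nd (.nd (.lf 0x0) (.lf 0)) (.nd (.lf 0x10dd) (.lf 0)))) (.nd (.nd (.nd (.lf 0x19cd) (.lf 0)) (.nd (.lf 0x98a) (.lf 0))) (.nd (.nd (.lf 0x0) (.lf 0)) (.nd (.lf 0x15db) (.lf 0)))))) (.nd (.nd (.nd (.nd (.nd (.lf 0x0) (.lf 0xc64)) (.nd (.lf 0x0) (.lf 0))) (.nd (.nd (.lf 0x0) (.lf 0)) (.nd (.lf 0x15f6) (.lf 0)))) (.nd (.nd (.nd (.lf 0x0) (.lf 0)) (.nd (.lf 0x87c) (.lf 0))) (.nd (.nd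 (.lf 0xb62) (.lf 0)) (.nd (.lf 0x2b1) (.lf 0))))) (.nd (.nd (.nd (.nd (.lf 0x0) (.lf 0x1bc8)) (.nd (.lf 0x0) (.lf 0))) (.nd (.nd (.lf 0x1864) (.lf 0)) (.nd (.lf 0x1032) (.lf 0)))) (.nd (.nd (.nd (.lf 0x0) (.lf 0)) (.nd (.lf 0x1784) (.lf 0))) (.nd (.nd (.lf 0x155e) (.lf 0)) (.nd (.lf 0x1aa0) (.lf 0)))))))
def witQ0_nbbaabb : Tr := (.nd (.nd (.nd (.nd (.nd (.nd (.lf 0x0) (.lf 0xfa4)) (.nd (.lf 0x0) (.lf 0))) (.nd (.nd (.lf 0xe50) (.lf 0)) (.nd (.lf 0x144c) (.lf 0)))) (.nd (.nd (.nd (.lf 0x0) (.lf 0)) (.nd (.lf 0x11e1) (.lf 0))) (.nd (.nd (.lf 0xc20) (.lf 0)) (.nd (.lf 0x156c) (.lf 0))))) (.nd (.nd (.nd (.nd (.lf 0x0) (.lf 0x1679)) (.nd (.lf 0x17e4) (.lf 0))) (.nd (.nd (.lf 0x0) (.lf 0)) (.nd (.lf 0x0) (.lf 0)))) (.nd (.nd (.nd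 (.lf 0x183a) (.lf 0)) (.nd (.lf 0xbe9) (.lf 0))) (.nd (.nd (.lf 0x0) (.lf 0)) (.nd (.lf 0xe35) (.lf 0)))))) (.nd (.nd (.nd (.nd (.nd (.lf 0x0) (.lf 0xb99)) (.nd (.lf 0x1138) (.lf 0))) (.nd (.nd (.lf 0x0) (.lf 0)) (.nd (.lf 0x126d) (.lf 0)))) (.nd (.nd (.nd (.lf 0x0) (.lf 0)) (.nd (.lf 0x60c) (.lf 0))) (.nd (.nd (.lf 0x1813) (.lf 0)) (.nd (.lf 0xcdc) (.lf 0))))) (.nd (.nd (.nd (.nd (.lf 0x0) (.lf 0x182c)) (.nd (.lf 0x118d) (.lf 0))) (.nd (.nd (.lf 0x106d) (.lf 0)) (.nd (.lf 0x1c37) (.lf 0)))) (.nd (.nd (.nd (.lf 0x14aa) (.lf 0)) (.nd (.lf 0x90c) (.lf 0))) (.nd (.nd (.lf 0x0) (.lf 0)) (.nd (.lf 0x4d2) (.lf 0)))))))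
def witQ0_nbbabaa : Tr := (.nd (.nd (.nd (.nd (.nd (.nd (.lf 0x0) (.lf 0x52a)) (.nd (.lf 0x16e8) (.lf 0))) (.nd (.nd (.lf 0x0) (.lf 0)) (.nd (.lf 0xbe1) (.lf 0)))) (.nd (.nd (.nd (.lf 0x0) (.lf 0)) (.nd (.lf 0x14cb) (.lf 0))) (.nd (.nd (.lf 0x0) (.lf 0)) (.nd (.lf 0x0) (.lf 0))))) (.nd (.nd (.nd (.nd (.lf 0x0) (.lf 0x1dc0)) (.nd (.lf 0x0) (.lf 0))) (.nd (.nd (.lf 0x631) (.lf 0)) (.nd (.lf 0x171f) (.lf 0)))) (.nd (.nd (.nd (.lf 0x0) (.lf 0)) (.nd (.lf 0x1b5d) (.lf 0))) (.nd (.nd (.lf 0x370) (.lf 0)) (.nd (.lf 0x9f8) (.lf 0)))))) (.nd (.nd (.nd (.nd (.nd (.lf 0x0) (.lf 0x253)) (.nd (.lf 0x46) (.lf 0))) (.nd (.nd (.lf 0xd2c) (.lf 0)) (.nd (.lf 0x1903) (.lf 0)))) (.nd (.nd (.nd (.lf 0x0) (.lf 0)) (.nd (.lf 0x62c) (.lf 0))) (.nd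 (.nd (.lf 0x13e9) (.lf 0)) (.nd (.lf 0x629) (.lf 0))))) (.nd (.nd (.nd (.nd (.lf 0x0) (.lf 0x1bc5)) (.nd (.lf 0x18d6) (.lf 0))) (.nd (.nd (.lf 0x0) (.lf 0)) (.nd (.lf 0x9dc) (.lf 0)))) (.nd (.nd (.nd (.lf 0x1411) (.lf 0)) (.nd (.lf 0x0) (.lf 0))) (.nd (.nd (.lf 0x0) (.lf 0)) (.nd (.lf 0x1040) (.lf 0)))))))
def witQ0_nbbabab : Tr := (.nd (.nd (.nd (.nd (.nd (.nd (.lf 0x0) (.lf 0xe79)) (.nd (.lf 0x52a) (.lf 0))) (.nd (.nd (.lf 0x0) (.lf 0)) (.nd (.lf 0x0) (.lf 0)))) (.nd (.nd (.nd (.lf 0x0) (.lf 0)) (.nd (.lf 0x17eb) (.lf 0))) (.nd (.nd (.lf 0x60e) (.lf 0)) (.nd (.lf 0x1b91) (.lf 0))))) (.nd (.nd (.nd (.nd (.lf 0x1a17) (.lf 0x18f1)) (.nd (.lf 0xd79) (.lf 0))) (.nd (.nd (.lf 0x1435) (.lf 0)) (.nd (.lf 0x67a) (.lf 0)))) (.nd (.nd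 (.nd (.lf 0xcd2) (.lf 0)) (.nd (.lf 0x1232) (.lf 0))) (.nd (.nd (.lf 0x0) (.lf 0)) (.nd (.lf 0x14d6) (.lf 0)))))) (.nd (.nd (.nd (.nd (.nd (.lf 0x0) (.lf 0x4bd)) (.nd (.lf 0x0) (.lf 0))) (.nd (.nd (.lf 0xe4d) (.lf 0)) (.nd (.lf 0x1d9d) (.lf 0)))) (.nd (.nd (.nd (.lf 0x0) (.lf 0)) (.nd (.lf 0x1d0f) (.lf 0))) (.nd (.nd (.lf 0xc37) (.lf 0)) (.nd (.lf 0x1cb3) (.lf 0))))) (.nd (.nd (.nd (.nd (.lf 0x0) (.lf 0x1db1)) (.nd (.lf 0xf1f) (.lf 0))) (.nd (.nd (.lf 0x15a7) (.lf 0)) (.nd (.lf 0x1b80) (.lf 0)))) (.nd (.nd (.nd (.lf 0x1cd) (.lf 0)) (.nd (.lf 0x67a) (.lf 0))) (.nd (.nd (.lf 0x11a9) (.lf 0)) (.nd (.lf 0x169) (.lf 0)))))))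
def witQ0_nbbabba : Tr := (.nd (.nd (.nd (.nd (.nd (.nd (.lf 0x0) (.lf 0x8a2)) (.nd (.lf 0x0) (.lf 0))) (.nd (.nd (.lf 0x0) (.lf 0)) (.nd (.lf 0x201) (.lf 0)))) (.nd (.nd (.nd (.lf 0x0) (.lf 0)) (.nd (.lf 0xcf9) (.lf 0))) (.nd (.nd (.lf 0x1b4a) (.lf 0)) (.nd (.lf 0x703) (.lf 0))))) (.nd (.nd (.nd (.nd (.lf 0x1e53) (.lf 0x89f)) (.nd (.lf 0x0) (.lf 0))) (.nd (.nd (.lf 0x1413) (.lf 0)) (.nd (.lf 0x0) (.lf 0)))) (.nd (.nd (.nd (.lf 0x45b) (.lf 0)) (.nd (.lf 0x0) (.lf 0))) (.nd (.nd (.lf 0x0) (.lf 0)) (.nd (.lf 0x1d83) (.lf 0)))))) (.nd (.nd (.nd (.nd (.nd (.lf 0x0) (.lf 0xa72)) (.nd (.lf 0x15f8) (.lf 0))) (.nd (.nd (.lf 0x0) (.lf 0)) (.nd (.lf 0x1120) (.lf 0)))) (.nd (.nd (.nd (.lf 0x0) (.lf 0)) (.nd (.lf 0xc2c) (.lf 0))) (.nd (.nd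 (.lf 0x1e60) (.lf 0)) (.nd (.lf 0x5c7) (.lf 0))))) (.nd (.nd (.nd (.nd (.lf 0x0) (.lf 0x1398)) (.nd (.lf 0xf78) (.lf 0))) (.nd (.nd (.lf 0x0) (.lf 0)) (.nd (.lf 0x1c4e) (.lf 0)))) (.nd (.nd (.nd (.lf 0x0) (.lf 0)) (.nd (.lf 0x1c58) (.lf 0))) (.nd (.nd (.lf 0x0) (.lf 0)) (.nd (.lf 0x1d63) (.lf 0)))))))
def witQ0_nbbabbb : Tr := (.nd (.nd (.nd (.nd (.nd (.nd (.lf 0x0) (.lf 0xdab)) (.nd (.lf 0x1938) (.lf 0))) (.nd (.nd (.lf 0x0) (.lf 0)) (.nd (.lf 0x1356) (.lf 0)))) (.nd (.nd (.nd (.lf 0x0) (.lf 0)) (.nd (.lf 0x123c) (.lf 0))) (.nd (.nd (.lf 0x0) (.lf 0)) (.nd (.lf 0x1437) (.lf 0))))) (.nd (.nd (.nd (.nd (.lf 0x1a96) (.lf 0x1bbc)) (.nd (.lf 0x1aca) (.lf 0))) (.nd (.nd (.lf 0x1160) (.lf 0)) (.nd (.lf 0x0) (.lf 0)))) (.nd (.nd (.nd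 (.lf 0x0) (.lf 0)) (.nd (.lf 0x11c4) (.lf 0))) (.nd (.nd (.lf 0x270) (.lf 0)) (.nd (.lf 0x13c5) (.lf 0)))))) (.nd (.nd (.nd (.nd (.nd (.lf 0x0) (.lf 0x18b1)) (.nd (.lf 0x75f) (.lf 0))) (.nd (.nd (.lf 0x0) (.lf 0)) (.nd (.lf 0x609) (.lf 0)))) (.nd (.nd (.nd (.lf 0xa08) (.lf 0)) (.nd (.lf 0xb91) (.lf 0))) (.nd (.nd (.lf 0x0) (.lf 0)) (.nd (.lf 0x816) (.lf 0))))) (.nd (.nd (.nd (.nd (.lf 0x0) (.lf 0xafb)) (.nd (.lf 0x15a0) (.lf 0))) (.nd (.nd (.lf 0x11ed) (.lf 0)) (.nd (.lf 0x1929) (.lf 0)))) (.nd (.nd (.nd (.lf 0x0) (.lf 0)) (.nd (.lf 0x993) (.lf 0))) (.nd (.nd (.lf 0xea3) (.lf 0)) (.nd (.lf 0x18f8) (.lf 0)))))))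
def witQ0_nbbbaaa : Tr := (.nd (.nd (.nd (.nd (.nd (.nd (.lf 0x0) (.lf 0x178b)) (.nd (.lf 0x0) (.lf 0))) (.nd (.nd (.lf 0x0) (.lf 0)) (.nd (.lf 0x1e02) (.lf 0)))) (.nd (.nd (.nd (.lf 0x0) (.lf 0)) (.nd (.lf 0x13d) (.lf 0))) (.nd (.nd (.lf 0x1c95) (.lf 0)) (.nd (.lf 0x524) (.lf 0))))) (.nd (.nd (.nd (.nd (.lf 0x0) (.lf 0x17e4)) (.nd (.lf 0x0) (.lf 0))) (.nd (.nd (.lf 0x14eb) (.lf 0)) (.nd (.lf 0x1d5c) (.lf 0)))) (.nd (.nd (.nd (.lf 0x3eb) (.lf 0)) (.nd (.lf 0x11a4) (.lf 0))) (.nd (.nd (.lf 0x11f7) (.lf 0)) (.nd (.lf 0x184e) (.lf 0)))))) (.nd (.nd (.nd (.nd (.nd (.lf 0x0) (.lf 0x1ba0)) (.nd (.lf 0x4d1) (.lf 0))) (.nd (.nd (.lf 0x1b6f) (.lf 0)) (.nd (.lf 0x169e) (.lf 0)))) (.nd (.nd (.nd (.lf 0x0) (.lf 0)) (.nd (.lf 0x0) (.lf 0)))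 (.nd (.nd (.lf 0x37a) (.lf 0)) (.nd (.lf 0x1843) (.lf 0))))) (.nd (.nd (.nd (.nd (.lf 0x0) (.lf 0xba8)) (.nd (.lf 0x0) (.lf 0))) (.nd (.nd (.lf 0x0) (.lf 0)) (.nd (.lf 0x1e16) (.lf 0)))) (.nd (.nd (.nd (.lf 0x1a9e) (.lf 0)) (.nd (.lf 0x189b) (.lf 0))) (.nd (.nd (.lf 0x0) (.lf 0)) (.nd (.lf 0xe73) (.lf 0)))))))
def witQ0_nbbbaab : Tr := (.nd (.nd (.nd (.nd (.nd (.nd (.lf 0x0) (.lf 0x198e)) (.nd (.lf 0x1b15) (.lf 0))) (.nd (.nd (.lf 0x0) (.lf 0)) (.nd (.lf 0x18f8) (.lf 0)))) (.nd (.nd (.nd (.lf 0x0) (.lf 0)) (.nd (.lf 0x1179) (.lf 0))) (.nd (.nd (.lf 0x0) (.lf 0)) (.nd (.lf 0x14fb) (.lf 0))))) (.nd (.nd (.nd (.nd (.lf 0x0) (.lf 0x108c)) (.nd (.lf 0x0) (.lf 0))) (.nd (.nd (.lf 0x0) (.lf 0)) (.nd (.lf 0x1318) (.lf 0)))) (.nd (.nd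 (.nd (.lf 0x0) (.lf 0)) (.nd (.lf 0x54d) (.lf 0))) (.nd (.nd (.lf 0x2d2) (.lf 0)) (.nd (.lf 0xd4c) (.lf 0)))))) (.nd (.nd (.nd (.nd (.nd (.lf 0x0) (.lf 0x146f)) (.nd (.lf 0x184d) (.lf 0))) (.nd (.nd (.lf 0x0) (.lf 0)) (.nd (.lf 0x2ff) (.lf 0)))) (.nd (.nd (.nd (.lf 0x0) (.lf 0)) (.nd (.lf 0x904) (.lf 0))) (.nd (.nd (.lf 0x1a06) (.lf 0)) (.nd (.lf 0x1e77) (.lf 0))))) (.nd (.nd (.nd (.nd (.lf 0x0) (.lf 0x87e)) (.nd (.lf 0x1acd) (.lf 0))) (.nd (.nd (.lf 0x0) (.lf 0)) (.nd (.lf 0x1b40) (.lf 0)))) (.nd (.nd (.nd (.lf 0x1c1a) (.lf 0)) (.nd (.lf 0xcd1) (.lf 0))) (.nd (.nd (.lf 0x62f) (.lf 0)) (.nd (.lf 0x1740) (.lf 0)))))))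
def witQ0_nbbbaba : Tr := (.nd (.nd (.nd (.nd (.nd (.nd (.lf 0x0) (.lf 0x351)) (.nd (.lf 0x173f) (.lf 0))) (.nd (.nd (.lf 0x0) (.lf 0)) (.nd (.lf 0x11d1) (.lf 0)))) (.nd (.nd (.nd (.lf 0x0) (.lf 0)) (.nd (.lf 0xc48) (.lf 0))) (.nd (.nd (.lf 0x0) (.lf 0)) (.nd (.lf 0x529) (.lf 0))))) (.nd (.nd (.nd (.nd (.lf 0x0) (.lf 0x1bbf)) (.nd (.lf 0x45e) (.lf 0))) (.nd (.nd (.lf 0x1402) (.lf 0)) (.nd (.lf 0x0) (.lf 0)))) (.nd (.nd (.nd (.lf 0x0) (.lf 0)) (.nd (.lf 0x109f) (.lf 0))) (.nd (.nd (.lf 0x0) (.lf 0)) (.nd (.lf 0x609) (.lf 0)))))) (.nd (.nd (.nd (.nd (.nd (.lf 0x0) (.lf 0x8b1)) (.nd (.lf 0x11b2) (.lf 0))) (.nd (.nd (.lf 0xe6c) (.lf 0)) (.nd (.lf 0x9bf) (.lf 0)))) (.nd (.nd (.nd (.lf 0x0) (.lf 0)) (.nd (.lf 0x1704) (.lf 0))) (.nd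 (.nd (.lf 0x98c) (.lf 0)) (.nd (.lf 0xa37) (.lf 0))))) (.nd (.nd (.nd (.nd (.lf 0x0) (.lf 0x524)) (.nd (.lf 0x13c9) (.lf 0))) (.nd (.nd (.lf 0x0) (.lf 0)) (.nd (.lf 0xe5) (.lf 0)))) (.nd (.nd (.nd (.lf 0x1948) (.lf 0)) (.nd (.lf 0xb9a) (.lf 0))) (.nd (.nd (.lf 0x0) (.lf 0)) (.nd (.lf 0x9e1) (.lf 0)))))))
def witQ0_nbbbabb : Tr := (.nd (.nd (.nd (.nd (.nd (.nd (.lf 0x1c6d) (.lf 0x197c)) (.nd (.lf 0x0) (.lf 0))) (.nd (.nd (.lf 0x0) (.lf 0)) (.nd (.lf 0x0) (.lf 0)))) (.nd (.nd (.nd (.lf 0x0) (.lf 0)) (.nd (.lf 0x1a82) (.lf 0))) (.nd (.nd (.lf 0x1975) (.lf 0)) (.nd (.lf 0x1e1c) (.lf 0))))) (.nd (.nd (.nd (.nd (.lf 0x0) (.lf 0x9a)) (.nd (.lf 0xf1a) (.lf 0))) (.nd (.nd (.lf 0xefe) (.lf 0)) (.nd (.lf 0x795) (.lf 0)))) (.nd (.nd (.nd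 (.lf 0x1423) (.lf 0)) (.nd (.lf 0xbd4) (.lf 0))) (.nd (.nd (.lf 0x19c7) (.lf 0)) (.nd (.lf 0x176e) (.lf 0)))))) (.nd (.nd (.nd (.nd (.nd (.lf 0x0) (.lf 0x1382)) (.nd (.lf 0x0) (.lf 0))) (.nd (.nd (.lf 0x0) (.lf 0)) (.nd (.lf 0x539) (.lf 0)))) (.nd (.nd (.nd (.lf 0x0) (.lf 0)) (.nd (.lf 0x5c) (.lf 0))) (.nd (.nd (.lf 0x1d9) (.lf 0)) (.nd (.lf 0x1288) (.lf 0))))) (.nd (.nd (.nd (.nd (.lf 0x1c73) (.lf 0x1e25)) (.nd (.lf 0x140d) (.lf 0))) (.nd (.nd (.lf 0x0) (.lf 0)) (.nd (.lf 0x1e6f) (.lf 0)))) (.nd (.nd (.nd (.lf 0x0) (.lf 0)) (.nd (.lf 0x61) (.lf 0))) (.nd (.nd (.lf 0xf5f) (.lf 0)) (.nd (.lf 0x942) (.lf 0)))))))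
def witQ0_nbbbbaa : Tr := (.nd (.nd (.nd (.nd (.nd (.nd (.lf 0x0) (.lf 0x0)) (.nd (.lf 0xe01) (.lf 0))) (.nd (.nd (.lf 0x0) (.lf 0)) (.nd (.lf 0x11d8) (.lf 0)))) (.nd (.nd (.nd (.lf 0x0) (.lf 0)) (.nd (.lf 0x0) (.lf 0))) (.nd (.nd (.lf 0x0) (.lf 0)) (.nd (.lf 0xe11) (.lf 0))))) (.nd (.nd (.nd (.nd (.lf 0x0) (.lf 0x22a)) (.nd (.lf 0x22e) (.lf 0))) (.nd (.nd (.lf 0x1640) (.lf 0)) (.nd (.lf 0xe0b) (.lf 0)))) (.nd (.nd (.nd (.lf 0x0) (.lf 0)) (.nd (.lf 0x1abd) (.lf 0))) (.nd (.nd (.lf 0x17dd) (.lf 0)) (.nd (.lf 0x109e) (.lf 0)))))) (.nd (.nd (.nd (.nd (.nd (.lf 0x0) (.lf 0x908)) (.nd (.lf 0x1803) (.lf 0))) (.nd (.nd (.lf 0x0) (.lf 0)) (.nd (.lf 0x0) (.lf 0)))) (.nd (.nd (.nd (.lf 0x17ca) (.lf 0)) (.nd (.lf 0x0) (.lf 0))) (.nd (.nd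 (.lf 0x223) (.lf 0)) (.nd (.lf 0xbf6) (.lf 0))))) (.nd (.nd (.nd (.nd (.lf 0x0) (.lf 0xbf8)) (.nd (.lf 0x123) (.lf 0))) (.nd (.nd (.lf 0xc11) (.lf 0)) (.nd (.lf 0x406) (.lf 0)))) (.nd (.nd (.nd (.lf 0x0) (.lf 0)) (.nd (.lf 0x680) (.lf 0))) (.nd (.nd (.lf 0x165f) (.lf 0)) (.nd (.lf 0xb67) (.lf 0)))))))
def witQ0_nbbbbab : Tr := (.nd (.nd (.nd (.nd (.nd (.nd (.lf 0x0) (.lf 0x1b90)) (.nd (.lf 0x0) (.lf 0))) (.nd (.nd (.lf 0x9a4) (.lf 0)) (.nd (.lf 0x8c) (.lf 0)))) (.nd (.nd (.nd (.lf 0x0) (.lf 0)) (.nd (.lf 0x15ac) (.lf 0))) (.nd (.nd (.lf 0xa5e) (.lf 0)) (.nd (.lf 0x492) (.lf 0))))) (.nd (.nd (.nd (.nd (.lf 0x0) (.lf 0x1c48)) (.nd (.lf 0x19ef) (.lf 0))) (.nd (.nd (.lf 0x2b9) (.lf 0)) (.nd (.lf 0x115b) (.lf 0)))) (.nd (.nd (.nd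 (.lf 0x0) (.lf 0)) (.nd (.lf 0xd47) (.lf 0))) (.nd (.nd (.lf 0x56b) (.lf 0)) (.nd (.lf 0x1073) (.lf 0)))))) (.nd (.nd (.nd (.nd (.nd (.lf 0x0) (.lf 0xd18)) (.nd (.lf 0x0) (.lf 0))) (.nd (.nd (.lf 0xfe6) (.lf 0)) (.nd (.lf 0xd4d) (.lf 0)))) (.nd (.nd (.nd (.lf 0x0) (.lf 0)) (.nd (.lf 0x0) (.lf 0))) (.nd (.nd (.lf 0x1321) (.lf 0)) (.nd (.lf 0xc1f) (.lf 0))))) (.nd (.nd (.nd (.nd (.lf 0x0) (.lf 0x99c)) (.nd (.lf 0x1e1d) (.lf 0))) (.nd (.nd (.lf 0x132f) (.lf 0)) (.nd (.lf 0x179e) (.lf 0)))) (.nd (.nd (.nd (.lf 0x421) (.lf 0)) (.nd (.lf 0x975) (.lf 0))) (.nd (.nd (.lf 0x2ee) (.lf 0)) (.nd (.lf 0xc9) (.lf 0)))))))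
def witQ0_nbbbbba : Tr := (.nd (.nd (.nd (.nd (.nd (.nd (.lf 0x0) (.lf 0x1b4d)) (.nd (.lf 0x1428) (.lf 0))) (.nd (.nd (.lf 0x0) (.lf 0)) (.nd (.lf 0x1e22) (.lf 0)))) (.nd (.nd (.nd (.lf 0x0) (.lf 0)) (.nd (.lf 0x1373) (.lf 0))) (.nd (.nd (.lf 0x274) (.lf 0)) (.nd (.lf 0x14cc) (.lf 0))))) (.nd (.nd (.nd (.nd (.lf 0x0) (.lf 0x192b)) (.nd (.lf 0x603) (.lf 0))) (.nd (.nd (.lf 0x10c9) (.lf 0)) (.nd (.lf 0x152c) (.lf 0)))) (.nd (.nd (.nd (.lf 0x1418) (.lf 0)) (.nd (.lf 0x9f4) (.lf 0))) (.nd (.nd (.lf 0x20d) (.lf 0)) (.nd (.lf 0x1a10) (.lf 0)))))) (.nd (.nd (.nd (.nd (.nd (.lf 0x0) (.lf 0x10a8)) (.nd (.lf 0x0) (.lf 0))) (.nd (.nd (.lf 0x191a) (.lf 0)) (.nd (.lf 0x27b) (.lf 0)))) (.nd (.nd (.nd (.lf 0x0) (.lf 0)) (.nd (.lf 0x0) (.lf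 0))) (.nd (.nd (.lf 0x29d) (.lf 0)) (.nd (.lf 0x38a) (.lf 0))))) (.nd (.nd (.nd (.nd (.lf 0x0) (.lf 0xcca)) (.nd (.lf 0x0) (.lf 0))) (.nd (.nd (.lf 0x1003) (.lf 0)) (.nd (.lf 0xa4c) (.lf 0)))) (.nd (.nd (.nd (.lf 0x0) (.lf 0)) (.nd (.lf 0x101f) (.lf 0))) (.nd (.nd (.lf 0x4cb) (.lf 0)) (.nd (.lf 0xc0d) (.lf 0)))))))
def witQ0_nbbbbbb : Tr := (.nd (.nd (.nd (.nd (.nd (.nd (.lf 0x0) (.lf 0xdd1)) (.nd (.lf 0xbc7) (.lf 0))) (.nd (.nd (.lf 0x0) (.lf 0)) (.nd (.lf 0x1c8a) (.lf 0)))) (.nd (.nd (.nd (.lf 0x0) (.lf 0)) (.nd (.lf 0x1a4f) (.lf 0))) (.nd (.nd (.lf 0x1231) (.lf 0)) (.nd (.lf 0x77f) (.lf 0))))) (.nd (.nd (.nd (.nd (.lf 0x0) (.lf 0xd5f)) (.nd (.lf 0x7ee) (.lf 0))) (.nd (.nd (.lf 0x1d94) (.lf 0)) (.nd (.lf 0x1e64) (.lf 0))))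 (.nd (.nd (.nd (.lf 0x1249) (.lf 0)) (.nd (.lf 0xf04) (.lf 0))) (.nd (.nd (.lf 0x0) (.lf 0)) (.nd (.lf 0x1557) (.lf 0)))))) (.nd (.nd (.nd (.nd (.nd (.lf 0x0) (.lf 0x2c3)) (.nd (.lf 0xe36) (.lf 0))) (.nd (.nd (.lf 0x0) (.lf 0)) (.nd (.lf 0xb89) (.lf 0)))) (.nd (.nd (.nd (.lf 0x0) (.lf 0)) (.nd (.lf 0x0) (.lf 0))) (.nd (.nd (.lf 0xee5) (.lf 0)) (.nd (.lf 0xaa6) (.lf 0))))) (.nd (.nd (.nd (.nd (.lf 0x0) (.lf 0xc03)) (.nd (.lf 0xa70) (.lf 0))) (.nd (.nd (.lf 0x0) (.lf 0)) (.nd (.lf 0x1e2a) (.lf 0)))) (.nd (.nd (.nd (.lf 0x0) (.lf 0)) (.nd (.lf 0x1af) (.lf 0))) (.nd (.nd (.lf 0x0) (.lf 0)) (.nd (.lf 0x2af) (.lf 0)))))))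
def witQ0 : Tr := (.nd (.nd (.nd (.nd (.nd (.nd witQ0_naaaaaa witQ0_naaaaab) (.nd witQ0_naaaaba witQ0_naaaabb)) (.nd (.nd witQ0_naaabaa witQ0_naaabab) (.nd witQ0_naaabba witQ0_naaabbb))) (.nd (.nd (.nd witQ0_naabaaa witQ0_naabaab) (.nd witQ0_naababa witQ0_naababb)) (.nd (.nd witQ0_naabbaa witQ0_naabbab) (.nd witQ0_naabbba witQ0_naabbbb)))) (.nd (.nd (.nd (.nd witQ0_nabaaaa witQ0_nabaaab) (.nd witQ0_nabaaba witQ0_nabaabb)) (.nd (.nd witQ0_nababaa witQ0_nababab) (.nd witQ0_nababba witQ0_nababbb))) (.nd (.nd (.nd witQ0_nabbaaa witQ0_nabbaab) (.nd witQ0_nabbaba witQ0_nabbabb)) (.nd (.nd witQ0_nabbbaa witQ0_nabbbab) (.nd witQ0_nabbbba witQ0_nabbbbb))))) (.nd (.nd (.nd (.nd (.nd witQ0_nbaaaaa witQ0_nbaaaab) (.nd witQ0_nbaaaba witQ0_nbaaabb))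 (.nd (.nd witQ0_nbaabaa witQ0_nbaabab) (.nd witQ0_nbaabba witQ0_nbaabbb))) (.nd (.nd (.nd witQ0_nbabaaa witQ0_nbabaab) (.nd witQ0_nbababa witQ0_nbababb)) (.nd (.nd witQ0_nbabbaa witQ0_nbabbab) (.nd witQ0_nbabbba witQ0_nbabbbb)))) (.nd (.nd (.nd (.nd witQ0_nbbaaaa witQ0_nbbaaab) (.nd witQ0_nbbaaba witQ0_nbbaabb)) (.nd (.nd witQ0_nbbabaa witQ0_nbbabab) (.nd witQ0_nbbabba witQ0_nbbabbb))) (.nd (.nd (.nd witQ0_nbbbaaa witQ0_nbbbaab) (.nd witQ0_nbbbaba witQ0_nbbbabb)) (.nd (.nd witQ0_nbbbbaa witQ0_nbbbbab) (.nd witQ0_nbbbbba witQ0_nbbbbbb))))))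
def tabQ1_naaaaaa : Tr := (.nd (.nd (.nd (.nd (.nd (.nd (.lf 0x2) (.lf 0x50a)) (.nd (.lf 0x1de) (.lf 0))) (.nd (.nd (.lf 0x9c) (.lf 0)) (.nd (.lf 0x88d) (.lf 0)))) (.nd (.nd (.nd (.lf 0xcc) (.lf 0)) (.nd (.lf 0x77e) (.lf 0))) (.nd (.nd (.lf 0x647) (.lf 0)) (.nd (.lf 0x415) (.lf 0))))) (.nd (.nd (.nd (.nd (.lf 0x8b) (.lf 0x443)) (.nd (.lf 0x7be) (.lf 0))) (.nd (.nd (.lf 0x1c9) (.lf 0)) (.nd (.lf 0x7e3) (.lf 0)))) (.nd (.nd (.nd (.lf 0x3c5) (.lf 0)) (.nd (.lf 0x4a6) (.lf 0))) (.nd (.nd (.lf 0x3c) (.lf 0)) (.nd (.lf 0x35a) (.lf 0)))))) (.nd (.nd (.nd (.nd (.nd (.lf 0xba) (.lf 0x86c)) (.nd (.lf 0x5b8) (.lf 0))) (.nd (.nd (.lf 0x532) (.lf 0)) (.nd (.lf 0x6e5) (.lf 0)))) (.nd (.nd (.nd (.lf 0x33b) (.lf 0)) (.nd (.lf 0x83a) (.lf 0)))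 (.nd (.nd (.lf 0x127) (.lf 0)) (.nd (.lf 0x83e) (.lf 0))))) (.nd (.nd (.nd (.nd (.lf 0x20d) (.lf 0x8de)) (.nd (.lf 0x430) (.lf 0))) (.nd (.nd (.lf 0x2f0) (.lf 0)) (.nd (.lf 0x753) (.lf 0)))) (.nd (.nd (.nd (.lf 0x44a) (.lf 0)) (.nd (.lf 0x308) (.lf 0))) (.nd (.nd (.lf 0x721) (.lf 0)) (.nd (.lf 0x469) (.lf 0)))))))
def tabQ1_naaaaab : Tr := (.nd (.nd (.nd (.nd (.nd (.nd (.lf 0x60) (.lf 0x6fb)) (.nd (.lf 0x518) (.lf 0))) (.nd (.nd (.lf 0x4fc) (.lf 0)) (.nd (.lf 0xfb) (.lf 0)))) (.nd (.nd (.nd (.lf 0x1e3) (.lf 0)) (.nd (.lf 0xd1) (.lf 0))) (.nd (.nd (.lf 0x47f) (.lf 0)) (.nd (.lf 0x540) (.lf 0))))) (.nd (.nd (.nd (.nd (.lf 0x1bc) (.lf 0x802)) (.nd (.lf 0x506) (.lf 0))) (.nd (.nd (.lf 0x5ce) (.lf 0)) (.nd (.lf 0x6ec) (.lf 0))))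 (.nd (.nd (.nd (.lf 0x40a) (.lf 0)) (.nd (.lf 0x486) (.lf 0))) (.nd (.nd (.lf 0xa5) (.lf 0)) (.nd (.lf 0x7fa) (.lf 0)))))) (.nd (.nd (.nd (.nd (.nd (.lf 0x112) (.lf 0x759)) (.nd (.lf 0x7aa) (.lf 0))) (.nd (.nd (.lf 0x562) (.lf 0)) (.nd (.lf 0x46d) (.lf 0)))) (.nd (.nd (.nd (.lf 0x24) (.lf 0)) (.nd (.lf 0x81b) (.lf 0))) (.nd (.nd (.lf 0xab) (.lf 0)) (.nd (.lf 0x719) (.lf 0))))) (.nd (.nd (.nd (.nd (.lf 0x219) (.lf 0x76c)) (.nd (.lf 0x573) (.lf 0))) (.nd (.nd (.lf 0x621) (.lf 0)) (.nd (.lf 0x3e) (.lf 0)))) (.nd (.nd (.nd (.lf 0xa1) (.lf 0)) (.nd (.lf 0x843) (.lf 0))) (.nd (.nd (.lf 0x4e5) (.lf 0)) (.nd (.lf 0x172) (.lf 0)))))))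
def tabQ1_naaaaba : Tr := (.nd (.nd (.nd (.nd (.nd (.nd (.lf 0x32) (.lf 0x523)) (.nd (.lf 0x762) (.lf 0))) (.nd (.nd (.lf 0x4dc) (.lf 0)) (.nd (.lf 0x657) (.lf 0)))) (.nd (.nd (.nd (.lf 0x2d1) (.lf 0)) (.nd (.lf 0x414) (.lf 0))) (.nd (.nd (.lf 0x374) (.lf 0)) (.nd (.lf 0x77f) (.lf 0))))) (.nd (.nd (.nd (.nd (.lf 0x18f) (.lf 0x272)) (.nd (.lf 0x7cc) (.lf 0))) (.nd (.nd (.lf 0x22c) (.lf 0)) (.nd (.lf 0x85c) (.lf 0)))) (.nd (.nd (.nd (.lf 0x3eb) (.lf 0)) (.nd (.lf 0x3ed) (.lf 0))) (.nd (.nd (.lf 0x2cb) (.lf 0)) (.nd (.lf 0x3ac) (.lf 0)))))) (.nd (.nd (.nd (.nd (.nd (.lf 0xe6) (.lf 0x8b8)) (.nd (.lf 0x7a1) (.lf 0))) (.nd (.nd (.lf 0x103) (.lf 0)) (.nd (.lf 0x35b) (.lf 0)))) (.nd (.nd (.nd (.lf 0x35d) (.lf 0)) (.nd (.lf 0x83d) (.lf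 0))) (.nd (.nd (.lf 0x4c0) (.lf 0)) (.nd (.lf 0x7a0) (.lf 0))))) (.nd (.nd (.nd (.nd (.lf 0x233) (.lf 0x267)) (.nd (.lf 0x3a) (.lf 0))) (.nd (.nd (.lf 0x509) (.lf 0)) (.nd (.lf 0x852) (.lf 0)))) (.nd (.nd (.nd (.lf 0x465) (.lf 0)) (.nd (.lf 0x85e) (.lf 0))) (.nd (.nd (.lf 0x72e) (.lf 0)) (.nd (.lf 0x297) (.lf 0)))))))
def tabQ1_naaaabb : Tr := (.nd (.nd (.nd (.nd (.nd (.nd (.lf 0x8f) (.lf 0x8bf)) (.nd (.lf 0x27e) (.lf 0))) (.nd (.nd (.lf 0x3fc) (.lf 0)) (.nd (.lf 0x2bf) (.lf 0)))) (.nd (.nd (.nd (.lf 0x154) (.lf 0)) (.nd (.lf 0x6de) (.lf 0))) (.nd (.nd (.lf 0x68c) (.lf 0)) (.nd (.lf 0x5e8) (.lf 0))))) (.nd (.nd (.nd (.nd (.lf 0x1e5) (.lf 0x6c1)) (.nd (.lf 0x50) (.lf 0))) (.nd (.nd (.lf 0x5e1) (.lf 0)) (.nd (.lf 0x61) (.lf 0))))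 (.nd (.nd (.nd (.lf 0x42a) (.lf 0)) (.nd (.lf 0x11a) (.lf 0))) (.nd (.nd (.lf 0x715) (.lf 0)) (.nd (.lf 0x8d7) (.lf 0)))))) (.nd (.nd (.nd (.nd (.nd (.lf 0x13d) (.lf 0x499)) (.nd (.lf 0x64d) (.lf 0))) (.nd (.nd (.lf 0x57d) (.lf 0)) (.nd (.lf 0x572) (.lf 0)))) (.nd (.nd (.nd (.lf 0x3a7) (.lf 0)) (.nd (.lf 0x18c) (.lf 0))) (.nd (.nd (.lf 0x51) (.lf 0)) (.nd (.lf 0x589) (.lf 0))))) (.nd (.nd (.nd (.nd (.lf 0xdb) (.lf 0x1cf)) (.nd (.lf 0x5ad) (.lf 0))) (.nd (.nd (.lf 0x631) (.lf 0)) (.nd (.lf 0x4e4) (.lf 0)))) (.nd (.nd (.nd (.lf 0x49e) (.lf 0)) (.nd (.lf 0x602) (.lf 0))) (.nd (.nd (.lf 0x1d1) (.lf 0)) (.nd (.lf 0x15b) (.lf 0)))))))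
def tabQ1_naaabaa : Tr := (.nd (.nd (.nd (.nd (.nd (.nd (.lf 0x1a) (.lf 0x8ca)) (.nd (.lf 0x25d) (.lf 0))) (.nd (.nd (.lf 0x431) (.lf 0)) (.nd (.lf 0x2ed) (.lf 0)))) (.nd (.nd (.nd (.lf 0x2bc) (.lf 0)) (.nd (.lf 0x21b) (.lf 0))) (.nd (.nd (.lf 0x652) (.lf 0)) (.nd (.lf 0x8bb) (.lf 0))))) (.nd (.nd (.nd (.nd (.lf 0x17d) (.lf 0x691)) (.nd (.lf 0x79b) (.lf 0))) (.nd (.nd (.lf 0x5ab) (.lf 0)) (.nd (.lf 0x833) (.lf 0)))) (.nd (.nd (.nd (.lf 0x3d8) (.lf 0)) (.nd (.lf 0x867) (.lf 0))) (.nd (.nd (.lf 0x6ee) (.lf 0)) (.nd (.lf 0x66f) (.lf 0)))))) (.nd (.nd (.nd (.nd (.nd (.lf 0xd0) (.lf 0x275)) (.nd (.lf 0x4ca) (.lf 0))) (.nd (.nd (.lf 0x53d) (.lf 0)) (.nd (.lf 0x863) (.lf 0)))) (.nd (.nd (.nd (.lf 0x34d) (.lf 0)) (.nd (.lf 0x639) (.lf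 0))) (.nd (.nd (.lf 0x6a7) (.lf 0)) (.nd (.lf 0x113) (.lf 0))))) (.nd (.nd (.nd (.nd (.lf 0x16d) (.lf 0x1b2)) (.nd (.lf 0x7f4) (.lf 0))) (.nd (.nd (.lf 0x32c) (.lf 0)) (.nd (.lf 0x55b) (.lf 0)))) (.nd (.nd (.nd (.lf 0x455) (.lf 0)) (.nd (.lf 0x7e4) (.lf 0))) (.nd (.nd (.lf 0x6f1) (.lf 0)) (.nd (.lf 0x4f1) (.lf 0)))))))
def tabQ1_naaabab : Tr := (.nd (.nd (.nd (.nd (.nd (.nd (.lf 0x78) (.lf 0x8aa)) (.nd (.lf 0x780) (.lf 0))) (.nd (.nd (.lf 0x3e4) (.lf 0)) (.nd (.lf 0x375) (.lf 0)))) (.nd (.nd (.nd (.lf 0x307) (.lf 0)) (.nd (.lf 0x831) (.lf 0))) (.nd (.nd (.lf 0x54f) (.lf 0)) (.nd (.lf 0x402) (.lf 0))))) (.nd (.nd (.nd (.nd (.lf 0x1d3) (.lf 0x271)) (.nd (.lf 0x342) (.lf 0))) (.nd (.nd (.lf 0x5d5) (.lf 0)) (.nd (.lf 0x44d) (.lf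 0)))) (.nd (.nd (.nd (.lf 0x418) (.lf 0)) (.nd (.lf 0x73b) (.lf 0))) (.nd (.nd (.lf 0x4d8) (.lf 0)) (.nd (.lf 0x59c) (.lf 0)))))) (.nd (.nd (.nd (.nd (.nd (.lf 0x125) (.lf 0x4ef)) (.nd (.lf 0x7ae) (.lf 0))) (.nd (.nd (.lf 0x56f) (.lf 0)) (.nd (.lf 0x8b2) (.lf 0)))) (.nd (.nd (.nd (.lf 0x397) (.lf 0)) (.nd (.lf 0x63c) (.lf 0))) (.nd (.nd (.lf 0x6c8) (.lf 0)) (.nd (.lf 0x5ac) (.lf 0))))) (.nd (.nd (.nd (.nd (.lf 0x130) (.lf 0x744)) (.nd (.lf 0x120) (.lf 0))) (.nd (.nd (.lf 0x611) (.lf 0)) (.nd (.lf 0x8b5) (.lf 0)))) (.nd (.nd (.nd (.lf 0x1af) (.lf 0)) (.nd (.lf 0x761) (.lf 0))) (.nd (.nd (.lf 0x70a) (.lf 0)) (.nd (.lf 0x82e) (.lf 0)))))))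
def tabQ1_naaabba : Tr := (.nd (.nd (.nd (.nd (.nd (.nd (.lf 0x49) (.lf 0x897)) (.nd (.lf 0x731) (.lf 0))) (.nd (.nd (.lf 0x3f5) (.lf 0)) (.nd (.lf 0x588) (.lf 0)))) (.nd (.nd (.nd (.lf 0x293) (.lf 0)) (.nd (.lf 0x707) (.lf 0))) (.nd (.nd (.lf 0x190) (.lf 0)) (.nd (.lf 0x49f) (.lf 0))))) (.nd (.nd (.nd (.nd (.lf 0x1a6) (.lf 0x749)) (.nd (.lf 0x538) (.lf 0))) (.nd (.nd (.lf 0x5c3) (.lf 0)) (.nd (.lf 0x200) (.lf 0)))) (.nd (.nd (.nd (.lf 0x33c) (.lf 0)) (.nd (.lf 0x694) (.lf 0))) (.nd (.nd (.lf 0x30d) (.lf 0)) (.nd (.lf 0x20c) (.lf 0)))))) (.nd (.nd (.nd (.nd (.nd (.lf 0xfc) (.lf 0x5ed)) (.nd (.lf 0x6dd) (.lf 0))) (.nd (.nd (.lf 0x555) (.lf 0)) (.nd (.lf 0x250) (.lf 0)))) (.nd (.nd (.nd (.lf 0x36f) (.lf 0)) (.nd (.lf 0x590) (.lf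 0))) (.nd (.nd (.lf 0x262) (.lf 0)) (.nd (.lf 0x40e) (.lf 0))))) (.nd (.nd (.nd (.nd (.lf 0x248) (.lf 0x7f3)) (.nd (.lf 0x765) (.lf 0))) (.nd (.nd (.lf 0x3ce) (.lf 0)) (.nd (.lf 0x1f8) (.lf 0)))) (.nd (.nd (.nd (.lf 0x474) (.lf 0)) (.nd (.lf 0x658) (.lf 0))) (.nd (.nd (.lf 0x738) (.lf 0)) (.nd (.lf 0x695) (.lf 0)))))))
def tabQ1_naaabbb : Tr := (.nd (.nd (.nd (.nd (.nd (.nd (.lf 0xa3) (.lf 0x356)) (.nd (.lf 0x78e) (.lf 0))) (.nd (.nd (.lf 0x4fa) (.lf 0)) (.nd (.lf 0x3c6) (.lf 0)))) (.nd (.nd (.nd (.lf 0x174) (.lf 0)) (.nd (.lf 0x7db) (.lf 0))) (.nd (.nd (.lf 0x6e) (.lf 0)) (.nd (.lf 0x155) (.lf 0))))) (.nd (.nd (.nd (.nd (.lf 0x1f9) (.lf 0x835)) (.nd (.lf 0x136) (.lf 0))) (.nd (.nd (.lf 0x5d8) (.lf 0)) (.nd (.lf 0x3be) (.lf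 0)))) (.nd (.nd (.nd (.lf 0x43a) (.lf 0)) (.nd (.lf 0x27d) (.lf 0))) (.nd (.nd (.lf 0x23b) (.lf 0)) (.nd (.lf 0x4c9) (.lf 0)))))) (.nd (.nd (.nd (.nd (.nd (.lf 0x153) (.lf 0x8e0)) (.nd (.lf 0x7bc) (.lf 0))) (.nd (.nd (.lf 0x32a) (.lf 0)) (.nd (.lf 0x6a) (.lf 0)))) (.nd (.nd (.nd (.lf 0x3b5) (.lf 0)) (.nd (.lf 0x7ef) (.lf 0))) (.nd (.nd (.lf 0x673) (.lf 0)) (.nd (.lf 0x740) (.lf 0))))) (.nd (.nd (.nd (.nd (.lf 0x1ee) (.lf 0x5f4)) (.nd (.lf 0x7e5) (.lf 0))) (.nd (.nd (.lf 0x63e) (.lf 0)) (.nd (.lf 0x82f) (.lf 0)))) (.nd (.nd (.nd (.lf 0x483) (.lf 0)) (.nd (.lf 0x79f) (.lf 0))) (.nd (.nd (.lf 0x206) (.lf 0)) (.nd (.lf 0x1eb) (.lf 0)))))))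
def tabQ1_naabaaa : Tr := (.nd (.nd (.nd (.nd (.nd (.nd (.lf 0xe) (.lf 0xe5)) (.nd (.lf 0x123) (.lf 0))) (.nd (.nd (.lf 0x299) (.lf 0)) (.nd (.lf 0x3f2) (.lf 0)))) (.nd (.nd (.nd (.lf 0x2b1) (.lf 0)) (.nd (.lf 0x2fa) (.lf 0))) (.nd (.nd (.lf 0x64e) (.lf 0)) (.nd (.lf 0x10) (.lf 0))))) (.nd (.nd (.nd (.nd (.lf 0x173) (.lf 0x73f)) (.nd (.lf 0x7a6) (.lf 0))) (.nd (.nd (.lf 0x5a3) (.lf 0)) (.nd (.lf 0x8ba) (.lf 0)))) (.nd (.nd (.nd (.lf 0x3cf) (.lf 0)) (.nd (.lf 0x847) (.lf 0))) (.nd (.nd (.lf 0x1df) (.lf 0)) (.nd (.lf 0x610) (.lf 0)))))) (.nd (.nd (.nd (.nd (.nd (.lf 0xc6) (.lf 0x531)) (.nd (.lf 0x62e) (.lf 0))) (.nd (.nd (.lf 0x4a0) (.lf 0)) (.nd (.lf 0x874) (.lf 0)))) (.nd (.nd (.nd (.lf 0x345) (.lf 0)) (.nd (.lf 0x788) (.lf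 0))) (.nd (.nd (.lf 0x1c6) (.lf 0)) (.nd (.lf 0x789) (.lf 0))))) (.nd (.nd (.nd (.nd (.lf 0x142) (.lf 0x5df)) (.nd (.lf 0x746) (.lf 0))) (.nd (.nd (.lf 0x5e4) (.lf 0)) (.nd (.lf 0x36e) (.lf 0)))) (.nd (.nd (.nd (.lf 0x44e) (.lf 0)) (.nd (.lf 0x755) (.lf 0))) (.nd (.nd (.lf 0x724) (.lf 0)) (.nd (.lf 0x862) (.lf 0)))))))
def tabQ1_naabaab : Tr := (.nd (.nd (.nd (.nd (.nd (.nd (.lf 0x6c) (.lf 0x51a)) (.nd (.lf 0x292) (.lf 0))) (.nd (.nd (.lf 0x503) (.lf 0)) (.nd (.lf 0x89a) (.lf 0)))) (.nd (.nd (.nd (.lf 0x2fe) (.lf 0)) (.nd (.lf 0x82d) (.lf 0))) (.nd (.nd (.lf 0x67b) (.lf 0)) (.nd (.lf 0x75e) (.lf 0))))) (.nd (.nd (.nd (.nd (.lf 0x1c8) (.lf 0x8f6)) (.nd (.lf 0x7de) (.lf 0))) (.nd (.nd (.lf 0x1e) (.lf 0)) (.nd (.lf 0x406) (.lf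 0)))) (.nd (.nd (.nd (.lf 0x412) (.lf 0)) (.nd (.lf 0x865) (.lf 0))) (.nd (.nd (.lf 0x709) (.lf 0)) (.nd (.lf 0x2c8) (.lf 0)))))) (.nd (.nd (.nd (.nd (.nd (.lf 0x119) (.lf 0x389)) (.nd (.lf 0x745) (.lf 0))) (.nd (.nd (.lf 0x568) (.lf 0)) (.nd (.lf 0x6d6) (.lf 0)))) (.nd (.nd (.nd (.lf 0x38d) (.lf 0)) (.nd (.lf 0x365) (.lf 0))) (.nd (.nd (.lf 0x6c5) (.lf 0)) (.nd (.lf 0x702) (.lf 0))))) (.nd (.nd (.nd (.nd (.lf 0x263) (.lf 0x87a)) (.nd (.lf 0x803) (.lf 0))) (.nd (.nd (.lf 0x53b) (.lf 0)) (.nd (.lf 0x25f) (.lf 0)))) (.nd (.nd (.nd (.lf 0x310) (.lf 0)) (.nd (.lf 0x7dc) (.lf 0))) (.nd (.nd (.lf 0x189) (.lf 0)) (.nd (.lf 0x17e) (.lf 0)))))))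
def tabQ1_naababa : Tr := (.nd (.nd (.nd (.nd (.nd (.nd (.lf 0x3d) (.lf 0x7c6)) (.nd (.lf 0x767) (.lf 0))) (.nd (.nd (.lf 0x4e3) (.lf 0)) (.nd (.lf 0x6e7) (.lf 0)))) (.nd (.nd (.nd (.lf 0x2dd) (.lf 0)) (.nd (.lf 0x319) (.lf 0))) (.nd (.nd (.lf 0x667) (.lf 0)) (.nd (.lf 0x100) (.lf 0))))) (.nd (.nd (.nd (.nd (.lf 0x19b) (.lf 0x264)) (.nd (.lf 0x720) (.lf 0))) (.nd (.nd (.lf 0x4bf) (.lf 0)) (.nd (.lf 0x5f6) (.lf 0)))) (.nd (.nd (.nd (.lf 0x3f3) (.lf 0)) (.nd (.lf 0x6fd) (.lf 0))) (.nd (.nd (.lf 0x13f) (.lf 0)) (.nd (.lf 0x2f8) (.lf 0)))))) (.nd (.nd (.nd (.nd (.nd (.lf 0xf0) (.lf 0x864)) (.nd (.lf 0x6b1) (.lf 0))) (.nd (.nd (.lf 0x193) (.lf 0)) (.nd (.lf 0x3b4) (.lf 0)))) (.nd (.nd (.nd (.lf 0x368) (.lf 0)) (.nd (.lf 0x592) (.lf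 0))) (.nd (.nd (.lf 0x19d) (.lf 0)) (.nd (.lf 0x858) (.lf 0))))) (.nd (.nd (.nd (.nd (.lf 0x23c) (.lf 0x90)) (.nd (.lf 0x7f9) (.lf 0))) (.nd (.nd (.lf 0x467) (.lf 0)) (.nd (.lf 0x408) (.lf 0)))) (.nd (.nd (.nd (.lf 0x3d0) (.lf 0)) (.nd (.lf 0x825) (.lf 0))) (.nd (.nd (.lf 0x36) (.lf 0)) (.nd (.lf 0x782) (.lf 0)))))))
def tabQ1_naababb : Tr := (.nd (.nd (.nd (.nd (.nd (.nd (.lf 0x9a) (.lf 0x623)) (.nd (.lf 0x78a) (.lf 0))) (.nd (.nd (.lf 0x51c) (.lf 0)) (.nd (.lf 0x38f) (.lf 0)))) (.nd (.nd (.nd (.lf 0x323) (.lf 0)) (.nd (.lf 0x83b) (.lf 0))) (.nd (.nd (.lf 0x693) (.lf 0)) (.nd (.lf 0x71e) (.lf 0))))) (.nd (.nd (.nd (.nd (.lf 0x1ef) (.lf 0x46e)) (.nd (.lf 0x563) (.lf 0))) (.nd (.nd (.lf 0x5e6) (.lf 0)) (.nd (.lf 0x672) (.lf 0))))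 (.nd (.nd (.nd (.lf 0x42f) (.lf 0)) (.nd (.lf 0x2cd) (.lf 0))) (.nd (.nd (.lf 0x6f3) (.lf 0)) (.nd (.lf 0x7b5) (.lf 0)))))) (.nd (.nd (.nd (.nd (.nd (.lf 0x149) (.lf 0x77b)) (.nd (.lf 0x494) (.lf 0))) (.nd (.nd (.lf 0x115) (.lf 0)) (.nd (.lf 0x74b) (.lf 0)))) (.nd (.nd (.nd (.lf 0x3ae) (.lf 0)) (.nd (.lf 0x576) (.lf 0))) (.nd (.nd (.lf 0x294) (.lf 0)) (.nd (.lf 0x615) (.lf 0))))) (.nd (.nd (.nd (.nd (.lf 0x289) (.lf 0x8dc)) (.nd (.lf 0x7c3) (.lf 0))) (.nd (.nd (.lf 0x63a) (.lf 0)) (.nd (.lf 0x714) (.lf 0)))) (.nd (.nd (.nd (.lf 0x231) (.lf 0)) (.nd (.lf 0x2be) (.lf 0))) (.nd (.nd (.lf 0x50e) (.lf 0)) (.nd (.lf 0x76b) (.lf 0)))))))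
def tabQ1_naabbaa : Tr := (.nd (.nd (.nd (.nd (.nd (.nd (.lf 0x26) (.lf 0x748)) (.nd (.lf 0x3c1) (.lf 0))) (.nd (.nd (.lf 0x4d4) (.lf 0)) (.nd (.lf 0x68b) (.lf 0)))) (.nd (.nd (.nd (.lf 0x2c6) (.lf 0)) (.nd (.lf 0x675) (.lf 0))) (.nd (.nd (.lf 0x659) (.lf 0)) (.nd (.lf 0x5a7) (.lf 0))))) (.nd (.nd (.nd (.nd (.lf 0x186) (.lf 0x459)) (.nd (.lf 0x6f0) (.lf 0))) (.nd (.nd (.lf 0x5b2) (.lf 0)) (.nd (.lf 0x59f) (.lf 0)))) (.nd (.nd (.nd (.lf 0x3e0) (.lf 0)) (.nd (.lf 0x535) (.lf 0))) (.nd (.nd (.lf 0x599) (.lf 0)) (.nd (.lf 0x53a) (.lf 0)))))) (.nd (.nd (.nd (.nd (.nd (.lf 0xdc) (.lf 0x6b4)) (.nd (.lf 0x596) (.lf 0))) (.nd (.nd (.lf 0x541) (.lf 0)) (.nd (.lf 0x662) (.lf 0)))) (.nd (.nd (.nd (.lf 0x357) (.lf 0)) (.nd (.lf 0x40b) (.lf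 0))) (.nd (.nd (.lf 0x6ad) (.lf 0)) (.nd (.lf 0x8ec) (.lf 0))))) (.nd (.nd (.nd (.nd (.lf 0x20e) (.lf 0x2c1)) (.nd (.lf 0x427) (.lf 0))) (.nd (.nd (.lf 0x1cc) (.lf 0)) (.nd (.lf 0x798) (.lf 0)))) (.nd (.nd (.nd (.lf 0x45d) (.lf 0)) (.nd (.lf 0x5ec) (.lf 0))) (.nd (.nd (.lf 0x72b) (.lf 0)) (.nd (.lf 0x868) (.lf 0)))))))
def tabQ1_naabbab : Tr := (.nd (.nd (.nd (.nd (.nd (.nd (.lf 0x84) (.lf 0x8be)) (.nd (.lf 0x6e6) (.lf 0))) (.nd (.nd (.lf 0x511) (.lf 0)) (.nd (.lf 0x7f6) (.lf 0)))) (.nd (.nd (.nd (.lf 0x312) (.lf 0)) (.nd (.lf 0x6f2) (.lf 0))) (.nd (.nd (.lf 0x1b5) (.lf 0)) (.nd (.lf 0x545) (.lf 0))))) (.nd (.nd (.nd (.nd (.lf 0xa2) (.lf 0x8c9)) (.nd (.lf 0x617) (.lf 0))) (.nd (.nd (.lf 0x5da) (.lf 0)) (.nd (.lf 0xb3) (.lf 0))))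 (.nd (.nd (.nd (.lf 0x421) (.lf 0)) (.nd (.lf 0x5bb) (.lf 0))) (.nd (.nd (.lf 0x69a) (.lf 0)) (.nd (.lf 0x581) (.lf 0)))))) (.nd (.nd (.nd (.nd (.nd (.lf 0x131) (.lf 0x8fc)) (.nd (.lf 0x4c6) (.lf 0))) (.nd (.nd (.lf 0x10d) (.lf 0)) (.nd (.lf 0x30e) (.lf 0)))) (.nd (.nd (.nd (.lf 0x396) (.lf 0)) (.nd (.lf 0x57a) (.lf 0))) (.nd (.nd (.lf 0x6ce) (.lf 0)) (.nd (.lf 0x232) (.lf 0))))) (.nd (.nd (.nd (.nd (.lf 0x279) (.lf 0x8c8)) (.nd (.lf 0x601) (.lf 0))) (.nd (.nd (.lf 0x31f) (.lf 0)) (.nd (.lf 0x256) (.lf 0)))) (.nd (.nd (.nd (.lf 0x178) (.lf 0)) (.nd (.lf 0x855) (.lf 0))) (.nd (.nd (.lf 0x646) (.lf 0)) (.nd (.lf 0x2a4) (.lf 0)))))))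
def tabQ1_naabbba : Tr := (.nd (.nd (.nd (.nd (.nd (.nd (.lf 0x55) (.lf 0x8f9)) (.nd (.lf 0x19c) (.lf 0))) (.nd (.nd (.lf 0x4be) (.lf 0)) (.nd (.lf 0x860) (.lf 0)))) (.nd (.nd (.nd (.lf 0x2a9) (.lf 0)) (.nd (.lf 0x785) (.lf 0))) (.nd (.nd (.lf 0x671) (.lf 0)) (.nd (.lf 0x6) (.lf 0))))) (.nd (.nd (.nd (.nd (.lf 0x1b0) (.lf 0x7f8)) (.nd (.lf 0x1bb) (.lf 0))) (.nd (.nd (.lf 0x4e) (.lf 0)) (.nd (.lf 0x1f) (.lf 0)))) (.nd (.nd (.nd (.lf 0x3e7) (.lf 0)) (.nd (.lf 0x6d9) (.lf 0))) (.nd (.nd (.lf 0x703) (.lf 0)) (.nd (.lf 0x258) (.lf 0)))))) (.nd (.nd (.nd (.nd (.nd (.lf 0x107) (.lf 0x880)) (.nd (.lf 0x148) (.lf 0))) (.nd (.nd (.lf 0x55c) (.lf 0)) (.nd (.lf 0x409) (.lf 0)))) (.nd (.nd (.nd (.lf 0x379) (.lf 0)) (.nd (.lf 0x214) (.lf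 0))) (.nd (.nd (.lf 0x6bc) (.lf 0)) (.nd (.lf 0x61b) (.lf 0))))) (.nd (.nd (.nd (.nd (.lf 0x251) (.lf 0x764)) (.nd (.lf 0x246) (.lf 0))) (.nd (.nd (.lf 0x61c) (.lf 0)) (.nd (.lf 0x8d5) (.lf 0)))) (.nd (.nd (.nd (.lf 0x47e) (.lf 0)) (.nd (.lf 0x4d) (.lf 0))) (.nd (.nd (.lf 0x73d) (.lf 0)) (.nd (.lf 0x8a9) (.lf 0)))))))
def tabQ1_naabbbb : Tr := (.nd (.nd (.nd (.nd (.nd (.nd (.lf 0xaf) (.lf 0x218)) (.nd (.lf 0x792) (.lf 0))) (.nd (.nd (.lf 0x3ad) (.lf 0)) (.nd (.lf 0x838) (.lf 0)))) (.nd (.nd (.nd (.lf 0x331) (.lf 0)) (.nd (.lf 0x83f) (.lf 0))) (.nd (.nd (.lf 0x5b0) (.lf 0)) (.nd (.lf 0x7f2) (.lf 0))))) (.nd (.nd (.nd (.nd (.lf 0x202) (.lf 0x78d)) (.nd (.lf 0x7ea) (.lf 0))) (.nd (.nd (.lf 0xc7) (.lf 0)) (.nd (.lf 0x2e8) (.lf 0))))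 (.nd (.nd (.nd (.lf 0x43b) (.lf 0)) (.nd (.lf 0x3ec) (.lf 0))) (.nd (.nd (.lf 0xad) (.lf 0)) (.nd (.lf 0x2ac) (.lf 0)))))) (.nd (.nd (.nd (.nd (.nd (.lf 0x15f) (.lf 0x7)) (.nd (.lf 0x6d2) (.lf 0))) (.nd (.nd (.lf 0x593) (.lf 0)) (.nd (.lf 0x228) (.lf 0)))) (.nd (.nd (.nd (.lf 0x3bd) (.lf 0)) (.nd (.lf 0x1fb) (.lf 0))) (.nd (.nd (.lf 0x6d4) (.lf 0)) (.nd (.lf 0x85a) (.lf 0))))) (.nd (.nd (.nd (.nd (.lf 0x29e) (.lf 0x6a1)) (.nd (.lf 0x25a) (.lf 0))) (.nd (.nd (.lf 0x645) (.lf 0)) (.nd (.lf 0x87c) (.lf 0)))) (.nd (.nd (.nd (.lf 0x4b4) (.lf 0)) (.nd (.lf 0x3ff) (.lf 0))) (.nd (.nd (.lf 0x65a) (.lf 0)) (.nd (.lf 0x66c) (.lf 0)))))))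
def tabQ1_nabaaaa : Tr := (.nd (.nd (.nd (.nd (.nd (.nd (.lf 0x8) (.lf 0x8cf)) (.nd (.lf 0x578) (.lf 0))) (.nd (.nd (.lf 0x4bb) (.lf 0)) (.nd (.lf 0x74a) (.lf 0)))) (.nd (.nd (.nd (.lf 0xb6) (.lf 0)) (.nd (.lf 0x819) (.lf 0))) (.nd (.nd (.lf 0x41e) (.lf 0)) (.nd (.lf 0x594) (.lf 0))))) (.nd (.nd (.nd (.nd (.lf 0x16e) (.lf 0x8a7)) (.nd (.lf 0x1ea) (.lf 0))) (.nd (.nd (.lf 0x5a0) (.lf 0)) (.nd (.lf 0x8b9) (.lf 0)))) (.nd (.nd (.nd (.lf 0x3ca) (.lf 0)) (.nd (.lf 0x797) (.lf 0))) (.nd (.nd (.lf 0xce) (.lf 0)) (.nd (.lf 0x661) (.lf 0)))))) (.nd (.nd (.nd (.nd (.nd (.lf 0xc0) (.lf 0x8a2)) (.nd (.lf 0x6d) (.lf 0))) (.nd (.nd (.lf 0xda) (.lf 0)) (.nd (.lf 0x3f4) (.lf 0)))) (.nd (.nd (.nd (.lf 0x340) (.lf 0)) (.nd (.lf 0x12f) (.lf 0)))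 (.nd (.nd (.lf 0x4ac) (.lf 0)) (.nd (.lf 0x56) (.lf 0))))) (.nd (.nd (.nd (.nd (.lf 0x212) (.lf 0x99)) (.nd (.lf 0x485) (.lf 0))) (.nd (.nd (.lf 0x5f8) (.lf 0)) (.nd (.lf 0x7a3) (.lf 0)))) (.nd (.nd (.nd (.lf 0x44c) (.lf 0)) (.nd (.lf 0x6ac) (.lf 0))) (.nd (.nd (.lf 0x473) (.lf 0)) (.nd (.lf 0x423) (.lf 0)))))))
def tabQ1_nabaaab : Tr := (.nd (.nd (.nd (.nd (.nd (.nd (.lf 0x66) (.lf 0x5c4)) (.nd (.lf 0x77a) (.lf 0))) (.nd (.nd (.lf 0x441) (.lf 0)) (.nd (.lf 0x8a) (.lf 0)))) (.nd (.nd (.nd (.lf 0x2f9) (.lf 0)) (.nd (.lf 0x135) (.lf 0))) (.nd (.nd (.lf 0x663) (.lf 0)) (.nd (.lf 0x750) (.lf 0))))) (.nd (.nd (.nd (.nd (.lf 0x1c2) (.lf 0x7e2)) (.nd (.lf 0x7da) (.lf 0))) (.nd (.nd (.lf 0x152) (.lf 0)) (.nd (.lf 0x8c3) (.lf 0)))) (.nd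 (.nd (.nd (.lf 0x2e3) (.lf 0)) (.nd (.lf 0xc1) (.lf 0))) (.nd (.nd (.lf 0x2f2) (.lf 0)) (.nd (.lf 0x698) (.lf 0)))))) (.nd (.nd (.nd (.nd (.nd (.lf 0x114) (.lf 0x2dc)) (.nd (.lf 0x754) (.lf 0))) (.nd (.nd (.lf 0x3f9) (.lf 0)) (.nd (.lf 0x758) (.lf 0)))) (.nd (.nd (.nd (.lf 0x387) (.lf 0)) (.nd (.lf 0x0) (.lf 0))) (.nd (.nd (.lf 0x6c2) (.lf 0)) (.nd (.lf 0x879) (.lf 0))))) (.nd (.nd (.nd (.nd (.lf 0x45) (.lf 0x6cd)) (.nd (.lf 0x7fb) (.lf 0))) (.nd (.nd (.lf 0x388) (.lf 0)) (.nd (.lf 0x4ad) (.lf 0)))) (.nd (.nd (.nd (.lf 0x489) (.lf 0)) (.nd (.lf 0x1b8) (.lf 0))) (.nd (.nd (.lf 0x65c) (.lf 0)) (.nd (.lf 0x892) (.lf 0)))))))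
def tabQ1_nabaaba : Tr := (.nd (.nd (.nd (.nd (.nd (.nd (.lf 0x38) (.lf 0x828)) (.nd (.lf 0x763) (.lf 0))) (.nd (.nd (.lf 0x145) (.lf 0)) (.nd (.lf 0x4d5) (.lf 0)))) (.nd (.nd (.nd (.lf 0x2d7) (.lf 0)) (.nd (.lf 0x821) (.lf 0))) (.nd (.nd (.lf 0x664) (.lf 0)) (.nd (.lf 0x7a5) (.lf 0))))) (.nd (.nd (.nd (.nd (.lf 0x195) (.lf 0x7df)) (.nd (.lf 0x7cf) (.lf 0))) (.nd (.nd (.lf 0x265) (.lf 0)) (.nd (.lf 0x29c) (.lf 0)))) (.nd (.nd (.nd (.lf 0xd) (.lf 0)) (.nd (.lf 0x32e) (.lf 0))) (.nd (.nd (.lf 0x616) (.lf 0)) (.nd (.lf 0x9b) (.lf 0)))))) (.nd (.nd (.nd (.nd (.nd (.lf 0xeb) (.lf 0x243)) (.nd (.lf 0x7a2) (.lf 0))) (.nd (.nd (.lf 0x207) (.lf 0)) (.nd (.lf 0x8ab) (.lf 0)))) (.nd (.nd (.nd (.lf 0x363) (.lf 0)) (.nd (.lf 0x44b) (.lf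 0))) (.nd (.nd (.lf 0x670) (.lf 0)) (.nd (.lf 0x7f0) (.lf 0))))) (.nd (.nd (.nd (.nd (.lf 0xc4) (.lf 0x216)) (.nd (.lf 0x49b) (.lf 0))) (.nd (.nd (.lf 0x45b) (.lf 0)) (.nd (.lf 0x46c) (.lf 0)))) (.nd (.nd (.nd (.lf 0x46b) (.lf 0)) (.nd (.lf 0x7b1) (.lf 0))) (.nd (.nd (.lf 0x732) (.lf 0)) (.nd (.lf 0x794) (.lf 0)))))))
def tabQ1_nabaabb : Tr := (.nd (.nd (.nd (.nd (.nd (.nd (.lf 0x94) (.lf 0x158)) (.nd (.lf 0x787) (.lf 0))) (.nd (.nd (.lf 0x519) (.lf 0)) (.nd (.lf 0x5a9) (.lf 0)))) (.nd (.nd (.nd (.lf 0x1e7) (.lf 0)) (.nd (.lf 0x559) (.lf 0))) (.nd (.nd (.lf 0x690) (.lf 0)) (.nd (.lf 0x620) (.lf 0))))) (.nd (.nd (.nd (.nd (.lf 0xa8) (.lf 0x68)) (.nd (.lf 0x69f) (.lf 0))) (.nd (.nd (.lf 0x5e3) (.lf 0)) (.nd (.lf 0x302) (.lf 0))))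 (.nd (.nd (.nd (.lf 0x1aa) (.lf 0)) (.nd (.lf 0x1d2) (.lf 0))) (.nd (.nd (.lf 0x654) (.lf 0)) (.nd (.lf 0x815) (.lf 0)))))) (.nd (.nd (.nd (.nd (.nd (.lf 0x143) (.lf 0x88a)) (.nd (.lf 0x791) (.lf 0))) (.nd (.nd (.lf 0x580) (.lf 0)) (.nd (.lf 0x24e) (.lf 0)))) (.nd (.nd (.nd (.lf 0x3ab) (.lf 0)) (.nd (.lf 0x735) (.lf 0))) (.nd (.nd (.lf 0x6bb) (.lf 0)) (.nd (.lf 0x3fd) (.lf 0))))) (.nd (.nd (.nd (.nd (.lf 0x16a) (.lf 0x284)) (.nd (.lf 0x4ff) (.lf 0))) (.nd (.nd (.lf 0x636) (.lf 0)) (.nd (.lf 0x8cc) (.lf 0)))) (.nd (.nd (.nd (.lf 0x4a3) (.lf 0)) (.nd (.lf 0x591) (.lf 0))) (.nd (.nd (.lf 0x70b) (.lf 0)) (.nd (.lf 0x185) (.lf 0)))))))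
def tabQ1_nababaa : Tr := (.nd (.nd (.nd (.nd (.nd (.nd (.lf 0x20) (.lf 0x895)) (.nd (.lf 0x648) (.lf 0))) (.nd (.nd (.lf 0x274) (.lf 0)) (.nd (.lf 0x351) (.lf 0)))) (.nd (.nd (.nd (.lf 0x2bd) (.lf 0)) (.nd (.lf 0x364) (.lf 0))) (.nd (.nd (.lf 0x655) (.lf 0)) (.nd (.lf 0x7a8) (.lf 0))))) (.nd (.nd (.nd (.nd (.lf 0x181) (.lf 0x84a)) (.nd (.lf 0x557) (.lf 0))) (.nd (.nd (.lf 0x5af) (.lf 0)) (.nd (.lf 0x7b0) (.lf 0)))) (.nd (.nd (.nd (.lf 0x3dd) (.lf 0)) (.nd (.lf 0x1b1) (.lf 0))) (.nd (.nd (.lf 0x39d) (.lf 0)) (.nd (.lf 0x7af) (.lf 0)))))) (.nd (.nd (.nd (.nd (.nd (.lf 0xd6) (.lf 0xca)) (.nd (.lf 0x3ea) (.lf 0))) (.nd (.nd (.lf 0x1b7) (.lf 0)) (.nd (.lf 0x666) (.lf 0)))) (.nd (.nd (.nd (.lf 0x352) (.lf 0)) (.nd (.lf 0x1a5) (.lf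 0))) (.nd (.nd (.lf 0x6ab) (.lf 0)) (.nd (.lf 0x461) (.lf 0))))) (.nd (.nd (.nd (.nd (.lf 0x227) (.lf 0x777)) (.nd (.lf 0x513) (.lf 0))) (.nd (.nd (.lf 0x1c3) (.lf 0)) (.nd (.lf 0x203) (.lf 0)))) (.nd (.nd (.nd (.lf 0x45a) (.lf 0)) (.nd (.lf 0x6f8) (.lf 0))) (.nd (.nd (.lf 0x727) (.lf 0)) (.nd (.lf 0x59) (.lf 0)))))))
def tabQ1_nababab : Tr := (.nd (.nd (.nd (.nd (.nd (.nd (.lf 0x7e) (.lf 0x826)) (.nd (.lf 0x1c7) (.lf 0))) (.nd (.nd (.lf 0x50d) (.lf 0)) (.nd (.lf 0x89d) (.lf 0)))) (.nd (.nd (.nd (.lf 0x30c) (.lf 0)) (.nd (.lf 0x3a8) (.lf 0))) (.nd (.nd (.lf 0x684) (.lf 0)) (.nd (.lf 0x741) (.lf 0))))) (.nd (.nd (.nd (.nd (.lf 0x1d9) (.lf 0x2ba)) (.nd (.lf 0x756) (.lf 0))) (.nd (.nd (.lf 0x21c) (.lf 0)) (.nd (.lf 0x83) (.lf 0))))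 (.nd (.nd (.nd (.lf 0x41d) (.lf 0)) (.nd (.lf 0x6d8) (.lf 0))) (.nd (.nd (.lf 0x660) (.lf 0)) (.nd (.lf 0x7e6) (.lf 0)))))) (.nd (.nd (.nd (.nd (.nd (.lf 0x12b) (.lf 0x399)) (.nd (.lf 0x1f3) (.lf 0))) (.nd (.nd (.lf 0x13e) (.lf 0)) (.nd (.lf 0x381) (.lf 0)))) (.nd (.nd (.nd (.lf 0x39b) (.lf 0)) (.nd (.lf 0x43c) (.lf 0))) (.nd (.nd (.lf 0x11d) (.lf 0)) (.nd (.lf 0x454) (.lf 0))))) (.nd (.nd (.nd (.nd (.lf 0x273) (.lf 0x2d3)) (.nd (.lf 0x5c5) (.lf 0))) (.nd (.nd (.lf 0x96) (.lf 0)) (.nd (.lf 0x2fd) (.lf 0)))) (.nd (.nd (.nd (.lf 0x495) (.lf 0)) (.nd (.lf 0x830) (.lf 0))) (.nd (.nd (.lf 0xc9) (.lf 0)) (.nd (.lf 0x505) (.lf 0)))))))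
def tabQ1_nababba : Tr := (.nd (.nd (.nd (.nd (.nd (.nd (.lf 0x4f) (.lf 0x480)) (.nd (.lf 0x488) (.lf 0))) (.nd (.nd (.lf 0x40f) (.lf 0)) (.nd (.lf 0x6f9) (.lf 0)))) (.nd (.nd (.nd (.lf 0x2e7) (.lf 0)) (.nd (.lf 0x829) (.lf 0))) (.nd (.nd (.lf 0x66e) (.lf 0)) (.nd (.lf 0x8e3) (.lf 0))))) (.nd (.nd (.nd (.nd (.lf 0x1ab) (.lf 0x779)) (.nd (.lf 0x7d5) (.lf 0))) (.nd (.nd (.lf 0x5c7) (.lf 0)) (.nd (.lf 0x2b5) (.lf 0)))) (.nd (.nd (.nd (.lf 0x3fe) (.lf 0)) (.nd (.lf 0x823) (.lf 0))) (.nd (.nd (.lf 0x11b) (.lf 0)) (.nd (.lf 0x8c6) (.lf 0)))))) (.nd (.nd (.nd (.nd (.nd (.lf 0x101) (.lf 0x891)) (.nd (.lf 0xe2) (.lf 0))) (.nd (.nd (.lf 0xe7) (.lf 0)) (.nd (.lf 0x8ae) (.lf 0)))) (.nd (.nd (.nd (.lf 0x10e) (.lf 0)) (.nd (.lf 0x4d3) (.lf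 0))) (.nd (.nd (.lf 0x6aa) (.lf 0)) (.nd (.lf 0x708) (.lf 0))))) (.nd (.nd (.nd (.nd (.lf 0x24d) (.lf 0x28b)) (.nd (.lf 0x7e0) (.lf 0))) (.nd (.nd (.lf 0x619) (.lf 0)) (.nd (.lf 0x807) (.lf 0)))) (.nd (.nd (.nd (.lf 0x479) (.lf 0)) (.nd (.lf 0x883) (.lf 0))) (.nd (.nd (.lf 0x28d) (.lf 0)) (.nd (.lf 0x51e) (.lf 0)))))))
def tabQ1_nababbb : Tr := (.nd (.nd (.nd (.nd (.nd (.nd (.lf 0xa9) (.lf 0x150)) (.nd (.lf 0x341) (.lf 0))) (.nd (.nd (.lf 0x4a5) (.lf 0)) (.nd (.lf 0x7e1) (.lf 0)))) (.nd (.nd (.nd (.lf 0x32d) (.lf 0)) (.nd (.lf 0x5c6) (.lf 0))) (.nd (.nd (.lf 0x283) (.lf 0)) (.nd (.lf 0x771) (.lf 0))))) (.nd (.nd (.nd (.nd (.lf 0x1ff) (.lf 0x888)) (.nd (.lf 0xee) (.lf 0))) (.nd (.nd (.lf 0x1cb) (.lf 0)) (.nd (.lf 0x401) (.lf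 0)))) (.nd (.nd (.nd (.lf 0x43f) (.lf 0)) (.nd (.lf 0x1a2) (.lf 0))) (.nd (.nd (.lf 0x689) (.lf 0)) (.nd (.lf 0x52d) (.lf 0)))))) (.nd (.nd (.nd (.nd (.nd (.lf 0x159) (.lf 0x80a)) (.nd (.lf 0x64f) (.lf 0))) (.nd (.nd (.lf 0x58f) (.lf 0)) (.nd (.lf 0x7b2) (.lf 0)))) (.nd (.nd (.nd (.lf 0x3b8) (.lf 0)) (.nd (.lf 0x6be) (.lf 0))) (.nd (.nd (.lf 0x526) (.lf 0)) (.nd (.lf 0x458) (.lf 0))))) (.nd (.nd (.nd (.nd (.lf 0x298) (.lf 0x7d1)) (.nd (.lf 0x6a8) (.lf 0))) (.nd (.nd (.lf 0x642) (.lf 0)) (.nd (.lf 0x8da) (.lf 0)))) (.nd (.nd (.nd (.lf 0x1ec) (.lf 0)) (.nd (.lf 0x2df) (.lf 0))) (.nd (.nd (.lf 0x3b3) (.lf 0)) (.nd (.lf 0x2c4) (.lf 0)))))))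
def tabQ1_nabbaaa : Tr := (.nd (.nd (.nd (.nd (.nd (.nd (.lf 0x14) (.lf 0x1b4)) (.nd (.lf 0x5c2) (.lf 0))) (.nd (.nd (.lf 0x4c5) (.lf 0)) (.nd (.lf 0x5fa) (.lf 0)))) (.nd (.nd (.nd (.lf 0x2b7) (.lf 0)) (.nd (.lf 0x7ac) (.lf 0))) (.nd (.nd (.lf 0x651) (.lf 0)) (.nd (.lf 0x72f) (.lf 0))))) (.nd (.nd (.nd (.nd (.lf 0x179) (.lf 0x547)) (.nd (.lf 0x7c2) (.lf 0))) (.nd (.nd (.lf 0x2d0) (.lf 0)) (.nd (.lf 0x810) (.lf 0)))) (.nd (.nd (.nd (.lf 0x3d3) (.lf 0)) (.nd (.lf 0x28a) (.lf 0))) (.nd (.nd (.lf 0x6eb) (.lf 0)) (.nd (.lf 0x439) (.lf 0)))))) (.nd (.nd (.nd (.nd (.nd (.lf 0xcb) (.lf 0x4b1)) (.nd (.lf 0x56c) (.lf 0))) (.nd (.nd (.lf 0x3a1) (.lf 0)) (.nd (.lf 0x82) (.lf 0)))) (.nd (.nd (.nd (.lf 0x349) (.lf 0)) (.nd (.lf 0x13c) (.lf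 0))) (.nd (.nd (.lf 0x6a5) (.lf 0)) (.nd (.lf 0x8ea) (.lf 0))))) (.nd (.nd (.nd (.nd (.lf 0x21d) (.lf 0x8a0)) (.nd (.lf 0x5bf) (.lf 0))) (.nd (.nd (.lf 0x14d) (.lf 0)) (.nd (.lf 0x121) (.lf 0)))) (.nd (.nd (.nd (.lf 0x450) (.lf 0)) (.nd (.lf 0x4b) (.lf 0))) (.nd (.nd (.lf 0x301) (.lf 0)) (.nd (.lf 0x88f) (.lf 0)))))))
def tabQ1_nabbaab : Tr := (.nd (.nd (.nd (.nd (.nd (.nd (.lf 0x72) (.lf 0x7a4)) (.nd (.lf 0xec) (.lf 0))) (.nd (.nd (.lf 0x31e) (.lf 0)) (.nd (.lf 0x653) (.lf 0)))) (.nd (.nd (.nd (.lf 0x1b) (.lf 0)) (.nd (.lf 0x44) (.lf 0))) (.nd (.nd (.lf 0x67d) (.lf 0)) (.nd (.lf 0x8e7) (.lf 0))))) (.nd (.nd (.nd (.nd (.lf 0x1cd) (.lf 0x801)) (.nd (.lf 0x68d) (.lf 0))) (.nd (.nd (.lf 0x253) (.lf 0)) (.nd (.lf 0x4a8) (.lf 0))))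 (.nd (.nd (.nd (.lf 0x157) (.lf 0)) (.nd (.lf 0x872) (.lf 0))) (.nd (.nd (.lf 0x453) (.lf 0)) (.nd (.lf 0x8df) (.lf 0)))))) (.nd (.nd (.nd (.nd (.nd (.lf 0x11f) (.lf 0x3f7)) (.nd (.lf 0x482) (.lf 0))) (.nd (.nd (.lf 0x56b) (.lf 0)) (.nd (.lf 0x5ba) (.lf 0)))) (.nd (.nd (.nd (.lf 0x5c) (.lf 0)) (.nd (.lf 0x853) (.lf 0))) (.nd (.nd (.lf 0x404) (.lf 0)) (.nd (.lf 0x8e2) (.lf 0))))) (.nd (.nd (.nd (.nd (.lf 0x268) (.lf 0x86a)) (.nd (.lf 0x478) (.lf 0))) (.nd (.nd (.lf 0x628) (.lf 0)) (.nd (.lf 0x1dc) (.lf 0)))) (.nd (.nd (.nd (.lf 0x2a2) (.lf 0)) (.nd (.lf 0x2f4) (.lf 0))) (.nd (.nd (.lf 0x507) (.lf 0)) (.nd (.lf 0x446) (.lf 0)))))))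
def tabQ1_nabbaba : Tr := (.nd (.nd (.nd (.nd (.nd (.nd (.lf 0x43) (.lf 0x361)) (.nd (.lf 0x76a) (.lf 0))) (.nd (.nd (.lf 0x4e7) (.lf 0)) (.nd (.lf 0x241) (.lf 0)))) (.nd (.nd (.nd (.lf 0x1e6) (.lf 0)) (.nd (.lf 0x15a) (.lf 0))) (.nd (.nd (.lf 0x59d) (.lf 0)) (.nd (.lf 0x725) (.lf 0))))) (.nd (.nd (.nd (.nd (.lf 0x1a0) (.lf 0x61a)) (.nd (.lf 0x7d4) (.lf 0))) (.nd (.nd (.lf 0x5c0) (.lf 0)) (.nd (.lf 0x2a8) (.lf 0)))) (.nd (.nd (.nd (.lf 0x3f6) (.lf 0)) (.nd (.lf 0x7f7) (.lf 0))) (.nd (.nd (.lf 0x6fc) (.lf 0)) (.nd (.lf 0x676) (.lf 0)))))) (.nd (.nd (.nd (.nd (.nd (.lf 0xf6) (.lf 0xd8)) (.nd (.lf 0x4fd) (.lf 0))) (.nd (.nd (.lf 0x550) (.lf 0)) (.nd (.lf 0x536) (.lf 0)))) (.nd (.nd (.nd (.lf 0x1a7) (.lf 0)) (.nd (.lf 0x67) (.lf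 0))) (.nd (.nd (.lf 0x5a1) (.lf 0)) (.nd (.lf 0x31b) (.lf 0))))) (.nd (.nd (.nd (.nd (.lf 0x242) (.lf 0x1c4)) (.nd (.lf 0x6b0) (.lf 0))) (.nd (.nd (.lf 0x58c) (.lf 0)) (.nd (.lf 0x8d2) (.lf 0)))) (.nd (.nd (.nd (.lf 0x470) (.lf 0)) (.nd (.lf 0x281) (.lf 0))) (.nd (.nd (.lf 0x656) (.lf 0)) (.nd (.lf 0x597) (.lf 0)))))))
def tabQ1_nabbabb : Tr := (.nd (.nd (.nd (.nd (.nd (.nd (.lf 0x9e) (.lf 0xe9)) (.nd (.lf 0x546) (.lf 0))) (.nd (.nd (.lf 0x51f) (.lf 0)) (.nd (.lf 0x5bc) (.lf 0)))) (.nd (.nd (.nd (.lf 0x22a) (.lf 0)) (.nd (.lf 0x26d) (.lf 0))) (.nd (.nd (.lf 0x4e8) (.lf 0)) (.nd (.lf 0x496) (.lf 0))))) (.nd (.nd (.nd (.nd (.lf 0x1f4) (.lf 0x70f)) (.nd (.lf 0x7e7) (.lf 0))) (.nd (.nd (.lf 0x261) (.lf 0)) (.nd (.lf 0x8c5) (.lf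 0)))) (.nd (.nd (.nd (.lf 0x435) (.lf 0)) (.nd (.lf 0x4f8) (.lf 0))) (.nd (.nd (.lf 0x71a) (.lf 0)) (.nd (.lf 0x1c0) (.lf 0)))))) (.nd (.nd (.nd (.nd (.nd (.lf 0x14e) (.lf 0x8c7)) (.nd (.lf 0x7b9) (.lf 0))) (.nd (.nd (.lf 0x3cb) (.lf 0)) (.nd (.lf 0x59e) (.lf 0)))) (.nd (.nd (.nd (.lf 0x3b2) (.lf 0)) (.nd (.lf 0x199) (.lf 0))) (.nd (.nd (.lf 0x606) (.lf 0)) (.nd (.lf 0x8e1) (.lf 0))))) (.nd (.nd (.nd (.nd (.lf 0x28f) (.lf 0x80d)) (.nd (.lf 0x811) (.lf 0))) (.nd (.nd (.lf 0x222) (.lf 0)) (.nd (.lf 0x77) (.lf 0)))) (.nd (.nd (.nd (.lf 0x49c) (.lf 0)) (.nd (.lf 0x773) (.lf 0))) (.nd (.nd (.lf 0x66b) (.lf 0)) (.nd (.lf 0x7fd) (.lf 0)))))))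
def tabQ1_nabbbaa : Tr := (.nd (.nd (.nd (.nd (.nd (.nd (.lf 0x2c) (.lf 0xf8)) (.nd (.lf 0x111) (.lf 0))) (.nd (.nd (.lf 0x4cc) (.lf 0)) (.nd (.lf 0x445) (.lf 0)))) (.nd (.nd (.nd (.lf 0x2cc) (.lf 0)) (.nd (.lf 0x4d7) (.lf 0))) (.nd (.nd (.lf 0x65d) (.lf 0)) (.nd (.lf 0x5e) (.lf 0))))) (.nd (.nd (.nd (.nd (.lf 0x18a) (.lf 0x729)) (.nd (.lf 0x7cb) (.lf 0))) (.nd (.nd (.lf 0x257) (.lf 0)) (.nd (.lf 0x4ed) (.lf 0)))) (.nd (.nd (.nd (.lf 0x3e6) (.lf 0)) (.nd (.lf 0x869) (.lf 0))) (.nd (.nd (.lf 0x21) (.lf 0)) (.nd (.lf 0x71d) (.lf 0)))))) (.nd (.nd (.nd (.nd (.nd (.lf 0xe1) (.lf 0x5e9)) (.nd (.lf 0x197) (.lf 0))) (.nd (.nd (.lf 0xb7) (.lf 0)) (.nd (.lf 0x3da) (.lf 0)))) (.nd (.nd (.nd (.lf 0x24b) (.lf 0)) (.nd (.lf 0x451) (.lf 0)))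 (.nd (.nd (.lf 0x55f) (.lf 0)) (.nd (.lf 0x8cb) (.lf 0))))) (.nd (.nd (.nd (.nd (.lf 0x22e) (.lf 0x8bc)) (.nd (.lf 0x587) (.lf 0))) (.nd (.nd (.lf 0x60c) (.lf 0)) (.nd (.lf 0x565) (.lf 0)))) (.nd (.nd (.nd (.lf 0x462) (.lf 0)) (.nd (.lf 0x420) (.lf 0))) (.nd (.nd (.lf 0x72d) (.lf 0)) (.nd (.lf 0x2bb) (.lf 0)))))))
def tabQ1_nabbbab : Tr := (.nd (.nd (.nd (.nd (.nd (.nd (.lf 0x89) (.lf 0x851)) (.nd (.lf 0x1be) (.lf 0))) (.nd (.nd (.lf 0x35f) (.lf 0)) (.nd (.lf 0x175) (.lf 0)))) (.nd (.nd (.nd (.lf 0x317) (.lf 0)) (.nd (.lf 0x7a9) (.lf 0))) (.nd (.nd (.lf 0x688) (.lf 0)) (.nd (.lf 0x440) (.lf 0))))) (.nd (.nd (.nd (.nd (.lf 0x1e0) (.lf 0x696)) (.nd (.lf 0x26f) (.lf 0))) (.nd (.nd (.lf 0x306) (.lf 0)) (.nd (.lf 0x612) (.lf 0))))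 (.nd (.nd (.nd (.lf 0x426) (.lf 0)) (.nd (.lf 0x877) (.lf 0))) (.nd (.nd (.lf 0x713) (.lf 0)) (.nd (.lf 0x86) (.lf 0)))))) (.nd (.nd (.nd (.nd (.nd (.lf 0x137) (.lf 0x491)) (.nd (.lf 0x464) (.lf 0))) (.nd (.nd (.lf 0x579) (.lf 0)) (.nd (.lf 0x2eb) (.lf 0)))) (.nd (.nd (.nd (.lf 0x3a2) (.lf 0)) (.nd (.lf 0x6b6) (.lf 0))) (.nd (.nd (.lf 0x6c6) (.lf 0)) (.nd (.lf 0x398) (.lf 0))))) (.nd (.nd (.nd (.nd (.lf 0x161) (.lf 0x168)) (.nd (.lf 0x80c) (.lf 0))) (.nd (.nd (.lf 0x8d) (.lf 0)) (.nd (.lf 0x8d8) (.lf 0)))) (.nd (.nd (.nd (.lf 0x14a) (.lf 0)) (.nd (.lf 0x358) (.lf 0))) (.nd (.nd (.lf 0x39e) (.lf 0)) (.nd (.lf 0x5fb) (.lf 0)))))))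
def tabQ1_nabbbba : Tr := (.nd (.nd (.nd (.nd (.nd (.nd (.lf 0x5a) (.lf 0x6ed)) (.nd (.lf 0x774) (.lf 0))) (.nd (.nd (.lf 0x4f6) (.lf 0)) (.nd (.lf 0x56e) (.lf 0)))) (.nd (.nd (.nd (.lf 0x2ef) (.lf 0)) (.nd (.lf 0x60b) (.lf 0))) (.nd (.nd (.lf 0x674) (.lf 0)) (.nd (.lf 0x5d9) (.lf 0))))) (.nd (.nd (.nd (.nd (.lf 0x1b6) (.lf 0x4bd)) (.nd (.lf 0x622) (.lf 0))) (.nd (.nd (.lf 0x5c9) (.lf 0)) (.nd (.lf 0x84c) (.lf 0)))) (.nd (.nd (.nd (.lf 0x405) (.lf 0)) (.nd (.lf 0x19e) (.lf 0))) (.nd (.nd (.lf 0x329) (.lf 0)) (.nd (.lf 0x8f3) (.lf 0)))))) (.nd (.nd (.nd (.nd (.nd (.lf 0x10c) (.lf 0x6e2)) (.nd (.lf 0x618) (.lf 0))) (.nd (.nd (.lf 0x560) (.lf 0)) (.nd (.lf 0x885) (.lf 0)))) (.nd (.nd (.nd (.lf 0x37c) (.lf 0)) (.nd (.lf 0x335) (.lf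 0))) (.nd (.nd (.lf 0x6bf) (.lf 0)) (.nd (.lf 0x61e) (.lf 0))))) (.nd (.nd (.nd (.nd (.lf 0x255) (.lf 0x8a6)) (.nd (.lf 0x7fe) (.lf 0))) (.nd (.nd (.lf 0x4e2) (.lf 0)) (.nd (.lf 0xdd) (.lf 0)))) (.nd (.nd (.nd (.lf 0x481) (.lf 0)) (.nd (.lf 0x5cd) (.lf 0))) (.nd (.nd (.lf 0x4df) (.lf 0)) (.nd (.lf 0x8dd) (.lf 0)))))))
def tabQ1_nabbbbb : Tr := (.nd (.nd (.nd (.nd (.nd (.nd (.lf 0xb5) (.lf 0x2d5)) (.nd (.lf 0x793) (.lf 0))) (.nd (.nd (.lf 0x52f) (.lf 0)) (.nd (.lf 0x81f) (.lf 0)))) (.nd (.nd (.nd (.lf 0x336) (.lf 0)) (.nd (.lf 0x569) (.lf 0))) (.nd (.nd (.lf 0x6a0) (.lf 0)) (.nd (.lf 0x898) (.lf 0))))) (.nd (.nd (.nd (.nd (.lf 0x208) (.lf 0x36c)) (.nd (.lf 0x7ec) (.lf 0))) (.nd (.nd (.lf 0x539) (.lf 0)) (.nd (.lf 0x899) (.lf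 0)))) (.nd (.nd (.nd (.lf 0x3df) (.lf 0)) (.nd (.lf 0x1f6) (.lf 0))) (.nd (.nd (.lf 0x3d6) (.lf 0)) (.nd (.lf 0x1da) (.lf 0)))))) (.nd (.nd (.nd (.nd (.nd (.lf 0x163) (.lf 0x3de)) (.nd (.lf 0x60d) (.lf 0))) (.nd (.nd (.lf 0x598) (.lf 0)) (.nd (.lf 0x22) (.lf 0)))) (.nd (.nd (.nd (.lf 0x124) (.lf 0)) (.nd (.lf 0x3d9) (.lf 0))) (.nd (.nd (.lf 0x6df) (.lf 0)) (.nd (.lf 0xbc) (.lf 0))))) (.nd (.nd (.nd (.nd (.lf 0x2a3) (.lf 0x5d0)) (.nd (.lf 0x816) (.lf 0))) (.nd (.nd (.lf 0x2c7) (.lf 0)) (.nd (.lf 0x582) (.lf 0)))) (.nd (.nd (.nd (.lf 0x4b7) (.lf 0)) (.nd (.lf 0x7d6) (.lf 0))) (.nd (.nd (.lf 0x1ac) (.lf 0)) (.nd (.lf 0x8f7) (.lf 0)))))))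
def tabQ1_nbaaaaa : Tr := (.nd (.nd (.nd (.nd (.nd (.nd (.lf 0x5) (.lf 0x2b3)) (.nd (.lf 0x70e) (.lf 0))) (.nd (.nd (.lf 0x4b9) (.lf 0)) (.nd (.lf 0x723) (.lf 0)))) (.nd (.nd (.nd (.lf 0x2aa) (.lf 0)) (.nd (.lf 0x2b2) (.lf 0))) (.nd (.nd (.lf 0x649) (.lf 0)) (.nd (.lf 0x448) (.lf 0))))) (.nd (.nd (.nd (.nd (.lf 0x16b) (.lf 0x88c)) (.nd (.lf 0x704) (.lf 0))) (.nd (.nd (.lf 0x3c7) (.lf 0)) (.nd (.lf 0x4a) (.lf 0)))) (.nd (.nd (.nd (.lf 0x3c8) (.lf 0)) (.nd (.lf 0x3bf) (.lf 0))) (.nd (.nd (.lf 0x6e3) (.lf 0)) (.nd (.lf 0x873) (.lf 0)))))) (.nd (.nd (.nd (.nd (.nd (.lf 0xbd) (.lf 0x681)) (.nd (.lf 0x4f3) (.lf 0))) (.nd (.nd (.lf 0x20f) (.lf 0)) (.nd (.lf 0x6c3) (.lf 0)))) (.nd (.nd (.nd (.lf 0x62) (.lf 0)) (.nd (.lf 0x751) (.lf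 0))) (.nd (.nd (.lf 0x640) (.lf 0)) (.nd (.lf 0x126) (.lf 0))))) (.nd (.nd (.nd (.nd (.lf 0x210) (.lf 0x68e)) (.nd (.lf 0x49d) (.lf 0))) (.nd (.nd (.lf 0x5f7) (.lf 0)) (.nd (.lf 0x3a3) (.lf 0)))) (.nd (.nd (.nd (.lf 0x7c) (.lf 0)) (.nd (.lf 0x4c7) (.lf 0))) (.nd (.nd (.lf 0x57b) (.lf 0)) (.nd (.lf 0x87b) (.lf 0)))))))
def tabQ1_nbaaaab : Tr := (.nd (.nd (.nd (.nd (.nd (.nd (.lf 0x63) (.lf 0x8fa)) (.nd (.lf 0x347) (.lf 0))) (.nd (.nd (.lf 0x3af) (.lf 0)) (.nd (.lf 0x1fe) (.lf 0)))) (.nd (.nd (.nd (.lf 0x2f6) (.lf 0)) (.nd (.lf 0x74e) (.lf 0))) (.nd (.nd (.lf 0x678) (.lf 0)) (.nd (.lf 0x876) (.lf 0))))) (.nd (.nd (.nd (.nd (.lf 0x1bf) (.lf 0x355)) (.nd (.lf 0x7d8) (.lf 0))) (.nd (.nd (.lf 0x3d2) (.lf 0)) (.nd (.lf 0x239) (.lf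 0)))) (.nd (.nd (.nd (.lf 0x40c) (.lf 0)) (.nd (.lf 0x86f) (.lf 0))) (.nd (.nd (.lf 0x378) (.lf 0)) (.nd (.lf 0x766) (.lf 0)))))) (.nd (.nd (.nd (.nd (.nd (.lf 0x2e) (.lf 0x63f)) (.nd (.lf 0x191) (.lf 0))) (.nd (.nd (.lf 0x504) (.lf 0)) (.nd (.lf 0x549) (.lf 0)))) (.nd (.nd (.nd (.lf 0x384) (.lf 0)) (.nd (.lf 0x6a6) (.lf 0))) (.nd (.nd (.lf 0x55d) (.lf 0)) (.nd (.lf 0x520) (.lf 0))))) (.nd (.nd (.nd (.nd (.lf 0x25b) (.lf 0x75a)) (.nd (.lf 0x4aa) (.lf 0))) (.nd (.nd (.lf 0x624) (.lf 0)) (.nd (.lf 0x5f) (.lf 0)))) (.nd (.nd (.nd (.lf 0x487) (.lf 0)) (.nd (.lf 0x84f) (.lf 0))) (.nd (.nd (.lf 0x1d4) (.lf 0)) (.nd (.lf 0xbf) (.lf 0)))))))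
def tabQ1_nbaaaba : Tr := (.nd (.nd (.nd (.nd (.nd (.nd (.lf 0x35) (.lf 0x8e4)) (.nd (.lf 0x2e4) (.lf 0))) (.nd (.nd (.lf 0xde) (.lf 0)) (.nd (.lf 0x182) (.lf 0)))) (.nd (.nd (.nd (.lf 0x2d4) (.lf 0)) (.nd (.lf 0x4fe) (.lf 0))) (.nd (.nd (.lf 0x15) (.lf 0)) (.nd (.lf 0x204) (.lf 0))))) (.nd (.nd (.nd (.nd (.lf 0x192) (.lf 0x850)) (.nd (.lf 0x7ce) (.lf 0))) (.nd (.nd (.lf 0x5b9) (.lf 0)) (.nd (.lf 0x43e) (.lf 0)))) (.nd (.nd (.nd (.lf 0x3ee) (.lf 0)) (.nd (.lf 0x3b9) (.lf 0))) (.nd (.nd (.lf 0x6f6) (.lf 0)) (.nd (.lf 0x8f2) (.lf 0)))))) (.nd (.nd (.nd (.nd (.nd (.lf 0xe8) (.lf 0x6d0)) (.nd (.lf 0x1e4) (.lf 0))) (.nd (.nd (.lf 0x548) (.lf 0)) (.nd (.lf 0x2b8) (.lf 0)))) (.nd (.nd (.nd (.lf 0x360) (.lf 0)) (.nd (.lf 0x82c) (.lf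 0))) (.nd (.nd (.lf 0x665) (.lf 0)) (.nd (.lf 0x629) (.lf 0))))) (.nd (.nd (.nd (.nd (.lf 0x236) (.lf 0x296)) (.nd (.lf 0x770) (.lf 0))) (.nd (.nd (.lf 0x60f) (.lf 0)) (.nd (.lf 0x22d) (.lf 0)))) (.nd (.nd (.nd (.lf 0x468) (.lf 0)) (.nd (.lf 0x7bf) (.lf 0))) (.nd (.nd (.lf 0x373) (.lf 0)) (.nd (.lf 0x813) (.lf 0)))))))
def tabQ1_nbaaabb : Tr := (.nd (.nd (.nd (.nd (.nd (.nd (.lf 0x91) (.lf 0x36b)) (.nd (.lf 0x500) (.lf 0))) (.nd (.nd (.lf 0x411) (.lf 0)) (.nd (.lf 0x444) (.lf 0)))) (.nd (.nd (.nd (.lf 0x1ba) (.lf 0)) (.nd (.lf 0x3b1) (.lf 0))) (.nd (.nd (.lf 0x68f) (.lf 0)) (.nd (.lf 0x92) (.lf 0))))) (.nd (.nd (.nd (.nd (.lf 0x1e8) (.lf 0x8c4)) (.nd (.lf 0x736) (.lf 0))) (.nd (.nd (.lf 0x508) (.lf 0)) (.nd (.lf 0x2d) (.lf 0))))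 (.nd (.nd (.nd (.lf 0x42b) (.lf 0)) (.nd (.lf 0x394) (.lf 0))) (.nd (.nd (.lf 0x717) (.lf 0)) (.nd (.lf 0x4f5) (.lf 0)))))) (.nd (.nd (.nd (.nd (.nd (.lf 0x140) (.lf 0x436)) (.nd (.lf 0x224) (.lf 0))) (.nd (.nd (.lf 0x42c) (.lf 0)) (.nd (.lf 0x711) (.lf 0)))) (.nd (.nd (.nd (.lf 0x3aa) (.lf 0)) (.nd (.lf 0x71b) (.lf 0))) (.nd (.nd (.lf 0x37d) (.lf 0)) (.nd (.lf 0x78b) (.lf 0))))) (.nd (.nd (.nd (.nd (.lf 0x285) (.lf 0x804)) (.nd (.lf 0x7e9) (.lf 0))) (.nd (.nd (.lf 0x633) (.lf 0)) (.nd (.lf 0x8b3) (.lf 0)))) (.nd (.nd (.nd (.lf 0x1c1) (.lf 0)) (.nd (.lf 0x76e) (.lf 0))) (.nd (.nd (.lf 0x4ec) (.lf 0)) (.nd (.lf 0x4cb) (.lf 0)))))))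
def tabQ1_nbaabaa : Tr := (.nd (.nd (.nd (.nd (.nd (.nd (.lf 0x1d) (.lf 0x3ef)) (.nd (.lf 0x75d) (.lf 0))) (.nd (.nd (.lf 0x4cd) (.lf 0)) (.nd (.lf 0x3c4) (.lf 0)))) (.nd (.nd (.nd (.lf 0x53) (.lf 0)) (.nd (.lf 0x81e) (.lf 0))) (.nd (.nd (.lf 0x4e6) (.lf 0)) (.nd (.lf 0x78f) (.lf 0))))) (.nd (.nd (.nd (.nd (.lf 0x42) (.lf 0x8ad)) (.nd (.lf 0x5d4) (.lf 0))) (.nd (.nd (.lf 0x5ae) (.lf 0)) (.nd (.lf 0x4a2) (.lf 0)))) (.nd (.nd (.nd (.lf 0x3db) (.lf 0)) (.nd (.lf 0x7d7) (.lf 0))) (.nd (.nd (.lf 0x4d2) (.lf 0)) (.nd (.lf 0x29a) (.lf 0)))))) (.nd (.nd (.nd (.nd (.nd (.lf 0xd3) (.lf 0x8e9)) (.nd (.lf 0xb4) (.lf 0))) (.nd (.nd (.lf 0x53f) (.lf 0)) (.nd (.lf 0x4af) (.lf 0)))) (.nd (.nd (.nd (.lf 0x34f) (.lf 0)) (.nd (.lf 0x846) (.lf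 0))) (.nd (.nd (.lf 0x6a9) (.lf 0)) (.nd (.lf 0x46a) (.lf 0))))) (.nd (.nd (.nd (.nd (.lf 0x17f) (.lf 0x806)) (.nd (.lf 0x165) (.lf 0))) (.nd (.nd (.lf 0x604) (.lf 0)) (.nd (.lf 0x58d) (.lf 0)))) (.nd (.nd (.nd (.lf 0x457) (.lf 0)) (.nd (.lf 0x832) (.lf 0))) (.nd (.nd (.lf 0x726) (.lf 0)) (.nd (.lf 0x8d6) (.lf 0)))))))
def tabQ1_nbaabab : Tr := (.nd (.nd (.nd (.nd (.nd (.nd (.lf 0x7b) (.lf 0x8fb)) (.nd (.lf 0x3e2) (.lf 0))) (.nd (.nd (.lf 0x50b) (.lf 0)) (.nd (.lf 0x3c9) (.lf 0)))) (.nd (.nd (.nd (.lf 0x30a) (.lf 0)) (.nd (.lf 0x10a) (.lf 0))) (.nd (.nd (.lf 0x5f0) (.lf 0)) (.nd (.lf 0x18) (.lf 0))))) (.nd (.nd (.nd (.nd (.lf 0x1d6) (.lf 0x722)) (.nd (.lf 0x69c) (.lf 0))) (.nd (.nd (.lf 0xf7) (.lf 0)) (.nd (.lf 0x533) (.lf 0))))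 (.nd (.nd (.nd (.lf 0x41a) (.lf 0)) (.nd (.lf 0x138) (.lf 0))) (.nd (.nd (.lf 0x25e) (.lf 0)) (.nd (.lf 0x8ef) (.lf 0)))))) (.nd (.nd (.nd (.nd (.nd (.lf 0x128) (.lf 0x8eb)) (.nd (.lf 0x50f) (.lf 0))) (.nd (.nd (.lf 0x571) (.lf 0)) (.nd (.lf 0x8b4) (.lf 0)))) (.nd (.nd (.nd (.lf 0x226) (.lf 0)) (.nd (.lf 0x54a) (.lf 0))) (.nd (.nd (.lf 0x38c) (.lf 0)) (.nd (.lf 0x8a1) (.lf 0))))) (.nd (.nd (.nd (.nd (.lf 0x270) (.lf 0x6ef)) (.nd (.lf 0x386) (.lf 0))) (.nd (.nd (.lf 0x5a4) (.lf 0)) (.nd (.lf 0x6c7) (.lf 0)))) (.nd (.nd (.nd (.lf 0x493) (.lf 0)) (.nd (.lf 0x88b) (.lf 0))) (.nd (.nd (.lf 0x5b3) (.lf 0)) (.nd (.lf 0x8b6) (.lf 0)))))))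
def tabQ1_nbaabba : Tr := (.nd (.nd (.nd (.nd (.nd (.nd (.lf 0x4c) (.lf 0x326)) (.nd (.lf 0x362) (.lf 0))) (.nd (.nd (.lf 0x4ee) (.lf 0)) (.nd (.lf 0xe0) (.lf 0)))) (.nd (.nd (.nd (.lf 0x18b) (.lf 0)) (.nd (.lf 0x2d8) (.lf 0))) (.nd (.nd (.lf 0x66d) (.lf 0)) (.nd (.lf 0x61f) (.lf 0))))) (.nd (.nd (.nd (.nd (.lf 0x1a9) (.lf 0x460)) (.nd (.lf 0x316) (.lf 0))) (.nd (.nd (.lf 0x71) (.lf 0)) (.nd (.lf 0x3) (.lf 0)))) (.nd (.nd (.nd (.lf 0x3fb) (.lf 0)) (.nd (.lf 0x6ca) (.lf 0))) (.nd (.nd (.lf 0x701) (.lf 0)) (.nd (.lf 0x73c) (.lf 0)))))) (.nd (.nd (.nd (.nd (.nd (.lf 0xff) (.lf 0x3d7)) (.nd (.lf 0x434) (.lf 0))) (.nd (.nd (.lf 0xfd) (.lf 0)) (.nd (.lf 0x6a4) (.lf 0)))) (.nd (.nd (.nd (.lf 0x372) (.lf 0)) (.nd (.lf 0x84b) (.lf 0)))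 (.nd (.nd (.lf 0x6ba) (.lf 0)) (.nd (.lf 0x1e1) (.lf 0))))) (.nd (.nd (.nd (.nd (.lf 0x24a) (.lf 0x52a)) (.nd (.lf 0x160) (.lf 0))) (.nd (.nd (.lf 0x3f) (.lf 0)) (.nd (.lf 0x8d4) (.lf 0)))) (.nd (.nd (.nd (.lf 0x477) (.lf 0)) (.nd (.lf 0x882) (.lf 0))) (.nd (.nd (.lf 0x739) (.lf 0)) (.nd (.lf 0x39f) (.lf 0)))))))
def tabQ1_nbaabbb : Tr := (.nd (.nd (.nd (.nd (.nd (.nd (.lf 0xa6) (.lf 0x8fd)) (.nd (.lf 0xd5) (.lf 0))) (.nd (.nd (.lf 0x525) (.lf 0)) (.nd (.lf 0x50c) (.lf 0)))) (.nd (.nd (.nd (.lf 0x32b) (.lf 0)) (.nd (.lf 0x57e) (.lf 0))) (.nd (.nd (.lf 0x584) (.lf 0)) (.nd (.lf 0x8b7) (.lf 0))))) (.nd (.nd (.nd (.nd (.lf 0x1fc) (.lf 0x3c0)) (.nd (.lf 0x77d) (.lf 0))) (.nd (.nd (.lf 0x47a) (.lf 0)) (.nd (.lf 0x2e5) (.lf 0))))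 (.nd (.nd (.nd (.lf 0x43d) (.lf 0)) (.nd (.lf 0x85f) (.lf 0))) (.nd (.nd (.lf 0x44f) (.lf 0)) (.nd (.lf 0x4dd) (.lf 0)))))) (.nd (.nd (.nd (.nd (.nd (.lf 0x156) (.lf 0x6ea)) (.nd (.lf 0x4bc) (.lf 0))) (.nd (.nd (.lf 0x3e9) (.lf 0)) (.nd (.lf 0x84e) (.lf 0)))) (.nd (.nd (.nd (.lf 0x254) (.lf 0)) (.nd (.lf 0x840) (.lf 0))) (.nd (.nd (.lf 0x31) (.lf 0)) (.nd (.lf 0x74) (.lf 0))))) (.nd (.nd (.nd (.nd (.lf 0x295) (.lf 0x3b7)) (.nd (.lf 0x26c) (.lf 0))) (.nd (.nd (.lf 0x171) (.lf 0)) (.nd (.lf 0x778) (.lf 0)))) (.nd (.nd (.nd (.lf 0x4ae) (.lf 0)) (.nd (.lf 0x1fa) (.lf 0))) (.nd (.nd (.lf 0x5f3) (.lf 0)) (.nd (.lf 0x528) (.lf 0)))))))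
def tabQ1_nbabaaa : Tr := (.nd (.nd (.nd (.nd (.nd (.nd (.lf 0x11) (.lf 0x12c)) (.nd (.lf 0x5cf) (.lf 0))) (.nd (.nd (.lf 0x4c2) (.lf 0)) (.nd (.lf 0x834) (.lf 0)))) (.nd (.nd (.nd (.lf 0x2b4) (.lf 0)) (.nd (.lf 0x81a) (.lf 0))) (.nd (.nd (.lf 0x650) (.lf 0)) (.nd (.lf 0x385) (.lf 0))))) (.nd (.nd (.nd (.nd (.lf 0x176) (.lf 0x6db)) (.nd (.lf 0x58a) (.lf 0))) (.nd (.nd (.lf 0x5a6) (.lf 0)) (.nd (.lf 0x73) (.lf 0)))) (.nd (.nd (.nd (.lf 0x3d1) (.lf 0)) (.nd (.lf 0x7cd) (.lf 0))) (.nd (.nd (.lf 0x6e9) (.lf 0)) (.nd (.lf 0x47) (.lf 0)))))) (.nd (.nd (.nd (.nd (.nd (.lf 0xc8) (.lf 0x8f4)) (.nd (.lf 0x5fd) (.lf 0))) (.nd (.nd (.lf 0x36d) (.lf 0)) (.nd (.lf 0x28) (.lf 0)))) (.nd (.nd (.nd (.lf 0x33d) (.lf 0)) (.nd (.lf 0x682) (.lf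 0))) (.nd (.nd (.lf 0x4eb) (.lf 0)) (.nd (.lf 0x42e) (.lf 0))))) (.nd (.nd (.nd (.nd (.lf 0x21a) (.lf 0x609)) (.nd (.lf 0x7c9) (.lf 0))) (.nd (.nd (.lf 0x5fc) (.lf 0)) (.nd (.lf 0x8cd) (.lf 0)))) (.nd (.nd (.nd (.lf 0x2e0) (.lf 0)) (.nd (.lf 0x757) (.lf 0))) (.nd (.nd (.lf 0x57c) (.lf 0)) (.nd (.lf 0x325) (.lf 0)))))))
def tabQ1_nbabaab : Tr := (.nd (.nd (.nd (.nd (.nd (.nd (.lf 0x6f) (.lf 0x4c3)) (.nd (.lf 0x77c) (.lf 0))) (.nd (.nd (.lf 0x315) (.lf 0)) (.nd (.lf 0x849) (.lf 0)))) (.nd (.nd (.nd (.lf 0x300) (.lf 0)) (.nd (.lf 0x26e) (.lf 0))) (.nd (.nd (.lf 0x67c) (.lf 0)) (.nd (.lf 0x4ce) (.lf 0))))) (.nd (.nd (.nd (.nd (.lf 0x1ca) (.lf 0x471)) (.nd (.lf 0x603) (.lf 0))) (.nd (.nd (.lf 0x5d1) (.lf 0)) (.nd (.lf 0x40d) (.lf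 0)))) (.nd (.nd (.nd (.lf 0x413) (.lf 0)) (.nd (.lf 0x18e) (.lf 0))) (.nd (.nd (.lf 0x70c) (.lf 0)) (.nd (.lf 0x2fb) (.lf 0)))))) (.nd (.nd (.nd (.nd (.nd (.lf 0x11c) (.lf 0x769)) (.nd (.lf 0x311) (.lf 0))) (.nd (.nd (.lf 0x56a) (.lf 0)) (.nd (.lf 0x5ff) (.lf 0)))) (.nd (.nd (.nd (.lf 0x390) (.lf 0)) (.nd (.lf 0x75c) (.lf 0))) (.nd (.nd (.lf 0x23e) (.lf 0)) (.nd (.lf 0x8a4) (.lf 0))))) (.nd (.nd (.nd (.nd (.lf 0x266) (.lf 0x244)) (.nd (.lf 0x7d0) (.lf 0))) (.nd (.nd (.lf 0x627) (.lf 0)) (.nd (.lf 0x884) (.lf 0)))) (.nd (.nd (.nd (.lf 0x48f) (.lf 0)) (.nd (.lf 0x51b) (.lf 0))) (.nd (.nd (.lf 0x6d5) (.lf 0)) (.nd (.lf 0x7d2) (.lf 0)))))))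
def tabQ1_nbababa : Tr := (.nd (.nd (.nd (.nd (.nd (.nd (.lf 0x40) (.lf 0x30)) (.nd (.lf 0x768) (.lf 0))) (.nd (.nd (.lf 0x1) (.lf 0)) (.nd (.lf 0x809) (.lf 0)))) (.nd (.nd (.nd (.lf 0xf5) (.lf 0)) (.nd (.lf 0x824) (.lf 0))) (.nd (.nd (.lf 0x668) (.lf 0)) (.nd (.lf 0x2c0) (.lf 0))))) (.nd (.nd (.nd (.nd (.lf 0x7a) (.lf 0x1fd)) (.nd (.lf 0x7d3) (.lf 0))) (.nd (.nd (.lf 0x498) (.lf 0)) (.nd (.lf 0x88) (.lf 0)))) (.nd (.nd (.nd (.lf 0x34) (.lf 0)) (.nd (.lf 0x3e1) (.lf 0))) (.nd (.nd (.lf 0x6fa) (.lf 0)) (.nd (.lf 0x4d9) (.lf 0)))))) (.nd (.nd (.nd (.nd (.nd (.lf 0xf3) (.lf 0x4db)) (.nd (.lf 0x1d5) (.lf 0))) (.nd (.nd (.lf 0x429) (.lf 0)) (.nd (.lf 0x58b) (.lf 0)))) (.nd (.nd (.nd (.lf 0x36a) (.lf 0)) (.nd (.lf 0x5ee) (.lf 0)))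 (.nd (.nd (.lf 0x6b7) (.lf 0)) (.nd (.lf 0x6e8) (.lf 0))))) (.nd (.nd (.nd (.nd (.lf 0x23f) (.lf 0x60e)) (.nd (.lf 0x517) (.lf 0))) (.nd (.nd (.lf 0x613) (.lf 0)) (.nd (.lf 0x95) (.lf 0)))) (.nd (.nd (.nd (.lf 0x46f) (.lf 0)) (.nd (.lf 0xcf) (.lf 0))) (.nd (.nd (.lf 0x734) (.lf 0)) (.nd (.lf 0x4a7) (.lf 0)))))))
def tabQ1_nbababb : Tr := (.nd (.nd (.nd (.nd (.nd (.nd (.lf 0x16) (.lf 0x8a3)) (.nd (.lf 0x6a3) (.lf 0))) (.nd (.nd (.lf 0x51d) (.lf 0)) (.nd (.lf 0xa4) (.lf 0)))) (.nd (.nd (.nd (.lf 0x213) (.lf 0)) (.nd (.lf 0x83c) (.lf 0))) (.nd (.nd (.lf 0x553) (.lf 0)) (.nd (.lf 0x80e) (.lf 0))))) (.nd (.nd (.nd (.nd (.lf 0x1f1) (.lf 0x27a)) (.nd (.lf 0x699) (.lf 0))) (.nd (.nd (.lf 0x37) (.lf 0)) (.nd (.lf 0x7eb) (.lf 0)))) (.nd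 (.nd (.nd (.lf 0x432) (.lf 0)) (.nd (.lf 0x854) (.lf 0))) (.nd (.nd (.lf 0x288) (.lf 0)) (.nd (.lf 0x1c) (.lf 0)))))) (.nd (.nd (.nd (.nd (.nd (.lf 0x14b) (.lf 0x5f9)) (.nd (.lf 0x7b7) (.lf 0))) (.nd (.nd (.lf 0x586) (.lf 0)) (.nd (.lf 0x19) (.lf 0)))) (.nd (.nd (.nd (.lf 0x3b0) (.lf 0)) (.nd (.lf 0x54b) (.lf 0))) (.nd (.nd (.lf 0x417) (.lf 0)) (.nd (.lf 0x6dc) (.lf 0))))) (.nd (.nd (.nd (.nd (.lf 0x28c) (.lf 0x118)) (.nd (.lf 0x53e) (.lf 0))) (.nd (.nd (.lf 0xf4) (.lf 0)) (.nd (.lf 0x5fe) (.lf 0)))) (.nd (.nd (.nd (.lf 0x209) (.lf 0)) (.nd (.lf 0x733) (.lf 0))) (.nd (.nd (.lf 0x48e) (.lf 0)) (.nd (.lf 0x1d7) (.lf 0)))))))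
def tabQ1_nbabbaa : Tr := (.nd (.nd (.nd (.nd (.nd (.nd (.lf 0x29) (.lf 0x8d9)) (.nd (.lf 0x75f) (.lf 0))) (.nd (.nd (.lf 0x4d6) (.lf 0)) (.nd (.lf 0x80f) (.lf 0)))) (.nd (.nd (.nd (.lf 0x2c9) (.lf 0)) (.nd (.lf 0x6cb) (.lf 0))) (.nd (.nd (.lf 0x65b) (.lf 0)) (.nd (.lf 0x428) (.lf 0))))) (.nd (.nd (.nd (.nd (.lf 0x188) (.lf 0x5c8)) (.nd (.lf 0x7ca) (.lf 0))) (.nd (.nd (.lf 0x7d) (.lf 0)) (.nd (.lf 0x393) (.lf 0)))) (.nd (.nd (.nd (.lf 0x3e3) (.lf 0)) (.nd (.lf 0x625) (.lf 0))) (.nd (.nd (.lf 0x45e) (.lf 0)) (.nd (.lf 0x8ed) (.lf 0)))))) (.nd (.nd (.nd (.nd (.nd (.lf 0xdf) (.lf 0x290)) (.nd (.lf 0x79e) (.lf 0))) (.nd (.nd (.lf 0x543) (.lf 0)) (.nd (.lf 0x710) (.lf 0)))) (.nd (.nd (.nd (.lf 0x359) (.lf 0)) (.nd (.lf 0x632) (.lf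 0))) (.nd (.nd (.lf 0x6af) (.lf 0)) (.nd (.lf 0x635) (.lf 0))))) (.nd (.nd (.nd (.nd (.lf 0x102) (.lf 0x87e)) (.nd (.lf 0x3b6) (.lf 0))) (.nd (.nd (.lf 0xc5) (.lf 0)) (.nd (.lf 0x65f) (.lf 0)))) (.nd (.nd (.nd (.lf 0x45f) (.lf 0)) (.nd (.lf 0x87d) (.lf 0))) (.nd (.nd (.lf 0x33a) (.lf 0)) (.nd (.lf 0x1f5) (.lf 0)))))))
def tabQ1_nbabbab : Tr := (.nd (.nd (.nd (.nd (.nd (.nd (.lf 0x79) (.lf 0x4b8)) (.nd (.lf 0x304) (.lf 0))) (.nd (.nd (.lf 0x512) (.lf 0)) (.nd (.lf 0x2a) (.lf 0)))) (.nd (.nd (.nd (.lf 0x314) (.lf 0)) (.nd (.lf 0x514) (.lf 0))) (.nd (.nd (.lf 0x686) (.lf 0)) (.nd (.lf 0x878) (.lf 0))))) (.nd (.nd (.nd (.nd (.lf 0xd4) (.lf 0x8ee)) (.nd (.lf 0x463) (.lf 0))) (.nd (.nd (.lf 0x24c) (.lf 0)) (.nd (.lf 0x34a) (.lf 0))))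 (.nd (.nd (.nd (.lf 0x424) (.lf 0)) (.nd (.lf 0x34c) (.lf 0))) (.nd (.nd (.lf 0x712) (.lf 0)) (.nd (.lf 0x2d2) (.lf 0)))))) (.nd (.nd (.nd (.nd (.nd (.lf 0x134) (.lf 0x856)) (.nd (.lf 0x556) (.lf 0))) (.nd (.nd (.lf 0x577) (.lf 0)) (.nd (.lf 0x476) (.lf 0)))) (.nd (.nd (.nd (.lf 0x3a0) (.lf 0)) (.nd (.lf 0x490) (.lf 0))) (.nd (.nd (.lf 0x6cf) (.lf 0)) (.nd (.lf 0x6f4) (.lf 0))))) (.nd (.nd (.nd (.nd (.lf 0x27b) (.lf 0x705)) (.nd (.lf 0xd7) (.lf 0))) (.nd (.nd (.lf 0x62d) (.lf 0)) (.nd (.lf 0x837) (.lf 0)))) (.nd (.nd (.nd (.lf 0x49a) (.lf 0)) (.nd (.lf 0x687) (.lf 0))) (.nd (.nd (.lf 0x4e1) (.lf 0)) (.nd (.lf 0x54e) (.lf 0)))))))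
def tabQ1_nbabbba : Tr := (.nd (.nd (.nd (.nd (.nd (.nd (.lf 0x57) (.lf 0xc)) (.nd (.lf 0x772) (.lf 0))) (.nd (.nd (.lf 0x4f4) (.lf 0)) (.nd (.lf 0x65) (.lf 0)))) (.nd (.nd (.nd (.lf 0x2ee) (.lf 0)) (.nd (.lf 0x516) (.lf 0))) (.nd (.nd (.lf 0x162) (.lf 0)) (.nd (.lf 0x86d) (.lf 0))))) (.nd (.nd (.nd (.nd (.lf 0x1b3) (.lf 0x93)) (.nd (.lf 0x79a) (.lf 0))) (.nd (.nd (.lf 0x25) (.lf 0)) (.nd (.lf 0x893) (.lf 0)))) (.nd (.nd (.nd (.lf 0xfa) (.lf 0)) (.nd (.lf 0x240) (.lf 0))) (.nd (.nd (.lf 0x608) (.lf 0)) (.nd (.lf 0x7c0) (.lf 0)))))) (.nd (.nd (.nd (.nd (.nd (.lf 0x109) (.lf 0x7ff)) (.nd (.lf 0x235) (.lf 0))) (.nd (.nd (.lf 0x55e) (.lf 0)) (.nd (.lf 0x844) (.lf 0)))) (.nd (.nd (.nd (.lf 0xf2) (.lf 0)) (.nd (.lf 0x84d) (.lf 0)))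 (.nd (.nd (.lf 0x1d8) (.lf 0)) (.nd (.lf 0x211) (.lf 0))))) (.nd (.nd (.nd (.nd (.lf 0x252) (.lf 0x73e)) (.nd (.lf 0x7ba) (.lf 0))) (.nd (.nd (.lf 0xb0) (.lf 0)) (.nd (.lf 0x4e0) (.lf 0)))) (.nd (.nd (.nd (.lf 0x2c2) (.lf 0)) (.nd (.lf 0x16f) (.lf 0))) (.nd (.nd (.lf 0x369) (.lf 0)) (.nd (.lf 0x814) (.lf 0)))))))
def tabQ1_nbabbbb : Tr := (.nd (.nd (.nd (.nd (.nd (.nd (.lf 0xb2) (.lf 0x4b3)) (.nd (.lf 0x287) (.lf 0))) (.nd (.nd (.lf 0x52c) (.lf 0)) (.nd (.lf 0x605) (.lf 0)))) (.nd (.nd (.nd (.lf 0x333) (.lf 0)) (.nd (.lf 0x438) (.lf 0))) (.nd (.nd (.lf 0x69d) (.lf 0)) (.nd (.lf 0x7ad) (.lf 0))))) (.nd (.nd (.nd (.nd (.lf 0x205) (.lf 0x742)) (.nd (.lf 0x47d) (.lf 0))) (.nd (.nd (.lf 0x5f1) (.lf 0)) (.nd (.lf 0x58) (.lf 0))))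 (.nd (.nd (.nd (.lf 0x447) (.lf 0)) (.nd (.lf 0x22f) (.lf 0))) (.nd (.nd (.lf 0x117) (.lf 0)) (.nd (.lf 0x7f5) (.lf 0)))))) (.nd (.nd (.nd (.nd (.nd (.lf 0x9d) (.lf 0x334)) (.nd (.lf 0x33f) (.lf 0))) (.nd (.nd (.lf 0x595) (.lf 0)) (.nd (.lf 0x534) (.lf 0)))) (.nd (.nd (.nd (.lf 0x110) (.lf 0)) (.nd (.lf 0x564) (.lf 0))) (.nd (.nd (.lf 0x41f) (.lf 0)) (.nd (.lf 0x3a4) (.lf 0))))) (.nd (.nd (.nd (.nd (.lf 0x2a1) (.lf 0x8c2)) (.nd (.lf 0x527) (.lf 0))) (.nd (.nd (.lf 0x33) (.lf 0)) (.nd (.lf 0x8db) (.lf 0)))) (.nd (.nd (.nd (.lf 0x21e) (.lf 0)) (.nd (.lf 0x818) (.lf 0))) (.nd (.nd (.lf 0x74c) (.lf 0)) (.nd (.lf 0x542) (.lf 0)))))))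
def tabQ1_nbbaaaa : Tr := (.nd (.nd (.nd (.nd (.nd (.nd (.lf 0xb) (.lf 0x89e)) (.nd (.lf 0x183) (.lf 0))) (.nd (.nd (.lf 0x8e) (.lf 0)) (.nd (.lf 0x88e) (.lf 0)))) (.nd (.nd (.nd (.lf 0x2ae) (.lf 0)) (.nd (.lf 0xaa) (.lf 0))) (.nd (.nd (.lf 0x64c) (.lf 0)) (.nd (.lf 0x728) (.lf 0))))) (.nd (.nd (.nd (.nd (.lf 0x170) (.lf 0x5db)) (.nd (.lf 0x9f) (.lf 0))) (.nd (.nd (.lf 0x322) (.lf 0)) (.nd (.lf 0x7c5) (.lf 0)))) (.nd (.nd (.nd (.lf 0x3cd) (.lf 0)) (.nd (.lf 0x7b4) (.lf 0))) (.nd (.nd (.lf 0x2e1) (.lf 0)) (.nd (.lf 0x822) (.lf 0)))))) (.nd (.nd (.nd (.nd (.nd (.lf 0xc3) (.lf 0x8ff)) (.nd (.lf 0x3a5) (.lf 0))) (.nd (.nd (.lf 0x537) (.lf 0)) (.nd (.lf 0x4f0) (.lf 0)))) (.nd (.nd (.nd (.lf 0x343) (.lf 0)) (.nd (.lf 0x841) (.lf 0)))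 (.nd (.nd (.lf 0x6a2) (.lf 0)) (.nd (.lf 0x67a) (.lf 0))))) (.nd (.nd (.nd (.nd (.lf 0x215) (.lf 0x81d)) (.nd (.lf 0x380) (.lf 0))) (.nd (.nd (.lf 0x1ae) (.lf 0)) (.nd (.lf 0x282) (.lf 0)))) (.nd (.nd (.nd (.lf 0x5b) (.lf 0)) (.nd (.lf 0x27) (.lf 0))) (.nd (.nd (.lf 0x48b) (.lf 0)) (.nd (.lf 0x177) (.lf 0)))))))
def tabQ1_nbbaaab : Tr := (.nd (.nd (.nd (.nd (.nd (.nd (.lf 0x69) (.lf 0x8af)) (.nd (.lf 0x6ff) (.lf 0))) (.nd (.nd (.lf 0x22b) (.lf 0)) (.nd (.lf 0x147) (.lf 0)))) (.nd (.nd (.nd (.lf 0x2fc) (.lf 0)) (.nd (.lf 0x29d) (.lf 0))) (.nd (.nd (.lf 0x5be) (.lf 0)) (.nd (.lf 0x2a6) (.lf 0))))) (.nd (.nd (.nd (.nd (.lf 0x1c5) (.lf 0x425)) (.nd (.lf 0x27f) (.lf 0))) (.nd (.nd (.lf 0x6b) (.lf 0)) (.nd (.lf 0x718) (.lf 0)))) (.nd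 (.nd (.nd (.lf 0x410) (.lf 0)) (.nd (.lf 0x7bd) (.lf 0))) (.nd (.nd (.lf 0x554) (.lf 0)) (.nd (.lf 0x5ca) (.lf 0)))))) (.nd (.nd (.nd (.nd (.nd (.lf 0x116) (.lf 0x8f0)) (.nd (.lf 0x53c) (.lf 0))) (.nd (.nd (.lf 0x2ff) (.lf 0)) (.nd (.lf 0x4fb) (.lf 0)))) (.nd (.nd (.nd (.lf 0x38a) (.lf 0)) (.nd (.lf 0x45c) (.lf 0))) (.nd (.nd (.lf 0x38e) (.lf 0)) (.nd (.lf 0x19a) (.lf 0))))) (.nd (.nd (.nd (.nd (.lf 0x260) (.lf 0x585)) (.nd (.lf 0xb1) (.lf 0))) (.nd (.nd (.lf 0x5ea) (.lf 0)) (.nd (.lf 0xfe) (.lf 0)))) (.nd (.nd (.nd (.lf 0x328) (.lf 0)) (.nd (.lf 0x887) (.lf 0))) (.nd (.nd (.lf 0x743) (.lf 0)) (.nd (.lf 0x881) (.lf 0)))))))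
def tabQ1_nbbaaba : Tr := (.nd (.nd (.nd (.nd (.nd (.nd (.lf 0x3b) (.lf 0x86b)) (.nd (.lf 0x5d2) (.lf 0))) (.nd (.nd (.lf 0x3a9) (.lf 0)) (.nd (.lf 0x896) (.lf 0)))) (.nd (.nd (.nd (.lf 0x2da) (.lf 0)) (.nd (.lf 0x7ab) (.lf 0))) (.nd (.nd (.lf 0x5cc) (.lf 0)) (.nd (.lf 0x5d3) (.lf 0))))) (.nd (.nd (.nd (.nd (.lf 0x198) (.lf 0x348)) (.nd (.lf 0x6c9) (.lf 0))) (.nd (.nd (.lf 0x466) (.lf 0)) (.nd (.lf 0x886) (.lf 0)))) (.nd (.nd (.nd (.lf 0x3f0) (.lf 0)) (.nd (.lf 0x67e) (.lf 0))) (.nd (.nd (.lf 0x475) (.lf 0)) (.nd (.lf 0x278) (.lf 0)))))) (.nd (.nd (.nd (.nd (.nd (.lf 0xed) (.lf 0x382)) (.nd (.lf 0x706) (.lf 0))) (.nd (.nd (.lf 0x54c) (.lf 0)) (.nd (.lf 0x39c) (.lf 0)))) (.nd (.nd (.nd (.lf 0x366) (.lf 0)) (.nd (.lf 0x15e) (.lf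 0))) (.nd (.nd (.lf 0x6b2) (.lf 0)) (.nd (.lf 0x566) (.lf 0))))) (.nd (.nd (.nd (.nd (.lf 0x23a) (.lf 0x187)) (.nd (.lf 0x501) (.lf 0))) (.nd (.nd (.lf 0x277) (.lf 0)) (.nd (.lf 0x8d0) (.lf 0)))) (.nd (.nd (.nd (.lf 0x3bb) (.lf 0)) (.nd (.lf 0x54d) (.lf 0))) (.nd (.nd (.lf 0x38b) (.lf 0)) (.nd (.lf 0x8f5) (.lf 0)))))))
def tabQ1_nbbaabb : Tr := (.nd (.nd (.nd (.nd (.nd (.nd (.lf 0x97) (.lf 0x8b0)) (.nd (.lf 0x6e1) (.lf 0))) (.nd (.nd (.lf 0x48a) (.lf 0)) (.nd (.lf 0x27c) (.lf 0)))) (.nd (.nd (.nd (.lf 0x17a) (.lf 0)) (.nd (.lf 0x139) (.lf 0))) (.nd (.nd (.lf 0x692) (.lf 0)) (.nd (.lf 0x422) (.lf 0))))) (.nd (.nd (.nd (.nd (.lf 0x12a) (.lf 0x1f0)) (.nd (.lf 0x30b) (.lf 0))) (.nd (.nd (.lf 0x229) (.lf 0)) (.nd (.lf 0x3cc) (.lf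 0)))) (.nd (.nd (.nd (.lf 0x42d) (.lf 0)) (.nd (.lf 0x10b) (.lf 0))) (.nd (.nd (.lf 0x201) (.lf 0)) (.nd (.lf 0x74d) (.lf 0)))))) (.nd (.nd (.nd (.nd (.nd (.lf 0x146) (.lf 0x4c4)) (.nd (.lf 0x7b6) (.lf 0))) (.nd (.nd (.lf 0x583) (.lf 0)) (.nd (.lf 0x5a2) (.lf 0)))) (.nd (.nd (.nd (.lf 0x31d) (.lf 0)) (.nd (.lf 0x5f5) (.lf 0))) (.nd (.nd (.lf 0x1bd) (.lf 0)) (.nd (.lf 0x350) (.lf 0))))) (.nd (.nd (.nd (.nd (.lf 0xea) (.lf 0x5a8)) (.nd (.lf 0x6c4) (.lf 0))) (.nd (.nd (.lf 0x638) (.lf 0)) (.nd (.lf 0x39a) (.lf 0)))) (.nd (.nd (.nd (.lf 0x4a4) (.lf 0)) (.nd (.lf 0x79c) (.lf 0))) (.nd (.nd (.lf 0x327) (.lf 0)) (.nd (.lf 0x17c) (.lf 0)))))))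
def tabQ1_nbbabaa : Tr := (.nd (.nd (.nd (.nd (.nd (.nd (.lf 0x23) (.lf 0x2e9)) (.nd (.lf 0x3f1) (.lf 0))) (.nd (.nd (.lf 0x105) (.lf 0)) (.nd (.lf 0x87) (.lf 0)))) (.nd (.nd (.nd (.lf 0x2c3) (.lf 0)) (.nd (.lf 0x7bb) (.lf 0))) (.nd (.nd (.lf 0x33e) (.lf 0)) (.nd (.lf 0x21f) (.lf 0))))) (.nd (.nd (.nd (.nd (.lf 0x184) (.lf 0x6f5)) (.nd (.lf 0x7c7) (.lf 0))) (.nd (.nd (.lf 0x449) (.lf 0)) (.nd (.lf 0x433) (.lf 0)))) (.nd (.nd (.nd (.lf 0x3a6) (.lf 0)) (.nd (.lf 0x133) (.lf 0))) (.nd (.nd (.lf 0x62b) (.lf 0)) (.nd (.lf 0x86e) (.lf 0)))))) (.nd (.nd (.nd (.nd (.nd (.lf 0xd9) (.lf 0x870)) (.nd (.lf 0x2e6) (.lf 0))) (.nd (.nd (.lf 0x376) (.lf 0)) (.nd (.lf 0x419) (.lf 0)))) (.nd (.nd (.nd (.lf 0x354) (.lf 0)) (.nd (.lf 0x79d) (.lf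 0))) (.nd (.nd (.lf 0x14c) (.lf 0)) (.nd (.lf 0x196) (.lf 0))))) (.nd (.nd (.nd (.nd (.lf 0x16c) (.lf 0x2a7)) (.nd (.lf 0xef) (.lf 0))) (.nd (.nd (.lf 0x607) (.lf 0)) (.nd (.lf 0x6d7) (.lf 0)))) (.nd (.nd (.nd (.lf 0x330) (.lf 0)) (.nd (.lf 0x567) (.lf 0))) (.nd (.nd (.lf 0x72a) (.lf 0)) (.nd (.lf 0x2d6) (.lf 0)))))))
def tabQ1_nbbabab : Tr := (.nd (.nd (.nd (.nd (.nd (.nd (.lf 0x81) (.lf 0x730)) (.nd (.lf 0x41) (.lf 0))) (.nd (.nd (.lf 0x510) (.lf 0)) (.nd (.lf 0x89f) (.lf 0)))) (.nd (.nd (.nd (.lf 0x30f) (.lf 0)) (.nd (.lf 0x7e8) (.lf 0))) (.nd (.nd (.lf 0x685) (.lf 0)) (.nd (.lf 0x8e8) (.lf 0))))) (.nd (.nd (.nd (.nd (.lf 0x1db) (.lf 0x614)) (.nd (.lf 0x69e) (.lf 0))) (.nd (.nd (.lf 0x5d7) (.lf 0)) (.nd (.lf 0x677) (.lf 0))))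 (.nd (.nd (.nd (.lf 0x1a8) (.lf 0)) (.nd (.lf 0x875) (.lf 0))) (.nd (.nd (.lf 0x392) (.lf 0)) (.nd (.lf 0x8e6) (.lf 0)))))) (.nd (.nd (.nd (.nd (.nd (.lf 0x12e) (.lf 0x6d1)) (.nd (.lf 0x20a) (.lf 0))) (.nd (.nd (.lf 0x108) (.lf 0)) (.nd (.lf 0x169) (.lf 0)))) (.nd (.nd (.nd (.lf 0x320) (.lf 0)) (.nd (.lf 0x5e0) (.lf 0))) (.nd (.nd (.lf 0x6cc) (.lf 0)) (.nd (.lf 0x530) (.lf 0))))) (.nd (.nd (.nd (.nd (.lf 0x276) (.lf 0x8bd)) (.nd (.lf 0x808) (.lf 0))) (.nd (.nd (.lf 0x62c) (.lf 0)) (.nd (.lf 0x4b0) (.lf 0)))) (.nd (.nd (.nd (.lf 0x497) (.lf 0)) (.nd (.lf 0x76) (.lf 0))) (.nd (.nd (.lf 0x747) (.lf 0)) (.nd (.lf 0x180) (.lf 0)))))))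
def tabQ1_nbbabba : Tr := (.nd (.nd (.nd (.nd (.nd (.nd (.lf 0x52) (.lf 0x237)) (.nd (.lf 0x76f) (.lf 0))) (.nd (.nd (.lf 0x2f7) (.lf 0)) (.nd (.lf 0x551) (.lf 0)))) (.nd (.nd (.nd (.lf 0x85) (.lf 0)) (.nd (.lf 0x502) (.lf 0))) (.nd (.nd (.lf 0x4cf) (.lf 0)) (.nd (.lf 0x7c8) (.lf 0))))) (.nd (.nd (.nd (.nd (.lf 0x1ad) (.lf 0x346)) (.nd (.lf 0x106) (.lf 0))) (.nd (.nd (.lf 0x259) (.lf 0)) (.nd (.lf 0x8c1) (.lf 0)))) (.nd (.nd (.nd (.lf 0x400) (.lf 0)) (.nd (.lf 0x5dc) (.lf 0))) (.nd (.nd (.lf 0x194) (.lf 0)) (.nd (.lf 0x839) (.lf 0)))))) (.nd (.nd (.nd (.nd (.nd (.lf 0x104) (.lf 0x6b8)) (.nd (.lf 0x3c3) (.lf 0))) (.nd (.nd (.lf 0x70) (.lf 0)) (.nd (.lf 0x529) (.lf 0)))) (.nd (.nd (.nd (.lf 0x377) (.lf 0)) (.nd (.lf 0x370) (.lf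 0))) (.nd (.nd (.lf 0x223) (.lf 0)) (.nd (.lf 0x59a) (.lf 0))))) (.nd (.nd (.nd (.nd (.lf 0x24f) (.lf 0x845)) (.nd (.lf 0x544) (.lf 0))) (.nd (.nd (.lf 0x64) (.lf 0)) (.nd (.lf 0x321) (.lf 0)))) (.nd (.nd (.nd (.lf 0x367) (.lf 0)) (.nd (.lf 0x309) (.lf 0))) (.nd (.nd (.lf 0x683) (.lf 0)) (.nd (.lf 0x9) (.lf 0)))))))
def tabQ1_nbbabbb : Tr := (.nd (.nd (.nd (.nd (.nd (.nd (.lf 0xac) (.lf 0x5e5)) (.nd (.lf 0x790) (.lf 0))) (.nd (.nd (.lf 0x129) (.lf 0)) (.nd (.lf 0x8a5) (.lf 0)))) (.nd (.nd (.nd (.lf 0x132) (.lf 0)) (.nd (.lf 0xcd) (.lf 0))) (.nd (.nd (.lf 0x31c) (.lf 0)) (.nd (.lf 0x238) (.lf 0))))) (.nd (.nd (.nd (.nd (.lf 0x1f2) (.lf 0x371)) (.nd (.lf 0xbe) (.lf 0))) (.nd (.nd (.lf 0x5ef) (.lf 0)) (.nd (.lf 0x637) (.lf 0))))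 (.nd (.nd (.nd (.lf 0x442) (.lf 0)) (.nd (.lf 0x5d6) (.lf 0))) (.nd (.nd (.lf 0x71c) (.lf 0)) (.nd (.lf 0x8c0) (.lf 0)))))) (.nd (.nd (.nd (.nd (.nd (.lf 0x15c) (.lf 0x12d)) (.nd (.lf 0x35e) (.lf 0))) (.nd (.nd (.lf 0x4a9) (.lf 0)) (.nd (.lf 0x5b1) (.lf 0)))) (.nd (.nd (.nd (.lf 0x3ba) (.lf 0)) (.nd (.lf 0x861) (.lf 0))) (.nd (.nd (.lf 0x6da) (.lf 0)) (.nd (.lf 0x2f5) (.lf 0))))) (.nd (.nd (.nd (.nd (.lf 0x29b) (.lf 0x5e7)) (.nd (.lf 0x403) (.lf 0))) (.nd (.nd (.lf 0x3bc) (.lf 0)) (.nd (.lf 0x575) (.lf 0)))) (.nd (.nd (.nd (.lf 0x4b2) (.lf 0)) (.nd (.lf 0x871) (.lf 0))) (.nd (.nd (.lf 0x752) (.lf 0)) (.nd (.lf 0xd2) (.lf 0)))))))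
def tabQ1_nbbbaaa : Tr := (.nd (.nd (.nd (.nd (.nd (.nd (.lf 0x17) (.lf 0x848)) (.nd (.lf 0x55a) (.lf 0))) (.nd (.nd (.lf 0x4c8) (.lf 0)) (.nd (.lf 0x7a7) (.lf 0)))) (.nd (.nd (.nd (.lf 0xae) (.lf 0)) (.nd (.lf 0x817) (.lf 0))) (.nd (.nd (.lf 0x4b5) (.lf 0)) (.nd (.lf 0x29f) (.lf 0))))) (.nd (.nd (.nd (.nd (.lf 0x17b) (.lf 0x19f)) (.nd (.lf 0x7c4) (.lf 0))) (.nd (.nd (.lf 0x5aa) (.lf 0)) (.nd (.lf 0x634) (.lf 0)))) (.nd (.nd (.nd (.lf 0x3d5) (.lf 0)) (.nd (.lf 0x866) (.lf 0))) (.nd (.nd (.lf 0x4) (.lf 0)) (.nd (.lf 0x82a) (.lf 0)))))) (.nd (.nd (.nd (.nd (.nd (.lf 0x54) (.lf 0x6ae)) (.nd (.lf 0x799) (.lf 0))) (.nd (.nd (.lf 0x25c) (.lf 0)) (.nd (.lf 0x225) (.lf 0)))) (.nd (.nd (.nd (.lf 0x34b) (.lf 0)) (.nd (.lf 0x2af) (.lf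 0))) (.nd (.nd (.lf 0x1a4) (.lf 0)) (.nd (.lf 0x39) (.lf 0))))) (.nd (.nd (.nd (.nd (.lf 0x220) (.lf 0x72c)) (.nd (.lf 0x7f1) (.lf 0))) (.nd (.nd (.lf 0x600) (.lf 0)) (.nd (.lf 0x8ce) (.lf 0)))) (.nd (.nd (.nd (.lf 0x452) (.lf 0)) (.nd (.lf 0x6b3) (.lf 0))) (.nd (.nd (.lf 0x700) (.lf 0)) (.nd (.lf 0x3dc) (.lf 0)))))))
def tabQ1_nbbbaab : Tr := (.nd (.nd (.nd (.nd (.nd (.nd (.lf 0x75) (.lf 0x857)) (.nd (.lf 0x76d) (.lf 0))) (.nd (.nd (.lf 0xf1) (.lf 0)) (.nd (.lf 0x89b) (.lf 0)))) (.nd (.nd (.nd (.lf 0x2de) (.lf 0)) (.nd (.lf 0x47b) (.lf 0))) (.nd (.nd (.lf 0x67f) (.lf 0)) (.nd (.lf 0x14f) (.lf 0))))) (.nd (.nd (.nd (.nd (.lf 0x1d0) (.lf 0x8d3)) (.nd (.lf 0x75b) (.lf 0))) (.nd (.nd (.lf 0x337) (.lf 0)) (.nd (.lf 0xc2) (.lf 0))))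 (.nd (.nd (.nd (.lf 0x416) (.lf 0)) (.nd (.lf 0x332) (.lf 0))) (.nd (.nd (.lf 0x70d) (.lf 0)) (.nd (.lf 0x5b7) (.lf 0)))))) (.nd (.nd (.nd (.nd (.nd (.lf 0x122) (.lf 0x4f2)) (.nd (.lf 0x303) (.lf 0))) (.nd (.nd (.lf 0x56d) (.lf 0)) (.nd (.lf 0x8b1) (.lf 0)))) (.nd (.nd (.nd (.lf 0x395) (.lf 0)) (.nd (.lf 0x2a0) (.lf 0))) (.nd (.nd (.lf 0x391) (.lf 0)) (.nd (.lf 0x305) (.lf 0))))) (.nd (.nd (.nd (.nd (.lf 0x26b) (.lf 0x2ad)) (.nd (.lf 0x805) (.lf 0))) (.nd (.nd (.lf 0x62a) (.lf 0)) (.nd (.lf 0x8d1) (.lf 0)))) (.nd (.nd (.nd (.lf 0x2b) (.lf 0)) (.nd (.lf 0x5bd) (.lf 0))) (.nd (.nd (.lf 0xa) (.lf 0)) (.nd (.lf 0x85d) (.lf 0)))))))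
def tabQ1_nbbbaba : Tr := (.nd (.nd (.nd (.nd (.nd (.nd (.lf 0x46) (.lf 0x11e)) (.nd (.lf 0x28e) (.lf 0))) (.nd (.nd (.lf 0x4ea) (.lf 0)) (.nd (.lf 0x6e4) (.lf 0)))) (.nd (.nd (.nd (.lf 0x2e2) (.lf 0)) (.nd (.lf 0x6f7) (.lf 0))) (.nd (.nd (.lf 0x66a) (.lf 0)) (.nd (.lf 0x7fc) (.lf 0))))) (.nd (.nd (.nd (.nd (.lf 0x1a3) (.lf 0x775)) (.nd (.lf 0x4b6) (.lf 0))) (.nd (.nd (.lf 0x34e) (.lf 0)) (.nd (.lf 0x221) (.lf 0)))) (.nd (.nd (.nd (.lf 0x3f8) (.lf 0)) (.nd (.lf 0x679) (.lf 0))) (.nd (.nd (.lf 0x6fe) (.lf 0)) (.nd (.lf 0x889) (.lf 0)))))) (.nd (.nd (.nd (.nd (.nd (.lf 0xf9) (.lf 0x456)) (.nd (.lf 0x5c1) (.lf 0))) (.nd (.nd (.lf 0x552) (.lf 0)) (.nd (.lf 0x8ac) (.lf 0)))) (.nd (.nd (.nd (.lf 0x2b9) (.lf 0)) (.nd (.lf 0x52e) (.lf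 0))) (.nd (.nd (.lf 0x63d) (.lf 0)) (.nd (.lf 0x4de) (.lf 0))))) (.nd (.nd (.nd (.nd (.lf 0x245) (.lf 0xb8)) (.nd (.lf 0x2b6) (.lf 0))) (.nd (.nd (.lf 0x41c) (.lf 0)) (.nd (.lf 0x524) (.lf 0)))) (.nd (.nd (.nd (.lf 0x472) (.lf 0)) (.nd (.lf 0x4d1) (.lf 0))) (.nd (.nd (.lf 0x1a1) (.lf 0)) (.nd (.lf 0x630) (.lf 0)))))))
def tabQ1_nbbbabb : Tr := (.nd (.nd (.nd (.nd (.nd (.nd (.lf 0xa0) (.lf 0x2ec)) (.nd (.lf 0x78c) (.lf 0))) (.nd (.nd (.lf 0x522) (.lf 0)) (.nd (.lf 0x3e5) (.lf 0)))) (.nd (.nd (.nd (.lf 0x324) (.lf 0)) (.nd (.lf 0x52b) (.lf 0))) (.nd (.nd (.lf 0x697) (.lf 0)) (.nd (.lf 0x48d) (.lf 0))))) (.nd (.nd (.nd (.nd (.lf 0x1f7) (.lf 0x8f8)) (.nd (.lf 0x12) (.lf 0))) (.nd (.nd (.lf 0x5b5) (.lf 0)) (.nd (.lf 0x80b) (.lf 0))))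 (.nd (.nd (.nd (.lf 0x437) (.lf 0)) (.nd (.lf 0x7b8) (.lf 0))) (.nd (.nd (.lf 0x47c) (.lf 0)) (.nd (.lf 0x890) (.lf 0)))))) (.nd (.nd (.nd (.nd (.nd (.lf 0x151) (.lf 0x644)) (.nd (.lf 0x63b) (.lf 0))) (.nd (.nd (.lf 0x4f7) (.lf 0)) (.nd (.lf 0x643) (.lf 0)))) (.nd (.nd (.nd (.lf 0x37a) (.lf 0)) (.nd (.lf 0x85b) (.lf 0))) (.nd (.nd (.lf 0x574) (.lf 0)) (.nd (.lf 0x5dd) (.lf 0))))) (.nd (.nd (.nd (.nd (.lf 0x291) (.lf 0x87f)) (.nd (.lf 0x781) (.lf 0))) (.nd (.nd (.lf 0x2ca) (.lf 0)) (.nd (.lf 0x339) (.lf 0)))) (.nd (.nd (.nd (.lf 0x4ab) (.lf 0)) (.nd (.lf 0x41b) (.lf 0))) (.nd (.nd (.lf 0x249) (.lf 0)) (.nd (.lf 0x13) (.lf 0)))))))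
def tabQ1_nbbbbaa : Tr := (.nd (.nd (.nd (.nd (.nd (.nd (.lf 0x2f) (.lf 0x8a8)) (.nd (.lf 0x760) (.lf 0))) (.nd (.nd (.lf 0x4da) (.lf 0)) (.nd (.lf 0x4a1) (.lf 0)))) (.nd (.nd (.nd (.lf 0x2cf) (.lf 0)) (.nd (.lf 0x820) (.lf 0))) (.nd (.nd (.lf 0x65e) (.lf 0)) (.nd (.lf 0x269) (.lf 0))))) (.nd (.nd (.nd (.nd (.lf 0x18d) (.lf 0x60a)) (.nd (.lf 0x74f) (.lf 0))) (.nd (.nd (.lf 0x58e) (.lf 0)) (.nd (.lf 0x7ee) (.lf 0)))) (.nd (.nd (.nd (.lf 0x3e8) (.lf 0)) (.nd (.lf 0x783) (.lf 0))) (.nd (.nd (.lf 0x1ce) (.lf 0)) (.nd (.lf 0x3fa) (.lf 0)))))) (.nd (.nd (.nd (.nd (.nd (.lf 0xe3) (.lf 0x842)) (.nd (.lf 0x80) (.lf 0))) (.nd (.nd (.lf 0x234) (.lf 0)) (.nd (.lf 0x2d9) (.lf 0)))) (.nd (.nd (.nd (.lf 0x35c) (.lf 0)) (.nd (.lf 0x26a) (.lf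 0))) (.nd (.nd (.lf 0x383) (.lf 0)) (.nd (.lf 0x141) (.lf 0))))) (.nd (.nd (.nd (.nd (.lf 0x230) (.lf 0x57f)) (.nd (.lf 0x558) (.lf 0))) (.nd (.nd (.lf 0x2ce) (.lf 0)) (.nd (.lf 0x69b) (.lf 0)))) (.nd (.nd (.nd (.lf 0x2ea) (.lf 0)) (.nd (.lf 0x492) (.lf 0))) (.nd (.nd (.lf 0x5f2) (.lf 0)) (.nd (.lf 0x796) (.lf 0)))))))
def tabQ1_nbbbbab : Tr := (.nd (.nd (.nd (.nd (.nd (.nd (.lf 0x8c) (.lf 0x64b)) (.nd (.lf 0x784) (.lf 0))) (.nd (.nd (.lf 0x515) (.lf 0)) (.nd (.lf 0x5a5) (.lf 0)))) (.nd (.nd (.nd (.lf 0x31a) (.lf 0)) (.nd (.lf 0x836) (.lf 0))) (.nd (.nd (.lf 0x68a) (.lf 0)) (.nd (.lf 0x2db) (.lf 0))))) (.nd (.nd (.nd (.nd (.lf 0x1e2) (.lf 0x1ed)) (.nd (.lf 0x7d9) (.lf 0))) (.nd (.nd (.lf 0x5de) (.lf 0)) (.nd (.lf 0xb9) (.lf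 0)))) (.nd (.nd (.nd (.lf 0x247) (.lf 0)) (.nd (.lf 0x37b) (.lf 0))) (.nd (.nd (.lf 0x521) (.lf 0)) (.nd (.lf 0x680) (.lf 0)))))) (.nd (.nd (.nd (.nd (.nd (.lf 0x13a) (.lf 0x894)) (.nd (.lf 0x7b3) (.lf 0))) (.nd (.nd (.lf 0x32f) (.lf 0)) (.nd (.lf 0x313) (.lf 0)))) (.nd (.nd (.nd (.lf 0x144) (.lf 0)) (.nd (.lf 0x4e9) (.lf 0))) (.nd (.nd (.lf 0x6bd) (.lf 0)) (.nd (.lf 0x23d) (.lf 0))))) (.nd (.nd (.nd (.nd (.lf 0x280) (.lf 0x48)) (.nd (.lf 0x6d3) (.lf 0))) (.nd (.nd (.lf 0x62f) (.lf 0)) (.nd (.lf 0x1e9) (.lf 0)))) (.nd (.nd (.nd (.lf 0x167) (.lf 0)) (.nd (.lf 0x73a) (.lf 0))) (.nd (.nd (.lf 0x353) (.lf 0)) (.nd (.lf 0x626) (.lf 0)))))))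
def tabQ1_nbbbbba : Tr := (.nd (.nd (.nd (.nd (.nd (.nd (.lf 0x5d) (.lf 0x5b6)) (.nd (.lf 0x776) (.lf 0))) (.nd (.nd (.lf 0x4f9) (.lf 0)) (.nd (.lf 0x5b4) (.lf 0)))) (.nd (.nd (.nd (.lf 0x2f1) (.lf 0)) (.nd (.lf 0x82b) (.lf 0))) (.nd (.nd (.lf 0x286) (.lf 0)) (.nd (.lf 0x8e5) (.lf 0))))) (.nd (.nd (.nd (.nd (.lf 0x1b9) (.lf 0xf)) (.nd (.lf 0x3d4) (.lf 0))) (.nd (.nd (.lf 0x5cb) (.lf 0)) (.nd (.lf 0x6b5) (.lf 0)))) (.nd (.nd (.nd (.lf 0x407) (.lf 0)) (.nd (.lf 0x812) (.lf 0))) (.nd (.nd (.lf 0x2f3) (.lf 0)) (.nd (.lf 0x786) (.lf 0)))))) (.nd (.nd (.nd (.nd (.nd (.lf 0x10f) (.lf 0x61d)) (.nd (.lf 0x318) (.lf 0))) (.nd (.nd (.lf 0x561) (.lf 0)) (.nd (.lf 0x344) (.lf 0)))) (.nd (.nd (.nd (.lf 0x37f) (.lf 0)) (.nd (.lf 0x570) (.lf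 0))) (.nd (.nd (.lf 0x6c0) (.lf 0)) (.nd (.lf 0x6b9) (.lf 0))))) (.nd (.nd (.nd (.nd (.lf 0xbb) (.lf 0x4ba)) (.nd (.lf 0x800) (.lf 0))) (.nd (.nd (.lf 0x5eb) (.lf 0)) (.nd (.lf 0x2c5) (.lf 0)))) (.nd (.nd (.nd (.lf 0x484) (.lf 0)) (.nd (.lf 0x7c1) (.lf 0))) (.nd (.nd (.lf 0x669) (.lf 0)) (.nd (.lf 0x2b0) (.lf 0)))))))
def tabQ1_nbbbbbb : Tr := (.nd (.nd (.nd (.nd (.nd (.nd (.lf 0x98) (.lf 0x8fe)) (.nd (.lf 0x795) (.lf 0))) (.nd (.nd (.lf 0x1dd) (.lf 0)) (.nd (.lf 0x859) (.lf 0)))) (.nd (.nd (.nd (.lf 0x338) (.lf 0)) (.nd (.lf 0x716) (.lf 0))) (.nd (.nd (.lf 0x48c) (.lf 0)) (.nd (.lf 0x5e2) (.lf 0))))) (.nd (.nd (.nd (.nd (.lf 0x20b) (.lf 0x64a)) (.nd (.lf 0x7ed) (.lf 0))) (.nd (.nd (.lf 0x2ab) (.lf 0)) (.nd (.lf 0x827) (.lf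 0)))) (.nd (.nd (.nd (.lf 0x7f) (.lf 0)) (.nd (.lf 0x81c) (.lf 0))) (.nd (.nd (.lf 0x71f) (.lf 0)) (.nd (.lf 0x737) (.lf 0)))))) (.nd (.nd (.nd (.nd (.nd (.lf 0x166) (.lf 0x217)) (.nd (.lf 0x13b) (.lf 0))) (.nd (.nd (.lf 0x59b) (.lf 0)) (.nd (.lf 0x15d) (.lf 0)))) (.nd (.nd (.nd (.lf 0x3c2) (.lf 0)) (.nd (.lf 0x4c1) (.lf 0))) (.nd (.nd (.lf 0x6e0) (.lf 0)) (.nd (.lf 0x4d0) (.lf 0))))) (.nd (.nd (.nd (.nd (.lf 0x2a5) (.lf 0x8f1)) (.nd (.lf 0x164) (.lf 0))) (.nd (.nd (.lf 0x37e) (.lf 0)) (.nd (.lf 0x641) (.lf 0)))) (.nd (.nd (.nd (.lf 0xa7) (.lf 0)) (.nd (.lf 0x7dd) (.lf 0))) (.nd (.nd (.lf 0xe4) (.lf 0)) (.nd (.lf 0x89c) (.lf 0)))))))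
def tabQ1 : Tr := (.nd (.nd (.nd (.nd (.nd (.nd tabQ1_naaaaaa tabQ1_naaaaab) (.nd tabQ1_naaaaba tabQ1_naaaabb)) (.nd (.nd tabQ1_naaabaa tabQ1_naaabab) (.nd tabQ1_naaabba tabQ1_naaabbb))) (.nd (.nd (.nd tabQ1_naabaaa tabQ1_naabaab) (.nd tabQ1_naababa tabQ1_naababb)) (.nd (.nd tabQ1_naabbaa tabQ1_naabbab) (.nd tabQ1_naabbba tabQ1_naabbbb)))) (.nd (.nd (.nd (.nd tabQ1_nabaaaa tabQ1_nabaaab) (.nd tabQ1_nabaaba tabQ1_nabaabb)) (.nd (.nd tabQ1_nababaa tabQ1_nababab) (.nd tabQ1_nababba tabQ1_nababbb))) (.nd (.nd (.nd tabQ1_nabbaaa tabQ1_nabbaab) (.nd tabQ1_nabbaba tabQ1_nabbabb)) (.nd (.nd tabQ1_nabbbaa tabQ1_nabbbab) (.nd tabQ1_nabbbba tabQ1_nabbbbb))))) (.nd (.nd (.nd (.nd (.nd tabQ1_nbaaaaa tabQ1_nbaaaab) (.nd tabQ1_nbaaaba tabQ1_nbaaabb))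 (.nd (.nd tabQ1_nbaabaa tabQ1_nbaabab) (.nd tabQ1_nbaabba tabQ1_nbaabbb))) (.nd (.nd (.nd tabQ1_nbabaaa tabQ1_nbabaab) (.nd tabQ1_nbababa tabQ1_nbababb)) (.nd (.nd tabQ1_nbabbaa tabQ1_nbabbab) (.nd tabQ1_nbabbba tabQ1_nbabbbb)))) (.nd (.nd (.nd (.nd tabQ1_nbbaaaa tabQ1_nbbaaab) (.nd tabQ1_nbbaaba tabQ1_nbbaabb)) (.nd (.nd tabQ1_nbbabaa tabQ1_nbbabab) (.nd tabQ1_nbbabba tabQ1_nbbabbb))) (.nd (.nd (.nd tabQ1_nbbbaaa tabQ1_nbbbaab) (.nd tabQ1_nbbbaba tabQ1_nbbbabb)) (.nd (.nd tabQ1_nbbbbaa tabQ1_nbbbbab) (.nd tabQ1_nbbbbba tabQ1_nbbbbbb))))))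
def witQ1_naaaaaa : Tr := (.nd (.nd (.nd (.nd (.nd (.nd (.lf 0x0) (.lf 0x76)) (.nd (.lf 0x1bdd) (.lf 0))) (.nd (.nd (.lf 0xd13) (.lf 0)) (.nd (.lf 0x0) (.lf 0)))) (.nd (.nd (.nd (.lf 0x583) (.lf 0)) (.nd (.lf 0x1812) (.lf 0))) (.nd (.nd (.lf 0x0) (.lf 0)) (.nd (.lf 0x1548) (.lf 0))))) (.nd (.nd (.nd (.nd (.lf 0x1ada) (.lf 0x24c)) (.nd (.lf 0x0) (.lf 0))) (.nd (.nd (.lf 0x2d8) (.lf 0)) (.nd (.lf 0xbc3) (.lf 0)))) (.nd (.nd (.nd (.lf 0x0) (.lf 0)) (.nd (.lf 0x1658) (.lf 0))) (.nd (.nd (.lf 0x11de) (.lf 0)) (.nd (.lf 0xdb5) (.lf 0)))))) (.nd (.nd (.nd (.nd (.nd (.lf 0x0) (.lf 0xd0b)) (.nd (.lf 0x3b0) (.lf 0))) (.nd (.nd (.lf 0x0) (.lf 0)) (.nd (.lf 0x4b9) (.lf 0)))) (.nd (.nd (.nd (.lf 0x0) (.lf 0)) (.nd (.lf 0x17d9) (.lf 0)))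 (.nd (.nd (.lf 0x1b60) (.lf 0)) (.nd (.lf 0x1222) (.lf 0))))) (.nd (.nd (.nd (.nd (.lf 0x0) (.lf 0x1b2d)) (.nd (.lf 0x1329) (.lf 0))) (.nd (.nd (.lf 0x14ec) (.lf 0)) (.nd (.lf 0x1411) (.lf 0)))) (.nd (.nd (.nd (.lf 0x0) (.lf 0)) (.nd (.lf 0x1639) (.lf 0))) (.nd (.nd (.lf 0x0) (.lf 0)) (.nd (.lf 0x108c) (.lf 0)))))))
def witQ1_naaaaab : Tr := (.nd (.nd (.nd (.nd (.nd (.nd (.lf 0x0) (.lf 0x1774)) (.nd (.lf 0x1ae8) (.lf 0))) (.nd (.nd (.lf 0x0) (.lf 0)) (.nd (.lf 0xefc) (.lf 0)))) (.nd (.nd (.nd (.lf 0xe5a) (.lf 0)) (.nd (.lf 0x13e1) (.lf 0))) (.nd (.nd (.lf 0xc84) (.lf 0)) (.nd (.lf 0x91e) (.lf 0))))) (.nd (.nd (.nd (.nd (.lf 0x0) (.lf 0x98c)) (.nd (.lf 0x106) (.lf 0))) (.nd (.nd (.lf 0x0) (.lf 0)) (.nd (.lf 0xfb8) (.lf 0))))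 (.nd (.nd (.nd (.lf 0x0) (.lf 0)) (.nd (.lf 0xc8f) (.lf 0))) (.nd (.nd (.lf 0xa11) (.lf 0)) (.nd (.lf 0x158c) (.lf 0)))))) (.nd (.nd (.nd (.nd (.nd (.lf 0x0) (.lf 0x1379)) (.nd (.lf 0x0) (.lf 0))) (.nd (.nd (.lf 0x0) (.lf 0)) (.nd (.lf 0xd0e) (.lf 0)))) (.nd (.nd (.nd (.lf 0x211) (.lf 0)) (.nd (.lf 0x1d7c) (.lf 0))) (.nd (.nd (.lf 0x15c) (.lf 0)) (.nd (.lf 0x54e) (.lf 0))))) (.nd (.nd (.nd (.nd (.lf 0x1de4) (.lf 0x775)) (.nd (.lf 0xe68) (.lf 0))) (.nd (.nd (.lf 0x0) (.lf 0)) (.nd (.lf 0x99f) (.lf 0)))) (.nd (.nd (.nd (.lf 0xa69) (.lf 0)) (.nd (.lf 0xa41) (.lf 0))) (.nd (.nd (.lf 0xf71) (.lf 0)) (.nd (.lf 0x17e5) (.lf 0)))))))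
def witQ1_naaaaba : Tr := (.nd (.nd (.nd (.nd (.nd (.nd (.lf 0x0) (.lf 0x182)) (.nd (.lf 0x0) (.lf 0))) (.nd (.nd (.lf 0x0) (.lf 0)) (.nd (.lf 0x82d) (.lf 0)))) (.nd (.nd (.nd (.lf 0x0) (.lf 0)) (.nd (.lf 0xbfe) (.lf 0))) (.nd (.nd (.lf 0x14a0) (.lf 0)) (.nd (.lf 0x11b) (.lf 0))))) (.nd (.nd (.nd (.nd (.lf 0x0) (.lf 0xc31)) (.nd (.lf 0x0) (.lf 0))) (.nd (.nd (.lf 0x1bfe) (.lf 0)) (.nd (.lf 0xec7) (.lf 0)))) (.nd (.nd (.nd (.lf 0x0) (.lf 0)) (.nd (.lf 0x1a91) (.lf 0))) (.nd (.nd (.lf 0x1360) (.lf 0)) (.nd (.lf 0x1b7b) (.lf 0)))))) (.nd (.nd (.nd (.nd (.nd (.lf 0x0) (.lf 0xc01)) (.nd (.lf 0x0) (.lf 0))) (.nd (.nd (.lf 0xd6c) (.lf 0)) (.nd (.lf 0x16fc) (.lf 0)))) (.nd (.nd (.nd (.lf 0x0) (.lf 0)) (.nd (.lf 0x832) (.lf 0))) (.nd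 (.nd (.lf 0xff) (.lf 0)) (.nd (.lf 0x1cbf) (.lf 0))))) (.nd (.nd (.nd (.nd (.lf 0x0) (.lf 0x19af)) (.nd (.lf 0x1764) (.lf 0))) (.nd (.nd (.lf 0xc5a) (.lf 0)) (.nd (.lf 0x1c89) (.lf 0)))) (.nd (.nd (.nd (.lf 0x0) (.lf 0)) (.nd (.lf 0x759) (.lf 0))) (.nd (.nd (.lf 0x0) (.lf 0)) (.nd (.lf 0xbfc) (.lf 0)))))))
def witQ1_naaaabb : Tr := (.nd (.nd (.nd (.nd (.nd (.nd (.lf 0x0) (.lf 0xca2)) (.nd (.lf 0x1208) (.lf 0))) (.nd (.nd (.lf 0x19ac) (.lf 0)) (.nd (.lf 0x11d5) (.lf 0)))) (.nd (.nd (.nd (.lf 0xa74) (.lf 0)) (.nd (.lf 0x188) (.lf 0))) (.nd (.nd (.lf 0x0) (.lf 0)) (.nd (.lf 0xcc2) (.lf 0))))) (.nd (.nd (.nd (.nd (.lf 0x0) (.lf 0x112b)) (.nd (.lf 0x8e7) (.lf 0))) (.nd (.nd (.lf 0x0) (.lf 0)) (.nd (.lf 0x4c3) (.lf 0)))) (.nd (.nd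 (.nd (.lf 0x0) (.lf 0)) (.nd (.lf 0x7f6) (.lf 0))) (.nd (.nd (.lf 0x0) (.lf 0)) (.nd (.lf 0xcdf) (.lf 0)))))) (.nd (.nd (.nd (.nd (.nd (.lf 0x0) (.lf 0x12d)) (.nd (.lf 0x3c) (.lf 0))) (.nd (.nd (.lf 0x0) (.lf 0)) (.nd (.lf 0xd13) (.lf 0)))) (.nd (.nd (.nd (.lf 0x0) (.lf 0)) (.nd (.lf 0x14c2) (.lf 0))) (.nd (.nd (.lf 0x1d30) (.lf 0)) (.nd (.lf 0x179a) (.lf 0))))) (.nd (.nd (.nd (.nd (.lf 0x10d3) (.lf 0x1aae)) (.nd (.lf 0x1d6e) (.lf 0))) (.nd (.nd (.lf 0x0) (.lf 0)) (.nd (.lf 0x984) (.lf 0)))) (.nd (.nd (.nd (.lf 0x0) (.lf 0)) (.nd (.lf 0x62c) (.lf 0))) (.nd (.nd (.lf 0x12f3) (.lf 0)) (.nd (.lf 0x131b) (.lf 0)))))))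
def witQ1_naaabaa : Tr := (.nd (.nd (.nd (.nd (.nd (.nd (.lf 0x0) (.lf 0x10c5)) (.nd (.lf 0x96c) (.lf 0))) (.nd (.nd (.lf 0xce8) (.lf 0)) (.nd (.lf 0x19b3) (.lf 0)))) (.nd (.nd (.nd (.lf 0x0) (.lf 0)) (.nd (.lf 0x158e) (.lf 0))) (.nd (.nd (.lf 0x0) (.lf 0)) (.nd (.lf 0x11bb) (.lf 0))))) (.nd (.nd (.nd (.nd (.lf 0x0) (.lf 0x18dc)) (.nd (.lf 0xe9) (.lf 0))) (.nd (.nd (.lf 0x0) (.lf 0)) (.nd (.lf 0x190f) (.lf 0)))) (.nd (.nd (.nd (.lf 0x0) (.lf 0)) (.nd (.lf 0x0) (.lf 0))) (.nd (.nd (.lf 0x0) (.lf 0)) (.nd (.lf 0x10dc) (.lf 0)))))) (.nd (.nd (.nd (.nd (.nd (.lf 0x0) (.lf 0x917)) (.nd (.lf 0x1def) (.lf 0))) (.nd (.nd (.lf 0x0) (.lf 0)) (.nd (.lf 0x1bbd) (.lf 0)))) (.nd (.nd (.nd (.lf 0x0) (.lf 0)) (.nd (.lf 0x1721) (.lf 0))) (.nd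 (.nd (.lf 0x0) (.lf 0)) (.nd (.lf 0xd71) (.lf 0))))) (.nd (.nd (.nd (.nd (.lf 0x26e) (.lf 0xeb)) (.nd (.lf 0x0) (.lf 0))) (.nd (.nd (.lf 0x149d) (.lf 0)) (.nd (.lf 0x1de8) (.lf 0)))) (.nd (.nd (.nd (.lf 0x0) (.lf 0)) (.nd (.lf 0x18dc) (.lf 0))) (.nd (.nd (.lf 0xa53) (.lf 0)) (.nd (.lf 0x133b) (.lf 0)))))))
def witQ1_naaabab : Tr := (.nd (.nd (.nd (.nd (.nd (.nd (.lf 0x0) (.lf 0x7a4)) (.nd (.lf 0x0) (.lf 0))) (.nd (.nd (.lf 0x17) (.lf 0)) (.nd (.lf 0x1ab7) (.lf 0)))) (.nd (.nd (.nd (.lf 0x0) (.lf 0)) (.nd (.lf 0x0) (.lf 0))) (.nd (.nd (.lf 0x907) (.lf 0)) (.nd (.lf 0x1df6) (.lf 0))))) (.nd (.nd (.nd (.nd (.lf 0x0) (.lf 0x12e2)) (.nd (.lf 0x575) (.lf 0))) (.nd (.nd (.lf 0x0) (.lf 0)) (.nd (.lf 0x1952) (.lf 0)))) (.nd (.nd (.nd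 (.lf 0x0) (.lf 0)) (.nd (.lf 0x179d) (.lf 0))) (.nd (.nd (.lf 0x148c) (.lf 0)) (.nd (.lf 0xc88) (.lf 0)))))) (.nd (.nd (.nd (.nd (.nd (.lf 0x0) (.lf 0x3db)) (.nd (.lf 0x0) (.lf 0))) (.nd (.nd (.lf 0x0) (.lf 0)) (.nd (.lf 0x0) (.lf 0)))) (.nd (.nd (.nd (.lf 0x0) (.lf 0)) (.nd (.lf 0x550) (.lf 0))) (.nd (.nd (.lf 0x0) (.lf 0)) (.nd (.lf 0x627) (.lf 0))))) (.nd (.nd (.nd (.nd (.lf 0x1b40) (.lf 0x58c)) (.nd (.lf 0x82c) (.lf 0))) (.nd (.nd (.lf 0x90e) (.lf 0)) (.nd (.lf 0x1b69) (.lf 0)))) (.nd (.nd (.nd (.lf 0x1949) (.lf 0)) (.nd (.lf 0xe6a) (.lf 0))) (.nd (.nd (.lf 0x12ac) (.lf 0)) (.nd (.lf 0x1a1b) (.lf 0)))))))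
def witQ1_naaabba : Tr := (.nd (.nd (.nd (.nd (.nd (.nd (.lf 0x0) (.lf 0x454)) (.nd (.lf 0x9a1) (.lf 0))) (.nd (.nd (.lf 0x1e15) (.lf 0)) (.nd (.lf 0x1800) (.lf 0)))) (.nd (.nd (.nd (.lf 0x9) (.lf 0)) (.nd (.lf 0x1463) (.lf 0))) (.nd (.nd (.lf 0x861) (.lf 0)) (.nd (.lf 0x1d13) (.lf 0))))) (.nd (.nd (.nd (.nd (.lf 0x0) (.lf 0x12a3)) (.nd (.lf 0x1b66) (.lf 0))) (.nd (.nd (.lf 0x0) (.lf 0)) (.nd (.lf 0x32) (.lf 0)))) (.nd (.nd (.nd (.lf 0x626) (.lf 0)) (.nd (.lf 0x1a95) (.lf 0))) (.nd (.nd (.lf 0x1e22) (.lf 0)) (.nd (.lf 0x6d8) (.lf 0)))))) (.nd (.nd (.nd (.nd (.nd (.lf 0x0) (.lf 0x5c6)) (.nd (.lf 0x6d3) (.lf 0))) (.nd (.nd (.lf 0x0) (.lf 0)) (.nd (.lf 0x1335) (.lf 0)))) (.nd (.nd (.nd (.lf 0x0) (.lf 0)) (.nd (.lf 0x1e64) (.lf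 0))) (.nd (.nd (.lf 0x182) (.lf 0)) (.nd (.lf 0x86a) (.lf 0))))) (.nd (.nd (.nd (.nd (.lf 0x0) (.lf 0x672)) (.nd (.lf 0x1545) (.lf 0))) (.nd (.nd (.lf 0x1923) (.lf 0)) (.nd (.lf 0x49) (.lf 0)))) (.nd (.nd (.nd (.lf 0x0) (.lf 0)) (.nd (.lf 0x647) (.lf 0))) (.nd (.nd (.lf 0x0) (.lf 0)) (.nd (.lf 0x8cf) (.lf 0)))))))
def witQ1_naaabbb : Tr := (.nd (.nd (.nd (.nd (.nd (.nd (.lf 0x0) (.lf 0x165c)) (.nd (.lf 0x0) (.lf 0))) (.nd (.nd (.lf 0x1bd0) (.lf 0)) (.nd (.lf 0x17c3) (.lf 0)))) (.nd (.nd (.nd (.lf 0x1a0e) (.lf 0)) (.nd (.lf 0xe3c) (.lf 0))) (.nd (.nd (.lf 0xca8) (.lf 0)) (.nd (.lf 0x12bc) (.lf 0))))) (.nd (.nd (.nd (.nd (.lf 0x0) (.lf 0x76)) (.nd (.lf 0x144f) (.lf 0))) (.nd (.nd (.lf 0x1265) (.lf 0)) (.nd (.lf 0x15b7) (.lf 0))))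 (.nd (.nd (.nd (.lf 0x0) (.lf 0)) (.nd (.lf 0x10b2) (.lf 0))) (.nd (.nd (.lf 0x24b) (.lf 0)) (.nd (.lf 0x339) (.lf 0)))))) (.nd (.nd (.nd (.nd (.nd (.lf 0x0) (.lf 0x79c)) (.nd (.lf 0x0) (.lf 0))) (.nd (.nd (.lf 0xa42) (.lf 0)) (.nd (.lf 0x1087) (.lf 0)))) (.nd (.nd (.nd (.lf 0x0) (.lf 0)) (.nd (.lf 0x109d) (.lf 0))) (.nd (.nd (.lf 0x1270) (.lf 0)) (.nd (.lf 0x1315) (.lf 0))))) (.nd (.nd (.nd (.nd (.lf 0xfad) (.lf 0xc3)) (.nd (.lf 0xb00) (.lf 0))) (.nd (.nd (.lf 0x0) (.lf 0)) (.nd (.lf 0x9bf) (.lf 0)))) (.nd (.nd (.nd (.lf 0x129a) (.lf 0)) (.nd (.lf 0x116) (.lf 0))) (.nd (.nd (.lf 0x119f) (.lf 0)) (.nd (.lf 0x1645) (.lf 0)))))))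
def witQ1_naabaaa : Tr := (.nd (.nd (.nd (.nd (.nd (.nd (.lf 0x0) (.lf 0x4ff)) (.nd (.lf 0x947) (.lf 0))) (.nd (.nd (.lf 0x343) (.lf 0)) (.nd (.lf 0x11d8) (.lf 0)))) (.nd (.nd (.nd (.lf 0x0) (.lf 0)) (.nd (.lf 0x1d2b) (.lf 0))) (.nd (.nd (.lf 0x0) (.lf 0)) (.nd (.lf 0x53a) (.lf 0))))) (.nd (.nd (.nd (.nd (.lf 0x0) (.lf 0x1ab4)) (.nd (.lf 0x98e) (.lf 0))) (.nd (.nd (.lf 0x0) (.lf 0)) (.nd (.lf 0x0) (.lf 0)))) (.nd (.nd (.nd (.lf 0x0) (.lf 0)) (.nd (.lf 0x68) (.lf 0))) (.nd (.nd (.lf 0x159e) (.lf 0)) (.nd (.lf 0x1a85) (.lf 0)))))) (.nd (.nd (.nd (.nd (.nd (.lf 0x0) (.lf 0x10f)) (.nd (.lf 0x197) (.lf 0))) (.nd (.nd (.lf 0x17c1) (.lf 0)) (.nd (.lf 0x1219) (.lf 0)))) (.nd (.nd (.nd (.lf 0x0) (.lf 0)) (.nd (.lf 0x1731) (.lf 0))) (.nd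 (.nd (.lf 0xccf) (.lf 0)) (.nd (.lf 0x354) (.lf 0))))) (.nd (.nd (.nd (.nd (.lf 0xfab) (.lf 0x1aa)) (.nd (.lf 0xb95) (.lf 0))) (.nd (.nd (.lf 0x41f) (.lf 0)) (.nd (.lf 0x5c9) (.lf 0)))) (.nd (.nd (.nd (.lf 0x0) (.lf 0)) (.nd (.lf 0x108) (.lf 0))) (.nd (.nd (.lf 0x0) (.lf 0)) (.nd (.lf 0x17e6) (.lf 0)))))))
def witQ1_naabaab : Tr := (.nd (.nd (.nd (.nd (.nd (.nd (.lf 0x0) (.lf 0x1c3a)) (.nd (.lf 0x45f) (.lf 0))) (.nd (.nd (.lf 0x0) (.lf 0)) (.nd (.lf 0x0) (.lf 0)))) (.nd (.nd (.nd (.lf 0x0) (.lf 0)) (.nd (.lf 0x0) (.lf 0))) (.nd (.nd (.lf 0x0) (.lf 0)) (.nd (.lf 0x619) (.lf 0))))) (.nd (.nd (.nd (.nd (.lf 0x0) (.lf 0xc90)) (.nd (.lf 0x0) (.lf 0))) (.nd (.nd (.lf 0x104c) (.lf 0)) (.nd (.lf 0xf81) (.lf 0)))) (.nd (.nd (.nd (.lf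 0x0) (.lf 0)) (.nd (.lf 0x10e4) (.lf 0))) (.nd (.nd (.lf 0x0) (.lf 0)) (.nd (.lf 0x18d0) (.lf 0)))))) (.nd (.nd (.nd (.nd (.nd (.lf 0x0) (.lf 0x160e)) (.nd (.lf 0x1764) (.lf 0))) (.nd (.nd (.lf 0x0) (.lf 0)) (.nd (.lf 0x1271) (.lf 0)))) (.nd (.nd (.nd (.lf 0x0) (.lf 0)) (.nd (.lf 0x787) (.lf 0))) (.nd (.nd (.lf 0x0) (.lf 0)) (.nd (.lf 0x1533) (.lf 0))))) (.nd (.nd (.nd (.nd (.lf 0x0) (.lf 0x9f6)) (.nd (.lf 0x0) (.lf 0))) (.nd (.nd (.lf 0x18f6) (.lf 0)) (.nd (.lf 0x6ec) (.lf 0)))) (.nd (.nd (.nd (.lf 0xa90) (.lf 0)) (.nd (.lf 0xdd7) (.lf 0))) (.nd (.nd (.lf 0xe48) (.lf 0)) (.nd (.lf 0x6bb) (.lf 0)))))))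
def witQ1_naababa : Tr := (.nd (.nd (.nd (.nd (.nd (.nd (.lf 0x0) (.lf 0x1dcd)) (.nd (.lf 0x0) (.lf 0))) (.nd (.nd (.lf 0x0) (.lf 0)) (.nd (.lf 0x1c69) (.lf 0)))) (.nd (.nd (.nd (.lf 0x0) (.lf 0)) (.nd (.lf 0x11d1) (.lf 0))) (.nd (.nd (.lf 0x0) (.lf 0)) (.nd (.lf 0x1bd1) (.lf 0))))) (.nd (.nd (.nd (.nd (.lf 0x0) (.lf 0x15c2)) (.nd (.lf 0x1949) (.lf 0))) (.nd (.nd (.lf 0x1b45) (.lf 0)) (.nd (.lf 0xbdb) (.lf 0)))) (.nd (.nd (.nd (.lf 0x0) (.lf 0)) (.nd (.lf 0x1bb2) (.lf 0))) (.nd (.nd (.lf 0x1b81) (.lf 0)) (.nd (.lf 0xf8b) (.lf 0)))))) (.nd (.nd (.nd (.nd (.nd (.lf 0x0) (.lf 0x6f8)) (.nd (.lf 0x1ce) (.lf 0))) (.nd (.nd (.lf 0x1d31) (.lf 0)) (.nd (.lf 0x1d22) (.lf 0)))) (.nd (.nd (.nd (.lf 0x0) (.lf 0)) (.nd (.lf 0x898) (.lf 0)))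 (.nd (.nd (.lf 0x16c) (.lf 0)) (.nd (.lf 0x13fe) (.lf 0))))) (.nd (.nd (.nd (.nd (.lf 0x0) (.lf 0x1858)) (.nd (.lf 0x0) (.lf 0))) (.nd (.nd (.lf 0x1a21) (.lf 0)) (.nd (.lf 0xeaa) (.lf 0)))) (.nd (.nd (.nd (.lf 0x96b) (.lf 0)) (.nd (.lf 0xd70) (.lf 0))) (.nd (.nd (.lf 0x12ff) (.lf 0)) (.nd (.lf 0x24d) (.lf 0)))))))
def witQ1_naababb : Tr := (.nd (.nd (.nd (.nd (.nd (.nd (.lf 0x0) (.lf 0xd64)) (.nd (.lf 0x0) (.lf 0))) (.nd (.nd (.lf 0x0) (.lf 0)) (.nd (.lf 0x1d3d) (.lf 0)))) (.nd (.nd (.nd (.lf 0x0) (.lf 0)) (.nd (.lf 0x0) (.lf 0))) (.nd (.nd (.lf 0x0) (.lf 0)) (.nd (.lf 0x1657) (.lf 0))))) (.nd (.nd (.nd (.nd (.lf 0x0) (.lf 0x1aae)) (.nd (.lf 0x1c4d) (.lf 0))) (.nd (.nd (.lf 0x0) (.lf 0)) (.nd (.lf 0x1db4) (.lf 0)))) (.nd (.nd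 (.nd (.lf 0x0) (.lf 0)) (.nd (.lf 0x10ca) (.lf 0))) (.nd (.nd (.lf 0x1615) (.lf 0)) (.nd (.lf 0x1557) (.lf 0)))))) (.nd (.nd (.nd (.nd (.nd (.lf 0x0) (.lf 0x1763)) (.nd (.lf 0x13d) (.lf 0))) (.nd (.nd (.lf 0x64e) (.lf 0)) (.nd (.lf 0x983) (.lf 0)))) (.nd (.nd (.nd (.lf 0x0) (.lf 0)) (.nd (.lf 0x19af) (.lf 0))) (.nd (.nd (.lf 0x11dd) (.lf 0)) (.nd (.lf 0x184) (.lf 0))))) (.nd (.nd (.nd (.nd (.lf 0x0) (.lf 0x887)) (.nd (.lf 0x17fd) (.lf 0))) (.nd (.nd (.lf 0x0) (.lf 0)) (.nd (.lf 0xbed) (.lf 0)))) (.nd (.nd (.nd (.lf 0xdd9) (.lf 0)) (.nd (.lf 0xa8d) (.lf 0))) (.nd (.nd (.lf 0x1645) (.lf 0)) (.nd (.lf 0x1b4b) (.lf 0)))))))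
def witQ1_naabbaa : Tr := (.nd (.nd (.nd (.nd (.nd (.nd (.lf 0x0) (.lf 0x18ec)) (.nd (.lf 0x1e71) (.lf 0))) (.nd (.nd (.lf 0x0) (.lf 0)) (.nd (.lf 0x113e) (.lf 0)))) (.nd (.nd (.nd (.lf 0x0) (.lf 0)) (.nd (.lf 0x18d7) (.lf 0))) (.nd (.nd (.lf 0x0) (.lf 0)) (.nd (.lf 0x88b) (.lf 0))))) (.nd (.nd (.nd (.nd (.lf 0x0) (.lf 0x660)) (.nd (.lf 0x1b1a) (.lf 0))) (.nd (.nd (.lf 0x0) (.lf 0)) (.nd (.lf 0x13e6) (.lf 0)))) (.nd (.nd (.nd (.lf 0x0) (.lf 0)) (.nd (.lf 0x1124) (.lf 0))) (.nd (.nd (.lf 0x10b2) (.lf 0)) (.nd (.lf 0x17d3) (.lf 0)))))) (.nd (.nd (.nd (.nd (.nd (.lf 0x0) (.lf 0x66e)) (.nd (.lf 0x81b) (.lf 0))) (.nd (.nd (.lf 0x0) (.lf 0)) (.nd (.lf 0x15e4) (.lf 0)))) (.nd (.nd (.nd (.lf 0x0) (.lf 0)) (.nd (.lf 0x800) (.lf 0)))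 (.nd (.nd (.lf 0x0) (.lf 0)) (.nd (.lf 0x0) (.lf 0))))) (.nd (.nd (.nd (.nd (.lf 0x114c) (.lf 0x7e3)) (.nd (.lf 0x1a06) (.lf 0))) (.nd (.nd (.lf 0x195e) (.lf 0)) (.nd (.lf 0x4d1) (.lf 0)))) (.nd (.nd (.nd (.lf 0x0) (.lf 0)) (.nd (.lf 0x15b5) (.lf 0))) (.nd (.nd (.lf 0x0) (.lf 0)) (.nd (.lf 0x1bac) (.lf 0)))))))
def witQ1_naabbab : Tr := (.nd (.nd (.nd (.nd (.nd (.nd (.lf 0x0) (.lf 0x10ab)) (.nd (.lf 0x10a8) (.lf 0))) (.nd (.nd (.lf 0x0) (.lf 0)) (.nd (.lf 0x18df) (.lf 0)))) (.nd (.nd (.nd (.lf 0x0) (.lf 0)) (.nd (.lf 0x8ac) (.lf 0))) (.nd (.nd (.lf 0x855) (.lf 0)) (.nd (.lf 0x1a9c) (.lf 0))))) (.nd (.nd (.nd (.nd (.lf 0x96e) (.lf 0xad9)) (.nd (.lf 0x150e) (.lf 0))) (.nd (.nd (.lf 0x0) (.lf 0)) (.nd (.lf 0x1d8) (.lf 0)))) (.nd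 (.nd (.nd (.lf 0x0) (.lf 0)) (.nd (.lf 0x167b) (.lf 0))) (.nd (.nd (.lf 0x1a84) (.lf 0)) (.nd (.lf 0xfb5) (.lf 0)))))) (.nd (.nd (.nd (.nd (.nd (.lf 0x0) (.lf 0x175c)) (.nd (.lf 0x1c40) (.lf 0))) (.nd (.nd (.lf 0x6d1) (.lf 0)) (.nd (.lf 0x1567) (.lf 0)))) (.nd (.nd (.nd (.lf 0xeb6) (.lf 0)) (.nd (.lf 0x51b) (.lf 0))) (.nd (.nd (.lf 0x0) (.lf 0)) (.nd (.lf 0x19d6) (.lf 0))))) (.nd (.nd (.nd (.nd (.lf 0x0) (.lf 0x190e)) (.nd (.lf 0x13f9) (.lf 0))) (.nd (.nd (.lf 0x1aba) (.lf 0)) (.nd (.lf 0x1089) (.lf 0)))) (.nd (.nd (.nd (.lf 0x1ae2) (.lf 0)) (.nd (.lf 0x197f) (.lf 0))) (.nd (.nd (.lf 0x1b13) (.lf 0)) (.nd (.lf 0x235) (.lf 0)))))))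
def witQ1_naabbba : Tr := (.nd (.nd (.nd (.nd (.nd (.nd (.lf 0x0) (.lf 0x0)) (.nd (.lf 0xb01) (.lf 0))) (.nd (.nd (.lf 0xf25) (.lf 0)) (.nd (.lf 0x1747) (.lf 0)))) (.nd (.nd (.nd (.lf 0x9a0) (.lf 0)) (.nd (.lf 0xf57) (.lf 0))) (.nd (.nd (.lf 0x0) (.lf 0)) (.nd (.lf 0xd96) (.lf 0))))) (.nd (.nd (.nd (.nd (.lf 0x0) (.lf 0x128c)) (.nd (.lf 0x2ec) (.lf 0))) (.nd (.nd (.lf 0x5b3) (.lf 0)) (.nd (.lf 0x138f) (.lf 0)))) (.nd (.nd (.nd (.lf 0x78f) (.lf 0)) (.nd (.lf 0x1134) (.lf 0))) (.nd (.nd (.lf 0x0) (.lf 0)) (.nd (.lf 0xd77) (.lf 0)))))) (.nd (.nd (.nd (.nd (.nd (.lf 0x0) (.lf 0x1207)) (.nd (.lf 0x1b83) (.lf 0))) (.nd (.nd (.lf 0x0) (.lf 0)) (.nd (.lf 0x16d0) (.lf 0)))) (.nd (.nd (.nd (.lf 0x0) (.lf 0)) (.nd (.lf 0x159) (.lf 0)))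 (.nd (.nd (.lf 0x0) (.lf 0)) (.nd (.lf 0x1a89) (.lf 0))))) (.nd (.nd (.nd (.nd (.lf 0x0) (.lf 0x1308)) (.nd (.lf 0x3bc) (.lf 0))) (.nd (.nd (.lf 0x0) (.lf 0)) (.nd (.lf 0x0) (.lf 0)))) (.nd (.nd (.nd (.lf 0x0) (.lf 0)) (.nd (.lf 0x9f5) (.lf 0))) (.nd (.nd (.lf 0x0) (.lf 0)) (.nd (.lf 0x175a) (.lf 0)))))))
def witQ1_naabbbb : Tr := (.nd (.nd (.nd (.nd (.nd (.nd (.lf 0x0) (.lf 0x1cea)) (.nd (.lf 0x0) (.lf 0))) (.nd (.nd (.lf 0x1c19) (.lf 0)) (.nd (.lf 0xc9f) (.lf 0)))) (.nd (.nd (.nd (.lf 0x0) (.lf 0)) (.nd (.lf 0x0) (.lf 0))) (.nd (.nd (.lf 0xde) (.lf 0)) (.nd (.lf 0x51b) (.lf 0))))) (.nd (.nd (.nd (.nd (.lf 0x0) (.lf 0x168e)) (.nd (.lf 0x0) (.lf 0))) (.nd (.nd (.lf 0x9c8) (.lf 0)) (.nd (.lf 0x19e0) (.lf 0)))) (.nd (.nd (.nd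 (.lf 0x1849) (.lf 0)) (.nd (.lf 0x91d) (.lf 0))) (.nd (.nd (.lf 0x1c16) (.lf 0)) (.nd (.lf 0xa1c) (.lf 0)))))) (.nd (.nd (.nd (.nd (.nd (.lf 0x0) (.lf 0xcfc)) (.nd (.lf 0x11df) (.lf 0))) (.nd (.nd (.lf 0x0) (.lf 0)) (.nd (.lf 0x1055) (.lf 0)))) (.nd (.nd (.nd (.lf 0x0) (.lf 0)) (.nd (.lf 0x1838) (.lf 0))) (.nd (.nd (.lf 0xbac) (.lf 0)) (.nd (.lf 0xdf2) (.lf 0))))) (.nd (.nd (.nd (.nd (.lf 0x0) (.lf 0xba5)) (.nd (.lf 0x71) (.lf 0))) (.nd (.nd (.lf 0x0) (.lf 0)) (.nd (.lf 0xf6c) (.lf 0)))) (.nd (.nd (.nd (.lf 0x0) (.lf 0)) (.nd (.lf 0x335) (.lf 0))) (.nd (.nd (.lf 0x38d) (.lf 0)) (.nd (.lf 0x545) (.lf 0)))))))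
def witQ1_nabaaaa : Tr := (.nd (.nd (.nd (.nd (.nd (.nd (.lf 0x0) (.lf 0x8da)) (.nd (.lf 0x56c) (.lf 0))) (.nd (.nd (.lf 0x0) (.lf 0)) (.nd (.lf 0x412) (.lf 0)))) (.nd (.nd (.nd (.lf 0x1117) (.lf 0)) (.nd (.lf 0x0) (.lf 0))) (.nd (.nd (.lf 0xba0) (.lf 0)) (.nd (.lf 0x1b29) (.lf 0))))) (.nd (.nd (.nd (.nd (.lf 0x0) (.lf 0x1375)) (.nd (.lf 0x5f1) (.lf 0))) (.nd (.nd (.lf 0x0) (.lf 0)) (.nd (.lf 0x0) (.lf 0)))) (.nd (.nd (.nd (.lf 0x0) (.lf 0)) (.nd (.lf 0x150) (.lf 0))) (.nd (.nd (.lf 0x3b5) (.lf 0)) (.nd (.lf 0x1e23) (.lf 0)))))) (.nd (.nd (.nd (.nd (.nd (.lf 0x0) (.lf 0x1943)) (.nd (.lf 0x1e68) (.lf 0))) (.nd (.nd (.lf 0xf89) (.lf 0)) (.nd (.lf 0x1255) (.lf 0)))) (.nd (.nd (.nd (.lf 0x0) (.lf 0)) (.nd (.lf 0x17b) (.lf 0))) (.nd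 (.nd (.lf 0xdea) (.lf 0)) (.nd (.lf 0x11d6) (.lf 0))))) (.nd (.nd (.nd (.nd (.lf 0x0) (.lf 0xbf5)) (.nd (.lf 0x1357) (.lf 0))) (.nd (.nd (.lf 0x0) (.lf 0)) (.nd (.lf 0x13be) (.lf 0)))) (.nd (.nd (.nd (.lf 0x0) (.lf 0)) (.nd (.lf 0xcd0) (.lf 0))) (.nd (.nd (.lf 0x16a4) (.lf 0)) (.nd (.lf 0x19ab) (.lf 0)))))))
def witQ1_nabaaab : Tr := (.nd (.nd (.nd (.nd (.nd (.nd (.lf 0x0) (.lf 0x8bb)) (.nd (.lf 0x0) (.lf 0))) (.nd (.nd (.lf 0x4a0) (.lf 0)) (.nd (.lf 0x105f) (.lf 0)))) (.nd (.nd (.nd (.lf 0x0) (.lf 0)) (.nd (.lf 0x1331) (.lf 0))) (.nd (.nd (.lf 0x2cd) (.lf 0)) (.nd (.lf 0x7a) (.lf 0))))) (.nd (.nd (.nd (.nd (.lf 0x0) (.lf 0x656)) (.nd (.lf 0x0) (.lf 0))) (.nd (.nd (.lf 0x164) (.lf 0)) (.nd (.lf 0x0) (.lf 0)))) (.nd (.nd (.nd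 (.lf 0xe8c) (.lf 0)) (.nd (.lf 0xcad) (.lf 0))) (.nd (.nd (.lf 0xbda) (.lf 0)) (.nd (.lf 0x185a) (.lf 0)))))) (.nd (.nd (.nd (.nd (.nd (.lf 0x0) (.lf 0x14bc)) (.nd (.lf 0x1b21) (.lf 0))) (.nd (.nd (.lf 0xde6) (.lf 0)) (.nd (.lf 0x1d9a) (.lf 0)))) (.nd (.nd (.nd (.lf 0x0) (.lf 0)) (.nd (.lf 0x0) (.lf 0))) (.nd (.nd (.lf 0x0) (.lf 0)) (.nd (.lf 0xeb3) (.lf 0))))) (.nd (.nd (.nd (.nd (.lf 0xb94) (.lf 0x11b7)) (.nd (.lf 0x1ba9) (.lf 0))) (.nd (.nd (.lf 0x1986) (.lf 0)) (.nd (.lf 0xcc2) (.lf 0)))) (.nd (.nd (.nd (.lf 0x0) (.lf 0)) (.nd (.lf 0x1755) (.lf 0))) (.nd (.nd (.lf 0x16cd) (.lf 0)) (.nd (.lf 0xc4f) (.lf 0)))))))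
def witQ1_nabaaba : Tr := (.nd (.nd (.nd (.nd (.nd (.nd (.lf 0x0) (.lf 0x1371)) (.nd (.lf 0x0) (.lf 0))) (.nd (.nd (.lf 0x106a) (.lf 0)) (.nd (.lf 0x1cb2) (.lf 0)))) (.nd (.nd (.nd (.lf 0x0) (.lf 0)) (.nd (.lf 0x0) (.lf 0))) (.nd (.nd (.lf 0x0) (.lf 0)) (.nd (.lf 0x6d3) (.lf 0))))) (.nd (.nd (.nd (.nd (.lf 0x0) (.lf 0x1519)) (.nd (.lf 0x0) (.lf 0))) (.nd (.nd (.lf 0x1d1d) (.lf 0)) (.nd (.lf 0x33d) (.lf 0)))) (.nd (.nd (.nd (.lf 0xfa1) (.lf 0)) (.nd (.lf 0x1364) (.lf 0))) (.nd (.nd (.lf 0x8ab) (.lf 0)) (.nd (.lf 0x107d) (.lf 0)))))) (.nd (.nd (.nd (.nd (.nd (.lf 0x0) (.lf 0x7ac)) (.nd (.lf 0x0) (.lf 0))) (.nd (.nd (.lf 0xb58) (.lf 0)) (.nd (.lf 0x0) (.lf 0)))) (.nd (.nd (.nd (.lf 0x0) (.lf 0)) (.nd (.lf 0x3d5) (.lf 0))) (.nd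 (.nd (.lf 0x1293) (.lf 0)) (.nd (.lf 0x1311) (.lf 0))))) (.nd (.nd (.nd (.nd (.lf 0x354) (.lf 0x5aa)) (.nd (.lf 0x19eb) (.lf 0))) (.nd (.nd (.lf 0x349) (.lf 0)) (.nd (.lf 0x92d) (.lf 0)))) (.nd (.nd (.nd (.lf 0x0) (.lf 0)) (.nd (.lf 0x1d86) (.lf 0))) (.nd (.nd (.lf 0x0) (.lf 0)) (.nd (.lf 0x470) (.lf 0)))))))
def witQ1_nabaabb : Tr := (.nd (.nd (.nd (.nd (.nd (.nd (.lf 0x0) (.lf 0x137b)) (.nd (.lf 0x0) (.lf 0))) (.nd (.nd (.lf 0x0) (.lf 0)) (.nd (.lf 0x35) (.lf 0)))) (.nd (.nd (.nd (.lf 0x1beb) (.lf 0)) (.nd (.lf 0x149e) (.lf 0))) (.nd (.nd (.lf 0x0) (.lf 0)) (.nd (.lf 0x10d7) (.lf 0))))) (.nd (.nd (.nd (.nd (.lf 0x252) (.lf 0x159b)) (.nd (.lf 0x17dc) (.lf 0))) (.nd (.nd (.lf 0x0) (.lf 0)) (.nd (.lf 0xb2f) (.lf 0)))) (.nd (.nd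 (.nd (.lf 0xb43) (.lf 0)) (.nd (.lf 0xd19) (.lf 0))) (.nd (.nd (.lf 0x13ee) (.lf 0)) (.nd (.lf 0x1747) (.lf 0)))))) (.nd (.nd (.nd (.nd (.nd (.lf 0x0) (.lf 0x515)) (.nd (.lf 0xa0c) (.lf 0))) (.nd (.nd (.lf 0x0) (.lf 0)) (.nd (.lf 0x3e8) (.lf 0)))) (.nd (.nd (.nd (.lf 0x0) (.lf 0)) (.nd (.lf 0x42f) (.lf 0))) (.nd (.nd (.lf 0xf3d) (.lf 0)) (.nd (.lf 0x6df) (.lf 0))))) (.nd (.nd (.nd (.nd (.lf 0x12ce) (.lf 0x164f)) (.nd (.lf 0x1a1) (.lf 0))) (.nd (.nd (.lf 0x0) (.lf 0)) (.nd (.lf 0xf76) (.lf 0)))) (.nd (.nd (.nd (.lf 0x0) (.lf 0)) (.nd (.lf 0x1a72) (.lf 0))) (.nd (.nd (.lf 0x1f7) (.lf 0)) (.nd (.lf 0x6e5) (.lf 0)))))))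
def witQ1_nababaa : Tr := (.nd (.nd (.nd (.nd (.nd (.nd (.lf 0x0) (.lf 0x160c)) (.nd (.lf 0x1254) (.lf 0))) (.nd (.nd (.lf 0x11e4) (.lf 0)) (.nd (.lf 0x87f) (.lf 0)))) (.nd (.nd (.nd (.lf 0xd5e) (.lf 0)) (.nd (.lf 0x1712) (.lf 0))) (.nd (.nd (.lf 0x0) (.lf 0)) (.nd (.lf 0xa59) (.lf 0))))) (.nd (.nd (.nd (.nd (.lf 0x0) (.lf 0xc35)) (.nd (.lf 0x763) (.lf 0))) (.nd (.nd (.lf 0x0) (.lf 0)) (.nd (.lf 0x7c5) (.lf 0)))) (.nd (.nd (.nd (.lf 0x0) (.lf 0)) (.nd (.lf 0x1d15) (.lf 0))) (.nd (.nd (.lf 0x1cb9) (.lf 0)) (.nd (.lf 0x129b) (.lf 0)))))) (.nd (.nd (.nd (.nd (.nd (.lf 0x0) (.lf 0x17d0)) (.nd (.lf 0x22d) (.lf 0))) (.nd (.nd (.lf 0x4b6) (.lf 0)) (.nd (.lf 0x5e6) (.lf 0)))) (.nd (.nd (.nd (.lf 0x0) (.lf 0)) (.nd (.lf 0x147a) (.lf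 0))) (.nd (.nd (.lf 0x0) (.lf 0)) (.nd (.lf 0xee5) (.lf 0))))) (.nd (.nd (.nd (.nd (.lf 0x0) (.lf 0x55e)) (.nd (.lf 0x1be3) (.lf 0))) (.nd (.nd (.lf 0x503) (.lf 0)) (.nd (.lf 0xdb7) (.lf 0)))) (.nd (.nd (.nd (.lf 0x0) (.lf 0)) (.nd (.lf 0xf16) (.lf 0))) (.nd (.nd (.lf 0x0) (.lf 0)) (.nd (.lf 0x1b2f) (.lf 0)))))))
def witQ1_nababab : Tr := (.nd (.nd (.nd (.nd (.nd (.nd (.lf 0x0) (.lf 0x1822)) (.nd (.lf 0x802) (.lf 0))) (.nd (.nd (.lf 0x0) (.lf 0)) (.nd (.lf 0x0) (.lf 0)))) (.nd (.nd (.nd (.lf 0x0) (.lf 0)) (.nd (.lf 0x15d3) (.lf 0))) (.nd (.nd (.lf 0x0) (.lf 0)) (.nd (.lf 0x1a0d) (.lf 0))))) (.nd (.nd (.nd (.nd (.lf 0x0) (.lf 0x12a6)) (.nd (.lf 0x68b) (.lf 0))) (.nd (.nd (.lf 0x2e1) (.lf 0)) (.nd (.lf 0x12da) (.lf 0)))) (.nd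 (.nd (.nd (.lf 0x0) (.lf 0)) (.nd (.lf 0x19c8) (.lf 0))) (.nd (.nd (.lf 0x18a1) (.lf 0)) (.nd (.lf 0x191d) (.lf 0)))))) (.nd (.nd (.nd (.nd (.nd (.lf 0x0) (.lf 0x1c9f)) (.nd (.lf 0x15a9) (.lf 0))) (.nd (.nd (.lf 0x854) (.lf 0)) (.nd (.lf 0x136d) (.lf 0)))) (.nd (.nd (.nd (.lf 0x0) (.lf 0)) (.nd (.lf 0xb65) (.lf 0))) (.nd (.nd (.lf 0x8e8) (.lf 0)) (.nd (.lf 0x1071) (.lf 0))))) (.nd (.nd (.nd (.nd (.lf 0x0) (.lf 0x454)) (.nd (.lf 0x13fa) (.lf 0))) (.nd (.nd (.lf 0x6e0) (.lf 0)) (.nd (.lf 0x1a9f) (.lf 0)))) (.nd (.nd (.nd (.lf 0x0) (.lf 0)) (.nd (.lf 0x174b) (.lf 0))) (.nd (.nd (.lf 0xca) (.lf 0)) (.nd (.lf 0x1ae) (.lf 0)))))))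
def witQ1_nababba : Tr := (.nd (.nd (.nd (.nd (.nd (.nd (.lf 0x0) (.lf 0x142e)) (.nd (.lf 0x149a) (.lf 0))) (.nd (.nd (.lf 0x160b) (.lf 0)) (.nd (.lf 0x68a) (.lf 0)))) (.nd (.nd (.nd (.lf 0x0) (.lf 0)) (.nd (.lf 0x0) (.lf 0))) (.nd (.nd (.lf 0x0) (.lf 0)) (.nd (.lf 0x0) (.lf 0))))) (.nd (.nd (.nd (.nd (.lf 0x0) (.lf 0x1957)) (.nd (.lf 0x0) (.lf 0))) (.nd (.nd (.lf 0x0) (.lf 0)) (.nd (.lf 0x7cd) (.lf 0)))) (.nd (.nd (.nd (.lf 0x0) (.lf 0)) (.nd (.lf 0x1b05) (.lf 0))) (.nd (.nd (.lf 0x180e) (.lf 0)) (.nd (.lf 0x159b) (.lf 0)))))) (.nd (.nd (.nd (.nd (.nd (.lf 0x0) (.lf 0x1add)) (.nd (.lf 0x15cf) (.lf 0))) (.nd (.nd (.lf 0x19a8) (.lf 0)) (.nd (.lf 0x0) (.lf 0)))) (.nd (.nd (.nd (.lf 0x45d) (.lf 0)) (.nd (.lf 0x16f9) (.lf 0))) (.nd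 (.nd (.lf 0xb75) (.lf 0)) (.nd (.lf 0xfbb) (.lf 0))))) (.nd (.nd (.nd (.nd (.lf 0x0) (.lf 0x18a9)) (.nd (.lf 0x965) (.lf 0))) (.nd (.nd (.lf 0x0) (.lf 0)) (.nd (.lf 0xc4d) (.lf 0)))) (.nd (.nd (.nd (.lf 0x0) (.lf 0)) (.nd (.lf 0x0) (.lf 0))) (.nd (.nd (.lf 0x4ca) (.lf 0)) (.nd (.lf 0x1a02) (.lf 0)))))))
def witQ1_nababbb : Tr := (.nd (.nd (.nd (.nd (.nd (.nd (.lf 0x0) (.lf 0x1231)) (.nd (.lf 0x19b3) (.lf 0))) (.nd (.nd (.lf 0xc48) (.lf 0)) (.nd (.lf 0xfd8) (.lf 0)))) (.nd (.nd (.nd (.lf 0x0) (.lf 0)) (.nd (.lf 0x6ba) (.lf 0))) (.nd (.nd (.lf 0xb77) (.lf 0)) (.nd (.lf 0x118a) (.lf 0))))) (.nd (.nd (.nd (.nd (.lf 0x0) (.lf 0x9cd)) (.nd (.lf 0x196e) (.lf 0))) (.nd (.nd (.lf 0x1ca6) (.lf 0)) (.nd (.lf 0x65a) (.lf 0)))) (.nd (.nd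 (.nd (.lf 0x0) (.lf 0)) (.nd (.lf 0x459) (.lf 0))) (.nd (.nd (.lf 0x1128) (.lf 0)) (.nd (.lf 0xcec) (.lf 0)))))) (.nd (.nd (.nd (.nd (.nd (.lf 0x0) (.lf 0x9c3)) (.nd (.lf 0x26f) (.lf 0))) (.nd (.nd (.lf 0x0) (.lf 0)) (.nd (.lf 0x1349) (.lf 0)))) (.nd (.nd (.nd (.lf 0x0) (.lf 0)) (.nd (.lf 0x646) (.lf 0))) (.nd (.nd (.lf 0x8b3) (.lf 0)) (.nd (.lf 0x1bc6) (.lf 0))))) (.nd (.nd (.nd (.nd (.lf 0x0) (.lf 0x1598)) (.nd (.lf 0x159d) (.lf 0))) (.nd (.nd (.lf 0x0) (.lf 0)) (.nd (.lf 0x0) (.lf 0)))) (.nd (.nd (.nd (.lf 0x8bb) (.lf 0)) (.nd (.lf 0x1888) (.lf 0))) (.nd (.nd (.lf 0x1b38) (.lf 0)) (.nd (.lf 0x1e1e) (.lf 0)))))))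
def witQ1_nabbaaa : Tr := (.nd (.nd (.nd (.nd (.nd (.nd (.lf 0x0) (.lf 0xb90)) (.nd (.lf 0x193d) (.lf 0))) (.nd (.nd (.lf 0x0) (.lf 0)) (.nd (.lf 0xb38) (.lf 0)))) (.nd (.nd (.nd (.lf 0x0) (.lf 0)) (.nd (.lf 0x9e4) (.lf 0))) (.nd (.nd (.lf 0x0) (.lf 0)) (.nd (.lf 0x4bf) (.lf 0))))) (.nd (.nd (.nd (.nd (.lf 0x0) (.lf 0x4d8)) (.nd (.lf 0x0) (.lf 0))) (.nd (.nd (.lf 0xd36) (.lf 0)) (.nd (.lf 0x17da) (.lf 0)))) (.nd (.nd (.nd (.lf 0x0) (.lf 0)) (.nd (.lf 0xd45) (.lf 0))) (.nd (.nd (.lf 0x0) (.lf 0)) (.nd (.lf 0xfec) (.lf 0)))))) (.nd (.nd (.nd (.nd (.nd (.lf 0x0) (.lf 0xdb9)) (.nd (.lf 0x1ca7) (.lf 0))) (.nd (.nd (.lf 0x1d46) (.lf 0)) (.nd (.lf 0x1d9f) (.lf 0)))) (.nd (.nd (.nd (.lf 0x0) (.lf 0)) (.nd (.lf 0x19ea) (.lf 0))) (.nd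 (.nd (.lf 0x0) (.lf 0)) (.nd (.lf 0x1bf8) (.lf 0))))) (.nd (.nd (.nd (.nd (.lf 0x0) (.lf 0xd2c)) (.nd (.lf 0x1077) (.lf 0))) (.nd (.nd (.lf 0x282) (.lf 0)) (.nd (.lf 0x1414) (.lf 0)))) (.nd (.nd (.nd (.lf 0x0) (.lf 0)) (.nd (.lf 0x3a9) (.lf 0))) (.nd (.nd (.lf 0x1c54) (.lf 0)) (.nd (.lf 0x489) (.lf 0)))))))
def witQ1_nabbaab : Tr := (.nd (.nd (.nd (.nd (.nd (.nd (.lf 0x0) (.lf 0x1fa)) (.nd (.lf 0x1cee) (.lf 0))) (.nd (.nd (.lf 0x1119) (.lf 0)) (.nd (.lf 0x21d) (.lf 0)))) (.nd (.nd (.nd (.lf 0x17c) (.lf 0)) (.nd (.lf 0x4c9) (.lf 0))) (.nd (.nd (.lf 0x0) (.lf 0)) (.nd (.lf 0x0) (.lf 0))))) (.nd (.nd (.nd (.nd (.lf 0x0) (.lf 0x19dd)) (.nd (.lf 0x189d) (.lf 0))) (.nd (.nd (.lf 0xf22) (.lf 0)) (.nd (.lf 0x139c) (.lf 0)))) (.nd (.nd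 (.nd (.lf 0x1130) (.lf 0)) (.nd (.lf 0x0) (.lf 0))) (.nd (.nd (.lf 0x177b) (.lf 0)) (.nd (.lf 0x876) (.lf 0)))))) (.nd (.nd (.nd (.nd (.nd (.lf 0x0) (.lf 0x2c9)) (.nd (.lf 0x16be) (.lf 0))) (.nd (.nd (.lf 0x0) (.lf 0)) (.nd (.lf 0x1b23) (.lf 0)))) (.nd (.nd (.nd (.lf 0xa2b) (.lf 0)) (.nd (.lf 0x0) (.lf 0))) (.nd (.nd (.lf 0x13) (.lf 0)) (.nd (.lf 0xe3a) (.lf 0))))) (.nd (.nd (.nd (.nd (.lf 0x0) (.lf 0x1b5e)) (.nd (.lf 0x1df9) (.lf 0))) (.nd (.nd (.lf 0x0) (.lf 0)) (.nd (.lf 0x1e4c) (.lf 0)))) (.nd (.nd (.nd (.lf 0x1312) (.lf 0)) (.nd (.lf 0x1502) (.lf 0))) (.nd (.nd (.lf 0xe) (.lf 0)) (.nd (.lf 0xd25) (.lf 0)))))))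
def witQ1_nabbaba : Tr := (.nd (.nd (.nd (.nd (.nd (.nd (.lf 0x0) (.lf 0x5c2)) (.nd (.lf 0x0) (.lf 0))) (.nd (.nd (.lf 0x0) (.lf 0)) (.nd (.lf 0x40e) (.lf 0)))) (.nd (.nd (.nd (.lf 0x1d55) (.lf 0)) (.nd (.lf 0x7cc) (.lf 0))) (.nd (.nd (.lf 0x30d) (.lf 0)) (.nd (.lf 0x5de) (.lf 0))))) (.nd (.nd (.nd (.nd (.lf 0x0) (.lf 0x13a1)) (.nd (.lf 0x0) (.lf 0))) (.nd (.nd (.lf 0x0) (.lf 0)) (.nd (.lf 0x100) (.lf 0)))) (.nd (.nd (.nd (.lf 0x0) (.lf 0)) (.nd (.lf 0x80e) (.lf 0))) (.nd (.nd (.lf 0x0) (.lf 0)) (.nd (.lf 0xa1b) (.lf 0)))))) (.nd (.nd (.nd (.nd (.nd (.lf 0x0) (.lf 0x112d)) (.nd (.lf 0xcb5) (.lf 0))) (.nd (.nd (.lf 0x0) (.lf 0)) (.nd (.lf 0x1b3d) (.lf 0)))) (.nd (.nd (.nd (.lf 0x4a0) (.lf 0)) (.nd (.lf 0x969) (.lf 0))) (.nd (.nd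 (.lf 0x8a6) (.lf 0)) (.nd (.lf 0xc27) (.lf 0))))) (.nd (.nd (.nd (.nd (.lf 0x0) (.lf 0xefe)) (.nd (.lf 0x136c) (.lf 0))) (.nd (.nd (.lf 0x1601) (.lf 0)) (.nd (.lf 0x0) (.lf 0)))) (.nd (.nd (.nd (.lf 0x0) (.lf 0)) (.nd (.lf 0x147) (.lf 0))) (.nd (.nd (.lf 0x374) (.lf 0)) (.nd (.lf 0xd50) (.lf 0)))))))
def witQ1_nabbabb : Tr := (.nd (.nd (.nd (.nd (.nd (.nd (.lf 0x0) (.lf 0xe44)) (.nd (.lf 0xf61) (.lf 0))) (.nd (.nd (.lf 0x0) (.lf 0)) (.nd (.lf 0xad0) (.lf 0)))) (.nd (.nd (.nd (.lf 0xabc) (.lf 0)) (.nd (.lf 0x57c) (.lf 0))) (.nd (.nd (.lf 0xcf7) (.lf 0)) (.nd (.lf 0xa23) (.lf 0))))) (.nd (.nd (.nd (.nd (.lf 0x0) (.lf 0x108)) (.nd (.lf 0x0) (.lf 0))) (.nd (.nd (.lf 0x3f6) (.lf 0)) (.nd (.lf 0x1a55) (.lf 0)))) (.nd (.nd (.nd (.lf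 0x0) (.lf 0)) (.nd (.lf 0x979) (.lf 0))) (.nd (.nd (.lf 0x0) (.lf 0)) (.nd (.lf 0x1d9) (.lf 0)))))) (.nd (.nd (.nd (.nd (.nd (.lf 0x0) (.lf 0x5e4)) (.nd (.lf 0x0) (.lf 0))) (.nd (.nd (.lf 0x11f1) (.lf 0)) (.nd (.lf 0xb2) (.lf 0)))) (.nd (.nd (.nd (.lf 0x0) (.lf 0)) (.nd (.lf 0xd94) (.lf 0))) (.nd (.nd (.lf 0x568) (.lf 0)) (.nd (.lf 0x610) (.lf 0))))) (.nd (.nd (.nd (.nd (.lf 0x0) (.lf 0xba3)) (.nd (.lf 0x0) (.lf 0))) (.nd (.nd (.lf 0x1140) (.lf 0)) (.nd (.lf 0xa09) (.lf 0)))) (.nd (.nd (.nd (.lf 0x7e4) (.lf 0)) (.nd (.lf 0x1804) (.lf 0))) (.nd (.nd (.lf 0x12a6) (.lf 0)) (.nd (.lf 0x1853) (.lf 0)))))))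
def witQ1_nabbbaa : Tr := (.nd (.nd (.nd (.nd (.nd (.nd (.lf 0x0) (.lf 0xefc)) (.nd (.lf 0x1d84) (.lf 0))) (.nd (.nd (.lf 0x1527) (.lf 0)) (.nd (.lf 0xbab) (.lf 0)))) (.nd (.nd (.nd (.lf 0x0) (.lf 0)) (.nd (.lf 0x12a6) (.lf 0))) (.nd (.nd (.lf 0x0) (.lf 0)) (.nd (.lf 0x1e2c) (.lf 0))))) (.nd (.nd (.nd (.nd (.lf 0x0) (.lf 0x1892)) (.nd (.lf 0x0) (.lf 0))) (.nd (.nd (.lf 0x14f4) (.lf 0)) (.nd (.lf 0xd71) (.lf 0)))) (.nd (.nd (.nd (.lf 0x0) (.lf 0)) (.nd (.lf 0x0) (.lf 0))) (.nd (.nd (.lf 0x17cf) (.lf 0)) (.nd (.lf 0x12c3) (.lf 0)))))) (.nd (.nd (.nd (.nd (.nd (.lf 0x0) (.lf 0x1af8)) (.nd (.lf 0x1c19) (.lf 0))) (.nd (.nd (.lf 0x166e) (.lf 0)) (.nd (.lf 0xa69) (.lf 0)))) (.nd (.nd (.nd (.lf 0x1b35) (.lf 0)) (.nd (.lf 0x170d) (.lf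 0))) (.nd (.nd (.lf 0xac6) (.lf 0)) (.nd (.lf 0x1e60) (.lf 0))))) (.nd (.nd (.nd (.nd (.lf 0x0) (.lf 0x1592)) (.nd (.lf 0x1dcd) (.lf 0))) (.nd (.nd (.lf 0x0) (.lf 0)) (.nd (.lf 0x1cf0) (.lf 0)))) (.nd (.nd (.nd (.lf 0x0) (.lf 0)) (.nd (.lf 0xedb) (.lf 0))) (.nd (.nd (.lf 0x0) (.lf 0)) (.nd (.lf 0x11d0) (.lf 0)))))))
def witQ1_nabbbab : Tr := (.nd (.nd (.nd (.nd (.nd (.nd (.lf 0x0) (.lf 0x1129)) (.nd (.lf 0x15ca) (.lf 0))) (.nd (.nd (.lf 0x1504) (.lf 0)) (.nd (.lf 0x153) (.lf 0)))) (.nd (.nd (.nd (.lf 0x0) (.lf 0)) (.nd (.lf 0x14cc) (.lf 0))) (.nd (.nd (.lf 0x0) (.lf 0)) (.nd (.lf 0x13da) (.lf 0))))) (.nd (.nd (.nd (.nd (.lf 0x0) (.lf 0x1ce2)) (.nd (.lf 0x1cf0) (.lf 0))) (.nd (.nd (.lf 0x1014) (.lf 0)) (.nd (.lf 0x1adb) (.lf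 0)))) (.nd (.nd (.nd (.lf 0x0) (.lf 0)) (.nd (.lf 0x0) (.lf 0))) (.nd (.nd (.lf 0x0) (.lf 0)) (.nd (.lf 0xf59) (.lf 0)))))) (.nd (.nd (.nd (.nd (.nd (.lf 0x0) (.lf 0x8eb)) (.nd (.lf 0x48) (.lf 0))) (.nd (.nd (.lf 0x0) (.lf 0)) (.nd (.lf 0x2ce) (.lf 0)))) (.nd (.nd (.nd (.lf 0x0) (.lf 0)) (.nd (.lf 0x7e6) (.lf 0))) (.nd (.nd (.lf 0x270) (.lf 0)) (.nd (.lf 0xced) (.lf 0))))) (.nd (.nd (.nd (.nd (.lf 0x19f4) (.lf 0x9dd)) (.nd (.lf 0x0) (.lf 0))) (.nd (.nd (.lf 0x8ca) (.lf 0)) (.nd (.lf 0x0) (.lf 0)))) (.nd (.nd (.nd (.lf 0x1d90) (.lf 0)) (.nd (.lf 0xb90) (.lf 0))) (.nd (.nd (.lf 0x6e3) (.lf 0)) (.nd (.lf 0x14cc) (.lf 0)))))))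
def witQ1_nabbbba : Tr := (.nd (.nd (.nd (.nd (.nd (.nd (.lf 0x0) (.lf 0x856)) (.nd (.lf 0x0) (.lf 0))) (.nd (.nd (.lf 0x0) (.lf 0)) (.nd (.lf 0x1d0f) (.lf 0)))) (.nd (.nd (.nd (.lf 0x0) (.lf 0)) (.nd (.lf 0x98f) (.lf 0))) (.nd (.nd (.lf 0x0) (.lf 0)) (.nd (.lf 0x4c5) (.lf 0))))) (.nd (.nd (.nd (.nd (.lf 0x0) (.lf 0x1e2a)) (.nd (.lf 0x1ad3) (.lf 0))) (.nd (.nd (.lf 0x0) (.lf 0)) (.nd (.lf 0xe4f) (.lf 0)))) (.nd (.nd (.nd (.lf 0x0) (.lf 0)) (.nd (.lf 0x293) (.lf 0))) (.nd (.nd (.lf 0xb5d) (.lf 0)) (.nd (.lf 0x0) (.lf 0)))))) (.nd (.nd (.nd (.nd (.nd (.lf 0x0) (.lf 0x666)) (.nd (.lf 0x1930) (.lf 0))) (.nd (.nd (.lf 0x0) (.lf 0)) (.nd (.lf 0xdef) (.lf 0)))) (.nd (.nd (.nd (.lf 0x0) (.lf 0)) (.nd (.lf 0x785) (.lf 0))) (.nd (.nd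 (.lf 0x0) (.lf 0)) (.nd (.lf 0x88f) (.lf 0))))) (.nd (.nd (.nd (.nd (.lf 0x0) (.lf 0x19de)) (.nd (.lf 0x0) (.lf 0))) (.nd (.nd (.lf 0x18c5) (.lf 0)) (.nd (.lf 0x14fb) (.lf 0)))) (.nd (.nd (.nd (.lf 0x0) (.lf 0)) (.nd (.lf 0x178) (.lf 0))) (.nd (.nd (.lf 0x57c) (.lf 0)) (.nd (.lf 0xf2c) (.lf 0)))))))
def witQ1_nabbbbb : Tr := (.nd (.nd (.nd (.nd (.nd (.nd (.lf 0x0) (.lf 0xd14)) (.nd (.lf 0x0) (.lf 0))) (.nd (.nd (.lf 0x0) (.lf 0)) (.nd (.lf 0xbd7) (.lf 0)))) (.nd (.nd (.nd (.lf 0x0) (.lf 0)) (.nd (.lf 0x76) (.lf 0))) (.nd (.nd (.lf 0x0) (.lf 0)) (.nd (.lf 0x1c34) (.lf 0))))) (.nd (.nd (.nd (.nd (.lf 0x0) (.lf 0xba9)) (.nd (.lf 0x0) (.lf 0))) (.nd (.nd (.lf 0x194d) (.lf 0)) (.nd (.lf 0x1da0) (.lf 0)))) (.nd (.nd (.nd (.lf 0x184b)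 (.lf 0)) (.nd (.lf 0x1733) (.lf 0))) (.nd (.nd (.lf 0x12e2) (.lf 0)) (.nd (.lf 0x33e) (.lf 0)))))) (.nd (.nd (.nd (.nd (.nd (.lf 0x0) (.lf 0x110f)) (.nd (.lf 0x18ce) (.lf 0))) (.nd (.nd (.lf 0x0) (.lf 0)) (.nd (.lf 0x1bc1) (.lf 0)))) (.nd (.nd (.nd (.lf 0x1c64) (.lf 0)) (.nd (.lf 0x14ee) (.lf 0))) (.nd (.nd (.lf 0x0) (.lf 0)) (.nd (.lf 0xf59) (.lf 0))))) (.nd (.nd (.nd (.nd (.lf 0x0) (.lf 0xc1c)) (.nd (.lf 0x0) (.lf 0))) (.nd (.nd (.lf 0x173d) (.lf 0)) (.nd (.lf 0x81) (.lf 0)))) (.nd (.nd (.nd (.lf 0x0) (.lf 0)) (.nd (.lf 0xef6) (.lf 0))) (.nd (.nd (.lf 0xd60) (.lf 0)) (.nd (.lf 0x545) (.lf 0)))))))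
def witQ1_nbaaaaa : Tr := (.nd (.nd (.nd (.nd (.nd (.nd (.lf 0x0) (.lf 0x13f6)) (.nd (.lf 0xbdd) (.lf 0))) (.nd (.nd (.lf 0x0) (.lf 0)) (.nd (.lf 0x2ac) (.lf 0)))) (.nd (.nd (.nd (.lf 0x0) (.lf 0)) (.nd (.lf 0xb1a) (.lf 0))) (.nd (.nd (.lf 0x0) (.lf 0)) (.nd (.lf 0x1852) (.lf 0))))) (.nd (.nd (.nd (.nd (.lf 0x0) (.lf 0x535)) (.nd (.lf 0x100b) (.lf 0))) (.nd (.nd (.lf 0x16cf) (.lf 0)) (.nd (.lf 0x1cec) (.lf 0)))) (.nd (.nd (.nd (.lf 0x0) (.lf 0)) (.nd (.lf 0xb53) (.lf 0))) (.nd (.nd (.lf 0x0) (.lf 0)) (.nd (.lf 0x88) (.lf 0)))))) (.nd (.nd (.nd (.nd (.nd (.lf 0x0) (.lf 0x538)) (.nd (.lf 0xa5c) (.lf 0))) (.nd (.nd (.lf 0x1c70) (.lf 0)) (.nd (.lf 0xb2a) (.lf 0)))) (.nd (.nd (.nd (.lf 0xe6d) (.lf 0)) (.nd (.lf 0x172) (.lf 0))) (.nd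 (.nd (.lf 0x1dce) (.lf 0)) (.nd (.lf 0x16d0) (.lf 0))))) (.nd (.nd (.nd (.nd (.lf 0x0) (.lf 0xa85)) (.nd (.lf 0x124f) (.lf 0))) (.nd (.nd (.lf 0x0) (.lf 0)) (.nd (.lf 0x7fe) (.lf 0)))) (.nd (.nd (.nd (.lf 0x546) (.lf 0)) (.nd (.lf 0x35e) (.lf 0))) (.nd (.nd (.lf 0x705) (.lf 0)) (.nd (.lf 0xeb0) (.lf 0)))))))
def witQ1_nbaaaab : Tr := (.nd (.nd (.nd (.nd (.nd (.nd (.lf 0x0) (.lf 0x0)) (.nd (.lf 0x3e) (.lf 0))) (.nd (.nd (.lf 0xfa) (.lf 0)) (.nd (.lf 0x10f3) (.lf 0)))) (.nd (.nd (.nd (.lf 0x0) (.lf 0)) (.nd (.lf 0x1aaf) (.lf 0))) (.nd (.nd (.lf 0x0) (.lf 0)) (.nd (.lf 0x1e56) (.lf 0))))) (.nd (.nd (.nd (.nd (.lf 0x0) (.lf 0x140b)) (.nd (.lf 0x0) (.lf 0))) (.nd (.nd (.lf 0xc39) (.lf 0)) (.nd (.lf 0x47) (.lf 0)))) (.nd (.nd (.nd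 (.lf 0x0) (.lf 0)) (.nd (.lf 0x0) (.lf 0))) (.nd (.nd (.lf 0x1355) (.lf 0)) (.nd (.lf 0x143c) (.lf 0)))))) (.nd (.nd (.nd (.nd (.nd (.lf 0xed7) (.lf 0xe6b)) (.nd (.lf 0x66c) (.lf 0))) (.nd (.nd (.lf 0x14a1) (.lf 0)) (.nd (.lf 0x182) (.lf 0)))) (.nd (.nd (.nd (.lf 0x0) (.lf 0)) (.nd (.lf 0x111a) (.lf 0))) (.nd (.nd (.lf 0x13ed) (.lf 0)) (.nd (.lf 0x52c) (.lf 0))))) (.nd (.nd (.nd (.nd (.lf 0x0) (.lf 0x1822)) (.nd (.lf 0xb0f) (.lf 0))) (.nd (.nd (.lf 0x0) (.lf 0)) (.nd (.lf 0xf1e) (.lf 0)))) (.nd (.nd (.nd (.lf 0x0) (.lf 0)) (.nd (.lf 0x1975) (.lf 0))) (.nd (.nd (.lf 0x91e) (.lf 0)) (.nd (.lf 0x19ed) (.lf 0)))))))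
def witQ1_nbaaaba : Tr := (.nd (.nd (.nd (.nd (.nd (.nd (.lf 0x0) (.lf 0x59d)) (.nd (.lf 0x42e) (.lf 0))) (.nd (.nd (.lf 0xf93) (.lf 0)) (.nd (.lf 0xdfc) (.lf 0)))) (.nd (.nd (.nd (.lf 0x0) (.lf 0)) (.nd (.lf 0x1e49) (.lf 0))) (.nd (.nd (.lf 0x1f9) (.lf 0)) (.nd (.lf 0xd0a) (.lf 0))))) (.nd (.nd (.nd (.nd (.lf 0x0) (.lf 0x380)) (.nd (.lf 0x0) (.lf 0))) (.nd (.nd (.lf 0x0) (.lf 0)) (.nd (.lf 0x48a) (.lf 0)))) (.nd (.nd (.nd (.lf 0x0) (.lf 0)) (.nd (.lf 0x94) (.lf 0))) (.nd (.nd (.lf 0x0) (.lf 0)) (.nd (.lf 0x0) (.lf 0)))))) (.nd (.nd (.nd (.nd (.nd (.lf 0x0) (.lf 0x15de)) (.nd (.lf 0x8d0) (.lf 0))) (.nd (.nd (.lf 0x0) (.lf 0)) (.nd (.lf 0x15d6) (.lf 0)))) (.nd (.nd (.nd (.lf 0x0) (.lf 0)) (.nd (.lf 0x1cb1) (.lf 0))) (.nd (.nd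 (.lf 0xd61) (.lf 0)) (.nd (.lf 0xc81) (.lf 0))))) (.nd (.nd (.nd (.nd (.lf 0x0) (.lf 0x275)) (.nd (.lf 0xf9f) (.lf 0))) (.nd (.nd (.lf 0x0) (.lf 0)) (.nd (.lf 0x1321) (.lf 0)))) (.nd (.nd (.nd (.lf 0x0) (.lf 0)) (.nd (.lf 0x906) (.lf 0))) (.nd (.nd (.lf 0x1004) (.lf 0)) (.nd (.lf 0x396) (.lf 0)))))))
def witQ1_nbaaabb : Tr := (.nd (.nd (.nd (.nd (.nd (.nd (.lf 0x0) (.lf 0x1cba)) (.nd (.lf 0xda4) (.lf 0))) (.nd (.nd (.lf 0x21a) (.lf 0)) (.nd (.lf 0x169a) (.lf 0)))) (.nd (.nd (.nd (.lf 0xf8e) (.lf 0)) (.nd (.lf 0x16bc) (.lf 0))) (.nd (.nd (.lf 0x0) (.lf 0)) (.nd (.lf 0xcbc) (.lf 0))))) (.nd (.nd (.nd (.nd (.lf 0x0) (.lf 0x14da)) (.nd (.lf 0x23c) (.lf 0))) (.nd (.nd (.lf 0x1268) (.lf 0)) (.nd (.lf 0x141c) (.lf 0)))) (.nd (.nd (.nd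 (.lf 0x0) (.lf 0)) (.nd (.lf 0x1707) (.lf 0))) (.nd (.nd (.lf 0x0) (.lf 0)) (.nd (.lf 0x5b) (.lf 0)))))) (.nd (.nd (.nd (.nd (.nd (.lf 0x0) (.lf 0x102f)) (.nd (.lf 0xe36) (.lf 0))) (.nd (.nd (.lf 0xf9c) (.lf 0)) (.nd (.lf 0x10a7) (.lf 0)))) (.nd (.nd (.nd (.lf 0x0) (.lf 0)) (.nd (.lf 0x3a1) (.lf 0))) (.nd (.nd (.lf 0x1bb2) (.lf 0)) (.nd (.lf 0x788) (.lf 0))))) (.nd (.nd (.nd (.nd (.lf 0x0) (.lf 0x769)) (.nd (.lf 0x110a) (.lf 0))) (.nd (.nd (.lf 0x0) (.lf 0)) (.nd (.lf 0x67f) (.lf 0)))) (.nd (.nd (.nd (.lf 0x1d7a) (.lf 0)) (.nd (.lf 0x182c) (.lf 0))) (.nd (.nd (.lf 0x1d21) (.lf 0)) (.nd (.lf 0x6b) (.lf 0)))))))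
def witQ1_nbaabaa : Tr := (.nd (.nd (.nd (.nd (.nd (.nd (.lf 0x0) (.lf 0x20d)) (.nd (.lf 0x0) (.lf 0))) (.nd (.nd (.lf 0x0) (.lf 0)) (.nd (.lf 0x1831) (.lf 0)))) (.nd (.nd (.nd (.lf 0x766) (.lf 0)) (.nd (.lf 0x0) (.lf 0))) (.nd (.nd (.lf 0x4bf) (.lf 0)) (.nd (.lf 0x1b9b) (.lf 0))))) (.nd (.nd (.nd (.nd (.lf 0x8cd) (.lf 0x1573)) (.nd (.lf 0x1219) (.lf 0))) (.nd (.nd (.lf 0x0) (.lf 0)) (.nd (.lf 0x1339) (.lf 0)))) (.nd (.nd (.nd (.lf 0x0) (.lf 0)) (.nd (.lf 0xa65) (.lf 0))) (.nd (.nd (.lf 0x110) (.lf 0)) (.nd (.lf 0x479) (.lf 0)))))) (.nd (.nd (.nd (.nd (.nd (.lf 0x0) (.lf 0x1cd5)) (.nd (.lf 0xc62) (.lf 0))) (.nd (.nd (.lf 0x0) (.lf 0)) (.nd (.lf 0x702) (.lf 0)))) (.nd (.nd (.nd (.lf 0x0) (.lf 0)) (.nd (.lf 0x0) (.lf 0))) (.nd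 (.nd (.lf 0x0) (.lf 0)) (.nd (.lf 0xb30) (.lf 0))))) (.nd (.nd (.nd (.nd (.lf 0x1166) (.lf 0x1aeb)) (.nd (.lf 0x314) (.lf 0))) (.nd (.nd (.lf 0x0) (.lf 0)) (.nd (.lf 0x1cf1) (.lf 0)))) (.nd (.nd (.nd (.lf 0x0) (.lf 0)) (.nd (.lf 0x10c7) (.lf 0))) (.nd (.nd (.lf 0x0) (.lf 0)) (.nd (.lf 0x17d4) (.lf 0)))))))
def witQ1_nbaabab : Tr := (.nd (.nd (.nd (.nd (.nd (.nd (.lf 0x0) (.lf 0x0)) (.nd (.lf 0x11da) (.lf 0))) (.nd (.nd (.lf 0x0) (.lf 0)) (.nd (.lf 0x1b5e) (.lf 0)))) (.nd (.nd (.nd (.lf 0x0) (.lf 0)) (.nd (.lf 0x94b) (.lf 0))) (.nd (.nd (.lf 0x2f6) (.lf 0)) (.nd (.lf 0x17a9) (.lf 0))))) (.nd (.nd (.nd (.nd (.lf 0x0) (.lf 0x6ad)) (.nd (.lf 0x1733) (.lf 0))) (.nd (.nd (.lf 0x3ae) (.lf 0)) (.nd (.lf 0x1656) (.lf 0)))) (.nd (.nd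 (.nd (.lf 0x0) (.lf 0)) (.nd (.lf 0x1e6d) (.lf 0))) (.nd (.nd (.lf 0x1419) (.lf 0)) (.nd (.lf 0x815) (.lf 0)))))) (.nd (.nd (.nd (.nd (.nd (.lf 0x0) (.lf 0xff0)) (.nd (.lf 0x1a88) (.lf 0))) (.nd (.nd (.lf 0x0) (.lf 0)) (.nd (.lf 0x0) (.lf 0)))) (.nd (.nd (.nd (.lf 0xb55) (.lf 0)) (.nd (.lf 0xc36) (.lf 0))) (.nd (.nd (.lf 0x1549) (.lf 0)) (.nd (.lf 0xe64) (.lf 0))))) (.nd (.nd (.nd (.nd (.lf 0x0) (.lf 0xada)) (.nd (.lf 0x4ae) (.lf 0))) (.nd (.nd (.lf 0xb8) (.lf 0)) (.nd (.lf 0xce4) (.lf 0)))) (.nd (.nd (.nd (.lf 0x0) (.lf 0)) (.nd (.lf 0x0) (.lf 0))) (.nd (.nd (.lf 0x14c6) (.lf 0)) (.nd (.lf 0x1553) (.lf 0)))))))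
def witQ1_nbaabba : Tr := (.nd (.nd (.nd (.nd (.nd (.nd (.lf 0x0) (.lf 0x159f)) (.nd (.lf 0x154f) (.lf 0))) (.nd (.nd (.lf 0x0) (.lf 0)) (.nd (.lf 0x1dd1) (.lf 0)))) (.nd (.nd (.nd (.lf 0x5b9) (.lf 0)) (.nd (.lf 0x146) (.lf 0))) (.nd (.nd (.lf 0x0) (.lf 0)) (.nd (.lf 0x7f8) (.lf 0))))) (.nd (.nd (.nd (.nd (.lf 0x0) (.lf 0x15ab)) (.nd (.lf 0x1091) (.lf 0))) (.nd (.nd (.lf 0x1c69) (.lf 0)) (.nd (.lf 0x1496) (.lf 0)))) (.nd (.nd (.nd (.lf 0x0) (.lf 0)) (.nd (.lf 0x270) (.lf 0))) (.nd (.nd (.lf 0x0) (.lf 0)) (.nd (.lf 0x161c) (.lf 0)))))) (.nd (.nd (.nd (.nd (.nd (.lf 0x0) (.lf 0x1b30)) (.nd (.lf 0xc72) (.lf 0))) (.nd (.nd (.lf 0xe09) (.lf 0)) (.nd (.lf 0x16cd) (.lf 0)))) (.nd (.nd (.nd (.lf 0x0) (.lf 0)) (.nd (.lf 0x0) (.lf 0)))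 (.nd (.nd (.lf 0x0) (.lf 0)) (.nd (.lf 0x659) (.lf 0))))) (.nd (.nd (.nd (.nd (.lf 0x0) (.lf 0x6c6)) (.nd (.lf 0x1a95) (.lf 0))) (.nd (.nd (.lf 0x16b9) (.lf 0)) (.nd (.lf 0x0) (.lf 0)))) (.nd (.nd (.nd (.lf 0x0) (.lf 0)) (.nd (.lf 0x0) (.lf 0))) (.nd (.nd (.lf 0x0) (.lf 0)) (.nd (.lf 0x1920) (.lf 0)))))))
def witQ1_nbaabbb : Tr := (.nd (.nd (.nd (.nd (.nd (.nd (.lf 0x0) (.lf 0x0)) (.nd (.lf 0x29b) (.lf 0))) (.nd (.nd (.lf 0x0) (.lf 0)) (.nd (.lf 0x16f8) (.lf 0)))) (.nd (.nd (.nd (.lf 0x0) (.lf 0)) (.nd (.lf 0xbea) (.lf 0))) (.nd (.nd (.lf 0xcad) (.lf 0)) (.nd (.lf 0x1903) (.lf 0))))) (.nd (.nd (.nd (.nd (.lf 0x0) (.lf 0x716)) (.nd (.lf 0x1086) (.lf 0))) (.nd (.nd (.lf 0xf8e) (.lf 0)) (.nd (.lf 0xe50) (.lf 0)))) (.nd (.nd (.nd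 (.lf 0x0) (.lf 0)) (.nd (.lf 0x1dc5) (.lf 0))) (.nd (.nd (.lf 0x622) (.lf 0)) (.nd (.lf 0x6f6) (.lf 0)))))) (.nd (.nd (.nd (.nd (.nd (.lf 0x0) (.lf 0x238)) (.nd (.lf 0x966) (.lf 0))) (.nd (.nd (.lf 0xfe9) (.lf 0)) (.nd (.lf 0xb4d) (.lf 0)))) (.nd (.nd (.nd (.lf 0x160b) (.lf 0)) (.nd (.lf 0x1e55) (.lf 0))) (.nd (.nd (.lf 0x1763) (.lf 0)) (.nd (.lf 0x1181) (.lf 0))))) (.nd (.nd (.nd (.nd (.lf 0x0) (.lf 0x2f5)) (.nd (.lf 0x1c79) (.lf 0))) (.nd (.nd (.lf 0x122e) (.lf 0)) (.nd (.lf 0xc6f) (.lf 0)))) (.nd (.nd (.nd (.lf 0x0) (.lf 0)) (.nd (.lf 0x19e0) (.lf 0))) (.nd (.nd (.lf 0x12d6) (.lf 0)) (.nd (.lf 0x1e46) (.lf 0)))))))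
def witQ1_nbabaaa : Tr := (.nd (.nd (.nd (.nd (.nd (.nd (.lf 0x0) (.lf 0x8b4)) (.nd (.lf 0xb5f) (.lf 0))) (.nd (.nd (.lf 0x0) (.lf 0)) (.nd (.lf 0xb79) (.lf 0)))) (.nd (.nd (.nd (.lf 0x0) (.lf 0)) (.nd (.lf 0x0) (.lf 0))) (.nd (.nd (.lf 0x0) (.lf 0)) (.nd (.lf 0x86b) (.lf 0))))) (.nd (.nd (.nd (.nd (.lf 0x0) (.lf 0x10b8)) (.nd (.lf 0x1d4f) (.lf 0))) (.nd (.nd (.lf 0x0) (.lf 0)) (.nd (.lf 0xd32) (.lf 0)))) (.nd (.nd (.nd (.lf 0x0) (.lf 0)) (.nd (.lf 0x15c1) (.lf 0))) (.nd (.nd (.lf 0x0) (.lf 0)) (.nd (.lf 0x1c72) (.lf 0)))))) (.nd (.nd (.nd (.nd (.nd (.lf 0x0) (.lf 0xdef)) (.nd (.lf 0xa62) (.lf 0))) (.nd (.nd (.lf 0x80a) (.lf 0)) (.nd (.lf 0x232) (.lf 0)))) (.nd (.nd (.nd (.lf 0xed9) (.lf 0)) (.nd (.lf 0x1d6f) (.lf 0))) (.nd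 (.nd (.lf 0x1e69) (.lf 0)) (.nd (.lf 0x69e) (.lf 0))))) (.nd (.nd (.nd (.nd (.lf 0x0) (.lf 0x1cb4)) (.nd (.lf 0xef0) (.lf 0))) (.nd (.nd (.lf 0x0) (.lf 0)) (.nd (.lf 0x0) (.lf 0)))) (.nd (.nd (.nd (.lf 0x846) (.lf 0)) (.nd (.lf 0x1e49) (.lf 0))) (.nd (.nd (.lf 0x1a64) (.lf 0)) (.nd (.lf 0x287) (.lf 0)))))))
def witQ1_nbabaab : Tr := (.nd (.nd (.nd (.nd (.nd (.nd (.lf 0x0) (.lf 0x403)) (.nd (.lf 0x0) (.lf 0))) (.nd (.nd (.lf 0x5fb) (.lf 0)) (.nd (.lf 0x1246) (.lf 0)))) (.nd (.nd (.nd (.lf 0x0) (.lf 0)) (.nd (.lf 0x5bf) (.lf 0))) (.nd (.nd (.lf 0x0) (.lf 0)) (.nd (.lf 0x5a7) (.lf 0))))) (.nd (.nd (.nd (.nd (.lf 0x0) (.lf 0x19ab)) (.nd (.lf 0x671) (.lf 0))) (.nd (.nd (.lf 0x0) (.lf 0)) (.nd (.lf 0x1db9) (.lf 0)))) (.nd (.nd (.nd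 (.lf 0x0) (.lf 0)) (.nd (.lf 0xfc1) (.lf 0))) (.nd (.nd (.lf 0x0) (.lf 0)) (.nd (.lf 0x269) (.lf 0)))))) (.nd (.nd (.nd (.nd (.nd (.lf 0x0) (.lf 0x16c)) (.nd (.lf 0x8fe) (.lf 0))) (.nd (.nd (.lf 0x0) (.lf 0)) (.nd (.lf 0x1097) (.lf 0)))) (.nd (.nd (.nd (.lf 0x0) (.lf 0)) (.nd (.lf 0xa5d) (.lf 0))) (.nd (.nd (.lf 0xb8b) (.lf 0)) (.nd (.lf 0x688) (.lf 0))))) (.nd (.nd (.nd (.nd (.lf 0x0) (.lf 0xba5)) (.nd (.lf 0xe22) (.lf 0))) (.nd (.nd (.lf 0x0) (.lf 0)) (.nd (.lf 0x1660) (.lf 0)))) (.nd (.nd (.nd (.lf 0x0) (.lf 0)) (.nd (.lf 0xb14) (.lf 0))) (.nd (.nd (.lf 0x1849) (.lf 0)) (.nd (.lf 0x1d60) (.lf 0)))))))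
def witQ1_nbababa : Tr := (.nd (.nd (.nd (.nd (.nd (.nd (.lf 0x0) (.lf 0x137e)) (.nd (.lf 0x0) (.lf 0))) (.nd (.nd (.lf 0x148) (.lf 0)) (.nd (.lf 0x189b) (.lf 0)))) (.nd (.nd (.nd (.lf 0xc5) (.lf 0)) (.nd (.lf 0x0) (.lf 0))) (.nd (.nd (.lf 0x0) (.lf 0)) (.nd (.lf 0x170f) (.lf 0))))) (.nd (.nd (.nd (.nd (.lf 0x107d) (.lf 0x471)) (.nd (.lf 0x0) (.lf 0))) (.nd (.nd (.lf 0xb91) (.lf 0)) (.nd (.lf 0x6c4) (.lf 0)))) (.nd (.nd (.nd (.lf 0xbdb) (.lf 0)) (.nd (.lf 0x308) (.lf 0))) (.nd (.nd (.lf 0x0) (.lf 0)) (.nd (.lf 0x132d) (.lf 0)))))) (.nd (.nd (.nd (.nd (.nd (.lf 0x0) (.lf 0x1aae)) (.nd (.lf 0x1386) (.lf 0))) (.nd (.nd (.lf 0x157f) (.lf 0)) (.nd (.lf 0x63) (.lf 0)))) (.nd (.nd (.nd (.lf 0x0) (.lf 0)) (.nd (.lf 0x1cc1) (.lf 0)))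 (.nd (.nd (.lf 0x0) (.lf 0)) (.nd (.lf 0x2a9) (.lf 0))))) (.nd (.nd (.nd (.nd (.lf 0x0) (.lf 0x52b)) (.nd (.lf 0xd05) (.lf 0))) (.nd (.nd (.lf 0x0) (.lf 0)) (.nd (.lf 0x116b) (.lf 0)))) (.nd (.nd (.nd (.lf 0x0) (.lf 0)) (.nd (.lf 0x133c) (.lf 0))) (.nd (.nd (.lf 0x0) (.lf 0)) (.nd (.lf 0x622) (.lf 0)))))))
def witQ1_nbababb : Tr := (.nd (.nd (.nd (.nd (.nd (.nd (.lf 0x10) (.lf 0x2ac)) (.nd (.lf 0x6e7) (.lf 0))) (.nd (.nd (.lf 0x0) (.lf 0)) (.nd (.lf 0x561) (.lf 0)))) (.nd (.nd (.nd (.lf 0x1416) (.lf 0)) (.nd (.lf 0x0) (.lf 0))) (.nd (.nd (.lf 0x12c0) (.lf 0)) (.nd (.lf 0xb4b) (.lf 0))))) (.nd (.nd (.nd (.nd (.lf 0x0) (.lf 0x47b)) (.nd (.lf 0xb67) (.lf 0))) (.nd (.nd (.lf 0x1c36) (.lf 0)) (.nd (.lf 0xa2f) (.lf 0)))) (.nd (.nd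 (.nd (.lf 0x0) (.lf 0)) (.nd (.lf 0x1a9a) (.lf 0))) (.nd (.nd (.lf 0xc94) (.lf 0)) (.nd (.lf 0x2d2) (.lf 0)))))) (.nd (.nd (.nd (.nd (.nd (.lf 0x0) (.lf 0x1e61)) (.nd (.lf 0x0) (.lf 0))) (.nd (.nd (.lf 0x0) (.lf 0)) (.nd (.lf 0x21b) (.lf 0)))) (.nd (.nd (.nd (.lf 0x0) (.lf 0)) (.nd (.lf 0x18f2) (.lf 0))) (.nd (.nd (.lf 0x19e2) (.lf 0)) (.nd (.lf 0x1c38) (.lf 0))))) (.nd (.nd (.nd (.nd (.lf 0x0) (.lf 0x1bc9)) (.nd (.lf 0x1e70) (.lf 0))) (.nd (.nd (.lf 0x6a5) (.lf 0)) (.nd (.lf 0xd1b) (.lf 0)))) (.nd (.nd (.nd (.lf 0x2f9) (.lf 0)) (.nd (.lf 0x580) (.lf 0))) (.nd (.nd (.lf 0x74e) (.lf 0)) (.nd (.lf 0x173d) (.lf 0)))))))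
def witQ1_nbabbaa : Tr := (.nd (.nd (.nd (.nd (.nd (.nd (.lf 0x0) (.lf 0x148b)) (.nd (.lf 0x0) (.lf 0))) (.nd (.nd (.lf 0x0) (.lf 0)) (.nd (.lf 0x1924) (.lf 0)))) (.nd (.nd (.nd (.lf 0x0) (.lf 0)) (.nd (.lf 0x1443) (.lf 0))) (.nd (.nd (.lf 0x0) (.lf 0)) (.nd (.lf 0x1110) (.lf 0))))) (.nd (.nd (.nd (.nd (.lf 0x0) (.lf 0xcd3)) (.nd (.lf 0x0) (.lf 0))) (.nd (.nd (.lf 0x309) (.lf 0)) (.nd (.lf 0xc3) (.lf 0)))) (.nd (.nd (.nd (.lf 0x0) (.lf 0)) (.nd (.lf 0x720) (.lf 0))) (.nd (.nd (.lf 0xaf) (.lf 0)) (.nd (.lf 0x5b9) (.lf 0)))))) (.nd (.nd (.nd (.nd (.nd (.lf 0x0) (.lf 0x1cef)) (.nd (.lf 0x0) (.lf 0))) (.nd (.nd (.lf 0x0) (.lf 0)) (.nd (.lf 0xcff) (.lf 0)))) (.nd (.nd (.nd (.lf 0x0) (.lf 0)) (.nd (.lf 0xce3) (.lf 0))) (.nd (.nd (.lf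 0x0) (.lf 0)) (.nd (.lf 0x198b) (.lf 0))))) (.nd (.nd (.nd (.nd (.lf 0x7a0) (.lf 0xa82)) (.nd (.lf 0x13e) (.lf 0))) (.nd (.nd (.lf 0xa9d) (.lf 0)) (.nd (.lf 0x73f) (.lf 0)))) (.nd (.nd (.nd (.lf 0x0) (.lf 0)) (.nd (.lf 0x0) (.lf 0))) (.nd (.nd (.lf 0x19ea) (.lf 0)) (.nd (.lf 0xc47) (.lf 0)))))))
def witQ1_nbabbab : Tr := (.nd (.nd (.nd (.nd (.nd (.nd (.lf 0x54c) (.lf 0x157e)) (.nd (.lf 0x1856) (.lf 0))) (.nd (.nd (.lf 0x0) (.lf 0)) (.nd (.lf 0x16d7) (.lf 0)))) (.nd (.nd (.nd (.lf 0x0) (.lf 0)) (.nd (.lf 0x123d) (.lf 0))) (.nd (.nd (.lf 0x0) (.lf 0)) (.nd (.lf 0x11ab) (.lf 0))))) (.nd (.nd (.nd (.nd (.lf 0x351) (.lf 0x1b96)) (.nd (.lf 0x19d2) (.lf 0))) (.nd (.nd (.lf 0xf7d) (.lf 0)) (.nd (.lf 0x185e) (.lf 0)))) (.nd (.nd (.nd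 (.lf 0x0) (.lf 0)) (.nd (.lf 0x1044) (.lf 0))) (.nd (.nd (.lf 0x0) (.lf 0)) (.nd (.lf 0x807) (.lf 0)))))) (.nd (.nd (.nd (.nd (.nd (.lf 0x0) (.lf 0xa30)) (.nd (.lf 0xf23) (.lf 0))) (.nd (.nd (.lf 0x0) (.lf 0)) (.nd (.lf 0x943) (.lf 0)))) (.nd (.nd (.nd (.lf 0x0) (.lf 0)) (.nd (.lf 0x889) (.lf 0))) (.nd (.nd (.lf 0x0) (.lf 0)) (.nd (.lf 0xec) (.lf 0))))) (.nd (.nd (.nd (.nd (.lf 0x0) (.lf 0xa39)) (.nd (.lf 0x1c91) (.lf 0))) (.nd (.nd (.lf 0x0) (.lf 0)) (.nd (.lf 0x157b) (.lf 0)))) (.nd (.nd (.nd (.lf 0x0) (.lf 0)) (.nd (.lf 0xc54) (.lf 0))) (.nd (.nd (.lf 0x1e20) (.lf 0)) (.nd (.lf 0xf58) (.lf 0)))))))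
def witQ1_nbabbba : Tr := (.nd (.nd (.nd (.nd (.nd (.nd (.lf 0x0) (.lf 0x1214)) (.nd (.lf 0x0) (.lf 0))) (.nd (.nd (.lf 0x0) (.lf 0)) (.nd (.lf 0xa6f) (.lf 0)))) (.nd (.nd (.nd (.lf 0x0) (.lf 0)) (.nd (.lf 0xf04) (.lf 0))) (.nd (.nd (.lf 0x1c07) (.lf 0)) (.nd (.lf 0x61c) (.lf 0))))) (.nd (.nd (.nd (.nd (.lf 0x0) (.lf 0x387)) (.nd (.lf 0xc1d) (.lf 0))) (.nd (.nd (.lf 0x1017) (.lf 0)) (.nd (.lf 0x682) (.lf 0)))) (.nd (.nd (.nd (.lf 0xaf8) (.lf 0)) (.nd (.lf 0x1ac3) (.lf 0))) (.nd (.nd (.lf 0x1bc9) (.lf 0)) (.nd (.lf 0x13a3) (.lf 0)))))) (.nd (.nd (.nd (.nd (.nd (.lf 0x0) (.lf 0x1438)) (.nd (.lf 0x1d0b) (.lf 0))) (.nd (.nd (.lf 0x0) (.lf 0)) (.nd (.lf 0x977) (.lf 0)))) (.nd (.nd (.nd (.lf 0x1db9) (.lf 0)) (.nd (.lf 0x0) (.lf 0)))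 (.nd (.nd (.lf 0x17a4) (.lf 0)) (.nd (.lf 0x1b3c) (.lf 0))))) (.nd (.nd (.nd (.nd (.lf 0x0) (.lf 0x17b8)) (.nd (.lf 0x736) (.lf 0))) (.nd (.nd (.lf 0x24f) (.lf 0)) (.nd (.lf 0x182a) (.lf 0)))) (.nd (.nd (.nd (.lf 0x1c17) (.lf 0)) (.nd (.lf 0x1595) (.lf 0))) (.nd (.nd (.lf 0x1a6c) (.lf 0)) (.nd (.lf 0x18fd) (.lf 0)))))))
def witQ1_nbabbbb : Tr := (.nd (.nd (.nd (.nd (.nd (.nd (.lf 0x0) (.lf 0x1615)) (.nd (.lf 0x1aca) (.lf 0))) (.nd (.nd (.lf 0x0) (.lf 0)) (.nd (.lf 0x1c22) (.lf 0)))) (.nd (.nd (.nd (.lf 0x0) (.lf 0)) (.nd (.lf 0x103d) (.lf 0))) (.nd (.nd (.lf 0x0) (.lf 0)) (.nd (.lf 0x1d25) (.lf 0))))) (.nd (.nd (.nd (.nd (.lf 0x0) (.lf 0x702)) (.nd (.lf 0x164c) (.lf 0))) (.nd (.nd (.lf 0x0) (.lf 0)) (.nd (.lf 0x1544) (.lf 0))))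 (.nd (.nd (.nd (.lf 0x0) (.lf 0)) (.nd (.lf 0xe70) (.lf 0))) (.nd (.nd (.lf 0xaee) (.lf 0)) (.nd (.lf 0x6f1) (.lf 0)))))) (.nd (.nd (.nd (.nd (.nd (.lf 0x2cd) (.lf 0x3e1)) (.nd (.lf 0x1768) (.lf 0))) (.nd (.nd (.lf 0x0) (.lf 0)) (.nd (.lf 0xba5) (.lf 0)))) (.nd (.nd (.nd (.lf 0x1226) (.lf 0)) (.nd (.lf 0x293) (.lf 0))) (.nd (.nd (.lf 0x18d4) (.lf 0)) (.nd (.lf 0x6a5) (.lf 0))))) (.nd (.nd (.nd (.nd (.lf 0x0) (.lf 0x3c9)) (.nd (.lf 0x1044) (.lf 0))) (.nd (.nd (.lf 0x1969) (.lf 0)) (.nd (.lf 0x0) (.lf 0)))) (.nd (.nd (.nd (.lf 0xeea) (.lf 0)) (.nd (.lf 0x64d) (.lf 0))) (.nd (.nd (.lf 0x8eb) (.lf 0)) (.nd (.lf 0x12a1) (.lf 0)))))))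
def witQ1_nbbaaaa : Tr := (.nd (.nd (.nd (.nd (.nd (.nd (.lf 0x0) (.lf 0x13a)) (.nd (.lf 0x1ced) (.lf 0))) (.nd (.nd (.lf 0x53f) (.lf 0)) (.nd (.lf 0x0) (.lf 0)))) (.nd (.nd (.nd (.lf 0x0) (.lf 0)) (.nd (.lf 0xa06) (.lf 0))) (.nd (.nd (.lf 0x0) (.lf 0)) (.nd (.lf 0x8) (.lf 0))))) (.nd (.nd (.nd (.nd (.lf 0x0) (.lf 0xed7)) (.nd (.lf 0x1383) (.lf 0))) (.nd (.nd (.lf 0x68a) (.lf 0)) (.nd (.lf 0x1e11) (.lf 0)))) (.nd (.nd (.nd (.lf 0x0) (.lf 0)) (.nd (.lf 0x106f) (.lf 0))) (.nd (.nd (.lf 0x15ef) (.lf 0)) (.nd (.lf 0x61a) (.lf 0)))))) (.nd (.nd (.nd (.nd (.nd (.lf 0x0) (.lf 0x0)) (.nd (.lf 0x438) (.lf 0))) (.nd (.nd (.lf 0x0) (.lf 0)) (.nd (.lf 0x1600) (.lf 0)))) (.nd (.nd (.nd (.lf 0x0) (.lf 0)) (.nd (.lf 0x0) (.lf 0))) (.nd (.nd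 (.lf 0x0) (.lf 0)) (.nd (.lf 0x13e0) (.lf 0))))) (.nd (.nd (.nd (.nd (.lf 0x0) (.lf 0xe33)) (.nd (.lf 0xcad) (.lf 0))) (.nd (.nd (.lf 0x1335) (.lf 0)) (.nd (.lf 0x1159) (.lf 0)))) (.nd (.nd (.nd (.lf 0x122c) (.lf 0)) (.nd (.lf 0xb0d) (.lf 0))) (.nd (.nd (.lf 0x1a09) (.lf 0)) (.nd (.lf 0x108) (.lf 0)))))))
def witQ1_nbbaaab : Tr := (.nd (.nd (.nd (.nd (.nd (.nd (.lf 0x0) (.lf 0x90f)) (.nd (.lf 0x6f4) (.lf 0))) (.nd (.nd (.lf 0xea0) (.lf 0)) (.nd (.lf 0x1411) (.lf 0)))) (.nd (.nd (.nd (.lf 0x0) (.lf 0)) (.nd (.lf 0xc9f) (.lf 0))) (.nd (.nd (.lf 0x12bc) (.lf 0)) (.nd (.lf 0x14de) (.lf 0))))) (.nd (.nd (.nd (.nd (.lf 0x0) (.lf 0x1a65)) (.nd (.lf 0x15e0) (.lf 0))) (.nd (.nd (.lf 0xf40) (.lf 0)) (.nd (.lf 0xa62) (.lf 0)))) (.nd (.nd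 (.nd (.lf 0x0) (.lf 0)) (.nd (.lf 0x125c) (.lf 0))) (.nd (.nd (.lf 0x6ef) (.lf 0)) (.nd (.lf 0xc53) (.lf 0)))))) (.nd (.nd (.nd (.nd (.nd (.lf 0x0) (.lf 0x15e3)) (.nd (.lf 0x3a4) (.lf 0))) (.nd (.nd (.lf 0x10c9) (.lf 0)) (.nd (.lf 0xc75) (.lf 0)))) (.nd (.nd (.nd (.lf 0x0) (.lf 0)) (.nd (.lf 0x1df1) (.lf 0))) (.nd (.nd (.lf 0x4bf) (.lf 0)) (.nd (.lf 0x1df4) (.lf 0))))) (.nd (.nd (.nd (.nd (.lf 0x0) (.lf 0xef3)) (.nd (.lf 0x106) (.lf 0))) (.nd (.nd (.lf 0x1336) (.lf 0)) (.nd (.lf 0x1879) (.lf 0)))) (.nd (.nd (.nd (.lf 0x6f2) (.lf 0)) (.nd (.lf 0x0) (.lf 0))) (.nd (.nd (.lf 0x0) (.lf 0)) (.nd (.lf 0x1505) (.lf 0)))))))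
def witQ1_nbbaaba : Tr := (.nd (.nd (.nd (.nd (.nd (.nd (.lf 0x0) (.lf 0x678)) (.nd (.lf 0xa19) (.lf 0))) (.nd (.nd (.lf 0x1443) (.lf 0)) (.nd (.lf 0x0) (.lf 0)))) (.nd (.nd (.nd (.lf 0x0) (.lf 0)) (.nd (.lf 0x1d4d) (.lf 0))) (.nd (.nd (.lf 0xe13) (.lf 0)) (.nd (.lf 0x19f7) (.lf 0))))) (.nd (.nd (.nd (.nd (.lf 0x0) (.lf 0x16f7)) (.nd (.lf 0x199b) (.lf 0))) (.nd (.nd (.lf 0xa9a) (.lf 0)) (.nd (.lf 0x1475) (.lf 0)))) (.nd (.nd (.nd (.lf 0x762) (.lf 0)) (.nd (.lf 0x45a) (.lf 0))) (.nd (.nd (.lf 0x1640) (.lf 0)) (.nd (.lf 0x1b76) (.lf 0)))))) (.nd (.nd (.nd (.nd (.nd (.lf 0x0) (.lf 0x91c)) (.nd (.lf 0x1974) (.lf 0))) (.nd (.nd (.lf 0x0) (.lf 0)) (.nd (.lf 0x1a3e) (.lf 0)))) (.nd (.nd (.nd (.lf 0x0) (.lf 0)) (.nd (.lf 0xd03) (.lf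 0))) (.nd (.nd (.lf 0x0) (.lf 0)) (.nd (.lf 0x1d04) (.lf 0))))) (.nd (.nd (.nd (.nd (.lf 0x0) (.lf 0xa7c)) (.nd (.lf 0x1825) (.lf 0))) (.nd (.nd (.lf 0xc53) (.lf 0)) (.nd (.lf 0x0) (.lf 0)))) (.nd (.nd (.nd (.lf 0x1b42) (.lf 0)) (.nd (.lf 0x1a6d) (.lf 0))) (.nd (.nd (.lf 0x380) (.lf 0)) (.nd (.lf 0x835) (.lf 0)))))))
def witQ1_nbbaabb : Tr := (.nd (.nd (.nd (.nd (.nd (.nd (.lf 0x0) (.lf 0xb94)) (.nd (.lf 0xa05) (.lf 0))) (.nd (.nd (.lf 0xc24) (.lf 0)) (.nd (.lf 0x7eb) (.lf 0)))) (.nd (.nd (.nd (.lf 0xf43) (.lf 0)) (.nd (.lf 0xbc9) (.lf 0))) (.nd (.nd (.lf 0x0) (.lf 0)) (.nd (.lf 0x12fb) (.lf 0))))) (.nd (.nd (.nd (.nd (.lf 0x1c72) (.lf 0x1ca1)) (.nd (.lf 0x1b85) (.lf 0))) (.nd (.nd (.lf 0x119c) (.lf 0)) (.nd (.lf 0x186c) (.lf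 0)))) (.nd (.nd (.nd (.lf 0x0) (.lf 0)) (.nd (.lf 0x7c4) (.lf 0))) (.nd (.nd (.lf 0x143c) (.lf 0)) (.nd (.lf 0x1375) (.lf 0)))))) (.nd (.nd (.nd (.nd (.nd (.lf 0x0) (.lf 0x1b4d)) (.nd (.lf 0x0) (.lf 0))) (.nd (.nd (.lf 0x0) (.lf 0)) (.nd (.lf 0xe79) (.lf 0)))) (.nd (.nd (.nd (.lf 0x15f) (.lf 0)) (.nd (.lf 0x157a) (.lf 0))) (.nd (.nd (.lf 0x1b95) (.lf 0)) (.nd (.lf 0x1de1) (.lf 0))))) (.nd (.nd (.nd (.nd (.lf 0x1a7d) (.lf 0x1a20)) (.nd (.lf 0xd9d) (.lf 0))) (.nd (.nd (.lf 0x0) (.lf 0)) (.nd (.lf 0x16d0) (.lf 0)))) (.nd (.nd (.nd (.lf 0x0) (.lf 0)) (.nd (.lf 0x19e3) (.lf 0))) (.nd (.nd (.lf 0x7cb) (.lf 0)) (.nd (.lf 0x8d9) (.lf 0)))))))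
def witQ1_nbbabaa : Tr := (.nd (.nd (.nd (.nd (.nd (.nd (.lf 0x0) (.lf 0x15b0)) (.nd (.lf 0xa19) (.lf 0))) (.nd (.nd (.lf 0xe02) (.lf 0)) (.nd (.lf 0x17c0) (.lf 0)))) (.nd (.nd (.nd (.lf 0x0) (.lf 0)) (.nd (.lf 0x107b) (.lf 0))) (.nd (.nd (.lf 0x581) (.lf 0)) (.nd (.lf 0x95b) (.lf 0))))) (.nd (.nd (.nd (.nd (.lf 0x0) (.lf 0x8cf)) (.nd (.lf 0x0) (.lf 0))) (.nd (.nd (.lf 0x6d6) (.lf 0)) (.nd (.lf 0xed) (.lf 0)))) (.nd (.nd (.nd (.lf 0x1b93) (.lf 0)) (.nd (.lf 0x1293) (.lf 0))) (.nd (.nd (.lf 0xd5d) (.lf 0)) (.nd (.lf 0x187) (.lf 0)))))) (.nd (.nd (.nd (.nd (.nd (.lf 0x0) (.lf 0x68d)) (.nd (.lf 0x1dbc) (.lf 0))) (.nd (.nd (.lf 0x1259) (.lf 0)) (.nd (.lf 0xf55) (.lf 0)))) (.nd (.nd (.nd (.lf 0x0) (.lf 0)) (.nd (.lf 0x15a3) (.lf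 0))) (.nd (.nd (.lf 0x14c3) (.lf 0)) (.nd (.lf 0x1e4b) (.lf 0))))) (.nd (.nd (.nd (.nd (.lf 0xc12) (.lf 0x1eb)) (.nd (.lf 0x1049) (.lf 0))) (.nd (.nd (.lf 0x0) (.lf 0)) (.nd (.lf 0x83a) (.lf 0)))) (.nd (.nd (.nd (.lf 0x15a0) (.lf 0)) (.nd (.lf 0x162a) (.lf 0))) (.nd (.nd (.lf 0x0) (.lf 0)) (.nd (.lf 0x1a8b) (.lf 0)))))))
def witQ1_nbbabab : Tr := (.nd (.nd (.nd (.nd (.nd (.nd (.lf 0x0) (.lf 0x123e)) (.nd (.lf 0xea) (.lf 0))) (.nd (.nd (.lf 0x0) (.lf 0)) (.nd (.lf 0x0) (.lf 0)))) (.nd (.nd (.nd (.lf 0x0) (.lf 0)) (.nd (.lf 0x14a7) (.lf 0))) (.nd (.nd (.lf 0x0) (.lf 0)) (.nd (.lf 0x0) (.lf 0))))) (.nd (.nd (.nd (.nd (.lf 0x0) (.lf 0x921)) (.nd (.lf 0x1935) (.lf 0))) (.nd (.nd (.lf 0x0) (.lf 0)) (.nd (.lf 0xeb2) (.lf 0)))) (.nd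 (.nd (.nd (.lf 0x1b5e) (.lf 0)) (.nd (.lf 0x0) (.lf 0))) (.nd (.nd (.lf 0x1d69) (.lf 0)) (.nd (.lf 0x1792) (.lf 0)))))) (.nd (.nd (.nd (.nd (.nd (.lf 0x0) (.lf 0x17f5)) (.nd (.lf 0x14ea) (.lf 0))) (.nd (.nd (.lf 0x15ba) (.lf 0)) (.nd (.lf 0x1951) (.lf 0)))) (.nd (.nd (.nd (.lf 0xf7f) (.lf 0)) (.nd (.lf 0x112e) (.lf 0))) (.nd (.nd (.lf 0x0) (.lf 0)) (.nd (.lf 0x1438) (.lf 0))))) (.nd (.nd (.nd (.nd (.lf 0x0) (.lf 0x6c8)) (.nd (.lf 0x0) (.lf 0))) (.nd (.nd (.lf 0x0) (.lf 0)) (.nd (.lf 0x1021) (.lf 0)))) (.nd (.nd (.nd (.lf 0x0) (.lf 0)) (.nd (.lf 0x624) (.lf 0))) (.nd (.nd (.lf 0x0) (.lf 0)) (.nd (.lf 0x63b) (.lf 0)))))))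
def witQ1_nbbabba : Tr := (.nd (.nd (.nd (.nd (.nd (.nd (.lf 0x0) (.lf 0x28a)) (.nd (.lf 0x0) (.lf 0))) (.nd (.nd (.lf 0xeb) (.lf 0)) (.nd (.lf 0x101a) (.lf 0)))) (.nd (.nd (.nd (.lf 0xb87) (.lf 0)) (.nd (.lf 0xb51) (.lf 0))) (.nd (.nd (.lf 0x1b9d) (.lf 0)) (.nd (.lf 0xd4a) (.lf 0))))) (.nd (.nd (.nd (.nd (.lf 0x0) (.lf 0x15a8)) (.nd (.lf 0xdb5) (.lf 0))) (.nd (.nd (.lf 0x173b) (.lf 0)) (.nd (.lf 0x0) (.lf 0)))) (.nd (.nd (.nd (.lf 0x0) (.lf 0)) (.nd (.lf 0x14cf) (.lf 0))) (.nd (.nd (.lf 0xb38) (.lf 0)) (.nd (.lf 0x16ad) (.lf 0)))))) (.nd (.nd (.nd (.nd (.nd (.lf 0x0) (.lf 0x8f1)) (.nd (.lf 0xf77) (.lf 0))) (.nd (.nd (.lf 0x194f) (.lf 0)) (.nd (.lf 0x1a76) (.lf 0)))) (.nd (.nd (.nd (.lf 0x0) (.lf 0)) (.nd (.lf 0xa99) (.lf 0)))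 (.nd (.nd (.lf 0x17c8) (.lf 0)) (.nd (.lf 0x334) (.lf 0))))) (.nd (.nd (.nd (.nd (.lf 0x0) (.lf 0x1a74)) (.nd (.lf 0x14b8) (.lf 0))) (.nd (.nd (.lf 0xd29) (.lf 0)) (.nd (.lf 0x1e61) (.lf 0)))) (.nd (.nd (.nd (.lf 0x999) (.lf 0)) (.nd (.lf 0x4b7) (.lf 0))) (.nd (.nd (.lf 0xd4a) (.lf 0)) (.nd (.lf 0x312) (.lf 0)))))))
def witQ1_nbbabbb : Tr := (.nd (.nd (.nd (.nd (.nd (.nd (.lf 0x0) (.lf 0xf95)) (.nd (.lf 0x0) (.lf 0))) (.nd (.nd (.lf 0x192b) (.lf 0)) (.nd (.lf 0x0) (.lf 0)))) (.nd (.nd (.nd (.lf 0x15db) (.lf 0)) (.nd (.lf 0x9fa) (.lf 0))) (.nd (.nd (.lf 0x1db5) (.lf 0)) (.nd (.lf 0x1a2d) (.lf 0))))) (.nd (.nd (.nd (.nd (.lf 0x589) (.lf 0x9f)) (.nd (.lf 0x1a06) (.lf 0))) (.nd (.nd (.lf 0x0) (.lf 0)) (.nd (.lf 0x7af) (.lf 0))))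 (.nd (.nd (.nd (.lf 0x0) (.lf 0)) (.nd (.lf 0x187a) (.lf 0))) (.nd (.nd (.lf 0x0) (.lf 0)) (.nd (.lf 0x1e48) (.lf 0)))))) (.nd (.nd (.nd (.nd (.nd (.lf 0x0) (.lf 0x1a88)) (.nd (.lf 0xa60) (.lf 0))) (.nd (.nd (.lf 0x158c) (.lf 0)) (.nd (.lf 0x79e) (.lf 0)))) (.nd (.nd (.nd (.lf 0x0) (.lf 0)) (.nd (.lf 0x0) (.lf 0))) (.nd (.nd (.lf 0x0) (.lf 0)) (.nd (.lf 0x1fb) (.lf 0))))) (.nd (.nd (.nd (.nd (.lf 0x0) (.lf 0x3bd)) (.nd (.lf 0x605) (.lf 0))) (.nd (.nd (.lf 0x171f) (.lf 0)) (.nd (.lf 0x1a1e) (.lf 0)))) (.nd (.nd (.nd (.lf 0x0) (.lf 0)) (.nd (.lf 0xc0b) (.lf 0))) (.nd (.nd (.lf 0x0) (.lf 0)) (.nd (.lf 0x16ec) (.lf 0)))))))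
def witQ1_nbbbaaa : Tr := (.nd (.nd (.nd (.nd (.nd (.nd (.lf 0x0) (.lf 0x1592)) (.nd (.lf 0x182d) (.lf 0))) (.nd (.nd (.lf 0x0) (.lf 0)) (.nd (.lf 0x1a02) (.lf 0)))) (.nd (.nd (.nd (.lf 0x6f2) (.lf 0)) (.nd (.lf 0x132e) (.lf 0))) (.nd (.nd (.lf 0xa6c) (.lf 0)) (.nd (.lf 0x15e5) (.lf 0))))) (.nd (.nd (.nd (.nd (.lf 0x0) (.lf 0x18b0)) (.nd (.lf 0x0) (.lf 0))) (.nd (.nd (.lf 0x0) (.lf 0)) (.nd (.lf 0x1a73) (.lf 0)))) (.nd (.nd (.nd (.lf 0x0) (.lf 0)) (.nd (.lf 0x0) (.lf 0))) (.nd (.nd (.lf 0x6c2) (.lf 0)) (.nd (.lf 0x1dc7) (.lf 0)))))) (.nd (.nd (.nd (.nd (.nd (.lf 0x6ff) (.lf 0x1cfb)) (.nd (.lf 0x0) (.lf 0))) (.nd (.nd (.lf 0x1abf) (.lf 0)) (.nd (.lf 0xb80) (.lf 0)))) (.nd (.nd (.nd (.lf 0x0) (.lf 0)) (.nd (.lf 0xf44) (.lf 0)))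 (.nd (.nd (.lf 0x1835) (.lf 0)) (.nd (.lf 0x327) (.lf 0))))) (.nd (.nd (.nd (.nd (.lf 0x0) (.lf 0x1d7f)) (.nd (.lf 0x0) (.lf 0))) (.nd (.nd (.lf 0x0) (.lf 0)) (.nd (.lf 0x0) (.lf 0)))) (.nd (.nd (.nd (.lf 0x0) (.lf 0)) (.nd (.lf 0x192a) (.lf 0))) (.nd (.nd (.lf 0xe1c) (.lf 0)) (.nd (.lf 0x12ee) (.lf 0)))))))
def witQ1_nbbbaab : Tr := (.nd (.nd (.nd (.nd (.nd (.nd (.lf 0x0) (.lf 0x12cb)) (.nd (.lf 0xf0b) (.lf 0))) (.nd (.nd (.lf 0x1e26) (.lf 0)) (.nd (.lf 0x0) (.lf 0)))) (.nd (.nd (.nd (.lf 0x682) (.lf 0)) (.nd (.lf 0x95) (.lf 0))) (.nd (.nd (.lf 0x0) (.lf 0)) (.nd (.lf 0x912) (.lf 0))))) (.nd (.nd (.nd (.nd (.lf 0x0) (.lf 0x18b3)) (.nd (.lf 0x1a62) (.lf 0))) (.nd (.nd (.lf 0x1a3b) (.lf 0)) (.nd (.lf 0x1259) (.lf 0)))) (.nd (.nd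 (.nd (.lf 0x0) (.lf 0)) (.nd (.lf 0x18e5) (.lf 0))) (.nd (.nd (.lf 0x0) (.lf 0)) (.nd (.lf 0x9e4) (.lf 0)))))) (.nd (.nd (.nd (.nd (.nd (.lf 0x0) (.lf 0xbd6)) (.nd (.lf 0xa34) (.lf 0))) (.nd (.nd (.lf 0x0) (.lf 0)) (.nd (.lf 0x1dd4) (.lf 0)))) (.nd (.nd (.nd (.lf 0x0) (.lf 0)) (.nd (.lf 0x377) (.lf 0))) (.nd (.nd (.lf 0x360) (.lf 0)) (.nd (.lf 0x1bf0) (.lf 0))))) (.nd (.nd (.nd (.nd (.lf 0x0) (.lf 0x1721)) (.nd (.lf 0x0) (.lf 0))) (.nd (.nd (.lf 0x0) (.lf 0)) (.nd (.lf 0x1181) (.lf 0)))) (.nd (.nd (.nd (.lf 0x40d) (.lf 0)) (.nd (.lf 0x28c) (.lf 0))) (.nd (.nd (.lf 0x158a) (.lf 0)) (.nd (.lf 0x13b8) (.lf 0)))))))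
def witQ1_nbbbaba : Tr := (.nd (.nd (.nd (.nd (.nd (.nd (.lf 0x0) (.lf 0x763)) (.nd (.lf 0x407) (.lf 0))) (.nd (.nd (.lf 0x0) (.lf 0)) (.nd (.lf 0x200) (.lf 0)))) (.nd (.nd (.nd (.lf 0x0) (.lf 0)) (.nd (.lf 0x6f3) (.lf 0))) (.nd (.nd (.lf 0x0) (.lf 0)) (.nd (.lf 0x1224) (.lf 0))))) (.nd (.nd (.nd (.nd (.lf 0x0) (.lf 0x415)) (.nd (.lf 0x18e7) (.lf 0))) (.nd (.nd (.lf 0x1835) (.lf 0)) (.nd (.lf 0x1e64) (.lf 0)))) (.nd (.nd (.nd (.lf 0x0) (.lf 0)) (.nd (.lf 0x2a1) (.lf 0))) (.nd (.nd (.lf 0x0) (.lf 0)) (.nd (.lf 0x102a) (.lf 0)))))) (.nd (.nd (.nd (.nd (.nd (.lf 0x0) (.lf 0x365)) (.nd (.lf 0xc6) (.lf 0))) (.nd (.nd (.lf 0x0) (.lf 0)) (.nd (.lf 0x0) (.lf 0)))) (.nd (.nd (.nd (.lf 0x87d) (.lf 0)) (.nd (.lf 0x1de2) (.lf 0))) (.nd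 (.nd (.lf 0x3bd) (.lf 0)) (.nd (.lf 0x6ba) (.lf 0))))) (.nd (.nd (.nd (.nd (.lf 0x0) (.lf 0x95)) (.nd (.lf 0x192c) (.lf 0))) (.nd (.nd (.lf 0x84a) (.lf 0)) (.nd (.lf 0x2f) (.lf 0)))) (.nd (.nd (.nd (.lf 0x0) (.lf 0)) (.nd (.lf 0x316) (.lf 0))) (.nd (.nd (.lf 0x151a) (.lf 0)) (.nd (.lf 0x9e3) (.lf 0)))))))
def witQ1_nbbbabb : Tr := (.nd (.nd (.nd (.nd (.nd (.nd (.lf 0x0) (.lf 0x9e7)) (.nd (.lf 0x0) (.lf 0))) (.nd (.nd (.lf 0x0) (.lf 0)) (.nd (.lf 0x1a88) (.lf 0)))) (.nd (.nd (.nd (.lf 0x19d) (.lf 0)) (.nd (.lf 0x128d) (.lf 0))) (.nd (.nd (.lf 0x0) (.lf 0)) (.nd (.lf 0x858) (.lf 0))))) (.nd (.nd (.nd (.nd (.lf 0x0) (.lf 0x16a0)) (.nd (.lf 0xccc) (.lf 0))) (.nd (.nd (.lf 0x189d) (.lf 0)) (.nd (.lf 0x183) (.lf 0)))) (.nd (.nd (.nd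 (.lf 0x0) (.lf 0)) (.nd (.lf 0x74e) (.lf 0))) (.nd (.nd (.lf 0x1052) (.lf 0)) (.nd (.lf 0xf18) (.lf 0)))))) (.nd (.nd (.nd (.nd (.nd (.lf 0x0) (.lf 0x161d)) (.nd (.lf 0x45) (.lf 0))) (.nd (.nd (.lf 0x768) (.lf 0)) (.nd (.lf 0xb6c) (.lf 0)))) (.nd (.nd (.nd (.lf 0x3e) (.lf 0)) (.nd (.lf 0x0) (.lf 0))) (.nd (.nd (.lf 0x18c2) (.lf 0)) (.nd (.lf 0x44) (.lf 0))))) (.nd (.nd (.nd (.nd (.lf 0x0) (.lf 0x1d50)) (.nd (.lf 0x163f) (.lf 0))) (.nd (.nd (.lf 0xcb8) (.lf 0)) (.nd (.lf 0x18bf) (.lf 0)))) (.nd (.nd (.nd (.lf 0x0) (.lf 0)) (.nd (.lf 0xf9) (.lf 0))) (.nd (.nd (.lf 0x53e) (.lf 0)) (.nd (.lf 0xeab) (.lf 0)))))))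
def witQ1_nbbbbaa : Tr := (.nd (.nd (.nd (.nd (.nd (.nd (.lf 0x0) (.lf 0x10de)) (.nd (.lf 0x0) (.lf 0))) (.nd (.nd (.lf 0x0) (.lf 0)) (.nd (.lf 0x1a1a) (.lf 0)))) (.nd (.nd (.nd (.lf 0x0) (.lf 0)) (.nd (.lf 0x0) (.lf 0))) (.nd (.nd (.lf 0x13d6) (.lf 0)) (.nd (.lf 0x49b) (.lf 0))))) (.nd (.nd (.nd (.nd (.lf 0x0) (.lf 0x1542)) (.nd (.lf 0x10f) (.lf 0))) (.nd (.nd (.lf 0xdf6) (.lf 0)) (.nd (.lf 0x1da3) (.lf 0)))) (.nd (.nd (.nd (.lf 0x0) (.lf 0)) (.nd (.lf 0x1702) (.lf 0))) (.nd (.nd (.lf 0x1a51) (.lf 0)) (.nd (.lf 0x3a0) (.lf 0)))))) (.nd (.nd (.nd (.nd (.nd (.lf 0x0) (.lf 0x1de)) (.nd (.lf 0x1d3b) (.lf 0))) (.nd (.nd (.lf 0x5f1) (.lf 0)) (.nd (.lf 0x3ba) (.lf 0)))) (.nd (.nd (.nd (.lf 0x0) (.lf 0)) (.nd (.lf 0x1710) (.lf 0)))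 (.nd (.nd (.lf 0x199d) (.lf 0)) (.nd (.lf 0x1701) (.lf 0))))) (.nd (.nd (.nd (.nd (.lf 0x0) (.lf 0x1111)) (.nd (.lf 0xcc3) (.lf 0))) (.nd (.nd (.lf 0x87e) (.lf 0)) (.nd (.lf 0x1528) (.lf 0)))) (.nd (.nd (.nd (.lf 0x10af) (.lf 0)) (.nd (.lf 0x13cf) (.lf 0))) (.nd (.nd (.lf 0xa3b) (.lf 0)) (.nd (.lf 0x17a6) (.lf 0)))))))
def witQ1_nbbbbab : Tr := (.nd (.nd (.nd (.nd (.nd (.nd (.lf 0x0) (.lf 0x668)) (.nd (.lf 0x10f5) (.lf 0))) (.nd (.nd (.lf 0x0) (.lf 0)) (.nd (.lf 0x1d2b) (.lf 0)))) (.nd (.nd (.nd (.lf 0x0) (.lf 0)) (.nd (.lf 0x0) (.lf 0))) (.nd (.nd (.lf 0x0) (.lf 0)) (.nd (.lf 0x11c2) (.lf 0))))) (.nd (.nd (.nd (.nd (.lf 0x0) (.lf 0x1c9b)) (.nd (.lf 0x175f) (.lf 0))) (.nd (.nd (.lf 0x0) (.lf 0)) (.nd (.lf 0x114a) (.lf 0))))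 (.nd (.nd (.nd (.lf 0x1be6) (.lf 0)) (.nd (.lf 0x2a0) (.lf 0))) (.nd (.nd (.lf 0x161) (.lf 0)) (.nd (.lf 0xa23) (.lf 0)))))) (.nd (.nd (.nd (.nd (.nd (.lf 0x0) (.lf 0x1a3d)) (.nd (.lf 0x0) (.lf 0))) (.nd (.nd (.lf 0xcb5) (.lf 0)) (.nd (.lf 0x1cce) (.lf 0)))) (.nd (.nd (.nd (.lf 0x10ee) (.lf 0)) (.nd (.lf 0x4f) (.lf 0))) (.nd (.nd (.lf 0xda2) (.lf 0)) (.nd (.lf 0x1741) (.lf 0))))) (.nd (.nd (.nd (.nd (.lf 0x0) (.lf 0x7c0)) (.nd (.lf 0x63d) (.lf 0))) (.nd (.nd (.lf 0x0) (.lf 0)) (.nd (.lf 0x1457) (.lf 0)))) (.nd (.nd (.nd (.lf 0x62c) (.lf 0)) (.nd (.lf 0x13e1) (.lf 0))) (.nd (.nd (.lf 0xae1) (.lf 0)) (.nd (.lf 0x9fb) (.lf 0)))))))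
def witQ1_nbbbbba : Tr := (.nd (.nd (.nd (.nd (.nd (.nd (.lf 0x0) (.lf 0x7e2)) (.nd (.lf 0x0) (.lf 0))) (.nd (.nd (.lf 0x0) (.lf 0)) (.nd (.lf 0x34d) (.lf 0)))) (.nd (.nd (.nd (.lf 0x0) (.lf 0)) (.nd (.lf 0x0) (.lf 0))) (.nd (.nd (.lf 0x21a) (.lf 0)) (.nd (.lf 0x0) (.lf 0))))) (.nd (.nd (.nd (.nd (.lf 0x0) (.lf 0x10f4)) (.nd (.lf 0x6f5) (.lf 0))) (.nd (.nd (.lf 0x0) (.lf 0)) (.nd (.lf 0x1a6b) (.lf 0)))) (.nd (.nd (.nd (.lf 0x0) (.lf 0)) (.nd (.lf 0x1333) (.lf 0))) (.nd (.nd (.lf 0x1db4) (.lf 0)) (.nd (.lf 0xaa4) (.lf 0)))))) (.nd (.nd (.nd (.nd (.nd (.lf 0x0) (.lf 0xca7)) (.nd (.lf 0x1e33) (.lf 0))) (.nd (.nd (.lf 0x0) (.lf 0)) (.nd (.lf 0x1861) (.lf 0)))) (.nd (.nd (.nd (.lf 0x0) (.lf 0)) (.nd (.lf 0x13a1) (.lf 0))) (.nd (.nd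 (.lf 0x0) (.lf 0)) (.nd (.lf 0xfb0) (.lf 0))))) (.nd (.nd (.nd (.nd (.lf 0x1adc) (.lf 0xc12)) (.nd (.lf 0x0) (.lf 0))) (.nd (.nd (.lf 0x1af) (.lf 0)) (.nd (.lf 0xf19) (.lf 0)))) (.nd (.nd (.nd (.lf 0x0) (.lf 0)) (.nd (.lf 0x1512) (.lf 0))) (.nd (.nd (.lf 0x61a) (.lf 0)) (.nd (.lf 0x1998) (.lf 0)))))))
def witQ1_nbbbbbb : Tr := (.nd (.nd (.nd (.nd (.nd (.nd (.lf 0x1ba6) (.lf 0x0)) (.nd (.lf 0x0) (.lf 0))) (.nd (.nd (.lf 0x1518) (.lf 0)) (.nd (.lf 0xdd1) (.lf 0)))) (.nd (.nd (.nd (.lf 0x0) (.lf 0)) (.nd (.lf 0x11a0) (.lf 0))) (.nd (.nd (.lf 0x133a) (.lf 0)) (.nd (.lf 0x828) (.lf 0))))) (.nd (.nd (.nd (.nd (.lf 0x0) (.lf 0x471)) (.nd (.lf 0x0) (.lf 0))) (.nd (.nd (.lf 0xf9f) (.lf 0)) (.nd (.lf 0x1c7) (.lf 0)))) (.nd (.nd (.nd (.lf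 0x171d) (.lf 0)) (.nd (.lf 0x1241) (.lf 0))) (.nd (.nd (.lf 0x0) (.lf 0)) (.nd (.lf 0x18d8) (.lf 0)))))) (.nd (.nd (.nd (.nd (.nd (.lf 0x0) (.lf 0xd1a)) (.nd (.lf 0x6e4) (.lf 0))) (.nd (.nd (.lf 0x0) (.lf 0)) (.nd (.lf 0x57f) (.lf 0)))) (.nd (.nd (.nd (.lf 0x0) (.lf 0)) (.nd (.lf 0x1b18) (.lf 0))) (.nd (.nd (.lf 0x0) (.lf 0)) (.nd (.lf 0x3c9) (.lf 0))))) (.nd (.nd (.nd (.nd (.lf 0x0) (.lf 0x9fb)) (.nd (.lf 0x115f) (.lf 0))) (.nd (.nd (.lf 0x1d8e) (.lf 0)) (.nd (.lf 0xacf) (.lf 0)))) (.nd (.nd (.nd (.lf 0x166) (.lf 0)) (.nd (.lf 0xd4d) (.lf 0))) (.nd (.nd (.lf 0x401) (.lf 0)) (.nd (.lf 0x1dcf) (.lf 0)))))))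
def witQ1 : Tr := (.nd (.nd (.nd (.nd (.nd (.nd witQ1_naaaaaa witQ1_naaaaab) (.nd witQ1_naaaaba witQ1_naaaabb)) (.nd (.nd witQ1_naaabaa witQ1_naaabab) (.nd witQ1_naaabba witQ1_naaabbb))) (.nd (.nd (.nd witQ1_naabaaa witQ1_naabaab) (.nd witQ1_naababa witQ1_naababb)) (.nd (.nd witQ1_naabbaa witQ1_naabbab) (.nd witQ1_naabbba witQ1_naabbbb)))) (.nd (.nd (.nd (.nd witQ1_nabaaaa witQ1_nabaaab) (.nd witQ1_nabaaba witQ1_nabaabb)) (.nd (.nd witQ1_nababaa witQ1_nababab) (.nd witQ1_nababba witQ1_nababbb))) (.nd (.nd (.nd witQ1_nabbaaa witQ1_nabbaab) (.nd witQ1_nabbaba witQ1_nabbabb)) (.nd (.nd witQ1_nabbbaa witQ1_nabbbab) (.nd witQ1_nabbbba witQ1_nabbbbb))))) (.nd (.nd (.nd (.nd (.nd witQ1_nbaaaaa witQ1_nbaaaab) (.nd witQ1_nbaaaba witQ1_nbaaabb))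 (.nd (.nd witQ1_nbaabaa witQ1_nbaabab) (.nd witQ1_nbaabba witQ1_nbaabbb))) (.nd (.nd (.nd witQ1_nbabaaa witQ1_nbabaab) (.nd witQ1_nbababa witQ1_nbababb)) (.nd (.nd witQ1_nbabbaa witQ1_nbabbab) (.nd witQ1_nbabbba witQ1_nbabbbb)))) (.nd (.nd (.nd (.nd witQ1_nbbaaaa witQ1_nbbaaab) (.nd witQ1_nbbaaba witQ1_nbbaabb)) (.nd (.nd witQ1_nbbabaa witQ1_nbbabab) (.nd witQ1_nbbabba witQ1_nbbabbb))) (.nd (.nd (.nd witQ1_nbbbaaa witQ1_nbbbaab) (.nd witQ1_nbbbaba witQ1_nbbbabb)) (.nd (.nd witQ1_nbbbbaa witQ1_nbbbbab) (.nd witQ1_nbbbbba witQ1_nbbbbbb))))))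
def tabQ2_naaaaaa : Tr := (.nd (.nd (.nd (.nd (.nd (.nd (.lf 0x3) (.lf 0xb4)) (.nd (.lf 0x51b) (.lf 0))) (.nd (.nd (.lf 0x276) (.lf 0)) (.nd (.lf 0x84d) (.lf 0)))) (.nd (.nd (.nd (.lf 0x2a8) (.lf 0)) (.nd (.lf 0x815) (.lf 0))) (.nd (.nd (.lf 0x402) (.lf 0)) (.nd (.lf 0x8dc) (.lf 0))))) (.nd (.nd (.nd (.nd (.lf 0x169) (.lf 0x3c8)) (.nd (.lf 0x595) (.lf 0))) (.nd (.nd (.lf 0x59e) (.lf 0)) (.nd (.lf 0x18a) (.lf 0)))) (.nd (.nd (.nd (.lf 0x3c6) (.lf 0)) (.nd (.lf 0x864) (.lf 0))) (.nd (.nd (.lf 0x6e2) (.lf 0)) (.nd (.lf 0x7ae) (.lf 0)))))) (.nd (.nd (.nd (.nd (.nd (.lf 0xbb) (.lf 0x847)) (.nd (.lf 0x6a2) (.lf 0))) (.nd (.nd (.lf 0x533) (.lf 0)) (.nd (.lf 0x172) (.lf 0)))) (.nd (.nd (.nd (.lf 0x33c) (.lf 0)) (.nd (.lf 0x1f0) (.lf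 0))) (.nd (.nd (.lf 0x37f) (.lf 0)) (.nd (.lf 0x699) (.lf 0))))) (.nd (.nd (.nd (.nd (.lf 0x20e) (.lf 0x63e)) (.nd (.lf 0x230) (.lf 0))) (.nd (.nd (.lf 0x349) (.lf 0)) (.nd (.lf 0x714) (.lf 0)))) (.nd (.nd (.nd (.lf 0x405) (.lf 0)) (.nd (.lf 0x7d9) (.lf 0))) (.nd (.nd (.lf 0x722) (.lf 0)) (.nd (.lf 0x222) (.lf 0)))))))
def tabQ2_naaaaab : Tr := (.nd (.nd (.nd (.nd (.nd (.nd (.lf 0x61) (.lf 0x550)) (.nd (.lf 0x5de) (.lf 0))) (.nd (.nd (.lf 0x4c) (.lf 0)) (.nd (.lf 0x239) (.lf 0)))) (.nd (.nd (.nd (.lf 0x2f4) (.lf 0)) (.nd (.lf 0x515) (.lf 0))) (.nd (.nd (.lf 0x2ae) (.lf 0)) (.nd (.lf 0x384) (.lf 0))))) (.nd (.nd (.nd (.nd (.lf 0x1bd) (.lf 0x68a)) (.nd (.lf 0x3db) (.lf 0))) (.nd (.nd (.lf 0x2a1) (.lf 0)) (.nd (.lf 0x571) (.lf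 0)))) (.nd (.nd (.nd (.lf 0x40b) (.lf 0)) (.nd (.lf 0x3dd) (.lf 0))) (.nd (.nd (.lf 0xd) (.lf 0)) (.nd (.lf 0x293) (.lf 0)))))) (.nd (.nd (.nd (.nd (.nd (.lf 0x5d) (.lf 0x8ba)) (.nd (.lf 0x7ab) (.lf 0))) (.nd (.nd (.lf 0x563) (.lf 0)) (.nd (.lf 0x83f) (.lf 0)))) (.nd (.nd (.nd (.lf 0x382) (.lf 0)) (.nd (.lf 0x6da) (.lf 0))) (.nd (.nd (.lf 0x667) (.lf 0)) (.nd (.lf 0x552) (.lf 0))))) (.nd (.nd (.nd (.nd (.lf 0x259) (.lf 0x42b)) (.nd (.lf 0x3d5) (.lf 0))) (.nd (.nd (.lf 0x622) (.lf 0)) (.nd (.lf 0x55e) (.lf 0)))) (.nd (.nd (.nd (.lf 0x19b) (.lf 0)) (.nd (.lf 0x872) (.lf 0))) (.nd (.nd (.lf 0x483) (.lf 0)) (.nd (.lf 0x106) (.lf 0)))))))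
def tabQ2_naaaaba : Tr := (.nd (.nd (.nd (.nd (.nd (.nd (.lf 0x33) (.lf 0x82f)) (.nd (.lf 0x19) (.lf 0))) (.nd (.nd (.lf 0x4dd) (.lf 0)) (.nd (.lf 0x7e) (.lf 0)))) (.nd (.nd (.nd (.lf 0x2d2) (.lf 0)) (.nd (.lf 0x42a) (.lf 0))) (.nd (.nd (.lf 0x661) (.lf 0)) (.nd (.lf 0x8c1) (.lf 0))))) (.nd (.nd (.nd (.nd (.lf 0x190) (.lf 0x808)) (.nd (.lf 0x125) (.lf 0))) (.nd (.nd (.lf 0x20f) (.lf 0)) (.nd (.lf 0x8bc) (.lf 0)))) (.nd (.nd (.nd (.lf 0x3ec) (.lf 0)) (.nd (.lf 0x86b) (.lf 0))) (.nd (.nd (.lf 0x6f4) (.lf 0)) (.nd (.lf 0x42c) (.lf 0)))))) (.nd (.nd (.nd (.nd (.nd (.lf 0xe7) (.lf 0x181)) (.nd (.lf 0x63) (.lf 0))) (.nd (.nd (.lf 0x4a4) (.lf 0)) (.nd (.lf 0x374) (.lf 0)))) (.nd (.nd (.nd (.lf 0x35e) (.lf 0)) (.nd (.lf 0xab) (.lf 0)))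 (.nd (.nd (.lf 0x678) (.lf 0)) (.nd (.lf 0x6b0) (.lf 0))))) (.nd (.nd (.nd (.nd (.lf 0x234) (.lf 0x88f)) (.nd (.lf 0x6b9) (.lf 0))) (.nd (.nd (.lf 0x60e) (.lf 0)) (.nd (.lf 0x787) (.lf 0)))) (.nd (.nd (.nd (.lf 0x466) (.lf 0)) (.nd (.lf 0x75d) (.lf 0))) (.nd (.nd (.lf 0x45e) (.lf 0)) (.nd (.lf 0x44f) (.lf 0)))))))
def tabQ2_naaaabb : Tr := (.nd (.nd (.nd (.nd (.nd (.nd (.lf 0x3f) (.lf 0x278)) (.nd (.lf 0x33d) (.lf 0))) (.nd (.nd (.lf 0x517) (.lf 0)) (.nd (.lf 0x85f) (.lf 0)))) (.nd (.nd (.nd (.lf 0x31d) (.lf 0)) (.nd (.lf 0x10b) (.lf 0))) (.nd (.nd (.lf 0x68d) (.lf 0)) (.nd (.lf 0x7e1) (.lf 0))))) (.nd (.nd (.nd (.nd (.lf 0x1e6) (.lf 0x8c0)) (.nd (.lf 0x32c) (.lf 0))) (.nd (.nd (.lf 0x4b5) (.lf 0)) (.nd (.lf 0x205) (.lf 0))))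 (.nd (.nd (.nd (.lf 0x204) (.lf 0)) (.nd (.lf 0x5e6) (.lf 0))) (.nd (.nd (.lf 0x716) (.lf 0)) (.nd (.lf 0x717) (.lf 0)))))) (.nd (.nd (.nd (.nd (.nd (.lf 0x13e) (.lf 0x6cd)) (.nd (.lf 0x7b5) (.lf 0))) (.nd (.nd (.lf 0x57e) (.lf 0)) (.nd (.lf 0x91) (.lf 0)))) (.nd (.nd (.nd (.lf 0x3a8) (.lf 0)) (.nd (.lf 0xe5) (.lf 0))) (.nd (.nd (.lf 0x65b) (.lf 0)) (.nd (.lf 0x877) (.lf 0))))) (.nd (.nd (.nd (.nd (.lf 0x283) (.lf 0x8f5)) (.nd (.lf 0x78c) (.lf 0))) (.nd (.nd (.lf 0x632) (.lf 0)) (.nd (.lf 0x229) (.lf 0)))) (.nd (.nd (.nd (.lf 0x49f) (.lf 0)) (.nd (.lf 0x6c) (.lf 0))) (.nd (.nd (.lf 0x48d) (.lf 0)) (.nd (.lf 0x866) (.lf 0)))))))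
def tabQ2_naaabaa : Tr := (.nd (.nd (.nd (.nd (.nd (.nd (.lf 0x1b) (.lf 0xdb)) (.nd (.lf 0x75c) (.lf 0))) (.nd (.nd (.lf 0x4cb) (.lf 0)) (.nd (.lf 0x5b5) (.lf 0)))) (.nd (.nd (.nd (.lf 0x2bd) (.lf 0)) (.nd (.lf 0x5ef) (.lf 0))) (.nd (.nd (.lf 0x653) (.lf 0)) (.nd (.lf 0x744) (.lf 0))))) (.nd (.nd (.nd (.nd (.lf 0x17e) (.lf 0x7b9)) (.nd (.lf 0x24d) (.lf 0))) (.nd (.nd (.lf 0x5ac) (.lf 0)) (.nd (.lf 0x576) (.lf 0)))) (.nd (.nd (.nd (.lf 0x3d9) (.lf 0)) (.nd (.lf 0x175) (.lf 0))) (.nd (.nd (.lf 0x41d) (.lf 0)) (.nd (.lf 0x741) (.lf 0)))))) (.nd (.nd (.nd (.nd (.nd (.lf 0xd1) (.lf 0x46a)) (.nd (.lf 0x4b) (.lf 0))) (.nd (.nd (.lf 0x26d) (.lf 0)) (.nd (.lf 0x753) (.lf 0)))) (.nd (.nd (.nd (.lf 0x34e) (.lf 0)) (.nd (.lf 0x4f2) (.lf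 0))) (.nd (.nd (.lf 0x6a8) (.lf 0)) (.nd (.lf 0x8eb) (.lf 0))))) (.nd (.nd (.nd (.nd (.lf 0x223) (.lf 0x1e5)) (.nd (.lf 0x50f) (.lf 0))) (.nd (.nd (.lf 0x28) (.lf 0)) (.nd (.lf 0x224) (.lf 0)))) (.nd (.nd (.nd (.lf 0x3e2) (.lf 0)) (.nd (.lf 0x709) (.lf 0))) (.nd (.nd (.lf 0x2a3) (.lf 0)) (.nd (.lf 0x8b5) (.lf 0)))))))
def tabQ2_naaabab : Tr := (.nd (.nd (.nd (.nd (.nd (.nd (.lf 0x79) (.lf 0x333)) (.nd (.lf 0x3c9) (.lf 0))) (.nd (.nd (.lf 0xf5) (.lf 0)) (.nd (.lf 0x85d) (.lf 0)))) (.nd (.nd (.nd (.lf 0x308) (.lf 0)) (.nd (.lf 0x30f) (.lf 0))) (.nd (.nd (.lf 0x389) (.lf 0)) (.nd (.lf 0x312) (.lf 0))))) (.nd (.nd (.nd (.nd (.lf 0x1d4) (.lf 0x8)) (.nd (.lf 0x43c) (.lf 0))) (.nd (.nd (.lf 0x17a) (.lf 0)) (.nd (.lf 0x641) (.lf 0))))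 (.nd (.nd (.nd (.lf 0x3cd) (.lf 0)) (.nd (.lf 0xa8) (.lf 0))) (.nd (.nd (.lf 0x0) (.lf 0)) (.nd (.lf 0x561) (.lf 0)))))) (.nd (.nd (.nd (.nd (.nd (.lf 0x126) (.lf 0x582)) (.nd (.lf 0x191) (.lf 0))) (.nd (.nd (.lf 0x570) (.lf 0)) (.nd (.lf 0x70c) (.lf 0)))) (.nd (.nd (.nd (.lf 0x398) (.lf 0)) (.nd (.lf 0x47b) (.lf 0))) (.nd (.nd (.lf 0x6c9) (.lf 0)) (.nd (.lf 0x1a5) (.lf 0))))) (.nd (.nd (.nd (.nd (.lf 0x26e) (.lf 0x428)) (.nd (.lf 0x2ef) (.lf 0))) (.nd (.nd (.lf 0x410) (.lf 0)) (.nd (.lf 0x3ba) (.lf 0)))) (.nd (.nd (.nd (.lf 0x492) (.lf 0)) (.nd (.lf 0x814) (.lf 0))) (.nd (.nd (.lf 0x746) (.lf 0)) (.nd (.lf 0x2f6) (.lf 0)))))))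
def tabQ2_naaabba : Tr := (.nd (.nd (.nd (.nd (.nd (.nd (.lf 0x4a) (.lf 0x6c4)) (.nd (.lf 0x260) (.lf 0))) (.nd (.nd (.lf 0x4ed) (.lf 0)) (.nd (.lf 0x715) (.lf 0)))) (.nd (.nd (.nd (.lf 0x2e4) (.lf 0)) (.nd (.lf 0x827) (.lf 0))) (.nd (.nd (.lf 0x66c) (.lf 0)) (.nd (.lf 0x739) (.lf 0))))) (.nd (.nd (.nd (.nd (.lf 0x1a7) (.lf 0x48)) (.nd (.lf 0x776) (.lf 0))) (.nd (.nd (.lf 0x5c4) (.lf 0)) (.nd (.lf 0x68f) (.lf 0)))) (.nd (.nd (.nd (.lf 0x3fa) (.lf 0)) (.nd (.lf 0xbd) (.lf 0))) (.nd (.nd (.lf 0x6b2) (.lf 0)) (.nd (.lf 0x68c) (.lf 0)))))) (.nd (.nd (.nd (.nd (.nd (.lf 0xfd) (.lf 0x38a)) (.nd (.lf 0x738) (.lf 0))) (.nd (.nd (.lf 0x556) (.lf 0)) (.nd (.lf 0x20a) (.lf 0)))) (.nd (.nd (.nd (.lf 0x370) (.lf 0)) (.nd (.lf 0x1f1) (.lf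 0))) (.nd (.nd (.lf 0x669) (.lf 0)) (.nd (.lf 0x721) (.lf 0))))) (.nd (.nd (.nd (.nd (.lf 0x249) (.lf 0x71a)) (.nd (.lf 0x510) (.lf 0))) (.nd (.nd (.lf 0x618) (.lf 0)) (.nd (.lf 0x7e9) (.lf 0)))) (.nd (.nd (.nd (.lf 0x475) (.lf 0)) (.nd (.lf 0x5c7) (.lf 0))) (.nd (.nd (.lf 0x5aa) (.lf 0)) (.nd (.lf 0x354) (.lf 0)))))))
def tabQ2_naaabbb : Tr := (.nd (.nd (.nd (.nd (.nd (.nd (.lf 0xa4) (.lf 0xd5)) (.nd (.lf 0x78f) (.lf 0))) (.nd (.nd (.lf 0x72) (.lf 0)) (.nd (.lf 0x78) (.lf 0)))) (.nd (.nd (.nd (.lf 0x329) (.lf 0)) (.nd (.lf 0x245) (.lf 0))) (.nd (.nd (.lf 0x13d) (.lf 0)) (.nd (.lf 0x8ea) (.lf 0))))) (.nd (.nd (.nd (.nd (.lf 0x1fa) (.lf 0x852)) (.nd (.lf 0x529) (.lf 0))) (.nd (.nd (.lf 0x5eb) (.lf 0)) (.nd (.lf 0x449) (.lf 0))))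 (.nd (.nd (.nd (.lf 0x43b) (.lf 0)) (.nd (.lf 0x44c) (.lf 0))) (.nd (.nd (.lf 0x71b) (.lf 0)) (.nd (.lf 0x2e) (.lf 0)))))) (.nd (.nd (.nd (.nd (.nd (.lf 0x154) (.lf 0x6c2)) (.nd (.lf 0x793) (.lf 0))) (.nd (.nd (.lf 0x22b) (.lf 0)) (.nd (.lf 0x69f) (.lf 0)))) (.nd (.nd (.nd (.lf 0x3b6) (.lf 0)) (.nd (.lf 0x7c9) (.lf 0))) (.nd (.nd (.lf 0x6d6) (.lf 0)) (.nd (.lf 0x792) (.lf 0))))) (.nd (.nd (.nd (.nd (.lf 0xb5) (.lf 0x574)) (.nd (.lf 0x812) (.lf 0))) (.nd (.nd (.lf 0x2fd) (.lf 0)) (.nd (.lf 0x8d1) (.lf 0)))) (.nd (.nd (.nd (.lf 0x12a) (.lf 0)) (.nd (.lf 0x59a) (.lf 0))) (.nd (.nd (.lf 0x647) (.lf 0)) (.nd (.lf 0x4cc) (.lf 0)))))))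
def tabQ2_naabaaa : Tr := (.nd (.nd (.nd (.nd (.nd (.nd (.lf 0xf) (.lf 0x4ca)) (.nd (.lf 0x18d) (.lf 0))) (.nd (.nd (.lf 0x4c0) (.lf 0)) (.nd (.lf 0x3a2) (.lf 0)))) (.nd (.nd (.nd (.lf 0x2b2) (.lf 0)) (.nd (.lf 0x42f) (.lf 0))) (.nd (.nd (.lf 0x64f) (.lf 0)) (.nd (.lf 0x865) (.lf 0))))) (.nd (.nd (.nd (.nd (.lf 0x174) (.lf 0x1ee)) (.nd (.lf 0x72b) (.lf 0))) (.nd (.nd (.lf 0x5a4) (.lf 0)) (.nd (.lf 0x7d3) (.lf 0)))) (.nd (.nd (.nd (.lf 0x2dc) (.lf 0)) (.nd (.lf 0x713) (.lf 0))) (.nd (.nd (.lf 0x6df) (.lf 0)) (.nd (.lf 0x3b5) (.lf 0)))))) (.nd (.nd (.nd (.nd (.nd (.lf 0xc7) (.lf 0x72e)) (.nd (.lf 0x3bf) (.lf 0))) (.nd (.nd (.lf 0x53a) (.lf 0)) (.nd (.lf 0x2e9) (.lf 0)))) (.nd (.nd (.nd (.lf 0x346) (.lf 0)) (.nd (.lf 0x546) (.lf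 0))) (.nd (.nd (.lf 0x6a3) (.lf 0)) (.nd (.lf 0x30a) (.lf 0))))) (.nd (.nd (.nd (.nd (.lf 0x218) (.lf 0x6d9)) (.nd (.lf 0x2f1) (.lf 0))) (.nd (.nd (.lf 0x434) (.lf 0)) (.nd (.lf 0x26b) (.lf 0)))) (.nd (.nd (.nd (.lf 0x3a) (.lf 0)) (.nd (.lf 0x165) (.lf 0))) (.nd (.nd (.lf 0x418) (.lf 0)) (.nd (.lf 0x151) (.lf 0)))))))
def tabQ2_naabaab : Tr := (.nd (.nd (.nd (.nd (.nd (.nd (.lf 0x6d) (.lf 0x8ac)) (.nd (.lf 0x1e1) (.lf 0))) (.nd (.nd (.lf 0x504) (.lf 0)) (.nd (.lf 0x853) (.lf 0)))) (.nd (.nd (.nd (.lf 0x2ff) (.lf 0)) (.nd (.lf 0x82e) (.lf 0))) (.nd (.nd (.lf 0x2d9) (.lf 0)) (.nd (.lf 0x6c1) (.lf 0))))) (.nd (.nd (.nd (.nd (.lf 0x1c9) (.lf 0x267)) (.nd (.lf 0x1c4) (.lf 0))) (.nd (.nd (.lf 0x5d0) (.lf 0)) (.nd (.lf 0xff) (.lf 0))))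 (.nd (.nd (.nd (.lf 0x387) (.lf 0)) (.nd (.lf 0x508) (.lf 0))) (.nd (.nd (.lf 0x70a) (.lf 0)) (.nd (.lf 0x46c) (.lf 0)))))) (.nd (.nd (.nd (.nd (.nd (.lf 0x11a) (.lf 0x850)) (.nd (.lf 0x543) (.lf 0))) (.nd (.nd (.lf 0x569) (.lf 0)) (.nd (.lf 0x803) (.lf 0)))) (.nd (.nd (.nd (.lf 0x38e) (.lf 0)) (.nd (.lf 0x5be) (.lf 0))) (.nd (.nd (.lf 0x7b) (.lf 0)) (.nd (.lf 0x4df) (.lf 0))))) (.nd (.nd (.nd (.nd (.lf 0x264) (.lf 0x3a6)) (.nd (.lf 0x51c) (.lf 0))) (.nd (.nd (.lf 0x5f5) (.lf 0)) (.nd (.lf 0x50b) (.lf 0)))) (.nd (.nd (.nd (.lf 0x48e) (.lf 0)) (.nd (.lf 0x630) (.lf 0))) (.nd (.nd (.lf 0x5c3) (.lf 0)) (.nd (.lf 0x69b) (.lf 0)))))))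
def tabQ2_naababa : Tr := (.nd (.nd (.nd (.nd (.nd (.nd (.lf 0x3e) (.lf 0x362)) (.nd (.lf 0x672) (.lf 0))) (.nd (.nd (.lf 0x1a3) (.lf 0)) (.nd (.lf 0x547) (.lf 0)))) (.nd (.nd (.nd (.lf 0x2de) (.lf 0)) (.nd (.lf 0x633) (.lf 0))) (.nd (.nd (.lf 0x1e4) (.lf 0)) (.nd (.lf 0x343) (.lf 0))))) (.nd (.nd (.nd (.nd (.lf 0x19c) (.lf 0x263)) (.nd (.lf 0x72d) (.lf 0))) (.nd (.nd (.lf 0x5bd) (.lf 0)) (.nd (.lf 0x2ed) (.lf 0)))) (.nd (.nd (.nd (.lf 0xaf) (.lf 0)) (.nd (.lf 0x580) (.lf 0))) (.nd (.nd (.lf 0x593) (.lf 0)) (.nd (.lf 0x5d9) (.lf 0)))))) (.nd (.nd (.nd (.nd (.nd (.lf 0xf1) (.lf 0x2b4)) (.nd (.lf 0xc3) (.lf 0))) (.nd (.nd (.lf 0x36a) (.lf 0)) (.nd (.lf 0x40c) (.lf 0)))) (.nd (.nd (.nd (.lf 0x369) (.lf 0)) (.nd (.lf 0x56b) (.lf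 0))) (.nd (.nd (.lf 0x6b5) (.lf 0)) (.nd (.lf 0x250) (.lf 0))))) (.nd (.nd (.nd (.nd (.lf 0x23d) (.lf 0x8e5)) (.nd (.lf 0x64b) (.lf 0))) (.nd (.nd (.lf 0x4c8) (.lf 0)) (.nd (.lf 0x70d) (.lf 0)))) (.nd (.nd (.nd (.lf 0x46e) (.lf 0)) (.nd (.lf 0x560) (.lf 0))) (.nd (.nd (.lf 0x733) (.lf 0)) (.nd (.lf 0x395) (.lf 0)))))))
def tabQ2_naababb : Tr := (.nd (.nd (.nd (.nd (.nd (.nd (.lf 0x9b) (.lf 0x8f0)) (.nd (.lf 0x1a0) (.lf 0))) (.nd (.nd (.lf 0x34) (.lf 0)) (.nd (.lf 0x8a2) (.lf 0)))) (.nd (.nd (.nd (.lf 0x23c) (.lf 0)) (.nd (.lf 0x49) (.lf 0))) (.nd (.nd (.lf 0x694) (.lf 0)) (.nd (.lf 0x1db) (.lf 0))))) (.nd (.nd (.nd (.nd (.lf 0xbf) (.lf 0x100)) (.nd (.lf 0x7e5) (.lf 0))) (.nd (.nd (.lf 0x304) (.lf 0)) (.nd (.lf 0x1b0) (.lf 0))))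 (.nd (.nd (.nd (.lf 0x430) (.lf 0)) (.nd (.lf 0x431) (.lf 0))) (.nd (.nd (.lf 0xcf) (.lf 0)) (.nd (.lf 0x8f4) (.lf 0)))))) (.nd (.nd (.nd (.nd (.nd (.lf 0x14a) (.lf 0x8c5)) (.nd (.lf 0x6e7) (.lf 0))) (.nd (.nd (.lf 0x40a) (.lf 0)) (.nd (.lf 0x8b6) (.lf 0)))) (.nd (.nd (.nd (.lf 0x23f) (.lf 0)) (.nd (.lf 0x682) (.lf 0))) (.nd (.nd (.lf 0x6d1) (.lf 0)) (.nd (.lf 0x345) (.lf 0))))) (.nd (.nd (.nd (.nd (.lf 0x28a) (.lf 0x4ab)) (.nd (.lf 0x7a0) (.lf 0))) (.nd (.nd (.lf 0x3b7) (.lf 0)) (.nd (.lf 0x6ab) (.lf 0)))) (.nd (.nd (.nd (.lf 0x4a7) (.lf 0)) (.nd (.lf 0xef) (.lf 0))) (.nd (.nd (.lf 0x6c6) (.lf 0)) (.nd (.lf 0x71c) (.lf 0)))))))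
def tabQ2_naabbaa : Tr := (.nd (.nd (.nd (.nd (.nd (.nd (.lf 0x27) (.lf 0x3c4)) (.nd (.lf 0x2b3) (.lf 0))) (.nd (.nd (.lf 0x4d5) (.lf 0)) (.nd (.lf 0x54a) (.lf 0)))) (.nd (.nd (.nd (.lf 0x2c7) (.lf 0)) (.nd (.lf 0x6e0) (.lf 0))) (.nd (.nd (.lf 0x65a) (.lf 0)) (.nd (.lf 0x356) (.lf 0))))) (.nd (.nd (.nd (.nd (.lf 0x187) (.lf 0x24f)) (.nd (.lf 0x51f) (.lf 0))) (.nd (.nd (.lf 0x5b3) (.lf 0)) (.nd (.lf 0x4aa) (.lf 0)))) (.nd (.nd (.nd (.lf 0x3e1) (.lf 0)) (.nd (.lf 0x690) (.lf 0))) (.nd (.nd (.lf 0x6f2) (.lf 0)) (.nd (.lf 0x133) (.lf 0)))))) (.nd (.nd (.nd (.nd (.nd (.lf 0xdd) (.lf 0x244)) (.nd (.lf 0x282) (.lf 0))) (.nd (.nd (.lf 0x495) (.lf 0)) (.nd (.lf 0x11) (.lf 0)))) (.nd (.nd (.nd (.lf 0x358) (.lf 0)) (.nd (.lf 0x381) (.lf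 0))) (.nd (.nd (.lf 0x6ae) (.lf 0)) (.nd (.lf 0x8d6) (.lf 0))))) (.nd (.nd (.nd (.nd (.lf 0x22a) (.lf 0x404)) (.nd (.lf 0x7cf) (.lf 0))) (.nd (.nd (.lf 0x609) (.lf 0)) (.nd (.lf 0x4e4) (.lf 0)))) (.nd (.nd (.nd (.lf 0x2fb) (.lf 0)) (.nd (.lf 0x83d) (.lf 0))) (.nd (.nd (.lf 0x72c) (.lf 0)) (.nd (.lf 0x60f) (.lf 0)))))))
def tabQ2_naabbab : Tr := (.nd (.nd (.nd (.nd (.nd (.nd (.lf 0x85) (.lf 0x5cb)) (.nd (.lf 0x783) (.lf 0))) (.nd (.nd (.lf 0x280) (.lf 0)) (.nd (.lf 0x1de) (.lf 0)))) (.nd (.nd (.nd (.lf 0x313) (.lf 0)) (.nd (.lf 0x3f3) (.lf 0))) (.nd (.nd (.lf 0x4) (.lf 0)) (.nd (.lf 0x7c4) (.lf 0))))) (.nd (.nd (.nd (.nd (.lf 0x1) (.lf 0x8f9)) (.nd (.lf 0x32f) (.lf 0))) (.nd (.nd (.lf 0x5db) (.lf 0)) (.nd (.lf 0x17c) (.lf 0))))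 (.nd (.nd (.nd (.lf 0x422) (.lf 0)) (.nd (.lf 0x876) (.lf 0))) (.nd (.nd (.lf 0x351) (.lf 0)) (.nd (.lf 0x6c0) (.lf 0)))))) (.nd (.nd (.nd (.nd (.nd (.lf 0x132) (.lf 0x6e4)) (.nd (.lf 0x423) (.lf 0))) (.nd (.nd (.lf 0x575) (.lf 0)) (.nd (.lf 0x16d) (.lf 0)))) (.nd (.nd (.nd (.lf 0x275) (.lf 0)) (.nd (.lf 0x6b6) (.lf 0))) (.nd (.nd (.lf 0x67e) (.lf 0)) (.nd (.lf 0x734) (.lf 0))))) (.nd (.nd (.nd (.nd (.lf 0x1c1) (.lf 0x86c)) (.nd (.lf 0x34a) (.lf 0))) (.nd (.nd (.lf 0x472) (.lf 0)) (.nd (.lf 0x7f1) (.lf 0)))) (.nd (.nd (.nd (.lf 0x499) (.lf 0)) (.nd (.lf 0x591) (.lf 0))) (.nd (.nd (.lf 0x214) (.lf 0)) (.nd (.lf 0x235) (.lf 0)))))))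
def tabQ2_naabbba : Tr := (.nd (.nd (.nd (.nd (.nd (.nd (.lf 0x56) (.lf 0x457)) (.nd (.lf 0x468) (.lf 0))) (.nd (.nd (.lf 0x4e) (.lf 0)) (.nd (.lf 0x379) (.lf 0)))) (.nd (.nd (.nd (.lf 0x2ec) (.lf 0)) (.nd (.lf 0x7ac) (.lf 0))) (.nd (.nd (.lf 0x5f2) (.lf 0)) (.nd (.lf 0x8e4) (.lf 0))))) (.nd (.nd (.nd (.nd (.lf 0x1b1) (.lf 0x4a6)) (.nd (.lf 0x63c) (.lf 0))) (.nd (.nd (.lf 0x158) (.lf 0)) (.nd (.lf 0xd2) (.lf 0)))) (.nd (.nd (.nd (.lf 0x403) (.lf 0)) (.nd (.lf 0x4af) (.lf 0))) (.nd (.nd (.lf 0x704) (.lf 0)) (.nd (.lf 0x684) (.lf 0)))))) (.nd (.nd (.nd (.nd (.nd (.lf 0x89) (.lf 0x8e9)) (.nd (.lf 0x5a5) (.lf 0))) (.nd (.nd (.lf 0x337) (.lf 0)) (.nd (.lf 0x686) (.lf 0)))) (.nd (.nd (.nd (.lf 0x37a) (.lf 0)) (.nd (.lf 0x82b) (.lf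 0))) (.nd (.nd (.lf 0x1d9) (.lf 0)) (.nd (.lf 0x598) (.lf 0))))) (.nd (.nd (.nd (.nd (.lf 0x161) (.lf 0x7d7)) (.nd (.lf 0x7fc) (.lf 0))) (.nd (.nd (.lf 0x61d) (.lf 0)) (.nd (.lf 0x31a) (.lf 0)))) (.nd (.nd (.nd (.lf 0x442) (.lf 0)) (.nd (.lf 0x68e) (.lf 0))) (.nd (.nd (.lf 0x73e) (.lf 0)) (.nd (.lf 0x61b) (.lf 0)))))))
def tabQ2_naabbbb : Tr := (.nd (.nd (.nd (.nd (.nd (.nd (.lf 0xb0) (.lf 0x8e2)) (.nd (.lf 0x220) (.lf 0))) (.nd (.nd (.lf 0x52a) (.lf 0)) (.nd (.lf 0x81d) (.lf 0)))) (.nd (.nd (.nd (.lf 0x25a) (.lf 0)) (.nd (.lf 0x6fd) (.lf 0))) (.nd (.nd (.lf 0x629) (.lf 0)) (.nd (.lf 0x29b) (.lf 0))))) (.nd (.nd (.nd (.nd (.lf 0x203) (.lf 0x809)) (.nd (.lf 0x28f) (.lf 0))) (.nd (.nd (.lf 0x210) (.lf 0)) (.nd (.lf 0x8ca) (.lf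 0)))) (.nd (.nd (.nd (.lf 0x445) (.lf 0)) (.nd (.lf 0x377) (.lf 0))) (.nd (.nd (.lf 0xec) (.lf 0)) (.nd (.lf 0xb2) (.lf 0)))))) (.nd (.nd (.nd (.nd (.nd (.lf 0x160) (.lf 0x66e)) (.nd (.lf 0x4b8) (.lf 0))) (.nd (.nd (.lf 0x47d) (.lf 0)) (.nd (.lf 0x85b) (.lf 0)))) (.nd (.nd (.nd (.lf 0x3be) (.lf 0)) (.nd (.lf 0x6bc) (.lf 0))) (.nd (.nd (.lf 0x1a8) (.lf 0)) (.nd (.lf 0x5b1) (.lf 0))))) (.nd (.nd (.nd (.nd (.lf 0x29f) (.lf 0x829)) (.nd (.lf 0x12e) (.lf 0))) (.nd (.nd (.lf 0x13a) (.lf 0)) (.nd (.lf 0x336) (.lf 0)))) (.nd (.nd (.nd (.lf 0x311) (.lf 0)) (.nd (.lf 0x307) (.lf 0))) (.nd (.nd (.lf 0x5e8) (.lf 0)) (.nd (.lf 0x4fe) (.lf 0)))))))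
def tabQ2_nabaaaa : Tr := (.nd (.nd (.nd (.nd (.nd (.nd (.lf 0x9) (.lf 0x845)) (.nd (.lf 0x757) (.lf 0))) (.nd (.nd (.lf 0x4bc) (.lf 0)) (.nd (.lf 0x2cb) (.lf 0)))) (.nd (.nd (.nd (.lf 0x2ad) (.lf 0)) (.nd (.lf 0x156) (.lf 0))) (.nd (.nd (.lf 0x566) (.lf 0)) (.nd (.lf 0x287) (.lf 0))))) (.nd (.nd (.nd (.nd (.lf 0x16f) (.lf 0x8ff)) (.nd (.lf 0x7c0) (.lf 0))) (.nd (.nd (.lf 0x9d) (.lf 0)) (.nd (.lf 0x867) (.lf 0)))) (.nd (.nd (.nd (.lf 0x3cb) (.lf 0)) (.nd (.lf 0x1ad) (.lf 0))) (.nd (.nd (.lf 0x676) (.lf 0)) (.nd (.lf 0x284) (.lf 0)))))) (.nd (.nd (.nd (.nd (.nd (.lf 0xc1) (.lf 0x778)) (.nd (.lf 0x6a5) (.lf 0))) (.nd (.nd (.lf 0x535) (.lf 0)) (.nd (.lf 0x88c) (.lf 0)))) (.nd (.nd (.nd (.lf 0x341) (.lf 0)) (.nd (.lf 0xd3) (.lf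 0))) (.nd (.nd (.lf 0x5da) (.lf 0)) (.nd (.lf 0x798) (.lf 0))))) (.nd (.nd (.nd (.nd (.lf 0x213) (.lf 0x50d)) (.nd (.lf 0x7cb) (.lf 0))) (.nd (.nd (.lf 0x462) (.lf 0)) (.nd (.lf 0x444) (.lf 0)))) (.nd (.nd (.nd (.lf 0xc0) (.lf 0)) (.nd (.lf 0xfb) (.lf 0))) (.nd (.nd (.lf 0x3da) (.lf 0)) (.nd (.lf 0x78a) (.lf 0)))))))
def tabQ2_nabaaab : Tr := (.nd (.nd (.nd (.nd (.nd (.nd (.lf 0x67) (.lf 0x64c)) (.nd (.lf 0x6d7) (.lf 0))) (.nd (.nd (.lf 0x4ff) (.lf 0)) (.nd (.lf 0x84a) (.lf 0)))) (.nd (.nd (.nd (.lf 0x2fa) (.lf 0)) (.nd (.lf 0x71d) (.lf 0))) (.nd (.nd (.lf 0x679) (.lf 0)) (.nd (.lf 0x75) (.lf 0))))) (.nd (.nd (.nd (.nd (.lf 0x1c3) (.lf 0x46b)) (.nd (.lf 0x5ab) (.lf 0))) (.nd (.nd (.lf 0x479) (.lf 0)) (.nd (.lf 0x822) (.lf 0))))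 (.nd (.nd (.nd (.lf 0x33b) (.lf 0)) (.nd (.lf 0x81e) (.lf 0))) (.nd (.nd (.lf 0x2cf) (.lf 0)) (.nd (.lf 0x772) (.lf 0)))))) (.nd (.nd (.nd (.nd (.nd (.lf 0x115) (.lf 0x89e)) (.nd (.lf 0x604) (.lf 0))) (.nd (.nd (.lf 0x20b) (.lf 0)) (.nd (.lf 0x8b1) (.lf 0)))) (.nd (.nd (.nd (.lf 0x388) (.lf 0)) (.nd (.lf 0x84f) (.lf 0))) (.nd (.nd (.lf 0x4c5) (.lf 0)) (.nd (.lf 0x816) (.lf 0))))) (.nd (.nd (.nd (.nd (.lf 0x25e) (.lf 0x47f)) (.nd (.lf 0x796) (.lf 0))) (.nd (.nd (.lf 0x51) (.lf 0)) (.nd (.lf 0x289) (.lf 0)))) (.nd (.nd (.nd (.lf 0x48a) (.lf 0)) (.nd (.lf 0x4d9) (.lf 0))) (.nd (.nd (.lf 0x742) (.lf 0)) (.nd (.lf 0x1e0) (.lf 0)))))))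
def tabQ2_nabaaba : Tr := (.nd (.nd (.nd (.nd (.nd (.nd (.lf 0x39) (.lf 0x53e)) (.nd (.lf 0x764) (.lf 0))) (.nd (.nd (.lf 0x4e0) (.lf 0)) (.nd (.lf 0x620) (.lf 0)))) (.nd (.nd (.nd (.lf 0x2d8) (.lf 0)) (.nd (.lf 0xe2) (.lf 0))) (.nd (.nd (.lf 0x665) (.lf 0)) (.nd (.lf 0x8df) (.lf 0))))) (.nd (.nd (.nd (.nd (.lf 0x196) (.lf 0x30c)) (.nd (.lf 0x7d0) (.lf 0))) (.nd (.nd (.lf 0x314) (.lf 0)) (.nd (.lf 0xae) (.lf 0)))) (.nd (.nd (.nd (.lf 0x3f1) (.lf 0)) (.nd (.lf 0x26f) (.lf 0))) (.nd (.nd (.lf 0x41a) (.lf 0)) (.nd (.lf 0xc2) (.lf 0)))))) (.nd (.nd (.nd (.nd (.nd (.lf 0x46) (.lf 0x509)) (.nd (.lf 0x4f8) (.lf 0))) (.nd (.nd (.lf 0x3fd) (.lf 0)) (.nd (.lf 0x3d8) (.lf 0)))) (.nd (.nd (.nd (.lf 0x364) (.lf 0)) (.nd (.lf 0x465) (.lf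 0))) (.nd (.nd (.lf 0x52f) (.lf 0)) (.nd (.lf 0x773) (.lf 0))))) (.nd (.nd (.nd (.nd (.lf 0x134) (.lf 0x747)) (.nd (.lf 0x4ea) (.lf 0))) (.nd (.nd (.lf 0x610) (.lf 0)) (.nd (.lf 0x8cd) (.lf 0)))) (.nd (.nd (.nd (.lf 0x1dd) (.lf 0)) (.nd (.lf 0x474) (.lf 0))) (.nd (.nd (.lf 0x4c7) (.lf 0)) (.nd (.lf 0x420) (.lf 0)))))))
def tabQ2_nabaabb : Tr := (.nd (.nd (.nd (.nd (.nd (.nd (.lf 0x95) (.lf 0x6f5)) (.nd (.lf 0x788) (.lf 0))) (.nd (.nd (.lf 0x81) (.lf 0)) (.nd (.lf 0x3bc) (.lf 0)))) (.nd (.nd (.nd (.lf 0x2c3) (.lf 0)) (.nd (.lf 0x83a) (.lf 0))) (.nd (.nd (.lf 0x691) (.lf 0)) (.nd (.lf 0x35d) (.lf 0))))) (.nd (.nd (.nd (.nd (.lf 0x1eb) (.lf 0x71)) (.nd (.lf 0x7e4) (.lf 0))) (.nd (.nd (.lf 0x5e4) (.lf 0)) (.nd (.lf 0x3ad) (.lf 0))))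 (.nd (.nd (.nd (.lf 0x357) (.lf 0)) (.nd (.lf 0x201) (.lf 0))) (.nd (.nd (.lf 0x25) (.lf 0)) (.nd (.lf 0x5f6) (.lf 0)))))) (.nd (.nd (.nd (.nd (.nd (.lf 0x144) (.lf 0x8f8)) (.nd (.lf 0x55c) (.lf 0))) (.nd (.nd (.lf 0x581) (.lf 0)) (.nd (.lf 0x1aa) (.lf 0)))) (.nd (.nd (.nd (.lf 0x3ac) (.lf 0)) (.nd (.lf 0x859) (.lf 0))) (.nd (.nd (.lf 0x330) (.lf 0)) (.nd (.lf 0x60) (.lf 0))))) (.nd (.nd (.nd (.nd (.lf 0x1ff) (.lf 0x82d)) (.nd (.lf 0x7b0) (.lf 0))) (.nd (.nd (.lf 0x637) (.lf 0)) (.nd (.lf 0x73f) (.lf 0)))) (.nd (.nd (.nd (.lf 0x112) (.lf 0)) (.nd (.lf 0x7a5) (.lf 0))) (.nd (.nd (.lf 0x74c) (.lf 0)) (.nd (.lf 0x302) (.lf 0)))))))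
def tabQ2_nababaa : Tr := (.nd (.nd (.nd (.nd (.nd (.nd (.lf 0x21) (.lf 0x660)) (.nd (.lf 0x288) (.lf 0))) (.nd (.nd (.lf 0x4d0) (.lf 0)) (.nd (.lf 0x87b) (.lf 0)))) (.nd (.nd (.nd (.lf 0x2c1) (.lf 0)) (.nd (.lf 0x805) (.lf 0))) (.nd (.nd (.lf 0x656) (.lf 0)) (.nd (.lf 0x6f7) (.lf 0))))) (.nd (.nd (.nd (.nd (.lf 0x182) (.lf 0x2)) (.nd (.lf 0x13) (.lf 0))) (.nd (.nd (.lf 0x5b0) (.lf 0)) (.nd (.lf 0x338) (.lf 0)))) (.nd (.nd (.nd (.lf 0x168) (.lf 0)) (.nd (.lf 0x7f9) (.lf 0))) (.nd (.nd (.lf 0x6f0) (.lf 0)) (.nd (.lf 0x8f1) (.lf 0)))))) (.nd (.nd (.nd (.nd (.nd (.lf 0xd7) (.lf 0x8f6)) (.nd (.lf 0x79c) (.lf 0))) (.nd (.nd (.lf 0x540) (.lf 0)) (.nd (.lf 0x425) (.lf 0)))) (.nd (.nd (.nd (.lf 0x136) (.lf 0)) (.nd (.lf 0x802) (.lf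 0))) (.nd (.nd (.lf 0x6ac) (.lf 0)) (.nd (.lf 0x56e) (.lf 0))))) (.nd (.nd (.nd (.nd (.lf 0x118) (.lf 0xe6)) (.nd (.lf 0x3d0) (.lf 0))) (.nd (.nd (.lf 0xc8) (.lf 0)) (.nd (.lf 0xf0) (.lf 0)))) (.nd (.nd (.nd (.lf 0x45b) (.lf 0)) (.nd (.lf 0x688) (.lf 0))) (.nd (.nd (.lf 0x728) (.lf 0)) (.nd (.lf 0x8b) (.lf 0)))))))
def tabQ2_nababab : Tr := (.nd (.nd (.nd (.nd (.nd (.nd (.lf 0x7f) (.lf 0x8fa)) (.nd (.lf 0x782) (.lf 0))) (.nd (.nd (.lf 0x50e) (.lf 0)) (.nd (.lf 0x55) (.lf 0)))) (.nd (.nd (.nd (.lf 0x30d) (.lf 0)) (.nd (.lf 0x743) (.lf 0))) (.nd (.nd (.lf 0x331) (.lf 0)) (.nd (.lf 0x3b4) (.lf 0))))) (.nd (.nd (.nd (.nd (.lf 0x1da) (.lf 0x2f)) (.nd (.lf 0x35f) (.lf 0))) (.nd (.nd (.lf 0x5d6) (.lf 0)) (.nd (.lf 0x5a3) (.lf 0))))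 (.nd (.nd (.nd (.lf 0x41e) (.lf 0)) (.nd (.lf 0x178) (.lf 0))) (.nd (.nd (.lf 0x70f) (.lf 0)) (.nd (.lf 0x7a6) (.lf 0)))))) (.nd (.nd (.nd (.nd (.nd (.lf 0x12c) (.lf 0x8fc)) (.nd (.lf 0x25b) (.lf 0))) (.nd (.nd (.lf 0x573) (.lf 0)) (.nd (.lf 0x692) (.lf 0)))) (.nd (.nd (.nd (.lf 0x39c) (.lf 0)) (.nd (.lf 0x855) (.lf 0))) (.nd (.nd (.lf 0x6cb) (.lf 0)) (.nd (.lf 0x7d4) (.lf 0))))) (.nd (.nd (.nd (.nd (.lf 0x274) (.lf 0x2b9)) (.nd (.lf 0x5f8) (.lf 0))) (.nd (.nd (.lf 0x411) (.lf 0)) (.nd (.lf 0x585) (.lf 0)))) (.nd (.nd (.nd (.lf 0x496) (.lf 0)) (.nd (.lf 0x7c7) (.lf 0))) (.nd (.nd (.lf 0x68) (.lf 0)) (.nd (.lf 0x3de) (.lf 0)))))))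
def tabQ2_nababba : Tr := (.nd (.nd (.nd (.nd (.nd (.nd (.lf 0x50) (.lf 0x3bd)) (.nd (.lf 0x76d) (.lf 0))) (.nd (.nd (.lf 0x48b) (.lf 0)) (.nd (.lf 0x162) (.lf 0)))) (.nd (.nd (.nd (.lf 0x2e8) (.lf 0)) (.nd (.lf 0x648) (.lf 0))) (.nd (.nd (.lf 0x66f) (.lf 0)) (.nd (.lf 0x488) (.lf 0))))) (.nd (.nd (.nd (.nd (.lf 0x1ac) (.lf 0x780)) (.nd (.lf 0x7d6) (.lf 0))) (.nd (.nd (.lf 0x500) (.lf 0)) (.nd (.lf 0x2d0) (.lf 0)))) (.nd (.nd (.nd (.lf 0x3ff) (.lf 0)) (.nd (.lf 0x86d) (.lf 0))) (.nd (.nd (.lf 0x62a) (.lf 0)) (.nd (.lf 0x6fe) (.lf 0)))))) (.nd (.nd (.nd (.nd (.nd (.lf 0x102) (.lf 0x7ff)) (.nd (.lf 0x452) (.lf 0))) (.nd (.nd (.lf 0x558) (.lf 0)) (.nd (.lf 0x87d) (.lf 0)))) (.nd (.nd (.nd (.lf 0x375) (.lf 0)) (.nd (.lf 0x39f) (.lf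 0))) (.nd (.nd (.lf 0x93) (.lf 0)) (.nd (.lf 0x195) (.lf 0))))) (.nd (.nd (.nd (.nd (.lf 0x1b6) (.lf 0x3e3)) (.nd (.lf 0x7fb) (.lf 0))) (.nd (.nd (.lf 0x61a) (.lf 0)) (.nd (.lf 0x7c5) (.lf 0)))) (.nd (.nd (.nd (.lf 0x47a) (.lf 0)) (.nd (.lf 0x76a) (.lf 0))) (.nd (.nd (.lf 0x73a) (.lf 0)) (.nd (.lf 0x789) (.lf 0)))))))
def tabQ2_nababbb : Tr := (.nd (.nd (.nd (.nd (.nd (.nd (.lf 0xaa) (.lf 0x8b9)) (.nd (.lf 0x104) (.lf 0))) (.nd (.nd (.lf 0x527) (.lf 0)) (.nd (.lf 0x8a4) (.lf 0)))) (.nd (.nd (.nd (.lf 0x32e) (.lf 0)) (.nd (.lf 0x6c5) (.lf 0))) (.nd (.nd (.lf 0x19f) (.lf 0)) (.nd (.lf 0x8ae) (.lf 0))))) (.nd (.nd (.nd (.nd (.lf 0x1bf) (.lf 0x67c)) (.nd (.lf 0x4c2) (.lf 0))) (.nd (.nd (.lf 0x5ee) (.lf 0)) (.nd (.lf 0x89a) (.lf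 0)))) (.nd (.nd (.nd (.lf 0x440) (.lf 0)) (.nd (.lf 0x879) (.lf 0))) (.nd (.nd (.lf 0x29e) (.lf 0)) (.nd (.lf 0x7a1) (.lf 0)))))) (.nd (.nd (.nd (.nd (.nd (.lf 0x15a) (.lf 0x363)) (.nd (.lf 0x754) (.lf 0))) (.nd (.nd (.lf 0x590) (.lf 0)) (.nd (.lf 0x407) (.lf 0)))) (.nd (.nd (.nd (.lf 0x3b9) (.lf 0)) (.nd (.lf 0x860) (.lf 0))) (.nd (.nd (.lf 0x6d8) (.lf 0)) (.nd (.lf 0x184) (.lf 0))))) (.nd (.nd (.nd (.nd (.lf 0x299) (.lf 0x8d3)) (.nd (.lf 0x6e3) (.lf 0))) (.nd (.nd (.lf 0x643) (.lf 0)) (.nd (.lf 0x400) (.lf 0)))) (.nd (.nd (.nd (.lf 0x4b0) (.lf 0)) (.nd (.lf 0x2b1) (.lf 0))) (.nd (.nd (.lf 0x10e) (.lf 0)) (.nd (.lf 0x27a) (.lf 0)))))))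
def tabQ2_nabbaaa : Tr := (.nd (.nd (.nd (.nd (.nd (.nd (.lf 0x15) (.lf 0x390)) (.nd (.lf 0x320) (.lf 0))) (.nd (.nd (.lf 0x4c6) (.lf 0)) (.nd (.lf 0x7e0) (.lf 0)))) (.nd (.nd (.nd (.lf 0x2b8) (.lf 0)) (.nd (.lf 0x81b) (.lf 0))) (.nd (.nd (.lf 0xf2) (.lf 0)) (.nd (.lf 0x2cc) (.lf 0))))) (.nd (.nd (.nd (.nd (.lf 0x59) (.lf 0x820)) (.nd (.lf 0x3b0) (.lf 0))) (.nd (.nd (.lf 0x5a9) (.lf 0)) (.nd (.lf 0x8f) (.lf 0)))) (.nd (.nd (.nd (.lf 0x3d4) (.lf 0)) (.nd (.lf 0x97) (.lf 0))) (.nd (.nd (.lf 0x6ec) (.lf 0)) (.nd (.lf 0x1f4) (.lf 0)))))) (.nd (.nd (.nd (.nd (.nd (.lf 0xcc) (.lf 0x4fb)) (.nd (.lf 0x2a5) (.lf 0))) (.nd (.nd (.lf 0x53c) (.lf 0)) (.nd (.lf 0x81f) (.lf 0)))) (.nd (.nd (.nd (.lf 0x15e) (.lf 0)) (.nd (.lf 0x843) (.lf 0)))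 (.nd (.nd (.lf 0x383) (.lf 0)) (.nd (.lf 0x81a) (.lf 0))))) (.nd (.nd (.nd (.nd (.lf 0x21e) (.lf 0x8e7)) (.nd (.lf 0x33a) (.lf 0))) (.nd (.nd (.lf 0x5fe) (.lf 0)) (.nd (.lf 0x37) (.lf 0)))) (.nd (.nd (.nd (.lf 0x451) (.lf 0)) (.nd (.lf 0x836) (.lf 0))) (.nd (.nd (.lf 0x145) (.lf 0)) (.nd (.lf 0x7bc) (.lf 0)))))))
def tabQ2_nabbaab : Tr := (.nd (.nd (.nd (.nd (.nd (.nd (.lf 0x73) (.lf 0x5fb)) (.nd (.lf 0x77d) (.lf 0))) (.nd (.nd (.lf 0x148) (.lf 0)) (.nd (.lf 0x7a) (.lf 0)))) (.nd (.nd (.nd (.lf 0x303) (.lf 0)) (.nd (.lf 0x674) (.lf 0))) (.nd (.nd (.lf 0x173) (.lf 0)) (.nd (.lf 0x4ba) (.lf 0))))) (.nd (.nd (.nd (.nd (.lf 0x1ce) (.lf 0x2da)) (.nd (.lf 0x478) (.lf 0))) (.nd (.nd (.lf 0x5d3) (.lf 0)) (.nd (.lf 0x7de) (.lf 0))))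 (.nd (.nd (.nd (.lf 0x7) (.lf 0)) (.nd (.lf 0x873) (.lf 0))) (.nd (.nd (.lf 0x6ce) (.lf 0)) (.nd (.lf 0x7c1) (.lf 0)))))) (.nd (.nd (.nd (.nd (.nd (.lf 0x120) (.lf 0x8f3)) (.nd (.lf 0x446) (.lf 0))) (.nd (.nd (.lf 0x3c2) (.lf 0)) (.nd (.lf 0x82a) (.lf 0)))) (.nd (.nd (.nd (.lf 0x393) (.lf 0)) (.nd (.lf 0x7ca) (.lf 0))) (.nd (.nd (.lf 0x27d) (.lf 0)) (.nd (.lf 0x7d2) (.lf 0))))) (.nd (.nd (.nd (.nd (.lf 0x269) (.lf 0x8d4)) (.nd (.lf 0x804) (.lf 0))) (.nd (.nd (.lf 0x24e) (.lf 0)) (.nd (.lf 0x197) (.lf 0)))) (.nd (.nd (.nd (.lf 0x490) (.lf 0)) (.nd (.lf 0x889) (.lf 0))) (.nd (.nd (.lf 0x4d3) (.lf 0)) (.nd (.lf 0x36f) (.lf 0)))))))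
def tabQ2_nabbaba : Tr := (.nd (.nd (.nd (.nd (.nd (.nd (.lf 0x44) (.lf 0x1f3)) (.nd (.lf 0x76b) (.lf 0))) (.nd (.nd (.lf 0x4e8) (.lf 0)) (.nd (.lf 0x724) (.lf 0)))) (.nd (.nd (.nd (.lf 0x2e0) (.lf 0)) (.nd (.lf 0x774) (.lf 0))) (.nd (.nd (.lf 0x2d1) (.lf 0)) (.nd (.lf 0x62d) (.lf 0))))) (.nd (.nd (.nd (.nd (.lf 0x1a1) (.lf 0x153)) (.nd (.lf 0x594) (.lf 0))) (.nd (.nd (.lf 0x5c1) (.lf 0)) (.nd (.lf 0x849) (.lf 0)))) (.nd (.nd (.nd (.lf 0x52) (.lf 0)) (.nd (.lf 0x66) (.lf 0))) (.nd (.nd (.lf 0x56d) (.lf 0)) (.nd (.lf 0x89f) (.lf 0)))))) (.nd (.nd (.nd (.nd (.nd (.lf 0xf7) (.lf 0x507)) (.nd (.lf 0x335) (.lf 0))) (.nd (.nd (.lf 0x551) (.lf 0)) (.nd (.lf 0x3b1) (.lf 0)))) (.nd (.nd (.nd (.lf 0x36d) (.lf 0)) (.nd (.lf 0x673) (.lf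 0))) (.nd (.nd (.lf 0x69a) (.lf 0)) (.nd (.lf 0x797) (.lf 0))))) (.nd (.nd (.nd (.nd (.lf 0x243) (.lf 0x85a)) (.nd (.lf 0x705) (.lf 0))) (.nd (.nd (.lf 0x615) (.lf 0)) (.nd (.lf 0x8b8) (.lf 0)))) (.nd (.nd (.nd (.lf 0x471) (.lf 0)) (.nd (.lf 0x53f) (.lf 0))) (.nd (.nd (.lf 0x736) (.lf 0)) (.nd (.lf 0x78b) (.lf 0)))))))
def tabQ2_nabbabb : Tr := (.nd (.nd (.nd (.nd (.nd (.nd (.lf 0x9f) (.lf 0x760)) (.nd (.lf 0x139) (.lf 0))) (.nd (.nd (.lf 0x520) (.lf 0)) (.nd (.lf 0x7aa) (.lf 0)))) (.nd (.nd (.nd (.lf 0x150) (.lf 0)) (.nd (.lf 0x811) (.lf 0))) (.nd (.nd (.lf 0x696) (.lf 0)) (.nd (.lf 0x371) (.lf 0))))) (.nd (.nd (.nd (.nd (.lf 0x1f5) (.lf 0x755)) (.nd (.lf 0x56f) (.lf 0))) (.nd (.nd (.lf 0x5e9) (.lf 0)) (.nd (.lf 0x163) (.lf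 0)))) (.nd (.nd (.nd (.lf 0x436) (.lf 0)) (.nd (.lf 0x21a) (.lf 0))) (.nd (.nd (.lf 0x5fd) (.lf 0)) (.nd (.lf 0x489) (.lf 0)))))) (.nd (.nd (.nd (.nd (.nd (.lf 0x14f) (.lf 0x65)) (.nd (.lf 0x7ba) (.lf 0))) (.nd (.nd (.lf 0x589) (.lf 0)) (.nd (.lf 0x57d) (.lf 0)))) (.nd (.nd (.nd (.lf 0x3b3) (.lf 0)) (.nd (.lf 0x77b) (.lf 0))) (.nd (.nd (.lf 0x6d3) (.lf 0)) (.nd (.lf 0x5ce) (.lf 0))))) (.nd (.nd (.nd (.nd (.lf 0x290) (.lf 0x36e)) (.nd (.lf 0x3a4) (.lf 0))) (.nd (.nd (.lf 0x2c) (.lf 0)) (.nd (.lf 0x899) (.lf 0)))) (.nd (.nd (.nd (.lf 0x4a9) (.lf 0)) (.nd (.lf 0x5bc) (.lf 0))) (.nd (.nd (.lf 0x750) (.lf 0)) (.nd (.lf 0x66d) (.lf 0)))))))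
def tabQ2_nabbbaa : Tr := (.nd (.nd (.nd (.nd (.nd (.nd (.lf 0x2d) (.lf 0x856)) (.nd (.lf 0x588) (.lf 0))) (.nd (.nd (.lf 0x2f0) (.lf 0)) (.nd (.lf 0x6f6) (.lf 0)))) (.nd (.nd (.nd (.lf 0x2cd) (.lf 0)) (.nd (.lf 0x31) (.lf 0))) (.nd (.nd (.lf 0x65e) (.lf 0)) (.nd (.lf 0x751) (.lf 0))))) (.nd (.nd (.nd (.nd (.lf 0x18b) (.lf 0x718)) (.nd (.lf 0x47e) (.lf 0))) (.nd (.nd (.lf 0x5b6) (.lf 0)) (.nd (.lf 0x319) (.lf 0)))) (.nd (.nd (.nd (.lf 0xb7) (.lf 0)) (.nd (.lf 0x2dd) (.lf 0))) (.nd (.nd (.lf 0x6f3) (.lf 0)) (.nd (.lf 0x3d) (.lf 0)))))) (.nd (.nd (.nd (.nd (.nd (.lf 0x94) (.lf 0x202)) (.nd (.lf 0x155) (.lf 0))) (.nd (.nd (.lf 0x545) (.lf 0)) (.nd (.lf 0x1cd) (.lf 0)))) (.nd (.nd (.nd (.lf 0x35b) (.lf 0)) (.nd (.lf 0x848) (.lf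 0))) (.nd (.nd (.lf 0x6b1) (.lf 0)) (.nd (.lf 0x8da) (.lf 0))))) (.nd (.nd (.nd (.nd (.lf 0xf6) (.lf 0x77)) (.nd (.lf 0xac) (.lf 0))) (.nd (.nd (.lf 0x60d) (.lf 0)) (.nd (.lf 0x84b) (.lf 0)))) (.nd (.nd (.nd (.lf 0x463) (.lf 0)) (.nd (.lf 0x548) (.lf 0))) (.nd (.nd (.lf 0x697) (.lf 0)) (.nd (.lf 0x481) (.lf 0)))))))
def tabQ2_nabbbab : Tr := (.nd (.nd (.nd (.nd (.nd (.nd (.lf 0x8a) (.lf 0x871)) (.nd (.lf 0x43a) (.lf 0))) (.nd (.nd (.lf 0x514) (.lf 0)) (.nd (.lf 0x8a0) (.lf 0)))) (.nd (.nd (.nd (.lf 0x318) (.lf 0)) (.nd (.lf 0x835) (.lf 0))) (.nd (.nd (.lf 0x689) (.lf 0)) (.nd (.lf 0x863) (.lf 0))))) (.nd (.nd (.nd (.nd (.lf 0x11b) (.lf 0x521)) (.nd (.lf 0x19a) (.lf 0))) (.nd (.nd (.lf 0x461) (.lf 0)) (.nd (.lf 0x8aa) (.lf 0))))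 (.nd (.nd (.nd (.lf 0x427) (.lf 0)) (.nd (.lf 0x80a) (.lf 0))) (.nd (.nd (.lf 0x4cf) (.lf 0)) (.nd (.lf 0x8c3) (.lf 0)))))) (.nd (.nd (.nd (.nd (.nd (.lf 0x138) (.lf 0x82c)) (.nd (.lf 0x18c) (.lf 0))) (.nd (.nd (.lf 0x57a) (.lf 0)) (.nd (.lf 0x862) (.lf 0)))) (.nd (.nd (.nd (.lf 0x3a3) (.lf 0)) (.nd (.lf 0x29) (.lf 0))) (.nd (.nd (.lf 0x179) (.lf 0)) (.nd (.lf 0x2b) (.lf 0))))) (.nd (.nd (.nd (.nd (.lf 0x27e) (.lf 0x88e)) (.nd (.lf 0x447) (.lf 0))) (.nd (.nd (.lf 0x189) (.lf 0)) (.nd (.lf 0x4b4) (.lf 0)))) (.nd (.nd (.nd (.lf 0x49d) (.lf 0)) (.nd (.lf 0x459) (.lf 0))) (.nd (.nd (.lf 0xfe) (.lf 0)) (.nd (.lf 0x8d8) (.lf 0)))))))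
def tabQ2_nabbbba : Tr := (.nd (.nd (.nd (.nd (.nd (.nd (.lf 0x5b) (.lf 0x4c1)) (.nd (.lf 0x775) (.lf 0))) (.nd (.nd (.lf 0x4f7) (.lf 0)) (.nd (.lf 0x77a) (.lf 0)))) (.nd (.nd (.nd (.lf 0x42) (.lf 0)) (.nd (.lf 0x7b7) (.lf 0))) (.nd (.nd (.lf 0x646) (.lf 0)) (.nd (.lf 0x870) (.lf 0))))) (.nd (.nd (.nd (.nd (.lf 0x1b7) (.lf 0x8ef)) (.nd (.lf 0x712) (.lf 0))) (.nd (.nd (.lf 0x5ca) (.lf 0)) (.nd (.lf 0x5b8) (.lf 0)))) (.nd (.nd (.nd (.lf 0x406) (.lf 0)) (.nd (.lf 0x7cd) (.lf 0))) (.nd (.nd (.lf 0x706) (.lf 0)) (.nd (.lf 0x3d7) (.lf 0)))))) (.nd (.nd (.nd (.nd (.nd (.lf 0x10d) (.lf 0x7eb)) (.nd (.lf 0x3ee) (.lf 0))) (.nd (.nd (.lf 0x4fd) (.lf 0)) (.nd (.lf 0x272) (.lf 0)))) (.nd (.nd (.nd (.lf 0x37d) (.lf 0)) (.nd (.lf 0xe) (.lf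 0))) (.nd (.nd (.lf 0x8e) (.lf 0)) (.nd (.lf 0x8b2) (.lf 0))))) (.nd (.nd (.nd (.nd (.lf 0xe0) (.lf 0x4ee)) (.nd (.lf 0x77c) (.lf 0))) (.nd (.nd (.lf 0x3ab) (.lf 0)) (.nd (.lf 0xd0) (.lf 0)))) (.nd (.nd (.nd (.lf 0x482) (.lf 0)) (.nd (.lf 0x885) (.lf 0))) (.nd (.nd (.lf 0x740) (.lf 0)) (.nd (.lf 0x2bb) (.lf 0)))))))
def tabQ2_nabbbbb : Tr := (.nd (.nd (.nd (.nd (.nd (.nd (.lf 0xb6) (.lf 0x322)) (.nd (.lf 0x794) (.lf 0))) (.nd (.nd (.lf 0x530) (.lf 0)) (.nd (.lf 0x8a7) (.lf 0)))) (.nd (.nd (.nd (.lf 0x14) (.lf 0)) (.nd (.lf 0x826) (.lf 0))) (.nd (.nd (.lf 0x6a1) (.lf 0)) (.nd (.lf 0x685) (.lf 0))))) (.nd (.nd (.nd (.nd (.lf 0x209) (.lf 0x839)) (.nd (.lf 0x4a0) (.lf 0))) (.nd (.nd (.lf 0x5f3) (.lf 0)) (.nd (.lf 0x3c7) (.lf 0))))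 (.nd (.nd (.nd (.lf 0xb1) (.lf 0)) (.nd (.lf 0x729) (.lf 0))) (.nd (.nd (.lf 0x654) (.lf 0)) (.nd (.lf 0x3cf) (.lf 0)))))) (.nd (.nd (.nd (.nd (.nd (.lf 0x164) (.lf 0xd8)) (.nd (.lf 0x1c) (.lf 0))) (.nd (.nd (.lf 0x599) (.lf 0)) (.nd (.lf 0x771) (.lf 0)))) (.nd (.nd (.nd (.lf 0x3c0) (.lf 0)) (.nd (.lf 0x54) (.lf 0))) (.nd (.nd (.lf 0x258) (.lf 0)) (.nd (.lf 0x6de) (.lf 0))))) (.nd (.nd (.nd (.nd (.lf 0x279) (.lf 0x73b)) (.nd (.lf 0x176) (.lf 0))) (.nd (.nd (.lf 0x3ed) (.lf 0)) (.nd (.lf 0x642) (.lf 0)))) (.nd (.nd (.nd (.lf 0x493) (.lf 0)) (.nd (.lf 0x372) (.lf 0))) (.nd (.nd (.lf 0x4e2) (.lf 0)) (.nd (.lf 0x2fc) (.lf 0)))))))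
def tabQ2_nbaaaaa : Tr := (.nd (.nd (.nd (.nd (.nd (.nd (.lf 0x6) (.lf 0x198)) (.nd (.lf 0x737) (.lf 0))) (.nd (.nd (.lf 0x1ca) (.lf 0)) (.nd (.lf 0x5e3) (.lf 0)))) (.nd (.nd (.nd (.lf 0x2ab) (.lf 0)) (.nd (.lf 0x817) (.lf 0))) (.nd (.nd (.lf 0x64a) (.lf 0)) (.nd (.lf 0x8dd) (.lf 0))))) (.nd (.nd (.nd (.nd (.lf 0x16c) (.lf 0x7f7)) (.nd (.lf 0x785) (.lf 0))) (.nd (.nd (.lf 0x59f) (.lf 0)) (.nd (.lf 0x4e7) (.lf 0)))) (.nd (.nd (.nd (.lf 0xf3) (.lf 0)) (.nd (.lf 0x505) (.lf 0))) (.nd (.nd (.lf 0x21d) (.lf 0)) (.nd (.lf 0x8bf) (.lf 0)))))) (.nd (.nd (.nd (.nd (.nd (.lf 0xbe) (.lf 0x7da)) (.nd (.lf 0x22) (.lf 0))) (.nd (.nd (.lf 0x3b8) (.lf 0)) (.nd (.lf 0x4bf) (.lf 0)))) (.nd (.nd (.nd (.lf 0x33e) (.lf 0)) (.nd (.lf 0x7df) (.lf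 0))) (.nd (.nd (.lf 0x564) (.lf 0)) (.nd (.lf 0x832) (.lf 0))))) (.nd (.nd (.nd (.nd (.lf 0x90) (.lf 0x522)) (.nd (.lf 0x5e1) (.lf 0))) (.nd (.nd (.lf 0x32d) (.lf 0)) (.nd (.lf 0x359) (.lf 0)))) (.nd (.nd (.nd (.lf 0x1c2) (.lf 0)) (.nd (.lf 0x7f3) (.lf 0))) (.nd (.nd (.lf 0x49c) (.lf 0)) (.nd (.lf 0x10c) (.lf 0)))))))
def tabQ2_nbaaaab : Tr := (.nd (.nd (.nd (.nd (.nd (.nd (.lf 0x64) (.lf 0x8a8)) (.nd (.lf 0x779) (.lf 0))) (.nd (.nd (.lf 0x4ae) (.lf 0)) (.nd (.lf 0x2bc) (.lf 0)))) (.nd (.nd (.nd (.lf 0x2f7) (.lf 0)) (.nd (.lf 0x74f) (.lf 0))) (.nd (.nd (.lf 0x3f0) (.lf 0)) (.nd (.lf 0x347) (.lf 0))))) (.nd (.nd (.nd (.nd (.lf 0x1c0) (.lf 0x84c)) (.nd (.lf 0x735) (.lf 0))) (.nd (.nd (.lf 0x143) (.lf 0)) (.nd (.lf 0x799) (.lf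 0)))) (.nd (.nd (.nd (.lf 0x40d) (.lf 0)) (.nd (.lf 0x23e) (.lf 0))) (.nd (.nd (.lf 0x623) (.lf 0)) (.nd (.lf 0x360) (.lf 0)))))) (.nd (.nd (.nd (.nd (.nd (.lf 0x113) (.lf 0x7f5)) (.nd (.lf 0x55d) (.lf 0))) (.nd (.nd (.lf 0x3fe) (.lf 0)) (.nd (.lf 0xca) (.lf 0)))) (.nd (.nd (.nd (.lf 0x385) (.lf 0)) (.nd (.lf 0x512) (.lf 0))) (.nd (.nd (.lf 0x2e5) (.lf 0)) (.nd (.lf 0x67b) (.lf 0))))) (.nd (.nd (.nd (.nd (.lf 0x25c) (.lf 0x869)) (.nd (.lf 0x75b) (.lf 0))) (.nd (.nd (.lf 0x625) (.lf 0)) (.nd (.lf 0x524) (.lf 0)))) (.nd (.nd (.nd (.lf 0x1d2) (.lf 0)) (.nd (.lf 0x663) (.lf 0))) (.nd (.nd (.lf 0x4d4) (.lf 0)) (.nd (.lf 0x23a) (.lf 0)))))))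
def tabQ2_nbaaaba : Tr := (.nd (.nd (.nd (.nd (.nd (.nd (.lf 0x36) (.lf 0x6f9)) (.nd (.lf 0x17b) (.lf 0))) (.nd (.nd (.lf 0x4de) (.lf 0)) (.nd (.lf 0x894) (.lf 0)))) (.nd (.nd (.nd (.lf 0x2d5) (.lf 0)) (.nd (.lf 0x1cf) (.lf 0))) (.nd (.nd (.lf 0x662) (.lf 0)) (.nd (.lf 0x211) (.lf 0))))) (.nd (.nd (.nd (.nd (.lf 0x193) (.lf 0x5f1)) (.nd (.lf 0x8c) (.lf 0))) (.nd (.nd (.lf 0x2a2) (.lf 0)) (.nd (.lf 0x17) (.lf 0)))) (.nd (.nd (.nd (.lf 0x3ef) (.lf 0)) (.nd (.lf 0x270) (.lf 0))) (.nd (.nd (.lf 0xd6) (.lf 0)) (.nd (.lf 0x79a) (.lf 0)))))) (.nd (.nd (.nd (.nd (.nd (.lf 0xe9) (.lf 0x71e)) (.nd (.lf 0x621) (.lf 0))) (.nd (.nd (.lf 0x549) (.lf 0)) (.nd (.lf 0x7bb) (.lf 0)))) (.nd (.nd (.nd (.lf 0x361) (.lf 0)) (.nd (.lf 0x7d5) (.lf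 0))) (.nd (.nd (.lf 0x17f) (.lf 0)) (.nd (.lf 0x84e) (.lf 0))))) (.nd (.nd (.nd (.nd (.lf 0x237) (.lf 0x7ad)) (.nd (.lf 0x7f6) (.lf 0))) (.nd (.nd (.lf 0x603) (.lf 0)) (.nd (.lf 0x53b) (.lf 0)))) (.nd (.nd (.nd (.lf 0x469) (.lf 0)) (.nd (.lf 0x57c) (.lf 0))) (.nd (.nd (.lf 0x730) (.lf 0)) (.nd (.lf 0x378) (.lf 0)))))))
def tabQ2_nbaaabb : Tr := (.nd (.nd (.nd (.nd (.nd (.nd (.lf 0x92) (.lf 0x693)) (.nd (.lf 0x786) (.lf 0))) (.nd (.nd (.lf 0x1fc) (.lf 0)) (.nd (.lf 0x1d8) (.lf 0)))) (.nd (.nd (.nd (.lf 0x31f) (.lf 0)) (.nd (.lf 0x5dc) (.lf 0))) (.nd (.nd (.lf 0x242) (.lf 0)) (.nd (.lf 0x8de) (.lf 0))))) (.nd (.nd (.nd (.nd (.lf 0x1e9) (.lf 0x72a)) (.nd (.lf 0x7e3) (.lf 0))) (.nd (.nd (.lf 0x394) (.lf 0)) (.nd (.lf 0x32b) (.lf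 0)))) (.nd (.nd (.nd (.lf 0x215) (.lf 0)) (.nd (.lf 0x114) (.lf 0))) (.nd (.nd (.lf 0x627) (.lf 0)) (.nd (.lf 0x6ea) (.lf 0)))))) (.nd (.nd (.nd (.nd (.nd (.lf 0x141) (.lf 0x8e3)) (.nd (.lf 0x562) (.lf 0))) (.nd (.nd (.lf 0x57f) (.lf 0)) (.nd (.lf 0x613) (.lf 0)))) (.nd (.nd (.nd (.lf 0x376) (.lf 0)) (.nd (.lf 0x554) (.lf 0))) (.nd (.nd (.lf 0xcb) (.lf 0)) (.nd (.lf 0x4dc) (.lf 0))))) (.nd (.nd (.nd (.nd (.lf 0x286) (.lf 0x166)) (.nd (.lf 0x1c8) (.lf 0))) (.nd (.nd (.lf 0x634) (.lf 0)) (.nd (.lf 0x256) (.lf 0)))) (.nd (.nd (.nd (.lf 0x4a1) (.lf 0)) (.nd (.lf 0x17d) (.lf 0))) (.nd (.nd (.lf 0x352) (.lf 0)) (.nd (.lf 0x2a0) (.lf 0)))))))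
def tabQ2_nbaabaa : Tr := (.nd (.nd (.nd (.nd (.nd (.nd (.lf 0x1e) (.lf 0x62f)) (.nd (.lf 0x75e) (.lf 0))) (.nd (.nd (.lf 0x4ce) (.lf 0)) (.nd (.lf 0x24c) (.lf 0)))) (.nd (.nd (.nd (.lf 0x2bf) (.lf 0)) (.nd (.lf 0x1fe) (.lf 0))) (.nd (.nd (.lf 0x208) (.lf 0)) (.nd (.lf 0x607) (.lf 0))))) (.nd (.nd (.nd (.nd (.lf 0x149) (.lf 0x39a)) (.nd (.lf 0x6bd) (.lf 0))) (.nd (.nd (.lf 0x577) (.lf 0)) (.nd (.lf 0x1ab) (.lf 0)))) (.nd (.nd (.nd (.lf 0x3dc) (.lf 0)) (.nd (.lf 0x1ef) (.lf 0))) (.nd (.nd (.lf 0x6ef) (.lf 0)) (.nd (.lf 0x8bd) (.lf 0)))))) (.nd (.nd (.nd (.nd (.nd (.lf 0xd4) (.lf 0x75f)) (.nd (.lf 0x79b) (.lf 0))) (.nd (.nd (.lf 0x83) (.lf 0)) (.nd (.lf 0x828) (.lf 0)))) (.nd (.nd (.nd (.lf 0x350) (.lf 0)) (.nd (.lf 0x5) (.lf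 0))) (.nd (.nd (.lf 0x6aa) (.lf 0)) (.nd (.lf 0x53d) (.lf 0))))) (.nd (.nd (.nd (.nd (.lf 0x225) (.lf 0x6b)) (.nd (.lf 0x579) (.lf 0))) (.nd (.nd (.lf 0x605) (.lf 0)) (.nd (.lf 0x273) (.lf 0)))) (.nd (.nd (.nd (.lf 0x458) (.lf 0)) (.nd (.lf 0x5d5) (.lf 0))) (.nd (.nd (.lf 0x437) (.lf 0)) (.nd (.lf 0x5f7) (.lf 0)))))))
def tabQ2_nbaabab : Tr := (.nd (.nd (.nd (.nd (.nd (.nd (.lf 0x7c) (.lf 0x7f8)) (.nd (.lf 0x781) (.lf 0))) (.nd (.nd (.lf 0x159) (.lf 0)) (.nd (.lf 0x54b) (.lf 0)))) (.nd (.nd (.nd (.lf 0x30b) (.lf 0)) (.nd (.lf 0x833) (.lf 0))) (.nd (.nd (.lf 0x4b1) (.lf 0)) (.nd (.lf 0x600) (.lf 0))))) (.nd (.nd (.nd (.nd (.lf 0x1d7) (.lf 0x768)) (.nd (.lf 0x73d) (.lf 0))) (.nd (.nd (.lf 0x2ac) (.lf 0)) (.nd (.lf 0x702) (.lf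 0)))) (.nd (.nd (.nd (.lf 0x41b) (.lf 0)) (.nd (.lf 0x5ec) (.lf 0))) (.nd (.nd (.lf 0x70e) (.lf 0)) (.nd (.lf 0x415) (.lf 0)))))) (.nd (.nd (.nd (.nd (.nd (.lf 0x129) (.lf 0x597)) (.nd (.lf 0x251) (.lf 0))) (.nd (.nd (.lf 0x572) (.lf 0)) (.nd (.lf 0x88) (.lf 0)))) (.nd (.nd (.nd (.lf 0x399) (.lf 0)) (.nd (.lf 0x854) (.lf 0))) (.nd (.nd (.lf 0x121) (.lf 0)) (.nd (.lf 0x8a5) (.lf 0))))) (.nd (.nd (.nd (.nd (.lf 0x271) (.lf 0x8f7)) (.nd (.lf 0x807) (.lf 0))) (.nd (.nd (.lf 0x559) (.lf 0)) (.nd (.lf 0x8d7) (.lf 0)))) (.nd (.nd (.nd (.lf 0x494) (.lf 0)) (.nd (.lf 0x7af) (.lf 0))) (.nd (.nd (.lf 0x16b) (.lf 0)) (.nd (.lf 0x1e8) (.lf 0)))))))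
def tabQ2_nbaabba : Tr := (.nd (.nd (.nd (.nd (.nd (.nd (.lf 0x4d) (.lf 0x886)) (.nd (.lf 0x43d) (.lf 0))) (.nd (.nd (.lf 0x4ef) (.lf 0)) (.nd (.lf 0x898) (.lf 0)))) (.nd (.nd (.nd (.lf 0x2e6) (.lf 0)) (.nd (.lf 0x5a) (.lf 0))) (.nd (.nd (.lf 0x657) (.lf 0)) (.nd (.lf 0x881) (.lf 0))))) (.nd (.nd (.nd (.nd (.lf 0x16) (.lf 0x668)) (.nd (.lf 0x1b5) (.lf 0))) (.nd (.nd (.lf 0x5c6) (.lf 0)) (.nd (.lf 0x480) (.lf 0)))) (.nd (.nd (.nd (.lf 0x3fc) (.lf 0)) (.nd (.lf 0x821) (.lf 0))) (.nd (.nd (.lf 0x2a9) (.lf 0)) (.nd (.lf 0x409) (.lf 0)))))) (.nd (.nd (.nd (.nd (.nd (.lf 0x20) (.lf 0x5d1)) (.nd (.lf 0x29d) (.lf 0))) (.nd (.nd (.lf 0x519) (.lf 0)) (.nd (.lf 0x8ad) (.lf 0)))) (.nd (.nd (.nd (.lf 0x373) (.lf 0)) (.nd (.lf 0x83c) (.lf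 0))) (.nd (.nd (.lf 0x6bb) (.lf 0)) (.nd (.lf 0x638) (.lf 0))))) (.nd (.nd (.nd (.nd (.lf 0x24b) (.lf 0x842)) (.nd (.lf 0x21f) (.lf 0))) (.nd (.nd (.lf 0x518) (.lf 0)) (.nd (.lf 0x14e) (.lf 0)))) (.nd (.nd (.nd (.lf 0xc5) (.lf 0)) (.nd (.lf 0x7c6) (.lf 0))) (.nd (.nd (.lf 0x487) (.lf 0)) (.nd (.lf 0x725) (.lf 0)))))))
def tabQ2_nbaabbb : Tr := (.nd (.nd (.nd (.nd (.nd (.nd (.lf 0xa7) (.lf 0xa2)) (.nd (.lf 0x80) (.lf 0))) (.nd (.nd (.lf 0x526) (.lf 0)) (.nd (.lf 0x4f0) (.lf 0)))) (.nd (.nd (.nd (.lf 0xa0) (.lf 0)) (.nd (.lf 0x83e) (.lf 0))) (.nd (.nd (.lf 0x464) (.lf 0)) (.nd (.lf 0x1fb) (.lf 0))))) (.nd (.nd (.nd (.nd (.lf 0x1fd) (.lf 0x8f2)) (.nd (.lf 0x6cc) (.lf 0))) (.nd (.nd (.lf 0x5ed) (.lf 0)) (.nd (.lf 0x10f) (.lf 0))))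 (.nd (.nd (.nd (.lf 0x43e) (.lf 0)) (.nd (.lf 0x439) (.lf 0))) (.nd (.nd (.lf 0x183) (.lf 0)) (.nd (.lf 0x467) (.lf 0)))))) (.nd (.nd (.nd (.nd (.nd (.lf 0x157) (.lf 0x131)) (.nd (.lf 0x2ee) (.lf 0))) (.nd (.nd (.lf 0x4e6) (.lf 0)) (.nd (.lf 0x7fa) (.lf 0)))) (.nd (.nd (.nd (.lf 0x25f) (.lf 0)) (.nd (.lf 0x85e) (.lf 0))) (.nd (.nd (.lf 0x477) (.lf 0)) (.nd (.lf 0x7b3) (.lf 0))))) (.nd (.nd (.nd (.nd (.lf 0x296) (.lf 0x6a4)) (.nd (.lf 0x813) (.lf 0))) (.nd (.nd (.lf 0x640) (.lf 0)) (.nd (.lf 0x7f0) (.lf 0)))) (.nd (.nd (.nd (.lf 0x426) (.lf 0)) (.nd (.lf 0x226) (.lf 0))) (.nd (.nd (.lf 0x238) (.lf 0)) (.nd (.lf 0x616) (.lf 0)))))))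
def tabQ2_nbabaaa : Tr := (.nd (.nd (.nd (.nd (.nd (.nd (.lf 0x12) (.lf 0x52e)) (.nd (.lf 0x75a) (.lf 0))) (.nd (.nd (.lf 0x4c3) (.lf 0)) (.nd (.lf 0x13f) (.lf 0)))) (.nd (.nd (.nd (.lf 0x2b5) (.lf 0)) (.nd (.lf 0x1bc) (.lf 0))) (.nd (.nd (.lf 0x2c9) (.lf 0)) (.nd (.lf 0x5e2) (.lf 0))))) (.nd (.nd (.nd (.nd (.lf 0x177) (.lf 0x884)) (.nd (.lf 0x659) (.lf 0))) (.nd (.nd (.lf 0x5a7) (.lf 0)) (.nd (.lf 0x291) (.lf 0)))) (.nd (.nd (.nd (.lf 0x3d2) (.lf 0)) (.nd (.lf 0x7ec) (.lf 0))) (.nd (.nd (.lf 0x192) (.lf 0)) (.nd (.lf 0x7a3) (.lf 0)))))) (.nd (.nd (.nd (.nd (.nd (.lf 0xc9) (.lf 0x7ce)) (.nd (.lf 0x42d) (.lf 0))) (.nd (.nd (.lf 0x298) (.lf 0)) (.nd (.lf 0x39d) (.lf 0)))) (.nd (.nd (.nd (.lf 0x122) (.lf 0)) (.nd (.lf 0x65d) (.lf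 0))) (.nd (.nd (.lf 0x1f6) (.lf 0)) (.nd (.lf 0x565) (.lf 0))))) (.nd (.nd (.nd (.nd (.lf 0x21b) (.lf 0x752)) (.nd (.lf 0x35a) (.lf 0))) (.nd (.nd (.lf 0x23b) (.lf 0)) (.nd (.lf 0x22e) (.lf 0)))) (.nd (.nd (.nd (.lf 0x252) (.lf 0)) (.nd (.lf 0x76e) (.lf 0))) (.nd (.nd (.lf 0x1be) (.lf 0)) (.nd (.lf 0x8c4) (.lf 0)))))))
def tabQ2_nbabaab : Tr := (.nd (.nd (.nd (.nd (.nd (.nd (.lf 0x70) (.lf 0x67f)) (.nd (.lf 0x3c) (.lf 0))) (.nd (.nd (.lf 0x506) (.lf 0)) (.nd (.lf 0x5c5) (.lf 0)))) (.nd (.nd (.nd (.lf 0x301) (.lf 0)) (.nd (.lf 0x5af) (.lf 0))) (.nd (.nd (.lf 0x16a) (.lf 0)) (.nd (.lf 0x8e6) (.lf 0))))) (.nd (.nd (.nd (.nd (.lf 0x1cb) (.lf 0x64e)) (.nd (.lf 0x51d) (.lf 0))) (.nd (.nd (.lf 0x4ad) (.lf 0)) (.nd (.lf 0x819) (.lf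 0)))) (.nd (.nd (.nd (.lf 0x414) (.lf 0)) (.nd (.lf 0x7f4) (.lf 0))) (.nd (.nd (.lf 0x2e1) (.lf 0)) (.nd (.lf 0x5ea) (.lf 0)))))) (.nd (.nd (.nd (.nd (.nd (.lf 0x11d) (.lf 0x2a4)) (.nd (.lf 0x57) (.lf 0))) (.nd (.nd (.lf 0x1d3) (.lf 0)) (.nd (.lf 0x5d7) (.lf 0)))) (.nd (.nd (.nd (.lf 0x391) (.lf 0)) (.nd (.lf 0x486) (.lf 0))) (.nd (.nd (.lf 0x6c7) (.lf 0)) (.nd (.lf 0x7e6) (.lf 0))))) (.nd (.nd (.nd (.nd (.lf 0x233) (.lf 0x784)) (.nd (.lf 0x1e2) (.lf 0))) (.nd (.nd (.lf 0x365) (.lf 0)) (.nd (.lf 0xf8) (.lf 0)))) (.nd (.nd (.nd (.lf 0x108) (.lf 0)) (.nd (.lf 0x4a8) (.lf 0))) (.nd (.nd (.lf 0xe8) (.lf 0)) (.nd (.lf 0x3e0) (.lf 0)))))))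
def tabQ2_nbababa : Tr := (.nd (.nd (.nd (.nd (.nd (.nd (.lf 0x41) (.lf 0x8b3)) (.nd (.lf 0x769) (.lf 0))) (.nd (.nd (.lf 0x4e5) (.lf 0)) (.nd (.lf 0x4bb) (.lf 0)))) (.nd (.nd (.nd (.lf 0x2df) (.lf 0)) (.nd (.lf 0x4b7) (.lf 0))) (.nd (.nd (.lf 0x5fc) (.lf 0)) (.nd (.lf 0x6e5) (.lf 0))))) (.nd (.nd (.nd (.nd (.lf 0x19e) (.lf 0x3e7)) (.nd (.lf 0x470) (.lf 0))) (.nd (.nd (.lf 0x5bf) (.lf 0)) (.nd (.lf 0x532) (.lf 0)))) (.nd (.nd (.nd (.lf 0x3f4) (.lf 0)) (.nd (.lf 0x3ae) (.lf 0))) (.nd (.nd (.lf 0x6fb) (.lf 0)) (.nd (.lf 0x8d2) (.lf 0)))))) (.nd (.nd (.nd (.nd (.nd (.lf 0xf4) (.lf 0x6bf)) (.nd (.lf 0x6e8) (.lf 0))) (.nd (.nd (.lf 0x54f) (.lf 0)) (.nd (.lf 0xa9) (.lf 0)))) (.nd (.nd (.nd (.lf 0x36b) (.lf 0)) (.nd (.lf 0x695) (.lf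 0))) (.nd (.nd (.lf 0x6b8) (.lf 0)) (.nd (.lf 0x65f) (.lf 0))))) (.nd (.nd (.nd (.nd (.lf 0x240) (.lf 0x58f)) (.nd (.lf 0x624) (.lf 0))) (.nd (.nd (.lf 0x614) (.lf 0)) (.nd (.lf 0x628) (.lf 0)))) (.nd (.nd (.nd (.lf 0x119) (.lf 0)) (.nd (.lf 0x34f) (.lf 0))) (.nd (.nd (.lf 0x67a) (.lf 0)) (.nd (.lf 0x56c) (.lf 0)))))))
def tabQ2_nbababb : Tr := (.nd (.nd (.nd (.nd (.nd (.nd (.lf 0x9c) (.lf 0x557)) (.nd (.lf 0x619) (.lf 0))) (.nd (.nd (.lf 0x265) (.lf 0)) (.nd (.lf 0x801) (.lf 0)))) (.nd (.nd (.nd (.lf 0x324) (.lf 0)) (.nd (.lf 0x732) (.lf 0))) (.nd (.nd (.lf 0x412) (.lf 0)) (.nd (.lf 0x217) (.lf 0))))) (.nd (.nd (.nd (.nd (.lf 0x1f2) (.lf 0x861)) (.nd (.lf 0x1f7) (.lf 0))) (.nd (.nd (.lf 0x5e7) (.lf 0)) (.nd (.lf 0x74d) (.lf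 0)))) (.nd (.nd (.nd (.lf 0x433) (.lf 0)) (.nd (.lf 0x681) (.lf 0))) (.nd (.nd (.lf 0x5c0) (.lf 0)) (.nd (.lf 0x39e) (.lf 0)))))) (.nd (.nd (.nd (.nd (.nd (.lf 0x14c) (.lf 0x8fd)) (.nd (.lf 0x49e) (.lf 0))) (.nd (.nd (.lf 0x587) (.lf 0)) (.nd (.lf 0x875) (.lf 0)))) (.nd (.nd (.nd (.lf 0x96) (.lf 0)) (.nd (.lf 0x44b) (.lf 0))) (.nd (.nd (.lf 0x450) (.lf 0)) (.nd (.lf 0x8a9) (.lf 0))))) (.nd (.nd (.nd (.nd (.lf 0x28d) (.lf 0x534)) (.nd (.lf 0x810) (.lf 0))) (.nd (.nd (.lf 0x63b) (.lf 0)) (.nd (.lf 0x756) (.lf 0)))) (.nd (.nd (.nd (.lf 0x3b2) (.lf 0)) (.nd (.lf 0x7bd) (.lf 0))) (.nd (.nd (.lf 0x62) (.lf 0)) (.nd (.lf 0x28e) (.lf 0)))))))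
def tabQ2_nbabbaa : Tr := (.nd (.nd (.nd (.nd (.nd (.nd (.lf 0x2a) (.lf 0x78e)) (.nd (.lf 0x6a7) (.lf 0))) (.nd (.nd (.lf 0x4d7) (.lf 0)) (.nd (.lf 0x2a7) (.lf 0)))) (.nd (.nd (.nd (.lf 0x2ca) (.lf 0)) (.nd (.lf 0x7b8) (.lf 0))) (.nd (.nd (.lf 0x65c) (.lf 0)) (.nd (.lf 0x8d0) (.lf 0))))) (.nd (.nd (.nd (.nd (.lf 0x26) (.lf 0x516)) (.nd (.lf 0x2f3) (.lf 0))) (.nd (.nd (.lf 0x5b4) (.lf 0)) (.nd (.lf 0x1c5) (.lf 0)))) (.nd (.nd (.nd (.lf 0x3e4) (.lf 0)) (.nd (.lf 0x555) (.lf 0))) (.nd (.nd (.lf 0xa6) (.lf 0)) (.nd (.lf 0x89b) (.lf 0)))))) (.nd (.nd (.nd (.nd (.nd (.lf 0xa) (.lf 0x537)) (.nd (.lf 0x79f) (.lf 0))) (.nd (.nd (.lf 0x544) (.lf 0)) (.nd (.lf 0x80e) (.lf 0)))) (.nd (.nd (.nd (.lf 0x25d) (.lf 0)) (.nd (.lf 0x5e5) (.lf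 0))) (.nd (.nd (.lf 0x11c) (.lf 0)) (.nd (.lf 0x8b0) (.lf 0))))) (.nd (.nd (.nd (.nd (.lf 0x22c) (.lf 0x8e8)) (.nd (.lf 0x328) (.lf 0))) (.nd (.nd (.lf 0x60a) (.lf 0)) (.nd (.lf 0x37e) (.lf 0)))) (.nd (.nd (.nd (.lf 0x460) (.lf 0)) (.nd (.lf 0x2b6) (.lf 0))) (.nd (.nd (.lf 0x1d0) (.lf 0)) (.nd (.lf 0x891) (.lf 0)))))))
def tabQ2_nbabbab : Tr := (.nd (.nd (.nd (.nd (.nd (.nd (.lf 0x87) (.lf 0x58d)) (.nd (.lf 0x30e) (.lf 0))) (.nd (.nd (.lf 0x2c0) (.lf 0)) (.nd (.lf 0x895) (.lf 0)))) (.nd (.nd (.nd (.lf 0x315) (.lf 0)) (.nd (.lf 0x834) (.lf 0))) (.nd (.nd (.lf 0x687) (.lf 0)) (.nd (.lf 0x4f3) (.lf 0))))) (.nd (.nd (.nd (.nd (.lf 0x1df) (.lf 0x8fe)) (.nd (.lf 0x37c) (.lf 0))) (.nd (.nd (.lf 0x5dd) (.lf 0)) (.nd (.lf 0x882) (.lf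 0)))) (.nd (.nd (.nd (.lf 0x31c) (.lf 0)) (.nd (.lf 0x1a) (.lf 0))) (.nd (.nd (.lf 0x137) (.lf 0)) (.nd (.lf 0x1f9) (.lf 0)))))) (.nd (.nd (.nd (.nd (.nd (.lf 0x135) (.lf 0x703)) (.nd (.lf 0x7b1) (.lf 0))) (.nd (.nd (.lf 0x578) (.lf 0)) (.nd (.lf 0x9e) (.lf 0)))) (.nd (.nd (.nd (.lf 0x186) (.lf 0)) (.nd (.lf 0x5ff) (.lf 0))) (.nd (.nd (.lf 0x650) (.lf 0)) (.nd (.lf 0x3d3) (.lf 0))))) (.nd (.nd (.nd (.nd (.lf 0x27c) (.lf 0x268)) (.nd (.lf 0x80b) (.lf 0))) (.nd (.nd (.lf 0x62e) (.lf 0)) (.nd (.lf 0x7ed) (.lf 0)))) (.nd (.nd (.nd (.lf 0x49b) (.lf 0)) (.nd (.lf 0x38) (.lf 0))) (.nd (.nd (.lf 0x749) (.lf 0)) (.nd (.lf 0x763) (.lf 0)))))))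
def tabQ2_nbabbba : Tr := (.nd (.nd (.nd (.nd (.nd (.nd (.lf 0x58) (.lf 0x38d)) (.nd (.lf 0x2f5) (.lf 0))) (.nd (.nd (.lf 0x4f5) (.lf 0)) (.nd (.lf 0x416) (.lf 0)))) (.nd (.nd (.nd (.lf 0xea) (.lf 0)) (.nd (.lf 0x7b6) (.lf 0))) (.nd (.nd (.lf 0x50c) (.lf 0)) (.nd (.lf 0x38f) (.lf 0))))) (.nd (.nd (.nd (.nd (.lf 0x1b4) (.lf 0x297)) (.nd (.lf 0x766) (.lf 0))) (.nd (.nd (.lf 0x2be) (.lf 0)) (.nd (.lf 0x8c2) (.lf 0)))) (.nd (.nd (.nd (.lf 0x2e7) (.lf 0)) (.nd (.lf 0x52b) (.lf 0))) (.nd (.nd (.lf 0x5f9) (.lf 0)) (.nd (.lf 0x5ad) (.lf 0)))))) (.nd (.nd (.nd (.nd (.nd (.lf 0x10a) (.lf 0x3f6)) (.nd (.lf 0x536) (.lf 0))) (.nd (.nd (.lf 0x55f) (.lf 0)) (.nd (.lf 0x883) (.lf 0)))) (.nd (.nd (.nd (.lf 0x37b) (.lf 0)) (.nd (.lf 0x32) (.lf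 0))) (.nd (.nd (.lf 0x6be) (.lf 0)) (.nd (.lf 0x325) (.lf 0))))) (.nd (.nd (.nd (.nd (.lf 0x253) (.lf 0x4f6)) (.nd (.lf 0x3eb) (.lf 0))) (.nd (.nd (.lf 0x180) (.lf 0)) (.nd (.lf 0x88b) (.lf 0)))) (.nd (.nd (.nd (.lf 0x84) (.lf 0)) (.nd (.lf 0xde) (.lf 0))) (.nd (.nd (.lf 0x28c) (.lf 0)) (.nd (.lf 0x841) (.lf 0)))))))
def tabQ2_nbabbbb : Tr := (.nd (.nd (.nd (.nd (.nd (.nd (.lf 0xb3) (.lf 0x8e0)) (.nd (.lf 0x77f) (.lf 0))) (.nd (.nd (.lf 0x52d) (.lf 0)) (.nd (.lf 0x759) (.lf 0)))) (.nd (.nd (.nd (.lf 0x334) (.lf 0)) (.nd (.lf 0x236) (.lf 0))) (.nd (.nd (.lf 0x69e) (.lf 0)) (.nd (.lf 0x70b) (.lf 0))))) (.nd (.nd (.nd (.nd (.lf 0x206) (.lf 0x719)) (.nd (.lf 0x366) (.lf 0))) (.nd (.nd (.lf 0x1af) (.lf 0)) (.nd (.lf 0x762) (.lf 0))))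 (.nd (.nd (.nd (.lf 0x448) (.lf 0)) (.nd (.lf 0x63f) (.lf 0))) (.nd (.nd (.lf 0x671) (.lf 0)) (.nd (.lf 0x12b) (.lf 0)))))) (.nd (.nd (.nd (.nd (.nd (.lf 0xbc) (.lf 0x513)) (.nd (.lf 0x2eb) (.lf 0))) (.nd (.nd (.lf 0x596) (.lf 0)) (.nd (.lf 0x54e) (.lf 0)))) (.nd (.nd (.nd (.lf 0xcd) (.lf 0)) (.nd (.lf 0x74a) (.lf 0))) (.nd (.nd (.lf 0x6dd) (.lf 0)) (.nd (.lf 0x1c7) (.lf 0))))) (.nd (.nd (.nd (.nd (.lf 0x1b2) (.lf 0x8ab)) (.nd (.lf 0x74b) (.lf 0))) (.nd (.nd (.lf 0x54c) (.lf 0)) (.nd (.lf 0x1a6) (.lf 0)))) (.nd (.nd (.nd (.lf 0x4b6) (.lf 0)) (.nd (.lf 0x59d) (.lf 0))) (.nd (.nd (.lf 0x2c6) (.lf 0)) (.nd (.lf 0x45d) (.lf 0)))))))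
def tabQ2_nbbaaaa : Tr := (.nd (.nd (.nd (.nd (.nd (.nd (.lf 0xc) (.lf 0x8ee)) (.nd (.lf 0x758) (.lf 0))) (.nd (.nd (.lf 0x4be) (.lf 0)) (.nd (.lf 0x3f2) (.lf 0)))) (.nd (.nd (.nd (.lf 0x2af) (.lf 0)) (.nd (.lf 0x424) (.lf 0))) (.nd (.nd (.lf 0x64d) (.lf 0)) (.nd (.lf 0x262) (.lf 0))))) (.nd (.nd (.nd (.nd (.lf 0x171) (.lf 0x367)) (.nd (.lf 0x300) (.lf 0))) (.nd (.nd (.lf 0x5a2) (.lf 0)) (.nd (.lf 0x49a) (.lf 0)))) (.nd (.nd (.nd (.lf 0x3ce) (.lf 0)) (.nd (.lf 0x670) (.lf 0))) (.nd (.nd (.lf 0x6e6) (.lf 0)) (.nd (.lf 0x79e) (.lf 0)))))) (.nd (.nd (.nd (.nd (.nd (.lf 0xc4) (.lf 0x7ee)) (.nd (.lf 0x29a) (.lf 0))) (.nd (.nd (.lf 0x538) (.lf 0)) (.nd (.lf 0x58e) (.lf 0)))) (.nd (.nd (.nd (.lf 0x344) (.lf 0)) (.nd (.lf 0x127) (.lf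 0))) (.nd (.nd (.lf 0x4b9) (.lf 0)) (.nd (.lf 0x1a2) (.lf 0))))) (.nd (.nd (.nd (.nd (.lf 0x216) (.lf 0x103)) (.nd (.lf 0x6d5) (.lf 0))) (.nd (.nd (.lf 0x5fa) (.lf 0)) (.nd (.lf 0x8cc) (.lf 0)))) (.nd (.nd (.nd (.lf 0x44d) (.lf 0)) (.nd (.lf 0x87a) (.lf 0))) (.nd (.nd (.lf 0x723) (.lf 0)) (.nd (.lf 0x3aa) (.lf 0)))))))
def tabQ2_nbbaaab : Tr := (.nd (.nd (.nd (.nd (.nd (.nd (.lf 0x6a) (.lf 0x7cc)) (.nd (.lf 0x63a) (.lf 0))) (.nd (.nd (.lf 0x501) (.lf 0)) (.nd (.lf 0x62c) (.lf 0)))) (.nd (.nd (.nd (.lf 0x1ec) (.lf 0)) (.nd (.lf 0x2b7) (.lf 0))) (.nd (.nd (.lf 0x140) (.lf 0)) (.nd (.lf 0x2f9) (.lf 0))))) (.nd (.nd (.nd (.nd (.lf 0x1c6) (.lf 0x800)) (.nd (.lf 0x7dc) (.lf 0))) (.nd (.nd (.lf 0x3ca) (.lf 0)) (.nd (.lf 0x386) (.lf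 0)))) (.nd (.nd (.nd (.lf 0x11e) (.lf 0)) (.nd (.lf 0x294) (.lf 0))) (.nd (.nd (.lf 0x708) (.lf 0)) (.nd (.lf 0x60c) (.lf 0)))))) (.nd (.nd (.nd (.nd (.nd (.lf 0x117) (.lf 0x606)) (.nd (.lf 0x3c1) (.lf 0))) (.nd (.nd (.lf 0x567) (.lf 0)) (.nd (.lf 0x6ca) (.lf 0)))) (.nd (.nd (.nd (.lf 0x38b) (.lf 0)) (.nd (.lf 0x767) (.lf 0))) (.nd (.nd (.lf 0x6c3) (.lf 0)) (.nd (.lf 0x323) (.lf 0))))) (.nd (.nd (.nd (.nd (.lf 0x261) (.lf 0x6eb)) (.nd (.lf 0x6f) (.lf 0))) (.nd (.nd (.lf 0x626) (.lf 0)) (.nd (.lf 0x3a7) (.lf 0)))) (.nd (.nd (.nd (.lf 0x48c) (.lf 0)) (.nd (.lf 0x636) (.lf 0))) (.nd (.nd (.lf 0x5c9) (.lf 0)) (.nd (.lf 0x309) (.lf 0)))))))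
def tabQ2_nbbaaba : Tr := (.nd (.nd (.nd (.nd (.nd (.nd (.lf 0x35) (.lf 0x5e0)) (.nd (.lf 0x765) (.lf 0))) (.nd (.nd (.lf 0x4e1) (.lf 0)) (.nd (.lf 0x897) (.lf 0)))) (.nd (.nd (.nd (.lf 0x2db) (.lf 0)) (.nd (.lf 0x823) (.lf 0))) (.nd (.nd (.lf 0x666) (.lf 0)) (.nd (.lf 0x8e1) (.lf 0))))) (.nd (.nd (.nd (.nd (.lf 0x199) (.lf 0x8db)) (.nd (.lf 0x7d1) (.lf 0))) (.nd (.nd (.lf 0x5bb) (.lf 0)) (.nd (.lf 0x8be) (.lf 0)))) (.nd (.nd (.nd (.lf 0x348) (.lf 0)) (.nd (.lf 0x5f0) (.lf 0))) (.nd (.nd (.lf 0x3fb) (.lf 0)) (.nd (.lf 0x5cd) (.lf 0)))))) (.nd (.nd (.nd (.nd (.nd (.lf 0xee) (.lf 0x8a3)) (.nd (.lf 0x6f8) (.lf 0))) (.nd (.nd (.lf 0x54d) (.lf 0)) (.nd (.lf 0x6fa) (.lf 0)))) (.nd (.nd (.nd (.lf 0x14d) (.lf 0)) (.nd (.lf 0x1d) (.lf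 0))) (.nd (.nd (.lf 0x6b3) (.lf 0)) (.nd (.lf 0x8ed) (.lf 0))))) (.nd (.nd (.nd (.nd (.lf 0x227) (.lf 0x23)) (.nd (.lf 0x43) (.lf 0))) (.nd (.nd (.lf 0x611) (.lf 0)) (.nd (.lf 0x5cf) (.lf 0)))) (.nd (.nd (.nd (.lf 0x46d) (.lf 0)) (.nd (.lf 0x87f) (.lf 0))) (.nd (.nd (.lf 0x33f) (.lf 0)) (.nd (.lf 0x874) (.lf 0)))))))
def tabQ2_nbbaabb : Tr := (.nd (.nd (.nd (.nd (.nd (.nd (.lf 0x98) (.lf 0x72f)) (.nd (.lf 0x441) (.lf 0))) (.nd (.nd (.lf 0x51a) (.lf 0)) (.nd (.lf 0x8a1) (.lf 0)))) (.nd (.nd (.nd (.lf 0x321) (.lf 0)) (.nd (.lf 0x4cd) (.lf 0))) (.nd (.nd (.lf 0x10) (.lf 0)) (.nd (.lf 0x4fc) (.lf 0))))) (.nd (.nd (.nd (.nd (.lf 0x1ed) (.lf 0x511)) (.nd (.lf 0x664) (.lf 0))) (.nd (.nd (.lf 0x4ec) (.lf 0)) (.nd (.lf 0x8af) (.lf 0))))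 (.nd (.nd (.nd (.lf 0x42e) (.lf 0)) (.nd (.lf 0xc6) (.lf 0))) (.nd (.nd (.lf 0x36c) (.lf 0)) (.nd (.lf 0x748) (.lf 0)))))) (.nd (.nd (.nd (.nd (.nd (.lf 0x147) (.lf 0x26a)) (.nd (.lf 0x45a) (.lf 0))) (.nd (.nd (.lf 0x584) (.lf 0)) (.nd (.lf 0x851) (.lf 0)))) (.nd (.nd (.nd (.lf 0x5c) (.lf 0)) (.nd (.lf 0x6c8) (.lf 0))) (.nd (.nd (.lf 0x6d0) (.lf 0)) (.nd (.lf 0x44a) (.lf 0))))) (.nd (.nd (.nd (.nd (.lf 0x1ea) (.lf 0x7fd)) (.nd (.lf 0x80f) (.lf 0))) (.nd (.nd (.lf 0x639) (.lf 0)) (.nd (.lf 0x5f) (.lf 0)))) (.nd (.nd (.nd (.lf 0x4a5) (.lf 0)) (.nd (.lf 0x28b) (.lf 0))) (.nd (.nd (.lf 0x74e) (.lf 0)) (.nd (.lf 0x2c8) (.lf 0)))))))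
def tabQ2_nbbabaa : Tr := (.nd (.nd (.nd (.nd (.nd (.nd (.lf 0x24) (.lf 0x48f)) (.nd (.lf 0x5a1) (.lf 0))) (.nd (.nd (.lf 0x4d2) (.lf 0)) (.nd (.lf 0x568) (.lf 0)))) (.nd (.nd (.nd (.lf 0x2c4) (.lf 0)) (.nd (.lf 0x40f) (.lf 0))) (.nd (.nd (.lf 0x658) (.lf 0)) (.nd (.lf 0x88d) (.lf 0))))) (.nd (.nd (.nd (.nd (.lf 0x185) (.lf 0x44e)) (.nd (.lf 0x7c8) (.lf 0))) (.nd (.nd (.lf 0x107) (.lf 0)) (.nd (.lf 0x2c5) (.lf 0)))) (.nd (.nd (.nd (.lf 0x3df) (.lf 0)) (.nd (.lf 0x7e8) (.lf 0))) (.nd (.nd (.lf 0x6f1) (.lf 0)) (.nd (.lf 0x6af) (.lf 0)))))) (.nd (.nd (.nd (.nd (.nd (.lf 0xda) (.lf 0x45c)) (.nd (.lf 0x79d) (.lf 0))) (.nd (.nd (.lf 0x232) (.lf 0)) (.nd (.lf 0x5a8) (.lf 0)))) (.nd (.nd (.nd (.lf 0x355) (.lf 0)) (.nd (.lf 0x6ed) (.lf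 0))) (.nd (.nd (.lf 0x56a) (.lf 0)) (.nd (.lf 0x45f) (.lf 0))))) (.nd (.nd (.nd (.nd (.lf 0x1e7) (.lf 0x306)) (.nd (.lf 0x6e) (.lf 0))) (.nd (.nd (.lf 0x86) (.lf 0)) (.nd (.lf 0x896) (.lf 0)))) (.nd (.nd (.nd (.lf 0x342) (.lf 0)) (.nd (.lf 0x87c) (.lf 0))) (.nd (.nd (.lf 0x69d) (.lf 0)) (.nd (.lf 0x4f4) (.lf 0)))))))
def tabQ2_nbbabab : Tr := (.nd (.nd (.nd (.nd (.nd (.nd (.lf 0x82) (.lf 0x397)) (.nd (.lf 0x51e) (.lf 0))) (.nd (.nd (.lf 0x3d1) (.lf 0)) (.nd (.lf 0x456) (.lf 0)))) (.nd (.nd (.nd (.lf 0x310) (.lf 0)) (.nd (.lf 0x652) (.lf 0))) (.nd (.nd (.lf 0x645) (.lf 0)) (.nd (.lf 0x247) (.lf 0))))) (.nd (.nd (.nd (.nd (.lf 0x1dc) (.lf 0x5ba)) (.nd (.lf 0x413) (.lf 0))) (.nd (.nd (.lf 0x5d8) (.lf 0)) (.nd (.lf 0x608) (.lf 0))))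 (.nd (.nd (.nd (.lf 0x41f) (.lf 0)) (.nd (.lf 0x7a4) (.lf 0))) (.nd (.nd (.lf 0x711) (.lf 0)) (.nd (.lf 0x7a9) (.lf 0)))))) (.nd (.nd (.nd (.nd (.nd (.lf 0x12f) (.lf 0x539)) (.nd (.lf 0x7a7) (.lf 0))) (.nd (.nd (.lf 0x18f) (.lf 0)) (.nd (.lf 0xe3) (.lf 0)))) (.nd (.nd (.nd (.lf 0x2d7) (.lf 0)) (.nd (.lf 0x295) (.lf 0))) (.nd (.nd (.lf 0x146) (.lf 0)) (.nd (.lf 0x727) (.lf 0))))) (.nd (.nd (.nd (.nd (.lf 0x277) (.lf 0x5d2)) (.nd (.lf 0x13c) (.lf 0))) (.nd (.nd (.lf 0x586) (.lf 0)) (.nd (.lf 0x340) (.lf 0)))) (.nd (.nd (.nd (.lf 0x1b9) (.lf 0)) (.nd (.lf 0x844) (.lf 0))) (.nd (.nd (.lf 0xa3) (.lf 0)) (.nd (.lf 0x6dc) (.lf 0)))))))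
def tabQ2_nbbabba : Tr := (.nd (.nd (.nd (.nd (.nd (.nd (.lf 0x53) (.lf 0x4e3)) (.nd (.lf 0x770) (.lf 0))) (.nd (.nd (.lf 0x24a) (.lf 0)) (.nd (.lf 0x7db) (.lf 0)))) (.nd (.nd (.nd (.lf 0x2ea) (.lf 0)) (.nd (.lf 0x528) (.lf 0))) (.nd (.nd (.lf 0x1d6) (.lf 0)) (.nd (.lf 0x2c2) (.lf 0))))) (.nd (.nd (.nd (.nd (.lf 0x1ae) (.lf 0x6d2)) (.nd (.lf 0x219) (.lf 0))) (.nd (.nd (.lf 0x7d) (.lf 0)) (.nd (.lf 0x790) (.lf 0)))) (.nd (.nd (.nd (.lf 0x401) (.lf 0)) (.nd (.lf 0x40e) (.lf 0))) (.nd (.nd (.lf 0x498) (.lf 0)) (.nd (.lf 0x60b) (.lf 0)))))) (.nd (.nd (.nd (.nd (.nd (.lf 0x105) (.lf 0x3e5)) (.nd (.lf 0x41c) (.lf 0))) (.nd (.nd (.lf 0x55a) (.lf 0)) (.nd (.lf 0x89d) (.lf 0)))) (.nd (.nd (.nd (.lf 0xd9) (.lf 0)) (.nd (.lf 0x80c) (.lf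 0))) (.nd (.nd (.lf 0x5d4) (.lf 0)) (.nd (.lf 0x8d9) (.lf 0))))) (.nd (.nd (.nd (.nd (.lf 0xe1) (.lf 0x5ae)) (.nd (.lf 0x6cf) (.lf 0))) (.nd (.nd (.lf 0x602) (.lf 0)) (.nd (.lf 0x8ce) (.lf 0)))) (.nd (.nd (.nd (.lf 0x47c) (.lf 0)) (.nd (.lf 0x5b9) (.lf 0))) (.nd (.nd (.lf 0x73c) (.lf 0)) (.nd (.lf 0x101) (.lf 0)))))))
def tabQ2_nbbabbb : Tr := (.nd (.nd (.nd (.nd (.nd (.nd (.lf 0xad) (.lf 0x878)) (.nd (.lf 0x791) (.lf 0))) (.nd (.nd (.lf 0x2b0) (.lf 0)) (.nd (.lf 0x8a6) (.lf 0)))) (.nd (.nd (.nd (.lf 0x45) (.lf 0)) (.nd (.lf 0x7ef) (.lf 0))) (.nd (.nd (.lf 0x69c) (.lf 0)) (.nd (.lf 0x3b) (.lf 0))))) (.nd (.nd (.nd (.nd (.lf 0x200) (.lf 0x55b)) (.nd (.lf 0x795) (.lf 0))) (.nd (.nd (.lf 0x3f5) (.lf 0)) (.nd (.lf 0x8c7) (.lf 0))))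 (.nd (.nd (.nd (.lf 0x443) (.lf 0)) (.nd (.lf 0x726) (.lf 0))) (.nd (.nd (.lf 0x66a) (.lf 0)) (.nd (.lf 0x111) (.lf 0)))))) (.nd (.nd (.nd (.nd (.nd (.lf 0x15d) (.lf 0x635)) (.nd (.lf 0x14b) (.lf 0))) (.nd (.nd (.lf 0x592) (.lf 0)) (.nd (.lf 0x76f) (.lf 0)))) (.nd (.nd (.nd (.lf 0x3bb) (.lf 0)) (.nd (.lf 0x353) (.lf 0))) (.nd (.nd (.lf 0x6db) (.lf 0)) (.nd (.lf 0x455) (.lf 0))))) (.nd (.nd (.nd (.nd (.lf 0x29c) (.lf 0x22f)) (.nd (.lf 0x4c4) (.lf 0))) (.nd (.nd (.lf 0x644) (.lf 0)) (.nd (.lf 0xa5) (.lf 0)))) (.nd (.nd (.nd (.lf 0x4b3) (.lf 0)) (.nd (.lf 0x473) (.lf 0))) (.nd (.nd (.lf 0x255) (.lf 0)) (.nd (.lf 0x1a9) (.lf 0)))))))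
def tabQ2_nbbbaaa : Tr := (.nd (.nd (.nd (.nd (.nd (.nd (.lf 0x18) (.lf 0x887)) (.nd (.lf 0x188) (.lf 0))) (.nd (.nd (.lf 0x4c9) (.lf 0)) (.nd (.lf 0x392) (.lf 0)))) (.nd (.nd (.nd (.lf 0x2ba) (.lf 0)) (.nd (.lf 0x3ea) (.lf 0))) (.nd (.nd (.lf 0xb9) (.lf 0)) (.nd (.lf 0x67d) (.lf 0))))) (.nd (.nd (.nd (.nd (.lf 0x130) (.lf 0x2d3)) (.nd (.lf 0x212) (.lf 0))) (.nd (.nd (.lf 0x2aa) (.lf 0)) (.nd (.lf 0x7a2) (.lf 0)))) (.nd (.nd (.nd (.lf 0x3d6) (.lf 0)) (.nd (.lf 0x15b) (.lf 0))) (.nd (.nd (.lf 0xed) (.lf 0)) (.nd (.lf 0x858) (.lf 0)))))) (.nd (.nd (.nd (.nd (.nd (.lf 0xce) (.lf 0x6a9)) (.nd (.lf 0x43f) (.lf 0))) (.nd (.nd (.lf 0x124) (.lf 0)) (.nd (.lf 0x40) (.lf 0)))) (.nd (.nd (.nd (.lf 0x34c) (.lf 0)) (.nd (.lf 0x81c) (.lf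 0))) (.nd (.nd (.lf 0x21c) (.lf 0)) (.nd (.lf 0x6b7) (.lf 0))))) (.nd (.nd (.nd (.nd (.lf 0x221) (.lf 0x58a)) (.nd (.lf 0x7f2) (.lf 0))) (.nd (.nd (.lf 0x601) (.lf 0)) (.nd (.lf 0x3cc) (.lf 0)))) (.nd (.nd (.nd (.lf 0x453) (.lf 0)) (.nd (.lf 0x4a3) (.lf 0))) (.nd (.nd (.lf 0x32a) (.lf 0)) (.nd (.lf 0x868) (.lf 0)))))))
def tabQ2_nbbbaab : Tr := (.nd (.nd (.nd (.nd (.nd (.nd (.lf 0x76) (.lf 0xb)) (.nd (.lf 0x77e) (.lf 0))) (.nd (.nd (.lf 0x248) (.lf 0)) (.nd (.lf 0x16e) (.lf 0)))) (.nd (.nd (.nd (.lf 0x305) (.lf 0)) (.nd (.lf 0x830) (.lf 0))) (.nd (.nd (.lf 0x680) (.lf 0)) (.nd (.lf 0x61e) (.lf 0))))) (.nd (.nd (.nd (.nd (.lf 0x1d1) (.lf 0x7d8)) (.nd (.lf 0x228) (.lf 0))) (.nd (.nd (.lf 0x454) (.lf 0)) (.nd (.lf 0x59b) (.lf 0))))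 (.nd (.nd (.nd (.lf 0x417) (.lf 0)) (.nd (.lf 0x701) (.lf 0))) (.nd (.nd (.lf 0x4d6) (.lf 0)) (.nd (.lf 0x846) (.lf 0)))))) (.nd (.nd (.nd (.nd (.nd (.lf 0x123) (.lf 0x4f9)) (.nd (.lf 0x531) (.lf 0))) (.nd (.nd (.lf 0x4a2) (.lf 0)) (.nd (.lf 0x6ad) (.lf 0)))) (.nd (.nd (.nd (.lf 0x396) (.lf 0)) (.nd (.lf 0x4e9) (.lf 0))) (.nd (.nd (.lf 0x1d5) (.lf 0)) (.nd (.lf 0x8bb) (.lf 0))))) (.nd (.nd (.nd (.nd (.lf 0x26c) (.lf 0x7be)) (.nd (.lf 0x806) (.lf 0))) (.nd (.nd (.lf 0x62b) (.lf 0)) (.nd (.lf 0x421) (.lf 0)))) (.nd (.nd (.nd (.lf 0x491) (.lf 0)) (.nd (.lf 0x88a) (.lf 0))) (.nd (.nd (.lf 0x745) (.lf 0)) (.nd (.lf 0x3e8) (.lf 0)))))))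
def tabQ2_nbbbaba : Tr := (.nd (.nd (.nd (.nd (.nd (.nd (.lf 0x47) (.lf 0x1f)) (.nd (.lf 0x649) (.lf 0))) (.nd (.nd (.lf 0x4eb) (.lf 0)) (.nd (.lf 0x818) (.lf 0)))) (.nd (.nd (.nd (.lf 0x2e3) (.lf 0)) (.nd (.lf 0x825) (.lf 0))) (.nd (.nd (.lf 0x66b) (.lf 0)) (.nd (.lf 0x39b) (.lf 0))))) (.nd (.nd (.nd (.nd (.lf 0x1a4) (.lf 0x7e7)) (.nd (.lf 0x4d1) (.lf 0))) (.nd (.nd (.lf 0x5c2) (.lf 0)) (.nd (.lf 0x8b4) (.lf 0)))) (.nd (.nd (.nd (.lf 0x3f9) (.lf 0)) (.nd (.lf 0x368) (.lf 0))) (.nd (.nd (.lf 0x6ff) (.lf 0)) (.nd (.lf 0x3af) (.lf 0)))))) (.nd (.nd (.nd (.nd (.nd (.lf 0xfa) (.lf 0x893)) (.nd (.lf 0x651) (.lf 0))) (.nd (.nd (.lf 0x553) (.lf 0)) (.nd (.lf 0x888) (.lf 0)))) (.nd (.nd (.nd (.lf 0xf9) (.lf 0)) (.nd (.lf 0x38c) (.lf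 0))) (.nd (.nd (.lf 0xdf) (.lf 0)) (.nd (.lf 0x6ee) (.lf 0))))) (.nd (.nd (.nd (.nd (.lf 0x246) (.lf 0x3f7)) (.nd (.lf 0x631) (.lf 0))) (.nd (.nd (.lf 0x617) (.lf 0)) (.nd (.lf 0x8c6) (.lf 0)))) (.nd (.nd (.nd (.lf 0x2e2) (.lf 0)) (.nd (.lf 0x880) (.lf 0))) (.nd (.nd (.lf 0x4b2) (.lf 0)) (.nd (.lf 0x194) (.lf 0)))))))
def tabQ2_nbbbabb : Tr := (.nd (.nd (.nd (.nd (.nd (.nd (.lf 0xa1) (.lf 0xdc)) (.nd (.lf 0x78d) (.lf 0))) (.nd (.nd (.lf 0x523) (.lf 0)) (.nd (.lf 0x683) (.lf 0)))) (.nd (.nd (.nd (.lf 0x327) (.lf 0)) (.nd (.lf 0x142) (.lf 0))) (.nd (.nd (.lf 0x698) (.lf 0)) (.nd (.lf 0x27f) (.lf 0))))) (.nd (.nd (.nd (.nd (.lf 0x1f8) (.lf 0x857)) (.nd (.lf 0x2fe) (.lf 0))) (.nd (.nd (.lf 0x435) (.lf 0)) (.nd (.lf 0x7bf) (.lf 0))))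 (.nd (.nd (.nd (.lf 0x438) (.lf 0)) (.nd (.lf 0x3a9) (.lf 0))) (.nd (.nd (.lf 0x4bd) (.lf 0)) (.nd (.lf 0xfc) (.lf 0)))))) (.nd (.nd (.nd (.nd (.nd (.lf 0x152) (.lf 0x8fb)) (.nd (.lf 0x484) (.lf 0))) (.nd (.nd (.lf 0x58b) (.lf 0)) (.nd (.lf 0x27b) (.lf 0)))) (.nd (.nd (.nd (.lf 0xeb) (.lf 0)) (.nd (.lf 0x85c) (.lf 0))) (.nd (.nd (.lf 0x6d4) (.lf 0)) (.nd (.lf 0x7fe) (.lf 0))))) (.nd (.nd (.nd (.nd (.lf 0x292) (.lf 0x15f)) (.nd (.lf 0x71f) (.lf 0))) (.nd (.nd (.lf 0x63d) (.lf 0)) (.nd (.lf 0x285) (.lf 0)))) (.nd (.nd (.nd (.lf 0x4ac) (.lf 0)) (.nd (.lf 0x542) (.lf 0))) (.nd (.nd (.lf 0x731) (.lf 0)) (.nd (.lf 0x7dd) (.lf 0)))))))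
def tabQ2_nbbbbaa : Tr := (.nd (.nd (.nd (.nd (.nd (.nd (.lf 0x30) (.lf 0x3c5)) (.nd (.lf 0x761) (.lf 0))) (.nd (.nd (.lf 0x332) (.lf 0)) (.nd (.lf 0x892) (.lf 0)))) (.nd (.nd (.nd (.lf 0x69) (.lf 0)) (.nd (.lf 0x710) (.lf 0))) (.nd (.nd (.lf 0x128) (.lf 0)) (.nd (.lf 0xba) (.lf 0))))) (.nd (.nd (.nd (.nd (.lf 0x18e) (.lf 0x7b2)) (.nd (.lf 0x3e6) (.lf 0))) (.nd (.nd (.lf 0x5b7) (.lf 0)) (.nd (.lf 0x890) (.lf 0)))) (.nd (.nd (.nd (.lf 0x3e9) (.lf 0)) (.nd (.lf 0x86a) (.lf 0))) (.nd (.nd (.lf 0x2d4) (.lf 0)) (.nd (.lf 0x497) (.lf 0)))))) (.nd (.nd (.nd (.nd (.nd (.lf 0xe4) (.lf 0x8c9)) (.nd (.lf 0x15c) (.lf 0))) (.nd (.nd (.lf 0x1b8) (.lf 0)) (.nd (.lf 0x4f) (.lf 0)))) (.nd (.nd (.nd (.lf 0x170) (.lf 0)) (.nd (.lf 0x7c2) (.lf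 0))) (.nd (.nd (.lf 0x52c) (.lf 0)) (.nd (.lf 0x86f) (.lf 0))))) (.nd (.nd (.nd (.nd (.lf 0x231) (.lf 0x6fc)) (.nd (.lf 0x7ea) (.lf 0))) (.nd (.nd (.lf 0x241) (.lf 0)) (.nd (.lf 0x8cf) (.lf 0)))) (.nd (.nd (.nd (.lf 0x1bb) (.lf 0)) (.nd (.lf 0x87e) (.lf 0))) (.nd (.nd (.lf 0x9a) (.lf 0)) (.nd (.lf 0x8d5) (.lf 0)))))))
def tabQ2_nbbbbab : Tr := (.nd (.nd (.nd (.nd (.nd (.nd (.lf 0x8d) (.lf 0x2f8)) (.nd (.lf 0x5a6) (.lf 0))) (.nd (.nd (.lf 0x4da) (.lf 0)) (.nd (.lf 0x419) (.lf 0)))) (.nd (.nd (.nd (.lf 0x31b) (.lf 0)) (.nd (.lf 0x837) (.lf 0))) (.nd (.nd (.lf 0x68b) (.lf 0)) (.nd (.lf 0x76c) (.lf 0))))) (.nd (.nd (.nd (.nd (.lf 0x1e3) (.lf 0x677)) (.nd (.lf 0x7e2) (.lf 0))) (.nd (.nd (.lf 0x5df) (.lf 0)) (.nd (.lf 0x11f) (.lf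 0)))) (.nd (.nd (.nd (.lf 0x429) (.lf 0)) (.nd (.lf 0x6a0) (.lf 0))) (.nd (.nd (.lf 0x432) (.lf 0)) (.nd (.lf 0x89c) (.lf 0)))))) (.nd (.nd (.nd (.nd (.nd (.lf 0x13b) (.lf 0x266)) (.nd (.lf 0x7b4) (.lf 0))) (.nd (.nd (.lf 0x57b) (.lf 0)) (.nd (.lf 0x207) (.lf 0)))) (.nd (.nd (.nd (.lf 0x3a5) (.lf 0)) (.nd (.lf 0x12d) (.lf 0))) (.nd (.nd (.lf 0x46f) (.lf 0)) (.nd (.lf 0x8ec) (.lf 0))))) (.nd (.nd (.nd (.nd (.lf 0x281) (.lf 0x86e)) (.nd (.lf 0x80d) (.lf 0))) (.nd (.nd (.lf 0x2ce) (.lf 0)) (.nd (.lf 0x838) (.lf 0)))) (.nd (.nd (.nd (.lf 0x3f8) (.lf 0)) (.nd (.lf 0x4d8) (.lf 0))) (.nd (.nd (.lf 0x5b2) (.lf 0)) (.nd (.lf 0x502) (.lf 0)))))))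
def tabQ2_nbbbbba : Tr := (.nd (.nd (.nd (.nd (.nd (.nd (.lf 0x5e) (.lf 0x7c3)) (.nd (.lf 0x777) (.lf 0))) (.nd (.nd (.lf 0x4fa) (.lf 0)) (.nd (.lf 0x6a6) (.lf 0)))) (.nd (.nd (.nd (.lf 0x2f2) (.lf 0)) (.nd (.lf 0x700) (.lf 0))) (.nd (.nd (.lf 0x675) (.lf 0)) (.nd (.lf 0x5a0) (.lf 0))))) (.nd (.nd (.nd (.nd (.lf 0x1ba) (.lf 0x317)) (.nd (.lf 0x35c) (.lf 0))) (.nd (.nd (.lf 0x5cc) (.lf 0)) (.nd (.lf 0x326) (.lf 0)))) (.nd (.nd (.nd (.lf 0x408) (.lf 0)) (.nd (.lf 0x541) (.lf 0))) (.nd (.nd (.lf 0x707) (.lf 0)) (.nd (.lf 0x831) (.lf 0)))))) (.nd (.nd (.nd (.nd (.nd (.lf 0x110) (.lf 0x1b3)) (.nd (.lf 0x7a8) (.lf 0))) (.nd (.nd (.lf 0x116) (.lf 0)) (.nd (.lf 0x612) (.lf 0)))) (.nd (.nd (.nd (.lf 0x380) (.lf 0)) (.nd (.lf 0x254) (.lf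 0))) (.nd (.nd (.lf 0x4f1) (.lf 0)) (.nd (.lf 0x4db) (.lf 0))))) (.nd (.nd (.nd (.nd (.lf 0x257) (.lf 0x20d)) (.nd (.lf 0x19d) (.lf 0))) (.nd (.nd (.lf 0x61f) (.lf 0)) (.nd (.lf 0x83b) (.lf 0)))) (.nd (.nd (.nd (.lf 0x485) (.lf 0)) (.nd (.lf 0x6ba) (.lf 0))) (.nd (.nd (.lf 0x74) (.lf 0)) (.nd (.lf 0x109) (.lf 0)))))))
def tabQ2_nbbbbbb : Tr := (.nd (.nd (.nd (.nd (.nd (.nd (.lf 0xb8) (.lf 0x8b7)) (.nd (.lf 0x6e9) (.lf 0))) (.nd (.nd (.lf 0x503) (.lf 0)) (.nd (.lf 0x22d) (.lf 0)))) (.nd (.nd (.nd (.lf 0x339) (.lf 0)) (.nd (.lf 0x840) (.lf 0))) (.nd (.nd (.lf 0x5c8) (.lf 0)) (.nd (.lf 0x50a) (.lf 0))))) (.nd (.nd (.nd (.nd (.lf 0x20c) (.lf 0x8c8)) (.nd (.lf 0x583) (.lf 0))) (.nd (.nd (.lf 0x5f4) (.lf 0)) (.nd (.lf 0x8cb) (.lf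 0)))) (.nd (.nd (.nd (.lf 0x31e) (.lf 0)) (.nd (.lf 0x525) (.lf 0))) (.nd (.nd (.lf 0x720) (.lf 0)) (.nd (.lf 0x2d6) (.lf 0)))))) (.nd (.nd (.nd (.nd (.nd (.lf 0x167) (.lf 0x824)) (.nd (.lf 0x1cc) (.lf 0))) (.nd (.nd (.lf 0x59c) (.lf 0)) (.nd (.lf 0x6b4) (.lf 0)))) (.nd (.nd (.nd (.lf 0x3c3) (.lf 0)) (.nd (.lf 0x655) (.lf 0))) (.nd (.nd (.lf 0x6e1) (.lf 0)) (.nd (.lf 0x58c) (.lf 0))))) (.nd (.nd (.nd (.nd (.lf 0x2a6) (.lf 0x476)) (.nd (.lf 0x3a1) (.lf 0))) (.nd (.nd (.lf 0x61c) (.lf 0)) (.nd (.lf 0x34d) (.lf 0)))) (.nd (.nd (.nd (.lf 0x34b) (.lf 0)) (.nd (.lf 0x3a0) (.lf 0))) (.nd (.nd (.lf 0x99) (.lf 0)) (.nd (.lf 0x316) (.lf 0)))))))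
def tabQ2 : Tr := (.nd (.nd (.nd (.nd (.nd (.nd tabQ2_naaaaaa tabQ2_naaaaab) (.nd tabQ2_naaaaba tabQ2_naaaabb)) (.nd (.nd tabQ2_naaabaa tabQ2_naaabab) (.nd tabQ2_naaabba tabQ2_naaabbb))) (.nd (.nd (.nd tabQ2_naabaaa tabQ2_naabaab) (.nd tabQ2_naababa tabQ2_naababb)) (.nd (.nd tabQ2_naabbaa tabQ2_naabbab) (.nd tabQ2_naabbba tabQ2_naabbbb)))) (.nd (.nd (.nd (.nd tabQ2_nabaaaa tabQ2_nabaaab) (.nd tabQ2_nabaaba tabQ2_nabaabb)) (.nd (.nd tabQ2_nababaa tabQ2_nababab) (.nd tabQ2_nababba tabQ2_nababbb))) (.nd (.nd (.nd tabQ2_nabbaaa tabQ2_nabbaab) (.nd tabQ2_nabbaba tabQ2_nabbabb)) (.nd (.nd tabQ2_nabbbaa tabQ2_nabbbab) (.nd tabQ2_nabbbba tabQ2_nabbbbb))))) (.nd (.nd (.nd (.nd (.nd tabQ2_nbaaaaa tabQ2_nbaaaab) (.nd tabQ2_nbaaaba tabQ2_nbaaabb))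 (.nd (.nd tabQ2_nbaabaa tabQ2_nbaabab) (.nd tabQ2_nbaabba tabQ2_nbaabbb))) (.nd (.nd (.nd tabQ2_nbabaaa tabQ2_nbabaab) (.nd tabQ2_nbababa tabQ2_nbababb)) (.nd (.nd tabQ2_nbabbaa tabQ2_nbabbab) (.nd tabQ2_nbabbba tabQ2_nbabbbb)))) (.nd (.nd (.nd (.nd tabQ2_nbbaaaa tabQ2_nbbaaab) (.nd tabQ2_nbbaaba tabQ2_nbbaabb)) (.nd (.nd tabQ2_nbbabaa tabQ2_nbbabab) (.nd tabQ2_nbbabba tabQ2_nbbabbb))) (.nd (.nd (.nd tabQ2_nbbbaaa tabQ2_nbbbaab) (.nd tabQ2_nbbbaba tabQ2_nbbbabb)) (.nd (.nd tabQ2_nbbbbaa tabQ2_nbbbbab) (.nd tabQ2_nbbbbba tabQ2_nbbbbbb))))))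
def witQ2_naaaaaa : Tr := (.nd (.nd (.nd (.nd (.nd (.nd (.lf 0x0) (.lf 0x1b5)) (.nd (.lf 0x97f) (.lf 0))) (.nd (.nd (.lf 0x38) (.lf 0)) (.nd (.lf 0x10b5) (.lf 0)))) (.nd (.nd (.nd (.lf 0x0) (.lf 0)) (.nd (.lf 0x14e3) (.lf 0))) (.nd (.nd (.lf 0x873) (.lf 0)) (.nd (.lf 0x0) (.lf 0))))) (.nd (.nd (.nd (.nd (.lf 0x0) (.lf 0xab6)) (.nd (.lf 0x3f4) (.lf 0))) (.nd (.nd (.lf 0x0) (.lf 0)) (.nd (.lf 0x11c1) (.lf 0)))) (.nd (.nd (.nd (.lf 0x0) (.lf 0)) (.nd (.lf 0x0) (.lf 0))) (.nd (.nd (.lf 0x0) (.lf 0)) (.nd (.lf 0x1160) (.lf 0)))))) (.nd (.nd (.nd (.nd (.nd (.lf 0x0) (.lf 0x9e9)) (.nd (.lf 0x135c) (.lf 0))) (.nd (.nd (.lf 0x0) (.lf 0)) (.nd (.lf 0x11c3) (.lf 0)))) (.nd (.nd (.nd (.lf 0x0) (.lf 0)) (.nd (.lf 0x1af0) (.lf 0))) (.nd (.nd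 (.lf 0x8f9) (.lf 0)) (.nd (.lf 0xe18) (.lf 0))))) (.nd (.nd (.nd (.nd (.lf 0x0) (.lf 0x1c61)) (.nd (.lf 0x1bc1) (.lf 0))) (.nd (.nd (.lf 0x1912) (.lf 0)) (.nd (.lf 0xfe9) (.lf 0)))) (.nd (.nd (.nd (.lf 0x13ad) (.lf 0)) (.nd (.lf 0x19f4) (.lf 0))) (.nd (.nd (.lf 0x0) (.lf 0)) (.nd (.lf 0x14c3) (.lf 0)))))))
def witQ2_naaaaab : Tr := (.nd (.nd (.nd (.nd (.nd (.nd (.lf 0x0) (.lf 0xd0c)) (.nd (.lf 0x85f) (.lf 0))) (.nd (.nd (.lf 0xb60) (.lf 0)) (.nd (.lf 0xaf) (.lf 0)))) (.nd (.nd (.nd (.lf 0x0) (.lf 0)) (.nd (.lf 0x186c) (.lf 0))) (.nd (.nd (.lf 0x5de) (.lf 0)) (.nd (.lf 0x1e) (.lf 0))))) (.nd (.nd (.nd (.nd (.lf 0x0) (.lf 0x1850)) (.nd (.lf 0x1587) (.lf 0))) (.nd (.nd (.lf 0x482) (.lf 0)) (.nd (.lf 0x551) (.lf 0)))) (.nd (.nd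 (.nd (.lf 0x0) (.lf 0)) (.nd (.lf 0x176c) (.lf 0))) (.nd (.nd (.lf 0x13f3) (.lf 0)) (.nd (.lf 0x13ff) (.lf 0)))))) (.nd (.nd (.nd (.nd (.nd (.lf 0x11d3) (.lf 0x1c60)) (.nd (.lf 0x0) (.lf 0))) (.nd (.nd (.lf 0x0) (.lf 0)) (.nd (.lf 0x1bdd) (.lf 0)))) (.nd (.nd (.nd (.lf 0x0) (.lf 0)) (.nd (.lf 0x1198) (.lf 0))) (.nd (.nd (.lf 0xc95) (.lf 0)) (.nd (.lf 0x1d9b) (.lf 0))))) (.nd (.nd (.nd (.nd (.lf 0x0) (.lf 0xb43)) (.nd (.lf 0x1c13) (.lf 0))) (.nd (.nd (.lf 0x0) (.lf 0)) (.nd (.lf 0x173a) (.lf 0)))) (.nd (.nd (.nd (.lf 0x170f) (.lf 0)) (.nd (.lf 0x5c9) (.lf 0))) (.nd (.nd (.lf 0xc26) (.lf 0)) (.nd (.lf 0x54e) (.lf 0)))))))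
def witQ2_naaaaba : Tr := (.nd (.nd (.nd (.nd (.nd (.nd (.lf 0x0) (.lf 0x10ca)) (.nd (.lf 0xeec) (.lf 0))) (.nd (.nd (.lf 0x0) (.lf 0)) (.nd (.lf 0x15a6) (.lf 0)))) (.nd (.nd (.nd (.lf 0x0) (.lf 0)) (.nd (.lf 0x1a7c) (.lf 0))) (.nd (.nd (.lf 0x0) (.lf 0)) (.nd (.lf 0x187d) (.lf 0))))) (.nd (.nd (.nd (.nd (.lf 0x0) (.lf 0x401)) (.nd (.lf 0x5f0) (.lf 0))) (.nd (.nd (.lf 0x158e) (.lf 0)) (.nd (.lf 0x0) (.lf 0)))) (.nd (.nd (.nd (.lf 0x0) (.lf 0)) (.nd (.lf 0x0) (.lf 0))) (.nd (.nd (.lf 0x0) (.lf 0)) (.nd (.lf 0xd) (.lf 0)))))) (.nd (.nd (.nd (.nd (.nd (.lf 0x0) (.lf 0x194b)) (.nd (.lf 0x88b) (.lf 0))) (.nd (.nd (.lf 0xa01) (.lf 0)) (.nd (.lf 0xdea) (.lf 0)))) (.nd (.nd (.nd (.lf 0x0) (.lf 0)) (.nd (.lf 0x1ddb) (.lf 0))) (.nd (.nd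 (.lf 0x1874) (.lf 0)) (.nd (.lf 0x1b37) (.lf 0))))) (.nd (.nd (.nd (.nd (.lf 0x0) (.lf 0x1679)) (.nd (.lf 0xc41) (.lf 0))) (.nd (.nd (.lf 0x0) (.lf 0)) (.nd (.lf 0x689) (.lf 0)))) (.nd (.nd (.nd (.lf 0x0) (.lf 0)) (.nd (.lf 0x1795) (.lf 0))) (.nd (.nd (.lf 0x118b) (.lf 0)) (.nd (.lf 0x1525) (.lf 0)))))))
def witQ2_naaaabb : Tr := (.nd (.nd (.nd (.nd (.nd (.nd (.lf 0x9a8) (.lf 0xc90)) (.nd (.lf 0x182f) (.lf 0))) (.nd (.nd (.lf 0x0) (.lf 0)) (.nd (.lf 0x88e) (.lf 0)))) (.nd (.nd (.nd (.lf 0x0) (.lf 0)) (.nd (.lf 0x541) (.lf 0))) (.nd (.nd (.lf 0x0) (.lf 0)) (.nd (.lf 0x865) (.lf 0))))) (.nd (.nd (.nd (.nd (.lf 0x0) (.lf 0xeca)) (.nd (.lf 0x487) (.lf 0))) (.nd (.nd (.lf 0xff5) (.lf 0)) (.nd (.lf 0x1a59) (.lf 0)))) (.nd (.nd (.nd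 (.lf 0x1b33) (.lf 0)) (.nd (.lf 0x54f) (.lf 0))) (.nd (.nd (.lf 0x0) (.lf 0)) (.nd (.lf 0x1a07) (.lf 0)))))) (.nd (.nd (.nd (.nd (.nd (.lf 0x0) (.lf 0x748)) (.nd (.lf 0x0) (.lf 0))) (.nd (.nd (.lf 0x0) (.lf 0)) (.nd (.lf 0x1120) (.lf 0)))) (.nd (.nd (.nd (.lf 0x0) (.lf 0)) (.nd (.lf 0x19dc) (.lf 0))) (.nd (.nd (.lf 0xa6b) (.lf 0)) (.nd (.lf 0x676) (.lf 0))))) (.nd (.nd (.nd (.nd (.lf 0x0) (.lf 0x34)) (.nd (.lf 0xa91) (.lf 0))) (.nd (.nd (.lf 0x0) (.lf 0)) (.nd (.lf 0xa59) (.lf 0)))) (.nd (.nd (.nd (.lf 0x0) (.lf 0)) (.nd (.lf 0x2fc) (.lf 0))) (.nd (.nd (.lf 0x13db) (.lf 0)) (.nd (.lf 0xf9e) (.lf 0)))))))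
def witQ2_naaabaa : Tr := (.nd (.nd (.nd (.nd (.nd (.nd (.lf 0x0) (.lf 0x4fc)) (.nd (.lf 0x0) (.lf 0))) (.nd (.nd (.lf 0x0) (.lf 0)) (.nd (.lf 0x1161) (.lf 0)))) (.nd (.nd (.nd (.lf 0x0) (.lf 0)) (.nd (.lf 0x12dc) (.lf 0))) (.nd (.nd (.lf 0x0) (.lf 0)) (.nd (.lf 0x19ce) (.lf 0))))) (.nd (.nd (.nd (.nd (.lf 0x0) (.lf 0x83b)) (.nd (.lf 0x1440) (.lf 0))) (.nd (.nd (.lf 0x0) (.lf 0)) (.nd (.lf 0x12b5) (.lf 0)))) (.nd (.nd (.nd (.lf 0x0) (.lf 0)) (.nd (.lf 0xc79) (.lf 0))) (.nd (.nd (.lf 0x1c11) (.lf 0)) (.nd (.lf 0x7fa) (.lf 0)))))) (.nd (.nd (.nd (.nd (.nd (.lf 0x0) (.lf 0x1050)) (.nd (.lf 0x15df) (.lf 0))) (.nd (.nd (.lf 0x106d) (.lf 0)) (.nd (.lf 0x1c8a) (.lf 0)))) (.nd (.nd (.nd (.lf 0x0) (.lf 0)) (.nd (.lf 0x121d) (.lf 0)))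 (.nd (.nd (.lf 0x0) (.lf 0)) (.nd (.lf 0x0) (.lf 0))))) (.nd (.nd (.nd (.nd (.lf 0x0) (.lf 0x17b)) (.nd (.lf 0x8c4) (.lf 0))) (.nd (.nd (.lf 0x212) (.lf 0)) (.nd (.lf 0x1163) (.lf 0)))) (.nd (.nd (.nd (.lf 0xc75) (.lf 0)) (.nd (.lf 0xc8a) (.lf 0))) (.nd (.nd (.lf 0x1b70) (.lf 0)) (.nd (.lf 0x9c0) (.lf 0)))))))
def witQ2_naaabab : Tr := (.nd (.nd (.nd (.nd (.nd (.nd (.lf 0x0) (.lf 0x1a38)) (.nd (.lf 0x1e57) (.lf 0))) (.nd (.nd (.lf 0x1ca6) (.lf 0)) (.nd (.lf 0x294) (.lf 0)))) (.nd (.nd (.nd (.lf 0x0) (.lf 0)) (.nd (.lf 0xfd5) (.lf 0))) (.nd (.nd (.lf 0x1d3) (.lf 0)) (.nd (.lf 0x12a3) (.lf 0))))) (.nd (.nd (.nd (.nd (.lf 0x0) (.lf 0x139c)) (.nd (.lf 0xee0) (.lf 0))) (.nd (.nd (.lf 0x1d9d) (.lf 0)) (.nd (.lf 0xb35) (.lf 0)))) (.nd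 (.nd (.nd (.lf 0x1905) (.lf 0)) (.nd (.lf 0x14e1) (.lf 0))) (.nd (.nd (.lf 0x1bfd) (.lf 0)) (.nd (.lf 0x1a25) (.lf 0)))))) (.nd (.nd (.nd (.nd (.nd (.lf 0x0) (.lf 0x1555)) (.nd (.lf 0xcb9) (.lf 0))) (.nd (.nd (.lf 0x0) (.lf 0)) (.nd (.lf 0x5cc) (.lf 0)))) (.nd (.nd (.nd (.lf 0x0) (.lf 0)) (.nd (.lf 0x1c6c) (.lf 0))) (.nd (.nd (.lf 0x0) (.lf 0)) (.nd (.lf 0x106) (.lf 0))))) (.nd (.nd (.nd (.nd (.lf 0x0) (.lf 0x931)) (.nd (.lf 0x1b20) (.lf 0))) (.nd (.nd (.lf 0x96e) (.lf 0)) (.nd (.lf 0x132) (.lf 0)))) (.nd (.nd (.nd (.lf 0x0) (.lf 0)) (.nd (.lf 0x1d28) (.lf 0))) (.nd (.nd (.lf 0x0) (.lf 0)) (.nd (.lf 0xda3) (.lf 0)))))))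
def witQ2_naaabba : Tr := (.nd (.nd (.nd (.nd (.nd (.nd (.lf 0x0) (.lf 0x162a)) (.nd (.lf 0x136d) (.lf 0))) (.nd (.nd (.lf 0x0) (.lf 0)) (.nd (.lf 0x1b6c) (.lf 0)))) (.nd (.nd (.nd (.lf 0x0) (.lf 0)) (.nd (.lf 0x0) (.lf 0))) (.nd (.nd (.lf 0x0) (.lf 0)) (.nd (.lf 0x1132) (.lf 0))))) (.nd (.nd (.nd (.nd (.lf 0x0) (.lf 0x78d)) (.nd (.lf 0x11b9) (.lf 0))) (.nd (.nd (.lf 0x0) (.lf 0)) (.nd (.lf 0x1bb) (.lf 0)))) (.nd (.nd (.nd (.lf 0x0) (.lf 0)) (.nd (.lf 0x32e) (.lf 0))) (.nd (.nd (.lf 0x3af) (.lf 0)) (.nd (.lf 0xb5e) (.lf 0)))))) (.nd (.nd (.nd (.nd (.nd (.lf 0x0) (.lf 0x143d)) (.nd (.lf 0x1c80) (.lf 0))) (.nd (.nd (.lf 0x0) (.lf 0)) (.nd (.lf 0x1cad) (.lf 0)))) (.nd (.nd (.nd (.lf 0x0) (.lf 0)) (.nd (.lf 0x96b) (.lf 0))) (.nd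 (.nd (.lf 0x1589) (.lf 0)) (.nd (.lf 0x8ef) (.lf 0))))) (.nd (.nd (.nd (.nd (.lf 0x0) (.lf 0x15d6)) (.nd (.lf 0xefa) (.lf 0))) (.nd (.nd (.lf 0x0) (.lf 0)) (.nd (.lf 0x57f) (.lf 0)))) (.nd (.nd (.nd (.lf 0x0) (.lf 0)) (.nd (.lf 0x1b65) (.lf 0))) (.nd (.nd (.lf 0x166b) (.lf 0)) (.nd (.lf 0x446) (.lf 0)))))))
def witQ2_naaabbb : Tr := (.nd (.nd (.nd (.nd (.nd (.nd (.lf 0x0) (.lf 0x1594)) (.nd (.lf 0x0) (.lf 0))) (.nd (.nd (.lf 0x5f7) (.lf 0)) (.nd (.lf 0x1b5) (.lf 0)))) (.nd (.nd (.nd (.lf 0x0) (.lf 0)) (.nd (.lf 0xe1) (.lf 0))) (.nd (.nd (.lf 0x645) (.lf 0)) (.nd (.lf 0x0) (.lf 0))))) (.nd (.nd (.nd (.nd (.lf 0x0) (.lf 0xfba)) (.nd (.lf 0x12d1) (.lf 0))) (.nd (.nd (.lf 0x0) (.lf 0)) (.nd (.lf 0x1bcf) (.lf 0)))) (.nd (.nd (.nd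 (.lf 0x0) (.lf 0)) (.nd (.lf 0x1a64) (.lf 0))) (.nd (.nd (.lf 0x0) (.lf 0)) (.nd (.lf 0x1431) (.lf 0)))))) (.nd (.nd (.nd (.nd (.nd (.lf 0x0) (.lf 0xf0c)) (.nd (.lf 0xea6) (.lf 0))) (.nd (.nd (.lf 0x171d) (.lf 0)) (.nd (.lf 0x10dd) (.lf 0)))) (.nd (.nd (.nd (.lf 0x0) (.lf 0)) (.nd (.lf 0x32) (.lf 0))) (.nd (.nd (.lf 0x0) (.lf 0)) (.nd (.lf 0xf32) (.lf 0))))) (.nd (.nd (.nd (.nd (.lf 0x672) (.lf 0x675)) (.nd (.lf 0x0) (.lf 0))) (.nd (.nd (.lf 0x2c9) (.lf 0)) (.nd (.lf 0xd2) (.lf 0)))) (.nd (.nd (.nd (.lf 0x1c6a) (.lf 0)) (.nd (.lf 0x71a) (.lf 0))) (.nd (.nd (.lf 0x2e) (.lf 0)) (.nd (.lf 0x1b5b) (.lf 0)))))))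
def witQ2_naabaaa : Tr := (.nd (.nd (.nd (.nd (.nd (.nd (.lf 0x0) (.lf 0x1a7f)) (.nd (.lf 0xe2a) (.lf 0))) (.nd (.nd (.lf 0x0) (.lf 0)) (.nd (.lf 0x1e25) (.lf 0)))) (.nd (.nd (.nd (.lf 0x0) (.lf 0)) (.nd (.lf 0x1035) (.lf 0))) (.nd (.nd (.lf 0x0) (.lf 0)) (.nd (.lf 0x5c2) (.lf 0))))) (.nd (.nd (.nd (.nd (.lf 0x0) (.lf 0x1c3f)) (.nd (.lf 0x314) (.lf 0))) (.nd (.nd (.lf 0x0) (.lf 0)) (.nd (.lf 0x118f) (.lf 0)))) (.nd (.nd (.nd (.lf 0x1934) (.lf 0)) (.nd (.lf 0x1450) (.lf 0))) (.nd (.nd (.lf 0x185f) (.lf 0)) (.nd (.lf 0x1c69) (.lf 0)))))) (.nd (.nd (.nd (.nd (.nd (.lf 0x0) (.lf 0x13d9)) (.nd (.lf 0x667) (.lf 0))) (.nd (.nd (.lf 0x0) (.lf 0)) (.nd (.lf 0x180b) (.lf 0)))) (.nd (.nd (.nd (.lf 0x0) (.lf 0)) (.nd (.lf 0xf3b) (.lf 0)))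 (.nd (.nd (.lf 0x0) (.lf 0)) (.nd (.lf 0x1c45) (.lf 0))))) (.nd (.nd (.nd (.nd (.lf 0x0) (.lf 0x1266)) (.nd (.lf 0x1228) (.lf 0))) (.nd (.nd (.lf 0x1d42) (.lf 0)) (.nd (.lf 0xa7b) (.lf 0)))) (.nd (.nd (.nd (.lf 0x1bcb) (.lf 0)) (.nd (.lf 0x1476) (.lf 0))) (.nd (.nd (.lf 0x1cb) (.lf 0)) (.nd (.lf 0x1b9f) (.lf 0)))))))
def witQ2_naabaab : Tr := (.nd (.nd (.nd (.nd (.nd (.nd (.lf 0x0) (.lf 0x1676)) (.nd (.lf 0x146e) (.lf 0))) (.nd (.nd (.lf 0x0) (.lf 0)) (.nd (.lf 0x1043) (.lf 0)))) (.nd (.nd (.nd (.lf 0x0) (.lf 0)) (.nd (.lf 0x0) (.lf 0))) (.nd (.nd (.lf 0x7c4) (.lf 0)) (.nd (.lf 0x1a29) (.lf 0))))) (.nd (.nd (.nd (.nd (.lf 0x0) (.lf 0x1651)) (.nd (.lf 0x17ee) (.lf 0))) (.nd (.nd (.lf 0x0) (.lf 0)) (.nd (.lf 0x104a) (.lf 0))))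 (.nd (.nd (.nd (.lf 0x1595) (.lf 0)) (.nd (.lf 0xe91) (.lf 0))) (.nd (.nd (.lf 0x0) (.lf 0)) (.nd (.lf 0xebe) (.lf 0)))))) (.nd (.nd (.nd (.nd (.nd (.lf 0x0) (.lf 0x1a04)) (.nd (.lf 0xd26) (.lf 0))) (.nd (.nd (.lf 0x0) (.lf 0)) (.nd (.lf 0x7a1) (.lf 0)))) (.nd (.nd (.nd (.lf 0x0) (.lf 0)) (.nd (.lf 0x1b60) (.lf 0))) (.nd (.nd (.lf 0x1781) (.lf 0)) (.nd (.lf 0x1ba) (.lf 0))))) (.nd (.nd (.nd (.nd (.lf 0x0) (.lf 0x1c16)) (.nd (.lf 0xb9e) (.lf 0))) (.nd (.nd (.lf 0x6db) (.lf 0)) (.nd (.lf 0x5fb) (.lf 0)))) (.nd (.nd (.nd (.lf 0x0) (.lf 0)) (.nd (.lf 0xe5b) (.lf 0))) (.nd (.nd (.lf 0xc25) (.lf 0)) (.nd (.lf 0x15c4) (.lf 0)))))))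
def witQ2_naababa : Tr := (.nd (.nd (.nd (.nd (.nd (.nd (.lf 0x0) (.lf 0x50d)) (.nd (.lf 0x1ef) (.lf 0))) (.nd (.nd (.lf 0x4ea) (.lf 0)) (.nd (.lf 0x144a) (.lf 0)))) (.nd (.nd (.nd (.lf 0x0) (.lf 0)) (.nd (.lf 0x1a3a) (.lf 0))) (.nd (.nd (.lf 0x1c98) (.lf 0)) (.nd (.lf 0x1a34) (.lf 0))))) (.nd (.nd (.nd (.nd (.lf 0x0) (.lf 0x3f3)) (.nd (.lf 0x1a15) (.lf 0))) (.nd (.nd (.lf 0x0) (.lf 0)) (.nd (.lf 0x17d3) (.lf 0)))) (.nd (.nd (.nd (.lf 0x11f0) (.lf 0)) (.nd (.lf 0x158a) (.lf 0))) (.nd (.nd (.lf 0xeac) (.lf 0)) (.nd (.lf 0x5c9) (.lf 0)))))) (.nd (.nd (.nd (.nd (.nd (.lf 0x0) (.lf 0xf44)) (.nd (.lf 0xd93) (.lf 0))) (.nd (.nd (.lf 0x4be) (.lf 0)) (.nd (.lf 0x979) (.lf 0)))) (.nd (.nd (.nd (.lf 0x0) (.lf 0)) (.nd (.lf 0x1535) (.lf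 0))) (.nd (.nd (.lf 0x0) (.lf 0)) (.nd (.lf 0xda9) (.lf 0))))) (.nd (.nd (.nd (.nd (.lf 0x0) (.lf 0x1b8f)) (.nd (.lf 0x18ff) (.lf 0))) (.nd (.nd (.lf 0x16af) (.lf 0)) (.nd (.lf 0xf3f) (.lf 0)))) (.nd (.nd (.nd (.lf 0x0) (.lf 0)) (.nd (.lf 0x1d9) (.lf 0))) (.nd (.nd (.lf 0x0) (.lf 0)) (.nd (.lf 0x2db) (.lf 0)))))))
def witQ2_naababb : Tr := (.nd (.nd (.nd (.nd (.nd (.nd (.lf 0x0) (.lf 0x1d50)) (.nd (.lf 0xa54) (.lf 0))) (.nd (.nd (.lf 0x16f4) (.lf 0)) (.nd (.lf 0x0) (.lf 0)))) (.nd (.nd (.nd (.lf 0xd3a) (.lf 0)) (.nd (.lf 0x1702) (.lf 0))) (.nd (.nd (.lf 0x0) (.lf 0)) (.nd (.lf 0x1835) (.lf 0))))) (.nd (.nd (.nd (.nd (.lf 0xe43) (.lf 0x1e48)) (.nd (.lf 0x0) (.lf 0))) (.nd (.nd (.lf 0x146b) (.lf 0)) (.nd (.lf 0xae3) (.lf 0))))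 (.nd (.nd (.nd (.lf 0x0) (.lf 0)) (.nd (.lf 0x949) (.lf 0))) (.nd (.nd (.lf 0x787) (.lf 0)) (.nd (.lf 0x0) (.lf 0)))))) (.nd (.nd (.nd (.nd (.nd (.lf 0x0) (.lf 0x17ea)) (.nd (.lf 0x932) (.lf 0))) (.nd (.nd (.lf 0xbbc) (.lf 0)) (.nd (.lf 0x0) (.lf 0)))) (.nd (.nd (.nd (.lf 0x951) (.lf 0)) (.nd (.lf 0x11f3) (.lf 0))) (.nd (.nd (.lf 0x0) (.lf 0)) (.nd (.lf 0x1be1) (.lf 0))))) (.nd (.nd (.nd (.nd (.lf 0x0) (.lf 0xeb)) (.nd (.lf 0xb85) (.lf 0))) (.nd (.nd (.lf 0xa7f) (.lf 0)) (.nd (.lf 0x1c65) (.lf 0)))) (.nd (.nd (.nd (.lf 0x0) (.lf 0)) (.nd (.lf 0x10f7) (.lf 0))) (.nd (.nd (.lf 0xf4) (.lf 0)) (.nd (.lf 0x89c) (.lf 0)))))))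
def witQ2_naabbaa : Tr := (.nd (.nd (.nd (.nd (.nd (.nd (.lf 0x0) (.lf 0xe13)) (.nd (.lf 0x173f) (.lf 0))) (.nd (.nd (.lf 0x0) (.lf 0)) (.nd (.lf 0x527) (.lf 0)))) (.nd (.nd (.nd (.lf 0x0) (.lf 0)) (.nd (.lf 0x114f) (.lf 0))) (.nd (.nd (.lf 0x0) (.lf 0)) (.nd (.lf 0x1847) (.lf 0))))) (.nd (.nd (.nd (.nd (.lf 0x0) (.lf 0x8d4)) (.nd (.lf 0x19f0) (.lf 0))) (.nd (.nd (.lf 0x0) (.lf 0)) (.nd (.lf 0xb06) (.lf 0)))) (.nd (.nd (.nd (.lf 0x0) (.lf 0)) (.nd (.lf 0xe8e) (.lf 0))) (.nd (.nd (.lf 0x0) (.lf 0)) (.nd (.lf 0x1c38) (.lf 0)))))) (.nd (.nd (.nd (.nd (.nd (.lf 0x0) (.lf 0x736)) (.nd (.lf 0x1ada) (.lf 0))) (.nd (.nd (.lf 0xef) (.lf 0)) (.nd (.lf 0x18a2) (.lf 0)))) (.nd (.nd (.nd (.lf 0x0) (.lf 0)) (.nd (.lf 0x1251) (.lf 0))) (.nd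 (.nd (.lf 0x0) (.lf 0)) (.nd (.lf 0x3e6) (.lf 0))))) (.nd (.nd (.nd (.nd (.lf 0x0) (.lf 0x941)) (.nd (.lf 0xf6) (.lf 0))) (.nd (.nd (.lf 0x0) (.lf 0)) (.nd (.lf 0x960) (.lf 0)))) (.nd (.nd (.nd (.lf 0x13d6) (.lf 0)) (.nd (.lf 0xef7) (.lf 0))) (.nd (.nd (.lf 0x0) (.lf 0)) (.nd (.lf 0xcde) (.lf 0)))))))
def witQ2_naabbab : Tr := (.nd (.nd (.nd (.nd (.nd (.nd (.lf 0x0) (.lf 0xe3d)) (.nd (.lf 0x0) (.lf 0))) (.nd (.nd (.lf 0x1c68) (.lf 0)) (.nd (.lf 0x1b87) (.lf 0)))) (.nd (.nd (.nd (.lf 0x0) (.lf 0)) (.nd (.lf 0x1a39) (.lf 0))) (.nd (.nd (.lf 0x18d) (.lf 0)) (.nd (.lf 0xa89) (.lf 0))))) (.nd (.nd (.nd (.nd (.lf 0xb85) (.lf 0xcba)) (.nd (.lf 0xddb) (.lf 0))) (.nd (.nd (.lf 0x0) (.lf 0)) (.nd (.lf 0x1098) (.lf 0)))) (.nd (.nd (.nd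 (.lf 0x0) (.lf 0)) (.nd (.lf 0x0) (.lf 0))) (.nd (.nd (.lf 0x10e7) (.lf 0)) (.nd (.lf 0x1ab3) (.lf 0)))))) (.nd (.nd (.nd (.nd (.nd (.lf 0x0) (.lf 0x129b)) (.nd (.lf 0x17a9) (.lf 0))) (.nd (.nd (.lf 0x0) (.lf 0)) (.nd (.lf 0x145c) (.lf 0)))) (.nd (.nd (.nd (.lf 0x1d31) (.lf 0)) (.nd (.lf 0xa7b) (.lf 0))) (.nd (.nd (.lf 0x2b1) (.lf 0)) (.nd (.lf 0x6ec) (.lf 0))))) (.nd (.nd (.nd (.nd (.lf 0x160f) (.lf 0x84f)) (.nd (.lf 0x1010) (.lf 0))) (.nd (.nd (.lf 0x789) (.lf 0)) (.nd (.lf 0x2bd) (.lf 0)))) (.nd (.nd (.nd (.lf 0x0) (.lf 0)) (.nd (.lf 0xb0c) (.lf 0))) (.nd (.nd (.lf 0x2f3) (.lf 0)) (.nd (.lf 0x138) (.lf 0)))))))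
def witQ2_naabbba : Tr := (.nd (.nd (.nd (.nd (.nd (.nd (.lf 0x0) (.lf 0x35a)) (.nd (.lf 0x1101) (.lf 0))) (.nd (.nd (.lf 0x1578) (.lf 0)) (.nd (.lf 0xeb1) (.lf 0)))) (.nd (.nd (.nd (.lf 0x0) (.lf 0)) (.nd (.lf 0x1ac2) (.lf 0))) (.nd (.nd (.lf 0xf5) (.lf 0)) (.nd (.lf 0x0) (.lf 0))))) (.nd (.nd (.nd (.nd (.lf 0x0) (.lf 0x7b3)) (.nd (.lf 0x1a5c) (.lf 0))) (.nd (.nd (.lf 0x17ec) (.lf 0)) (.nd (.lf 0x5a1) (.lf 0)))) (.nd (.nd (.nd (.lf 0x0) (.lf 0)) (.nd (.lf 0x7cc) (.lf 0))) (.nd (.nd (.lf 0x0) (.lf 0)) (.nd (.lf 0x14fe) (.lf 0)))))) (.nd (.nd (.nd (.nd (.nd (.lf 0x181d) (.lf 0x1943)) (.nd (.lf 0x8c4) (.lf 0))) (.nd (.nd (.lf 0x50f) (.lf 0)) (.nd (.lf 0xed7) (.lf 0)))) (.nd (.nd (.nd (.lf 0x0) (.lf 0)) (.nd (.lf 0x1af7) (.lf 0)))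 (.nd (.nd (.lf 0x5f) (.lf 0)) (.nd (.lf 0x104f) (.lf 0))))) (.nd (.nd (.nd (.nd (.lf 0xd87) (.lf 0x1202)) (.nd (.lf 0x0) (.lf 0))) (.nd (.nd (.lf 0x0) (.lf 0)) (.nd (.lf 0x5a) (.lf 0)))) (.nd (.nd (.nd (.lf 0x1512) (.lf 0)) (.nd (.lf 0xdc) (.lf 0))) (.nd (.nd (.lf 0x0) (.lf 0)) (.nd (.lf 0x199f) (.lf 0)))))))
def witQ2_naabbbb : Tr := (.nd (.nd (.nd (.nd (.nd (.nd (.lf 0x0) (.lf 0x1da5)) (.nd (.lf 0x1b37) (.lf 0))) (.nd (.nd (.lf 0x0) (.lf 0)) (.nd (.lf 0x1d50) (.lf 0)))) (.nd (.nd (.nd (.lf 0x1043) (.lf 0)) (.nd (.lf 0x164e) (.lf 0))) (.nd (.nd (.lf 0x1b4) (.lf 0)) (.nd (.lf 0x765) (.lf 0))))) (.nd (.nd (.nd (.nd (.lf 0x0) (.lf 0x1d9b)) (.nd (.lf 0x505) (.lf 0))) (.nd (.nd (.lf 0xba4) (.lf 0)) (.nd (.lf 0x0) (.lf 0)))) (.nd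 (.nd (.nd (.lf 0x0) (.lf 0)) (.nd (.lf 0x6c4) (.lf 0))) (.nd (.nd (.lf 0x95b) (.lf 0)) (.nd (.lf 0x1737) (.lf 0)))))) (.nd (.nd (.nd (.nd (.nd (.lf 0x0) (.lf 0x55)) (.nd (.lf 0x306) (.lf 0))) (.nd (.nd (.lf 0xcc4) (.lf 0)) (.nd (.lf 0xcc) (.lf 0)))) (.nd (.nd (.nd (.lf 0x0) (.lf 0)) (.nd (.lf 0x1907) (.lf 0))) (.nd (.nd (.lf 0x1ab5) (.lf 0)) (.nd (.lf 0xf41) (.lf 0))))) (.nd (.nd (.nd (.nd (.lf 0x0) (.lf 0xd15)) (.nd (.lf 0x795) (.lf 0))) (.nd (.nd (.lf 0x98d) (.lf 0)) (.nd (.lf 0x1801) (.lf 0)))) (.nd (.nd (.nd (.lf 0x28e) (.lf 0)) (.nd (.lf 0x1aea) (.lf 0))) (.nd (.nd (.lf 0x1966) (.lf 0)) (.nd (.lf 0x569) (.lf 0)))))))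
def witQ2_nabaaaa : Tr := (.nd (.nd (.nd (.nd (.nd (.nd (.lf 0x0) (.lf 0x2a4)) (.nd (.lf 0x0) (.lf 0))) (.nd (.nd (.lf 0x0) (.lf 0)) (.nd (.lf 0x1839) (.lf 0)))) (.nd (.nd (.nd (.lf 0x0) (.lf 0)) (.nd (.lf 0x16a9) (.lf 0))) (.nd (.nd (.lf 0x9a8) (.lf 0)) (.nd (.lf 0x493) (.lf 0))))) (.nd (.nd (.nd (.nd (.lf 0x0) (.lf 0x47a)) (.nd (.lf 0x0) (.lf 0))) (.nd (.nd (.lf 0x12f9) (.lf 0)) (.nd (.lf 0x1c20) (.lf 0)))) (.nd (.nd (.nd (.lf 0x0) (.lf 0)) (.nd (.lf 0x97e) (.lf 0))) (.nd (.nd (.lf 0x10a3) (.lf 0)) (.nd (.lf 0x1c4f) (.lf 0)))))) (.nd (.nd (.nd (.nd (.nd (.lf 0x0) (.lf 0x1bae)) (.nd (.lf 0x17a5) (.lf 0))) (.nd (.nd (.lf 0x0) (.lf 0)) (.nd (.lf 0x1c98) (.lf 0)))) (.nd (.nd (.nd (.lf 0x0) (.lf 0)) (.nd (.lf 0xa49) (.lf 0))) (.nd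 (.nd (.lf 0x13aa) (.lf 0)) (.nd (.lf 0x712) (.lf 0))))) (.nd (.nd (.nd (.nd (.lf 0x0) (.lf 0xbc)) (.nd (.lf 0xea2) (.lf 0))) (.nd (.nd (.lf 0x19a2) (.lf 0)) (.nd (.lf 0x13c1) (.lf 0)))) (.nd (.nd (.nd (.lf 0x151) (.lf 0)) (.nd (.lf 0x176f) (.lf 0))) (.nd (.nd (.lf 0x1e00) (.lf 0)) (.nd (.lf 0xd4c) (.lf 0)))))))
def witQ2_nabaaab : Tr := (.nd (.nd (.nd (.nd (.nd (.nd (.lf 0x0) (.lf 0xf2d)) (.nd (.lf 0x1091) (.lf 0))) (.nd (.nd (.lf 0x0) (.lf 0)) (.nd (.lf 0x1117) (.lf 0)))) (.nd (.nd (.nd (.lf 0x0) (.lf 0)) (.nd (.lf 0xc13) (.lf 0))) (.nd (.nd (.lf 0x0) (.lf 0)) (.nd (.lf 0x26f) (.lf 0))))) (.nd (.nd (.nd (.nd (.lf 0x0) (.lf 0x15ab)) (.nd (.lf 0x1929) (.lf 0))) (.nd (.nd (.lf 0x62c) (.lf 0)) (.nd (.lf 0x19e9) (.lf 0)))) (.nd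 (.nd (.nd (.lf 0x17ad) (.lf 0)) (.nd (.lf 0xfde) (.lf 0))) (.nd (.nd (.lf 0xdea) (.lf 0)) (.nd (.lf 0x1925) (.lf 0)))))) (.nd (.nd (.nd (.nd (.nd (.lf 0x0) (.lf 0x1bc2)) (.nd (.lf 0x13c6) (.lf 0))) (.nd (.nd (.lf 0xc9) (.lf 0)) (.nd (.lf 0x0) (.lf 0)))) (.nd (.nd (.nd (.lf 0x0) (.lf 0)) (.nd (.lf 0x0) (.lf 0))) (.nd (.nd (.lf 0x1de9) (.lf 0)) (.nd (.lf 0x13e0) (.lf 0))))) (.nd (.nd (.nd (.nd (.lf 0x0) (.lf 0x1bd5)) (.nd (.lf 0x58) (.lf 0))) (.nd (.nd (.lf 0x1975) (.lf 0)) (.nd (.lf 0x750) (.lf 0)))) (.nd (.nd (.nd (.lf 0x0) (.lf 0)) (.nd (.lf 0x95) (.lf 0))) (.nd (.nd (.lf 0x0) (.lf 0)) (.nd (.lf 0x659) (.lf 0)))))))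
def witQ2_nabaaba : Tr := (.nd (.nd (.nd (.nd (.nd (.nd (.lf 0x0) (.lf 0x191d)) (.nd (.lf 0x0) (.lf 0))) (.nd (.nd (.lf 0x0) (.lf 0)) (.nd (.lf 0x161d) (.lf 0)))) (.nd (.nd (.nd (.lf 0x0) (.lf 0)) (.nd (.lf 0xcee) (.lf 0))) (.nd (.nd (.lf 0x0) (.lf 0)) (.nd (.lf 0x0) (.lf 0))))) (.nd (.nd (.nd (.nd (.lf 0x0) (.lf 0xe8f)) (.nd (.lf 0x0) (.lf 0))) (.nd (.nd (.lf 0xce) (.lf 0)) (.nd (.lf 0x785) (.lf 0)))) (.nd (.nd (.nd (.lf 0x0) (.lf 0)) (.nd (.lf 0x9e1) (.lf 0))) (.nd (.nd (.lf 0x310) (.lf 0)) (.nd (.lf 0xa75) (.lf 0)))))) (.nd (.nd (.nd (.nd (.nd (.lf 0x34f) (.lf 0x831)) (.nd (.lf 0x167d) (.lf 0))) (.nd (.nd (.lf 0xfd1) (.lf 0)) (.nd (.lf 0x746) (.lf 0)))) (.nd (.nd (.nd (.lf 0x0) (.lf 0)) (.nd (.lf 0x1406) (.lf 0))) (.nd (.nd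 (.lf 0x165e) (.lf 0)) (.nd (.lf 0x263) (.lf 0))))) (.nd (.nd (.nd (.nd (.lf 0x1430) (.lf 0x1aff)) (.nd (.lf 0x1696) (.lf 0))) (.nd (.nd (.lf 0x0) (.lf 0)) (.nd (.lf 0x715) (.lf 0)))) (.nd (.nd (.nd (.lf 0x1900) (.lf 0)) (.nd (.lf 0xfe1) (.lf 0))) (.nd (.nd (.lf 0x1bd0) (.lf 0)) (.nd (.lf 0x1989) (.lf 0)))))))
def witQ2_nabaabb : Tr := (.nd (.nd (.nd (.nd (.nd (.nd (.lf 0x0) (.lf 0x868)) (.nd (.lf 0x0) (.lf 0))) (.nd (.nd (.lf 0x1c9d) (.lf 0)) (.nd (.lf 0xf92) (.lf 0)))) (.nd (.nd (.nd (.lf 0x17a5) (.lf 0)) (.nd (.lf 0x0) (.lf 0))) (.nd (.nd (.lf 0x0) (.lf 0)) (.nd (.lf 0x1b1a) (.lf 0))))) (.nd (.nd (.nd (.nd (.lf 0x0) (.lf 0xc7)) (.nd (.lf 0x0) (.lf 0))) (.nd (.nd (.lf 0x0) (.lf 0)) (.nd (.lf 0x8c7) (.lf 0)))) (.nd (.nd (.nd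 (.lf 0x17ee) (.lf 0)) (.nd (.lf 0x1286) (.lf 0))) (.nd (.nd (.lf 0x194) (.lf 0)) (.nd (.lf 0x16c2) (.lf 0)))))) (.nd (.nd (.nd (.nd (.nd (.lf 0x0) (.lf 0xef9)) (.nd (.lf 0x1b2c) (.lf 0))) (.nd (.nd (.lf 0x0) (.lf 0)) (.nd (.lf 0x1124) (.lf 0)))) (.nd (.nd (.nd (.lf 0x0) (.lf 0)) (.nd (.lf 0x0) (.lf 0))) (.nd (.nd (.lf 0x8a9) (.lf 0)) (.nd (.lf 0x75b) (.lf 0))))) (.nd (.nd (.nd (.nd (.lf 0x154d) (.lf 0x5fa)) (.nd (.lf 0x1149) (.lf 0))) (.nd (.nd (.lf 0x0) (.lf 0)) (.nd (.lf 0x172c) (.lf 0)))) (.nd (.nd (.nd (.lf 0x17cc) (.lf 0)) (.nd (.lf 0x1bd6) (.lf 0))) (.nd (.nd (.lf 0x0) (.lf 0)) (.nd (.lf 0x8ad) (.lf 0)))))))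
def witQ2_nababaa : Tr := (.nd (.nd (.nd (.nd (.nd (.nd (.lf 0x0) (.lf 0x1d1f)) (.nd (.lf 0x18bb) (.lf 0))) (.nd (.nd (.lf 0x0) (.lf 0)) (.nd (.lf 0x1586) (.lf 0)))) (.nd (.nd (.nd (.lf 0x0) (.lf 0)) (.nd (.lf 0x1c6d) (.lf 0))) (.nd (.nd (.lf 0x0) (.lf 0)) (.nd (.lf 0x876) (.lf 0))))) (.nd (.nd (.nd (.nd (.lf 0x0) (.lf 0x0)) (.nd (.lf 0x570) (.lf 0))) (.nd (.nd (.lf 0x0) (.lf 0)) (.nd (.lf 0x1f1) (.lf 0)))) (.nd (.nd (.nd (.lf 0x1379) (.lf 0)) (.nd (.lf 0xae3) (.lf 0))) (.nd (.nd (.lf 0x0) (.lf 0)) (.nd (.lf 0x0) (.lf 0)))))) (.nd (.nd (.nd (.nd (.nd (.lf 0x0) (.lf 0xfde)) (.nd (.lf 0x0) (.lf 0))) (.nd (.nd (.lf 0x0) (.lf 0)) (.nd (.lf 0x74c) (.lf 0)))) (.nd (.nd (.nd (.lf 0xa6d) (.lf 0)) (.nd (.lf 0x1702) (.lf 0))) (.nd (.nd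 (.lf 0x0) (.lf 0)) (.nd (.lf 0xf5) (.lf 0))))) (.nd (.nd (.nd (.nd (.lf 0x11f2) (.lf 0xbe6)) (.nd (.lf 0x19b2) (.lf 0))) (.nd (.nd (.lf 0x13d8) (.lf 0)) (.nd (.lf 0x10) (.lf 0)))) (.nd (.nd (.nd (.lf 0x0) (.lf 0)) (.nd (.lf 0x1267) (.lf 0))) (.nd (.nd (.lf 0x0) (.lf 0)) (.nd (.lf 0xd68) (.lf 0)))))))
def witQ2_nababab : Tr := (.nd (.nd (.nd (.nd (.nd (.nd (.lf 0x0) (.lf 0x12de)) (.nd (.lf 0x0) (.lf 0))) (.nd (.nd (.lf 0x0) (.lf 0)) (.nd (.lf 0x1619) (.lf 0)))) (.nd (.nd (.nd (.lf 0x0) (.lf 0)) (.nd (.lf 0x1c2a) (.lf 0))) (.nd (.nd (.lf 0x1336) (.lf 0)) (.nd (.lf 0x1425) (.lf 0))))) (.nd (.nd (.nd (.nd (.lf 0x0) (.lf 0x265)) (.nd (.lf 0x130c) (.lf 0))) (.nd (.nd (.lf 0x0) (.lf 0)) (.nd (.lf 0xb81) (.lf 0)))) (.nd (.nd (.nd (.lf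 0x0) (.lf 0)) (.nd (.lf 0x9c0) (.lf 0))) (.nd (.nd (.lf 0x0) (.lf 0)) (.nd (.lf 0x10ca) (.lf 0)))))) (.nd (.nd (.nd (.nd (.nd (.lf 0x0) (.lf 0x9d5)) (.nd (.lf 0x18f4) (.lf 0))) (.nd (.nd (.lf 0x0) (.lf 0)) (.nd (.lf 0x14a) (.lf 0)))) (.nd (.nd (.nd (.lf 0x0) (.lf 0)) (.nd (.lf 0x0) (.lf 0))) (.nd (.nd (.lf 0x0) (.lf 0)) (.nd (.lf 0x9d6) (.lf 0))))) (.nd (.nd (.nd (.nd (.lf 0x0) (.lf 0x197)) (.nd (.lf 0x1101) (.lf 0))) (.nd (.nd (.lf 0xc63) (.lf 0)) (.nd (.lf 0x50b) (.lf 0)))) (.nd (.nd (.nd (.lf 0x0) (.lf 0)) (.nd (.lf 0x852) (.lf 0))) (.nd (.nd (.lf 0x1915) (.lf 0)) (.nd (.lf 0x1b12) (.lf 0)))))))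
def witQ2_nababba : Tr := (.nd (.nd (.nd (.nd (.nd (.nd (.lf 0x0) (.lf 0x1d04)) (.nd (.lf 0x0) (.lf 0))) (.nd (.nd (.lf 0x376) (.lf 0)) (.nd (.lf 0x829) (.lf 0)))) (.nd (.nd (.nd (.lf 0x0) (.lf 0)) (.nd (.lf 0x1b43) (.lf 0))) (.nd (.nd (.lf 0x0) (.lf 0)) (.nd (.lf 0x746) (.lf 0))))) (.nd (.nd (.nd (.nd (.lf 0x0) (.lf 0x443)) (.nd (.lf 0x0) (.lf 0))) (.nd (.nd (.lf 0x9f9) (.lf 0)) (.nd (.lf 0xf3e) (.lf 0)))) (.nd (.nd (.nd (.lf 0x0) (.lf 0)) (.nd (.lf 0x0) (.lf 0))) (.nd (.nd (.lf 0xba7) (.lf 0)) (.nd (.lf 0x1241) (.lf 0)))))) (.nd (.nd (.nd (.nd (.nd (.lf 0x0) (.lf 0x16d8)) (.nd (.lf 0x5fd) (.lf 0))) (.nd (.nd (.lf 0x0) (.lf 0)) (.nd (.lf 0x8c4) (.lf 0)))) (.nd (.nd (.nd (.lf 0x0) (.lf 0)) (.nd (.lf 0x703) (.lf 0))) (.nd (.nd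 (.lf 0x11f1) (.lf 0)) (.nd (.lf 0xfe5) (.lf 0))))) (.nd (.nd (.nd (.nd (.lf 0x1b27) (.lf 0xf3b)) (.nd (.lf 0x0) (.lf 0))) (.nd (.nd (.lf 0x0) (.lf 0)) (.nd (.lf 0x174f) (.lf 0)))) (.nd (.nd (.nd (.lf 0x0) (.lf 0)) (.nd (.lf 0x127c) (.lf 0))) (.nd (.nd (.lf 0x0) (.lf 0)) (.nd (.lf 0x907) (.lf 0)))))))
def witQ2_nababbb : Tr := (.nd (.nd (.nd (.nd (.nd (.nd (.lf 0x0) (.lf 0x1540)) (.nd (.lf 0x1415) (.lf 0))) (.nd (.nd (.lf 0x0) (.lf 0)) (.nd (.lf 0x0) (.lf 0)))) (.nd (.nd (.nd (.lf 0x0) (.lf 0)) (.nd (.lf 0x1480) (.lf 0))) (.nd (.nd (.lf 0xa58) (.lf 0)) (.nd (.lf 0xde0) (.lf 0))))) (.nd (.nd (.nd (.nd (.lf 0x183e) (.lf 0x1acc)) (.nd (.lf 0x910) (.lf 0))) (.nd (.nd (.lf 0x0) (.lf 0)) (.nd (.lf 0x1516) (.lf 0)))) (.nd (.nd (.nd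 (.lf 0x0) (.lf 0)) (.nd (.lf 0x0) (.lf 0))) (.nd (.nd (.lf 0xa95) (.lf 0)) (.nd (.lf 0x1816) (.lf 0)))))) (.nd (.nd (.nd (.nd (.nd (.lf 0x0) (.lf 0x1bdf)) (.nd (.lf 0xffa) (.lf 0))) (.nd (.nd (.lf 0x0) (.lf 0)) (.nd (.lf 0x16e5) (.lf 0)))) (.nd (.nd (.nd (.lf 0x0) (.lf 0)) (.nd (.lf 0x0) (.lf 0))) (.nd (.nd (.lf 0x0) (.lf 0)) (.nd (.lf 0x12be) (.lf 0))))) (.nd (.nd (.nd (.nd (.lf 0x0) (.lf 0x552)) (.nd (.lf 0x198) (.lf 0))) (.nd (.nd (.lf 0x0) (.lf 0)) (.nd (.lf 0x1c6d) (.lf 0)))) (.nd (.nd (.nd (.lf 0x0) (.lf 0)) (.nd (.lf 0x1b4) (.lf 0))) (.nd (.nd (.lf 0x1b7b) (.lf 0)) (.nd (.lf 0x1806) (.lf 0)))))))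
def witQ2_nabbaaa : Tr := (.nd (.nd (.nd (.nd (.nd (.nd (.lf 0x0) (.lf 0x1c0e)) (.nd (.lf 0x14e5) (.lf 0))) (.nd (.nd (.lf 0x0) (.lf 0)) (.nd (.lf 0x308) (.lf 0)))) (.nd (.nd (.nd (.lf 0x0) (.lf 0)) (.nd (.lf 0x0) (.lf 0))) (.nd (.nd (.lf 0xde) (.lf 0)) (.nd (.lf 0xae) (.lf 0))))) (.nd (.nd (.nd (.nd (.lf 0x1b47) (.lf 0x60c)) (.nd (.lf 0x925) (.lf 0))) (.nd (.nd (.lf 0x0) (.lf 0)) (.nd (.lf 0xc52) (.lf 0)))) (.nd (.nd (.nd (.lf 0x0) (.lf 0)) (.nd (.lf 0x287) (.lf 0))) (.nd (.nd (.lf 0x0) (.lf 0)) (.nd (.lf 0xfd0) (.lf 0)))))) (.nd (.nd (.nd (.nd (.nd (.lf 0x0) (.lf 0x141a)) (.nd (.lf 0x1863) (.lf 0))) (.nd (.nd (.lf 0x0) (.lf 0)) (.nd (.lf 0xa3a) (.lf 0)))) (.nd (.nd (.nd (.lf 0x178f) (.lf 0)) (.nd (.lf 0x0) (.lf 0))) (.nd (.nd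 (.lf 0xa2b) (.lf 0)) (.nd (.lf 0x1d8a) (.lf 0))))) (.nd (.nd (.nd (.nd (.lf 0x0) (.lf 0x1a98)) (.nd (.lf 0x1a70) (.lf 0))) (.nd (.nd (.lf 0x0) (.lf 0)) (.nd (.lf 0x824) (.lf 0)))) (.nd (.nd (.nd (.lf 0x0) (.lf 0)) (.nd (.lf 0xffc) (.lf 0))) (.nd (.nd (.lf 0x182f) (.lf 0)) (.nd (.lf 0x1d43) (.lf 0)))))))
def witQ2_nabbaab : Tr := (.nd (.nd (.nd (.nd (.nd (.nd (.lf 0x0) (.lf 0x1e4a)) (.nd (.lf 0x0) (.lf 0))) (.nd (.nd (.lf 0x1ded) (.lf 0)) (.nd (.lf 0x2a6) (.lf 0)))) (.nd (.nd (.nd (.lf 0x0) (.lf 0)) (.nd (.lf 0x133e) (.lf 0))) (.nd (.nd (.lf 0x1dd4) (.lf 0)) (.nd (.lf 0xeae) (.lf 0))))) (.nd (.nd (.nd (.nd (.lf 0x0) (.lf 0x56)) (.nd (.lf 0x14e2) (.lf 0))) (.nd (.nd (.lf 0x0) (.lf 0)) (.nd (.lf 0x40b) (.lf 0)))) (.nd (.nd (.nd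 (.lf 0x1e5c) (.lf 0)) (.nd (.lf 0x0) (.lf 0))) (.nd (.nd (.lf 0xec3) (.lf 0)) (.nd (.lf 0x1c04) (.lf 0)))))) (.nd (.nd (.nd (.nd (.nd (.lf 0x0) (.lf 0xe85)) (.nd (.lf 0x11d2) (.lf 0))) (.nd (.nd (.lf 0x3e0) (.lf 0)) (.nd (.lf 0x2a0) (.lf 0)))) (.nd (.nd (.nd (.lf 0x0) (.lf 0)) (.nd (.lf 0xeed) (.lf 0))) (.nd (.nd (.lf 0xcfa) (.lf 0)) (.nd (.lf 0x12cf) (.lf 0))))) (.nd (.nd (.nd (.nd (.lf 0x0) (.lf 0x2cf)) (.nd (.lf 0x0) (.lf 0))) (.nd (.nd (.lf 0x1139) (.lf 0)) (.nd (.lf 0xba5) (.lf 0)))) (.nd (.nd (.nd (.lf 0x0) (.lf 0)) (.nd (.lf 0x0) (.lf 0))) (.nd (.nd (.lf 0x1502) (.lf 0)) (.nd (.lf 0x18e5) (.lf 0)))))))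
def witQ2_nabbaba : Tr := (.nd (.nd (.nd (.nd (.nd (.nd (.lf 0x0) (.lf 0x477)) (.nd (.lf 0x0) (.lf 0))) (.nd (.nd (.lf 0x0) (.lf 0)) (.nd (.lf 0x752) (.lf 0)))) (.nd (.nd (.nd (.lf 0x0) (.lf 0)) (.nd (.lf 0x1adc) (.lf 0))) (.nd (.nd (.lf 0xe4b) (.lf 0)) (.nd (.lf 0x10fa) (.lf 0))))) (.nd (.nd (.nd (.nd (.lf 0x0) (.lf 0x1988)) (.nd (.lf 0x16e4) (.lf 0))) (.nd (.nd (.lf 0x0) (.lf 0)) (.nd (.lf 0x328) (.lf 0)))) (.nd (.nd (.nd (.lf 0x8d8) (.lf 0)) (.nd (.lf 0x19df) (.lf 0))) (.nd (.nd (.lf 0x1a48) (.lf 0)) (.nd (.lf 0x1d00) (.lf 0)))))) (.nd (.nd (.nd (.nd (.nd (.lf 0x0) (.lf 0xddd)) (.nd (.lf 0x150e) (.lf 0))) (.nd (.nd (.lf 0x0) (.lf 0)) (.nd (.lf 0x1abd) (.lf 0)))) (.nd (.nd (.nd (.lf 0x0) (.lf 0)) (.nd (.lf 0xe82) (.lf 0)))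 (.nd (.nd (.lf 0x1771) (.lf 0)) (.nd (.lf 0x175c) (.lf 0))))) (.nd (.nd (.nd (.nd (.lf 0x0) (.lf 0x3a4)) (.nd (.lf 0x3f8) (.lf 0))) (.nd (.nd (.lf 0x0) (.lf 0)) (.nd (.lf 0x1b44) (.lf 0)))) (.nd (.nd (.nd (.lf 0x0) (.lf 0)) (.nd (.lf 0xacc) (.lf 0))) (.nd (.nd (.lf 0x0) (.lf 0)) (.nd (.lf 0x15b8) (.lf 0)))))))
def witQ2_nabbabb : Tr := (.nd (.nd (.nd (.nd (.nd (.nd (.lf 0x0) (.lf 0x1415)) (.nd (.lf 0x1a78) (.lf 0))) (.nd (.nd (.lf 0x0) (.lf 0)) (.nd (.lf 0x1603) (.lf 0)))) (.nd (.nd (.nd (.lf 0x549) (.lf 0)) (.nd (.lf 0x10f4) (.lf 0))) (.nd (.nd (.lf 0x0) (.lf 0)) (.nd (.lf 0xc0c) (.lf 0))))) (.nd (.nd (.nd (.nd (.lf 0x0) (.lf 0x15c7)) (.nd (.lf 0x135a) (.lf 0))) (.nd (.nd (.lf 0x0) (.lf 0)) (.nd (.lf 0x1bc5) (.lf 0)))) (.nd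 (.nd (.nd (.lf 0x0) (.lf 0)) (.nd (.lf 0x97b) (.lf 0))) (.nd (.nd (.lf 0x11c2) (.lf 0)) (.nd (.lf 0x307) (.lf 0)))))) (.nd (.nd (.nd (.nd (.nd (.lf 0x0) (.lf 0x521)) (.nd (.lf 0x0) (.lf 0))) (.nd (.nd (.lf 0x0) (.lf 0)) (.nd (.lf 0x1d61) (.lf 0)))) (.nd (.nd (.nd (.lf 0x0) (.lf 0)) (.nd (.lf 0x6d9) (.lf 0))) (.nd (.nd (.lf 0x0) (.lf 0)) (.nd (.lf 0x831) (.lf 0))))) (.nd (.nd (.nd (.nd (.lf 0x0) (.lf 0x90a)) (.nd (.lf 0x1cde) (.lf 0))) (.nd (.nd (.lf 0x1416) (.lf 0)) (.nd (.lf 0x1a15) (.lf 0)))) (.nd (.nd (.nd (.lf 0x0) (.lf 0)) (.nd (.lf 0x1b87) (.lf 0))) (.nd (.nd (.lf 0x0) (.lf 0)) (.nd (.lf 0xd51) (.lf 0)))))))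
def witQ2_nabbbaa : Tr := (.nd (.nd (.nd (.nd (.nd (.nd (.lf 0x0) (.lf 0xdbc)) (.nd (.lf 0x160b) (.lf 0))) (.nd (.nd (.lf 0x17e8) (.lf 0)) (.nd (.lf 0xfbe) (.lf 0)))) (.nd (.nd (.nd (.lf 0x0) (.lf 0)) (.nd (.lf 0x43d) (.lf 0))) (.nd (.nd (.lf 0x0) (.lf 0)) (.nd (.lf 0x14c2) (.lf 0))))) (.nd (.nd (.nd (.nd (.lf 0x0) (.lf 0x1ae5)) (.nd (.lf 0x572) (.lf 0))) (.nd (.nd (.lf 0x0) (.lf 0)) (.nd (.lf 0xbfb) (.lf 0)))) (.nd (.nd (.nd (.lf 0xc48) (.lf 0)) (.nd (.lf 0xfb9) (.lf 0))) (.nd (.nd (.lf 0x0) (.lf 0)) (.nd (.lf 0xcfc) (.lf 0)))))) (.nd (.nd (.nd (.nd (.nd (.lf 0x27a) (.lf 0x727)) (.nd (.lf 0xfcf) (.lf 0))) (.nd (.nd (.lf 0x0) (.lf 0)) (.nd (.lf 0x32e) (.lf 0)))) (.nd (.nd (.nd (.lf 0x0) (.lf 0)) (.nd (.lf 0x0) (.lf 0))) (.nd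 (.nd (.lf 0x0) (.lf 0)) (.nd (.lf 0x191d) (.lf 0))))) (.nd (.nd (.nd (.nd (.lf 0x10e6) (.lf 0x1b50)) (.nd (.lf 0x1c1b) (.lf 0))) (.nd (.nd (.lf 0x0) (.lf 0)) (.nd (.lf 0x196c) (.lf 0)))) (.nd (.nd (.nd (.lf 0x0) (.lf 0)) (.nd (.lf 0x14fd) (.lf 0))) (.nd (.nd (.lf 0xb0a) (.lf 0)) (.nd (.lf 0x12a0) (.lf 0)))))))
def witQ2_nabbbab : Tr := (.nd (.nd (.nd (.nd (.nd (.nd (.lf 0x0) (.lf 0x7f1)) (.nd (.lf 0x1cee) (.lf 0))) (.nd (.nd (.lf 0x0) (.lf 0)) (.nd (.lf 0x0) (.lf 0)))) (.nd (.nd (.nd (.lf 0x0) (.lf 0)) (.nd (.lf 0x0) (.lf 0))) (.nd (.nd (.lf 0x0) (.lf 0)) (.nd (.lf 0x1a44) (.lf 0))))) (.nd (.nd (.nd (.nd (.lf 0x102) (.lf 0x13c3)) (.nd (.lf 0x11cf) (.lf 0))) (.nd (.nd (.lf 0xb0c) (.lf 0)) (.nd (.lf 0x1227) (.lf 0)))) (.nd (.nd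 (.nd (.lf 0x0) (.lf 0)) (.nd (.lf 0x9c4) (.lf 0))) (.nd (.nd (.lf 0x1858) (.lf 0)) (.nd (.lf 0x16e) (.lf 0)))))) (.nd (.nd (.nd (.nd (.nd (.lf 0x0) (.lf 0xb92)) (.nd (.lf 0x1924) (.lf 0))) (.nd (.nd (.lf 0x0) (.lf 0)) (.nd (.lf 0xf62) (.lf 0)))) (.nd (.nd (.nd (.lf 0x0) (.lf 0)) (.nd (.lf 0x159f) (.lf 0))) (.nd (.nd (.lf 0x180c) (.lf 0)) (.nd (.lf 0xda2) (.lf 0))))) (.nd (.nd (.nd (.nd (.lf 0x0) (.lf 0xbae)) (.nd (.lf 0x106d) (.lf 0))) (.nd (.nd (.lf 0x182d) (.lf 0)) (.nd (.lf 0x13c) (.lf 0)))) (.nd (.nd (.nd (.lf 0x0) (.lf 0)) (.nd (.lf 0x13d8) (.lf 0))) (.nd (.nd (.lf 0x100a) (.lf 0)) (.nd (.lf 0xd1f) (.lf 0)))))))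
def witQ2_nabbbba : Tr := (.nd (.nd (.nd (.nd (.nd (.nd (.lf 0x0) (.lf 0x13f)) (.nd (.lf 0x0) (.lf 0))) (.nd (.nd (.lf 0x0) (.lf 0)) (.nd (.lf 0xa1a) (.lf 0)))) (.nd (.nd (.nd (.lf 0xba8) (.lf 0)) (.nd (.lf 0x183f) (.lf 0))) (.nd (.nd (.lf 0x16f2) (.lf 0)) (.nd (.lf 0xc5b) (.lf 0))))) (.nd (.nd (.nd (.nd (.lf 0x0) (.lf 0xa60)) (.nd (.lf 0xb17) (.lf 0))) (.nd (.nd (.lf 0x0) (.lf 0)) (.nd (.lf 0x1366) (.lf 0)))) (.nd (.nd (.nd (.lf 0x0) (.lf 0)) (.nd (.lf 0x11d8) (.lf 0))) (.nd (.nd (.lf 0x0) (.lf 0)) (.nd (.lf 0x20d) (.lf 0)))))) (.nd (.nd (.nd (.nd (.nd (.lf 0x0) (.lf 0x4ec)) (.nd (.lf 0x8c5) (.lf 0))) (.nd (.nd (.lf 0x102f) (.lf 0)) (.nd (.lf 0xae6) (.lf 0)))) (.nd (.nd (.nd (.lf 0x0) (.lf 0)) (.nd (.lf 0x19a6) (.lf 0))) (.nd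 (.nd (.lf 0x19c8) (.lf 0)) (.nd (.lf 0x9e7) (.lf 0))))) (.nd (.nd (.nd (.nd (.lf 0xb3e) (.lf 0x111b)) (.nd (.lf 0x50d) (.lf 0))) (.nd (.nd (.lf 0x6e6) (.lf 0)) (.nd (.lf 0x1b39) (.lf 0)))) (.nd (.nd (.nd (.lf 0x0) (.lf 0)) (.nd (.lf 0x0) (.lf 0))) (.nd (.nd (.lf 0x0) (.lf 0)) (.nd (.lf 0xa08) (.lf 0)))))))
def witQ2_nabbbbb : Tr := (.nd (.nd (.nd (.nd (.nd (.nd (.lf 0x0) (.lf 0x39e)) (.nd (.lf 0x0) (.lf 0))) (.nd (.nd (.lf 0x0) (.lf 0)) (.nd (.lf 0x0) (.lf 0)))) (.nd (.nd (.nd (.lf 0xc5b) (.lf 0)) (.nd (.lf 0x1e71) (.lf 0))) (.nd (.nd (.lf 0x0) (.lf 0)) (.nd (.lf 0x12c8) (.lf 0))))) (.nd (.nd (.nd (.nd (.lf 0x0) (.lf 0x6d0)) (.nd (.lf 0xc28) (.lf 0))) (.nd (.nd (.lf 0x0) (.lf 0)) (.nd (.lf 0xc6e) (.lf 0)))) (.nd (.nd (.nd (.lf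 0xb2c) (.lf 0)) (.nd (.lf 0x18d2) (.lf 0))) (.nd (.nd (.lf 0xc3c) (.lf 0)) (.nd (.lf 0x8c6) (.lf 0)))))) (.nd (.nd (.nd (.nd (.nd (.lf 0x0) (.lf 0x10b8)) (.nd (.lf 0x1a0c) (.lf 0))) (.nd (.nd (.lf 0x0) (.lf 0)) (.nd (.lf 0x377) (.lf 0)))) (.nd (.nd (.nd (.lf 0x0) (.lf 0)) (.nd (.lf 0x18e7) (.lf 0))) (.nd (.nd (.lf 0x15f2) (.lf 0)) (.nd (.lf 0xbc8) (.lf 0))))) (.nd (.nd (.nd (.nd (.lf 0x15a4) (.lf 0x9f9)) (.nd (.lf 0x55e) (.lf 0))) (.nd (.nd (.lf 0x1624) (.lf 0)) (.nd (.lf 0x1015) (.lf 0)))) (.nd (.nd (.nd (.lf 0x293) (.lf 0)) (.nd (.lf 0x15a4) (.lf 0))) (.nd (.nd (.lf 0x23e) (.lf 0)) (.nd (.lf 0x719) (.lf 0)))))))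
def witQ2_nbaaaaa : Tr := (.nd (.nd (.nd (.nd (.nd (.nd (.lf 0x0) (.lf 0x1163)) (.nd (.lf 0x4eb) (.lf 0))) (.nd (.nd (.lf 0x190d) (.lf 0)) (.nd (.lf 0x1ad8) (.lf 0)))) (.nd (.nd (.nd (.lf 0x0) (.lf 0)) (.nd (.lf 0x0) (.lf 0))) (.nd (.nd (.lf 0x0) (.lf 0)) (.nd (.lf 0x0) (.lf 0))))) (.nd (.nd (.nd (.nd (.lf 0x0) (.lf 0x17d3)) (.nd (.lf 0x447) (.lf 0))) (.nd (.nd (.lf 0x0) (.lf 0)) (.nd (.lf 0x932) (.lf 0)))) (.nd (.nd (.nd (.lf 0x10a6) (.lf 0)) (.nd (.lf 0x1db7) (.lf 0))) (.nd (.nd (.lf 0x161f) (.lf 0)) (.nd (.lf 0xdb2) (.lf 0)))))) (.nd (.nd (.nd (.nd (.nd (.lf 0x0) (.lf 0x17c)) (.nd (.lf 0xffd) (.lf 0))) (.nd (.nd (.lf 0x93) (.lf 0)) (.nd (.lf 0xde2) (.lf 0)))) (.nd (.nd (.nd (.lf 0x0) (.lf 0)) (.nd (.lf 0xb91) (.lf 0))) (.nd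 (.nd (.lf 0x1dca) (.lf 0)) (.nd (.lf 0x2c6) (.lf 0))))) (.nd (.nd (.nd (.nd (.lf 0x13fa) (.lf 0x13d3)) (.nd (.lf 0x483) (.lf 0))) (.nd (.nd (.lf 0x181b) (.lf 0)) (.nd (.lf 0x13db) (.lf 0)))) (.nd (.nd (.nd (.lf 0x6d3) (.lf 0)) (.nd (.lf 0x982) (.lf 0))) (.nd (.nd (.lf 0xfbf) (.lf 0)) (.nd (.lf 0x1b42) (.lf 0)))))))
def witQ2_nbaaaab : Tr := (.nd (.nd (.nd (.nd (.nd (.nd (.lf 0x0) (.lf 0x268)) (.nd (.lf 0x0) (.lf 0))) (.nd (.nd (.lf 0x1a6f) (.lf 0)) (.nd (.lf 0x1d21) (.lf 0)))) (.nd (.nd (.nd (.lf 0x0) (.lf 0)) (.nd (.lf 0x115) (.lf 0))) (.nd (.nd (.lf 0x364) (.lf 0)) (.nd (.lf 0x725) (.lf 0))))) (.nd (.nd (.nd (.nd (.lf 0x0) (.lf 0xd13)) (.nd (.lf 0x15e) (.lf 0))) (.nd (.nd (.lf 0x1e60) (.lf 0)) (.nd (.lf 0x10ec) (.lf 0))))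 (.nd (.nd (.nd (.lf 0x0) (.lf 0)) (.nd (.lf 0xdea) (.lf 0))) (.nd (.nd (.lf 0xac2) (.lf 0)) (.nd (.lf 0x1232) (.lf 0)))))) (.nd (.nd (.nd (.nd (.nd (.lf 0x0) (.lf 0x1736)) (.nd (.lf 0xa3f) (.lf 0))) (.nd (.nd (.lf 0xd2e) (.lf 0)) (.nd (.lf 0x930) (.lf 0)))) (.nd (.nd (.nd (.lf 0x0) (.lf 0)) (.nd (.lf 0x1bcd) (.lf 0))) (.nd (.nd (.lf 0xdb4) (.lf 0)) (.nd (.lf 0xa17) (.lf 0))))) (.nd (.nd (.nd (.nd (.lf 0x0) (.lf 0x2e4)) (.nd (.lf 0xe98) (.lf 0))) (.nd (.nd (.lf 0x0) (.lf 0)) (.nd (.lf 0xd6) (.lf 0)))) (.nd (.nd (.nd (.lf 0x1886) (.lf 0)) (.nd (.lf 0x1a09) (.lf 0))) (.nd (.nd (.lf 0x19dc) (.lf 0)) (.nd (.lf 0x128b) (.lf 0)))))))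
def witQ2_nbaaaba : Tr := (.nd (.nd (.nd (.nd (.nd (.nd (.lf 0x0) (.lf 0x122d)) (.nd (.lf 0x16b2) (.lf 0))) (.nd (.nd (.lf 0x0) (.lf 0)) (.nd (.lf 0x0) (.lf 0)))) (.nd (.nd (.nd (.lf 0x0) (.lf 0)) (.nd (.lf 0x189b) (.lf 0))) (.nd (.nd (.lf 0x0) (.lf 0)) (.nd (.lf 0x1084) (.lf 0))))) (.nd (.nd (.nd (.nd (.lf 0x0) (.lf 0x366)) (.nd (.lf 0x2e7) (.lf 0))) (.nd (.nd (.lf 0x1164) (.lf 0)) (.nd (.lf 0x91f) (.lf 0)))) (.nd (.nd (.nd (.lf 0x0) (.lf 0)) (.nd (.lf 0x10d1) (.lf 0))) (.nd (.nd (.lf 0x170f) (.lf 0)) (.nd (.lf 0x1c02) (.lf 0)))))) (.nd (.nd (.nd (.nd (.nd (.lf 0x0) (.lf 0x1d18)) (.nd (.lf 0x986) (.lf 0))) (.nd (.nd (.lf 0x0) (.lf 0)) (.nd (.lf 0x1da9) (.lf 0)))) (.nd (.nd (.nd (.lf 0x0) (.lf 0)) (.nd (.lf 0x165c) (.lf 0)))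 (.nd (.nd (.lf 0x5f3) (.lf 0)) (.nd (.lf 0x13e5) (.lf 0))))) (.nd (.nd (.nd (.nd (.lf 0x0) (.lf 0x1444)) (.nd (.lf 0x0) (.lf 0))) (.nd (.nd (.lf 0x1447) (.lf 0)) (.nd (.lf 0xf59) (.lf 0)))) (.nd (.nd (.nd (.lf 0x0) (.lf 0)) (.nd (.lf 0x11b1) (.lf 0))) (.nd (.nd (.lf 0x0) (.lf 0)) (.nd (.lf 0x441) (.lf 0)))))))
def witQ2_nbaaabb : Tr := (.nd (.nd (.nd (.nd (.nd (.nd (.lf 0x0) (.lf 0xa3c)) (.nd (.lf 0x0) (.lf 0))) (.nd (.nd (.lf 0x1460) (.lf 0)) (.nd (.lf 0x155) (.lf 0)))) (.nd (.nd (.nd (.lf 0x0) (.lf 0)) (.nd (.lf 0x1750) (.lf 0))) (.nd (.nd (.lf 0x165d) (.lf 0)) (.nd (.lf 0x1766) (.lf 0))))) (.nd (.nd (.nd (.nd (.lf 0x0) (.lf 0x13d8)) (.nd (.lf 0x0) (.lf 0))) (.nd (.nd (.lf 0x440) (.lf 0)) (.nd (.lf 0x1b84) (.lf 0)))) (.nd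 (.nd (.nd (.lf 0x7a) (.lf 0)) (.nd (.lf 0xda8) (.lf 0))) (.nd (.nd (.lf 0x1a3d) (.lf 0)) (.nd (.lf 0x1a94) (.lf 0)))))) (.nd (.nd (.nd (.nd (.nd (.lf 0x0) (.lf 0x76c)) (.nd (.lf 0x10cc) (.lf 0))) (.nd (.nd (.lf 0x0) (.lf 0)) (.nd (.lf 0xe13) (.lf 0)))) (.nd (.nd (.nd (.lf 0x230) (.lf 0)) (.nd (.lf 0xa29) (.lf 0))) (.nd (.nd (.lf 0x17f6) (.lf 0)) (.nd (.lf 0x20d) (.lf 0))))) (.nd (.nd (.nd (.nd (.lf 0x0) (.lf 0xd97)) (.nd (.lf 0x9a) (.lf 0))) (.nd (.nd (.lf 0x0) (.lf 0)) (.nd (.lf 0x5e5) (.lf 0)))) (.nd (.nd (.nd (.lf 0x0) (.lf 0)) (.nd (.lf 0x7c) (.lf 0))) (.nd (.nd (.lf 0x19c7) (.lf 0)) (.nd (.lf 0xb43) (.lf 0)))))))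
def witQ2_nbaabaa : Tr := (.nd (.nd (.nd (.nd (.nd (.nd (.lf 0x0) (.lf 0x9f6)) (.nd (.lf 0x0) (.lf 0))) (.nd (.nd (.lf 0x0) (.lf 0)) (.nd (.lf 0x1ea) (.lf 0)))) (.nd (.nd (.nd (.lf 0x0) (.lf 0)) (.nd (.lf 0x135a) (.lf 0))) (.nd (.nd (.lf 0x50a) (.lf 0)) (.nd (.lf 0x1433) (.lf 0))))) (.nd (.nd (.nd (.nd (.lf 0xbe9) (.lf 0x12ae)) (.nd (.lf 0x5cd) (.lf 0))) (.nd (.nd (.lf 0xe11) (.lf 0)) (.nd (.lf 0x45) (.lf 0)))) (.nd (.nd (.nd (.lf 0x0) (.lf 0)) (.nd (.lf 0x597) (.lf 0))) (.nd (.nd (.lf 0x0) (.lf 0)) (.nd (.lf 0x11d9) (.lf 0)))))) (.nd (.nd (.nd (.nd (.nd (.lf 0x0) (.lf 0xce8)) (.nd (.lf 0x0) (.lf 0))) (.nd (.nd (.lf 0x1da5) (.lf 0)) (.nd (.lf 0x9b3) (.lf 0)))) (.nd (.nd (.nd (.lf 0x0) (.lf 0)) (.nd (.lf 0xa9d) (.lf 0))) (.nd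 (.nd (.lf 0x0) (.lf 0)) (.nd (.lf 0x8ba) (.lf 0))))) (.nd (.nd (.nd (.nd (.lf 0x0) (.lf 0xc28)) (.nd (.lf 0xf9) (.lf 0))) (.nd (.nd (.lf 0x0) (.lf 0)) (.nd (.lf 0x659) (.lf 0)))) (.nd (.nd (.nd (.lf 0x0) (.lf 0)) (.nd (.lf 0x478) (.lf 0))) (.nd (.nd (.lf 0x1556) (.lf 0)) (.nd (.lf 0x1311) (.lf 0)))))))
def witQ2_nbaabab : Tr := (.nd (.nd (.nd (.nd (.nd (.nd (.lf 0x0) (.lf 0x19c)) (.nd (.lf 0x0) (.lf 0))) (.nd (.nd (.lf 0xa14) (.lf 0)) (.nd (.lf 0xc73) (.lf 0)))) (.nd (.nd (.nd (.lf 0x0) (.lf 0)) (.nd (.lf 0x0) (.lf 0))) (.nd (.nd (.lf 0x1d09) (.lf 0)) (.nd (.lf 0x1b2c) (.lf 0))))) (.nd (.nd (.nd (.nd (.lf 0x0) (.lf 0x15c9)) (.nd (.lf 0x1e65) (.lf 0))) (.nd (.nd (.lf 0x1637) (.lf 0)) (.nd (.lf 0x1ddf) (.lf 0)))) (.nd (.nd (.nd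 (.lf 0x0) (.lf 0)) (.nd (.lf 0xfe7) (.lf 0))) (.nd (.nd (.lf 0x0) (.lf 0)) (.nd (.lf 0x656) (.lf 0)))))) (.nd (.nd (.nd (.nd (.nd (.lf 0x0) (.lf 0x179e)) (.nd (.lf 0x1920) (.lf 0))) (.nd (.nd (.lf 0x0) (.lf 0)) (.nd (.lf 0x88d) (.lf 0)))) (.nd (.nd (.nd (.lf 0x0) (.lf 0)) (.nd (.lf 0x0) (.lf 0))) (.nd (.nd (.lf 0x140d) (.lf 0)) (.nd (.lf 0xb96) (.lf 0))))) (.nd (.nd (.nd (.nd (.lf 0x0) (.lf 0x376)) (.nd (.lf 0x0) (.lf 0))) (.nd (.nd (.lf 0x172) (.lf 0)) (.nd (.lf 0x0) (.lf 0)))) (.nd (.nd (.nd (.lf 0x0) (.lf 0)) (.nd (.lf 0xb30) (.lf 0))) (.nd (.nd (.lf 0xca7) (.lf 0)) (.nd (.lf 0x189) (.lf 0)))))))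
def witQ2_nbaabba : Tr := (.nd (.nd (.nd (.nd (.nd (.nd (.lf 0x0) (.lf 0x19de)) (.nd (.lf 0x14a0) (.lf 0))) (.nd (.nd (.lf 0x0) (.lf 0)) (.nd (.lf 0x0) (.lf 0)))) (.nd (.nd (.nd (.lf 0x0) (.lf 0)) (.nd (.lf 0x1626) (.lf 0))) (.nd (.nd (.lf 0x1324) (.lf 0)) (.nd (.lf 0x9d6) (.lf 0))))) (.nd (.nd (.nd (.nd (.lf 0x1384) (.lf 0x495)) (.nd (.lf 0x17ae) (.lf 0))) (.nd (.nd (.lf 0x0) (.lf 0)) (.nd (.lf 0x13f6) (.lf 0)))) (.nd (.nd (.nd (.lf 0x0) (.lf 0)) (.nd (.lf 0x159c) (.lf 0))) (.nd (.nd (.lf 0xd17) (.lf 0)) (.nd (.lf 0x713) (.lf 0)))))) (.nd (.nd (.nd (.nd (.nd (.lf 0x5c5) (.lf 0x17f4)) (.nd (.lf 0xcdf) (.lf 0))) (.nd (.nd (.lf 0x6) (.lf 0)) (.nd (.lf 0x0) (.lf 0)))) (.nd (.nd (.nd (.lf 0x0) (.lf 0)) (.nd (.lf 0x1562) (.lf 0)))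 (.nd (.nd (.lf 0x0) (.lf 0)) (.nd (.lf 0xe4f) (.lf 0))))) (.nd (.nd (.nd (.nd (.lf 0x0) (.lf 0x11de)) (.nd (.lf 0x1146) (.lf 0))) (.nd (.nd (.lf 0xbe2) (.lf 0)) (.nd (.lf 0x4da) (.lf 0)))) (.nd (.nd (.nd (.lf 0x7e5) (.lf 0)) (.nd (.lf 0x75b) (.lf 0))) (.nd (.nd (.lf 0x1b2f) (.lf 0)) (.nd (.lf 0x1622) (.lf 0)))))))
def witQ2_nbaabbb : Tr := (.nd (.nd (.nd (.nd (.nd (.nd (.lf 0x0) (.lf 0xc77)) (.nd (.lf 0x1995) (.lf 0))) (.nd (.nd (.lf 0x0) (.lf 0)) (.nd (.lf 0x84e) (.lf 0)))) (.nd (.nd (.nd (.lf 0xb3f) (.lf 0)) (.nd (.lf 0x0) (.lf 0))) (.nd (.nd (.lf 0x1a30) (.lf 0)) (.nd (.lf 0x7a8) (.lf 0))))) (.nd (.nd (.nd (.nd (.lf 0x0) (.lf 0x1df8)) (.nd (.lf 0x53) (.lf 0))) (.nd (.nd (.lf 0x0) (.lf 0)) (.nd (.lf 0x35) (.lf 0)))) (.nd (.nd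 (.nd (.lf 0x0) (.lf 0)) (.nd (.lf 0xf81) (.lf 0))) (.nd (.nd (.lf 0x32a) (.lf 0)) (.nd (.lf 0x10f6) (.lf 0)))))) (.nd (.nd (.nd (.nd (.nd (.lf 0x0) (.lf 0x55a)) (.nd (.lf 0x1447) (.lf 0))) (.nd (.nd (.lf 0xc3) (.lf 0)) (.nd (.lf 0xaef) (.lf 0)))) (.nd (.nd (.nd (.lf 0x258) (.lf 0)) (.nd (.lf 0x0) (.lf 0))) (.nd (.nd (.lf 0xc7d) (.lf 0)) (.nd (.lf 0xfd8) (.lf 0))))) (.nd (.nd (.nd (.nd (.lf 0x0) (.lf 0x83b)) (.nd (.lf 0x0) (.lf 0))) (.nd (.nd (.lf 0x0) (.lf 0)) (.nd (.lf 0x28b) (.lf 0)))) (.nd (.nd (.nd (.lf 0xc) (.lf 0)) (.nd (.lf 0xb3d) (.lf 0))) (.nd (.nd (.lf 0x1c9f) (.lf 0)) (.nd (.lf 0xa9e) (.lf 0)))))))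
def witQ2_nbabaaa : Tr := (.nd (.nd (.nd (.nd (.nd (.nd (.lf 0x0) (.lf 0x1a0b)) (.nd (.lf 0x0) (.lf 0))) (.nd (.nd (.lf 0x0) (.lf 0)) (.nd (.lf 0x1767) (.lf 0)))) (.nd (.nd (.nd (.lf 0x0) (.lf 0)) (.nd (.lf 0x288) (.lf 0))) (.nd (.nd (.lf 0xc98) (.lf 0)) (.nd (.lf 0x2c7) (.lf 0))))) (.nd (.nd (.nd (.nd (.lf 0x0) (.lf 0x1db2)) (.nd (.lf 0x10e5) (.lf 0))) (.nd (.nd (.lf 0x0) (.lf 0)) (.nd (.lf 0x1395) (.lf 0)))) (.nd (.nd (.nd (.lf 0x0) (.lf 0)) (.nd (.lf 0x21a) (.lf 0))) (.nd (.nd (.lf 0x1357) (.lf 0)) (.nd (.lf 0x12dd) (.lf 0)))))) (.nd (.nd (.nd (.nd (.nd (.lf 0x0) (.lf 0xf15)) (.nd (.lf 0x13c1) (.lf 0))) (.nd (.nd (.lf 0x1c57) (.lf 0)) (.nd (.lf 0x121c) (.lf 0)))) (.nd (.nd (.nd (.lf 0x7f0) (.lf 0)) (.nd (.lf 0xe6d) (.lf 0)))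 (.nd (.nd (.lf 0x1683) (.lf 0)) (.nd (.lf 0x874) (.lf 0))))) (.nd (.nd (.nd (.nd (.lf 0x0) (.lf 0x1fa)) (.nd (.lf 0x178d) (.lf 0))) (.nd (.nd (.lf 0x5fd) (.lf 0)) (.nd (.lf 0x9bd) (.lf 0)))) (.nd (.nd (.nd (.lf 0x397) (.lf 0)) (.nd (.lf 0x1bc1) (.lf 0))) (.nd (.nd (.lf 0xf9c) (.lf 0)) (.nd (.lf 0xe8b) (.lf 0)))))))
def witQ2_nbabaab : Tr := (.nd (.nd (.nd (.nd (.nd (.nd (.lf 0x0) (.lf 0x1e2b)) (.nd (.lf 0xce0) (.lf 0))) (.nd (.nd (.lf 0x0) (.lf 0)) (.nd (.lf 0x111f) (.lf 0)))) (.nd (.nd (.nd (.lf 0x0) (.lf 0)) (.nd (.lf 0x1427) (.lf 0))) (.nd (.nd (.lf 0xf9b) (.lf 0)) (.nd (.lf 0x0) (.lf 0))))) (.nd (.nd (.nd (.nd (.lf 0x0) (.lf 0x213)) (.nd (.lf 0x91e) (.lf 0))) (.nd (.nd (.lf 0xa9a) (.lf 0)) (.nd (.lf 0xdd3) (.lf 0)))) (.nd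 (.nd (.nd (.lf 0x0) (.lf 0)) (.nd (.lf 0x15a4) (.lf 0))) (.nd (.nd (.lf 0x1ba) (.lf 0)) (.nd (.lf 0x1e6f) (.lf 0)))))) (.nd (.nd (.nd (.nd (.nd (.lf 0x0) (.lf 0x1a83)) (.nd (.lf 0xb3b) (.lf 0))) (.nd (.nd (.lf 0x2ff) (.lf 0)) (.nd (.lf 0x87b) (.lf 0)))) (.nd (.nd (.nd (.lf 0x0) (.lf 0)) (.nd (.lf 0x971) (.lf 0))) (.nd (.nd (.lf 0x0) (.lf 0)) (.nd (.lf 0xf40) (.lf 0))))) (.nd (.nd (.nd (.nd (.lf 0x1387) (.lf 0x1685)) (.nd (.lf 0x1767) (.lf 0))) (.nd (.nd (.lf 0xbc8) (.lf 0)) (.nd (.lf 0x1bef) (.lf 0)))) (.nd (.nd (.nd (.lf 0x52c) (.lf 0)) (.nd (.lf 0x639) (.lf 0))) (.nd (.nd (.lf 0x16f1) (.lf 0)) (.nd (.lf 0x147a) (.lf 0)))))))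
def witQ2_nbababa : Tr := (.nd (.nd (.nd (.nd (.nd (.nd (.lf 0x0) (.lf 0x1616)) (.nd (.lf 0x0) (.lf 0))) (.nd (.nd (.lf 0x0) (.lf 0)) (.nd (.lf 0x85d) (.lf 0)))) (.nd (.nd (.nd (.lf 0x0) (.lf 0)) (.nd (.lf 0x10e0) (.lf 0))) (.nd (.nd (.lf 0xf87) (.lf 0)) (.nd (.lf 0x1a80) (.lf 0))))) (.nd (.nd (.nd (.nd (.lf 0x0) (.lf 0x812)) (.nd (.lf 0xd57) (.lf 0))) (.nd (.nd (.lf 0x0) (.lf 0)) (.nd (.lf 0xba2) (.lf 0)))) (.nd (.nd (.nd (.lf 0x0) (.lf 0)) (.nd (.lf 0xac4) (.lf 0))) (.nd (.nd (.lf 0x0) (.lf 0)) (.nd (.lf 0x124f) (.lf 0)))))) (.nd (.nd (.nd (.nd (.nd (.lf 0x0) (.lf 0xe72)) (.nd (.lf 0x1394) (.lf 0))) (.nd (.nd (.lf 0x0) (.lf 0)) (.nd (.lf 0x1c76) (.lf 0)))) (.nd (.nd (.nd (.lf 0x0) (.lf 0)) (.nd (.lf 0xff5) (.lf 0))) (.nd (.nd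 (.lf 0x0) (.lf 0)) (.nd (.lf 0x1c60) (.lf 0))))) (.nd (.nd (.nd (.nd (.lf 0x0) (.lf 0x10cd)) (.nd (.lf 0x8c9) (.lf 0))) (.nd (.nd (.lf 0x0) (.lf 0)) (.nd (.lf 0x13a9) (.lf 0)))) (.nd (.nd (.nd (.lf 0x1613) (.lf 0)) (.nd (.lf 0x1dc0) (.lf 0))) (.nd (.nd (.lf 0xafe) (.lf 0)) (.nd (.lf 0xc75) (.lf 0)))))))
def witQ2_nbababb : Tr := (.nd (.nd (.nd (.nd (.nd (.nd (.lf 0x0) (.lf 0x1c1e)) (.nd (.lf 0x31a) (.lf 0))) (.nd (.nd (.lf 0x161) (.lf 0)) (.nd (.lf 0x693) (.lf 0)))) (.nd (.nd (.nd (.lf 0x0) (.lf 0)) (.nd (.lf 0xbcb) (.lf 0))) (.nd (.nd (.lf 0x725) (.lf 0)) (.nd (.lf 0xae0) (.lf 0))))) (.nd (.nd (.nd (.nd (.lf 0x0) (.lf 0x173)) (.nd (.lf 0xaf5) (.lf 0))) (.nd (.nd (.lf 0x0) (.lf 0)) (.nd (.lf 0x15a1) (.lf 0)))) (.nd (.nd (.nd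 (.lf 0x0) (.lf 0)) (.nd (.lf 0x1cb8) (.lf 0))) (.nd (.nd (.lf 0x7a6) (.lf 0)) (.nd (.lf 0x15b5) (.lf 0)))))) (.nd (.nd (.nd (.nd (.nd (.lf 0x0) (.lf 0x1c9b)) (.nd (.lf 0xa8a) (.lf 0))) (.nd (.nd (.lf 0x0) (.lf 0)) (.nd (.lf 0x187f) (.lf 0)))) (.nd (.nd (.nd (.lf 0x2b9) (.lf 0)) (.nd (.lf 0xa86) (.lf 0))) (.nd (.nd (.lf 0x1742) (.lf 0)) (.nd (.lf 0x120f) (.lf 0))))) (.nd (.nd (.nd (.nd (.lf 0x0) (.lf 0x443)) (.nd (.lf 0x0) (.lf 0))) (.nd (.nd (.lf 0x0) (.lf 0)) (.nd (.lf 0xf9) (.lf 0)))) (.nd (.nd (.nd (.lf 0xc28) (.lf 0)) (.nd (.lf 0x1d5b) (.lf 0))) (.nd (.nd (.lf 0x608) (.lf 0)) (.nd (.lf 0x765) (.lf 0)))))))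
def witQ2_nbabbaa : Tr := (.nd (.nd (.nd (.nd (.nd (.nd (.lf 0x0) (.lf 0xe8)) (.nd (.lf 0xf0d) (.lf 0))) (.nd (.nd (.lf 0x0) (.lf 0)) (.nd (.lf 0x1732) (.lf 0)))) (.nd (.nd (.nd (.lf 0x0) (.lf 0)) (.nd (.lf 0x4f6) (.lf 0))) (.nd (.nd (.lf 0x0) (.lf 0)) (.nd (.lf 0x4a8) (.lf 0))))) (.nd (.nd (.nd (.nd (.lf 0x903) (.lf 0x1952)) (.nd (.lf 0x13c0) (.lf 0))) (.nd (.nd (.lf 0x0) (.lf 0)) (.nd (.lf 0x1386) (.lf 0)))) (.nd (.nd (.nd (.lf 0x0) (.lf 0)) (.nd (.lf 0x4e3) (.lf 0))) (.nd (.nd (.lf 0x5c7) (.lf 0)) (.nd (.lf 0x726) (.lf 0)))))) (.nd (.nd (.nd (.nd (.nd (.lf 0xcdc) (.lf 0x18b4)) (.nd (.lf 0x0) (.lf 0))) (.nd (.nd (.lf 0x0) (.lf 0)) (.nd (.lf 0x60c) (.lf 0)))) (.nd (.nd (.nd (.lf 0xd51) (.lf 0)) (.nd (.lf 0x382) (.lf 0))) (.nd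 (.nd (.lf 0xeb8) (.lf 0)) (.nd (.lf 0x147f) (.lf 0))))) (.nd (.nd (.nd (.nd (.lf 0x0) (.lf 0xc7b)) (.nd (.lf 0x1381) (.lf 0))) (.nd (.nd (.lf 0x0) (.lf 0)) (.nd (.lf 0x6d2) (.lf 0)))) (.nd (.nd (.nd (.lf 0x0) (.lf 0)) (.nd (.lf 0xede) (.lf 0))) (.nd (.nd (.lf 0xc6a) (.lf 0)) (.nd (.lf 0xa42) (.lf 0)))))))
def witQ2_nbabbab : Tr := (.nd (.nd (.nd (.nd (.nd (.nd (.lf 0x0) (.lf 0x1884)) (.nd (.lf 0x917) (.lf 0))) (.nd (.nd (.lf 0x1a48) (.lf 0)) (.nd (.lf 0x5aa) (.lf 0)))) (.nd (.nd (.nd (.lf 0x0) (.lf 0)) (.nd (.lf 0x0) (.lf 0))) (.nd (.nd (.lf 0x0) (.lf 0)) (.nd (.lf 0x119f) (.lf 0))))) (.nd (.nd (.nd (.nd (.lf 0x0) (.lf 0xdfe)) (.nd (.lf 0xfc8) (.lf 0))) (.nd (.nd (.lf 0x0) (.lf 0)) (.nd (.lf 0x566) (.lf 0)))) (.nd (.nd (.nd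 (.lf 0x12f9) (.lf 0)) (.nd (.lf 0x8dc) (.lf 0))) (.nd (.nd (.lf 0xb09) (.lf 0)) (.nd (.lf 0x17c0) (.lf 0)))))) (.nd (.nd (.nd (.nd (.nd (.lf 0x0) (.lf 0x994)) (.nd (.lf 0x0) (.lf 0))) (.nd (.nd (.lf 0x0) (.lf 0)) (.nd (.lf 0x164f) (.lf 0)))) (.nd (.nd (.nd (.lf 0x31b) (.lf 0)) (.nd (.lf 0x30b) (.lf 0))) (.nd (.nd (.lf 0x9e9) (.lf 0)) (.nd (.lf 0x1ca9) (.lf 0))))) (.nd (.nd (.nd (.nd (.lf 0x0) (.lf 0xd56)) (.nd (.lf 0x0) (.lf 0))) (.nd (.nd (.lf 0x0) (.lf 0)) (.nd (.lf 0x18c4) (.lf 0)))) (.nd (.nd (.nd (.lf 0x0) (.lf 0)) (.nd (.lf 0xc4a) (.lf 0))) (.nd (.nd (.lf 0x0) (.lf 0)) (.nd (.lf 0x1148) (.lf 0)))))))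
def witQ2_nbabbba : Tr := (.nd (.nd (.nd (.nd (.nd (.nd (.lf 0x0) (.lf 0xdb3)) (.nd (.lf 0x740) (.lf 0))) (.nd (.nd (.lf 0x0) (.lf 0)) (.nd (.lf 0x1030) (.lf 0)))) (.nd (.nd (.nd (.lf 0x4dd) (.lf 0)) (.nd (.lf 0x4b) (.lf 0))) (.nd (.nd (.lf 0x1ceb) (.lf 0)) (.nd (.lf 0x19c7) (.lf 0))))) (.nd (.nd (.nd (.nd (.lf 0x0) (.lf 0xbf)) (.nd (.lf 0x1f9) (.lf 0))) (.nd (.nd (.lf 0x1923) (.lf 0)) (.nd (.lf 0x0) (.lf 0)))) (.nd (.nd (.nd (.lf 0x16fe) (.lf 0)) (.nd (.lf 0x153a) (.lf 0))) (.nd (.nd (.lf 0xb68) (.lf 0)) (.nd (.lf 0x1b55) (.lf 0)))))) (.nd (.nd (.nd (.nd (.nd (.lf 0x0) (.lf 0xb51)) (.nd (.lf 0x632) (.lf 0))) (.nd (.nd (.lf 0x0) (.lf 0)) (.nd (.lf 0x186a) (.lf 0)))) (.nd (.nd (.nd (.lf 0x0) (.lf 0)) (.nd (.lf 0x22a) (.lf 0)))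 (.nd (.nd (.lf 0x0) (.lf 0)) (.nd (.lf 0x1ef) (.lf 0))))) (.nd (.nd (.nd (.nd (.lf 0x0) (.lf 0x16be)) (.nd (.lf 0x287) (.lf 0))) (.nd (.nd (.lf 0x171e) (.lf 0)) (.nd (.lf 0x17fc) (.lf 0)))) (.nd (.nd (.nd (.lf 0x72c) (.lf 0)) (.nd (.lf 0x837) (.lf 0))) (.nd (.nd (.lf 0x119a) (.lf 0)) (.nd (.lf 0xe8d) (.lf 0)))))))
def witQ2_nbabbbb : Tr := (.nd (.nd (.nd (.nd (.nd (.nd (.lf 0x0) (.lf 0xd0e)) (.nd (.lf 0x463) (.lf 0))) (.nd (.nd (.lf 0x0) (.lf 0)) (.nd (.lf 0x247) (.lf 0)))) (.nd (.nd (.nd (.lf 0x0) (.lf 0)) (.nd (.lf 0x8a4) (.lf 0))) (.nd (.nd (.lf 0x0) (.lf 0)) (.nd (.lf 0x6d8) (.lf 0))))) (.nd (.nd (.nd (.nd (.lf 0x0) (.lf 0x13cd)) (.nd (.lf 0x60c) (.lf 0))) (.nd (.nd (.lf 0x1c0c) (.lf 0)) (.nd (.lf 0x1) (.lf 0)))) (.nd (.nd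 (.nd (.lf 0x0) (.lf 0)) (.nd (.lf 0x791) (.lf 0))) (.nd (.nd (.lf 0x1206) (.lf 0)) (.nd (.lf 0xa44) (.lf 0)))))) (.nd (.nd (.nd (.nd (.nd (.lf 0x40) (.lf 0x1ab8)) (.nd (.lf 0x3f9) (.lf 0))) (.nd (.nd (.lf 0x0) (.lf 0)) (.nd (.lf 0x2e5) (.lf 0)))) (.nd (.nd (.nd (.lf 0x1610) (.lf 0)) (.nd (.lf 0xbd) (.lf 0))) (.nd (.nd (.lf 0x0) (.lf 0)) (.nd (.lf 0x4c4) (.lf 0))))) (.nd (.nd (.nd (.nd (.lf 0xacc) (.lf 0x1541)) (.nd (.lf 0x1c32) (.lf 0))) (.nd (.nd (.lf 0x16fe) (.lf 0)) (.nd (.lf 0xeff) (.lf 0)))) (.nd (.nd (.nd (.lf 0x0) (.lf 0)) (.nd (.lf 0x15e6) (.lf 0))) (.nd (.nd (.lf 0x1b43) (.lf 0)) (.nd (.lf 0x17cf) (.lf 0)))))))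
def witQ2_nbbaaaa : Tr := (.nd (.nd (.nd (.nd (.nd (.nd (.lf 0x0) (.lf 0xae9)) (.nd (.lf 0x0) (.lf 0))) (.nd (.nd (.lf 0x0) (.lf 0)) (.nd (.lf 0x1764) (.lf 0)))) (.nd (.nd (.nd (.lf 0x0) (.lf 0)) (.nd (.lf 0x1cb6) (.lf 0))) (.nd (.nd (.lf 0x0) (.lf 0)) (.nd (.lf 0x66b) (.lf 0))))) (.nd (.nd (.nd (.nd (.lf 0x0) (.lf 0x195d)) (.nd (.lf 0x14b8) (.lf 0))) (.nd (.nd (.lf 0x0) (.lf 0)) (.nd (.lf 0x1484) (.lf 0)))) (.nd (.nd (.nd (.lf 0x0) (.lf 0)) (.nd (.lf 0x130d) (.lf 0))) (.nd (.nd (.lf 0x0) (.lf 0)) (.nd (.lf 0x1176) (.lf 0)))))) (.nd (.nd (.nd (.nd (.nd (.lf 0x0) (.lf 0x497)) (.nd (.lf 0xd9a) (.lf 0))) (.nd (.nd (.lf 0x0) (.lf 0)) (.nd (.lf 0x1df8) (.lf 0)))) (.nd (.nd (.nd (.lf 0x0) (.lf 0)) (.nd (.lf 0x12c6) (.lf 0))) (.nd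 (.nd (.lf 0x1b5b) (.lf 0)) (.nd (.lf 0xe5c) (.lf 0))))) (.nd (.nd (.nd (.nd (.lf 0x0) (.lf 0x14ce)) (.nd (.lf 0x2c5) (.lf 0))) (.nd (.nd (.lf 0x0) (.lf 0)) (.nd (.lf 0x0) (.lf 0)))) (.nd (.nd (.nd (.lf 0x0) (.lf 0)) (.nd (.lf 0x0) (.lf 0))) (.nd (.nd (.lf 0x0) (.lf 0)) (.nd (.lf 0x907) (.lf 0)))))))
def witQ2_nbbaaab : Tr := (.nd (.nd (.nd (.nd (.nd (.nd (.lf 0x0) (.lf 0x13dc)) (.nd (.lf 0x3f4) (.lf 0))) (.nd (.nd (.lf 0x0) (.lf 0)) (.nd (.lf 0x383) (.lf 0)))) (.nd (.nd (.nd (.lf 0x605) (.lf 0)) (.nd (.lf 0x93e) (.lf 0))) (.nd (.nd (.lf 0x86d) (.lf 0)) (.nd (.lf 0xab4) (.lf 0))))) (.nd (.nd (.nd (.nd (.lf 0x0) (.lf 0xadb)) (.nd (.lf 0x0) (.lf 0))) (.nd (.nd (.lf 0x179c) (.lf 0)) (.nd (.lf 0xae3) (.lf 0)))) (.nd (.nd (.nd (.lf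 0x657) (.lf 0)) (.nd (.lf 0x18e4) (.lf 0))) (.nd (.nd (.lf 0x0) (.lf 0)) (.nd (.lf 0x1123) (.lf 0)))))) (.nd (.nd (.nd (.nd (.nd (.lf 0x0) (.lf 0x251)) (.nd (.lf 0x11da) (.lf 0))) (.nd (.nd (.lf 0x0) (.lf 0)) (.nd (.lf 0x1d21) (.lf 0)))) (.nd (.nd (.nd (.lf 0x0) (.lf 0)) (.nd (.lf 0x1d22) (.lf 0))) (.nd (.nd (.lf 0x0) (.lf 0)) (.nd (.lf 0xf91) (.lf 0))))) (.nd (.nd (.nd (.nd (.lf 0x0) (.lf 0xcb3)) (.nd (.lf 0x1dd9) (.lf 0))) (.nd (.nd (.lf 0x0) (.lf 0)) (.nd (.lf 0x18fc) (.lf 0)))) (.nd (.nd (.nd (.lf 0x0) (.lf 0)) (.nd (.lf 0x499) (.lf 0))) (.nd (.nd (.lf 0x14a7) (.lf 0)) (.nd (.lf 0x15c6) (.lf 0)))))))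
def witQ2_nbbaaba : Tr := (.nd (.nd (.nd (.nd (.nd (.nd (.lf 0xcdb) (.lf 0x1cac)) (.nd (.lf 0x0) (.lf 0))) (.nd (.nd (.lf 0x0) (.lf 0)) (.nd (.lf 0x0) (.lf 0)))) (.nd (.nd (.nd (.lf 0x0) (.lf 0)) (.nd (.lf 0x0) (.lf 0))) (.nd (.nd (.lf 0x0) (.lf 0)) (.nd (.lf 0x0) (.lf 0))))) (.nd (.nd (.nd (.nd (.lf 0x0) (.lf 0x12c3)) (.nd (.lf 0x0) (.lf 0))) (.nd (.nd (.lf 0x0) (.lf 0)) (.nd (.lf 0x0) (.lf 0)))) (.nd (.nd (.nd (.lf 0xc9d) (.lf 0)) (.nd (.lf 0xe44) (.lf 0))) (.nd (.nd (.lf 0xac7) (.lf 0)) (.nd (.lf 0x17fb) (.lf 0)))))) (.nd (.nd (.nd (.nd (.nd (.lf 0x0) (.lf 0x119b)) (.nd (.lf 0x11ba) (.lf 0))) (.nd (.nd (.lf 0x0) (.lf 0)) (.nd (.lf 0x1772) (.lf 0)))) (.nd (.nd (.nd (.lf 0xe06) (.lf 0)) (.nd (.lf 0x419) (.lf 0))) (.nd (.nd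 (.lf 0x0) (.lf 0)) (.nd (.lf 0x0) (.lf 0))))) (.nd (.nd (.nd (.nd (.lf 0xb24) (.lf 0x603)) (.nd (.lf 0x1b90) (.lf 0))) (.nd (.nd (.lf 0x0) (.lf 0)) (.nd (.lf 0x37d) (.lf 0)))) (.nd (.nd (.nd (.lf 0x0) (.lf 0)) (.nd (.lf 0x0) (.lf 0))) (.nd (.nd (.lf 0x245) (.lf 0)) (.nd (.lf 0x140a) (.lf 0)))))))
def witQ2_nbbaabb : Tr := (.nd (.nd (.nd (.nd (.nd (.nd (.lf 0x0) (.lf 0x3c1)) (.nd (.lf 0x1343) (.lf 0))) (.nd (.nd (.lf 0x0) (.lf 0)) (.nd (.lf 0x0) (.lf 0)))) (.nd (.nd (.nd (.lf 0x0) (.lf 0)) (.nd (.lf 0xa24) (.lf 0))) (.nd (.nd (.lf 0xb44) (.lf 0)) (.nd (.lf 0x1425) (.lf 0))))) (.nd (.nd (.nd (.nd (.lf 0x0) (.lf 0x1c8a)) (.nd (.lf 0xfbb) (.lf 0))) (.nd (.nd (.lf 0x7db) (.lf 0)) (.nd (.lf 0xb00) (.lf 0)))) (.nd (.nd (.nd (.lf 0x0)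 (.lf 0)) (.nd (.lf 0x3a5) (.lf 0))) (.nd (.nd (.lf 0x826) (.lf 0)) (.nd (.lf 0xd2a) (.lf 0)))))) (.nd (.nd (.nd (.nd (.nd (.lf 0x0) (.lf 0x12ed)) (.nd (.lf 0xdca) (.lf 0))) (.nd (.nd (.lf 0x0) (.lf 0)) (.nd (.lf 0x1387) (.lf 0)))) (.nd (.nd (.nd (.lf 0x213) (.lf 0)) (.nd (.lf 0x149d) (.lf 0))) (.nd (.nd (.lf 0x0) (.lf 0)) (.nd (.lf 0x1cce) (.lf 0))))) (.nd (.nd (.nd (.nd (.lf 0xb34) (.lf 0x15fd)) (.nd (.lf 0x0) (.lf 0))) (.nd (.nd (.lf 0x0) (.lf 0)) (.nd (.lf 0x603) (.lf 0)))) (.nd (.nd (.nd (.lf 0x0) (.lf 0)) (.nd (.lf 0x1be8) (.lf 0))) (.nd (.nd (.lf 0x0) (.lf 0)) (.nd (.lf 0x156e) (.lf 0)))))))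
def witQ2_nbbabaa : Tr := (.nd (.nd (.nd (.nd (.nd (.nd (.lf 0x0) (.lf 0x14f9)) (.nd (.lf 0x1572) (.lf 0))) (.nd (.nd (.lf 0x0) (.lf 0)) (.nd (.lf 0x19ce) (.lf 0)))) (.nd (.nd (.nd (.lf 0x0) (.lf 0)) (.nd (.lf 0x785) (.lf 0))) (.nd (.nd (.lf 0x0) (.lf 0)) (.nd (.lf 0x2fb) (.lf 0))))) (.nd (.nd (.nd (.nd (.lf 0x0) (.lf 0x62b)) (.nd (.lf 0x0) (.lf 0))) (.nd (.nd (.lf 0x1463) (.lf 0)) (.nd (.lf 0x476) (.lf 0)))) (.nd (.nd (.nd (.lf 0x0) (.lf 0)) (.nd (.lf 0x1852) (.lf 0))) (.nd (.nd (.lf 0x0) (.lf 0)) (.nd (.lf 0xbb) (.lf 0)))))) (.nd (.nd (.nd (.nd (.nd (.lf 0x0) (.lf 0x1005)) (.nd (.lf 0x0) (.lf 0))) (.nd (.nd (.lf 0x679) (.lf 0)) (.nd (.lf 0x1b0d) (.lf 0)))) (.nd (.nd (.nd (.lf 0x0) (.lf 0)) (.nd (.lf 0x12b6) (.lf 0))) (.nd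 (.nd (.lf 0x12dd) (.lf 0)) (.nd (.lf 0x8fe) (.lf 0))))) (.nd (.nd (.nd (.nd (.lf 0x101f) (.lf 0x1d1b)) (.nd (.lf 0x15a5) (.lf 0))) (.nd (.nd (.lf 0xfa) (.lf 0)) (.nd (.lf 0x1885) (.lf 0)))) (.nd (.nd (.nd (.lf 0x1e0d) (.lf 0)) (.nd (.lf 0x0) (.lf 0))) (.nd (.nd (.lf 0x10a6) (.lf 0)) (.nd (.lf 0x9e2) (.lf 0)))))))
def witQ2_nbbabab : Tr := (.nd (.nd (.nd (.nd (.nd (.nd (.lf 0x0) (.lf 0x67d)) (.nd (.lf 0x15f0) (.lf 0))) (.nd (.nd (.lf 0xb6e) (.lf 0)) (.nd (.lf 0xf06) (.lf 0)))) (.nd (.nd (.nd (.lf 0x0) (.lf 0)) (.nd (.lf 0x19dc) (.lf 0))) (.nd (.nd (.lf 0x138c) (.lf 0)) (.nd (.lf 0xc7c) (.lf 0))))) (.nd (.nd (.nd (.nd (.lf 0x0) (.lf 0xec9)) (.nd (.lf 0x265) (.lf 0))) (.nd (.nd (.lf 0x0) (.lf 0)) (.nd (.lf 0xfbe) (.lf 0)))) (.nd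 (.nd (.nd (.lf 0x0) (.lf 0)) (.nd (.lf 0x1b5c) (.lf 0))) (.nd (.nd (.lf 0x0) (.lf 0)) (.nd (.lf 0x1e09) (.lf 0)))))) (.nd (.nd (.nd (.nd (.nd (.lf 0x0) (.lf 0x360)) (.nd (.lf 0x68d) (.lf 0))) (.nd (.nd (.lf 0x80a) (.lf 0)) (.nd (.lf 0x1e77) (.lf 0)))) (.nd (.nd (.nd (.lf 0x1433) (.lf 0)) (.nd (.lf 0x2fc) (.lf 0))) (.nd (.nd (.lf 0x1852) (.lf 0)) (.nd (.lf 0xd86) (.lf 0))))) (.nd (.nd (.nd (.nd (.lf 0x0) (.lf 0x12b)) (.nd (.lf 0x7ec) (.lf 0))) (.nd (.nd (.lf 0x1739) (.lf 0)) (.nd (.lf 0x1a99) (.lf 0)))) (.nd (.nd (.nd (.lf 0x1340) (.lf 0)) (.nd (.lf 0xd42) (.lf 0))) (.nd (.nd (.lf 0xef2) (.lf 0)) (.nd (.lf 0xfbf) (.lf 0)))))))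
def witQ2_nbbabba : Tr := (.nd (.nd (.nd (.nd (.nd (.nd (.lf 0x0) (.lf 0x1554)) (.nd (.lf 0x0) (.lf 0))) (.nd (.nd (.lf 0x170f) (.lf 0)) (.nd (.lf 0x1a1) (.lf 0)))) (.nd (.nd (.nd (.lf 0x0) (.lf 0)) (.nd (.lf 0x12ad) (.lf 0))) (.nd (.nd (.lf 0x29) (.lf 0)) (.nd (.lf 0x31b) (.lf 0))))) (.nd (.nd (.nd (.nd (.lf 0x0) (.lf 0xa88)) (.nd (.lf 0x160d) (.lf 0))) (.nd (.nd (.lf 0x10e6) (.lf 0)) (.nd (.lf 0x1914) (.lf 0)))) (.nd (.nd (.nd (.lf 0x0) (.lf 0)) (.nd (.lf 0x5c7) (.lf 0))) (.nd (.nd (.lf 0x9fa) (.lf 0)) (.nd (.lf 0x1250) (.lf 0)))))) (.nd (.nd (.nd (.nd (.nd (.lf 0x0) (.lf 0x15aa)) (.nd (.lf 0x814) (.lf 0))) (.nd (.nd (.lf 0x0) (.lf 0)) (.nd (.lf 0x66) (.lf 0)))) (.nd (.nd (.nd (.lf 0x1952) (.lf 0)) (.nd (.lf 0x1528) (.lf 0)))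 (.nd (.nd (.lf 0xd56) (.lf 0)) (.nd (.lf 0xcad) (.lf 0))))) (.nd (.nd (.nd (.nd (.lf 0x1d27) (.lf 0x1e6d)) (.nd (.lf 0x1356) (.lf 0))) (.nd (.nd (.lf 0x2fe) (.lf 0)) (.nd (.lf 0x175f) (.lf 0)))) (.nd (.nd (.nd (.lf 0x0) (.lf 0)) (.nd (.lf 0x84f) (.lf 0))) (.nd (.nd (.lf 0x0) (.lf 0)) (.nd (.lf 0x8c6) (.lf 0)))))))
def witQ2_nbbabbb : Tr := (.nd (.nd (.nd (.nd (.nd (.nd (.lf 0x0) (.lf 0xf25)) (.nd (.lf 0x0) (.lf 0))) (.nd (.nd (.lf 0x176e) (.lf 0)) (.nd (.lf 0x0) (.lf 0)))) (.nd (.nd (.nd (.lf 0x1389) (.lf 0)) (.nd (.lf 0x108f) (.lf 0))) (.nd (.nd (.lf 0x0) (.lf 0)) (.nd (.lf 0x2f7) (.lf 0))))) (.nd (.nd (.nd (.nd (.lf 0x0) (.lf 0x11fe)) (.nd (.lf 0x198e) (.lf 0))) (.nd (.nd (.lf 0x1f2) (.lf 0)) (.nd (.lf 0xcbc) (.lf 0)))) (.nd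 (.nd (.nd (.lf 0x0) (.lf 0)) (.nd (.lf 0x3c6) (.lf 0))) (.nd (.nd (.lf 0x1202) (.lf 0)) (.nd (.lf 0xd8) (.lf 0)))))) (.nd (.nd (.nd (.nd (.nd (.lf 0x0) (.lf 0x17fe)) (.nd (.lf 0x502) (.lf 0))) (.nd (.nd (.lf 0x0) (.lf 0)) (.nd (.lf 0x1df0) (.lf 0)))) (.nd (.nd (.nd (.lf 0x0) (.lf 0)) (.nd (.lf 0x1897) (.lf 0))) (.nd (.nd (.lf 0x0) (.lf 0)) (.nd (.lf 0xd4a) (.lf 0))))) (.nd (.nd (.nd (.nd (.lf 0x0) (.lf 0x1d67)) (.nd (.lf 0xfcf) (.lf 0))) (.nd (.nd (.lf 0x0) (.lf 0)) (.nd (.lf 0xe1c) (.lf 0)))) (.nd (.nd (.nd (.lf 0x0) (.lf 0)) (.nd (.lf 0x1731) (.lf 0))) (.nd (.nd (.lf 0x3c6) (.lf 0)) (.nd (.lf 0x897) (.lf 0)))))))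
def witQ2_nbbbaaa : Tr := (.nd (.nd (.nd (.nd (.nd (.nd (.lf 0x0) (.lf 0x628)) (.nd (.lf 0x9bd) (.lf 0))) (.nd (.nd (.lf 0x0) (.lf 0)) (.nd (.lf 0x8ba) (.lf 0)))) (.nd (.nd (.nd (.lf 0x0) (.lf 0)) (.nd (.lf 0x4a) (.lf 0))) (.nd (.nd (.lf 0x1b7b) (.lf 0)) (.nd (.lf 0x1c2f) (.lf 0))))) (.nd (.nd (.nd (.nd (.lf 0x1594) (.lf 0x1bbd)) (.nd (.lf 0x1ccc) (.lf 0))) (.nd (.nd (.lf 0x1ba6) (.lf 0)) (.nd (.lf 0xae5) (.lf 0)))) (.nd (.nd (.nd (.lf 0x0) (.lf 0)) (.nd (.lf 0x1328) (.lf 0))) (.nd (.nd (.lf 0xd32) (.lf 0)) (.nd (.lf 0x1cbc) (.lf 0)))))) (.nd (.nd (.nd (.nd (.nd (.lf 0x0) (.lf 0xd89)) (.nd (.lf 0xaff) (.lf 0))) (.nd (.nd (.lf 0x126c) (.lf 0)) (.nd (.lf 0x1152) (.lf 0)))) (.nd (.nd (.nd (.lf 0x0) (.lf 0)) (.nd (.lf 0x494) (.lf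 0))) (.nd (.nd (.lf 0x40d) (.lf 0)) (.nd (.lf 0xd4b) (.lf 0))))) (.nd (.nd (.nd (.nd (.lf 0x0) (.lf 0x2a)) (.nd (.lf 0x0) (.lf 0))) (.nd (.nd (.lf 0x0) (.lf 0)) (.nd (.lf 0xf75) (.lf 0)))) (.nd (.nd (.nd (.lf 0x0) (.lf 0)) (.nd (.lf 0x49) (.lf 0))) (.nd (.nd (.lf 0x688) (.lf 0)) (.nd (.lf 0x868) (.lf 0)))))))
def witQ2_nbbbaab : Tr := (.nd (.nd (.nd (.nd (.nd (.nd (.lf 0x0) (.lf 0xcdd)) (.nd (.lf 0x0) (.lf 0))) (.nd (.nd (.lf 0xb46) (.lf 0)) (.nd (.lf 0x238) (.lf 0)))) (.nd (.nd (.nd (.lf 0x0) (.lf 0)) (.nd (.lf 0x0) (.lf 0))) (.nd (.nd (.lf 0x0) (.lf 0)) (.nd (.lf 0xd23) (.lf 0))))) (.nd (.nd (.nd (.nd (.lf 0x0) (.lf 0x92f)) (.nd (.lf 0x4fc) (.lf 0))) (.nd (.nd (.lf 0x100d) (.lf 0)) (.nd (.lf 0x78c) (.lf 0)))) (.nd (.nd (.nd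 (.lf 0x0) (.lf 0)) (.nd (.lf 0xb29) (.lf 0))) (.nd (.nd (.lf 0x1577) (.lf 0)) (.nd (.lf 0xcd5) (.lf 0)))))) (.nd (.nd (.nd (.nd (.nd (.lf 0x0) (.lf 0xd7)) (.nd (.lf 0x1288) (.lf 0))) (.nd (.nd (.lf 0x45a) (.lf 0)) (.nd (.lf 0xe67) (.lf 0)))) (.nd (.nd (.nd (.lf 0x0) (.lf 0)) (.nd (.lf 0x9be) (.lf 0))) (.nd (.nd (.lf 0x1989) (.lf 0)) (.nd (.lf 0x1c05) (.lf 0))))) (.nd (.nd (.nd (.nd (.lf 0x0) (.lf 0x1b0d)) (.nd (.lf 0x0) (.lf 0))) (.nd (.nd (.lf 0x0) (.lf 0)) (.nd (.lf 0x1d74) (.lf 0)))) (.nd (.nd (.nd (.lf 0x0) (.lf 0)) (.nd (.lf 0x0) (.lf 0))) (.nd (.nd (.lf 0x0) (.lf 0)) (.nd (.lf 0x685) (.lf 0)))))))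
def witQ2_nbbbaba : Tr := (.nd (.nd (.nd (.nd (.nd (.nd (.lf 0x0) (.lf 0x5b5)) (.nd (.lf 0x5d9) (.lf 0))) (.nd (.nd (.lf 0x0) (.lf 0)) (.nd (.lf 0x2d2) (.lf 0)))) (.nd (.nd (.nd (.lf 0x0) (.lf 0)) (.nd (.lf 0x0) (.lf 0))) (.nd (.nd (.lf 0x0) (.lf 0)) (.nd (.lf 0x449) (.lf 0))))) (.nd (.nd (.nd (.nd (.lf 0x0) (.lf 0xaa3)) (.nd (.lf 0x393) (.lf 0))) (.nd (.nd (.lf 0x0) (.lf 0)) (.nd (.lf 0xff7) (.lf 0)))) (.nd (.nd (.nd (.lf 0x0) (.lf 0)) (.nd (.lf 0x1c23) (.lf 0))) (.nd (.nd (.lf 0x0) (.lf 0)) (.nd (.lf 0x1da8) (.lf 0)))))) (.nd (.nd (.nd (.nd (.nd (.lf 0x0) (.lf 0xb00)) (.nd (.lf 0x1274) (.lf 0))) (.nd (.nd (.lf 0x0) (.lf 0)) (.nd (.lf 0x58b) (.lf 0)))) (.nd (.nd (.nd (.lf 0x10b7) (.lf 0)) (.nd (.lf 0x1174) (.lf 0))) (.nd (.nd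 (.lf 0xeac) (.lf 0)) (.nd (.lf 0x1683) (.lf 0))))) (.nd (.nd (.nd (.nd (.lf 0x0) (.lf 0x9b1)) (.nd (.lf 0x33c) (.lf 0))) (.nd (.nd (.lf 0x0) (.lf 0)) (.nd (.lf 0x354) (.lf 0)))) (.nd (.nd (.nd (.lf 0x1d7f) (.lf 0)) (.nd (.lf 0x0) (.lf 0))) (.nd (.nd (.lf 0x1477) (.lf 0)) (.nd (.lf 0x294) (.lf 0)))))))
def witQ2_nbbbabb : Tr := (.nd (.nd (.nd (.nd (.nd (.nd (.lf 0x0) (.lf 0x16ec)) (.nd (.lf 0x0) (.lf 0))) (.nd (.nd (.lf 0x0) (.lf 0)) (.nd (.lf 0x1667) (.lf 0)))) (.nd (.nd (.nd (.lf 0x0) (.lf 0)) (.nd (.lf 0xb53) (.lf 0))) (.nd (.nd (.lf 0x0) (.lf 0)) (.nd (.lf 0xec3) (.lf 0))))) (.nd (.nd (.nd (.nd (.lf 0x0) (.lf 0x19e1)) (.nd (.lf 0xe51) (.lf 0))) (.nd (.nd (.lf 0x13e3) (.lf 0)) (.nd (.lf 0x154d) (.lf 0)))) (.nd (.nd (.nd (.lf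 0x0) (.lf 0)) (.nd (.lf 0xdb3) (.lf 0))) (.nd (.nd (.lf 0x1d79) (.lf 0)) (.nd (.lf 0x1a51) (.lf 0)))))) (.nd (.nd (.nd (.nd (.nd (.lf 0x0) (.lf 0x1df1)) (.nd (.lf 0x1191) (.lf 0))) (.nd (.nd (.lf 0x0) (.lf 0)) (.nd (.lf 0xdb8) (.lf 0)))) (.nd (.nd (.nd (.lf 0x953) (.lf 0)) (.nd (.lf 0x0) (.lf 0))) (.nd (.nd (.lf 0x0) (.lf 0)) (.nd (.lf 0x14d5) (.lf 0))))) (.nd (.nd (.nd (.nd (.lf 0x0) (.lf 0x1707)) (.nd (.lf 0xddb) (.lf 0))) (.nd (.nd (.lf 0x0) (.lf 0)) (.nd (.lf 0xfd8) (.lf 0)))) (.nd (.nd (.nd (.lf 0x0) (.lf 0)) (.nd (.lf 0x1432) (.lf 0))) (.nd (.nd (.lf 0xeb1) (.lf 0)) (.nd (.lf 0x4ae) (.lf 0)))))))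
def witQ2_nbbbbaa : Tr := (.nd (.nd (.nd (.nd (.nd (.nd (.lf 0x0) (.lf 0x123d)) (.nd (.lf 0x0) (.lf 0))) (.nd (.nd (.lf 0x1a12) (.lf 0)) (.nd (.lf 0x0) (.lf 0)))) (.nd (.nd (.nd (.lf 0x43a) (.lf 0)) (.nd (.lf 0x746) (.lf 0))) (.nd (.nd (.lf 0x791) (.lf 0)) (.nd (.lf 0x14c8) (.lf 0))))) (.nd (.nd (.nd (.nd (.lf 0x0) (.lf 0x14c2)) (.nd (.lf 0x1290) (.lf 0))) (.nd (.nd (.lf 0x0) (.lf 0)) (.nd (.lf 0x1a8f) (.lf 0)))) (.nd (.nd (.nd (.lf 0x0) (.lf 0)) (.nd (.lf 0x0) (.lf 0))) (.nd (.nd (.lf 0xb54) (.lf 0)) (.nd (.lf 0x188b) (.lf 0)))))) (.nd (.nd (.nd (.nd (.nd (.lf 0x0) (.lf 0x54e)) (.nd (.lf 0x72f) (.lf 0))) (.nd (.nd (.lf 0x1624) (.lf 0)) (.nd (.lf 0xd57) (.lf 0)))) (.nd (.nd (.nd (.lf 0x8f8) (.lf 0)) (.nd (.lf 0x10ae) (.lf 0)))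 (.nd (.nd (.lf 0x1b6a) (.lf 0)) (.nd (.lf 0x17c5) (.lf 0))))) (.nd (.nd (.nd (.nd (.lf 0x0) (.lf 0x1298)) (.nd (.lf 0x5a9) (.lf 0))) (.nd (.nd (.lf 0xb45) (.lf 0)) (.nd (.lf 0x0) (.lf 0)))) (.nd (.nd (.nd (.lf 0xe20) (.lf 0)) (.nd (.lf 0x0) (.lf 0))) (.nd (.nd (.lf 0x31e) (.lf 0)) (.nd (.lf 0x1585) (.lf 0)))))))
def witQ2_nbbbbab : Tr := (.nd (.nd (.nd (.nd (.nd (.nd (.lf 0x0) (.lf 0x15fb)) (.nd (.lf 0xd27) (.lf 0))) (.nd (.nd (.lf 0x13ad) (.lf 0)) (.nd (.lf 0xc2e) (.lf 0)))) (.nd (.nd (.nd (.lf 0x0) (.lf 0)) (.nd (.lf 0x0) (.lf 0))) (.nd (.nd (.lf 0x0) (.lf 0)) (.nd (.lf 0x7db) (.lf 0))))) (.nd (.nd (.nd (.nd (.lf 0x0) (.lf 0x12b2)) (.nd (.lf 0x0) (.lf 0))) (.nd (.nd (.lf 0x0) (.lf 0)) (.nd (.lf 0x15f0) (.lf 0)))) (.nd (.nd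 (.nd (.lf 0x0) (.lf 0)) (.nd (.lf 0x36e) (.lf 0))) (.nd (.nd (.lf 0x14a4) (.lf 0)) (.nd (.lf 0x4e0) (.lf 0)))))) (.nd (.nd (.nd (.nd (.nd (.lf 0x0) (.lf 0xe89)) (.nd (.lf 0x0) (.lf 0))) (.nd (.nd (.lf 0x0) (.lf 0)) (.nd (.lf 0x1bd7) (.lf 0)))) (.nd (.nd (.nd (.lf 0x0) (.lf 0)) (.nd (.lf 0xdc6) (.lf 0))) (.nd (.nd (.lf 0x2f1) (.lf 0)) (.nd (.lf 0x5c4) (.lf 0))))) (.nd (.nd (.nd (.nd (.lf 0x0) (.lf 0x1cf7)) (.nd (.lf 0x0) (.lf 0))) (.nd (.nd (.lf 0xd6a) (.lf 0)) (.nd (.lf 0x1519) (.lf 0)))) (.nd (.nd (.nd (.lf 0x173e) (.lf 0)) (.nd (.lf 0xa04) (.lf 0))) (.nd (.nd (.lf 0x1b5c) (.lf 0)) (.nd (.lf 0x1b60) (.lf 0)))))))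
def witQ2_nbbbbba : Tr := (.nd (.nd (.nd (.nd (.nd (.nd (.lf 0x0) (.lf 0x11df)) (.nd (.lf 0x0) (.lf 0))) (.nd (.nd (.lf 0x0) (.lf 0)) (.nd (.lf 0xbdf) (.lf 0)))) (.nd (.nd (.nd (.lf 0x0) (.lf 0)) (.nd (.lf 0x181e) (.lf 0))) (.nd (.nd (.lf 0x0) (.lf 0)) (.nd (.lf 0x1515) (.lf 0))))) (.nd (.nd (.nd (.nd (.lf 0x0) (.lf 0x4e0)) (.nd (.lf 0x1b0c) (.lf 0))) (.nd (.nd (.lf 0x0) (.lf 0)) (.nd (.lf 0x1fd) (.lf 0)))) (.nd (.nd (.nd (.lf 0x0) (.lf 0)) (.nd (.lf 0x27c) (.lf 0))) (.nd (.nd (.lf 0x0) (.lf 0)) (.nd (.lf 0x9a0) (.lf 0)))))) (.nd (.nd (.nd (.nd (.nd (.lf 0x0) (.lf 0x194c)) (.nd (.lf 0x0) (.lf 0))) (.nd (.nd (.lf 0xd53) (.lf 0)) (.nd (.lf 0xd48) (.lf 0)))) (.nd (.nd (.nd (.lf 0x0) (.lf 0)) (.nd (.lf 0x1417) (.lf 0))) (.nd (.nd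 (.lf 0xabf) (.lf 0)) (.nd (.lf 0x150f) (.lf 0))))) (.nd (.nd (.nd (.nd (.lf 0x0) (.lf 0x78b)) (.nd (.lf 0x19f8) (.lf 0))) (.nd (.nd (.lf 0x0) (.lf 0)) (.nd (.lf 0x1389) (.lf 0)))) (.nd (.nd (.nd (.lf 0x0) (.lf 0)) (.nd (.lf 0x1c5) (.lf 0))) (.nd (.nd (.lf 0x563) (.lf 0)) (.nd (.lf 0x1355) (.lf 0)))))))
def witQ2_nbbbbbb : Tr := (.nd (.nd (.nd (.nd (.nd (.nd (.lf 0x0) (.lf 0xf15)) (.nd (.lf 0x16fd) (.lf 0))) (.nd (.nd (.lf 0x126e) (.lf 0)) (.nd (.lf 0x1757) (.lf 0)))) (.nd (.nd (.nd (.lf 0x0) (.lf 0)) (.nd (.lf 0x0) (.lf 0))) (.nd (.nd (.lf 0x14c8) (.lf 0)) (.nd (.lf 0x345) (.lf 0))))) (.nd (.nd (.nd (.nd (.lf 0x0) (.lf 0x1a4e)) (.nd (.lf 0x9b9) (.lf 0))) (.nd (.nd (.lf 0x0) (.lf 0)) (.nd (.lf 0x0) (.lf 0)))) (.nd (.nd (.nd (.lf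 0x466) (.lf 0)) (.nd (.lf 0x547) (.lf 0))) (.nd (.nd (.lf 0x0) (.lf 0)) (.nd (.lf 0x1b34) (.lf 0)))))) (.nd (.nd (.nd (.nd (.nd (.lf 0x0) (.lf 0xaa)) (.nd (.lf 0xa64) (.lf 0))) (.nd (.nd (.lf 0x0) (.lf 0)) (.nd (.lf 0xff9) (.lf 0)))) (.nd (.nd (.nd (.lf 0x0) (.lf 0)) (.nd (.lf 0xed6) (.lf 0))) (.nd (.nd (.lf 0x0) (.lf 0)) (.nd (.lf 0x3fd) (.lf 0))))) (.nd (.nd (.nd (.nd (.lf 0x0) (.lf 0xdfe)) (.nd (.lf 0x167e) (.lf 0))) (.nd (.nd (.lf 0x196b) (.lf 0)) (.nd (.lf 0xdb0) (.lf 0)))) (.nd (.nd (.nd (.lf 0x5fa) (.lf 0)) (.nd (.lf 0x184b) (.lf 0))) (.nd (.nd (.lf 0x3a0) (.lf 0)) (.nd (.lf 0x1d90) (.lf 0)))))))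
def witQ2 : Tr := (.nd (.nd (.nd (.nd (.nd (.nd witQ2_naaaaaa witQ2_naaaaab) (.nd witQ2_naaaaba witQ2_naaaabb)) (.nd (.nd witQ2_naaabaa witQ2_naaabab) (.nd witQ2_naaabba witQ2_naaabbb))) (.nd (.nd (.nd witQ2_naabaaa witQ2_naabaab) (.nd witQ2_naababa witQ2_naababb)) (.nd (.nd witQ2_naabbaa witQ2_naabbab) (.nd witQ2_naabbba witQ2_naabbbb)))) (.nd (.nd (.nd (.nd witQ2_nabaaaa witQ2_nabaaab) (.nd witQ2_nabaaba witQ2_nabaabb)) (.nd (.nd witQ2_nababaa witQ2_nababab) (.nd witQ2_nababba witQ2_nababbb))) (.nd (.nd (.nd witQ2_nabbaaa witQ2_nabbaab) (.nd witQ2_nabbaba witQ2_nabbabb)) (.nd (.nd witQ2_nabbbaa witQ2_nabbbab) (.nd witQ2_nabbbba witQ2_nabbbbb))))) (.nd (.nd (.nd (.nd (.nd witQ2_nbaaaaa witQ2_nbaaaab) (.nd witQ2_nbaaaba witQ2_nbaaabb))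 (.nd (.nd witQ2_nbaabaa witQ2_nbaabab) (.nd witQ2_nbaabba witQ2_nbaabbb))) (.nd (.nd (.nd witQ2_nbabaaa witQ2_nbabaab) (.nd witQ2_nbababa witQ2_nbababb)) (.nd (.nd witQ2_nbabbaa witQ2_nbabbab) (.nd witQ2_nbabbba witQ2_nbabbbb)))) (.nd (.nd (.nd (.nd witQ2_nbbaaaa witQ2_nbbaaab) (.nd witQ2_nbbaaba witQ2_nbbaabb)) (.nd (.nd witQ2_nbbabaa witQ2_nbbabab) (.nd witQ2_nbbabba witQ2_nbbabbb))) (.nd (.nd (.nd witQ2_nbbbaaa witQ2_nbbbaab) (.nd witQ2_nbbbaba witQ2_nbbbabb)) (.nd (.nd witQ2_nbbbbaa witQ2_nbbbbab) (.nd witQ2_nbbbbba witQ2_nbbbbbb))))))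

end H94.RU.D
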