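import Cfsg.Agent.H94.J3.Gen

/-! Generated certificate data for the Rudvalis group. -/

namespace H94.RU.D

open H94.J3

def rT_naaaa : Tr := (.nd (.nd (.nd (.nd (.nd (.nd (.lf 0x80) (.lf 0xa7e9b38)) (.nd (.lf 0xc9138b0) (.lf 0x7af2a3d))) (.nd (.nd (.lf 0x7bc980d) (.lf 0x1e8b239)) (.nd (.lf 0xd1ba8c5) (.lf 0x60dee0d)))) (.nd (.nd (.nd (.lf 0x668a4c9) (.lf 0x8f40104)) (.nd (.lf 0x887ae3a) (.lf 0x94be671))) (.nd (.nd (.lf 0x2f2ee12) (.lf 0xe56817d)) (.nd (.lf 0xcef6f82) (.lf 0xaf6882))))) (.nd (.nd (.nd (.nd (.lf 0xabd8505) (.lf 0xded8ae2)) (.nd (.lf 0xa9a1a72) (.lf 0xf2a8677))) (.nd (.nd (.lf 0xb41c8c1) (.lf 0x5629092)) (.nd (.lf 0x1922c5a) (.lf 0x344aec0)))) (.nd (.nd (.nd (.lf 0x7d9ee40) (.lf 0xa9abcc0)) (.nd (.lf 0x134eaba) (.lf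 0x555e79f))) (.nd (.nd (.lf 0x6d26423) (.lf 0xb31c738)) (.nd (.lf 0x2613d3f) (.lf 0)))))) (.nd (.nd (.nd (.nd (.nd (.lf 0x9f5ccfd) (.lf 0xf474cc)) (.nd (.lf 0x9ad81eb) (.lf 0x41308f8))) (.nd (.nd (.lf 0x705ca00) (.lf 0xec80a8d)) (.nd (.lf 0xc4fcdf2) (.lf 0xdd623f2)))) (.nd (.nd (.nd (.lf 0x13c28aa) (.lf 0x19551)) (.nd (.lf 0x1140768) (.lf 0x7319ef9))) (.nd (.nd (.lf 0x6b9e65f) (.lf 0xefcc711)) (.nd (.lf 0x1bb86bd) (.lf 0))))) (.nd (.nd (.nd (.nd (.lf 0x24a5415) (.lf 0xd19a8c1)) (.nd (.lf 0x620f42b) (.lf 0x3d6aaff))) (.nd (.nd (.lf 0x506be53) (.lf 0xf0ba017)) (.nd (.lf 0x364d9bc) (.lf 0xa1b1ddc)))) (.nd (.nd (.nd (.lf 0x78c5b65) (.lf 0xf55f633)) (.nd (.lf 0x8a65f36) (.lf 0xd4e2fac))) (.nd (.nd (.lf 0xe53ef2f) (.lf 0xf8cacd)) (.nd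 (.lf 0x4805bd6) (.lf 0)))))))
def rT_naaab : Tr := (.nd (.nd (.nd (.nd (.nd (.nd (.lf 0x71a9864) (.lf 0xd94df7c)) (.nd (.lf 0xd47aa35) (.lf 0xb709030))) (.nd (.nd (.lf 0x67f2d3a) (.lf 0x284b147)) (.nd (.lf 0x3be7449) (.lf 0xd1741eb)))) (.nd (.nd (.nd (.lf 0xb04f786) (.lf 0x200806e)) (.nd (.lf 0xc90bfbd) (.lf 0xbe3b3bd))) (.nd (.nd (.lf 0xf1f9724) (.lf 0xe75fbb8)) (.nd (.lf 0x6c213a4) (.lf 0xf93895d))))) (.nd (.nd (.nd (.nd (.lf 0xb973162) (.lf 0x36ddd7e)) (.nd (.lf 0x13e5019) (.lf 0x7c4c3d3))) (.nd (.nd (.lf 0xc2bb555) (.lf 0xb0b730d)) (.nd (.lf 0x181000) (.lf 0xa2d33a6)))) (.nd (.nd (.nd (.lf 0x7e2d3d3) (.lf 0xb6d7aae)) (.nd (.lf 0xfacf241) (.lf 0x1ce216d))) (.nd (.nd (.lf 0xae99f4a) (.lf 0x4579bd)) (.nd (.lf 0x243e9a) (.lf 0))))))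 (.nd (.nd (.nd (.nd (.nd (.lf 0x47fa38) (.lf 0x49853a7)) (.nd (.lf 0x7bcf737) (.lf 0x1df9874))) (.nd (.nd (.lf 0xa226c55) (.lf 0xae2ae1)) (.nd (.lf 0x7905e0c) (.lf 0x9991524)))) (.nd (.nd (.nd (.lf 0xe82e28d) (.lf 0xb614b4c)) (.nd (.lf 0x155e569) (.lf 0x8d1273b))) (.nd (.nd (.lf 0xb947d5e) (.lf 0x5120a3f)) (.nd (.lf 0xa9dc30c) (.lf 0))))) (.nd (.nd (.nd (.nd (.lf 0xc014c79) (.lf 0x6217326)) (.nd (.lf 0xf9854d8) (.lf 0x6c1275b))) (.nd (.nd (.lf 0x4fcc9d6) (.lf 0x657d1b3)) (.nd (.lf 0x7a126f3) (.lf 0xca8163f)))) (.nd (.nd (.nd (.lf 0xea27ffc) (.lf 0x5032cb5)) (.nd (.lf 0xde16208) (.lf 0xa9fc308))) (.nd (.nd (.lf 0x2a537d1) (.lf 0xfe2d51d)) (.nd (.lf 0x377aea9) (.lf 0)))))))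
def rT_naaba : Tr := (.nd (.nd (.nd (.nd (.nd (.nd (.lf 0xb0ebefc) (.lf 0x38c887f)) (.nd (.lf 0x96e00d9) (.lf 0xb3c86f7))) (.nd (.nd (.lf 0x7dff395) (.lf 0x7d3fd7c)) (.nd (.lf 0x34b56f5) (.lf 0x1ac36a2)))) (.nd (.nd (.nd (.lf 0x808bbad) (.lf 0x1e4c497)) (.nd (.lf 0xd564008) (.lf 0x8f3c6c4))) (.nd (.nd (.lf 0x2d1bb21) (.lf 0x96c66b1)) (.nd (.lf 0xcd342ae) (.lf 0x1e2c5ab))))) (.nd (.nd (.nd (.nd (.lf 0xd926690) (.lf 0x30bbba7)) (.nd (.lf 0x4e3b227) (.lf 0xe2b1326))) (.nd (.nd (.lf 0xf3ed2d8) (.lf 0xc22114f)) (.nd (.lf 0x2dd5067) (.lf 0x2d62368)))) (.nd (.nd (.nd (.lf 0x3e7a258) (.lf 0xbd5ebed)) (.nd (.lf 0x14a3126) (.lf 0x6bd706d))) (.nd (.nd (.lf 0x7ed2dd) (.lf 0x5fbb1a8)) (.nd (.lf 0x24c6bb5) (.lf 0)))))) (.nd (.nd (.nd (.nd (.nd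 (.lf 0x2b9ec4d) (.lf 0xc8d3018)) (.nd (.lf 0x26c3adb) (.lf 0xa8185ca))) (.nd (.nd (.lf 0x4d765a6) (.lf 0x9690ee)) (.nd (.lf 0x7f9ca11) (.lf 0x2f490b3)))) (.nd (.nd (.nd (.lf 0x410e34b) (.lf 0x6c75213)) (.nd (.lf 0x73038f3) (.lf 0xd5672b))) (.nd (.nd (.lf 0xd20ce8e) (.lf 0x4e531a)) (.nd (.lf 0xc57565e) (.lf 0))))) (.nd (.nd (.nd (.nd (.lf 0x8f605b9) (.lf 0xba6b9c6)) (.nd (.lf 0xa3b15dc) (.lf 0x5dba52d))) (.nd (.nd (.lf 0x3699291) (.lf 0xf6a9244)) (.nd (.lf 0xa88e8c6) (.lf 0xebd9893)))) (.nd (.nd (.nd (.lf 0x60dc770) (.lf 0xc4731cc)) (.nd (.lf 0x1751424) (.lf 0x8e1c800))) (.nd (.nd (.lf 0x672ac8a) (.lf 0x74b272)) (.nd (.lf 0xd65fff7) (.lf 0)))))))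
def rT_naabb : Tr := (.nd (.nd (.nd (.nd (.nd (.nd (.lf 0x713325a) (.lf 0x17b365e)) (.nd (.lf 0x854b518) (.lf 0x1868fbb))) (.nd (.nd (.lf 0x2708917) (.lf 0xc4daca1)) (.nd (.lf 0xa040804) (.lf 0xca49719)))) (.nd (.nd (.nd (.lf 0x9fe42ac) (.lf 0x419c178)) (.nd (.lf 0xba4b278) (.lf 0x2dcd328))) (.nd (.nd (.lf 0xc5ee457) (.lf 0x8368d93)) (.nd (.lf 0x6b048f4) (.lf 0x3b0ecc9))))) (.nd (.nd (.nd (.nd (.lf 0xcaac48b) (.lf 0x8d479ac)) (.nd (.lf 0x5e871b) (.lf 0x8792b1a))) (.nd (.nd (.lf 0x88105a0) (.lf 0xedc5e22)) (.nd (.lf 0x5c82cbe) (.lf 0x370886e)))) (.nd (.nd (.nd (.lf 0x6b39888) (.lf 0x80d299e)) (.nd (.lf 0xed58609) (.lf 0x8f254f9))) (.nd (.nd (.lf 0xd609fc) (.lf 0xf385691)) (.nd (.lf 0x3a63052) (.lf 0)))))) (.nd (.nd (.nd (.nd (.nd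 (.lf 0x8fa4c5c) (.lf 0x883d041)) (.nd (.lf 0x3bfd3a9) (.lf 0xdccdfc6))) (.nd (.nd (.lf 0x57354e9) (.lf 0xc9ff126)) (.nd (.lf 0x8947a3e) (.lf 0xb332dca)))) (.nd (.nd (.nd (.lf 0x6bf8297) (.lf 0x81fd30a)) (.nd (.lf 0xf5d2983) (.lf 0x8aac2b9))) (.nd (.nd (.lf 0x61b6540) (.lf 0xc83b7e0)) (.nd (.lf 0xc7e6883) (.lf 0))))) (.nd (.nd (.nd (.nd (.lf 0xbdbd9d3) (.lf 0xaa50c24)) (.nd (.lf 0x74bb444) (.lf 0x853f9c2))) (.nd (.nd (.lf 0x5f63a10) (.lf 0x65c0250)) (.nd (.lf 0xf4c2fa6) (.lf 0x21541eb)))) (.nd (.nd (.nd (.lf 0xf3d5f83) (.lf 0x9c4568c)) (.nd (.lf 0xb0f0a82) (.lf 0xdd1a6c5))) (.nd (.nd (.lf 0xb8d4688) (.lf 0xc19fce5)) (.nd (.lf 0x7f24bb3) (.lf 0)))))))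
def rT_nabaa : Tr := (.nd (.nd (.nd (.nd (.nd (.nd (.lf 0x8bad22f) (.lf 0x5405b07)) (.nd (.lf 0x5240574) (.lf 0x9b4ca9c))) (.nd (.nd (.lf 0xed04833) (.lf 0x3c23a08)) (.nd (.lf 0xa659669) (.lf 0x7c92a33)))) (.nd (.nd (.nd (.lf 0xf4b6c95) (.lf 0x2d3018e)) (.nd (.lf 0x56c8fc2) (.lf 0x416c938))) (.nd (.nd (.lf 0xd869ad6) (.lf 0xa0fd4f7)) (.nd (.lf 0x8782999) (.lf 0x9cd691f))))) (.nd (.nd (.nd (.nd (.lf 0x4998014) (.lf 0x3ab6022)) (.nd (.lf 0x899a5ad) (.lf 0x81c093))) (.nd (.nd (.lf 0x4c7ba60) (.lf 0x3556af9)) (.nd (.lf 0x9a0d800) (.lf 0x48f03da)))) (.nd (.nd (.nd (.lf 0xe12515a) (.lf 0x9530a90)) (.nd (.lf 0xa65269b) (.lf 0x379678d))) (.nd (.nd (.lf 0x80ceeb5) (.lf 0x1c02d49)) (.nd (.lf 0xcf1fdcb) (.lf 0)))))) (.nd (.nd (.nd (.nd (.nd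 (.lf 0x44f9e7b) (.lf 0xfafbe7d)) (.nd (.lf 0x9ed42e7) (.lf 0xee7c75d))) (.nd (.nd (.lf 0xe81ae9d) (.lf 0x1956b7a)) (.nd (.lf 0xdc95b6) (.lf 0xabac843)))) (.nd (.nd (.nd (.lf 0xe105258) (.lf 0xf34ee1b)) (.nd (.lf 0x25015eb) (.lf 0x8b9ad60))) (.nd (.nd (.lf 0xd7a031) (.lf 0xb2ffbe3)) (.nd (.lf 0xa315a9f) (.lf 0))))) (.nd (.nd (.nd (.nd (.lf 0xe7b2bba) (.lf 0x1b832cc)) (.nd (.lf 0xadafd6a) (.lf 0x8a55df1))) (.nd (.nd (.lf 0x93be289) (.lf 0xf1da74)) (.nd (.lf 0x4e0a719) (.lf 0x52386a4)))) (.nd (.nd (.nd (.lf 0x41e43e8) (.lf 0x2b8ba61)) (.nd (.lf 0x1584edf) (.lf 0x5c31939))) (.nd (.nd (.lf 0xd50bc57) (.lf 0x24b469b)) (.nd (.lf 0xf4719f2) (.lf 0)))))))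
def rT_nabab : Tr := (.nd (.nd (.nd (.nd (.nd (.nd (.lf 0xadc161b) (.lf 0xc217481)) (.nd (.lf 0x5c9c4da) (.lf 0x100e58))) (.nd (.nd (.lf 0x5192e54) (.lf 0x1e6479d)) (.nd (.lf 0xf4ffeee) (.lf 0xc542583)))) (.nd (.nd (.nd (.lf 0x4803fdb) (.lf 0x2b55dae)) (.nd (.lf 0xc623361) (.lf 0x77367c7))) (.nd (.nd (.lf 0x429a333) (.lf 0xd2268c1)) (.nd (.lf 0xd719084) (.lf 0xc1834f9))))) (.nd (.nd (.nd (.nd (.lf 0x97f5ead) (.lf 0xd14ee1b)) (.nd (.lf 0xdb986ca) (.lf 0xbad134e))) (.nd (.nd (.lf 0x60cfbb8) (.lf 0x2368354)) (.nd (.lf 0x78dc895) (.lf 0xafbfb4d)))) (.nd (.nd (.nd (.lf 0xf3dc9e) (.lf 0x66de390)) (.nd (.lf 0xa2bd533) (.lf 0x8d60a4d))) (.nd (.nd (.lf 0xa2a38b4) (.lf 0xbb0e674)) (.nd (.lf 0xd970c89) (.lf 0)))))) (.nd (.nd (.nd (.nd (.nd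 (.lf 0xb02a35) (.lf 0xd5abf01)) (.nd (.lf 0x958fe6a) (.lf 0xdc4e2cc))) (.nd (.nd (.lf 0xbaf3b7e) (.lf 0xcce9938)) (.nd (.lf 0xab695b8) (.lf 0xc36e7ce)))) (.nd (.nd (.nd (.lf 0x8144e8e) (.lf 0x33c818b)) (.nd (.lf 0x72e7b07) (.lf 0x7c8bcd0))) (.nd (.nd (.lf 0x68aab46) (.lf 0x4e76fbf)) (.nd (.lf 0xb38ef0) (.lf 0))))) (.nd (.nd (.nd (.nd (.lf 0x9b9fea3) (.lf 0xe4a95b8)) (.nd (.lf 0x614f536) (.lf 0xbf335cb))) (.nd (.nd (.lf 0xb029cee) (.lf 0x97dbc6c)) (.nd (.lf 0x68816fc) (.lf 0x2fbbecf)))) (.nd (.nd (.nd (.lf 0x18ea961) (.lf 0x30e82e5)) (.nd (.lf 0xf89d331) (.lf 0x64856ac))) (.nd (.nd (.lf 0x1cb420c) (.lf 0xfbdde69)) (.nd (.lf 0xa53c28e) (.lf 0)))))))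
def rT_nabba : Tr := (.nd (.nd (.nd (.nd (.nd (.nd (.lf 0xd02e7a) (.lf 0x639baf4)) (.nd (.lf 0x10053c7) (.lf 0xa7d95e9))) (.nd (.nd (.lf 0xcd65cb7) (.lf 0x39fb937)) (.nd (.lf 0x455bda9) (.lf 0x8df252)))) (.nd (.nd (.nd (.lf 0x30bfa99) (.lf 0xbf3ade5)) (.nd (.lf 0x6c5be7) (.lf 0x877fe7))) (.nd (.nd (.lf 0xbe08d12) (.lf 0xd50d6dd)) (.nd (.lf 0x344ec26) (.lf 0x29a1878))))) (.nd (.nd (.nd (.nd (.lf 0xc1bac4c) (.lf 0xe4d7fd0)) (.nd (.lf 0x586281a) (.lf 0xa01f093))) (.nd (.nd (.lf 0x61253a9) (.lf 0x9e917e7)) (.nd (.lf 0x20000) (.lf 0x3d18cca)))) (.nd (.nd (.nd (.lf 0xa057805) (.lf 0x9fd16a5)) (.nd (.lf 0xb1cb36d) (.lf 0x8715a8a))) (.nd (.nd (.lf 0x5bf5512) (.lf 0xf894227)) (.nd (.lf 0xb82b1b5) (.lf 0)))))) (.nd (.nd (.nd (.nd (.nd (.lf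 0x68c94e6) (.lf 0x869ae68)) (.nd (.lf 0x3f6473) (.lf 0xb6d6aaa))) (.nd (.nd (.lf 0x66f0dbe) (.lf 0x4593f23)) (.nd (.lf 0xee4dacc) (.lf 0xed41d33)))) (.nd (.nd (.nd (.lf 0xf5a8f6b) (.lf 0xdfd9fc4)) (.nd (.lf 0x303a5ff) (.lf 0x5034591))) (.nd (.nd (.lf 0x3ca3ae7) (.lf 0xc5bd7be)) (.nd (.lf 0x79f9b84) (.lf 0))))) (.nd (.nd (.nd (.nd (.lf 0x54122b3) (.lf 0x551d21d)) (.nd (.lf 0xd90b424) (.lf 0x2c89773))) (.nd (.nd (.lf 0xcf56564) (.lf 0xbdbdd93)) (.nd (.lf 0xf904456) (.lf 0xde3a31f)))) (.nd (.nd (.nd (.lf 0x7071cc2) (.lf 0x4923f72)) (.nd (.lf 0x12352ba) (.lf 0x781b6b))) (.nd (.nd (.lf 0xfb6ed6e) (.lf 0xf943b1b)) (.nd (.lf 0x55e2b2a) (.lf 0)))))))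
def rT_nabbb : Tr := (.nd (.nd (.nd (.nd (.nd (.nd (.lf 0x1786edf) (.lf 0x238aa12)) (.nd (.lf 0xa1b1d58) (.lf 0x9170d5d))) (.nd (.nd (.lf 0xde6de68) (.lf 0x6034794)) (.nd (.lf 0xe5e5abb) (.lf 0x83f89a1)))) (.nd (.nd (.nd (.lf 0xaefdfdd) (.lf 0xcb9ebde)) (.nd (.lf 0xa0091b3) (.lf 0x9adf946))) (.nd (.nd (.lf 0x92b1f5d) (.lf 0xacaf336)) (.nd (.lf 0x28a5774) (.lf 0x33e3525))))) (.nd (.nd (.nd (.nd (.lf 0x998b26e) (.lf 0x2cf6f9d)) (.nd (.lf 0xc6531c) (.lf 0xc26924f))) (.nd (.nd (.lf 0x543aeb1) (.lf 0xad13fb0)) (.nd (.lf 0xdbb327e) (.lf 0xe651782)))) (.nd (.nd (.nd (.lf 0x58d4a27) (.lf 0x6713165)) (.nd (.lf 0x8353386) (.lf 0xefcdc4c))) (.nd (.nd (.lf 0x22d3213) (.lf 0xf4af5c)) (.nd (.lf 0x355d781) (.lf 0)))))) (.nd (.nd (.nd (.nd (.nd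 (.lf 0x623c494) (.lf 0xc627a11)) (.nd (.lf 0x251dce4) (.lf 0x200))) (.nd (.nd (.lf 0xf689a20) (.lf 0xe034617)) (.nd (.lf 0xea63905) (.lf 0x74d3463)))) (.nd (.nd (.nd (.lf 0x22db533) (.lf 0xe2b58eb)) (.nd (.lf 0xd830464) (.lf 0x70e9943))) (.nd (.nd (.lf 0x1a02647) (.lf 0x2491f37)) (.nd (.lf 0x3f67cc7) (.lf 0))))) (.nd (.nd (.nd (.nd (.lf 0x25b16f7) (.lf 0x9158c6e)) (.nd (.lf 0xa9e9012) (.lf 0x5d3cbf1))) (.nd (.nd (.lf 0xce4f434) (.lf 0xe13ac7a)) (.nd (.lf 0xce13749) (.lf 0x44370c4)))) (.nd (.nd (.nd (.lf 0xa3b6a24) (.lf 0x3c393c5)) (.nd (.lf 0x1c0fa7f) (.lf 0x977064b))) (.nd (.nd (.lf 0x9260817) (.lf 0x773b5a2)) (.nd (.lf 0x1c1efca) (.lf 0)))))))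
def rT_nbaaa : Tr := (.nd (.nd (.nd (.nd (.nd (.nd (.lf 0xdeddfae) (.lf 0xee75f73)) (.nd (.lf 0xe821d84) (.lf 0x706a947))) (.nd (.nd (.lf 0x5ad6f74) (.lf 0xfdf20d9)) (.nd (.lf 0x1d8e199) (.lf 0x1589cba)))) (.nd (.nd (.nd (.lf 0xbb637b5) (.lf 0xc719080)) (.nd (.lf 0x2f95c5f) (.lf 0xb712a6a))) (.nd (.nd (.lf 0x4cde330) (.lf 0xe13f02b)) (.nd (.lf 0x1000000) (.lf 0x8089c7b))))) (.nd (.nd (.nd (.nd (.lf 0xa8e51f4) (.lf 0xd327699)) (.nd (.lf 0x98ba621) (.lf 0x35b3ec7))) (.nd (.nd (.lf 0x5f0812f) (.lf 0xe95f092)) (.nd (.lf 0xbe124df) (.lf 0x2576390)))) (.nd (.nd (.nd (.lf 0x44184af) (.lf 0x9393999)) (.nd (.lf 0xa66c8a7) (.lf 0x7ea4440))) (.nd (.nd (.lf 0x523f096) (.lf 0xa29f9e9)) (.nd (.lf 0x43a255a) (.lf 0)))))) (.nd (.nd (.nd (.nd (.nd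 (.lf 0xe77943d) (.lf 0x10498a4)) (.nd (.lf 0x8957a76) (.lf 0xb7d64f6))) (.nd (.nd (.lf 0x5beca15) (.lf 0x908c93a)) (.nd (.lf 0xe0810af) (.lf 0x554ed2d)))) (.nd (.nd (.nd (.lf 0x6248ece) (.lf 0x98c308a)) (.nd (.lf 0x6f2b1ca) (.lf 0xf28f3af))) (.nd (.nd (.lf 0x74dc154) (.lf 0xcbf9ece)) (.nd (.lf 0x43a275e) (.lf 0))))) (.nd (.nd (.nd (.nd (.lf 0x17502c5) (.lf 0x2b3d8ac)) (.nd (.lf 0x37053fe) (.lf 0x2960c96))) (.nd (.nd (.lf 0x389327a) (.lf 0x56ba8f)) (.nd (.lf 0xfb6e4af) (.lf 0xa9c4401)))) (.nd (.nd (.nd (.lf 0x1d813ea) (.lf 0x543acb5)) (.nd (.lf 0x7bfb559) (.lf 0xff46c30))) (.nd (.nd (.lf 0x50c2986) (.lf 0xf385e7e)) (.nd (.lf 0x54940c9) (.lf 0)))))))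
def rT_nbaab : Tr := (.nd (.nd (.nd (.nd (.nd (.nd (.lf 0x5226b46) (.lf 0x707df34)) (.nd (.lf 0x55edc77) (.lf 0xd32a6c7))) (.nd (.nd (.lf 0x848e228) (.lf 0xc454f55)) (.nd (.lf 0x44630d0) (.lf 0xd2da294)))) (.nd (.nd (.nd (.lf 0xd9c5c7c) (.lf 0x1d9011b)) (.nd (.lf 0xc529af7) (.lf 0x4c743fa))) (.nd (.nd (.lf 0x9545773) (.lf 0x25fafbe)) (.nd (.lf 0x785186d) (.lf 0xda6cdd))))) (.nd (.nd (.nd (.nd (.lf 0x5f42b0a) (.lf 0xa5d9e5f)) (.nd (.lf 0x6495273) (.lf 0xf5d37c6))) (.nd (.nd (.lf 0x4060dd7) (.lf 0x6fa7623)) (.nd (.lf 0x2f9d14a) (.lf 0x6d39cc7)))) (.nd (.nd (.nd (.lf 0x5ef76d) (.lf 0xfef5b80)) (.nd (.lf 0x1b24ff) (.lf 0x420bc6a))) (.nd (.nd (.lf 0xf7c6e70) (.lf 0xb218e0d)) (.nd (.lf 0x32b382a) (.lf 0)))))) (.nd (.nd (.nd (.nd (.nd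 (.lf 0x8a8561b) (.lf 0x79ec827)) (.nd (.lf 0x9c956cd) (.lf 0x1b8e5fa))) (.nd (.nd (.lf 0x44b5d83) (.lf 0xae6320c)) (.nd (.lf 0xb920a7c) (.lf 0x2ac4e31)))) (.nd (.nd (.nd (.lf 0xa3e7332) (.lf 0x532a744)) (.nd (.lf 0x261afc) (.lf 0x8d68f69))) (.nd (.nd (.lf 0x50e0819) (.lf 0x8fa8d4f)) (.nd (.lf 0xc37402e) (.lf 0))))) (.nd (.nd (.nd (.nd (.lf 0x3823720) (.lf 0x6be7a73)) (.nd (.lf 0x169a479) (.lf 0x1c2ba62))) (.nd (.nd (.lf 0x9358113) (.lf 0x4acfe00)) (.nd (.lf 0xb09e09d) (.lf 0x6c28b8a)))) (.nd (.nd (.nd (.lf 0x887fb76) (.lf 0x6e97d60)) (.nd (.lf 0x43c7f4c) (.lf 0xe68ef94))) (.nd (.nd (.lf 0x283e6ec) (.lf 0x2aae5ce)) (.nd (.lf 0xb76d709) (.lf 0)))))))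
def rT_nbaba : Tr := (.nd (.nd (.nd (.nd (.nd (.nd (.lf 0x101b2be) (.lf 0x774df46)) (.nd (.lf 0x468e215) (.lf 0x5e2d1c))) (.nd (.nd (.lf 0x25a547c) (.lf 0xa90ec09)) (.nd (.lf 0x72228f) (.lf 0x5342379)))) (.nd (.nd (.nd (.lf 0x34e0306) (.lf 0x323388e)) (.nd (.lf 0x1c7cee0) (.lf 0xec0e21f))) (.nd (.nd (.lf 0xa42a473) (.lf 0xa393443)) (.nd (.lf 0x63326db) (.lf 0x5d22463))))) (.nd (.nd (.nd (.nd (.lf 0x82143a1) (.lf 0x6333554)) (.nd (.lf 0xdba48eb) (.lf 0xd472135))) (.nd (.nd (.lf 0x16da1b3) (.lf 0x7006d30)) (.nd (.lf 0x16f45cf) (.lf 0x9336b54)))) (.nd (.nd (.nd (.lf 0x67fa63a) (.lf 0xa40d1b3)) (.nd (.lf 0x705456e) (.lf 0xafb3a5e))) (.nd (.nd (.lf 0x990b464) (.lf 0xe6d17a2)) (.nd (.lf 0xbba9da3) (.lf 0)))))) (.nd (.nd (.nd (.nd (.nd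 (.lf 0xc01b0e8) (.lf 0x2f64c80)) (.nd (.lf 0x95baf70) (.lf 0x2a32737))) (.nd (.nd (.lf 0xda67b6d) (.lf 0xa6ef867)) (.nd (.lf 0x194da89) (.lf 0xf889010)))) (.nd (.nd (.nd (.lf 0x3b39c3c) (.lf 0x834d574)) (.nd (.lf 0x9dcde05) (.lf 0x75730aa))) (.nd (.nd (.lf 0x77967cd) (.lf 0xcf3c684)) (.nd (.lf 0xe5095d2) (.lf 0))))) (.nd (.nd (.nd (.nd (.lf 0x5152ce2) (.lf 0xd22428c)) (.nd (.lf 0x99fa1c4) (.lf 0xf8833b3))) (.nd (.nd (.lf 0x193b496) (.lf 0x446feee)) (.nd (.lf 0x755f7b0) (.lf 0x78d7867)))) (.nd (.nd (.nd (.lf 0xd8ac29) (.lf 0x1000)) (.nd (.lf 0x8e6a1e9) (.lf 0xdd850aa))) (.nd (.nd (.lf 0x91785ce) (.lf 0x4f3945e)) (.nd (.lf 0x8917555) (.lf 0)))))))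
def rT_nbabb : Tr := (.nd (.nd (.nd (.nd (.nd (.nd (.lf 0x3eca274) (.lf 0x709ea0)) (.nd (.lf 0x6f32efb) (.lf 0x1adcb80))) (.nd (.nd (.lf 0xc2dc045) (.lf 0xe9916bf)) (.nd (.lf 0x6563eb6) (.lf 0x3c52cb1)))) (.nd (.nd (.nd (.lf 0xc0d5a68) (.lf 0xda501a4)) (.nd (.lf 0x1816c9f) (.lf 0x31e1e48))) (.nd (.nd (.lf 0x925dbf3) (.lf 0x7a4e733)) (.nd (.lf 0x6dee62) (.lf 0x6409))))) (.nd (.nd (.nd (.nd (.lf 0xf58327b) (.lf 0xaa25e67)) (.nd (.lf 0xd21f6fd) (.lf 0x4130395))) (.nd (.nd (.lf 0x141efda) (.lf 0xb34560f)) (.nd (.lf 0x1786e5b) (.lf 0x211da3d)))) (.nd (.nd (.nd (.lf 0xd56fcae) (.lf 0xa4994f4)) (.nd (.lf 0x154144c) (.lf 0xb372d27))) (.nd (.nd (.lf 0x514e556) (.lf 0xb51ffef)) (.nd (.lf 0x14a3863) (.lf 0)))))) (.nd (.nd (.nd (.nd (.nd (.lf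 0x1a0730b) (.lf 0x3187897)) (.nd (.lf 0xfacc725) (.lf 0xbc3cd97))) (.nd (.nd (.lf 0x44d49f9) (.lf 0xdc10de0)) (.nd (.lf 0x8cd5703) (.lf 0x4529b74)))) (.nd (.nd (.nd (.lf 0x7128624) (.lf 0xb9b0e7a)) (.nd (.lf 0x20bea60) (.lf 0x857152))) (.nd (.nd (.lf 0x7ce9943) (.lf 0x49f40f4)) (.nd (.lf 0xc4d0cd1) (.lf 0))))) (.nd (.nd (.nd (.nd (.lf 0x6568210) (.lf 0x9e8d9c9)) (.nd (.lf 0xfd858d5) (.lf 0x2e4ed64))) (.nd (.nd (.lf 0xed828da) (.lf 0xac4b733)) (.nd (.lf 0x6b54f21) (.lf 0x7cd416b)))) (.nd (.nd (.nd (.lf 0x9cd965d) (.lf 0x1342339)) (.nd (.lf 0xe3bf76d) (.lf 0xc04a81f))) (.nd (.nd (.lf 0xe398101) (.lf 0xe89222e)) (.nd (.lf 0x979fa95) (.lf 0)))))))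
def rT_nbbaa : Tr := (.nd (.nd (.nd (.nd (.nd (.nd (.lf 0x464b488) (.lf 0xa796dc6)) (.nd (.lf 0xa380ac) (.lf 0xd3e2885))) (.nd (.nd (.lf 0x4e0d462) (.lf 0x3901e28)) (.nd (.lf 0x661dc88) (.lf 0xd16dc9e)))) (.nd (.nd (.nd (.lf 0xda429b) (.lf 0xf453835)) (.nd (.lf 0x3837e97) (.lf 0x630821e))) (.nd (.nd (.lf 0xf9740ef) (.lf 0x199fea3)) (.nd (.lf 0x491f892) (.lf 0x6b95b5a))))) (.nd (.nd (.nd (.nd (.lf 0xefeacd) (.lf 0x5945c7c)) (.nd (.lf 0x1c8eaab) (.lf 0xcd5adc7))) (.nd (.nd (.lf 0x1831230) (.lf 0x70c7d49)) (.nd (.lf 0xfc69ec3) (.lf 0xcfef32e)))) (.nd (.nd (.nd (.lf 0x46d3630) (.lf 0x95b09d8)) (.nd (.lf 0x45694a7) (.lf 0x9de8199))) (.nd (.nd (.lf 0x86137ce) (.lf 0x78efd2a)) (.nd (.lf 0xf2636e0) (.lf 0)))))) (.nd (.nd (.nd (.nd (.nd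 (.lf 0xf785edc) (.lf 0x79996d8)) (.nd (.lf 0xfb45137) (.lf 0xb94ccb4))) (.nd (.nd (.lf 0x8ea4924) (.lf 0x7ed14ad)) (.nd (.lf 0x31a589d) (.lf 0x40b6084)))) (.nd (.nd (.nd (.lf 0x7490c1f) (.lf 0x3530e6b)) (.nd (.lf 0x14ba473) (.lf 0x4bc58b5))) (.nd (.nd (.lf 0x9b53c63) (.lf 0xf9d2c88)) (.nd (.lf 0x5f17c1e) (.lf 0))))) (.nd (.nd (.nd (.nd (.lf 0x5a34100) (.lf 0xb29db8)) (.nd (.lf 0x1ca0a8d) (.lf 0xb545964))) (.nd (.nd (.lf 0x5e0a71d) (.lf 0x28d1787)) (.nd (.lf 0x1e07c13) (.lf 0x8a7560d)))) (.nd (.nd (.nd (.lf 0x224f746) (.lf 0x400926b)) (.nd (.lf 0x3ed5640) (.lf 0xbdd62ff))) (.nd (.nd (.lf 0x82d3386) (.lf 0x91a8474)) (.nd (.lf 0x2bc823) (.lf 0)))))))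
def rT_nbbab : Tr := (.nd (.nd (.nd (.nd (.nd (.nd (.lf 0x3b29266) (.lf 0xe3d7029)) (.nd (.lf 0xe0129c1) (.lf 0x77cc41e))) (.nd (.nd (.lf 0x9a94017) (.lf 0x5514a33)) (.nd (.lf 0xba9012) (.lf 0x7e971ae)))) (.nd (.nd (.nd (.lf 0x315429d) (.lf 0xb4e4a33)) (.nd (.lf 0xea874e4) (.lf 0xf7d27c7))) (.nd (.nd (.lf 0x48033a8) (.lf 0x7d69132)) (.nd (.lf 0x8cc9943) (.lf 0xb8279f))))) (.nd (.nd (.nd (.nd (.lf 0x4cee490) (.lf 0x6add992)) (.nd (.lf 0xed43867) (.lf 0x187e240))) (.nd (.nd (.lf 0x4d4cd75) (.lf 0x20ec46b)) (.nd (.lf 0x16c9464) (.lf 0xe995d72)))) (.nd (.nd (.nd (.lf 0xae18edc) (.lf 0x5ca9667)) (.nd (.lf 0xe109640) (.lf 0x23327db))) (.nd (.nd (.lf 0x616d1b3) (.lf 0x520c5e4)) (.nd (.lf 0x4606f83) (.lf 0)))))) (.nd (.nd (.nd (.nd (.nd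 (.lf 0x7894a27) (.lf 0xaaf779)) (.nd (.lf 0x9352386) (.lf 0x318b2b1))) (.nd (.nd (.lf 0xa4f23b8) (.lf 0x1538e01)) (.nd (.lf 0xd4c2b11) (.lf 0x88c86c1)))) (.nd (.nd (.nd (.lf 0xc8b8378) (.lf 0x3e2c8e9)) (.nd (.lf 0xa649f52) (.lf 0xe3e811b))) (.nd (.nd (.lf 0x5a3be42) (.lf 0x4be2006)) (.nd (.lf 0x2f1e18a) (.lf 0))))) (.nd (.nd (.nd (.nd (.lf 0xd8ec39) (.lf 0xe49a3d4)) (.nd (.lf 0xf706e70) (.lf 0xaceafaf))) (.nd (.nd (.lf 0x71884a5) (.lf 0xdd91221)) (.nd (.lf 0x2423858) (.lf 0xf748107)))) (.nd (.nd (.nd (.lf 0x4ef9998) (.lf 0x4d9ae3)) (.nd (.lf 0xcaa7aad) (.lf 0xc752487))) (.nd (.nd (.lf 0x789491e) (.lf 0x8e7b908)) (.nd (.lf 0x34334ea) (.lf 0)))))))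
def rT_nbbba : Tr := (.nd (.nd (.nd (.nd (.nd (.nd (.lf 0x9b2da7a) (.lf 0xe277bde)) (.nd (.lf 0x447a585) (.lf 0x5ad0b79))) (.nd (.nd (.lf 0xe9e2550) (.lf 0xfd22098)) (.nd (.lf 0x18418d9) (.lf 0xef423e1)))) (.nd (.nd (.nd (.lf 0xd0ba868) (.lf 0xc19a1ac)) (.nd (.lf 0x2cf64f0) (.lf 0x4698237))) (.nd (.nd (.lf 0x874d3ad) (.lf 0x2516eba)) (.nd (.lf 0x4d097d7) (.lf 0x46ac1b8))))) (.nd (.nd (.nd (.nd (.lf 0x958fc6e) (.lf 0x42ddd48)) (.nd (.lf 0xa03629) (.lf 0xedab873))) (.nd (.nd (.lf 0x29c7e0f) (.lf 0x1e3922f)) (.nd (.lf 0x98a212c) (.lf 0x1380a1c)))) (.nd (.nd (.nd (.lf 0xf18e350) (.lf 0x3fe463)) (.nd (.lf 0x8160e93) (.lf 0x76d14bd))) (.nd (.nd (.lf 0xa65369f) (.lf 0xccfdd81)) (.nd (.lf 0x3a9d790) (.lf 0)))))) (.nd (.nd (.nd (.nd (.nd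 (.lf 0x558d235) (.lf 0xd1ab90f)) (.nd (.lf 0xb1df60a) (.lf 0x48152fc))) (.nd (.nd (.lf 0xdab066b) (.lf 0x8de441b)) (.nd (.lf 0x2054ac3) (.lf 0x778be8d)))) (.nd (.nd (.nd (.lf 0xffab29b) (.lf 0x29f95bc)) (.nd (.lf 0x7cc4841) (.lf 0x7c6ac05))) (.nd (.nd (.lf 0x7b3902a) (.lf 0x2f476aa)) (.nd (.lf 0x3f957bb) (.lf 0))))) (.nd (.nd (.nd (.nd (.lf 0xe5f9e24) (.lf 0xa3be205)) (.nd (.lf 0x4dfeee) (.lf 0xfc82d62))) (.nd (.nd (.lf 0x50655ae) (.lf 0x675af9d)) (.nd (.lf 0xd3e2801) (.lf 0x8f8e159)))) (.nd (.nd (.nd (.lf 0x9304dd4) (.lf 0x651fcd5)) (.nd (.lf 0xd67fff3) (.lf 0x851ddf7))) (.nd (.nd (.lf 0x67ba6b0) (.lf 0x6ce9947)) (.nd (.lf 0x3b94ac6) (.lf 0)))))))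
def rT_nbbbb : Tr := (.nd (.nd (.nd (.nd (.nd (.nd (.lf 0x81d0bc9) (.lf 0x9102c3)) (.nd (.lf 0x5fd8d05) (.lf 0x33a2ed5))) (.nd (.nd (.lf 0xd0455a4) (.lf 0x192d71a)) (.nd (.lf 0x9139d2) (.lf 0x9810520)))) (.nd (.nd (.nd (.lf 0x2cee62) (.lf 0x4ea12b9)) (.nd (.lf 0x5926463) (.lf 0x3a3f014))) (.nd (.nd (.lf 0x1ff07ba) (.lf 0xb9b9de7)) (.nd (.lf 0x2094b3a) (.lf 0))))) (.nd (.nd (.nd (.nd (.lf 0x2b98f44) (.lf 0xb1a15a3)) (.nd (.lf 0xd5d2f4d) (.lf 0xd3978ec))) (.nd (.nd (.lf 0xa3bb749) (.lf 0xeb043b9)) (.nd (.lf 0x6dad9cb) (.lf 0x313da25)))) (.nd (.nd (.nd (.lf 0x48aed9a) (.lf 0x1f0b1b9)) (.nd (.lf 0xf1c1870) (.lf 0x5be8a05))) (.nd (.nd (.lf 0x167aab8) (.lf 0xd3538bc)) (.nd (.lf 0xc998436) (.lf 0)))))) (.nd (.nd (.nd (.nd (.nd (.lf 0x65287e7)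 (.lf 0x37648f)) (.nd (.lf 0xc22b361) (.lf 0x9ab7003))) (.nd (.nd (.lf 0xa7da08d) (.lf 0x6e1ae49)) (.nd (.lf 0x89e8899) (.lf 0x4744b13)))) (.nd (.nd (.nd (.lf 0xa675173) (.lf 0xe75ebbc)) (.nd (.lf 0x5848ab6) (.lf 0x5c0ed4b))) (.nd (.nd (.lf 0xd152607) (.lf 0xe0183c6)) (.nd (.lf 0x2a212e0) (.lf 0))))) (.nd (.nd (.nd (.nd (.lf 0xfc9dc29) (.lf 0xefb4ce8)) (.nd (.lf 0x1745143) (.lf 0x3cb89f1))) (.nd (.nd (.lf 0x61e8616) (.lf 0xf5eff6)) (.nd (.lf 0x241188f) (.lf 0xa19fd3e)))) (.nd (.nd (.nd (.lf 0x1956f14) (.lf 0xb915e4)) (.nd (.lf 0x77e8008) (.lf 0x55672ce))) (.nd (.nd (.lf 0x8535f70) (.lf 0x45cb79a)) (.nd (.lf 0xdcc4236) (.lf 0)))))))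
def rT : Tr := (.nd (.nd (.nd (.nd rT_naaaa rT_naaab) (.nd rT_naaba rT_naabb)) (.nd (.nd rT_nabaa rT_nabab) (.nd rT_nabba rT_nabbb))) (.nd (.nd (.nd rT_nbaaa rT_nbaab) (.nd rT_nbaba rT_nbabb)) (.nd (.nd rT_nbbaa rT_nbbab) (.nd rT_nbbba rT_nbbbb))))
def rkR_naaaa : Tr := (.nd (.nd (.nd (.nd (.nd (.nd (.lf 0x0) (.lf 0x297)) (.nd (.lf 0x30a) (.lf 0x1e9))) (.nd (.nd (.lf 0x1eb) (.lf 0x88)) (.nd (.lf 0x327) (.lf 0x186)))) (.nd (.nd (.nd (.lf 0x19d) (.lf 0x236)) (.nd (.lf 0x21a) (.lf 0x249))) (.nd (.nd (.lf 0xc4) (.lf 0x370)) (.nd (.lf 0x31a) (.lf 0x2b))))) (.nd (.nd (.nd (.nd (.lf 0x2a6) (.lf 0x358)) (.nd (.lf 0x29c) (.lf 0x39d))) (.nd (.nd (.lf 0x2c3) (.lf 0x165)) (.nd (.lf 0x68) (.lf 0xdb)))) (.nd (.nd (.nd (.lf 0x1f7) (.lf 0x29d))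 (.nd (.lf 0x4a) (.lf 0x160))) (.nd (.nd (.lf 0x1b7) (.lf 0x2be)) (.nd (.lf 0xa5) (.lf 0)))))) (.nd (.nd (.nd (.nd (.nd (.lf 0x270) (.lf 0x3f)) (.nd (.lf 0x261) (.lf 0x10c))) (.nd (.nd (.lf 0x1c1) (.lf 0x388)) (.nd (.lf 0x2fb) (.lf 0x352)))) (.nd (.nd (.nd (.lf 0x4c) (.lf 0x4)) (.nd (.lf 0x47) (.lf 0x1cd))) (.nd (.nd (.lf 0x1ae) (.lf 0x395)) (.nd (.lf 0x75) (.lf 0))))) (.nd (.nd (.nd (.nd (.lf 0x9b) (.lf 0x325)) (.nd (.lf 0x18c) (.lf 0x100))) (.nd (.nd (.lf 0x14a) (.lf 0x397)) (.nd (.lf 0xe3) (.lf 0x27a)))) (.nd (.nd (.nd (.lf 0x1df) (.lf 0x3a8)) (.nd (.lf 0x223) (.lf 0x336))) (.nd (.nd (.lf 0x36f) (.lf 0x42)) (.nd (.lf 0x12c) (.lf 0)))))))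
def rkR_naaab : Tr := (.nd (.nd (.nd (.nd (.nd (.nd (.lf 0x1ca) (.lf 0x344)) (.nd (.lf 0x334) (.lf 0x2ca))) (.nd (.nd (.lf 0x1a4) (.lf 0xa9)) (.nd (.lf 0xf8) (.lf 0x324)))) (.nd (.nd (.nd (.lf 0x2b4) (.lf 0x8b)) (.nd (.lf 0x309) (.lf 0x2e4))) (.nd (.nd (.lf 0x39a) (.lf 0x377)) (.nd (.lf 0x1b3) (.lf 0x3b9))))) (.nd (.nd (.nd (.nd (.lf 0x2d3) (.lf 0xe5)) (.nd (.lf 0x4d) (.lf 0x1ee))) (.nd (.nd (.lf 0x2f3) (.lf 0x2b6)) (.nd (.lf 0x7) (.lf 0x27f)))) (.nd (.nd (.nd (.lf 0x1f9) (.lf 0x2c9)) (.nd (.lf 0x3bf) (.lf 0x7e))) (.nd (.nd (.lf 0x2af) (.lf 0x10)) (.nd (.lf 0x9) (.lf 0)))))) (.nd (.nd (.nd (.nd (.nd (.lf 0x11) (.lf 0x132)) (.nd (.lf 0x1ec) (.lf 0x82))) (.nd (.nd (.lf 0x27b) (.lf 0x2a)) (.nd (.lf 0x1e3) (.lf 0x25c)))) (.nd (.nd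 (.nd (.lf 0x37c) (.lf 0x2c7)) (.nd (.lf 0x54) (.lf 0x22b))) (.nd (.nd (.lf 0x2d1) (.lf 0x14d)) (.nd (.lf 0x29f) (.lf 0))))) (.nd (.nd (.nd (.nd (.lf 0x2e7) (.lf 0x18d)) (.nd (.lf 0x3bc) (.lf 0x1b2))) (.nd (.nd (.lf 0x146) (.lf 0x19a)) (.nd (.lf 0x1e7) (.lf 0x30e)))) (.nd (.nd (.nd (.lf 0x382) (.lf 0x147)) (.nd (.lf 0x355) (.lf 0x2a1))) (.nd (.nd (.lf 0xb2) (.lf 0x3cb)) (.nd (.lf 0xe8) (.lf 0)))))))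
def rkR_naaba : Tr := (.nd (.nd (.nd (.nd (.nd (.nd (.lf 0x2b7) (.lf 0xed)) (.nd (.lf 0x251) (.lf 0x2c2))) (.nd (.nd (.lf 0x1f8) (.lf 0x1f5)) (.nd (.lf 0xdd) (.lf 0x71)))) (.nd (.nd (.nd (.lf 0x200) (.lf 0x86)) (.nd (.lf 0x339) (.lf 0x235))) (.nd (.nd (.lf 0xbd) (.lf 0x250)) (.nd (.lf 0x315) (.lf 0x84))))) (.nd (.nd (.nd (.nd (.lf 0x343) (.lf 0xcc)) (.nd (.lf 0x141) (.lf 0x365))) (.nd (.nd (.lf 0x3a2) (.lf 0x2f0)) (.nd (.lf 0xc1) (.lf 0xbf)))) (.nd (.nd (.nd (.lf 0x102) (.lf 0x2de)) (.nd (.lf 0x4f) (.lf 0x1af))) (.nd (.nd (.lf 0x1f) (.lf 0x181)) (.nd (.lf 0x9d) (.lf 0)))))) (.nd (.nd (.nd (.nd (.nd (.lf 0xb9) (.lf 0x308)) (.nd (.lf 0xa6) (.lf 0x298))) (.nd (.nd (.lf 0x13e) (.lf 0x26)) (.nd (.lf 0x1fe) (.lf 0xc6)))) (.nd (.nd (.nd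 (.lf 0x10a) (.lf 0x1b5)) (.nd (.lf 0x1cc) (.lf 0x34))) (.nd (.nd (.lf 0x328) (.lf 0x14)) (.nd (.lf 0x2fe) (.lf 0))))) (.nd (.nd (.nd (.nd (.lf 0x237) (.lf 0x2d7)) (.nd (.lf 0x282) (.lf 0x17b))) (.nd (.nd (.lf 0xe4) (.lf 0x3ae)) (.nd (.lf 0x299) (.lf 0x386)))) (.nd (.nd (.nd (.lf 0x185) (.lf 0x2f8)) (.nd (.lf 0x5e) (.lf 0x230))) (.nd (.nd (.lf 0x1a1) (.lf 0x1d)) (.nd (.lf 0x33d) (.lf 0)))))))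
def rkR_naabb : Tr := (.nd (.nd (.nd (.nd (.nd (.nd (.lf 0x1c8) (.lf 0x61)) (.nd (.lf 0x211) (.lf 0x65))) (.nd (.nd (.lf 0xa7) (.lf 0x2fa)) (.nd (.lf 0x275) (.lf 0x30d)))) (.nd (.nd (.nd (.lf 0x272) (.lf 0x10e)) (.nd (.lf 0x2d6) (.lf 0xc0))) (.nd (.nd (.lf 0x300) (.lf 0x20b)) (.nd (.lf 0x1aa) (.lf 0xf4))))) (.nd (.nd (.nd (.nd (.lf 0x310) (.lf 0x22c)) (.nd (.lf 0x17) (.lf 0x217))) (.nd (.nd (.lf 0x218) (.lf 0x38f)) (.nd (.lf 0x176) (.lf 0xe7)))) (.nd (.nd (.nd (.lf 0x1ab) (.lf 0x202)) (.nd (.lf 0x38c) (.lf 0x234))) (.nd (.nd (.lf 0x35) (.lf 0x39f)) (.nd (.lf 0xf1) (.lf 0)))))) (.nd (.nd (.nd (.nd (.nd (.lf 0x239) (.lf 0x219)) (.nd (.lf 0xf9) (.lf 0x350))) (.nd (.nd (.lf 0x167) (.lf 0x30c)) (.nd (.lf 0x21e) (.lf 0x2bf)))) (.nd (.nd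 (.nd (.lf 0x1b1) (.lf 0x206)) (.nd (.lf 0x3ab) (.lf 0x226))) (.nd (.nd (.lf 0x18a) (.lf 0x306)) (.nd (.lf 0x305) (.lf 0))))) (.nd (.nd (.nd (.nd (.lf 0x2df) (.lf 0x2a3)) (.nd (.lf 0x1cf) (.lf 0x210))) (.nd (.nd (.lf 0x180) (.lf 0x19b)) (.nd (.lf 0x3a6) (.lf 0x91)))) (.nd (.nd (.nd (.lf 0x3a1) (.lf 0x267)) (.nd (.lf 0x2b8) (.lf 0x351))) (.nd (.nd (.lf 0x2cf) (.lf 0x2ed)) (.nd (.lf 0x1fd) (.lf 0)))))))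
def rkR_nabaa : Tr := (.nd (.nd (.nd (.nd (.nd (.nd (.lf 0x228) (.lf 0x158)) (.nd (.lf 0x155) (.lf 0x264))) (.nd (.nd (.lf 0x389) (.lf 0xfa)) (.nd (.lf 0x290) (.lf 0x1f1)))) (.nd (.nd (.nd (.lf 0x3a5) (.lf 0xbe)) (.nd (.lf 0x166) (.lf 0x10d))) (.nd (.nd (.lf 0x341) (.lf 0x277)) (.nd (.lf 0x216) (.lf 0x269))))) (.nd (.nd (.nd (.nd (.lf 0x133) (.lf 0xf3)) (.nd (.lf 0x220) (.lf 0x20))) (.nd (.nd (.lf 0x139) (.lf 0xe0)) (.nd (.lf 0x25e) (.lf 0x12f)))) (.nd (.nd (.nd (.lf 0x361) (.lf 0x24a)) (.nd (.lf 0x28e) (.lf 0xe9))) (.nd (.nd (.lf 0x201) (.lf 0x76)) (.nd (.lf 0x31b) (.lf 0)))))) (.nd (.nd (.nd (.nd (.nd (.lf 0x11d) (.lf 0x3c0)) (.nd (.lf 0x26f) (.lf 0x392))) (.nd (.nd (.lf 0x37a) (.lf 0x6c)) (.nd (.lf 0x3b) (.lf 0x2a5)))) (.nd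 (.nd (.nd (.lf 0x35f) (.lf 0x39e)) (.nd (.lf 0x9e) (.lf 0x227))) (.nd (.nd (.lf 0x36) (.lf 0x2bd)) (.nd (.lf 0x280) (.lf 0))))) (.nd (.nd (.nd (.nd (.lf 0x379) (.lf 0x73)) (.nd (.lf 0x2ab) (.lf 0x222))) (.nd (.nd (.lf 0x248) (.lf 0x3d)) (.nd (.lf 0x13f) (.lf 0x153)))) (.nd (.nd (.nd (.lf 0x10f) (.lf 0xb7)) (.nd (.lf 0x55) (.lf 0x175))) (.nd (.nd (.lf 0x337) (.lf 0x9c)) (.nd (.lf 0x3a4) (.lf 0)))))))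
def rkR_nabab : Tr := (.nd (.nd (.nd (.nd (.nd (.nd (.lf 0x2ac) (.lf 0x2ef)) (.nd (.lf 0x177) (.lf 0x6))) (.nd (.nd (.lf 0x150) (.lf 0x87)) (.nd (.lf 0x3a7) (.lf 0x2fd)))) (.nd (.nd (.nd (.lf 0x12b) (.lf 0xb6)) (.nd (.lf 0x301) (.lf 0x1d5))) (.nd (.nd (.lf 0x111) (.lf 0x32b)) (.nd (.lf 0x33f) (.lf 0x2eb))))) (.nd (.nd (.nd (.nd (.lf 0x255) (.lf 0x321)) (.nd (.lf 0x34a) (.lf 0x2d8))) (.nd (.nd (.lf 0x184) (.lf 0x96)) (.nd (.lf 0x1e1) (.lf 0x2b2)))) (.nd (.nd (.nd (.lf 0x3e) (.lf 0x19e)) (.nd (.lf 0x27e) (.lf 0x22d))) (.nd (.nd (.lf 0x27d) (.lf 0x2da)) (.nd (.lf 0x345) (.lf 0)))))) (.nd (.nd (.nd (.nd (.nd (.lf 0x2c) (.lf 0x33b)) (.nd (.lf 0x24d) (.lf 0x34e))) (.nd (.nd (.lf 0x2d9) (.lf 0x313)) (.nd (.lf 0x2a4) (.lf 0x2f5)))) (.nd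 (.nd (.nd (.lf 0x203) (.lf 0xd8)) (.nd (.lf 0x1cb) (.lf 0x1f0))) (.nd (.nd (.lf 0x1a7) (.lf 0x142)) (.nd (.lf 0x2e) (.lf 0))))) (.nd (.nd (.nd (.nd (.lf 0x266) (.lf 0x36c)) (.nd (.lf 0x188) (.lf 0x2e5))) (.nd (.nd (.lf 0x2b3) (.lf 0x254)) (.nd (.lf 0x1a6) (.lf 0xca)))) (.nd (.nd (.nd (.lf 0x67) (.lf 0xce)) (.nd (.lf 0x3b7) (.lf 0x194))) (.nd (.nd (.lf 0x7d) (.lf 0x3c4)) (.nd (.lf 0x28b) (.lf 0)))))))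
def rkR_nabba : Tr := (.nd (.nd (.nd (.nd (.nd (.nd (.lf 0x33) (.lf 0x193)) (.nd (.lf 0x44) (.lf 0x295))) (.nd (.nd (.lf 0x317) (.lf 0xef)) (.nd (.lf 0x11f) (.lf 0x23)))) (.nd (.nd (.nd (.lf 0xcd) (.lf 0x2e6)) (.nd (.lf 0x19) (.lf 0x22))) (.nd (.nd (.lf 0x2e2) (.lf 0x338)) (.nd (.lf 0xdc) (.lf 0xad))))) (.nd (.nd (.nd (.nd (.lf 0x2ee) (.lf 0x36d)) (.nd (.lf 0x169) (.lf 0x274))) (.nd (.nd (.lf 0x187) (.lf 0x26e)) (.nd (.lf 0x5) (.lf 0xff)))) (.nd (.nd (.nd (.lf 0x276) (.lf 0x271)) (.nd (.lf 0x2ba) (.lf 0x214))) (.nd (.nd (.lf 0x173) (.lf 0x3b6)) (.nd (.lf 0x2ce) (.lf 0)))))) (.nd (.nd (.nd (.nd (.nd (.lf 0x1a8) (.lf 0x213)) (.nd (.lf 0xe) (.lf 0x2c8))) (.nd (.nd (.lf 0x19f) (.lf 0x121)) (.nd (.lf 0x390) (.lf 0x38a)))) (.nd (.nd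 (.nd (.lf 0x3aa) (.lf 0x35a)) (.nd (.lf 0xcb) (.lf 0x148))) (.nd (.nd (.lf 0xfd) (.lf 0x2ff)) (.nd (.lf 0x1e6) (.lf 0))))) (.nd (.nd (.nd (.nd (.lf 0x159) (.lf 0x15e)) (.nd (.lf 0x342) (.lf 0xba))) (.nd (.nd (.lf 0x31d) (.lf 0x2e0)) (.nd (.lf 0x3b8) (.lf 0x356)))) (.nd (.nd (.nd (.lf 0x1c3) (.lf 0x131)) (.nd (.lf 0x48) (.lf 0x1e))) (.nd (.nd (.lf 0x3c3) (.lf 0x3ba)) (.nd (.lf 0x163) (.lf 0)))))))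
def rkR_nabbb : Tr := (.nd (.nd (.nd (.nd (.nd (.nd (.lf 0x60) (.lf 0x97)) (.nd (.lf 0x279) (.lf 0x23d))) (.nd (.nd (.lf 0x357) (.lf 0x183)) (.nd (.lf 0x371) (.lf 0x20c)))) (.nd (.nd (.nd (.lf 0x2b0) (.lf 0x311)) (.nd (.lf 0x273) (.lf 0x262))) (.nd (.nd (.lf 0x242) (.lf 0x2a8)) (.nd (.lf 0xaa) (.lf 0xd9))))) (.nd (.nd (.nd (.nd (.lf 0x25b) (.lf 0xbc)) (.nd (.lf 0x32) (.lf 0x2f2))) (.nd (.nd (.lf 0x15b) (.lf 0x2aa)) (.nd (.lf 0x34c) (.lf 0x373)))) (.nd (.nd (.nd (.lf 0x16a) (.lf 0x1a0)) (.nd (.lf 0x20a) (.lf 0x396))) (.nd (.nd (.lf 0x93) (.lf 0x40)) (.nd (.lf 0xe1) (.lf 0)))))) (.nd (.nd (.nd (.nd (.nd (.lf 0x18e) (.lf 0x302)) (.nd (.lf 0xa0) (.lf 0x1))) (.nd (.nd (.lf 0x3ad) (.lf 0x35d)) (.nd (.lf 0x383) (.lf 0x1d0)))) (.nd (.nd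 (.nd (.lf 0x94) (.lf 0x366)) (.nd (.lf 0x340) (.lf 0x1c6))) (.nd (.nd (.lf 0x6f) (.lf 0x9a)) (.nd (.lf 0x105) (.lf 0))))) (.nd (.nd (.nd (.nd (.lf 0xa3) (.lf 0x23c)) (.nd (.lf 0x2a0) (.lf 0x17a))) (.nd (.nd (.lf 0x319) (.lf 0x362)) (.nd (.lf 0x318) (.lf 0x117)))) (.nd (.nd (.nd (.lf 0x283) (.lf 0xfb)) (.nd (.lf 0x77) (.lf 0x252))) (.nd (.nd (.lf 0x241) (.lf 0x1d6)) (.nd (.lf 0x78) (.lf 0)))))))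
def rkR_nbaaa : Tr := (.nd (.nd (.nd (.nd (.nd (.nd (.lf 0x359) (.lf 0x391)) (.nd (.lf 0x37b) (.lf 0x1c2))) (.nd (.nd (.lf 0x170) (.lf 0x3ca)) (.nd (.lf 0x80) (.lf 0x56)))) (.nd (.nd (.nd (.lf 0x2db) (.lf 0x303)) (.nd (.lf 0xc8) (.lf 0x2cb))) (.nd (.nd (.lf 0x13a) (.lf 0x363)) (.nd (.lf 0x43) (.lf 0x1ff))))) (.nd (.nd (.nd (.nd (.lf 0x29a) (.lf 0x32d)) (.nd (.lf 0x258) (.lf 0xe2))) (.nd (.nd (.lf 0x17d) (.lf 0x37e)) (.nd (.lf 0x2e3) (.lf 0xa1)))) (.nd (.nd (.nd (.lf 0x116) (.lf 0x247)) (.nd (.lf 0x291) (.lf 0x1fb))) (.nd (.nd (.lf 0x154) (.lf 0x27c)) (.nd (.lf 0x113) (.lf 0)))))) (.nd (.nd (.nd (.nd (.nd (.lf 0x378) (.lf 0x46)) (.nd (.lf 0x21f) (.lf 0x2cd))) (.nd (.nd (.lf 0x172) (.lf 0x23b)) (.nd (.lf 0x35e) (.lf 0x15f)))) (.nd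 (.nd (.nd (.lf 0x18f) (.lf 0x259)) (.nd (.lf 0x1bc) (.lf 0x39c))) (.nd (.nd (.lf 0x1d1) (.lf 0x312)) (.nd (.lf 0x114) (.lf 0))))) (.nd (.nd (.nd (.nd (.lf 0x5d) (.lf 0xb5)) (.nd (.lf 0xe6) (.lf 0xac))) (.nd (.nd (.lf 0xec) (.lf 0x15)) (.nd (.lf 0x3c2) (.lf 0x29e)))) (.nd (.nd (.nd (.lf 0x7f) (.lf 0x15a)) (.nd (.lf 0x1ed) (.lf 0x3cd))) (.nd (.nd (.lf 0x14b) (.lf 0x3a0)) (.nd (.lf 0x15c) (.lf 0)))))))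
def rkR_nbaab : Tr := (.nd (.nd (.nd (.nd (.nd (.nd (.lf 0x152) (.lf 0x1c4)) (.nd (.lf 0x164) (.lf 0x32e))) (.nd (.nd (.lf 0x20d) (.lf 0x2f7)) (.nd (.lf 0x118) (.lf 0x32c)))) (.nd (.nd (.nd (.lf 0x346) (.lf 0x81)) (.nd (.lf 0x2fc) (.lf 0x138))) (.nd (.nd (.lf 0x24b) (.lf 0xa4)) (.nd (.lf 0x1dc) (.lf 0x3a))))) (.nd (.nd (.nd (.nd (.lf 0x17f) (.lf 0x28c)) (.nd (.lf 0x195) (.lf 0x3ac))) (.nd (.nd (.lf 0x108) (.lf 0x1be)) (.nd (.lf 0xc9) (.lf 0x1b8)))) (.nd (.nd (.nd (.lf 0x18) (.lf 0x3cc)) (.nd (.lf 0x8) (.lf 0x110))) (.nd (.nd (.lf 0x3b2) (.lf 0x2bc)) (.nd (.lf 0xd6) (.lf 0)))))) (.nd (.nd (.nd (.nd (.nd (.lf 0x225) (.lf 0x1e5)) (.nd (.lf 0x268) (.lf 0x74))) (.nd (.nd (.lf 0x11b) (.lf 0x2ae)) (.nd (.lf 0x2d0) (.lf 0xb4)))) (.nd (.nd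 (.nd (.lf 0x286) (.lf 0x156)) (.nd (.lf 0xa) (.lf 0x22e))) (.nd (.nd (.lf 0x14c) (.lf 0x23a)) (.nd (.lf 0x2f6) (.lf 0))))) (.nd (.nd (.nd (.nd (.lf 0xea) (.lf 0x1b0)) (.nd (.lf 0x58) (.lf 0x79))) (.nd (.nd (.lf 0x246) (.lf 0x135)) (.nd (.lf 0x2b5) (.lf 0x1b4)))) (.nd (.nd (.nd (.lf 0x21b) (.lf 0x1bb)) (.nd (.lf 0x115) (.lf 0x374))) (.nd (.nd (.lf 0xa8) (.lf 0xb3)) (.nd (.lf 0x2cc) (.lf 0)))))))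
def rkR_nbaba : Tr := (.nd (.nd (.nd (.nd (.nd (.nd (.lf 0x45) (.lf 0x1d7)) (.nd (.lf 0x125) (.lf 0x16))) (.nd (.nd (.lf 0xa2) (.lf 0x29b)) (.nd (.lf 0x1c) (.lf 0x157)))) (.nd (.nd (.nd (.lf 0xde) (.lf 0xd5)) (.nd (.lf 0x7a) (.lf 0x387))) (.nd (.nd (.lf 0x288) (.lf 0x281)) (.nd (.lf 0x191) (.lf 0x179))))) (.nd (.nd (.nd (.nd (.lf 0x207) (.lf 0x192)) (.nd (.lf 0x34b) (.lf 0x333))) (.nd (.nd (.lf 0x5a) (.lf 0x1bf)) (.nd (.lf 0x5b) (.lf 0x244)))) (.nd (.nd (.nd (.lf 0x1a5) (.lf 0x287)) (.nd (.lf 0x1c0) (.lf 0x2b1))) (.nd (.nd (.lf 0x25a) (.lf 0x375)) (.nd (.lf 0x2dc) (.lf 0)))))) (.nd (.nd (.nd (.nd (.nd (.lf 0x2e8) (.lf 0xc7)) (.nd (.lf 0x24f) (.lf 0xb1))) (.nd (.nd (.lf 0x348) (.lf 0x293)) (.nd (.lf 0x6b) (.lf 0x3b5)))) (.nd (.nd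 (.nd (.lf 0xf6) (.lf 0x209)) (.nd (.lf 0x26b) (.lf 0x1d3))) (.nd (.nd (.lf 0x1d9) (.lf 0x31c)) (.nd (.lf 0x36e) (.lf 0))))) (.nd (.nd (.nd (.nd (.lf 0x14f) (.lf 0x32a)) (.nd (.lf 0x25d) (.lf 0x3b4))) (.nd (.nd (.lf 0x6a) (.lf 0x119)) (.nd (.lf 0x1d2) (.lf 0x1e0)))) (.nd (.nd (.nd (.lf 0x37) (.lf 0x2)) (.nd (.lf 0x231) (.lf 0x353))) (.nd (.nd (.lf 0x23e) (.lf 0x145)) (.nd (.lf 0x21d) (.lf 0)))))))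
def rkR_nbabb : Tr := (.nd (.nd (.nd (.nd (.nd (.nd (.lf 0x103) (.lf 0x1b)) (.nd (.lf 0x1bd) (.lf 0x72))) (.nd (.nd (.lf 0x2f4) (.lf 0x37f)) (.nd (.lf 0x198) (.lf 0xfc)))) (.nd (.nd (.nd (.lf 0x2ea) (.lf 0x347)) (.nd (.lf 0x62) (.lf 0xd4))) (.nd (.nd (.lf 0x240) (.lf 0x1e8)) (.nd (.lf 0x1a) (.lf 0x3))))) (.nd (.nd (.nd (.nd (.lf 0x3a9) (.lf 0x2a2)) (.nd (.lf 0x329) (.lf 0x10b))) (.nd (.nd (.lf 0x4e) (.lf 0x2c0)) (.nd (.lf 0x5f) (.lf 0x90)))) (.nd (.nd (.nd (.lf 0x33a) (.lf 0x289)) (.nd (.lf 0x53) (.lf 0x2c1))) (.nd (.nd (.lf 0x14e) (.lf 0x2c5)) (.nd (.lf 0x50) (.lf 0)))))) (.nd (.nd (.nd (.nd (.nd (.lf 0x70) (.lf 0xd1)) (.nd (.lf 0x3be) (.lf 0x2dd))) (.nd (.nd (.lf 0x11c) (.lf 0x34d)) (.nd (.lf 0x22a) (.lf 0x11e)))) (.nd (.nd (.nd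 (.lf 0x1c7) (.lf 0x2d4)) (.nd (.lf 0x8e) (.lf 0x21))) (.nd (.nd (.lf 0x1f4) (.lf 0x134)) (.nd (.lf 0x2f9) (.lf 0))))) (.nd (.nd (.nd (.nd (.lf 0x199) (.lf 0x26d)) (.nd (.lf 0x3c9) (.lf 0xc2))) (.nd (.nd (.lf 0x38d) (.lf 0x2a7)) (.nd (.lf 0x1ac) (.lf 0x1f3)))) (.nd (.nd (.nd (.lf 0x26a) (.lf 0x49)) (.nd (.lf 0x368) (.lf 0x2e9))) (.nd (.nd (.lf 0x367) (.lf 0x37d)) (.nd (.lf 0x253) (.lf 0)))))))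
def rkR_nbbaa : Tr := (.nd (.nd (.nd (.nd (.nd (.nd (.lf 0x124) (.lf 0x294)) (.nd (.lf 0x28) (.lf 0x332))) (.nd (.nd (.lf 0x140) (.lf 0xee)) (.nd (.lf 0x19c) (.lf 0x323)))) (.nd (.nd (.nd (.lf 0x39) (.lf 0x3a3)) (.nd (.lf 0xeb) (.lf 0x190))) (.nd (.nd (.lf 0x3bb) (.lf 0x6e)) (.nd (.lf 0x130) (.lf 0x1ad))))) (.nd (.nd (.nd (.nd (.lf 0x3c) (.lf 0x16c)) (.nd (.lf 0x7b) (.lf 0x316))) (.nd (.nd (.lf 0x63) (.lf 0x1c5)) (.nd (.lf 0x3c5) (.lf 0x31e)))) (.nd (.nd (.nd (.lf 0x128) (.lf 0x24e)) (.nd (.lf 0x120) (.lf 0x26c))) (.nd (.nd (.lf 0x212) (.lf 0x1e2)) (.nd (.lf 0x39b) (.lf 0)))))) (.nd (.nd (.nd (.nd (.nd (.lf 0x3b1) (.lf 0x1e4)) (.nd (.lf 0x3c1) (.lf 0x2d2))) (.nd (.nd (.lf 0x233) (.lf 0x1fc)) (.nd (.lf 0xd3) (.lf 0x109)))) (.nd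 (.nd (.nd (.lf 0x1ce) (.lf 0xdf)) (.nd (.lf 0x51) (.lf 0x136))) (.nd (.nd (.lf 0x265) (.lf 0x3bd)) (.nd (.lf 0x17e) (.lf 0))))) (.nd (.nd (.nd (.nd (.lf 0x16d) (.lf 0x2d)) (.nd (.lf 0x7c) (.lf 0x2c6))) (.nd (.nd (.lf 0x17c) (.lf 0xab)) (.nd (.lf 0x83) (.lf 0x224)))) (.nd (.nd (.nd (.lf 0x92) (.lf 0x107)) (.nd (.lf 0x104) (.lf 0x2e1))) (.nd (.nd (.lf 0x208) (.lf 0x23f)) (.nd (.lf 0xb) (.lf 0)))))))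
def rkR_nbbab : Tr := (.nd (.nd (.nd (.nd (.nd (.nd (.lf 0xf5) (.lf 0x369)) (.nd (.lf 0x35b) (.lf 0x1da))) (.nd (.nd (.lf 0x25f) (.lf 0x15d)) (.nd (.lf 0x31) (.lf 0x1fa)))) (.nd (.nd (.nd (.lf 0xd0) (.lf 0x2c4)) (.nd (.lf 0x384) (.lf 0x3b3))) (.nd (.nd (.lf 0x12a) (.lf 0x1f6)) (.nd (.lf 0x229) (.lf 0x2f))))) (.nd (.nd (.nd (.nd (.lf 0x13b) (.lf 0x1a9)) (.nd (.lf 0x38b) (.lf 0x66))) (.nd (.nd (.lf 0x13d) (.lf 0x8f)) (.nd (.lf 0x59) (.lf 0x380)))) (.nd (.nd (.nd (.lf 0x2ad) (.lf 0x178)) (.nd (.lf 0x360) (.lf 0x95))) (.nd (.nd (.lf 0x189) (.lf 0x151)) (.nd (.lf 0x123) (.lf 0)))))) (.nd (.nd (.nd (.nd (.nd (.lf 0x1de) (.lf 0x29)) (.nd (.lf 0x245) (.lf 0xd2))) (.nd (.nd (.lf 0x28a) (.lf 0x52)) (.nd (.lf 0x335) (.lf 0x21c)))) (.nd (.nd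 (.nd (.lf 0x307) (.lf 0x101)) (.nd (.lf 0x28d) (.lf 0x36a))) (.nd (.nd (.lf 0x16e) (.lf 0x137)) (.nd (.lf 0xc3) (.lf 0))))) (.nd (.nd (.nd (.nd (.lf 0x38) (.lf 0x36b)) (.nd (.lf 0x3af) (.lf 0x2a9))) (.nd (.nd (.lf 0x1c9) (.lf 0x354)) (.nd (.lf 0x99) (.lf 0x3b0)))) (.nd (.nd (.nd (.lf 0x144) (.lf 0x12)) (.nd (.lf 0x30f) (.lf 0x304))) (.nd (.nd (.lf 0x1dd) (.lf 0x232)) (.nd (.lf 0xda) (.lf 0)))))))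
def rkR_nbbba : Tr := (.nd (.nd (.nd (.nd (.nd (.nd (.lf 0x263) (.lf 0x364)) (.nd (.lf 0x11a) (.lf 0x16f))) (.nd (.nd (.lf 0x381) (.lf 0x3c8)) (.nd (.lf 0x64) (.lf 0x393)))) (.nd (.nd (.nd (.lf 0x320) (.lf 0x2ec)) (.nd (.lf 0xbb) (.lf 0x126))) (.nd (.nd (.lf 0x215) (.lf 0x9f)) (.nd (.lf 0x13c) (.lf 0x127))))) (.nd (.nd (.nd (.nd (.lf 0x24c) (.lf 0x112)) (.nd (.lf 0x27) (.lf 0x38e))) (.nd (.nd (.lf 0xae) (.lf 0x85)) (.nd (.lf 0x257) (.lf 0x4b)))) (.nd (.nd (.nd (.lf 0x398) (.lf 0xf)) (.nd (.lf 0x204) (.lf 0x1d4))) (.nd (.nd (.lf 0x28f) (.lf 0x314)) (.nd (.lf 0xf2) (.lf 0)))))) (.nd (.nd (.nd (.nd (.nd (.lf 0x162) (.lf 0x326)) (.nd (.lf 0x2bb) (.lf 0x12d))) (.nd (.nd (.lf 0x349) (.lf 0x22f)) (.nd (.lf 0x8c) (.lf 0x1d8)))) (.nd (.nd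 (.nd (.lf 0x3ce) (.lf 0xaf)) (.nd (.lf 0x1f2) (.lf 0x1ef))) (.nd (.nd (.lf 0x1ea) (.lf 0xc5)) (.nd (.lf 0x106) (.lf 0))))) (.nd (.nd (.nd (.nd (.lf 0x372) (.lf 0x285)) (.nd (.lf 0x13) (.lf 0x3c6))) (.nd (.nd (.lf 0x149) (.lf 0x1a2)) (.nd (.lf 0x331) (.lf 0x238)))) (.nd (.nd (.nd (.lf 0x243) (.lf 0x196)) (.nd (.lf 0x33e) (.lf 0x20e))) (.nd (.nd (.lf 0x1a3) (.lf 0x1b6)) (.nd (.lf 0xf7) (.lf 0)))))))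
def rkR_nbbbb : Tr := (.nd (.nd (.nd (.nd (.nd (.nd (.lf 0x205) (.lf 0x24)) (.nd (.lf 0x182) (.lf 0xd7))) (.nd (.nd (.lf 0x31f) (.lf 0x69)) (.nd (.lf 0x25) (.lf 0x256)))) (.nd (.nd (.nd (.lf 0xc) (.lf 0x143)) (.nd (.lf 0x16b) (.lf 0xf0))) (.nd (.nd (.lf 0x8a) (.lf 0x2d5)) (.nd (.lf 0x8d) (.lf 0))))) (.nd (.nd (.nd (.nd (.lf 0xb8) (.lf 0x2b9)) (.nd (.lf 0x33c) (.lf 0x330))) (.nd (.nd (.lf 0x284) (.lf 0x385)) (.nd (.lf 0x1b9) (.lf 0xcf)))) (.nd (.nd (.nd (.lf 0x12e) (.lf 0x89)) (.nd (.lf 0x399) (.lf 0x171))) (.nd (.nd (.lf 0x57) (.lf 0x32f)) (.nd (.lf 0x30b) (.lf 0)))))) (.nd (.nd (.nd (.nd (.nd (.lf 0x197) (.lf 0xd)) (.nd (.lf 0x2f1) (.lf 0x260))) (.nd (.nd (.lf 0x296) (.lf 0x1ba)) (.nd (.lf 0x221) (.lf 0x129)))) (.nd (.nd (.nd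 (.lf 0x292) (.lf 0x376)) (.nd (.lf 0x168) (.lf 0x174))) (.nd (.nd (.lf 0x322) (.lf 0x35c)) (.nd (.lf 0xb0) (.lf 0))))) (.nd (.nd (.nd (.nd (.lf 0x3c7) (.lf 0x394)) (.nd (.lf 0x5c) (.lf 0xfe))) (.nd (.nd (.lf 0x18b) (.lf 0x41)) (.nd (.lf 0x98) (.lf 0x278)))) (.nd (.nd (.nd (.lf 0x6d) (.lf 0x30)) (.nd (.lf 0x1db) (.lf 0x161))) (.nd (.nd (.lf 0x20f) (.lf 0x122)) (.nd (.lf 0x34f) (.lf 0)))))))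
def rkR : Tr := (.nd (.nd (.nd (.nd rkR_naaaa rkR_naaab) (.nd rkR_naaba rkR_naabb)) (.nd (.nd rkR_nabaa rkR_nabab) (.nd rkR_nabba rkR_nabbb))) (.nd (.nd (.nd rkR_nbaaa rkR_nbaab) (.nd rkR_nbaba rkR_nbabb)) (.nd (.nd rkR_nbbaa rkR_nbbab) (.nd rkR_nbbba rkR_nbbbb))))
def srtR_naaaa : Tr := (.nd (.nd (.nd (.nd (.nd (.nd (.lf 0x0) (.lf 0x44)) (.nd (.lf 0x330) (.lf 0xcc))) (.nd (.nd (.lf 0x181) (.lf 0x1d2)) (.nd (.lf 0xbc) (.lf 0x3ab)))) (.nd (.nd (.nd (.lf 0x2ee) (.lf 0xcd)) (.nd (.lf 0x83) (.lf 0x15e))) (.nd (.nd (.lf 0x34c) (.lf 0x2ad)) (.nd (.lf 0x165) (.lf 0x212))))) (.nd (.nd (.nd (.nd (.lf 0x322) (.lf 0x122)) (.nd (.lf 0x163) (.lf 0x47))) (.nd (.nd (.lf 0x11e) (.lf 0x13e)) (.nd (.lf 0x26e) (.lf 0x2f1)))) (.nd (.nd (.nd (.lf 0xe)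 (.lf 0x31f)) (.nd (.lf 0x360) (.lf 0x16b))) (.nd (.nd (.lf 0x2a2) (.lf 0x2b6)) (.nd (.lf 0x3b5) (.lf 0)))))) (.nd (.nd (.nd (.nd (.nd (.lf 0x2e8) (.lf 0x33c)) (.nd (.lf 0x369) (.lf 0x2c))) (.nd (.nd (.lf 0x3ad) (.lf 0x182)) (.nd (.lf 0x343) (.lf 0x196)))) (.nd (.nd (.nd (.lf 0x1ed) (.lf 0x2c4)) (.nd (.lf 0x8a) (.lf 0x31c))) (.nd (.nd (.lf 0x4b) (.lf 0x199)) (.nd (.lf 0x39e) (.lf 0))))) (.nd (.nd (.nd (.nd (.lf 0x27f) (.lf 0x374)) (.nd (.lf 0x1c3) (.lf 0x32f))) (.nd (.nd (.lf 0x1df) (.lf 0x4e)) (.nd (.lf 0x239) (.lf 0x3bb)))) (.nd (.nd (.nd (.lf 0x1d) (.lf 0x10)) (.nd (.lf 0x81) (.lf 0x2c0))) (.nd (.nd (.lf 0x34f) (.lf 0x2a4)) (.nd (.lf 0x35a) (.lf 0)))))))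
def srtR_naaab : Tr := (.nd (.nd (.nd (.nd (.nd (.nd (.lf 0x169) (.lf 0xf3)) (.nd (.lf 0xa9) (.lf 0x214))) (.nd (.nd (.lf 0x280) (.lf 0xc5)) (.nd (.lf 0x13a) (.lf 0x290)))) (.nd (.nd (.nd (.lf 0x176) (.lf 0xb2)) (.nd (.lf 0x356) (.lf 0x95))) (.nd (.nd (.lf 0x141) (.lf 0x316)) (.nd (.lf 0xc) (.lf 0x287))))) (.nd (.nd (.nd (.nd (.lf 0x103) (.lf 0x2)) (.nd (.lf 0x63) (.lf 0xd4))) (.nd (.nd (.lf 0xf9) (.lf 0x2ce)) (.nd (.lf 0x16) (.lf 0x270)))) (.nd (.nd (.nd (.lf 0x1a0) (.lf 0x119)) (.nd (.lf 0x15f) (.lf 0x17d))) (.nd (.nd (.lf 0x1f8) (.lf 0x15)) (.nd (.lf 0x2cd) (.lf 0)))))) (.nd (.nd (.nd (.nd (.nd (.lf 0x69) (.lf 0xac)) (.nd (.lf 0x189) (.lf 0x1be))) (.nd (.nd (.lf 0x1bf) (.lf 0x314)) (.nd (.lf 0x18d) (.lf 0x67)))) (.nd (.nd (.nd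 (.lf 0x139) (.lf 0x121)) (.nd (.lf 0x202) (.lf 0x220))) (.nd (.nd (.lf 0x25a) (.lf 0x32a)) (.nd (.lf 0x397) (.lf 0))))) (.nd (.nd (.nd (.nd (.lf 0x3b) (.lf 0x3b7)) (.nd (.lf 0x349) (.lf 0x2c6))) (.nd (.nd (.lf 0x2f) (.lf 0x17c)) (.nd (.lf 0x3a9) (.lf 0x1b6)))) (.nd (.nd (.nd (.lf 0x1fe) (.lf 0x3bf)) (.nd (.lf 0x26b) (.lf 0x11))) (.nd (.nd (.lf 0x188) (.lf 0x274)) (.nd (.lf 0x84) (.lf 0)))))))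
def srtR_naaba : Tr := (.nd (.nd (.nd (.nd (.nd (.nd (.lf 0x250) (.lf 0x167)) (.nd (.lf 0x173) (.lf 0x37b))) (.nd (.nd (.lf 0x3c4) (.lf 0xaf)) (.nd (.lf 0xaa) (.lf 0x14b)))) (.nd (.nd (.nd (.lf 0x106) (.lf 0x3a5)) (.nd (.lf 0x7b) (.lf 0x208))) (.nd (.nd (.lf 0xc0) (.lf 0x24b)) (.nd (.lf 0x209) (.lf 0x2fa))))) (.nd (.nd (.nd (.nd (.lf 0x20f) (.lf 0x3b3)) (.nd (.lf 0x3) (.lf 0x388))) (.nd (.nd (.lf 0x2c9) (.lf 0x19a)) (.nd (.lf 0x88) (.lf 0x1f2)))) (.nd (.nd (.nd (.lf 0x187) (.lf 0x302)) (.nd (.lf 0x109) (.lf 0x207))) (.nd (.nd (.lf 0xb4) (.lf 0x348)) (.nd (.lf 0x213) (.lf 0)))))) (.nd (.nd (.nd (.nd (.nd (.lf 0x2d4) (.lf 0x366)) (.nd (.lf 0x1d1) (.lf 0x2e7))) (.nd (.nd (.lf 0x5e) (.lf 0x203)) (.nd (.lf 0x37a) (.lf 0x23f)))) (.nd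 (.nd (.nd (.lf 0x158) (.lf 0x2ba)) (.nd (.lf 0xe1) (.lf 0x2bb))) (.nd (.nd (.lf 0x34d) (.lf 0x25d)) (.nd (.lf 0x367) (.lf 0))))) (.nd (.nd (.nd (.nd (.lf 0x354) (.lf 0x36c)) (.nd (.lf 0x2dd) (.lf 0x108))) (.nd (.nd (.lf 0x399) (.lf 0x48)) (.nd (.lf 0x3b9) (.lf 0x335)))) (.nd (.nd (.nd (.lf 0x319) (.lf 0x326)) (.nd (.lf 0x35f) (.lf 0x379))) (.nd (.nd (.lf 0x3cc) (.lf 0x8d)) (.nd (.lf 0xdd) (.lf 0)))))))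
def srtR_naabb : Tr := (.nd (.nd (.nd (.nd (.nd (.nd (.lf 0x4f) (.lf 0x38e)) (.nd (.lf 0x310) (.lf 0x29c))) (.nd (.nd (.lf 0x197) (.lf 0x229)) (.nd (.lf 0x130) (.lf 0x16c)))) (.nd (.nd (.nd (.lf 0x50) (.lf 0x27)) (.nd (.lf 0xd9) (.lf 0x1ae))) (.nd (.nd (.lf 0x224) (.lf 0x1f9)) (.nd (.lf 0x154) (.lf 0x269))))) (.nd (.nd (.nd (.nd (.lf 0x1a) (.lf 0x22c)) (.nd (.lf 0x1f0) (.lf 0x389))) (.nd (.nd (.lf 0x331) (.lf 0xa)) (.nd (.lf 0x1bd) (.lf 0x329)))) (.nd (.nd (.nd (.lf 0x292) (.lf 0x363)) (.nd (.lf 0x223) (.lf 0x23a))) (.nd (.nd (.lf 0xb1) (.lf 0x247)) (.nd (.lf 0x118) (.lf 0)))))) (.nd (.nd (.nd (.nd (.nd (.lf 0x185) (.lf 0x39b)) (.nd (.lf 0x9d) (.lf 0x2d5))) (.nd (.nd (.lf 0x2f2) (.lf 0x120)) (.nd (.lf 0x183) (.lf 0x351)))) (.nd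 (.nd (.nd (.lf 0x13f) (.lf 0x398)) (.nd (.lf 0x1f1) (.lf 0x2df))) (.nd (.nd (.lf 0x1c6) (.lf 0x1e5)) (.nd (.lf 0x1c9) (.lf 0))))) (.nd (.nd (.nd (.nd (.lf 0x23) (.lf 0x23e)) (.nd (.lf 0x1c7) (.lf 0x12f))) (.nd (.nd (.lf 0x22e) (.lf 0x2e9)) (.nd (.lf 0x151) (.lf 0x138)))) (.nd (.nd (.nd (.lf 0x133) (.lf 0x2e1)) (.nd (.lf 0xb3) (.lf 0x58))) (.nd (.nd (.lf 0x38d) (.lf 0x149)) (.nd (.lf 0x293) (.lf 0)))))))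
def srtR_nabaa : Tr := (.nd (.nd (.nd (.nd (.nd (.nd (.lf 0x275) (.lf 0x26c)) (.nd (.lf 0x64) (.lf 0x21e))) (.nd (.nd (.lf 0x318) (.lf 0x134)) (.nd (.lf 0x10f) (.lf 0x78)))) (.nd (.nd (.nd (.lf 0x2f0) (.lf 0xce)) (.nd (.lf 0x2da) (.lf 0x136))) (.nd (.nd (.lf 0x33d) (.lf 0x304)) (.nd (.lf 0x301) (.lf 0x1b1))))) (.nd (.nd (.nd (.nd (.lf 0x346) (.lf 0x332)) (.nd (.lf 0x2ff) (.lf 0xdf))) (.nd (.nd (.lf 0x85) (.lf 0x22d)) (.nd (.lf 0x2b7) (.lf 0xa4)))) (.nd (.nd (.nd (.lf 0x14d) (.lf 0x34e)) (.nd (.lf 0x17) (.lf 0x2be))) (.nd (.nd (.lf 0x321) (.lf 0xc6)) (.nd (.lf 0x2e3) (.lf 0)))))) (.nd (.nd (.nd (.nd (.nd (.lf 0x27b) (.lf 0xe3)) (.nd (.lf 0x227) (.lf 0x2d1))) (.nd (.nd (.lf 0x73) (.lf 0x5f)) (.nd (.lf 0x225) (.lf 0x312)))) (.nd (.nd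 (.nd (.lf 0x29b) (.lf 0x37e)) (.nd (.lf 0x9) (.lf 0x390))) (.nd (.nd (.lf 0x31b) (.lf 0x313)) (.nd (.lf 0x1b5) (.lf 0))))) (.nd (.nd (.nd (.nd (.lf 0x12e) (.lf 0x2fb)) (.nd (.lf 0x218) (.lf 0x303))) (.nd (.nd (.lf 0xf8) (.lf 0x3aa)) (.nd (.lf 0x338) (.lf 0xe9)))) (.nd (.nd (.nd (.lf 0x30d) (.lf 0x4c)) (.nd (.lf 0x91) (.lf 0x37))) (.nd (.nd (.lf 0x1e7) (.lf 0x32e)) (.nd (.lf 0x157) (.lf 0)))))))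
def srtR_nabab : Tr := (.nd (.nd (.nd (.nd (.nd (.nd (.lf 0x159) (.lf 0x16e)) (.nd (.lf 0x54) (.lf 0x100))) (.nd (.nd (.lf 0xcf) (.lf 0x9b)) (.nd (.lf 0xdc) (.lf 0x396)))) (.nd (.nd (.nd (.lf 0x160) (.lf 0x262)) (.nd (.lf 0xb0) (.lf 0x12a))) (.nd (.nd (.lf 0x3ba) (.lf 0x308)) (.nd (.lf 0x8) (.lf 0x281))))) (.nd (.nd (.nd (.nd (.lf 0x298) (.lf 0x19d)) (.nd (.lf 0xcb) (.lf 0x235))) (.nd (.nd (.lf 0x1ce) (.lf 0x2ae)) (.nd (.lf 0x1cc) (.lf 0x56)))) (.nd (.nd (.nd (.lf 0xb5) (.lf 0x7d)) (.nd (.lf 0x6e) (.lf 0x35b))) (.nd (.nd (.lf 0x39) (.lf 0x4d)) (.nd (.lf 0xd7) (.lf 0)))))) (.nd (.nd (.nd (.nd (.nd (.lf 0x1cd) (.lf 0x140)) (.nd (.lf 0x107) (.lf 0x1c0))) (.nd (.nd (.lf 0x2de) (.lf 0x21)) (.nd (.lf 0x2b8) (.lf 0xc8)))) (.nd (.nd (.nd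 (.lf 0xa5) (.lf 0xe5)) (.nd (.lf 0x271) (.lf 0x256))) (.nd (.nd (.lf 0x1fb) (.lf 0x2ea)) (.nd (.lf 0x30b) (.lf 0))))) (.nd (.nd (.nd (.nd (.lf 0x3c9) (.lf 0x2d9)) (.nd (.lf 0xc1) (.lf 0x6d))) (.nd (.nd (.lf 0x336) (.lf 0x166)) (.nd (.lf 0x29f) (.lf 0x2f6)))) (.nd (.nd (.nd (.lf 0x145) (.lf 0x3b0)) (.nd (.lf 0x33e) (.lf 0x92))) (.nd (.nd (.lf 0x282) (.lf 0x28c)) (.nd (.lf 0x38b) (.lf 0)))))))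
def srtR_nabba : Tr := (.nd (.nd (.nd (.nd (.nd (.nd (.lf 0x30a) (.lf 0x25c)) (.nd (.lf 0x1d7) (.lf 0x2dc))) (.nd (.nd (.lf 0x244) (.lf 0x59)) (.nd (.lf 0x380) (.lf 0x3b4)))) (.nd (.nd (.nd (.lf 0x211) (.lf 0xb9)) (.nd (.lf 0xb8) (.lf 0x49))) (.nd (.nd (.lf 0x394) (.lf 0x333)) (.nd (.lf 0x35e) (.lf 0x337))))) (.nd (.nd (.nd (.nd (.lf 0x294) (.lf 0x35c)) (.nd (.lf 0x347) (.lf 0x217))) (.nd (.nd (.lf 0x114) (.lf 0x20)) (.nd (.lf 0x1ba) (.lf 0x1bc)))) (.nd (.nd (.nd (.lf 0x32b) (.lf 0x3a)) (.nd (.lf 0x142) (.lf 0x25e))) (.nd (.nd (.lf 0x131) (.lf 0x246)) (.nd (.lf 0x1d6) (.lf 0)))))) (.nd (.nd (.nd (.nd (.nd (.lf 0x305) (.lf 0x1c2)) (.nd (.lf 0x61) (.lf 0x323))) (.nd (.nd (.lf 0x2aa) (.lf 0x9f)) (.nd (.lf 0x277) (.lf 0x36e)))) (.nd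 (.nd (.nd (.lf 0x381) (.lf 0x38f)) (.nd (.lf 0x259) (.lf 0x3b6))) (.nd (.nd (.lf 0x1e9) (.lf 0x14c)) (.nd (.lf 0x2fe) (.lf 0))))) (.nd (.nd (.nd (.nd (.lf 0xd2) (.lf 0x240)) (.nd (.lf 0x353) (.lf 0x370))) (.nd (.nd (.lf 0x24a) (.lf 0x2a8)) (.nd (.lf 0x2f7) (.lf 0x2e6)))) (.nd (.nd (.nd (.lf 0x2e2) (.lf 0x66)) (.nd (.lf 0x1ac) (.lf 0x25f))) (.nd (.nd (.lf 0x55) (.lf 0x1d9)) (.nd (.lf 0x2cb) (.lf 0)))))))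
def srtR_nabbb : Tr := (.nd (.nd (.nd (.nd (.nd (.nd (.lf 0x116) (.lf 0x377)) (.nd (.lf 0x24c) (.lf 0x3b8))) (.nd (.nd (.lf 0x15d) (.lf 0x162)) (.nd (.lf 0x1e) (.lf 0x327)))) (.nd (.nd (.nd (.lf 0xad) (.lf 0x263)) (.nd (.lf 0xed) (.lf 0x31a))) (.nd (.nd (.lf 0x27a) (.lf 0x1e6)) (.nd (.lf 0x53) (.lf 0x57))))) (.nd (.nd (.nd (.nd (.lf 0x1da) (.lf 0x359)) (.nd (.lf 0x6f) (.lf 0x309))) (.nd (.nd (.lf 0xa7) (.lf 0x299)) (.nd (.lf 0xd0) (.lf 0x2b4)))) (.nd (.nd (.nd (.lf 0x2c3) (.lf 0x2a6)) (.nd (.lf 0xdb) (.lf 0x1d5))) (.nd (.nd (.lf 0x283) (.lf 0x26)) (.nd (.lf 0x328) (.lf 0)))))) (.nd (.nd (.nd (.nd (.nd (.lf 0x376) (.lf 0x19c)) (.nd (.lf 0x39d) (.lf 0x3a3))) (.nd (.nd (.lf 0x152) (.lf 0x3b1)) (.nd (.lf 0x26a) (.lf 0x252)))) (.nd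 (.nd (.nd (.lf 0x174) (.lf 0x1a2)) (.nd (.lf 0x236) (.lf 0x191))) (.nd (.nd (.lf 0x45) (.lf 0x264)) (.nd (.lf 0x1b) (.lf 0))))) (.nd (.nd (.nd (.nd (.lf 0x6a) (.lf 0xf5)) (.nd (.lf 0x94) (.lf 0x177))) (.nd (.nd (.lf 0x242) (.lf 0x2e0)) (.nd (.lf 0x2a9) (.lf 0x11d)))) (.nd (.nd (.nd (.lf 0x368) (.lf 0x16a)) (.nd (.lf 0x1d3) (.lf 0x2a1))) (.nd (.nd (.lf 0x33f) (.lf 0x1d4)) (.nd (.lf 0x194) (.lf 0)))))))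
def srtR_nbaaa : Tr := (.nd (.nd (.nd (.nd (.nd (.nd (.lf 0x31e) (.lf 0xe2)) (.nd (.lf 0x25b) (.lf 0x14a))) (.nd (.nd (.lf 0x249) (.lf 0x2c5)) (.nd (.lf 0x2e4) (.lf 0x87)))) (.nd (.nd (.nd (.lf 0x2bf) (.lf 0xfe)) (.nd (.lf 0x124) (.lf 0xc2))) (.nd (.nd (.lf 0x1a4) (.lf 0x36d)) (.nd (.lf 0x90) (.lf 0x113))))) (.nd (.nd (.nd (.nd (.lf 0x35d) (.lf 0x19f)) (.nd (.lf 0x296) (.lf 0x22a))) (.nd (.nd (.lf 0x3a1) (.lf 0x378)) (.nd (.lf 0xf4) (.lf 0x7c)))) (.nd (.nd (.nd (.lf 0x20c) (.lf 0x110)) (.nd (.lf 0x37f) (.lf 0x62))) (.nd (.nd (.lf 0x1ee) (.lf 0x373)) (.nd (.lf 0x1aa) (.lf 0)))))) (.nd (.nd (.nd (.nd (.nd (.lf 0x18) (.lf 0x10c)) (.nd (.lf 0xca) (.lf 0x24e))) (.nd (.nd (.lf 0x3bc) (.lf 0x161)) (.nd (.lf 0x1c5) (.lf 0x201)))) (.nd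 (.nd (.nd (.lf 0x153) (.lf 0x104)) (.nd (.lf 0x2eb) (.lf 0x37c))) (.nd (.nd (.lf 0x21d) (.lf 0xd8)) (.nd (.lf 0xd1) (.lf 0))))) (.nd (.nd (.nd (.nd (.lf 0x18b) (.lf 0x175)) (.nd (.lf 0x276) (.lf 0x1b7))) (.nd (.nd (.lf 0x315) (.lf 0x365)) (.nd (.lf 0x5c) (.lf 0x13)))) (.nd (.nd (.nd (.lf 0x384) (.lf 0x266)) (.nd (.lf 0x36f) (.lf 0x18e))) (.nd (.nd (.lf 0x1ec) (.lf 0x11f)) (.nd (.lf 0x382) (.lf 0)))))))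
def srtR_nbaab : Tr := (.nd (.nd (.nd (.nd (.nd (.nd (.lf 0x1e8) (.lf 0x255)) (.nd (.lf 0x393) (.lf 0x148))) (.nd (.nd (.lf 0x26f) (.lf 0x26d)) (.nd (.lf 0xeb) (.lf 0x82)))) (.nd (.nd (.nd (.lf 0x27d) (.lf 0x340)) (.nd (.lf 0xb7) (.lf 0x97))) (.nd (.nd (.lf 0x1a9) (.lf 0x268)) (.nd (.lf 0xbb) (.lf 0x13d))))) (.nd (.nd (.nd (.nd (.lf 0x21b) (.lf 0x1cb)) (.nd (.lf 0x39f) (.lf 0x12d))) (.nd (.nd (.lf 0x288) (.lf 0x33b)) (.nd (.lf 0x22b) (.lf 0x2d)))) (.nd (.nd (.nd (.lf 0x28f) (.lf 0x3c2)) (.nd (.lf 0x126) (.lf 0x20b))) (.nd (.nd (.lf 0x362) (.lf 0x37d)) (.nd (.lf 0x300) (.lf 0)))))) (.nd (.nd (.nd (.nd (.nd (.lf 0x146) (.lf 0x21c)) (.nd (.lf 0x2b5) (.lf 0xbe))) (.nd (.nd (.lf 0x1bb) (.lf 0x1b4)) (.nd (.lf 0x3d) (.lf 0x16f)))) (.nd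 (.nd (.nd (.lf 0x1ab) (.lf 0x251)) (.nd (.lf 0x36) (.lf 0x1))) (.nd (.nd (.lf 0x3ce) (.lf 0x9a)) (.nd (.lf 0xd5) (.lf 0))))) (.nd (.nd (.nd (.nd (.lf 0x43) (.lf 0x1c)) (.nd (.lf 0xa2) (.lf 0x144))) (.nd (.nd (.lf 0x14) (.lf 0x22f)) (.nd (.lf 0x1af) (.lf 0x3c8)))) (.nd (.nd (.nd (.lf 0x339) (.lf 0x10e)) (.nd (.lf 0x3c5) (.lf 0x32))) (.nd (.nd (.lf 0x11c) (.lf 0x1dd)) (.nd (.lf 0x68) (.lf 0)))))))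
def srtR_nbaba : Tr := (.nd (.nd (.nd (.nd (.nd (.nd (.lf 0x1a6) (.lf 0xf)) (.nd (.lf 0x1de) (.lf 0x1dc))) (.nd (.nd (.lf 0x2a7) (.lf 0x237)) (.nd (.lf 0x74) (.lf 0x2af)))) (.nd (.nd (.nd (.lf 0x5) (.lf 0x11b)) (.nd (.lf 0x2f5) (.lf 0x1ea))) (.nd (.nd (.lf 0x2d7) (.lf 0x2ed)) (.nd (.lf 0x2a3) (.lf 0x1a3))))) (.nd (.nd (.nd (.nd (.lf 0x18f) (.lf 0x19)) (.nd (.lf 0x105) (.lf 0x230))) (.nd (.nd (.lf 0x1e0) (.lf 0x392)) (.nd (.lf 0x65) (.lf 0x42)))) (.nd (.nd (.nd (.lf 0x30c) (.lf 0xd3)) (.nd (.lf 0x2a0) (.lf 0x324))) (.nd (.nd (.lf 0x228) (.lf 0x33a)) (.nd (.lf 0x219) (.lf 0)))))) (.nd (.nd (.nd (.nd (.nd (.lf 0x2b1) (.lf 0xc7)) (.nd (.lf 0x179) (.lf 0x1c4))) (.nd (.nd (.lf 0x36b) (.lf 0x306)) (.nd (.lf 0x129) (.lf 0x2d0)))) (.nd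 (.nd (.nd (.lf 0x172) (.lf 0x2a)) (.nd (.lf 0x102) (.lf 0x178))) (.nd (.nd (.lf 0x245) (.lf 0x2cf)) (.nd (.lf 0x34a) (.lf 0))))) (.nd (.nd (.nd (.nd (.lf 0xec) (.lf 0x344)) (.nd (.lf 0x2b9) (.lf 0x19b))) (.nd (.nd (.lf 0x231) (.lf 0x1b9)) (.nd (.lf 0x254) (.lf 0x395)))) (.nd (.nd (.nd (.lf 0x1d0) (.lf 0x18c)) (.nd (.lf 0x372) (.lf 0x2e5))) (.nd (.nd (.lf 0xb) (.lf 0x39a)) (.nd (.lf 0x284) (.lf 0)))))))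
def srtR_nbabb : Tr := (.nd (.nd (.nd (.nd (.nd (.nd (.lf 0x21f) (.lf 0x89)) (.nd (.lf 0x342) (.lf 0x38c))) (.nd (.nd (.lf 0x1cf) (.lf 0x15b)) (.nd (.lf 0x238) (.lf 0xbd)))) (.nd (.nd (.nd (.lf 0x128) (.lf 0x11a)) (.nd (.lf 0x2d8) (.lf 0x29d))) (.nd (.nd (.lf 0x46) (.lf 0x311)) (.nd (.lf 0x350) (.lf 0x371))))) (.nd (.nd (.nd (.nd (.lf 0x233) (.lf 0x36a)) (.nd (.lf 0x317) (.lf 0x221))) (.nd (.nd (.lf 0x3c6) (.lf 0x6b)) (.nd (.lf 0x3c3) (.lf 0x9e)))) (.nd (.nd (.nd (.lf 0x7f) (.lf 0x23d)) (.nd (.lf 0x33) (.lf 0x226))) (.nd (.nd (.lf 0x204) (.lf 0x2fc)) (.nd (.lf 0x171) (.lf 0)))))) (.nd (.nd (.nd (.nd (.nd (.lf 0x2f4) (.lf 0x1f5)) (.nd (.lf 0x12) (.lf 0xb6))) (.nd (.nd (.lf 0x1e4) (.lf 0x260)) (.nd (.lf 0x40) (.lf 0x320)))) (.nd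 (.nd (.nd (.lf 0x31) (.lf 0x135)) (.nd (.lf 0x28b) (.lf 0x29e))) (.nd (.nd (.lf 0x184) (.lf 0x31d)) (.nd (.lf 0xfb) (.lf 0))))) (.nd (.nd (.nd (.nd (.lf 0x2b2) (.lf 0x30e)) (.nd (.lf 0xab) (.lf 0x1f4))) (.nd (.nd (.lf 0xc4) (.lf 0x2d2)) (.nd (.lf 0x10d) (.lf 0x2d3)))) (.nd (.nd (.nd (.lf 0xfa) (.lf 0xea)) (.nd (.lf 0xa1) (.lf 0x2fd))) (.nd (.nd (.lf 0xd6) (.lf 0x38a)) (.nd (.lf 0x1fc) (.lf 0)))))))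
def srtR_nbbaa : Tr := (.nd (.nd (.nd (.nd (.nd (.nd (.lf 0x3cd) (.lf 0x5a)) (.nd (.lf 0xd) (.lf 0x241))) (.nd (.nd (.lf 0x1b3) (.lf 0x7e)) (.nd (.lf 0x28e) (.lf 0x19e)))) (.nd (.nd (.nd (.lf 0x1c1) (.lf 0x77)) (.nd (.lf 0x24f) (.lf 0x24))) (.nd (.nd (.lf 0x1db) (.lf 0xa0)) (.nd (.lf 0x76) (.lf 0xf6))))) (.nd (.nd (.nd (.nd (.lf 0x386) (.lf 0x170)) (.nd (.lf 0x1eb) (.lf 0x383))) (.nd (.nd (.lf 0x3e) (.lf 0x23c)) (.nd (.lf 0xf7) (.lf 0x243)))) (.nd (.nd (.nd (.lf 0xa3) (.lf 0x7)) (.nd (.lf 0x1f6) (.lf 0x2c1))) (.nd (.nd (.lf 0x1b0) (.lf 0x1a1)) (.nd (.lf 0x198) (.lf 0)))))) (.nd (.nd (.nd (.nd (.nd (.lf 0x137) (.lf 0x216)) (.nd (.lf 0x1e1) (.lf 0x29a))) (.nd (.nd (.lf 0xee) (.lf 0x295)) (.nd (.lf 0x206) (.lf 0x387)))) (.nd (.nd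 (.nd (.lf 0x16d) (.lf 0x1fd)) (.nd (.lf 0x3b2) (.lf 0x375))) (.nd (.nd (.lf 0x193) (.lf 0x28)) (.nd (.lf 0x355) (.lf 0))))) (.nd (.nd (.nd (.nd (.lf 0x6) (.lf 0x93)) (.nd (.lf 0x22) (.lf 0x325))) (.nd (.nd (.lf 0x2f9) (.lf 0xba)) (.nd (.lf 0x1c8) (.lf 0x34b)))) (.nd (.nd (.nd (.lf 0x232) (.lf 0x14e)) (.nd (.lf 0xe6) (.lf 0x3ae))) (.nd (.nd (.lf 0x222) (.lf 0xa8)) (.nd (.lf 0x3bd) (.lf 0)))))))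
def srtR_nbbab : Tr := (.nd (.nd (.nd (.nd (.nd (.nd (.lf 0x1f3) (.lf 0x2cc)) (.nd (.lf 0x32d) (.lf 0x1ef))) (.nd (.nd (.lf 0x248) (.lf 0x1fa)) (.nd (.lf 0xbf) (.lf 0x12b)))) (.nd (.nd (.nd (.lf 0x3a7) (.lf 0xc9)) (.nd (.lf 0xf1) (.lf 0x125))) (.nd (.nd (.lf 0x156) (.lf 0x341)) (.nd (.lf 0x15a) (.lf 0x2f8))))) (.nd (.nd (.nd (.nd (.lf 0x3c0) (.lf 0x358)) (.nd (.lf 0x4a) (.lf 0x2ca))) (.nd (.nd (.lf 0x2b3) (.lf 0x132)) (.nd (.lf 0x6c) (.lf 0x15c)))) (.nd (.nd (.nd (.lf 0x195) (.lf 0x155)) (.nd (.lf 0x14f) (.lf 0x23b))) (.nd (.nd (.lf 0x143) (.lf 0x3ca)) (.nd (.lf 0x80) (.lf 0)))))) (.nd (.nd (.nd (.nd (.nd (.lf 0x20d) (.lf 0x79)) (.nd (.lf 0x99) (.lf 0x1e2))) (.nd (.nd (.lf 0x30) (.lf 0x285)) (.nd (.lf 0x2bc) (.lf 0x1e3)))) (.nd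 (.nd (.nd (.lf 0x1a5) (.lf 0x2e)) (.nd (.lf 0xae) (.lf 0x10b))) (.nd (.nd (.lf 0x3a0) (.lf 0x41)) (.nd (.lf 0x17f) (.lf 0))))) (.nd (.nd (.nd (.nd (.lf 0x192) (.lf 0x291)) (.nd (.lf 0x2b) (.lf 0x21a))) (.nd (.nd (.lf 0x147) (.lf 0x117)) (.nd (.lf 0x279) (.lf 0xc3)))) (.nd (.nd (.nd (.lf 0x123) (.lf 0x98)) (.nd (.lf 0x334) (.lf 0x101))) (.nd (.nd (.lf 0x27e) (.lf 0x190)) (.nd (.lf 0x361) (.lf 0)))))))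
def srtR_nbbba : Tr := (.nd (.nd (.nd (.nd (.nd (.nd (.lf 0x1a8) (.lf 0x25)) (.nd (.lf 0x273) (.lf 0x5b))) (.nd (.nd (.lf 0x28a) (.lf 0x265)) (.nd (.lf 0xa6) (.lf 0x345)))) (.nd (.nd (.nd (.lf 0x150) (.lf 0x261)) (.nd (.lf 0x278) (.lf 0x24d))) (.nd (.nd (.lf 0x215) (.lf 0x258)) (.nd (.lf 0x5d) (.lf 0x3f))))) (.nd (.nd (.nd (.nd (.lf 0x127) (.lf 0x352)) (.nd (.lf 0x3c7) (.lf 0x180))) (.nd (.nd (.lf 0x8c) (.lf 0x2bd)) (.nd (.lf 0xda) (.lf 0x18a)))) (.nd (.nd (.nd (.lf 0x7a) (.lf 0x27c)) (.nd (.lf 0x9c) (.lf 0xfd))) (.nd (.nd (.lf 0x3ac) (.lf 0x38)) (.nd (.lf 0x1b8) (.lf 0)))))) (.nd (.nd (.nd (.nd (.nd (.lf 0x12c) (.lf 0x32c)) (.nd (.lf 0x3be) (.lf 0x86))) (.nd (.nd (.lf 0x20e) (.lf 0x200)) (.nd (.lf 0x1f) (.lf 0x2b0)))) (.nd (.nd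 (.nd (.lf 0xef) (.lf 0x1a7)) (.nd (.lf 0x385) (.lf 0x8e))) (.nd (.nd (.lf 0x30f) (.lf 0x234)) (.nd (.lf 0x205) (.lf 0))))) (.nd (.nd (.nd (.nd (.lf 0x75) (.lf 0x34)) (.nd (.lf 0x2db) (.lf 0xf2))) (.nd (.nd (.lf 0x272) (.lf 0x4)) (.nd (.lf 0xe0) (.lf 0x17a)))) (.nd (.nd (.nd (.lf 0x17e) (.lf 0x2c2)) (.nd (.lf 0x10a) (.lf 0x2c8))) (.nd (.nd (.lf 0x1f7) (.lf 0x289)) (.nd (.lf 0x60) (.lf 0)))))))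
def srtR_nbbbb : Tr := (.nd (.nd (.nd (.nd (.nd (.nd (.lf 0x267) (.lf 0xff)) (.nd (.lf 0x72) (.lf 0x17b))) (.nd (.nd (.lf 0x2ab) (.lf 0xe7)) (.nd (.lf 0x51) (.lf 0x2ac)))) (.nd (.nd (.nd (.lf 0x164) (.lf 0x115)) (.nd (.lf 0x35) (.lf 0x1ff))) (.nd (.nd (.lf 0x3af) (.lf 0xfc)) (.nd (.lf 0x13c) (.lf 0))))) (.nd (.nd (.nd (.nd (.lf 0x3cb) (.lf 0x297)) (.nd (.lf 0x3a2) (.lf 0x2ef))) (.nd (.nd (.lf 0x257) (.lf 0xe8)) (.nd (.lf 0x364) (.lf 0x13b)))) (.nd (.nd (.nd (.lf 0xde) (.lf 0x112)) (.nd (.lf 0x307) (.lf 0xf0))) (.nd (.nd (.lf 0x286) (.lf 0x20a)) (.nd (.lf 0x357) (.lf 0)))))) (.nd (.nd (.nd (.nd (.nd (.lf 0xe4) (.lf 0x111)) (.nd (.lf 0x186) (.lf 0x8f))) (.nd (.nd (.lf 0x2c7) (.lf 0x1d8)) (.nd (.lf 0x96) (.lf 0x2ec)))) (.nd (.nd (.nd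 (.lf 0x1ad) (.lf 0x8b)) (.nd (.lf 0x391) (.lf 0x52))) (.nd (.nd (.lf 0x253) (.lf 0x3c)) (.nd (.lf 0x70) (.lf 0))))) (.nd (.nd (.nd (.nd (.lf 0x210) (.lf 0x2f3)) (.nd (.lf 0x1b2) (.lf 0x1ca))) (.nd (.nd (.lf 0x3a4) (.lf 0x39c)) (.nd (.lf 0x2a5) (.lf 0x168)))) (.nd (.nd (.nd (.lf 0x71) (.lf 0x3a8)) (.nd (.lf 0x29) (.lf 0x28d))) (.nd (.nd (.lf 0x3a6) (.lf 0x2d6)) (.nd (.lf 0x3c1) (.lf 0)))))))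
def srtR : Tr := (.nd (.nd (.nd (.nd srtR_naaaa srtR_naaab) (.nd srtR_naaba srtR_naabb)) (.nd (.nd srtR_nabaa srtR_nabab) (.nd srtR_nabba srtR_nabbb))) (.nd (.nd (.nd srtR_nbaaa srtR_nbaab) (.nd srtR_nbaba srtR_nbabb)) (.nd (.nd srtR_nbbaa srtR_nbbab) (.nd srtR_nbbba srtR_nbbbb))))
def parR_naaaa : Tr := (.nd (.nd (.nd (.nd (.nd (.nd (.lf 0x0) (.lf 0x13e)) (.nd (.lf 0x94) (.lf 0x219))) (.nd (.nd (.lf 0x44) (.lf 0x11a3)) (.nd (.lf 0xe5) (.lf 0x12ce)))) (.nd (.nd (.nd (.lf 0x20) (.lf 0x1170)) (.nd (.lf 0x10ba) (.lf 0x1271))) (.nd (.nd (.lf 0x6c) (.lf 0x1d6)) (.nd (.lf 0x110e) (.lf 0x1370))))) (.nd (.nd (.nd (.nd (.lf 0x100f) (.lf 0x154)) (.nd (.lf 0xa6) (.lf 0x1242))) (.nd (.nd (.lf 0x1057) (.lf 0x1bc)) (.nd (.lf 0xfa) (.lf 0x130a))))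 (.nd (.nd (.nd (.lf 0x32) (.lf 0x186)) (.nd (.lf 0x10cf) (.lf 0x12a0))) (.nd (.nd (.lf 0x1081) (.lf 0x1f6)) (.nd (.lf 0x1125) (.lf 0)))))) (.nd (.nd (.nd (.nd (.nd (.lf 0x1007) (.lf 0x14a)) (.nd (.lf 0x109d) (.lf 0x122e))) (.nd (.nd (.lf 0x4e) (.lf 0x11af)) (.nd (.lf 0x10f0) (.lf 0x12e8)))) (.nd (.nd (.nd (.lf 0x1028) (.lf 0x17b)) (.nd (.lf 0xc4) (.lf 0x28a))) (.nd (.nd (.lf 0x1077) (.lf 0x11e8)) (.nd (.lf 0x11a) (.lf 0))))) (.nd (.nd (.nd (.nd (.lf 0x1017) (.lf 0x161)) (.nd (.lf 0xaf) (.lf 0x1257))) (.nd (.nd (.lf 0x62) (.lf 0x1cc)) (.nd (.lf 0x1104) (.lf 0x33b)))) (.nd (.nd (.nd (.lf 0x3b) (.lf 0x194)) (.nd (.lf 0xda) (.lf 0x12b7))) (.nd (.nd (.lf 0x8b) (.lf 0x1207)) (.nd (.lf 0x132) (.lf 0)))))))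
def parR_naaab : Tr := (.nd (.nd (.nd (.nd (.nd (.nd (.lf 0x1003) (.lf 0x1144)) (.nd (.lf 0x1098) (.lf 0x121f))) (.nd (.nd (.lf 0x1049) (.lf 0x11aa)) (.nd (.lf 0xec) (.lf 0x2da)))) (.nd (.nd (.nd (.lf 0x24) (.lf 0x1176)) (.nd (.lf 0xbf) (.lf 0x27d))) (.nd (.nd (.lf 0x1072) (.lf 0x1dd)) (.nd (.lf 0x113) (.lf 0x391))))) (.nd (.nd (.nd (.nd (.lf 0x1013) (.lf 0x115b)) (.nd (.lf 0x10aa) (.lf 0x250))) (.nd (.nd (.lf 0x105c) (.lf 0x1c3)) (.nd (.lf 0x10ff) (.lf 0x31f)))) (.nd (.nd (.nd (.lf 0x37) (.lf 0x118c)) (.nd (.lf 0xd5) (.lf 0x2aa))) (.nd (.nd (.lf 0x87) (.lf 0x200)) (.nd (.lf 0x12c) (.lf 0)))))) (.nd (.nd (.nd (.nd (.nd (.lf 0x100b) (.lf 0x14f)) (.nd (.lf 0xa2) (.lf 0x235))) (.nd (.nd (.lf 0x52) (.lf 0x1b6)) (.nd (.lf 0xf6) (.lf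 0x2f1)))) (.nd (.nd (.nd (.lf 0x2d) (.lf 0x1181)) (.nd (.lf 0x10ca) (.lf 0x1292))) (.nd (.nd (.lf 0x107c) (.lf 0x11ef)) (.nd (.lf 0x120) (.lf 0))))) (.nd (.nd (.nd (.nd (.lf 0x101b) (.lf 0x1167)) (.nd (.lf 0x10b4) (.lf 0x1263))) (.nd (.nd (.lf 0x67) (.lf 0x11d1)) (.nd (.lf 0x110a) (.lf 0x134e)))) (.nd (.nd (.nd (.lf 0x103f) (.lf 0x19d)) (.nd (.lf 0xe1) (.lf 0x2c4))) (.nd (.nd (.lf 0x90) (.lf 0x1210)) (.nd (.lf 0x138) (.lf 0)))))))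
def parR_naaba : Tr := (.nd (.nd (.nd (.nd (.nd (.nd (.lf 0x1001) (.lf 0x141)) (.nd (.lf 0x96) (.lf 0x121c))) (.nd (.nd (.lf 0x46) (.lf 0x1a7)) (.nd (.lf 0x10e8) (.lf 0x12d3)))) (.nd (.nd (.nd (.lf 0x22) (.lf 0x174)) (.nd (.lf 0x10bc) (.lf 0x279))) (.nd (.nd (.lf 0x106f) (.lf 0x1db)) (.nd (.lf 0x111) (.lf 0x37d))))) (.nd (.nd (.nd (.nd (.lf 0x1011) (.lf 0x1156)) (.nd (.lf 0xa8) (.lf 0x1247))) (.nd (.nd (.lf 0x5a) (.lf 0x11be)) (.nd (.lf 0xfd) (.lf 0x1312)))) (.nd (.nd (.nd (.lf 0x1034) (.lf 0x1188)) (.nd (.lf 0x10d2) (.lf 0x2a6))) (.nd (.nd (.lf 0x1084) (.lf 0x11fc)) (.nd (.lf 0x1129) (.lf 0)))))) (.nd (.nd (.nd (.nd (.nd (.lf 0x1009) (.lf 0x14c)) (.nd (.lf 0xa0) (.lf 0x232))) (.nd (.nd (.lf 0x50) (.lf 0x11b2)) (.nd (.lf 0x10f3)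 (.lf 0x12eb)))) (.nd (.nd (.nd (.lf 0x2b) (.lf 0x17f)) (.nd (.lf 0x10c7) (.lf 0x128c))) (.nd (.nd (.lf 0x107a) (.lf 0x1ed)) (.nd (.lf 0x111c) (.lf 0))))) (.nd (.nd (.nd (.nd (.lf 0x1019) (.lf 0x164)) (.nd (.lf 0xb2) (.lf 0x125d))) (.nd (.nd (.lf 0x1064) (.lf 0x1cf)) (.nd (.lf 0x107) (.lf 0x1342)))) (.nd (.nd (.nd (.lf 0x3d) (.lf 0x1198)) (.nd (.lf 0x10de) (.lf 0x2be))) (.nd (.nd (.lf 0x8e) (.lf 0x20c)) (.nd (.lf 0x134) (.lf 0)))))))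
def parR_naabb : Tr := (.nd (.nd (.nd (.nd (.nd (.nd (.lf 0x1005) (.lf 0x147)) (.nd (.lf 0x109b) (.lf 0x1229))) (.nd (.nd (.lf 0x104b) (.lf 0x1ad)) (.nd (.lf 0xee) (.lf 0x2df)))) (.nd (.nd (.nd (.lf 0x26) (.lf 0x179)) (.nd (.lf 0x10c1) (.lf 0x282))) (.nd (.nd (.lf 0x75) (.lf 0x1e2)) (.nd (.lf 0x117) (.lf 0x13b4))))) (.nd (.nd (.nd (.nd (.lf 0x1015) (.lf 0x115d)) (.nd (.lf 0xad) (.lf 0x253))) (.nd (.nd (.lf 0x60) (.lf 0x11c6)) (.nd (.lf 0x102) (.lf 0x329)))) (.nd (.nd (.nd (.lf 0x39) (.lf 0x1190)) (.nd (.lf 0xd7) (.lf 0x12ad))) (.nd (.nd (.lf 0x89) (.lf 0x204)) (.nd (.lf 0x112f) (.lf 0)))))) (.nd (.nd (.nd (.nd (.nd (.lf 0x100d) (.lf 0x152)) (.nd (.lf 0xa4) (.lf 0x23d))) (.nd (.nd (.lf 0x1054) (.lf 0x1b9)) (.nd (.lf 0xf8) (.lf 0x12fa))))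 (.nd (.nd (.nd (.lf 0x30) (.lf 0x184)) (.nd (.lf 0xcd) (.lf 0x29a))) (.nd (.nd (.lf 0x7f) (.lf 0x1f3)) (.nd (.lf 0x123) (.lf 0))))) (.nd (.nd (.nd (.nd (.lf 0x101d) (.lf 0x116a)) (.nd (.lf 0x10b7) (.lf 0x26b))) (.nd (.nd (.lf 0x1069) (.lf 0x1d4)) (.nd (.lf 0x110c) (.lf 0x135b)))) (.nd (.nd (.nd (.lf 0x1041) (.lf 0x11a0)) (.nd (.lf 0xe3) (.lf 0x2c8))) (.nd (.nd (.lf 0x92) (.lf 0x1214)) (.nd (.lf 0x13b) (.lf 0)))))))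
def parR_nabaa : Tr := (.nd (.nd (.nd (.nd (.nd (.nd (.lf 0x1000) (.lf 0x140)) (.nd (.lf 0x95) (.lf 0x21b))) (.nd (.nd (.lf 0x45) (.lf 0x1a5)) (.nd (.lf 0x10e6) (.lf 0x12d0)))) (.nd (.nd (.nd (.lf 0x21) (.lf 0x1172)) (.nd (.lf 0x10bb) (.lf 0x276))) (.nd (.nd (.lf 0x106d) (.lf 0x1d8)) (.nd (.lf 0x110) (.lf 0x375))))) (.nd (.nd (.nd (.nd (.lf 0x1010) (.lf 0x155)) (.nd (.lf 0xa7) (.lf 0x1245))) (.nd (.nd (.lf 0x1058) (.lf 0x1bd)) (.nd (.lf 0xfb) (.lf 0x30e)))) (.nd (.nd (.nd (.lf 0x33) (.lf 0x187)) (.nd (.lf 0xd1) (.lf 0x2a2))) (.nd (.nd (.lf 0x1082) (.lf 0x11f8)) (.nd (.lf 0x1126) (.lf 0)))))) (.nd (.nd (.nd (.nd (.nd (.lf 0x1008) (.lf 0x14b)) (.nd (.lf 0x109e) (.lf 0x230))) (.nd (.nd (.lf 0x4f) (.lf 0x1b1)) (.nd (.lf 0xf2) (.lf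 0x2ea)))) (.nd (.nd (.nd (.lf 0x2a) (.lf 0x117c)) (.nd (.lf 0xc6) (.lf 0x128b))) (.nd (.nd (.lf 0x1079) (.lf 0x1ec)) (.nd (.lf 0x11b) (.lf 0))))) (.nd (.nd (.nd (.nd (.lf 0x1018) (.lf 0x1162)) (.nd (.lf 0xb1) (.lf 0x259))) (.nd (.nd (.lf 0x1063) (.lf 0x1cd)) (.nd (.lf 0x1105) (.lf 0x33e)))) (.nd (.nd (.nd (.lf 0x3c) (.lf 0x1197)) (.nd (.lf 0x10db) (.lf 0x12bc))) (.nd (.nd (.lf 0x108c) (.lf 0x20a)) (.nd (.lf 0x133) (.lf 0)))))))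
def parR_nabab : Tr := (.nd (.nd (.nd (.nd (.nd (.nd (.lf 0x1004) (.lf 0x146)) (.nd (.lf 0x9a) (.lf 0x1227))) (.nd (.nd (.lf 0x104a) (.lf 0x1ac)) (.nd (.lf 0xed) (.lf 0x2dc)))) (.nd (.nd (.nd (.lf 0x25) (.lf 0x178)) (.nd (.lf 0xc0) (.lf 0x27f))) (.nd (.nd (.lf 0x1073) (.lf 0x1df)) (.nd (.lf 0x116) (.lf 0x13a6))))) (.nd (.nd (.nd (.nd (.lf 0x1014) (.lf 0x115c)) (.nd (.lf 0xac) (.lf 0x252))) (.nd (.nd (.lf 0x105e) (.lf 0x11c4)) (.nd (.lf 0x1100) (.lf 0x323)))) (.nd (.nd (.nd (.lf 0x38) (.lf 0x118d)) (.nd (.lf 0xd6) (.lf 0x12ac))) (.nd (.nd (.lf 0x88) (.lf 0x1202)) (.nd (.lf 0x12e) (.lf 0)))))) (.nd (.nd (.nd (.nd (.nd (.lf 0x100c) (.lf 0x1150)) (.nd (.lf 0xa3) (.lf 0x23a))) (.nd (.nd (.lf 0x1053) (.lf 0x11b7)) (.nd (.lf 0xf7) (.lf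 0x12f5)))) (.nd (.nd (.nd (.lf 0x2f) (.lf 0x1182)) (.nd (.lf 0xcc) (.lf 0x297))) (.nd (.nd (.lf 0x107d) (.lf 0x1f1)) (.nd (.lf 0x1121) (.lf 0))))) (.nd (.nd (.nd (.nd (.lf 0x101c) (.lf 0x169)) (.nd (.lf 0x10b6) (.lf 0x267))) (.nd (.nd (.lf 0x1068) (.lf 0x11d2)) (.nd (.lf 0x110b) (.lf 0x357)))) (.nd (.nd (.nd (.lf 0x1040) (.lf 0x19f)) (.nd (.lf 0xe2) (.lf 0x12c6))) (.nd (.nd (.lf 0x91) (.lf 0x212)) (.nd (.lf 0x13a) (.lf 0)))))))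
def parR_nabba : Tr := (.nd (.nd (.nd (.nd (.nd (.nd (.lf 0x1002) (.lf 0x142)) (.nd (.lf 0x1097) (.lf 0x21e))) (.nd (.nd (.lf 0x1047) (.lf 0x11a9)) (.nd (.lf 0xea) (.lf 0x12d6)))) (.nd (.nd (.nd (.lf 0x23) (.lf 0x175)) (.nd (.lf 0x10bd) (.lf 0x27b))) (.nd (.nd (.lf 0x1070) (.lf 0x1dc)) (.nd (.lf 0x112) (.lf 0x388))))) (.nd (.nd (.nd (.nd (.lf 0x1012) (.lf 0x15a)) (.nd (.lf 0xa9) (.lf 0x124c))) (.nd (.nd (.lf 0x5b) (.lf 0x11c0)) (.nd (.lf 0x10fe) (.lf 0x1318)))) (.nd (.nd (.nd (.lf 0x36) (.lf 0x18a)) (.nd (.lf 0xd4) (.lf 0x2a8))) (.nd (.nd (.lf 0x1085) (.lf 0x11fd)) (.nd (.lf 0x112a) (.lf 0)))))) (.nd (.nd (.nd (.nd (.nd (.lf 0x100a) (.lf 0x14d)) (.nd (.lf 0xa1) (.lf 0x1233))) (.nd (.nd (.lf 0x51) (.lf 0x1b5)) (.nd (.lf 0xf5) (.lf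 0x12ed)))) (.nd (.nd (.nd (.lf 0x2c) (.lf 0x180)) (.nd (.lf 0xc9) (.lf 0x290))) (.nd (.nd (.lf 0x107b) (.lf 0x11ee)) (.nd (.lf 0x11e) (.lf 0))))) (.nd (.nd (.nd (.nd (.lf 0x101a) (.lf 0x1165)) (.nd (.lf 0xb3) (.lf 0x1260))) (.nd (.nd (.lf 0x1065) (.lf 0x11d0)) (.nd (.lf 0x109) (.lf 0x348)))) (.nd (.nd (.nd (.lf 0x103e) (.lf 0x19b)) (.nd (.lf 0x10df) (.lf 0x12c2))) (.nd (.nd (.lf 0x8f) (.lf 0x20f)) (.nd (.lf 0x136) (.lf 0)))))))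
def parR_nabbb : Tr := (.nd (.nd (.nd (.nd (.nd (.nd (.lf 0x1006) (.lf 0x148)) (.nd (.lf 0x109c) (.lf 0x122b))) (.nd (.nd (.lf 0x104c) (.lf 0x11ae)) (.nd (.lf 0xef) (.lf 0x12e7)))) (.nd (.nd (.nd (.lf 0x27) (.lf 0x17a)) (.nd (.lf 0x10c2) (.lf 0x1284))) (.nd (.nd (.lf 0x76) (.lf 0x11e5)) (.nd (.lf 0x1118) (.lf 0x13ca))))) (.nd (.nd (.nd (.nd (.lf 0x1016) (.lf 0x115e)) (.nd (.lf 0xae) (.lf 0x256))) (.nd (.nd (.lf 0x61) (.lf 0x1c9)) (.nd (.lf 0x103) (.lf 0x1333)))) (.nd (.nd (.nd (.lf 0x3a) (.lf 0x192)) (.nd (.lf 0xd9) (.lf 0x2b3))) (.nd (.nd (.lf 0x8a) (.lf 0x206)) (.nd (.lf 0x131) (.lf 0)))))) (.nd (.nd (.nd (.nd (.nd (.lf 0x100e) (.lf 0x153)) (.nd (.lf 0xa5) (.lf 0x23f))) (.nd (.nd (.lf 0x1055) (.lf 0x11ba)) (.nd (.lf 0xf9) (.lf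 0x1302)))) (.nd (.nd (.nd (.lf 0x31) (.lf 0x185)) (.nd (.lf 0xce) (.lf 0x29e))) (.nd (.nd (.lf 0x1080) (.lf 0x11f4)) (.nd (.lf 0x124) (.lf 0))))) (.nd (.nd (.nd (.nd (.lf 0x1f) (.lf 0x116d)) (.nd (.lf 0x10b8) (.lf 0x26d))) (.nd (.nd (.lf 0x6b) (.lf 0x1d5)) (.nd (.lf 0x110d) (.lf 0x364)))) (.nd (.nd (.nd (.lf 0x43) (.lf 0x1a2)) (.nd (.lf 0xe4) (.lf 0x12cc))) (.nd (.nd (.lf 0x93) (.lf 0x218)) (.nd (.lf 0x113c) (.lf 0)))))))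
def parR_nbaaa : Tr := (.nd (.nd (.nd (.nd (.nd (.nd (.lf 0x0) (.lf 0x113e)) (.nd (.lf 0x1094) (.lf 0x1219))) (.nd (.nd (.lf 0x1044) (.lf 0x1a4)) (.nd (.lf 0xe6) (.lf 0x12cf)))) (.nd (.nd (.nd (.lf 0x1020) (.lf 0x1171)) (.nd (.lf 0xbb) (.lf 0x1274))) (.nd (.nd (.lf 0x106c) (.lf 0x1d7)) (.nd (.lf 0x110f) (.lf 0x1373))))) (.nd (.nd (.nd (.nd (.lf 0x10) (.lf 0x1154)) (.nd (.lf 0x10a6) (.lf 0x244))) (.nd (.nd (.lf 0x58) (.lf 0x11bc)) (.nd (.lf 0x10fa) (.lf 0x130c)))) (.nd (.nd (.nd (.lf 0x1032) (.lf 0x1186)) (.nd (.lf 0xd0) (.lf 0x2a1))) (.nd (.nd (.lf 0x82) (.lf 0x11f6)) (.nd (.lf 0x126) (.lf 0)))))) (.nd (.nd (.nd (.nd (.nd (.lf 0x8) (.lf 0x114a)) (.nd (.lf 0x9e) (.lf 0x22f))) (.nd (.nd (.lf 0x104e) (.lf 0x11b0)) (.nd (.lf 0x10f1)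 (.lf 0x12e9)))) (.nd (.nd (.nd (.lf 0x29) (.lf 0x17c)) (.nd (.lf 0xc5) (.lf 0x28b))) (.nd (.nd (.lf 0x1078) (.lf 0x11ea)) (.nd (.lf 0x111a) (.lf 0))))) (.nd (.nd (.nd (.nd (.lf 0x18) (.lf 0x162)) (.nd (.lf 0xb0) (.lf 0x1258))) (.nd (.nd (.lf 0x1062) (.lf 0x11cc)) (.nd (.lf 0x105) (.lf 0x33c)))) (.nd (.nd (.nd (.lf 0x103b) (.lf 0x1194)) (.nd (.lf 0x10da) (.lf 0x2b8))) (.nd (.nd (.lf 0x108b) (.lf 0x208)) (.nd (.lf 0x1132) (.lf 0)))))))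
def parR_nbaab : Tr := (.nd (.nd (.nd (.nd (.nd (.nd (.lf 0x4) (.lf 0x145)) (.nd (.lf 0x99) (.lf 0x221))) (.nd (.nd (.lf 0x4a) (.lf 0x11ab)) (.nd (.lf 0x10ec) (.lf 0x12db)))) (.nd (.nd (.nd (.lf 0x1024) (.lf 0x1177)) (.nd (.lf 0x10bf) (.lf 0x127e))) (.nd (.nd (.lf 0x73) (.lf 0x11de)) (.nd (.lf 0x1113) (.lf 0x396))))) (.nd (.nd (.nd (.nd (.lf 0x14) (.lf 0x15c)) (.nd (.lf 0xab) (.lf 0x251))) (.nd (.nd (.lf 0x5d) (.lf 0x11c3)) (.nd (.lf 0x100) (.lf 0x321)))) (.nd (.nd (.nd (.lf 0x1037) (.lf 0x18d)) (.nd (.lf 0x10d5) (.lf 0x12aa))) (.nd (.nd (.lf 0x1087) (.lf 0x1200)) (.nd (.lf 0x112d) (.lf 0)))))) (.nd (.nd (.nd (.nd (.nd (.lf 0xc) (.lf 0x114f)) (.nd (.lf 0x10a2) (.lf 0x1239))) (.nd (.nd (.lf 0x53) (.lf 0x11b6)) (.nd (.lf 0x10f6)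 (.lf 0x2f5)))) (.nd (.nd (.nd (.lf 0x2e) (.lf 0x182)) (.nd (.lf 0xcb) (.lf 0x294))) (.nd (.nd (.lf 0x7d) (.lf 0x11f0)) (.nd (.lf 0x1120) (.lf 0))))) (.nd (.nd (.nd (.nd (.lf 0x1c) (.lf 0x168)) (.nd (.lf 0x10b5) (.lf 0x1266))) (.nd (.nd (.lf 0x68) (.lf 0x1d2)) (.nd (.lf 0x10b) (.lf 0x1353)))) (.nd (.nd (.nd (.lf 0x40) (.lf 0x119d)) (.nd (.lf 0x10e1) (.lf 0x12c4))) (.nd (.nd (.lf 0x1090) (.lf 0x1211)) (.nd (.lf 0x1139) (.lf 0)))))))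
def parR_nbaba : Tr := (.nd (.nd (.nd (.nd (.nd (.nd (.lf 0x2) (.lf 0x1141)) (.nd (.lf 0x1096) (.lf 0x121d))) (.nd (.nd (.lf 0x1046) (.lf 0x1a8)) (.nd (.lf 0x10e9) (.lf 0x2d6)))) (.nd (.nd (.nd (.lf 0x1022) (.lf 0x1174)) (.nd (.lf 0xbd) (.lf 0x27a))) (.nd (.nd (.lf 0x70) (.lf 0x11db)) (.nd (.lf 0x1111) (.lf 0x382))))) (.nd (.nd (.nd (.nd (.lf 0x12) (.lf 0x159)) (.nd (.lf 0x10a8) (.lf 0x24a))) (.nd (.nd (.lf 0x105a) (.lf 0x1bf)) (.nd (.lf 0x10fd) (.lf 0x314)))) (.nd (.nd (.nd (.lf 0x35) (.lf 0x1189)) (.nd (.lf 0xd3) (.lf 0x2a7))) (.nd (.nd (.lf 0x85) (.lf 0x1fd)) (.nd (.lf 0x12a) (.lf 0)))))) (.nd (.nd (.nd (.nd (.nd (.lf 0xa) (.lf 0x114c)) (.nd (.lf 0x10a0) (.lf 0x1232))) (.nd (.nd (.lf 0x1050) (.lf 0x1b4)) (.nd (.lf 0xf4) (.lf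 0x2ec)))) (.nd (.nd (.nd (.lf 0x102b) (.lf 0x117f)) (.nd (.lf 0x10c8) (.lf 0x28d))) (.nd (.nd (.lf 0x7b) (.lf 0x11ed)) (.nd (.lf 0x111d) (.lf 0))))) (.nd (.nd (.nd (.nd (.lf 0x1a) (.lf 0x1164)) (.nd (.lf 0x10b2) (.lf 0x125f))) (.nd (.nd (.lf 0x65) (.lf 0x1d0)) (.nd (.lf 0x1107) (.lf 0x343)))) (.nd (.nd (.nd (.lf 0x3e) (.lf 0x119a)) (.nd (.lf 0xdf) (.lf 0x12c0))) (.nd (.nd (.lf 0x108e) (.lf 0x20d)) (.nd (.lf 0x1135) (.lf 0)))))))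
def parR_nbabb : Tr := (.nd (.nd (.nd (.nd (.nd (.nd (.lf 0x6) (.lf 0x1147)) (.nd (.lf 0x9c) (.lf 0x22b))) (.nd (.nd (.lf 0x4c) (.lf 0x11ad)) (.nd (.lf 0x10ee) (.lf 0x12e6)))) (.nd (.nd (.nd (.lf 0x1026) (.lf 0x1179)) (.nd (.lf 0xc2) (.lf 0x1283))) (.nd (.nd (.lf 0x1075) (.lf 0x1e5)) (.nd (.lf 0x1117) (.lf 0x3ba))))) (.nd (.nd (.nd (.nd (.lf 0x16) (.lf 0x15e)) (.nd (.lf 0x10ad) (.lf 0x1255))) (.nd (.nd (.lf 0x1060) (.lf 0x1c7)) (.nd (.lf 0x1102) (.lf 0x32c)))) (.nd (.nd (.nd (.lf 0x1039) (.lf 0x191)) (.nd (.lf 0x10d7) (.lf 0x12b0))) (.nd (.nd (.lf 0x1089) (.lf 0x1205)) (.nd (.lf 0x1130) (.lf 0)))))) (.nd (.nd (.nd (.nd (.nd (.lf 0xe) (.lf 0x1152)) (.nd (.lf 0x10a4) (.lf 0x123d))) (.nd (.nd (.lf 0x55) (.lf 0x11b9)) (.nd (.lf 0x10f8)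 (.lf 0x300)))) (.nd (.nd (.nd (.lf 0x1030) (.lf 0x1184)) (.nd (.lf 0x10cd) (.lf 0x129c))) (.nd (.nd (.lf 0x80) (.lf 0x1f4)) (.nd (.lf 0x1123) (.lf 0))))) (.nd (.nd (.nd (.nd (.lf 0x1e) (.lf 0x16c)) (.nd (.lf 0xb8) (.lf 0x126c))) (.nd (.nd (.lf 0x106a) (.lf 0x11d4)) (.nd (.lf 0x10d) (.lf 0x360)))) (.nd (.nd (.nd (.lf 0x42) (.lf 0x1a1)) (.nd (.lf 0x10e3) (.lf 0x2ca))) (.nd (.nd (.lf 0x1092) (.lf 0x1215)) (.nd (.lf 0x113b) (.lf 0)))))))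
def parR_nbbaa : Tr := (.nd (.nd (.nd (.nd (.nd (.nd (.lf 0x1) (.lf 0x1140)) (.nd (.lf 0x1095) (.lf 0x121b))) (.nd (.nd (.lf 0x1045) (.lf 0x11a6)) (.nd (.lf 0x10e7) (.lf 0x2d3)))) (.nd (.nd (.nd (.lf 0x1021) (.lf 0x1173)) (.nd (.lf 0xbc) (.lf 0x278))) (.nd (.nd (.lf 0x6f) (.lf 0x11da)) (.nd (.lf 0x1110) (.lf 0x37c))))) (.nd (.nd (.nd (.nd (.lf 0x11) (.lf 0x1155)) (.nd (.lf 0x10a7) (.lf 0x246))) (.nd (.nd (.lf 0x59) (.lf 0x1be)) (.nd (.lf 0x10fc) (.lf 0x130f)))) (.nd (.nd (.nd (.lf 0x1033) (.lf 0x188)) (.nd (.lf 0x10d1) (.lf 0x2a5))) (.nd (.nd (.lf 0x84) (.lf 0x11f9)) (.nd (.lf 0x1127) (.lf 0)))))) (.nd (.nd (.nd (.nd (.nd (.lf 0x9) (.lf 0x114b)) (.nd (.lf 0x109f) (.lf 0x1231))) (.nd (.nd (.lf 0x104f) (.lf 0x1b2)) (.nd (.lf 0x10f2)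 (.lf 0x12ea)))) (.nd (.nd (.nd (.lf 0x102a) (.lf 0x17e)) (.nd (.lf 0x10c6) (.lf 0x28c))) (.nd (.nd (.lf 0x7a) (.lf 0x11ec)) (.nd (.lf 0x11c) (.lf 0))))) (.nd (.nd (.nd (.nd (.lf 0x19) (.lf 0x163)) (.nd (.lf 0x10b1) (.lf 0x125b))) (.nd (.nd (.lf 0x64) (.lf 0x11ce)) (.nd (.lf 0x106) (.lf 0x133f)))) (.nd (.nd (.nd (.lf 0x103c) (.lf 0x198)) (.nd (.lf 0x10dd) (.lf 0x2bd))) (.nd (.nd (.lf 0x108d) (.lf 0x120b)) (.nd (.lf 0x1133) (.lf 0)))))))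
def parR_nbbab : Tr := (.nd (.nd (.nd (.nd (.nd (.nd (.lf 0x5) (.lf 0x1146)) (.nd (.lf 0x9b) (.lf 0x229))) (.nd (.nd (.lf 0x4b) (.lf 0x11ac)) (.nd (.lf 0x10ed) (.lf 0x12dc)))) (.nd (.nd (.nd (.lf 0x1025) (.lf 0x1178)) (.nd (.lf 0x10c0) (.lf 0x127f))) (.nd (.nd (.lf 0x74) (.lf 0x11e0)) (.nd (.lf 0x1116) (.lf 0x3af))))) (.nd (.nd (.nd (.nd (.lf 0x15) (.lf 0x15d)) (.nd (.lf 0x10ac) (.lf 0x1252))) (.nd (.nd (.lf 0x5f) (.lf 0x1c5)) (.nd (.lf 0x101) (.lf 0x1328)))) (.nd (.nd (.nd (.lf 0x1038) (.lf 0x18f)) (.nd (.lf 0x10d6) (.lf 0x2ad))) (.nd (.nd (.lf 0x1088) (.lf 0x203)) (.nd (.lf 0x112e) (.lf 0)))))) (.nd (.nd (.nd (.nd (.nd (.lf 0xd) (.lf 0x151)) (.nd (.lf 0x10a3) (.lf 0x23b))) (.nd (.nd (.lf 0x54) (.lf 0x1b8)) (.nd (.lf 0x10f7) (.lf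 0x2f6)))) (.nd (.nd (.nd (.lf 0x102f) (.lf 0x1183)) (.nd (.lf 0x10cc) (.lf 0x1299))) (.nd (.nd (.lf 0x7e) (.lf 0x11f2)) (.nd (.lf 0x1122) (.lf 0))))) (.nd (.nd (.nd (.nd (.lf 0x1d) (.lf 0x16a)) (.nd (.lf 0xb7) (.lf 0x1268))) (.nd (.nd (.lf 0x69) (.lf 0x1d3)) (.nd (.lf 0x10c) (.lf 0x359)))) (.nd (.nd (.nd (.lf 0x41) (.lf 0x1a0)) (.nd (.lf 0x10e2) (.lf 0x12c7))) (.nd (.nd (.lf 0x1091) (.lf 0x1213)) (.nd (.lf 0x113a) (.lf 0)))))))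
def parR_nbbba : Tr := (.nd (.nd (.nd (.nd (.nd (.nd (.lf 0x3) (.lf 0x1143)) (.nd (.lf 0x98) (.lf 0x121e))) (.nd (.nd (.lf 0x48) (.lf 0x1aa)) (.nd (.lf 0xeb) (.lf 0x12d9)))) (.nd (.nd (.nd (.lf 0x1023) (.lf 0x1175)) (.nd (.lf 0xbe) (.lf 0x127b))) (.nd (.nd (.lf 0x71) (.lf 0x11dc)) (.nd (.lf 0x1112) (.lf 0x138e))))) (.nd (.nd (.nd (.nd (.lf 0x13) (.lf 0x115a)) (.nd (.lf 0x10a9) (.lf 0x124d))) (.nd (.nd (.lf 0x105b) (.lf 0x11c1)) (.nd (.lf 0xff) (.lf 0x131c)))) (.nd (.nd (.nd (.lf 0x1036) (.lf 0x118b)) (.nd (.lf 0x10d4) (.lf 0x2a9))) (.nd (.nd (.lf 0x86) (.lf 0x1ff)) (.nd (.lf 0x12b) (.lf 0)))))) (.nd (.nd (.nd (.nd (.nd (.lf 0xb) (.lf 0x114e)) (.nd (.lf 0x10a1) (.lf 0x234))) (.nd (.nd (.lf 0x1051) (.lf 0x11b5)) (.nd (.lf 0x10f5)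 (.lf 0x12ef)))) (.nd (.nd (.nd (.lf 0x102c) (.lf 0x181)) (.nd (.lf 0xca) (.lf 0x1291))) (.nd (.nd (.lf 0x7c) (.lf 0x1ef)) (.nd (.lf 0x111e) (.lf 0))))) (.nd (.nd (.nd (.nd (.lf 0x1b) (.lf 0x167)) (.nd (.lf 0xb4) (.lf 0x1261))) (.nd (.nd (.lf 0x66) (.lf 0x1d1)) (.nd (.lf 0x1109) (.lf 0x34d)))) (.nd (.nd (.nd (.lf 0x3f) (.lf 0x119c)) (.nd (.lf 0x10e0) (.lf 0x2c3))) (.nd (.nd (.lf 0x108f) (.lf 0x120f)) (.nd (.lf 0x137) (.lf 0)))))))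
def parR_nbbbb : Tr := (.nd (.nd (.nd (.nd (.nd (.nd (.lf 0x7) (.lf 0x149)) (.nd (.lf 0x9d) (.lf 0x22c))) (.nd (.nd (.lf 0x4d) (.lf 0x1af)) (.nd (.lf 0x10ef) (.lf 0x2e8)))) (.nd (.nd (.nd (.lf 0x1027) (.lf 0x117a)) (.nd (.lf 0xc3) (.lf 0x285))) (.nd (.nd (.lf 0x77) (.lf 0x11e7)) (.nd (.lf 0x119) (.lf 0))))) (.nd (.nd (.nd (.nd (.lf 0x17) (.lf 0x15f)) (.nd (.lf 0x10ae) (.lf 0x1256))) (.nd (.nd (.lf 0x1061) (.lf 0x1ca)) (.nd (.lf 0x104) (.lf 0x1336)))) (.nd (.nd (.nd (.lf 0x103a) (.lf 0x193)) (.nd (.lf 0x10d9) (.lf 0x12b3))) (.nd (.nd (.lf 0x108a) (.lf 0x207)) (.nd (.lf 0x1131) (.lf 0)))))) (.nd (.nd (.nd (.nd (.nd (.lf 0xf) (.lf 0x1153)) (.nd (.lf 0x10a5) (.lf 0x1241))) (.nd (.nd (.lf 0x1056) (.lf 0x1bb)) (.nd (.lf 0x10f9) (.lf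 0x1303)))) (.nd (.nd (.nd (.lf 0x1031) (.lf 0x1185)) (.nd (.lf 0x10ce) (.lf 0x129e))) (.nd (.nd (.lf 0x81) (.lf 0x1f5)) (.nd (.lf 0x125) (.lf 0))))) (.nd (.nd (.nd (.nd (.lf 0x101f) (.lf 0x16f)) (.nd (.lf 0xb9) (.lf 0x26f))) (.nd (.nd (.lf 0x106b) (.lf 0x11d5)) (.nd (.lf 0x10e) (.lf 0x36f)))) (.nd (.nd (.nd (.lf 0x1043) (.lf 0x11a2)) (.nd (.lf 0x10e4) (.lf 0x2cd))) (.nd (.nd (.lf 0x1093) (.lf 0x1218)) (.nd (.lf 0x113d) (.lf 0)))))))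
def parR : Tr := (.nd (.nd (.nd (.nd parR_naaaa parR_naaab) (.nd parR_naaba parR_naabb)) (.nd (.nd parR_nabaa parR_nabab) (.nd parR_nabba parR_nabbb))) (.nd (.nd (.nd parR_nbaaa parR_nbaab) (.nd parR_nbaba parR_nbabb)) (.nd (.nd parR_nbbaa parR_nbbab) (.nd parR_nbbba parR_nbbbb))))
def tabR0_naaaa : Tr := (.nd (.nd (.nd (.nd (.nd (.nd (.lf 0x1) (.lf 0x2e8)) (.nd (.lf 0x1a9) (.lf 0x39d))) (.nd (.nd (.lf 0xdd) (.lf 0xf3)) (.nd (.lf 0x256) (.lf 0xb4)))) (.nd (.nd (.nd (.lf 0x79) (.lf 0x2cb)) (.nd (.lf 0x202) (.lf 0x394))) (.nd (.nd (.lf 0x14a) (.lf 0x327)) (.nd (.lf 0x25d) (.lf 0x291))))) (.nd (.nd (.nd (.nd (.lf 0x40) (.lf 0x26a)) (.nd (.lf 0x1d8) (.lf 0x379))) (.nd (.nd (.lf 0x114) (.lf 0x25a)) (.nd (.lf 0x27b) (.lf 0x2e3)))) (.nd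 (.nd (.nd (.lf 0xac) (.lf 0x121)) (.nd (.lf 0x7a) (.lf 0x3bd))) (.nd (.nd (.lf 0x4d) (.lf 0x213)) (.nd (.lf 0x71) (.lf 0)))))) (.nd (.nd (.nd (.nd (.nd (.lf 0x21) (.lf 0x2a7)) (.nd (.lf 0x1c2) (.lf 0x1e2))) (.nd (.nd (.lf 0xf8) (.lf 0x356)) (.nd (.lf 0x8e) (.lf 0x1e4)))) (.nd (.nd (.nd (.lf 0x94) (.lf 0x328)) (.nd (.lf 0x1d9) (.lf 0x3a7))) (.nd (.nd (.lf 0x161) (.lf 0x12f)) (.nd (.lf 0x2b5) (.lf 0))))) (.nd (.nd (.nd (.nd (.lf 0x5c) (.lf 0x312)) (.nd (.lf 0x16d) (.lf 0x190))) (.nd (.nd (.lf 0x131) (.lf 0x47)) (.nd (.lf 0x146) (.lf 0x11d)))) (.nd (.nd (.nd (.lf 0xc5) (.lf 0x241)) (.nd (.lf 0x45) (.lf 0x3a0))) (.nd (.nd (.lf 0xed) (.lf 0x149)) (.nd (.lf 0x1f9) (.lf 0)))))))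
def tabR0_naaab : Tr := (.nd (.nd (.nd (.nd (.nd (.nd (.lf 0x11) (.lf 0x2f1)) (.nd (.lf 0x183) (.lf 0x221))) (.nd (.nd (.lf 0xea) (.lf 0x1cd)) (.nd (.lf 0x263) (.lf 0x3c6)))) (.nd (.nd (.nd (.lf 0x87) (.lf 0x6f)) (.nd (.lf 0x20e) (.lf 0x3b6))) (.nd (.nd (.lf 0x6) (.lf 0x37c)) (.nd (.lf 0x6b) (.lf 0x215))))) (.nd (.nd (.nd (.nd (.lf 0xc) (.lf 0x24f)) (.nd (.lf 0xd4) (.lf 0x2d0))) (.nd (.nd (.lf 0x124) (.lf 0x366)) (.nd (.lf 0x285) (.lf 0x369)))) (.nd (.nd (.nd (.lf 0xb9) (.lf 0xf1)) (.nd (.lf 0x239) (.lf 0x1eb))) (.nd (.nd (.lf 0xcd) (.lf 0x38f)) (.nd (.lf 0x1e6) (.lf 0)))))) (.nd (.nd (.nd (.nd (.nd (.lf 0x31) (.lf 0x2fe)) (.nd (.lf 0x1a3) (.lf 0x78))) (.nd (.nd (.lf 0x107) (.lf 0x1b5)) (.nd (.lf 0x273) (.lf 0x27f)))) (.nd (.nd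 (.nd (.lf 0xa1) (.lf 0x304)) (.nd (.lf 0x7c) (.lf 0x57))) (.nd (.nd (.lf 0x16b) (.lf 0x2ff)) (.nd (.lf 0x2c2) (.lf 0))))) (.nd (.nd (.nd (.nd (.lf 0x6a) (.lf 0x7f)) (.nd (.lf 0x1f8) (.lf 0x17d))) (.nd (.nd (.lf 0x13d) (.lf 0x371)) (.nd (.lf 0x29b) (.lf 0x106)))) (.nd (.nd (.nd (.lf 0xc8) (.lf 0x343)) (.nd (.lf 0x24a) (.lf 0x23e))) (.nd (.nd (.lf 0x19c) (.lf 0x335)) (.nd (.lf 0x2c3) (.lf 0)))))))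
def tabR0_naaba : Tr := (.nd (.nd (.nd (.nd (.nd (.nd (.lf 0x9) (.lf 0x2ec)) (.nd (.lf 0x1af) (.lf 0x154))) (.nd (.nd (.lf 0xe3) (.lf 0x245)) (.nd (.lf 0x25c) (.lf 0x2bf)))) (.nd (.nd (.nd (.lf 0x80) (.lf 0x321)) (.nd (.lf 0x172) (.lf 0x372))) (.nd (.nd (.lf 0x150) (.lf 0x378)) (.nd (.lf 0x280) (.lf 0x2ed))))) (.nd (.nd (.nd (.nd (.lf 0x48) (.lf 0x2fc)) (.nd (.lf 0x1de) (.lf 0x3a6))) (.nd (.nd (.lf 0x11c) (.lf 0x267)) (.nd (.lf 0x281) (.lf 0x1aa)))) (.nd (.nd (.nd (.lf 0xb3) (.lf 0x32d)) (.nd (.lf 0x234) (.lf 0x3be))) (.nd (.nd (.lf 0x17e) (.lf 0x34d)) (.nd (.lf 0xad) (.lf 0)))))) (.nd (.nd (.nd (.nd (.nd (.lf 0x29) (.lf 0x1b2)) (.nd (.lf 0x105) (.lf 0x3a5))) (.nd (.nd (.lf 0x100) (.lf 0x359)) (.nd (.lf 0x270) (.lf 0x2cf)))) (.nd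 (.nd (.nd (.lf 0x9b) (.lf 0x173)) (.nd (.lf 0x220) (.lf 0x50))) (.nd (.nd (.lf 0x166) (.lf 0x299)) (.nd (.lf 0x2bc) (.lf 0))))) (.nd (.nd (.nd (.nd (.lf 0x0) (.lf 0x317)) (.nd (.lf 0x1f4) (.lf 0x38d))) (.nd (.nd (.lf 0x137) (.lf 0x1c1)) (.nd (.lf 0x295) (.lf 0xe0)))) (.nd (.nd (.nd (.lf 0xcb) (.lf 0x17b)) (.nd (.lf 0x244) (.lf 0x264))) (.nd (.nd (.lf 0x195) (.lf 0x301)) (.nd (.lf 0x2dd) (.lf 0)))))))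
def tabR0_naabb : Tr := (.nd (.nd (.nd (.nd (.nd (.nd (.lf 0x19) (.lf 0x2f4)) (.nd (.lf 0x1bb) (.lf 0x15f))) (.nd (.nd (.lf 0x2e) (.lf 0x353)) (.nd (.lf 0x1be) (.lf 0x3b4)))) (.nd (.nd (.nd (.lf 0x8d) (.lf 0x15b)) (.nd (.lf 0x214) (.lf 0x376))) (.nd (.nd (.lf 0x15a) (.lf 0x184)) (.nd (.lf 0x2b0) (.lf 0x347))))) (.nd (.nd (.nd (.nd (.lf 0x56) (.lf 0x30f)) (.nd (.lf 0x1e8) (.lf 0x3ad))) (.nd (.nd (.lf 0x12a) (.lf 0x22c)) (.nd (.lf 0x28a) (.lf 0x336)))) (.nd (.nd (.nd (.lf 0xc0) (.lf 0x331)) (.nd (.lf 0x23d) (.lf 0x238))) (.nd (.nd (.lf 0x188) (.lf 0x395)) (.nd (.lf 0x2d2) (.lf 0)))))) (.nd (.nd (.nd (.nd (.nd (.lf 0x39) (.lf 0x18b)) (.nd (.lf 0x1d3) (.lf 0x2db))) (.nd (.nd (.lf 0x10d) (.lf 0x9e)) (.nd (.lf 0x119) (.lf 0x73)))) (.nd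 (.nd (.nd (.lf 0x24) (.lf 0x142)) (.nd (.lf 0x229) (.lf 0x135))) (.nd (.nd (.lf 0x112) (.lf 0x38a)) (.nd (.lf 0x2c6) (.lf 0))))) (.nd (.nd (.nd (.nd (.lf 0x72) (.lf 0x20)) (.nd (.lf 0x194) (.lf 0x3b1))) (.nd (.nd (.lf 0x143) (.lf 0x370)) (.nd (.lf 0x2a0) (.lf 0x297)))) (.nd (.nd (.nd (.lf 0xd7) (.lf 0xfd)) (.nd (.lf 0x251) (.lf 0x3c3))) (.nd (.nd (.lf 0xa0) (.lf 0x171)) (.nd (.lf 0xb6) (.lf 0)))))))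
def tabR0_nabaa : Tr := (.nd (.nd (.nd (.nd (.nd (.nd (.lf 0x5) (.lf 0x242)) (.nd (.lf 0x1ac) (.lf 0x338))) (.nd (.nd (.lf 0xe1) (.lf 0x34c)) (.nd (.lf 0x259) (.lf 0x3c5)))) (.nd (.nd (.nd (.lf 0x7d) (.lf 0x1e9)) (.nd (.lf 0x206) (.lf 0x240))) (.nd (.nd (.lf 0x14d) (.lf 0x303)) (.nd (.lf 0x108) (.lf 0x177))))) (.nd (.nd (.nd (.nd (.lf 0x44) (.lf 0x182)) (.nd (.lf 0xba) (.lf 0x2e2))) (.nd (.nd (.lf 0x118) (.lf 0x362)) (.nd (.lf 0x27e) (.lf 0x3ae)))) (.nd (.nd (.nd (.lf 0xb0) (.lf 0x316)) (.nd (.lf 0x231) (.lf 0x38b))) (.nd (.nd (.lf 0x17a) (.lf 0x2ce)) (.nd (.lf 0x2cc) (.lf 0)))))) (.nd (.nd (.nd (.nd (.nd (.lf 0x25) (.lf 0x2fa)) (.nd (.lf 0x1c6) (.lf 0x390))) (.nd (.nd (.lf 0xfc) (.lf 0x29e)) (.nd (.lf 0x26e) (.lf 0x271)))) (.nd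 (.nd (.nd (.lf 0x98) (.lf 0x32a)) (.nd (.lf 0x21c) (.lf 0x63))) (.nd (.nd (.lf 0x43) (.lf 0x1f3)) (.nd (.lf 0x2b9) (.lf 0))))) (.nd (.nd (.nd (.nd (.lf 0x60) (.lf 0x314)) (.nd (.lf 0x1f0) (.lf 0x288))) (.nd (.nd (.lf 0x134) (.lf 0x86)) (.nd (.lf 0x293) (.lf 0x2c7)))) (.nd (.nd (.nd (.lf 0x9a) (.lf 0x8a)) (.nd (.lf 0x81) (.lf 0x39e))) (.nd (.nd (.lf 0x192) (.lf 0x38e)) (.nd (.lf 0x2d3) (.lf 0)))))))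
def tabR0_nabab : Tr := (.nd (.nd (.nd (.nd (.nd (.nd (.lf 0x15) (.lf 0x2f2)) (.nd (.lf 0x167) (.lf 0x389))) (.nd (.nd (.lf 0xee) (.lf 0x350)) (.nd (.lf 0x266) (.lf 0x30c)))) (.nd (.nd (.nd (.lf 0x89) (.lf 0x325)) (.nd (.lf 0x210) (.lf 0x3ab))) (.nd (.nd (.lf 0x157) (.lf 0x37d)) (.nd (.lf 0x2af) (.lf 0x337))))) (.nd (.nd (.nd (.nd (.lf 0x52) (.lf 0x18f)) (.nd (.lf 0x1e5) (.lf 0x23c))) (.nd (.nd (.lf 0x34) (.lf 0x368)) (.nd (.lf 0x287) (.lf 0x24d)))) (.nd (.nd (.nd (.lf 0xa5) (.lf 0x320)) (.nd (.lf 0x23b) (.lf 0x2f7))) (.nd (.nd (.lf 0x186) (.lf 0x392)) (.nd (.lf 0x1e0) (.lf 0)))))) (.nd (.nd (.nd (.nd (.nd (.lf 0x35) (.lf 0x176)) (.nd (.lf 0x1d0) (.lf 0x27c))) (.nd (.nd (.lf 0x10a) (.lf 0x35c)) (.nd (.lf 0xbc) (.lf 0x322)))) (.nd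 (.nd (.nd (.lf 0xa4) (.lf 0x232)) (.nd (.lf 0x226) (.lf 0x37e))) (.nd (.nd (.lf 0x170) (.lf 0x388)) (.nd (.lf 0x294) (.lf 0))))) (.nd (.nd (.nd (.nd (.lf 0x6e) (.lf 0x31a)) (.nd (.lf 0x1fa) (.lf 0x21f))) (.nd (.nd (.lf 0xf2) (.lf 0x169)) (.nd (.lf 0x189) (.lf 0x3cd)))) (.nd (.nd (.nd (.lf 0xd3) (.lf 0x345)) (.nd (.lf 0x24e) (.lf 0xde))) (.nd (.nd (.lf 0x1a0) (.lf 0x155)) (.nd (.lf 0xa2) (.lf 0)))))))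
def tabR0_nabba : Tr := (.nd (.nd (.nd (.nd (.nd (.nd (.lf 0xd) (.lf 0x2ee)) (.nd (.lf 0x1b3) (.lf 0x396))) (.nd (.nd (.lf 0xe7) (.lf 0x305)) (.nd (.lf 0x260) (.lf 0x2ba)))) (.nd (.nd (.nd (.lf 0x84) (.lf 0x323)) (.nd (.lf 0x20a) (.lf 0xd2))) (.nd (.nd (.lf 0x152) (.lf 0x326)) (.nd (.lf 0x1a5) (.lf 0x3bc))))) (.nd (.nd (.nd (.nd (.lf 0x4c) (.lf 0xaa)) (.nd (.lf 0x1e1) (.lf 0x36a))) (.nd (.nd (.lf 0x120) (.lf 0x364)) (.nd (.lf 0x193) (.lf 0x1fd)))) (.nd (.nd (.nd (.lf 0xb7) (.lf 0x20b)) (.nd (.lf 0x1c5) (.lf 0x31d))) (.nd (.nd (.lf 0x181) (.lf 0x164)) (.nd (.lf 0x203) (.lf 0)))))) (.nd (.nd (.nd (.nd (.nd (.lf 0x2d) (.lf 0x243)) (.nd (.lf 0x1ca) (.lf 0xf5))) (.nd (.nd (.lf 0x104) (.lf 0x252)) (.nd (.lf 0x85) (.lf 0x3c9)))) (.nd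 (.nd (.nd (.lf 0x12) (.lf 0x32e)) (.nd (.lf 0x14c) (.lf 0x265))) (.nd (.nd (.lf 0x16a) (.lf 0x385)) (.nd (.lf 0x2c0) (.lf 0))))) (.nd (.nd (.nd (.nd (.lf 0x66) (.lf 0xd6)) (.nd (.lf 0x1f6) (.lf 0x268))) (.nd (.nd (.lf 0x101) (.lf 0x357)) (.nd (.lf 0x298) (.lf 0x313)))) (.nd (.nd (.nd (.lf 0xce) (.lf 0x342)) (.nd (.lf 0x10) (.lf 0x36f))) (.nd (.nd (.lf 0x198) (.lf 0x39b)) (.nd (.lf 0x2e0) (.lf 0)))))))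
def tabR0_nabbb : Tr := (.nd (.nd (.nd (.nd (.nd (.nd (.lf 0x1d) (.lf 0x10e)) (.nd (.lf 0x1bf) (.lf 0x3a2))) (.nd (.nd (.lf 0xf4) (.lf 0x1e3)) (.nd (.lf 0x235) (.lf 0x22a)))) (.nd (.nd (.nd (.lf 0x90) (.lf 0x115)) (.nd (.lf 0x1dd) (.lf 0x64))) (.nd (.nd (.lf 0x15e) (.lf 0x34e)) (.nd (.lf 0x272) (.lf 0x36d))))) (.nd (.nd (.nd (.nd (.lf 0x59) (.lf 0xd0)) (.nd (.lf 0x1ea) (.lf 0x32b))) (.nd (.nd (.lf 0x12e) (.lf 0xda)) (.nd (.lf 0x18) (.lf 0x380)))) (.nd (.nd (.nd (.lf 0x97) (.lf 0x2ac)) (.nd (.lf 0x1d4) (.lf 0x39a))) (.nd (.nd (.lf 0x18c) (.lf 0xe4)) (.nd (.lf 0x2b1) (.lf 0)))))) (.nd (.nd (.nd (.nd (.nd (.lf 0x3d) (.lf 0x306)) (.nd (.lf 0x1d6) (.lf 0x333))) (.nd (.nd (.lf 0x111) (.lf 0x35e)) (.nd (.lf 0x139) (.lf 0x330)))) (.nd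 (.nd (.nd (.lf 0x93) (.lf 0x19f)) (.nd (.lf 0x22d) (.lf 0x339))) (.nd (.nd (.lf 0xc4) (.lf 0x30a)) (.nd (.lf 0x1a6) (.lf 0))))) (.nd (.nd (.nd (.nd (.lf 0x75) (.lf 0x29a)) (.nd (.lf 0x200) (.lf 0x3b2))) (.nd (.nd (.lf 0x147) (.lf 0x374)) (.nd (.lf 0x2a3) (.lf 0x39f)))) (.nd (.nd (.nd (.lf 0xdb) (.lf 0x319)) (.nd (.lf 0x253) (.lf 0x381))) (.nd (.nd (.lf 0x197) (.lf 0x55)) (.nd (.lf 0x1cb) (.lf 0)))))))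
def tabR0_nbaaa : Tr := (.nd (.nd (.nd (.nd (.nd (.nd (.lf 0x3) (.lf 0x160)) (.nd (.lf 0x1ab) (.lf 0x2e4))) (.nd (.nd (.lf 0xdf) (.lf 0x24b)) (.nd (.lf 0x257) (.lf 0x140)))) (.nd (.nd (.nd (.lf 0x7b) (.lf 0xc1)) (.nd (.lf 0x204) (.lf 0x286))) (.nd (.nd (.lf 0x3c) (.lf 0x1ed)) (.nd (.lf 0x9f) (.lf 0x290))))) (.nd (.nd (.nd (.nd (.lf 0x42) (.lf 0x309)) (.nd (.lf 0x5d) (.lf 0x3a9))) (.nd (.nd (.lf 0x116) (.lf 0x361)) (.nd (.lf 0x27d) (.lf 0x1ba)))) (.nd (.nd (.nd (.lf 0xae) (.lf 0x236)) (.nd (.lf 0x230) (.lf 0x34b))) (.nd (.nd (.lf 0x178) (.lf 0x1c7)) (.nd (.lf 0x12d) (.lf 0)))))) (.nd (.nd (.nd (.nd (.nd (.lf 0x23) (.lf 0x125)) (.nd (.lf 0x1c4) (.lf 0x1d1))) (.nd (.nd (.lf 0xfa) (.lf 0x341)) (.nd (.lf 0x26d) (.lf 0x3c8)))) (.nd (.nd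 (.nd (.lf 0x96) (.lf 0x329)) (.nd (.lf 0x21b) (.lf 0x2a6))) (.nd (.nd (.lf 0x162) (.lf 0x349)) (.nd (.lf 0x2b7) (.lf 0))))) (.nd (.nd (.nd (.nd (.lf 0x5e) (.lf 0x277)) (.nd (.lf 0x1ee) (.lf 0x16f))) (.nd (.nd (.lf 0x132) (.lf 0x1fe)) (.nd (.lf 0x292) (.lf 0x33b)))) (.nd (.nd (.nd (.lf 0xc7) (.lf 0x199)) (.nd (.lf 0x1bc) (.lf 0x191))) (.nd (.nd (.lf 0x8) (.lf 0x398)) (.nd (.lf 0x2da) (.lf 0)))))))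
def tabR0_nbaab : Tr := (.nd (.nd (.nd (.nd (.nd (.nd (.lf 0x13) (.lf 0xa7)) (.nd (.lf 0x1b6) (.lf 0x386))) (.nd (.nd (.lf 0xec) (.lf 0x28)) (.nd (.lf 0x19b) (.lf 0x1f5)))) (.nd (.nd (.nd (.lf 0x5f) (.lf 0x1da)) (.nd (.lf 0x20f) (.lf 0x397))) (.nd (.nd (.lf 0x156) (.lf 0x127)) (.nd (.lf 0x2ae) (.lf 0x19d))))) (.nd (.nd (.nd (.nd (.lf 0x51) (.lf 0x30b)) (.nd (.lf 0x41) (.lf 0x3ac))) (.nd (.nd (.lf 0x126) (.lf 0x367)) (.nd (.lf 0x1b7) (.lf 0x393)))) (.nd (.nd (.nd (.lf 0xbb) (.lf 0x4f)) (.nd (.lf 0x23a) (.lf 0x387))) (.nd (.nd (.lf 0x4b) (.lf 0x36)) (.nd (.lf 0x1f1) (.lf 0)))))) (.nd (.nd (.nd (.nd (.nd (.lf 0x33) (.lf 0x300)) (.nd (.lf 0x1cf) (.lf 0x21d))) (.nd (.nd (.lf 0x109) (.lf 0xe9)) (.nd (.lf 0x12b) (.lf 0x28d)))) (.nd (.nd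 (.nd (.lf 0xa3) (.lf 0x332)) (.nd (.lf 0x225) (.lf 0x3bb))) (.nd (.nd (.lf 0x16e) (.lf 0x3a)) (.nd (.lf 0xa8) (.lf 0))))) (.nd (.nd (.nd (.nd (.lf 0x6c) (.lf 0x223)) (.nd (.lf 0xe) (.lf 0x18d))) (.nd (.nd (.lf 0x13f) (.lf 0x61)) (.nd (.lf 0x29c) (.lf 0x28e)))) (.nd (.nd (.nd (.lf 0x53) (.lf 0x344)) (.nd (.lf 0x24c) (.lf 0x5b))) (.nd (.nd (.lf 0x19e) (.lf 0x158)) (.nd (.lf 0x1a1) (.lf 0)))))))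
def tabR0_nbaba : Tr := (.nd (.nd (.nd (.nd (.nd (.nd (.lf 0xb) (.lf 0xbd)) (.nd (.lf 0x1b1) (.lf 0xfb))) (.nd (.nd (.lf 0xe5) (.lf 0x34f)) (.nd (.lf 0x25e) (.lf 0x1ec)))) (.nd (.nd (.nd (.lf 0x82) (.lf 0x153)) (.nd (.lf 0x209) (.lf 0x1ef))) (.nd (.nd (.lf 0x151) (.lf 0x30)) (.nd (.lf 0x2ab) (.lf 0x3c7))))) (.nd (.nd (.nd (.nd (.lf 0x4a) (.lf 0x15d)) (.nd (.lf 0x1df) (.lf 0x375))) (.nd (.nd (.lf 0x11e) (.lf 0x363)) (.nd (.lf 0x282) (.lf 0x227)))) (.nd (.nd (.nd (.lf 0xb5) (.lf 0x2d1)) (.nd (.lf 0x211) (.lf 0x219))) (.nd (.nd (.lf 0x180) (.lf 0x2f8)) (.nd (.lf 0x2cd) (.lf 0)))))) (.nd (.nd (.nd (.nd (.nd (.lf 0x2b) (.lf 0x2a4)) (.nd (.lf 0x13e) (.lf 0x37a))) (.nd (.nd (.lf 0x102) (.lf 0x340)) (.nd (.lf 0x76) (.lf 0x3c1)))) (.nd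 (.nd (.nd (.lf 0x9d) (.lf 0x289)) (.nd (.lf 0x222) (.lf 0xe6))) (.nd (.nd (.lf 0x168) (.lf 0xc2)) (.nd (.lf 0x2be) (.lf 0))))) (.nd (.nd (.nd (.nd (.lf 0x65) (.lf 0x318)) (.nd (.lf 0x1ad) (.lf 0x2a1))) (.nd (.nd (.lf 0x138) (.lf 0x228)) (.nd (.lf 0x296) (.lf 0xff)))) (.nd (.nd (.nd (.lf 0xcc) (.lf 0x26)) (.nd (.lf 0x246) (.lf 0x3c2))) (.nd (.nd (.lf 0x196) (.lf 0x399)) (.nd (.lf 0x2df) (.lf 0)))))))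
def tabR0_nbabb : Tr := (.nd (.nd (.nd (.nd (.nd (.nd (.lf 0x1b) (.lf 0x2f5)) (.nd (.lf 0x1bd) (.lf 0x384))) (.nd (.nd (.lf 0x2a) (.lf 0x355)) (.nd (.lf 0x269) (.lf 0x3c0)))) (.nd (.nd (.nd (.lf 0x8f) (.lf 0x1c3)) (.nd (.lf 0x216) (.lf 0x3b7))) (.nd (.nd (.lf 0x15c) (.lf 0x37f)) (.nd (.lf 0x2b2) (.lf 0x3ce))))) (.nd (.nd (.nd (.nd (.lf 0x58) (.lf 0x279)) (.nd (.lf 0x67) (.lf 0x39c))) (.nd (.nd (.lf 0x12c) (.lf 0x36b)) (.nd (.lf 0x28c) (.lf 0x310)))) (.nd (.nd (.nd (.lf 0x2) (.lf 0x33e)) (.nd (.lf 0x128) (.lf 0x1ce))) (.nd (.nd (.lf 0x18a) (.lf 0x35f)) (.nd (.lf 0x2d4) (.lf 0)))))) (.nd (.nd (.nd (.nd (.nd (.lf 0x3b) (.lf 0x2fb)) (.nd (.lf 0x1b0) (.lf 0x144))) (.nd (.nd (.lf 0x10f) (.lf 0x2f3)) (.nd (.lf 0x278) (.lf 0x352)))) (.nd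 (.nd (.nd (.lf 0xa9) (.lf 0x2c5)) (.nd (.lf 0x22b) (.lf 0x11f))) (.nd (.nd (.lf 0x8c) (.lf 0x2e9)) (.nd (.lf 0x2c8) (.lf 0))))) (.nd (.nd (.nd (.nd (.lf 0x74) (.lf 0x31c)) (.nd (.lf 0x88) (.lf 0xbf))) (.nd (.nd (.lf 0x145) (.lf 0x373)) (.nd (.lf 0x2a2) (.lf 0x113)))) (.nd (.nd (.nd (.lf 0xd9) (.lf 0x348)) (.nd (.lf 0xf9) (.lf 0x3c4))) (.nd (.nd (.lf 0x1a4) (.lf 0x2b8)) (.nd (.lf 0x2e5) (.lf 0)))))))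
def tabR0_nbbaa : Tr := (.nd (.nd (.nd (.nd (.nd (.nd (.lf 0x7) (.lf 0x2eb)) (.nd (.lf 0x1ae) (.lf 0x258))) (.nd (.nd (.lf 0x49) (.lf 0x103)) (.nd (.lf 0x248) (.lf 0x3a1)))) (.nd (.nd (.nd (.lf 0x7e) (.lf 0x2f0)) (.nd (.lf 0x91) (.lf 0x3b5))) (.nd (.nd (.lf 0x14f) (.lf 0x377)) (.nd (.lf 0x2a8) (.lf 0x3cc))))) (.nd (.nd (.nd (.nd (.lf 0x46) (.lf 0xd8)) (.nd (.lf 0x1dc) (.lf 0x3aa))) (.nd (.nd (.lf 0x11a) (.lf 0x2b6)) (.nd (.lf 0x1a) (.lf 0x36c)))) (.nd (.nd (.nd (.lf 0x1c) (.lf 0x2d9)) (.nd (.lf 0x233) (.lf 0x179))) (.nd (.nd (.lf 0x17c) (.lf 0x21a)) (.nd (.lf 0xaf) (.lf 0)))))) (.nd (.nd (.nd (.nd (.nd (.lf 0x27) (.lf 0x2b3)) (.nd (.lf 0x1c8) (.lf 0x2e6))) (.nd (.nd (.lf 0xfe) (.lf 0x1d5)) (.nd (.lf 0x26f) (.lf 0x208)))) (.nd (.nd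 (.nd (.lf 0x99) (.lf 0x32c)) (.nd (.lf 0x21e) (.lf 0x35b))) (.nd (.nd (.lf 0x165) (.lf 0x383)) (.nd (.lf 0x2bb) (.lf 0))))) (.nd (.nd (.nd (.nd (.lf 0x62) (.lf 0x30e)) (.nd (.lf 0x1f2) (.lf 0x1fb))) (.nd (.nd (.lf 0x136) (.lf 0x36e)) (.nd (.lf 0x28b) (.lf 0x2ea)))) (.nd (.nd (.nd (.lf 0xc9) (.lf 0x2de)) (.nd (.lf 0x38) (.lf 0x117))) (.nd (.nd (.lf 0xa) (.lf 0x2f9)) (.nd (.lf 0x2dc) (.lf 0)))))))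
def tabR0_nbbab : Tr := (.nd (.nd (.nd (.nd (.nd (.nd (.lf 0x17) (.lf 0x1d7)) (.nd (.lf 0x1b9) (.lf 0x1c0))) (.nd (.nd (.lf 0xf0) (.lf 0x351)) (.nd (.lf 0x163) (.lf 0x185)))) (.nd (.nd (.nd (.lf 0x8b) (.lf 0x308)) (.nd (.lf 0x212) (.lf 0x1a8))) (.nd (.nd (.lf 0x159) (.lf 0x25f)) (.nd (.lf 0x255) (.lf 0x10c))))) (.nd (.nd (.nd (.nd (.lf 0x54) (.lf 0x30d)) (.nd (.lf 0x1e7) (.lf 0x25b))) (.nd (.nd (.lf 0x129) (.lf 0x2a9)) (.nd (.lf 0xb2) (.lf 0x3ca)))) (.nd (.nd (.nd (.lf 0xbe) (.lf 0x33c)) (.nd (.lf 0x83) (.lf 0x247))) (.nd (.nd (.lf 0x187) (.lf 0x22e)) (.nd (.lf 0x224) (.lf 0)))))) (.nd (.nd (.nd (.nd (.nd (.lf 0x37) (.lf 0x302)) (.nd (.lf 0x1d2) (.lf 0x391))) (.nd (.nd (.lf 0x10b) (.lf 0x2d5)) (.nd (.lf 0x276) (.lf 0x32f)))) (.nd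 (.nd (.nd (.lf 0xa6) (.lf 0xeb)) (.nd (.lf 0x1ff) (.lf 0x2c9))) (.nd (.nd (.lf 0xf7) (.lf 0x382)) (.nd (.lf 0x2c4) (.lf 0))))) (.nd (.nd (.nd (.nd (.lf 0x70) (.lf 0x31b)) (.nd (.lf 0x1fc) (.lf 0x3b0))) (.nd (.nd (.lf 0x141) (.lf 0x35d)) (.nd (.lf 0x29f) (.lf 0x2fd)))) (.nd (.nd (.nd (.lf 0xd5) (.lf 0x346)) (.nd (.lf 0x250) (.lf 0x20d))) (.nd (.nd (.lf 0x1a2) (.lf 0x334)) (.nd (.lf 0x123) (.lf 0)))))))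
def tabR0_nbbba : Tr := (.nd (.nd (.nd (.nd (.nd (.nd (.lf 0xf) (.lf 0x2ef)) (.nd (.lf 0x1b4) (.lf 0x324))) (.nd (.nd (.lf 0xe8) (.lf 0x17f)) (.nd (.lf 0x262) (.lf 0x3b8)))) (.nd (.nd (.nd (.lf 0x14) (.lf 0xe2)) (.nd (.lf 0x20c) (.lf 0x274))) (.nd (.nd (.lf 0x3f) (.lf 0x249)) (.nd (.lf 0x2ad) (.lf 0x29d))))) (.nd (.nd (.nd (.nd (.lf 0x4e) (.lf 0x2aa)) (.nd (.lf 0x1db) (.lf 0x3a4))) (.nd (.nd (.lf 0x122) (.lf 0x365)) (.nd (.lf 0x284) (.lf 0x3b3)))) (.nd (.nd (.nd (.lf 0xb8) (.lf 0x33a)) (.nd (.lf 0x237) (.lf 0x3b9))) (.nd (.nd (.lf 0x14b) (.lf 0x33d)) (.nd (.lf 0x95) (.lf 0)))))) (.nd (.nd (.nd (.nd (.nd (.lf 0x2f) (.lf 0x32)) (.nd (.lf 0x1cc) (.lf 0xb1))) (.nd (.nd (.lf 0x2c) (.lf 0x35a)) (.nd (.lf 0xd1) (.lf 0x69)))) (.nd (.nd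 (.nd (.lf 0x1e) (.lf 0x207)) (.nd (.lf 0x13c) (.lf 0x3ba))) (.nd (.nd (.lf 0x16c) (.lf 0x9c)) (.nd (.lf 0x2c1) (.lf 0))))) (.nd (.nd (.nd (.nd (.lf 0x68) (.lf 0xca)) (.nd (.lf 0x1f7) (.lf 0x174))) (.nd (.nd (.lf 0x13b) (.lf 0x2d6)) (.nd (.lf 0x16) (.lf 0x360)))) (.nd (.nd (.nd (.lf 0xcf) (.lf 0x283)) (.nd (.lf 0x1c9) (.lf 0x13a))) (.nd (.nd (.lf 0x19a) (.lf 0x26c)) (.nd (.lf 0xc6) (.lf 0)))))))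
def tabR0_nbbbb : Tr := (.nd (.nd (.nd (.nd (.nd (.nd (.lf 0x1f) (.lf 0x2f6)) (.nd (.lf 0x110) (.lf 0x205))) (.nd (.nd (.lf 0xf6) (.lf 0x2bd)) (.nd (.lf 0x26b) (.lf 0x2e1)))) (.nd (.nd (.nd (.lf 0x92) (.lf 0x22)) (.nd (.lf 0x218) (.lf 0x307))) (.nd (.nd (.lf 0x11b) (.lf 0x275)) (.nd (.lf 0x2b4) (.lf 0))))) (.nd (.nd (.nd (.nd (.lf 0x5a) (.lf 0x311)) (.nd (.lf 0x14e) (.lf 0x1b8))) (.nd (.nd (.lf 0x130) (.lf 0x354)) (.nd (.lf 0x28f) (.lf 0x3cb)))) (.nd (.nd (.nd (.lf 0xc3) (.lf 0x33f)) (.nd (.lf 0x23f) (.lf 0x3bf))) (.nd (.nd (.lf 0x18e) (.lf 0x2d8)) (.nd (.lf 0x2d7) (.lf 0)))))) (.nd (.nd (.nd (.nd (.nd (.lf 0x3e) (.lf 0x261)) (.nd (.lf 0x6d) (.lf 0x3a8))) (.nd (.nd (.lf 0x4) (.lf 0x217)) (.nd (.lf 0x27a) (.lf 0x31f)))) (.nd (.nd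 (.nd (.lf 0xab) (.lf 0x133)) (.nd (.lf 0x22f) (.lf 0x201))) (.nd (.nd (.lf 0x175) (.lf 0x38c)) (.nd (.lf 0x2ca) (.lf 0))))) (.nd (.nd (.nd (.nd (.lf 0x77) (.lf 0x31e)) (.nd (.lf 0xef) (.lf 0x315))) (.nd (.nd (.lf 0x148) (.lf 0x358)) (.nd (.lf 0x2a5) (.lf 0x3a3)))) (.nd (.nd (.nd (.lf 0xdc) (.lf 0x34a)) (.nd (.lf 0x254) (.lf 0x3af))) (.nd (.nd (.lf 0x1a7) (.lf 0x37b)) (.nd (.lf 0x2e7) (.lf 0)))))))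
def tabR0 : Tr := (.nd (.nd (.nd (.nd tabR0_naaaa tabR0_naaab) (.nd tabR0_naaba tabR0_naabb)) (.nd (.nd tabR0_nabaa tabR0_nabab) (.nd tabR0_nabba tabR0_nabbb))) (.nd (.nd (.nd tabR0_nbaaa tabR0_nbaab) (.nd tabR0_nbaba tabR0_nbabb)) (.nd (.nd tabR0_nbbaa tabR0_nbbab) (.nd tabR0_nbbba tabR0_nbbbb))))
def witR0_naaaa : Tr := (.nd (.nd (.nd (.nd (.nd (.nd (.lf 0x0) (.lf 0x0)) (.nd (.lf 0x0) (.lf 0x0))) (.nd (.nd (.lf 0x0) (.lf 0x5)) (.nd (.lf 0x0) (.lf 0x2)))) (.nd (.nd (.nd (.lf 0x0) (.lf 0x3)) (.nd (.lf 0x0) (.lf 0x6))) (.nd (.nd (.lf 0x0) (.lf 0x7)) (.nd (.lf 0x5) (.lf 0x0))))) (.nd (.nd (.nd (.nd (.lf 0x0) (.lf 0x6)) (.nd (.lf 0x0) (.lf 0x1))) (.nd (.nd (.lf 0x0) (.lf 0x5)) (.nd (.lf 0x0) (.lf 0x2)))) (.nd (.nd (.nd (.lf 0x0) (.lf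 0x5)) (.nd (.lf 0x0) (.lf 0x0))) (.nd (.nd (.lf 0x0) (.lf 0x3)) (.nd (.lf 0x4) (.lf 0)))))) (.nd (.nd (.nd (.nd (.nd (.lf 0x0) (.lf 0x3)) (.nd (.lf 0x0) (.lf 0x6))) (.nd (.nd (.lf 0x0) (.lf 0x0)) (.nd (.lf 0x0) (.lf 0x0)))) (.nd (.nd (.nd (.lf 0x0) (.lf 0x0)) (.nd (.lf 0x7) (.lf 0x1))) (.nd (.nd (.lf 0x0) (.lf 0x0)) (.nd (.lf 0x0) (.lf 0))))) (.nd (.nd (.nd (.nd (.lf 0x0) (.lf 0x0)) (.nd (.lf 0x6) (.lf 0x5))) (.nd (.nd (.lf 0x0) (.lf 0x5)) (.nd (.lf 0x4) (.lf 0x3)))) (.nd (.nd (.nd (.lf 0x0) (.lf 0x6)) (.nd (.lf 0x7) (.lf 0x2))) (.nd (.nd (.lf 0x2) (.lf 0x0)) (.nd (.lf 0x3) (.lf 0)))))))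
def witR0_naaab : Tr := (.nd (.nd (.nd (.nd (.nd (.nd (.lf 0x0) (.lf 0x0)) (.nd (.lf 0x0) (.lf 0x6))) (.nd (.nd (.lf 0x0) (.lf 0x5)) (.nd (.lf 0x0) (.lf 0x0)))) (.nd (.nd (.nd (.lf 0x0) (.lf 0x7)) (.nd (.lf 0x0) (.lf 0x0))) (.nd (.nd (.lf 0x0) (.lf 0x0)) (.nd (.lf 0x6) (.lf 0x0))))) (.nd (.nd (.nd (.nd (.lf 0x0) (.lf 0x2)) (.nd (.lf 0x7) (.lf 0x0))) (.nd (.nd (.lf 0x0) (.lf 0x0)) (.nd (.lf 0x0) (.lf 0x7)))) (.nd (.nd (.nd (.lf 0x0) (.lf 0x0)) (.nd (.lf 0x0) (.lf 0x2))) (.nd (.nd (.lf 0x5) (.lf 0x0)) (.nd (.lf 0x5) (.lf 0)))))) (.nd (.nd (.nd (.nd (.nd (.lf 0x0) (.lf 0x0)) (.nd (.lf 0x3) (.lf 0x7))) (.nd (.nd (.lf 0x0) (.lf 0x3)) (.nd (.lf 0x0) (.lf 0x5)))) (.nd (.nd (.nd (.lf 0x0) (.lf 0x5)) (.nd (.lf 0x0) (.lf 0x0))) (.nd (.nd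 (.lf 0x4) (.lf 0x2)) (.nd (.lf 0x0) (.lf 0))))) (.nd (.nd (.nd (.nd (.lf 0x0) (.lf 0x3)) (.nd (.lf 0x0) (.lf 0x5))) (.nd (.nd (.lf 0x0) (.lf 0x0)) (.nd (.lf 0x0) (.lf 0x7)))) (.nd (.nd (.nd (.lf 0x1) (.lf 0x0)) (.nd (.lf 0x0) (.lf 0x7))) (.nd (.nd (.lf 0x0) (.lf 0x0)) (.nd (.lf 0x5) (.lf 0)))))))
def witR0_naaba : Tr := (.nd (.nd (.nd (.nd (.nd (.nd (.lf 0x0) (.lf 0x0)) (.nd (.lf 0x0) (.lf 0x0))) (.nd (.nd (.lf 0x0) (.lf 0x2)) (.nd (.lf 0x0) (.lf 0x0)))) (.nd (.nd (.nd (.lf 0x0) (.lf 0x0)) (.nd (.lf 0x5) (.lf 0x3))) (.nd (.nd (.lf 0x0) (.lf 0x0)) (.nd (.lf 0x6) (.lf 0x6))))) (.nd (.nd (.nd (.nd (.lf 0x0) (.lf 0x0)) (.nd (.lf 0x0) (.lf 0x1))) (.nd (.nd (.lf 0x0) (.lf 0x2)) (.nd (.lf 0x0) (.lf 0x3)))) (.nd (.nd (.nd (.lf 0x0) (.lf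 0x5)) (.nd (.lf 0x0) (.lf 0x0))) (.nd (.nd (.lf 0x0) (.lf 0x6)) (.nd (.lf 0x0) (.lf 0)))))) (.nd (.nd (.nd (.nd (.nd (.lf 0x0) (.lf 0x7)) (.nd (.lf 0x4) (.lf 0x0))) (.nd (.nd (.lf 0x0) (.lf 0x0)) (.nd (.lf 0x0) (.lf 0x7)))) (.nd (.nd (.nd (.lf 0x0) (.lf 0x6)) (.nd (.lf 0x0) (.lf 0x0))) (.nd (.nd (.lf 0x0) (.lf 0x6)) (.nd (.lf 0x0) (.lf 0))))) (.nd (.nd (.nd (.nd (.lf 0x0) (.lf 0x0)) (.nd (.lf 0x0) (.lf 0x4))) (.nd (.nd (.lf 0x0) (.lf 0x2)) (.nd (.lf 0x0) (.lf 0x4)))) (.nd (.nd (.nd (.lf 0x0) (.lf 0x5)) (.nd (.lf 0x0) (.lf 0x3))) (.nd (.nd (.lf 0x0) (.lf 0x6)) (.nd (.lf 0x0) (.lf 0)))))))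
def witR0_naabb : Tr := (.nd (.nd (.nd (.nd (.nd (.nd (.lf 0x0) (.lf 0x0)) (.nd (.lf 0x0) (.lf 0x0))) (.nd (.nd (.lf 0x0) (.lf 0x0)) (.nd (.lf 0x1) (.lf 0x4)))) (.nd (.nd (.nd (.lf 0x0) (.lf 0x2)) (.nd (.lf 0x0) (.lf 0x5))) (.nd (.nd (.lf 0x0) (.lf 0x6)) (.nd (.lf 0x0) (.lf 0x5))))) (.nd (.nd (.nd (.nd (.lf 0x0) (.lf 0x0)) (.nd (.lf 0x0) (.lf 0x0))) (.nd (.nd (.lf 0x0) (.lf 0x2)) (.nd (.lf 0x0) (.lf 0x5)))) (.nd (.nd (.nd (.lf 0x0) (.lf 0x3)) (.nd (.lf 0x0) (.lf 0x6))) (.nd (.nd (.lf 0x0) (.lf 0x0)) (.nd (.lf 0x0) (.lf 0)))))) (.nd (.nd (.nd (.nd (.nd (.lf 0x0) (.lf 0x3)) (.nd (.lf 0x0) (.lf 0x5))) (.nd (.nd (.lf 0x0) (.lf 0x2)) (.nd (.lf 0x2) (.lf 0x0)))) (.nd (.nd (.nd (.lf 0x4) (.lf 0x6)) (.nd (.lf 0x0) (.lf 0x1))) (.nd (.nd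 (.lf 0x6) (.lf 0x0)) (.nd (.lf 0x0) (.lf 0))))) (.nd (.nd (.nd (.nd (.lf 0x0) (.lf 0x0)) (.nd (.lf 0x5) (.lf 0x0))) (.nd (.nd (.lf 0x0) (.lf 0x5)) (.nd (.lf 0x0) (.lf 0x5)))) (.nd (.nd (.nd (.lf 0x0) (.lf 0x0)) (.nd (.lf 0x0) (.lf 0x0))) (.nd (.nd (.lf 0x1) (.lf 0x5)) (.nd (.lf 0x4) (.lf 0)))))))
def witR0_nabaa : Tr := (.nd (.nd (.nd (.nd (.nd (.nd (.lf 0x0) (.lf 0x2)) (.nd (.lf 0x0) (.lf 0x2))) (.nd (.nd (.lf 0x0) (.lf 0x0)) (.nd (.lf 0x0) (.lf 0x0)))) (.nd (.nd (.nd (.lf 0x0) (.lf 0x7)) (.nd (.lf 0x0) (.lf 0x1))) (.nd (.nd (.lf 0x0) (.lf 0x2)) (.nd (.lf 0x2) (.lf 0x7))))) (.nd (.nd (.nd (.nd (.lf 0x0) (.lf 0x0)) (.nd (.lf 0x3) (.lf 0x3))) (.nd (.nd (.lf 0x0) (.lf 0x0)) (.nd (.lf 0x0) (.lf 0x7)))) (.nd (.nd (.nd (.lf 0x0) (.lf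 0x0)) (.nd (.lf 0x0) (.lf 0x6))) (.nd (.nd (.lf 0x0) (.lf 0x2)) (.nd (.lf 0x0) (.lf 0)))))) (.nd (.nd (.nd (.nd (.nd (.lf 0x0) (.lf 0x0)) (.nd (.lf 0x0) (.lf 0x1))) (.nd (.nd (.lf 0x0) (.lf 0x6)) (.nd (.lf 0x0) (.lf 0x6)))) (.nd (.nd (.nd (.lf 0x0) (.lf 0x0)) (.nd (.lf 0x0) (.lf 0x3))) (.nd (.nd (.lf 0x0) (.lf 0x7)) (.nd (.lf 0x0) (.lf 0))))) (.nd (.nd (.nd (.nd (.lf 0x0) (.lf 0x0)) (.nd (.lf 0x0) (.lf 0x5))) (.nd (.nd (.lf 0x0) (.lf 0x4)) (.nd (.lf 0x0) (.lf 0x4)))) (.nd (.nd (.nd (.lf 0x2) (.lf 0x4)) (.nd (.lf 0x0) (.lf 0x0))) (.nd (.nd (.lf 0x0) (.lf 0x1)) (.nd (.lf 0x5) (.lf 0)))))))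
def witR0_nabab : Tr := (.nd (.nd (.nd (.nd (.nd (.nd (.lf 0x0) (.lf 0x0)) (.nd (.lf 0x2) (.lf 0x7))) (.nd (.nd (.lf 0x0) (.lf 0x0)) (.nd (.lf 0x0) (.lf 0x2)))) (.nd (.nd (.nd (.lf 0x0) (.lf 0x0)) (.nd (.lf 0x0) (.lf 0x2))) (.nd (.nd (.lf 0x0) (.lf 0x0)) (.nd (.lf 0x0) (.lf 0x3))))) (.nd (.nd (.nd (.nd (.lf 0x0) (.lf 0x4)) (.nd (.lf 0x0) (.lf 0x3))) (.nd (.nd (.lf 0x0) (.lf 0x0)) (.nd (.lf 0x0) (.lf 0x3)))) (.nd (.nd (.nd (.lf 0x1) (.lf 0x6)) (.nd (.lf 0x0) (.lf 0x4))) (.nd (.nd (.lf 0x0) (.lf 0x0)) (.nd (.lf 0x7) (.lf 0)))))) (.nd (.nd (.nd (.nd (.nd (.lf 0x0) (.lf 0x7)) (.nd (.lf 0x0) (.lf 0x0))) (.nd (.nd (.lf 0x0) (.lf 0x0)) (.nd (.lf 0x5) (.lf 0x7)))) (.nd (.nd (.nd (.lf 0x0) (.lf 0x1)) (.nd (.lf 0x0) (.lf 0x0))) (.nd (.nd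 (.lf 0x0) (.lf 0x0)) (.nd (.lf 0x5) (.lf 0))))) (.nd (.nd (.nd (.nd (.lf 0x0) (.lf 0x0)) (.nd (.lf 0x0) (.lf 0x5))) (.nd (.nd (.lf 0x6) (.lf 0x3)) (.nd (.lf 0x2) (.lf 0x0)))) (.nd (.nd (.nd (.lf 0x0) (.lf 0x0)) (.nd (.lf 0x0) (.lf 0x2))) (.nd (.nd (.lf 0x0) (.lf 0x1)) (.nd (.lf 0x6) (.lf 0)))))))
def witR0_nabba : Tr := (.nd (.nd (.nd (.nd (.nd (.nd (.lf 0x0) (.lf 0x0)) (.nd (.lf 0x0) (.lf 0x6))) (.nd (.nd (.lf 0x0) (.lf 0x5)) (.nd (.lf 0x0) (.lf 0x4)))) (.nd (.nd (.nd (.lf 0x0) (.lf 0x0)) (.nd (.lf 0x0) (.lf 0x5))) (.nd (.nd (.lf 0x0) (.lf 0x7)) (.nd (.lf 0x5) (.lf 0x3))))) (.nd (.nd (.nd (.nd (.lf 0x0) (.lf 0x0)) (.nd (.lf 0x0) (.lf 0x2))) (.nd (.nd (.lf 0x0) (.lf 0x0)) (.nd (.lf 0x1) (.lf 0x1)))) (.nd (.nd (.nd (.lf 0x0) (.lf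 0x5)) (.nd (.lf 0x3) (.lf 0x6))) (.nd (.nd (.lf 0x0) (.lf 0x1)) (.nd (.lf 0x7) (.lf 0)))))) (.nd (.nd (.nd (.nd (.nd (.lf 0x0) (.lf 0x1)) (.nd (.lf 0x0) (.lf 0x6))) (.nd (.nd (.lf 0x0) (.lf 0x6)) (.nd (.lf 0x5) (.lf 0x0)))) (.nd (.nd (.nd (.lf 0x6) (.lf 0x0)) (.nd (.lf 0x4) (.lf 0x7))) (.nd (.nd (.lf 0x0) (.lf 0x0)) (.nd (.lf 0x0) (.lf 0))))) (.nd (.nd (.nd (.nd (.lf 0x0) (.lf 0x0)) (.nd (.lf 0x0) (.lf 0x5))) (.nd (.nd (.lf 0x0) (.lf 0x0)) (.nd (.lf 0x0) (.lf 0x0)))) (.nd (.nd (.nd (.lf 0x0) (.lf 0x0)) (.nd (.lf 0x0) (.lf 0x3))) (.nd (.nd (.lf 0x0) (.lf 0x0)) (.nd (.lf 0x0) (.lf 0)))))))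
def witR0_nabbb : Tr := (.nd (.nd (.nd (.nd (.nd (.nd (.lf 0x0) (.lf 0x7)) (.nd (.lf 0x0) (.lf 0x0))) (.nd (.nd (.lf 0x0) (.lf 0x5)) (.nd (.lf 0x2) (.lf 0x4)))) (.nd (.nd (.nd (.lf 0x0) (.lf 0x5)) (.nd (.lf 0x1) (.lf 0x6))) (.nd (.nd (.lf 0x0) (.lf 0x0)) (.nd (.lf 0x6) (.lf 0x1))))) (.nd (.nd (.nd (.nd (.lf 0x0) (.lf 0x0)) (.nd (.lf 0x0) (.lf 0x5))) (.nd (.nd (.lf 0x0) (.lf 0x1)) (.nd (.lf 0x7) (.lf 0x3)))) (.nd (.nd (.nd (.lf 0x5) (.lf 0x1)) (.nd (.lf 0x1) (.lf 0x4))) (.nd (.nd (.lf 0x0) (.lf 0x3)) (.nd (.lf 0x3) (.lf 0)))))) (.nd (.nd (.nd (.nd (.nd (.lf 0x0) (.lf 0x0)) (.nd (.lf 0x0) (.lf 0x6))) (.nd (.nd (.lf 0x0) (.lf 0x0)) (.nd (.lf 0x4) (.lf 0x0)))) (.nd (.nd (.nd (.lf 0x6) (.lf 0x4)) (.nd (.lf 0x0) (.lf 0x5))) (.nd (.nd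 (.lf 0x7) (.lf 0x5)) (.nd (.lf 0x5) (.lf 0))))) (.nd (.nd (.nd (.nd (.lf 0x0) (.lf 0x7)) (.nd (.lf 0x0) (.lf 0x0))) (.nd (.nd (.lf 0x0) (.lf 0x0)) (.nd (.lf 0x0) (.lf 0x4)))) (.nd (.nd (.nd (.lf 0x0) (.lf 0x0)) (.nd (.lf 0x0) (.lf 0x2))) (.nd (.nd (.lf 0x2) (.lf 0x3)) (.nd (.lf 0x2) (.lf 0)))))))
def witR0_nbaaa : Tr := (.nd (.nd (.nd (.nd (.nd (.nd (.lf 0x0) (.lf 0x5)) (.nd (.lf 0x0) (.lf 0x5))) (.nd (.nd (.lf 0x0) (.lf 0x4)) (.nd (.lf 0x0) (.lf 0x7)))) (.nd (.nd (.nd (.lf 0x0) (.lf 0x5)) (.nd (.lf 0x0) (.lf 0x6))) (.nd (.nd (.lf 0x0) (.lf 0x6)) (.nd (.lf 0x0) (.lf 0x4))))) (.nd (.nd (.nd (.nd (.lf 0x0) (.lf 0x0)) (.nd (.lf 0x7) (.lf 0x0))) (.nd (.nd (.lf 0x0) (.lf 0x0)) (.nd (.lf 0x0) (.lf 0x4)))) (.nd (.nd (.nd (.lf 0x0) (.lf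 0x7)) (.nd (.lf 0x0) (.lf 0x1))) (.nd (.nd (.lf 0x0) (.lf 0x1)) (.nd (.lf 0x5) (.lf 0)))))) (.nd (.nd (.nd (.nd (.nd (.lf 0x0) (.lf 0x4)) (.nd (.lf 0x0) (.lf 0x3))) (.nd (.nd (.lf 0x0) (.lf 0x7)) (.nd (.lf 0x0) (.lf 0x0)))) (.nd (.nd (.nd (.lf 0x0) (.lf 0x0)) (.nd (.lf 0x0) (.lf 0x5))) (.nd (.nd (.lf 0x0) (.lf 0x0)) (.nd (.lf 0x0) (.lf 0))))) (.nd (.nd (.nd (.nd (.lf 0x0) (.lf 0x7)) (.nd (.lf 0x0) (.lf 0x7))) (.nd (.nd (.lf 0x0) (.lf 0x1)) (.nd (.lf 0x0) (.lf 0x4)))) (.nd (.nd (.nd (.lf 0x0) (.lf 0x7)) (.nd (.lf 0x7) (.lf 0x3))) (.nd (.nd (.lf 0x0) (.lf 0x0)) (.nd (.lf 0x0) (.lf 0)))))))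
def witR0_nbaab : Tr := (.nd (.nd (.nd (.nd (.nd (.nd (.lf 0x0) (.lf 0x5)) (.nd (.lf 0x0) (.lf 0x2))) (.nd (.nd (.lf 0x0) (.lf 0x0)) (.nd (.lf 0x5) (.lf 0x0)))) (.nd (.nd (.nd (.lf 0x3) (.lf 0x7)) (.nd (.lf 0x0) (.lf 0x4))) (.nd (.nd (.lf 0x0) (.lf 0x0)) (.nd (.lf 0x0) (.lf 0x4))))) (.nd (.nd (.nd (.nd (.lf 0x0) (.lf 0x0)) (.nd (.lf 0x2) (.lf 0x0))) (.nd (.nd (.lf 0x0) (.lf 0x0)) (.nd (.lf 0x4) (.lf 0x1)))) (.nd (.nd (.nd (.lf 0x0) (.lf 0x1)) (.nd (.lf 0x0) (.lf 0x5))) (.nd (.nd (.lf 0x0) (.lf 0x0)) (.nd (.lf 0x6) (.lf 0)))))) (.nd (.nd (.nd (.nd (.nd (.lf 0x0) (.lf 0x0)) (.nd (.lf 0x0) (.lf 0x4))) (.nd (.nd (.lf 0x0) (.lf 0x1)) (.nd (.lf 0x7) (.lf 0x3)))) (.nd (.nd (.nd (.lf 0x0) (.lf 0x0)) (.nd (.lf 0x0) (.lf 0x0))) (.nd (.nd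 (.lf 0x0) (.lf 0x0)) (.nd (.lf 0x0) (.lf 0))))) (.nd (.nd (.nd (.nd (.lf 0x0) (.lf 0x3)) (.nd (.lf 0x2) (.lf 0x0))) (.nd (.nd (.lf 0x0) (.lf 0x0)) (.nd (.lf 0x0) (.lf 0x0)))) (.nd (.nd (.nd (.lf 0x6) (.lf 0x0)) (.nd (.lf 0x0) (.lf 0x0))) (.nd (.nd (.lf 0x0) (.lf 0x7)) (.nd (.lf 0x3) (.lf 0)))))))
def witR0_nbaba : Tr := (.nd (.nd (.nd (.nd (.nd (.nd (.lf 0x0) (.lf 0x0)) (.nd (.lf 0x0) (.lf 0x0))) (.nd (.nd (.lf 0x0) (.lf 0x0)) (.nd (.lf 0x0) (.lf 0x2)))) (.nd (.nd (.nd (.lf 0x0) (.lf 0x2)) (.nd (.lf 0x0) (.lf 0x7))) (.nd (.nd (.lf 0x0) (.lf 0x7)) (.nd (.lf 0x0) (.lf 0x1))))) (.nd (.nd (.nd (.nd (.lf 0x0) (.lf 0x0)) (.nd (.lf 0x0) (.lf 0x3))) (.nd (.nd (.lf 0x0) (.lf 0x0)) (.nd (.lf 0x0) (.lf 0x2)))) (.nd (.nd (.nd (.lf 0x0) (.lf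 0x6)) (.nd (.lf 0x4) (.lf 0x2))) (.nd (.nd (.lf 0x0) (.lf 0x6)) (.nd (.lf 0x0) (.lf 0)))))) (.nd (.nd (.nd (.nd (.nd (.lf 0x0) (.lf 0x0)) (.nd (.lf 0x1) (.lf 0x7))) (.nd (.nd (.lf 0x0) (.lf 0x1)) (.nd (.lf 0x1) (.lf 0x1)))) (.nd (.nd (.nd (.lf 0x0) (.lf 0x7)) (.nd (.lf 0x0) (.lf 0x4))) (.nd (.nd (.lf 0x0) (.lf 0x7)) (.nd (.lf 0x0) (.lf 0))))) (.nd (.nd (.nd (.nd (.lf 0x0) (.lf 0x0)) (.nd (.lf 0x6) (.lf 0x0))) (.nd (.nd (.lf 0x7) (.lf 0x0)) (.nd (.lf 0x0) (.lf 0x2)))) (.nd (.nd (.nd (.lf 0x0) (.lf 0x0)) (.nd (.lf 0x0) (.lf 0x0))) (.nd (.nd (.lf 0x0) (.lf 0x0)) (.nd (.lf 0x0) (.lf 0)))))))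
def witR0_nbabb : Tr := (.nd (.nd (.nd (.nd (.nd (.nd (.lf 0x0) (.lf 0x0)) (.nd (.lf 0x0) (.lf 0x7))) (.nd (.nd (.lf 0x7) (.lf 0x0)) (.nd (.lf 0x0) (.lf 0x4)))) (.nd (.nd (.nd (.lf 0x0) (.lf 0x7)) (.nd (.lf 0x0) (.lf 0x0))) (.nd (.nd (.lf 0x0) (.lf 0x0)) (.nd (.lf 0x0) (.lf 0x6))))) (.nd (.nd (.nd (.nd (.lf 0x0) (.lf 0x7)) (.nd (.lf 0x0) (.lf 0x6))) (.nd (.nd (.lf 0x0) (.lf 0x0)) (.nd (.lf 0x0) (.lf 0x5)))) (.nd (.nd (.nd (.lf 0x0) (.lf 0x0)) (.nd (.lf 0x5) (.lf 0x0))) (.nd (.nd (.lf 0x0) (.lf 0x3)) (.nd (.lf 0x0) (.lf 0)))))) (.nd (.nd (.nd (.nd (.nd (.lf 0x0) (.lf 0x7)) (.nd (.lf 0x5) (.lf 0x0))) (.nd (.nd (.lf 0x0) (.lf 0x6)) (.nd (.lf 0x0) (.lf 0x5)))) (.nd (.nd (.nd (.lf 0x0) (.lf 0x1)) (.nd (.lf 0x0) (.lf 0x7))) (.nd (.nd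 (.lf 0x2) (.lf 0x5)) (.nd (.lf 0x0) (.lf 0))))) (.nd (.nd (.nd (.nd (.lf 0x0) (.lf 0x0)) (.nd (.lf 0x7) (.lf 0x7))) (.nd (.nd (.lf 0x0) (.lf 0x0)) (.nd (.lf 0x0) (.lf 0x6)))) (.nd (.nd (.nd (.lf 0x0) (.lf 0x0)) (.nd (.lf 0x1) (.lf 0x0))) (.nd (.nd (.lf 0x0) (.lf 0x2)) (.nd (.lf 0x0) (.lf 0)))))))
def witR0_nbbaa : Tr := (.nd (.nd (.nd (.nd (.nd (.nd (.lf 0x0) (.lf 0x0)) (.nd (.lf 0x0) (.lf 0x1))) (.nd (.nd (.lf 0x7) (.lf 0x0)) (.nd (.lf 0x5) (.lf 0x1)))) (.nd (.nd (.nd (.lf 0x0) (.lf 0x2)) (.nd (.lf 0x3) (.lf 0x0))) (.nd (.nd (.lf 0x0) (.lf 0x0)) (.nd (.lf 0x0) (.lf 0x4))))) (.nd (.nd (.nd (.nd (.lf 0x0) (.lf 0x1)) (.nd (.lf 0x0) (.lf 0x0))) (.nd (.nd (.lf 0x0) (.lf 0x4)) (.nd (.lf 0x0) (.lf 0x2)))) (.nd (.nd (.nd (.lf 0x0) (.lf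 0x3)) (.nd (.lf 0x0) (.lf 0x1))) (.nd (.nd (.lf 0x0) (.lf 0x4)) (.nd (.lf 0x0) (.lf 0)))))) (.nd (.nd (.nd (.nd (.nd (.lf 0x0) (.lf 0x0)) (.nd (.lf 0x0) (.lf 0x6))) (.nd (.nd (.lf 0x0) (.lf 0x4)) (.nd (.lf 0x0) (.lf 0x0)))) (.nd (.nd (.nd (.lf 0x0) (.lf 0x0)) (.nd (.lf 0x0) (.lf 0x6))) (.nd (.nd (.lf 0x0) (.lf 0x0)) (.nd (.lf 0x0) (.lf 0))))) (.nd (.nd (.nd (.nd (.lf 0x0) (.lf 0x6)) (.nd (.lf 0x0) (.lf 0x1))) (.nd (.nd (.lf 0x0) (.lf 0x0)) (.nd (.lf 0x6) (.lf 0x6)))) (.nd (.nd (.nd (.lf 0x0) (.lf 0x5)) (.nd (.lf 0x7) (.lf 0x5))) (.nd (.nd (.lf 0x6) (.lf 0x3)) (.nd (.lf 0x0) (.lf 0)))))))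
def witR0_nbbab : Tr := (.nd (.nd (.nd (.nd (.nd (.nd (.lf 0x0) (.lf 0x6)) (.nd (.lf 0x0) (.lf 0x2))) (.nd (.nd (.lf 0x0) (.lf 0x0)) (.nd (.lf 0x3) (.lf 0x1)))) (.nd (.nd (.nd (.lf 0x0) (.lf 0x7)) (.nd (.lf 0x0) (.lf 0x0))) (.nd (.nd (.lf 0x0) (.lf 0x3)) (.nd (.lf 0x0) (.lf 0x4))))) (.nd (.nd (.nd (.nd (.lf 0x0) (.lf 0x0)) (.nd (.lf 0x0) (.lf 0x6))) (.nd (.nd (.lf 0x0) (.lf 0x5)) (.nd (.lf 0x6) (.lf 0x1)))) (.nd (.nd (.nd (.lf 0x0) (.lf 0x0)) (.nd (.lf 0x0) (.lf 0x7))) (.nd (.nd (.lf 0x0) (.lf 0x4)) (.nd (.lf 0x7) (.lf 0)))))) (.nd (.nd (.nd (.nd (.nd (.lf 0x0) (.lf 0x0)) (.nd (.lf 0x0) (.lf 0x1))) (.nd (.nd (.lf 0x0) (.lf 0x3)) (.nd (.lf 0x0) (.lf 0x0)))) (.nd (.nd (.nd (.lf 0x0) (.lf 0x0)) (.nd (.lf 0x3) (.lf 0x6))) (.nd (.nd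 (.lf 0x3) (.lf 0x3)) (.nd (.lf 0x0) (.lf 0))))) (.nd (.nd (.nd (.nd (.lf 0x0) (.lf 0x0)) (.nd (.lf 0x0) (.lf 0x0))) (.nd (.nd (.lf 0x0) (.lf 0x6)) (.nd (.lf 0x0) (.lf 0x2)))) (.nd (.nd (.nd (.lf 0x0) (.lf 0x0)) (.nd (.lf 0x0) (.lf 0x2))) (.nd (.nd (.lf 0x0) (.lf 0x7)) (.nd (.lf 0x2) (.lf 0)))))))
def witR0_nbbba : Tr := (.nd (.nd (.nd (.nd (.nd (.nd (.lf 0x0) (.lf 0x0)) (.nd (.lf 0x0) (.lf 0x3))) (.nd (.nd (.lf 0x0) (.lf 0x7)) (.nd (.lf 0x0) (.lf 0x4)))) (.nd (.nd (.nd (.lf 0x0) (.lf 0x0)) (.nd (.lf 0x0) (.lf 0x2))) (.nd (.nd (.lf 0x1) (.lf 0x2)) (.nd (.lf 0x0) (.lf 0x2))))) (.nd (.nd (.nd (.nd (.lf 0x0) (.lf 0x6)) (.nd (.lf 0x7) (.lf 0x4))) (.nd (.nd (.lf 0x0) (.lf 0x0)) (.nd (.lf 0x0) (.lf 0x6)))) (.nd (.nd (.nd (.lf 0x0) (.lf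 0x0)) (.nd (.lf 0x0) (.lf 0x0))) (.nd (.nd (.lf 0x5) (.lf 0x7)) (.nd (.lf 0x7) (.lf 0)))))) (.nd (.nd (.nd (.nd (.nd (.lf 0x0) (.lf 0x7)) (.nd (.lf 0x0) (.lf 0x0))) (.nd (.nd (.lf 0x0) (.lf 0x0)) (.nd (.lf 0x6) (.lf 0x0)))) (.nd (.nd (.nd (.lf 0x0) (.lf 0x2)) (.nd (.lf 0x4) (.lf 0x0))) (.nd (.nd (.lf 0x0) (.lf 0x3)) (.nd (.lf 0x0) (.lf 0))))) (.nd (.nd (.nd (.nd (.lf 0x0) (.lf 0x2)) (.nd (.lf 0x0) (.lf 0x3))) (.nd (.nd (.lf 0x0) (.lf 0x3)) (.nd (.lf 0x1) (.lf 0x2)))) (.nd (.nd (.nd (.lf 0x0) (.lf 0x5)) (.nd (.lf 0x2) (.lf 0x7))) (.nd (.nd (.lf 0x0) (.lf 0x7)) (.nd (.lf 0x7) (.lf 0)))))))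
def witR0_nbbbb : Tr := (.nd (.nd (.nd (.nd (.nd (.nd (.lf 0x0) (.lf 0x0)) (.nd (.lf 0x4) (.lf 0x3))) (.nd (.nd (.lf 0x0) (.lf 0x0)) (.nd (.lf 0x0) (.lf 0x5)))) (.nd (.nd (.nd (.lf 0x0) (.lf 0x0)) (.nd (.lf 0x0) (.lf 0x3))) (.nd (.nd (.lf 0x5) (.lf 0x7)) (.nd (.lf 0x0) (.lf 0))))) (.nd (.nd (.nd (.nd (.lf 0x0) (.lf 0x0)) (.nd (.lf 0x7) (.lf 0x0))) (.nd (.nd (.lf 0x0) (.lf 0x2)) (.nd (.lf 0x0) (.lf 0x0)))) (.nd (.nd (.nd (.lf 0x0) (.lf 0x0)) (.nd (.lf 0x0) (.lf 0x0))) (.nd (.nd (.lf 0x0) (.lf 0x6)) (.nd (.lf 0x0) (.lf 0)))))) (.nd (.nd (.nd (.nd (.nd (.lf 0x0) (.lf 0x1)) (.nd (.lf 0x1) (.lf 0x0))) (.nd (.nd (.lf 0x0) (.lf 0x3)) (.nd (.lf 0x0) (.lf 0x6)))) (.nd (.nd (.nd (.lf 0x0) (.lf 0x1)) (.nd (.lf 0x0) (.lf 0x7))) (.nd (.nd (.lf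 0x0) (.lf 0x0)) (.nd (.lf 0x0) (.lf 0))))) (.nd (.nd (.nd (.nd (.lf 0x0) (.lf 0x0)) (.nd (.lf 0x4) (.lf 0x1))) (.nd (.nd (.lf 0x0) (.lf 0x7)) (.nd (.lf 0x0) (.lf 0x2)))) (.nd (.nd (.nd (.lf 0x0) (.lf 0x0)) (.nd (.lf 0x0) (.lf 0x7))) (.nd (.nd (.lf 0x0) (.lf 0x3)) (.nd (.lf 0x0) (.lf 0)))))))
def witR0 : Tr := (.nd (.nd (.nd (.nd witR0_naaaa witR0_naaab) (.nd witR0_naaba witR0_naabb)) (.nd (.nd witR0_nabaa witR0_nabab) (.nd witR0_nabba witR0_nabbb))) (.nd (.nd (.nd witR0_nbaaa witR0_nbaab) (.nd witR0_nbaba witR0_nbabb)) (.nd (.nd witR0_nbbaa witR0_nbbab) (.nd witR0_nbbba witR0_nbbbb))))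
def tabR1_naaaa : Tr := (.nd (.nd (.nd (.nd (.nd (.nd (.lf 0x2) (.lf 0x2e9)) (.nd (.lf 0x1aa) (.lf 0x378))) (.nd (.nd (.lf 0xde) (.lf 0x325)) (.nd (.lf 0x8d) (.lf 0x343)))) (.nd (.nd (.nd (.lf 0x7a) (.lf 0x1f8)) (.nd (.lf 0x203) (.lf 0x180))) (.nd (.nd (.lf 0x14b) (.lf 0x375)) (.nd (.lf 0x2a6) (.lf 0x162))))) (.nd (.nd (.nd (.nd (.lf 0x41) (.lf 0x1d)) (.nd (.lf 0x1d9) (.lf 0x18a))) (.nd (.nd (.lf 0x115) (.lf 0x360)) (.nd (.lf 0x27c) (.lf 0xa3)))) (.nd (.nd (.nd (.lf 0xad) (.lf 0x336)) (.nd (.lf 0xfc) (.lf 0x351))) (.nd (.nd (.lf 0x177) (.lf 0x2d7)) (.nd (.lf 0x2cb) (.lf 0)))))) (.nd (.nd (.nd (.nd (.nd (.lf 0x22) (.lf 0x2f8)) (.nd (.lf 0x1c3) (.lf 0x367))) (.nd (.nd (.lf 0xf9) (.lf 0x16e)) (.nd (.lf 0x26c) (.lf 0x350)))) (.nd (.nd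 (.nd (.lf 0x95) (.lf 0xdf)) (.nd (.lf 0x21a) (.lf 0x30f))) (.nd (.nd (.lf 0x74) (.lf 0x382)) (.nd (.lf 0x2b6) (.lf 0))))) (.nd (.nd (.nd (.nd (.lf 0x5d) (.lf 0x2fa)) (.nd (.lf 0x1ed) (.lf 0x395))) (.nd (.nd (.lf 0x126) (.lf 0x36d)) (.nd (.lf 0x291) (.lf 0x186)))) (.nd (.nd (.nd (.lf 0xc6) (.lf 0x118)) (.nd (.lf 0x240) (.lf 0x3c0))) (.nd (.nd (.lf 0x190) (.lf 0x2f5)) (.nd (.lf 0x2d9) (.lf 0)))))))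
def tabR1_naaab : Tr := (.nd (.nd (.nd (.nd (.nd (.nd (.lf 0x12) (.lf 0x26f)) (.nd (.lf 0x166) (.lf 0x253))) (.nd (.nd (.lf 0xeb) (.lf 0x23d)) (.nd (.lf 0x264) (.lf 0x31c)))) (.nd (.nd (.nd (.lf 0x1) (.lf 0x2b0)) (.nd (.lf 0x192) (.lf 0x398))) (.nd (.nd (.lf 0x155) (.lf 0x377)) (.nd (.lf 0x9d) (.lf 0x2e7))))) (.nd (.nd (.nd (.nd (.lf 0x50) (.lf 0x1f0)) (.nd (.lf 0x129) (.lf 0x3ab))) (.nd (.nd (.lf 0x125) (.lf 0x10d)) (.nd (.lf 0x27d) (.lf 0x359)))) (.nd (.nd (.nd (.lf 0xba) (.lf 0x33b)) (.nd (.lf 0x17e) (.lf 0x1d3))) (.nd (.nd (.lf 0x184) (.lf 0x390)) (.nd (.lf 0x2d0) (.lf 0)))))) (.nd (.nd (.nd (.nd (.nd (.lf 0x32) (.lf 0x2ff)) (.nd (.lf 0x1ce) (.lf 0x3a6))) (.nd (.nd (.lf 0x108) (.lf 0x2d2)) (.nd (.lf 0x274) (.lf 0x3c3)))) (.nd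 (.nd (.nd (.lf 0xa2) (.lf 0x331)) (.nd (.lf 0x220) (.lf 0x234))) (.nd (.nd (.lf 0x161) (.lf 0x202)) (.nd (.lf 0x6c) (.lf 0))))) (.nd (.nd (.nd (.nd (.lf 0x6b) (.lf 0xdc)) (.nd (.lf 0x6e) (.lf 0x1f2))) (.nd (.nd (.lf 0x13e) (.lf 0x348)) (.nd (.lf 0x295) (.lf 0x300)))) (.nd (.nd (.nd (.lf 0xd1) (.lf 0x281)) (.nd (.lf 0x24b) (.lf 0x3b2))) (.nd (.nd (.lf 0x19d) (.lf 0x392)) (.nd (.lf 0x2e2) (.lf 0)))))))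
def tabR1_naaba : Tr := (.nd (.nd (.nd (.nd (.nd (.nd (.lf 0xa) (.lf 0x51)) (.nd (.lf 0x1b0) (.lf 0x196))) (.nd (.nd (.lf 0xe4) (.lf 0x34e)) (.nd (.lf 0x25d) (.lf 0x2f4)))) (.nd (.nd (.nd (.lf 0x81) (.lf 0x1dc)) (.nd (.lf 0x208) (.lf 0x32c))) (.nd (.nd (.lf 0x145) (.lf 0x379)) (.nd (.lf 0x2aa) (.lf 0x2c0))))) (.nd (.nd (.nd (.nd (.lf 0x49) (.lf 0x20c)) (.nd (.lf 0xb) (.lf 0x1f7))) (.nd (.nd (.lf 0x11d) (.lf 0x361)) (.nd (.lf 0x13) (.lf 0x3be)))) (.nd (.nd (.nd (.lf 0xb4) (.lf 0x14f)) (.nd (.lf 0x235) (.lf 0x231))) (.nd (.nd (.lf 0x17f) (.lf 0x23b)) (.nd (.lf 0xb9) (.lf 0)))))) (.nd (.nd (.nd (.nd (.nd (.lf 0x2a) (.lf 0x2fc)) (.nd (.lf 0x1b1) (.lf 0x318))) (.nd (.nd (.lf 0x101) (.lf 0x11e)) (.nd (.lf 0x271) (.lf 0x2e5)))) (.nd (.nd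 (.nd (.lf 0x9c) (.lf 0x321)) (.nd (.lf 0x221) (.lf 0x3b7))) (.nd (.nd (.lf 0x167) (.lf 0x2b9)) (.nd (.lf 0x2bd) (.lf 0))))) (.nd (.nd (.nd (.nd (.lf 0x64) (.lf 0x2ad)) (.nd (.lf 0x1b3) (.lf 0x34f))) (.nd (.nd (.lf 0x138) (.lf 0x13b)) (.nd (.lf 0x19e) (.lf 0x3cc)))) (.nd (.nd (.nd (.lf 0x98) (.lf 0x341)) (.nd (.lf 0x245) (.lf 0x3ac))) (.nd (.nd (.lf 0x56) (.lf 0xae)) (.nd (.lf 0x2de) (.lf 0)))))))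
def tabR1_naabb : Tr := (.nd (.nd (.nd (.nd (.nd (.nd (.lf 0x1a) (.lf 0x1a2)) (.nd (.lf 0x1bc) (.lf 0x3a1))) (.nd (.nd (.lf 0xf2) (.lf 0x354)) (.nd (.lf 0x268) (.lf 0x100)))) (.nd (.nd (.nd (.lf 0x8e) (.lf 0x326)) (.nd (.lf 0x215) (.lf 0x353))) (.nd (.nd (.lf 0x15b) (.lf 0x37e)) (.nd (.lf 0x2b1) (.lf 0x38f))))) (.nd (.nd (.nd (.nd (.lf 0x57) (.lf 0x29c)) (.nd (.lf 0x1ae) (.lf 0xe1))) (.nd (.nd (.lf 0x12b) (.lf 0x36a)) (.nd (.lf 0x28b) (.lf 0x244)))) (.nd (.nd (.nd (.lf 0xc1) (.lf 0x33d)) (.nd (.lf 0x1e1) (.lf 0x225))) (.nd (.nd (.lf 0x189) (.lf 0x21e)) (.nd (.lf 0x2d3) (.lf 0)))))) (.nd (.nd (.nd (.nd (.nd (.lf 0x3a) (.lf 0x304)) (.nd (.lf 0x1d4) (.lf 0x3a7))) (.nd (.nd (.lf 0x10e) (.lf 0x35d)) (.nd (.lf 0x277) (.lf 0xa1)))) (.nd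 (.nd (.nd (.lf 0xa8) (.lf 0x2f6)) (.nd (.lf 0x22a) (.lf 0x1d2))) (.nd (.nd (.lf 0x40) (.lf 0x38b)) (.nd (.lf 0x2c7) (.lf 0))))) (.nd (.nd (.nd (.nd (.lf 0x73) (.lf 0x25e)) (.nd (.lf 0x1fe) (.lf 0x312))) (.nd (.nd (.lf 0x144) (.lf 0x372)) (.nd (.lf 0x2a1) (.lf 0x3c5)))) (.nd (.nd (.nd (.lf 0xd8) (.lf 0x2d4)) (.nd (.lf 0x252) (.lf 0x32e))) (.nd (.nd (.lf 0x1a3) (.lf 0x29f)) (.nd (.lf 0x2e4) (.lf 0)))))))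
def tabR1_nabaa : Tr := (.nd (.nd (.nd (.nd (.nd (.nd (.lf 0x6) (.lf 0x2ea)) (.nd (.lf 0x1ad) (.lf 0x39e))) (.nd (.nd (.lf 0xe2) (.lf 0xfa)) (.nd (.lf 0x25a) (.lf 0x317)))) (.nd (.nd (.nd (.lf 0x5c) (.lf 0x320)) (.nd (.lf 0xdd) (.lf 0x3b4))) (.nd (.nd (.lf 0x14e) (.lf 0x376)) (.nd (.lf 0x15) (.lf 0x11c))))) (.nd (.nd (.nd (.nd (.lf 0x45) (.lf 0xc7)) (.nd (.lf 0x1db) (.lf 0xbe))) (.nd (.nd (.lf 0x119) (.lf 0x2a5)) (.nd (.lf 0x27f) (.lf 0xe8)))) (.nd (.nd (.nd (.lf 0xb1) (.lf 0x2f2)) (.nd (.lf 0x232) (.lf 0x1b6))) (.nd (.nd (.lf 0x17b) (.lf 0x33e)) (.nd (.lf 0x229) (.lf 0)))))) (.nd (.nd (.nd (.nd (.nd (.lf 0x26) (.lf 0x120)) (.nd (.lf 0x1c7) (.lf 0x3a4))) (.nd (.nd (.lf 0xfd) (.lf 0x358)) (.nd (.lf 0x25c) (.lf 0x122)))) (.nd (.nd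 (.nd (.lf 0x11) (.lf 0x32b)) (.nd (.lf 0x21d) (.lf 0x3a5))) (.nd (.nd (.lf 0x164) (.lf 0x12c)) (.nd (.lf 0x2ba) (.lf 0))))) (.nd (.nd (.nd (.nd (.lf 0x61) (.lf 0x315)) (.nd (.lf 0x1f1) (.lf 0x35c))) (.nd (.nd (.lf 0x135) (.lf 0x323)) (.nd (.lf 0x294) (.lf 0x284)))) (.nd (.nd (.nd (.lf 0xc8) (.lf 0x2d)) (.nd (.lf 0x242) (.lf 0x37d))) (.nd (.nd (.lf 0x193) (.lf 0x1ac)) (.nd (.lf 0x2db) (.lf 0)))))))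
def tabR1_nabab : Tr := (.nd (.nd (.nd (.nd (.nd (.nd (.lf 0x16) (.lf 0xbb)) (.nd (.lf 0x1b8) (.lf 0x3a0))) (.nd (.nd (.lf 0xef) (.lf 0x216)) (.nd (.lf 0x195) (.lf 0x12e)))) (.nd (.nd (.nd (.lf 0x8a) (.lf 0x7b)) (.nd (.lf 0x211) (.lf 0x143))) (.nd (.nd (.lf 0x158) (.lf 0x7d)) (.nd (.lf 0x89) (.lf 0x3ce))))) (.nd (.nd (.nd (.nd (.lf 0x53) (.lf 0xb8)) (.nd (.lf 0x1e6) (.lf 0x278))) (.nd (.nd (.lf 0x128) (.lf 0x369)) (.nd (.lf 0x288) (.lf 0x373)))) (.nd (.nd (.nd (.lf 0xbd) (.lf 0x165)) (.nd (.lf 0x23c) (.lf 0x82))) (.nd (.nd (.lf 0x170) (.lf 0x393)) (.nd (.lf 0x2d1) (.lf 0)))))) (.nd (.nd (.nd (.nd (.nd (.lf 0x36) (.lf 0x2b5)) (.nd (.lf 0x1d1) (.lf 0x32a))) (.nd (.nd (.lf 0x35) (.lf 0x16a)) (.nd (.lf 0x275) (.lf 0x34a)))) (.nd (.nd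 (.nd (.lf 0xa5) (.lf 0x329)) (.nd (.lf 0x227) (.lf 0x15e))) (.nd (.nd (.lf 0x171) (.lf 0x33)) (.nd (.lf 0x2c3) (.lf 0))))) (.nd (.nd (.nd (.nd (.lf 0x6f) (.lf 0x178)) (.nd (.lf 0x1fb) (.lf 0x371))) (.nd (.nd (.lf 0x140) (.lf 0x33f)) (.nd (.lf 0x29e) (.lf 0x2bc)))) (.nd (.nd (.nd (.lf 0xd4) (.lf 0x84)) (.nd (.lf 0x24f) (.lf 0x222))) (.nd (.nd (.lf 0x1a1) (.lf 0x39c)) (.nd (.lf 0x29b) (.lf 0)))))))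
def tabR1_nabba : Tr := (.nd (.nd (.nd (.nd (.nd (.nd (.lf 0xe) (.lf 0x1b)) (.nd (.lf 0x12a) (.lf 0x1e8))) (.nd (.nd (.lf 0xd9) (.lf 0x1a0)) (.nd (.lf 0x261) (.lf 0x355)))) (.nd (.nd (.nd (.lf 0x85) (.lf 0x8f)) (.nd (.lf 0x20b) (.lf 0x3b0))) (.nd (.nd (.lf 0x153) (.lf 0x37a)) (.nd (.lf 0x2ac) (.lf 0x314))))) (.nd (.nd (.nd (.nd (.lf 0x4d) (.lf 0x24a)) (.nd (.lf 0x1e2) (.lf 0x33a))) (.nd (.nd (.lf 0x121) (.lf 0x2af)) (.nd (.lf 0x283) (.lf 0x3ca)))) (.nd (.nd (.nd (.lf 0x92) (.lf 0x339)) (.nd (.lf 0x77) (.lf 0x3bd))) (.nd (.nd (.lf 0x182) (.lf 0x38d)) (.nd (.lf 0x204) (.lf 0)))))) (.nd (.nd (.nd (.nd (.nd (.lf 0x2e) (.lf 0x10b)) (.nd (.lf 0x1cb) (.lf 0x388))) (.nd (.nd (.lf 0x105) (.lf 0x3d)) (.nd (.lf 0x8b) (.lf 0x114)))) (.nd (.nd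 (.nd (.lf 0x9f) (.lf 0x32f)) (.nd (.lf 0x224) (.lf 0x256))) (.nd (.nd (.lf 0x16b) (.lf 0x386)) (.nd (.lf 0x260) (.lf 0))))) (.nd (.nd (.nd (.nd (.lf 0x67) (.lf 0x26d)) (.nd (.lf 0x10a) (.lf 0x3af))) (.nd (.nd (.lf 0x13a) (.lf 0x136)) (.nd (.lf 0x299) (.lf 0x3c8)))) (.nd (.nd (.nd (.lf 0x4a) (.lf 0xf4)) (.nd (.lf 0x248) (.lf 0x3ba))) (.nd (.nd (.lf 0x199) (.lf 0x31b)) (.nd (.lf 0x2e1) (.lf 0)))))))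
def tabR1_nabbb : Tr := (.nd (.nd (.nd (.nd (.nd (.nd (.lf 0x1e) (.lf 0x2b4)) (.nd (.lf 0x1c0) (.lf 0x13f))) (.nd (.nd (.lf 0xf5) (.lf 0x22d)) (.nd (.lf 0xfe) (.lf 0x3c7)))) (.nd (.nd (.nd (.lf 0x91) (.lf 0x13d)) (.nd (.lf 0x217) (.lf 0x3b8))) (.nd (.nd (.lf 0x15f) (.lf 0x380)) (.nd (.lf 0x2b3) (.lf 0x3c6))))) (.nd (.nd (.nd (.nd (.lf 0x48) (.lf 0x310)) (.nd (.lf 0x1eb) (.lf 0x104))) (.nd (.nd (.lf 0x12f) (.lf 0x2a8)) (.nd (.lf 0x28e) (.lf 0x3bf)))) (.nd (.nd (.nd (.lf 0x19) (.lf 0x1c8)) (.nd (.lf 0x150) (.lf 0x1cc))) (.nd (.nd (.lf 0x18d) (.lf 0x257)) (.nd (.lf 0x2d6) (.lf 0)))))) (.nd (.nd (.nd (.nd (.nd (.lf 0x29) (.lf 0x307)) (.nd (.lf 0x1d7) (.lf 0x342))) (.nd (.nd (.lf 0x112) (.lf 0x35f)) (.nd (.lf 0x17c) (.lf 0xa4)))) (.nd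 (.nd (.nd (.lf 0xaa) (.lf 0x109)) (.nd (.lf 0x22e) (.lf 0x38a))) (.nd (.nd (.lf 0x174) (.lf 0x24c)) (.nd (.lf 0x2c9) (.lf 0))))) (.nd (.nd (.nd (.nd (.lf 0x76) (.lf 0xc3)) (.nd (.lf 0x201) (.lf 0xea))) (.nd (.nd (.lf 0x80) (.lf 0x27b)) (.nd (.lf 0x2a4) (.lf 0x3ad)))) (.nd (.nd (.nd (.lf 0x3) (.lf 0x349)) (.nd (.lf 0x251) (.lf 0x1bd))) (.nd (.nd (.lf 0x1a6) (.lf 0x37f)) (.nd (.lf 0x58) (.lf 0)))))))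
def tabR1_nbaaa : Tr := (.nd (.nd (.nd (.nd (.nd (.nd (.lf 0x4) (.lf 0x159)) (.nd (.lf 0x72) (.lf 0x2cd))) (.nd (.nd (.lf 0xe0) (.lf 0x1de)) (.nd (.lf 0x258) (.lf 0xa9)))) (.nd (.nd (.nd (.lf 0x7c) (.lf 0x31f)) (.nd (.lf 0x205) (.lf 0x5a))) (.nd (.nd (.lf 0x14c) (.lf 0x2f)) (.nd (.lf 0x2a7) (.lf 0x21b))))) (.nd (.nd (.nd (.nd (.lf 0x43) (.lf 0x2c6)) (.nd (.lf 0x1da) (.lf 0x2a0))) (.nd (.nd (.lf 0x117) (.lf 0x1ea)) (.nd (.lf 0x107) (.lf 0xb0)))) (.nd (.nd (.nd (.lf 0xaf) (.lf 0x337)) (.nd (.lf 0xf) (.lf 0x2ae))) (.nd (.nd (.lf 0x179) (.lf 0x2f1)) (.nd (.lf 0x1bf) (.lf 0)))))) (.nd (.nd (.nd (.nd (.nd (.lf 0x24) (.lf 0x2f9)) (.nd (.lf 0x1c5) (.lf 0xf0))) (.nd (.nd (.lf 0xfb) (.lf 0x357)) (.nd (.lf 0x21c) (.lf 0x22b)))) (.nd (.nd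 (.nd (.lf 0x97) (.lf 0x4e)) (.nd (.lf 0x23) (.lf 0x399))) (.nd (.nd (.lf 0x163) (.lf 0x9b)) (.nd (.lf 0x2b8) (.lf 0))))) (.nd (.nd (.nd (.nd (.lf 0x5f) (.lf 0x313)) (.nd (.lf 0x1ef) (.lf 0x181))) (.nd (.nd (.lf 0x133) (.lf 0x287)) (.nd (.lf 0x141) (.lf 0x3c4)))) (.nd (.nd (.nd (.lf 0xc0) (.lf 0x340)) (.nd (.lf 0x241) (.lf 0x1f4))) (.nd (.nd (.lf 0x191) (.lf 0x16c)) (.nd (.lf 0xd7) (.lf 0)))))))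
def tabR1_nbaab : Tr := (.nd (.nd (.nd (.nd (.nd (.nd (.lf 0x14) (.lf 0x44)) (.nd (.lf 0x1b7) (.lf 0x152))) (.nd (.nd (.lf 0xed) (.lf 0x1ee)) (.nd (.lf 0x265) (.lf 0x39d)))) (.nd (.nd (.nd (.lf 0x88) (.lf 0x209)) (.nd (.lf 0x206) (.lf 0x2dc))) (.nd (.nd (.lf 0x39) (.lf 0x31a)) (.nd (.lf 0x276) (.lf 0x33c))))) (.nd (.nd (.nd (.nd (.lf 0x0) (.lf 0x30c)) (.nd (.lf 0x1e4) (.lf 0x46))) (.nd (.nd (.lf 0x127) (.lf 0x26e)) (.nd (.lf 0x286) (.lf 0x2ee)))) (.nd (.nd (.nd (.lf 0xbc) (.lf 0x25)) (.nd (.lf 0x59) (.lf 0x1c4))) (.nd (.nd (.lf 0x185) (.lf 0x391)) (.nd (.lf 0x19a) (.lf 0)))))) (.nd (.nd (.nd (.nd (.nd (.lf 0x34) (.lf 0x301)) (.nd (.lf 0xb7) (.lf 0x36e))) (.nd (.nd (.lf 0xe5) (.lf 0x35b)) (.nd (.lf 0x66) (.lf 0x254)))) (.nd (.nd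 (.nd (.lf 0x99) (.lf 0x309)) (.nd (.lf 0x15c) (.lf 0x3b1))) (.nd (.nd (.lf 0x16f) (.lf 0x387)) (.nd (.lf 0x2b2) (.lf 0))))) (.nd (.nd (.nd (.nd (.lf 0x6d) (.lf 0x319)) (.nd (.lf 0x1f9) (.lf 0x345))) (.nd (.nd (.lf 0x5e) (.lf 0x1a9)) (.nd (.lf 0x29d) (.lf 0x364)))) (.nd (.nd (.nd (.lf 0xd2) (.lf 0x28c)) (.nd (.lf 0x24d) (.lf 0x2ef))) (.nd (.nd (.lf 0x19f) (.lf 0x356)) (.nd (.lf 0x2e3) (.lf 0)))))))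
def tabR1_nbaba : Tr := (.nd (.nd (.nd (.nd (.nd (.nd (.lf 0xc) (.lf 0x2ed)) (.nd (.lf 0x1b2) (.lf 0x2df))) (.nd (.nd (.lf 0xe6) (.lf 0x2e8)) (.nd (.lf 0x25f) (.lf 0x3a9)))) (.nd (.nd (.nd (.lf 0x83) (.lf 0x322)) (.nd (.lf 0xd) (.lf 0xec))) (.nd (.nd (.lf 0xd5) (.lf 0x210)) (.nd (.lf 0x24e) (.lf 0x362))))) (.nd (.nd (.nd (.nd (.lf 0x4b) (.lf 0x292)) (.nd (.lf 0x1e0) (.lf 0xcf))) (.nd (.nd (.lf 0x11f) (.lf 0x62)) (.nd (.lf 0xf6) (.lf 0x262)))) (.nd (.nd (.nd (.lf 0xb6) (.lf 0x266)) (.nd (.lf 0x236) (.lf 0x148))) (.nd (.nd (.lf 0xc5) (.lf 0x19c)) (.nd (.lf 0x2ce) (.lf 0)))))) (.nd (.nd (.nd (.nd (.nd (.lf 0x2c) (.lf 0x2fd)) (.nd (.lf 0x1c2) (.lf 0x2b7))) (.nd (.nd (.lf 0x103) (.lf 0x1d0)) (.nd (.lf 0xdb) (.lf 0x385)))) (.nd (.nd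 (.nd (.lf 0x9e) (.lf 0x32d)) (.nd (.lf 0x223) (.lf 0x1ab))) (.nd (.nd (.lf 0x169) (.lf 0x1fc)) (.nd (.lf 0x2bf) (.lf 0))))) (.nd (.nd (.nd (.nd (.lf 0x9) (.lf 0x1fa)) (.nd (.lf 0x1f5) (.lf 0x39b))) (.nd (.nd (.lf 0x139) (.lf 0x1af)) (.nd (.lf 0x297) (.lf 0x31e)))) (.nd (.nd (.nd (.lf 0xcd) (.lf 0x60)) (.nd (.lf 0x247) (.lf 0x3a8))) (.nd (.nd (.lf 0x197) (.lf 0x39a)) (.nd (.lf 0x2da) (.lf 0)))))))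
def tabR1_nbabb : Tr := (.nd (.nd (.nd (.nd (.nd (.nd (.lf 0x1c) (.lf 0x2c4)) (.nd (.lf 0x1be) (.lf 0x20f))) (.nd (.nd (.lf 0xf3) (.lf 0x102)) (.nd (.lf 0x26a) (.lf 0x20e)))) (.nd (.nd (.nd (.lf 0x7e) (.lf 0x327)) (.nd (.lf 0x6a) (.lf 0x1cf))) (.nd (.nd (.lf 0x15d) (.lf 0x188)) (.nd (.lf 0x230) (.lf 0x3b6))))) (.nd (.nd (.nd (.nd (.lf 0x4c) (.lf 0x298)) (.nd (.lf 0x1e9) (.lf 0x27a))) (.nd (.nd (.lf 0x12d) (.lf 0x36c)) (.nd (.lf 0x28d) (.lf 0x3c9)))) (.nd (.nd (.nd (.lf 0xc2) (.lf 0xee)) (.nd (.lf 0x23e) (.lf 0x250))) (.nd (.nd (.lf 0x18b) (.lf 0x396)) (.nd (.lf 0x2d5) (.lf 0)))))) (.nd (.nd (.nd (.nd (.nd (.lf 0x3c) (.lf 0x305)) (.nd (.lf 0x1d5) (.lf 0x38c))) (.nd (.nd (.lf 0x110) (.lf 0x187)) (.nd (.lf 0x279) (.lf 0x263)))) (.nd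 (.nd (.nd (.lf 0x17) (.lf 0x334)) (.nd (.lf 0x22c) (.lf 0x75))) (.nd (.nd (.lf 0x173) (.lf 0x311)) (.nd (.lf 0x2c1) (.lf 0))))) (.nd (.nd (.nd (.nd (.lf 0x65) (.lf 0x31d)) (.nd (.lf 0x1ff) (.lf 0x2dd))) (.nd (.nd (.lf 0x146) (.lf 0x2c8)) (.nd (.lf 0x10f) (.lf 0x3cb)))) (.nd (.nd (.nd (.lf 0xda) (.lf 0x27)) (.nd (.lf 0x1e5) (.lf 0x2c2))) (.nd (.nd (.lf 0x1a5) (.lf 0x1d8)) (.nd (.lf 0x2e6) (.lf 0)))))))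
def tabR1_nbbaa : Tr := (.nd (.nd (.nd (.nd (.nd (.nd (.lf 0x8) (.lf 0x137)) (.nd (.lf 0x1a4) (.lf 0x39f))) (.nd (.nd (.lf 0xd3) (.lf 0x34d)) (.nd (.lf 0x25b) (.lf 0x2ec)))) (.nd (.nd (.nd (.lf 0x7f) (.lf 0x20a)) (.nd (.lf 0x207) (.lf 0xe3))) (.nd (.nd (.lf 0x132) (.lf 0x23f)) (.nd (.lf 0x2a9) (.lf 0x11a))))) (.nd (.nd (.nd (.nd (.lf 0x47) (.lf 0x94)) (.nd (.lf 0x1dd) (.lf 0x157))) (.nd (.nd (.lf 0x11b) (.lf 0x2b)) (.nd (.lf 0x280) (.lf 0x285)))) (.nd (.nd (.nd (.lf 0xb2) (.lf 0x338)) (.nd (.lf 0x22f) (.lf 0x35a))) (.nd (.nd (.lf 0x17d) (.lf 0x134)) (.nd (.lf 0x1e7) (.lf 0)))))) (.nd (.nd (.nd (.nd (.nd (.lf 0x28) (.lf 0x2fb)) (.nd (.lf 0x1c9) (.lf 0x34c))) (.nd (.nd (.lf 0xff) (.lf 0x306)) (.nd (.lf 0x269) (.lf 0x131)))) (.nd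 (.nd (.nd (.lf 0x9a) (.lf 0x70)) (.nd (.lf 0x21f) (.lf 0x3b9))) (.nd (.nd (.lf 0x7) (.lf 0x384)) (.nd (.lf 0x1d6) (.lf 0))))) (.nd (.nd (.nd (.nd (.lf 0x63) (.lf 0x316)) (.nd (.lf 0x1f3) (.lf 0x3ae))) (.nd (.nd (.lf 0x31) (.lf 0x36f)) (.nd (.lf 0xb5) (.lf 0x332)))) (.nd (.nd (.nd (.lf 0xca) (.lf 0x1b9)) (.nd (.lf 0x243) (.lf 0x3c1))) (.nd (.nd (.lf 0x194) (.lf 0x14d)) (.nd (.lf 0x2a2) (.lf 0)))))))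
def tabR1_nbbab : Tr := (.nd (.nd (.nd (.nd (.nd (.nd (.lf 0x18) (.lf 0x2f3)) (.nd (.lf 0x1ba) (.lf 0x2eb))) (.nd (.nd (.lf 0xf1) (.lf 0x352)) (.nd (.lf 0x267) (.lf 0x328)))) (.nd (.nd (.nd (.lf 0x8c) (.lf 0x90)) (.nd (.lf 0x213) (.lf 0x156))) (.nd (.nd (.lf 0xce) (.lf 0x42)) (.nd (.lf 0x246) (.lf 0x2be))))) (.nd (.nd (.nd (.nd (.lf 0x55) (.lf 0x30e)) (.nd (.lf 0x175) (.lf 0x28f))) (.nd (.nd (.lf 0x5) (.lf 0x2fe)) (.nd (.lf 0x289) (.lf 0x27e)))) (.nd (.nd (.nd (.lf 0xbf) (.lf 0x233)) (.nd (.lf 0x237) (.lf 0x346))) (.nd (.nd (.lf 0x52) (.lf 0x394)) (.nd (.lf 0x218) (.lf 0)))))) (.nd (.nd (.nd (.nd (.nd (.lf 0x38) (.lf 0x303)) (.nd (.lf 0x15a) (.lf 0x365))) (.nd (.nd (.lf 0x10c) (.lf 0x79)) (.nd (.lf 0x116) (.lf 0x87)))) (.nd (.nd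 (.nd (.lf 0xa7) (.lf 0x333)) (.nd (.lf 0x228) (.lf 0x3bc))) (.nd (.nd (.lf 0x172) (.lf 0x389)) (.nd (.lf 0x2c5) (.lf 0))))) (.nd (.nd (.nd (.nd (.lf 0x71) (.lf 0x130)) (.nd (.lf 0x1fd) (.lf 0x214))) (.nd (.nd (.lf 0x142) (.lf 0x111)) (.nd (.lf 0x1ca) (.lf 0x270)))) (.nd (.nd (.nd (.lf 0xd6) (.lf 0x347)) (.nd (.lf 0x1c6) (.lf 0x374))) (.nd (.nd (.lf 0x168) (.lf 0x3b)) (.nd (.lf 0x296) (.lf 0)))))))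
def tabR1_nbbba : Tr := (.nd (.nd (.nd (.nd (.nd (.nd (.lf 0x10) (.lf 0x2f0)) (.nd (.lf 0x1b5) (.lf 0x2e0))) (.nd (.nd (.lf 0xe9) (.lf 0x239)) (.nd (.lf 0x17a) (.lf 0xcc)))) (.nd (.nd (.nd (.lf 0x86) (.lf 0x324)) (.nd (.lf 0x20d) (.lf 0x366))) (.nd (.nd (.lf 0x154) (.lf 0x37b)) (.nd (.lf 0x2a3) (.lf 0x3cd))))) (.nd (.nd (.nd (.nd (.lf 0x4f) (.lf 0x30a)) (.nd (.lf 0x1e3) (.lf 0x344))) (.nd (.nd (.lf 0x123) (.lf 0x2cc)) (.nd (.lf 0x68) (.lf 0x26b)))) (.nd (.nd (.nd (.lf 0xab) (.lf 0x1bb)) (.nd (.lf 0x238) (.lf 0x363))) (.nd (.nd (.lf 0x183) (.lf 0x38e)) (.nd (.lf 0x2cf) (.lf 0)))))) (.nd (.nd (.nd (.nd (.nd (.lf 0x30) (.lf 0xc9)) (.nd (.lf 0x1cd) (.lf 0x293))) (.nd (.nd (.lf 0x106) (.lf 0x282)) (.nd (.lf 0x272) (.lf 0x147)))) (.nd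 (.nd (.nd (.lf 0xa0) (.lf 0x330)) (.nd (.lf 0x212) (.lf 0x37c))) (.nd (.nd (.lf 0x16d) (.lf 0x383)) (.nd (.lf 0x96) (.lf 0))))) (.nd (.nd (.nd (.nd (.lf 0x69) (.lf 0x226)) (.nd (.lf 0x1a7) (.lf 0x36b))) (.nd (.nd (.lf 0x13c) (.lf 0x370)) (.nd (.lf 0x29a) (.lf 0xf8)))) (.nd (.nd (.nd (.lf 0xd0) (.lf 0x30b)) (.nd (.lf 0x249) (.lf 0x3c2))) (.nd (.nd (.lf 0x19b) (.lf 0x2ab)) (.nd (.lf 0xac) (.lf 0)))))))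
def tabR1_nbbbb : Tr := (.nd (.nd (.nd (.nd (.nd (.nd (.lf 0x20) (.lf 0x2f7)) (.nd (.lf 0x1c1) (.lf 0x3a3))) (.nd (.nd (.lf 0xf7) (.lf 0x1b4)) (.nd (.lf 0x3e) (.lf 0x3b5)))) (.nd (.nd (.nd (.lf 0x93) (.lf 0x273)) (.nd (.lf 0x219) (.lf 0x3a2))) (.nd (.nd (.lf 0x160) (.lf 0x381)) (.nd (.lf 0x18e) (.lf 0))))) (.nd (.nd (.nd (.nd (.lf 0x5b) (.lf 0x1f)) (.nd (.lf 0x1ec) (.lf 0x14a))) (.nd (.nd (.lf 0x124) (.lf 0x54)) (.nd (.lf 0x290) (.lf 0x368)))) (.nd (.nd (.nd (.lf 0xc4) (.lf 0x37)) (.nd (.lf 0x151) (.lf 0x3bb))) (.nd (.nd (.lf 0x18f) (.lf 0x397)) (.nd (.lf 0x2d8) (.lf 0)))))) (.nd (.nd (.nd (.nd (.nd (.lf 0x3f) (.lf 0x308)) (.nd (.lf 0x198) (.lf 0x2ca))) (.nd (.nd (.lf 0x113) (.lf 0x18c)) (.nd (.lf 0x23a) (.lf 0x3aa)))) (.nd (.nd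 (.nd (.lf 0x21) (.lf 0x335)) (.nd (.lf 0xcb) (.lf 0x28a))) (.nd (.nd (.lf 0x176) (.lf 0x259)) (.nd (.lf 0xa6) (.lf 0))))) (.nd (.nd (.nd (.nd (.lf 0x78) (.lf 0x1df)) (.nd (.lf 0x200) (.lf 0x3b3))) (.nd (.nd (.lf 0x149) (.lf 0x302)) (.nd (.lf 0x1f6) (.lf 0xe7)))) (.nd (.nd (.nd (.lf 0xb3) (.lf 0x34b)) (.nd (.lf 0x255) (.lf 0x30d))) (.nd (.nd (.lf 0x1a8) (.lf 0x35e)) (.nd (.lf 0x2bb) (.lf 0)))))))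
def tabR1 : Tr := (.nd (.nd (.nd (.nd tabR1_naaaa tabR1_naaab) (.nd tabR1_naaba tabR1_naabb)) (.nd (.nd tabR1_nabaa tabR1_nabab) (.nd tabR1_nabba tabR1_nabbb))) (.nd (.nd (.nd tabR1_nbaaa tabR1_nbaab) (.nd tabR1_nbaba tabR1_nbabb)) (.nd (.nd tabR1_nbbaa tabR1_nbbab) (.nd tabR1_nbbba tabR1_nbbbb))))
def witR1_naaaa : Tr := (.nd (.nd (.nd (.nd (.nd (.nd (.lf 0x0) (.lf 0x0)) (.nd (.lf 0x0) (.lf 0x3))) (.nd (.nd (.lf 0x0) (.lf 0x7)) (.nd (.lf 0x7) (.lf 0x0)))) (.nd (.nd (.nd (.lf 0x0) (.lf 0x7)) (.nd (.lf 0x0) (.lf 0x7))) (.nd (.nd (.lf 0x0) (.lf 0x0)) (.nd (.lf 0x0) (.lf 0x2))))) (.nd (.nd (.nd (.nd (.lf 0x0) (.lf 0x0)) (.nd (.lf 0x0) (.lf 0x6))) (.nd (.nd (.lf 0x0) (.lf 0x0)) (.nd (.lf 0x0) (.lf 0x2)))) (.nd (.nd (.nd (.lf 0x0) (.lf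 0x0)) (.nd (.lf 0x5) (.lf 0x5))) (.nd (.nd (.lf 0x0) (.lf 0x5)) (.nd (.lf 0x0) (.lf 0)))))) (.nd (.nd (.nd (.nd (.nd (.lf 0x0) (.lf 0x0)) (.nd (.lf 0x0) (.lf 0x7))) (.nd (.nd (.lf 0x0) (.lf 0x5)) (.nd (.lf 0x0) (.lf 0x1)))) (.nd (.nd (.nd (.lf 0x0) (.lf 0x0)) (.nd (.lf 0x0) (.lf 0x6))) (.nd (.nd (.lf 0x2) (.lf 0x0)) (.nd (.lf 0x0) (.lf 0))))) (.nd (.nd (.nd (.nd (.lf 0x0) (.lf 0x0)) (.nd (.lf 0x0) (.lf 0x1))) (.nd (.nd (.lf 0x3) (.lf 0x0)) (.nd (.lf 0x0) (.lf 0x5)))) (.nd (.nd (.nd (.lf 0x0) (.lf 0x6)) (.nd (.lf 0x0) (.lf 0x0))) (.nd (.nd (.lf 0x0) (.lf 0x5)) (.nd (.lf 0x0) (.lf 0)))))))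
def witR1_naaab : Tr := (.nd (.nd (.nd (.nd (.nd (.nd (.lf 0x0) (.lf 0x6)) (.nd (.lf 0x1) (.lf 0x1))) (.nd (.nd (.lf 0x0) (.lf 0x2)) (.nd (.lf 0x0) (.lf 0x5)))) (.nd (.nd (.nd (.lf 0x0) (.lf 0x0)) (.nd (.lf 0x5) (.lf 0x5))) (.nd (.nd (.lf 0x0) (.lf 0x5)) (.nd (.lf 0x0) (.lf 0x0))))) (.nd (.nd (.nd (.nd (.lf 0x0) (.lf 0x3)) (.nd (.lf 0x7) (.lf 0x0))) (.nd (.nd (.lf 0x0) (.lf 0x0)) (.nd (.lf 0x0) (.lf 0x2)))) (.nd (.nd (.nd (.lf 0x0) (.lf 0x0)) (.nd (.lf 0x2) (.lf 0x0))) (.nd (.nd (.lf 0x0) (.lf 0x0)) (.nd (.lf 0x0) (.lf 0)))))) (.nd (.nd (.nd (.nd (.nd (.lf 0x0) (.lf 0x0)) (.nd (.lf 0x0) (.lf 0x0))) (.nd (.nd (.lf 0x0) (.lf 0x7)) (.nd (.lf 0x0) (.lf 0x0)))) (.nd (.nd (.nd (.lf 0x0) (.lf 0x0)) (.nd (.lf 0x0) (.lf 0x2))) (.nd (.nd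 (.lf 0x0) (.lf 0x1)) (.nd (.lf 0x3) (.lf 0))))) (.nd (.nd (.nd (.nd (.lf 0x0) (.lf 0x0)) (.nd (.lf 0x0) (.lf 0x7))) (.nd (.nd (.lf 0x0) (.lf 0x1)) (.nd (.lf 0x6) (.lf 0x3)))) (.nd (.nd (.nd (.lf 0x0) (.lf 0x5)) (.nd (.lf 0x0) (.lf 0x3))) (.nd (.nd (.lf 0x0) (.lf 0x2)) (.nd (.lf 0x0) (.lf 0)))))))
def witR1_naaba : Tr := (.nd (.nd (.nd (.nd (.nd (.nd (.lf 0x0) (.lf 0x3)) (.nd (.lf 0x0) (.lf 0x0))) (.nd (.nd (.lf 0x0) (.lf 0x0)) (.nd (.lf 0x0) (.lf 0x2)))) (.nd (.nd (.nd (.lf 0x0) (.lf 0x2)) (.nd (.lf 0x0) (.lf 0x0))) (.nd (.nd (.lf 0x0) (.lf 0x0)) (.nd (.lf 0x0) (.lf 0x4))))) (.nd (.nd (.nd (.nd (.lf 0x0) (.lf 0x5)) (.nd (.lf 0x0) (.lf 0x3))) (.nd (.nd (.lf 0x0) (.lf 0x2)) (.nd (.lf 0x0) (.lf 0x7)))) (.nd (.nd (.nd (.lf 0x0) (.lf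 0x6)) (.nd (.lf 0x0) (.lf 0x0))) (.nd (.nd (.lf 0x0) (.lf 0x6)) (.nd (.lf 0x6) (.lf 0)))))) (.nd (.nd (.nd (.nd (.nd (.lf 0x0) (.lf 0x0)) (.nd (.lf 0x0) (.lf 0x7))) (.nd (.nd (.lf 0x0) (.lf 0x5)) (.nd (.lf 0x0) (.lf 0x3)))) (.nd (.nd (.nd (.lf 0x0) (.lf 0x4)) (.nd (.lf 0x0) (.lf 0x7))) (.nd (.nd (.lf 0x0) (.lf 0x0)) (.nd (.lf 0x0) (.lf 0))))) (.nd (.nd (.nd (.nd (.lf 0x0) (.lf 0x6)) (.nd (.lf 0x5) (.lf 0x4))) (.nd (.nd (.lf 0x0) (.lf 0x5)) (.nd (.lf 0x2) (.lf 0x0)))) (.nd (.nd (.nd (.lf 0x4) (.lf 0x0)) (.nd (.lf 0x0) (.lf 0x4))) (.nd (.nd (.lf 0x6) (.lf 0x2)) (.nd (.lf 0x0) (.lf 0)))))))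
def witR1_naabb : Tr := (.nd (.nd (.nd (.nd (.nd (.nd (.lf 0x0) (.lf 0x2)) (.nd (.lf 0x0) (.lf 0x0))) (.nd (.nd (.lf 0x0) (.lf 0x0)) (.nd (.lf 0x0) (.lf 0x2)))) (.nd (.nd (.nd (.lf 0x0) (.lf 0x0)) (.nd (.lf 0x0) (.lf 0x1))) (.nd (.nd (.lf 0x0) (.lf 0x0)) (.nd (.lf 0x0) (.lf 0x7))))) (.nd (.nd (.nd (.nd (.lf 0x0) (.lf 0x0)) (.nd (.lf 0x7) (.lf 0x6))) (.nd (.nd (.lf 0x0) (.lf 0x0)) (.nd (.lf 0x0) (.lf 0x0)))) (.nd (.nd (.nd (.lf 0x0) (.lf 0x0)) (.nd (.lf 0x7) (.lf 0x2))) (.nd (.nd (.lf 0x0) (.lf 0x2)) (.nd (.lf 0x0) (.lf 0)))))) (.nd (.nd (.nd (.nd (.nd (.lf 0x0) (.lf 0x0)) (.nd (.lf 0x0) (.lf 0x0))) (.nd (.nd (.lf 0x0) (.lf 0x0)) (.nd (.lf 0x0) (.lf 0x6)))) (.nd (.nd (.nd (.lf 0x0) (.lf 0x4)) (.nd (.lf 0x0) (.lf 0x1))) (.nd (.nd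 (.lf 0x0) (.lf 0x0)) (.nd (.lf 0x0) (.lf 0))))) (.nd (.nd (.nd (.nd (.lf 0x0) (.lf 0x6)) (.nd (.lf 0x0) (.lf 0x4))) (.nd (.nd (.lf 0x0) (.lf 0x0)) (.nd (.lf 0x0) (.lf 0x7)))) (.nd (.nd (.nd (.lf 0x0) (.lf 0x1)) (.nd (.lf 0x0) (.lf 0x0))) (.nd (.nd (.lf 0x0) (.lf 0x4)) (.nd (.lf 0x0) (.lf 0)))))))
def witR1_nabaa : Tr := (.nd (.nd (.nd (.nd (.nd (.nd (.lf 0x0) (.lf 0x0)) (.nd (.lf 0x0) (.lf 0x0))) (.nd (.nd (.lf 0x0) (.lf 0x0)) (.nd (.lf 0x0) (.lf 0x4)))) (.nd (.nd (.nd (.lf 0x3) (.lf 0x0)) (.nd (.lf 0x4) (.lf 0x0))) (.nd (.nd (.lf 0x0) (.lf 0x0)) (.nd (.lf 0x0) (.lf 0x2))))) (.nd (.nd (.nd (.nd (.lf 0x0) (.lf 0x0)) (.nd (.lf 0x0) (.lf 0x7))) (.nd (.nd (.lf 0x0) (.lf 0x6)) (.nd (.lf 0x0) (.lf 0x5)))) (.nd (.nd (.nd (.lf 0x0) (.lf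 0x6)) (.nd (.lf 0x0) (.lf 0x2))) (.nd (.nd (.lf 0x0) (.lf 0x2)) (.nd (.lf 0x7) (.lf 0)))))) (.nd (.nd (.nd (.nd (.nd (.lf 0x0) (.lf 0x4)) (.nd (.lf 0x0) (.lf 0x0))) (.nd (.nd (.lf 0x0) (.lf 0x0)) (.nd (.lf 0x0) (.lf 0x4)))) (.nd (.nd (.nd (.lf 0x0) (.lf 0x0)) (.nd (.lf 0x0) (.lf 0x4))) (.nd (.nd (.lf 0x0) (.lf 0x0)) (.nd (.lf 0x0) (.lf 0))))) (.nd (.nd (.nd (.nd (.lf 0x0) (.lf 0x0)) (.nd (.lf 0x0) (.lf 0x4))) (.nd (.nd (.lf 0x0) (.lf 0x6)) (.nd (.lf 0x0) (.lf 0x3)))) (.nd (.nd (.nd (.lf 0x0) (.lf 0x6)) (.nd (.lf 0x0) (.lf 0x6))) (.nd (.nd (.lf 0x0) (.lf 0x5)) (.nd (.lf 0x0) (.lf 0)))))))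
def witR1_nabab : Tr := (.nd (.nd (.nd (.nd (.nd (.nd (.lf 0x0) (.lf 0x0)) (.nd (.lf 0x0) (.lf 0x0))) (.nd (.nd (.lf 0x0) (.lf 0x7)) (.nd (.lf 0x5) (.lf 0x2)))) (.nd (.nd (.nd (.lf 0x0) (.lf 0x4)) (.nd (.lf 0x0) (.lf 0x4))) (.nd (.nd (.lf 0x0) (.lf 0x2)) (.nd (.lf 0x5) (.lf 0x0))))) (.nd (.nd (.nd (.nd (.lf 0x0) (.lf 0x3)) (.nd (.lf 0x0) (.lf 0x5))) (.nd (.nd (.lf 0x0) (.lf 0x0)) (.nd (.lf 0x0) (.lf 0x3)))) (.nd (.nd (.nd (.lf 0x0) (.lf 0x2)) (.nd (.lf 0x0) (.lf 0x2))) (.nd (.nd (.lf 0x0) (.lf 0x0)) (.nd (.lf 0x0) (.lf 0)))))) (.nd (.nd (.nd (.nd (.nd (.lf 0x0) (.lf 0x4)) (.nd (.lf 0x0) (.lf 0x4))) (.nd (.nd (.lf 0x0) (.lf 0x7)) (.nd (.lf 0x0) (.lf 0x1)))) (.nd (.nd (.nd (.lf 0x0) (.lf 0x4)) (.nd (.lf 0x0) (.lf 0x1))) (.nd (.nd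 (.lf 0x0) (.lf 0x0)) (.nd (.lf 0x0) (.lf 0))))) (.nd (.nd (.nd (.nd (.lf 0x0) (.lf 0x3)) (.nd (.lf 0x0) (.lf 0x7))) (.nd (.nd (.lf 0x0) (.lf 0x4)) (.nd (.lf 0x0) (.lf 0x5)))) (.nd (.nd (.nd (.lf 0x0) (.lf 0x1)) (.nd (.lf 0x0) (.lf 0x6))) (.nd (.nd (.lf 0x0) (.lf 0x0)) (.nd (.lf 0x0) (.lf 0)))))))
def witR1_nabba : Tr := (.nd (.nd (.nd (.nd (.nd (.nd (.lf 0x0) (.lf 0x0)) (.nd (.lf 0x7) (.lf 0x4))) (.nd (.nd (.lf 0x7) (.lf 0x4)) (.nd (.lf 0x0) (.lf 0x4)))) (.nd (.nd (.nd (.lf 0x0) (.lf 0x5)) (.nd (.lf 0x0) (.lf 0x4))) (.nd (.nd (.lf 0x0) (.lf 0x0)) (.nd (.lf 0x0) (.lf 0x5))))) (.nd (.nd (.nd (.nd (.lf 0x0) (.lf 0x5)) (.nd (.lf 0x0) (.lf 0x2))) (.nd (.nd (.lf 0x0) (.lf 0x7)) (.nd (.lf 0x0) (.lf 0x0)))) (.nd (.nd (.nd (.lf 0x0) (.lf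 0x0)) (.nd (.lf 0x0) (.lf 0x2))) (.nd (.nd (.lf 0x0) (.lf 0x0)) (.nd (.lf 0x3) (.lf 0)))))) (.nd (.nd (.nd (.nd (.nd (.lf 0x0) (.lf 0x6)) (.nd (.lf 0x0) (.lf 0x5))) (.nd (.nd (.lf 0x0) (.lf 0x3)) (.nd (.lf 0x0) (.lf 0x3)))) (.nd (.nd (.nd (.lf 0x0) (.lf 0x0)) (.nd (.lf 0x0) (.lf 0x4))) (.nd (.nd (.lf 0x0) (.lf 0x0)) (.nd (.lf 0x5) (.lf 0))))) (.nd (.nd (.nd (.nd (.lf 0x0) (.lf 0x2)) (.nd (.lf 0x5) (.lf 0x0))) (.nd (.nd (.lf 0x0) (.lf 0x5)) (.nd (.lf 0x0) (.lf 0x3)))) (.nd (.nd (.nd (.lf 0x4) (.lf 0x0)) (.nd (.lf 0x0) (.lf 0x2))) (.nd (.nd (.lf 0x0) (.lf 0x1)) (.nd (.lf 0x0) (.lf 0)))))))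
def witR1_nabbb : Tr := (.nd (.nd (.nd (.nd (.nd (.nd (.lf 0x0) (.lf 0x4)) (.nd (.lf 0x0) (.lf 0x0))) (.nd (.nd (.lf 0x0) (.lf 0x5)) (.nd (.lf 0x1) (.lf 0x0)))) (.nd (.nd (.nd (.lf 0x0) (.lf 0x0)) (.nd (.lf 0x0) (.lf 0x0))) (.nd (.nd (.lf 0x0) (.lf 0x0)) (.nd (.lf 0x0) (.lf 0x2))))) (.nd (.nd (.nd (.nd (.lf 0x0) (.lf 0x0)) (.nd (.lf 0x0) (.lf 0x3))) (.nd (.nd (.lf 0x0) (.lf 0x4)) (.nd (.lf 0x0) (.lf 0x5)))) (.nd (.nd (.nd (.lf 0x0) (.lf 0x4)) (.nd (.lf 0x5) (.lf 0x0))) (.nd (.nd (.lf 0x0) (.lf 0x2)) (.nd (.lf 0x0) (.lf 0)))))) (.nd (.nd (.nd (.nd (.nd (.lf 0x0) (.lf 0x0)) (.nd (.lf 0x0) (.lf 0x1))) (.nd (.nd (.lf 0x0) (.lf 0x0)) (.nd (.lf 0x5) (.lf 0x0)))) (.nd (.nd (.nd (.lf 0x0) (.lf 0x1)) (.nd (.lf 0x0) (.lf 0x1))) (.nd (.nd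 (.lf 0x0) (.lf 0x2)) (.nd (.lf 0x0) (.lf 0))))) (.nd (.nd (.nd (.nd (.lf 0x0) (.lf 0x3)) (.nd (.lf 0x0) (.lf 0x5))) (.nd (.nd (.lf 0x7) (.lf 0x0)) (.nd (.lf 0x0) (.lf 0x1)))) (.nd (.nd (.nd (.lf 0x0) (.lf 0x0)) (.nd (.lf 0x4) (.lf 0x6))) (.nd (.nd (.lf 0x0) (.lf 0x3)) (.nd (.lf 0x1) (.lf 0)))))))
def witR1_nbaaa : Tr := (.nd (.nd (.nd (.nd (.nd (.nd (.lf 0x0) (.lf 0x0)) (.nd (.lf 0x2) (.lf 0x6))) (.nd (.nd (.lf 0x0) (.lf 0x5)) (.nd (.lf 0x0) (.lf 0x2)))) (.nd (.nd (.nd (.lf 0x0) (.lf 0x0)) (.nd (.lf 0x0) (.lf 0x2))) (.nd (.nd (.lf 0x0) (.lf 0x0)) (.nd (.lf 0x0) (.lf 0x0))))) (.nd (.nd (.nd (.nd (.lf 0x0) (.lf 0x6)) (.nd (.lf 0x0) (.lf 0x6))) (.nd (.nd (.lf 0x0) (.lf 0x3)) (.nd (.lf 0x2) (.lf 0x3)))) (.nd (.nd (.nd (.lf 0x0) (.lf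 0x0)) (.nd (.lf 0x0) (.lf 0x6))) (.nd (.nd (.lf 0x0) (.lf 0x6)) (.nd (.lf 0x0) (.lf 0)))))) (.nd (.nd (.nd (.nd (.nd (.lf 0x0) (.lf 0x0)) (.nd (.lf 0x0) (.lf 0x6))) (.nd (.nd (.lf 0x0) (.lf 0x0)) (.nd (.lf 0x0) (.lf 0x6)))) (.nd (.nd (.nd (.lf 0x0) (.lf 0x5)) (.nd (.lf 0x1) (.lf 0x1))) (.nd (.nd (.lf 0x0) (.lf 0x4)) (.nd (.lf 0x0) (.lf 0))))) (.nd (.nd (.nd (.nd (.lf 0x0) (.lf 0x0)) (.nd (.lf 0x0) (.lf 0x1))) (.nd (.nd (.lf 0x0) (.lf 0x7)) (.nd (.lf 0x4) (.lf 0x7)))) (.nd (.nd (.nd (.lf 0x7) (.lf 0x0)) (.nd (.lf 0x0) (.lf 0x7))) (.nd (.nd (.lf 0x0) (.lf 0x0)) (.nd (.lf 0x4) (.lf 0)))))))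
def witR1_nbaab : Tr := (.nd (.nd (.nd (.nd (.nd (.nd (.lf 0x0) (.lf 0x7)) (.nd (.lf 0x0) (.lf 0x0))) (.nd (.nd (.lf 0x0) (.lf 0x3)) (.nd (.lf 0x0) (.lf 0x4)))) (.nd (.nd (.nd (.lf 0x0) (.lf 0x7)) (.nd (.lf 0x0) (.lf 0x2))) (.nd (.nd (.lf 0x0) (.lf 0x1)) (.nd (.lf 0x6) (.lf 0x1))))) (.nd (.nd (.nd (.nd (.lf 0x0) (.lf 0x0)) (.nd (.lf 0x0) (.lf 0x3))) (.nd (.nd (.lf 0x0) (.lf 0x3)) (.nd (.lf 0x0) (.lf 0x0)))) (.nd (.nd (.nd (.lf 0x0) (.lf 0x0)) (.nd (.lf 0x4) (.lf 0x5))) (.nd (.nd (.lf 0x0) (.lf 0x0)) (.nd (.lf 0x7) (.lf 0)))))) (.nd (.nd (.nd (.nd (.nd (.lf 0x0) (.lf 0x0)) (.nd (.lf 0x1) (.lf 0x6))) (.nd (.nd (.lf 0x0) (.lf 0x0)) (.nd (.lf 0x2) (.lf 0x1)))) (.nd (.nd (.nd (.lf 0x1) (.lf 0x5)) (.nd (.lf 0x4) (.lf 0x1))) (.nd (.nd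 (.lf 0x0) (.lf 0x0)) (.nd (.lf 0x1) (.lf 0))))) (.nd (.nd (.nd (.nd (.lf 0x0) (.lf 0x0)) (.nd (.lf 0x0) (.lf 0x5))) (.nd (.nd (.lf 0x1) (.lf 0x2)) (.nd (.lf 0x0) (.lf 0x4)))) (.nd (.nd (.nd (.lf 0x0) (.lf 0x2)) (.nd (.lf 0x0) (.lf 0x4))) (.nd (.nd (.lf 0x0) (.lf 0x0)) (.nd (.lf 0x0) (.lf 0)))))))
def witR1_nbaba : Tr := (.nd (.nd (.nd (.nd (.nd (.nd (.lf 0x0) (.lf 0x0)) (.nd (.lf 0x0) (.lf 0x7))) (.nd (.nd (.lf 0x0) (.lf 0x1)) (.nd (.lf 0x0) (.lf 0x0)))) (.nd (.nd (.nd (.lf 0x0) (.lf 0x0)) (.nd (.lf 0x0) (.lf 0x4))) (.nd (.nd (.lf 0x3) (.lf 0x1)) (.nd (.lf 0x5) (.lf 0x5))))) (.nd (.nd (.nd (.nd (.lf 0x0) (.lf 0x1)) (.nd (.lf 0x0) (.lf 0x2))) (.nd (.nd (.lf 0x0) (.lf 0x4)) (.nd (.lf 0x2) (.lf 0x0)))) (.nd (.nd (.nd (.lf 0x0) (.lf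 0x6)) (.nd (.lf 0x0) (.lf 0x6))) (.nd (.nd (.lf 0x1) (.lf 0x3)) (.nd (.lf 0x0) (.lf 0)))))) (.nd (.nd (.nd (.nd (.nd (.lf 0x0) (.lf 0x0)) (.nd (.lf 0x0) (.lf 0x2))) (.nd (.nd (.lf 0x0) (.lf 0x6)) (.nd (.lf 0x4) (.lf 0x3)))) (.nd (.nd (.nd (.lf 0x0) (.lf 0x0)) (.nd (.lf 0x0) (.lf 0x0))) (.nd (.nd (.lf 0x0) (.lf 0x0)) (.nd (.lf 0x0) (.lf 0))))) (.nd (.nd (.nd (.nd (.lf 0x0) (.lf 0x6)) (.nd (.lf 0x0) (.lf 0x4))) (.nd (.nd (.lf 0x0) (.lf 0x3)) (.nd (.lf 0x0) (.lf 0x5)))) (.nd (.nd (.nd (.lf 0x0) (.lf 0x7)) (.nd (.lf 0x0) (.lf 0x0))) (.nd (.nd (.lf 0x0) (.lf 0x0)) (.nd (.lf 0x0) (.lf 0)))))))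
def witR1_nbabb : Tr := (.nd (.nd (.nd (.nd (.nd (.nd (.lf 0x0) (.lf 0x2)) (.nd (.lf 0x0) (.lf 0x6))) (.nd (.nd (.lf 0x0) (.lf 0x2)) (.nd (.lf 0x0) (.lf 0x1)))) (.nd (.nd (.nd (.lf 0x0) (.lf 0x0)) (.nd (.lf 0x0) (.lf 0x3))) (.nd (.nd (.lf 0x0) (.lf 0x0)) (.nd (.lf 0x6) (.lf 0x2))))) (.nd (.nd (.nd (.nd (.lf 0x6) (.lf 0x5)) (.nd (.lf 0x0) (.lf 0x1))) (.nd (.nd (.lf 0x0) (.lf 0x0)) (.nd (.lf 0x0) (.lf 0x3)))) (.nd (.nd (.nd (.lf 0x0) (.lf 0x0)) (.nd (.lf 0x0) (.lf 0x0))) (.nd (.nd (.lf 0x0) (.lf 0x0)) (.nd (.lf 0x0) (.lf 0)))))) (.nd (.nd (.nd (.nd (.nd (.lf 0x0) (.lf 0x0)) (.nd (.lf 0x0) (.lf 0x0))) (.nd (.nd (.lf 0x0) (.lf 0x5)) (.nd (.lf 0x0) (.lf 0x4)))) (.nd (.nd (.nd (.lf 0x7) (.lf 0x0)) (.nd (.lf 0x0) (.lf 0x0))) (.nd (.nd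 (.lf 0x0) (.lf 0x3)) (.nd (.lf 0x0) (.lf 0))))) (.nd (.nd (.nd (.nd (.lf 0x2) (.lf 0x0)) (.nd (.lf 0x0) (.lf 0x2))) (.nd (.nd (.lf 0x0) (.lf 0x7)) (.nd (.lf 0x3) (.lf 0x3)))) (.nd (.nd (.nd (.lf 0x0) (.lf 0x0)) (.nd (.lf 0x5) (.lf 0x1))) (.nd (.nd (.lf 0x0) (.lf 0x4)) (.nd (.lf 0x0) (.lf 0)))))))
def witR1_nbbaa : Tr := (.nd (.nd (.nd (.nd (.nd (.nd (.lf 0x0) (.lf 0x1)) (.nd (.lf 0x0) (.lf 0x0))) (.nd (.nd (.lf 0x0) (.lf 0x0)) (.nd (.lf 0x0) (.lf 0x1)))) (.nd (.nd (.nd (.lf 0x0) (.lf 0x3)) (.nd (.lf 0x0) (.lf 0x5))) (.nd (.nd (.lf 0x0) (.lf 0x2)) (.nd (.lf 0x0) (.lf 0x3))))) (.nd (.nd (.nd (.nd (.lf 0x0) (.lf 0x2)) (.nd (.lf 0x0) (.lf 0x4))) (.nd (.nd (.lf 0x0) (.lf 0x0)) (.nd (.lf 0x0) (.lf 0x6)))) (.nd (.nd (.nd (.lf 0x0) (.lf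 0x0)) (.nd (.lf 0x0) (.lf 0x0))) (.nd (.nd (.lf 0x0) (.lf 0x7)) (.nd (.lf 0x2) (.lf 0)))))) (.nd (.nd (.nd (.nd (.nd (.lf 0x0) (.lf 0x0)) (.nd (.lf 0x0) (.lf 0x5))) (.nd (.nd (.lf 0x0) (.lf 0x6)) (.nd (.lf 0x0) (.lf 0x1)))) (.nd (.nd (.nd (.lf 0x0) (.lf 0x1)) (.nd (.lf 0x0) (.lf 0x0))) (.nd (.nd (.lf 0x0) (.lf 0x0)) (.nd (.lf 0x2) (.lf 0))))) (.nd (.nd (.nd (.nd (.lf 0x0) (.lf 0x0)) (.nd (.lf 0x0) (.lf 0x0))) (.nd (.nd (.lf 0x0) (.lf 0x0)) (.nd (.lf 0x2) (.lf 0x1)))) (.nd (.nd (.nd (.lf 0x0) (.lf 0x5)) (.nd (.lf 0x0) (.lf 0x0))) (.nd (.nd (.lf 0x0) (.lf 0x0)) (.nd (.lf 0x2) (.lf 0)))))))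
def witR1_nbbab : Tr := (.nd (.nd (.nd (.nd (.nd (.nd (.lf 0x0) (.lf 0x0)) (.nd (.lf 0x0) (.lf 0x2))) (.nd (.nd (.lf 0x0) (.lf 0x0)) (.nd (.lf 0x0) (.lf 0x3)))) (.nd (.nd (.nd (.lf 0x0) (.lf 0x6)) (.nd (.lf 0x0) (.lf 0x7))) (.nd (.nd (.lf 0x2) (.lf 0x4)) (.nd (.lf 0x5) (.lf 0x1))))) (.nd (.nd (.nd (.nd (.lf 0x0) (.lf 0x0)) (.nd (.lf 0x2) (.lf 0x2))) (.nd (.nd (.lf 0x0) (.lf 0x4)) (.nd (.lf 0x0) (.lf 0x6)))) (.nd (.nd (.nd (.lf 0x0) (.lf 0x2)) (.nd (.lf 0x1) (.lf 0x3))) (.nd (.nd (.lf 0x0) (.lf 0x0)) (.nd (.lf 0x1) (.lf 0)))))) (.nd (.nd (.nd (.nd (.nd (.lf 0x0) (.lf 0x0)) (.nd (.lf 0x2) (.lf 0x1))) (.nd (.nd (.lf 0x0) (.lf 0x6)) (.nd (.lf 0x0) (.lf 0x3)))) (.nd (.nd (.nd (.lf 0x0) (.lf 0x0)) (.nd (.lf 0x0) (.lf 0x0))) (.nd (.nd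 (.lf 0x0) (.lf 0x0)) (.nd (.lf 0x0) (.lf 0))))) (.nd (.nd (.nd (.nd (.lf 0x0) (.lf 0x6)) (.nd (.lf 0x0) (.lf 0x2))) (.nd (.nd (.lf 0x0) (.lf 0x0)) (.nd (.lf 0x7) (.lf 0x3)))) (.nd (.nd (.nd (.lf 0x0) (.lf 0x0)) (.nd (.lf 0x2) (.lf 0x6))) (.nd (.nd (.lf 0x3) (.lf 0x7)) (.nd (.lf 0x1) (.lf 0)))))))
def witR1_nbbba : Tr := (.nd (.nd (.nd (.nd (.nd (.nd (.lf 0x0) (.lf 0x0)) (.nd (.lf 0x0) (.lf 0x3))) (.nd (.nd (.lf 0x0) (.lf 0x1)) (.nd (.lf 0x7) (.lf 0x4)))) (.nd (.nd (.nd (.lf 0x0) (.lf 0x0)) (.nd (.lf 0x0) (.lf 0x7))) (.nd (.nd (.lf 0x0) (.lf 0x0)) (.nd (.lf 0x0) (.lf 0x6))))) (.nd (.nd (.nd (.nd (.lf 0x0) (.lf 0x0)) (.nd (.lf 0x0) (.lf 0x6))) (.nd (.nd (.lf 0x0) (.lf 0x5)) (.nd (.lf 0x7) (.lf 0x2)))) (.nd (.nd (.nd (.lf 0x0) (.lf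 0x2)) (.nd (.lf 0x0) (.lf 0x6))) (.nd (.nd (.lf 0x0) (.lf 0x0)) (.nd (.lf 0x0) (.lf 0)))))) (.nd (.nd (.nd (.nd (.nd (.lf 0x0) (.lf 0x0)) (.nd (.lf 0x0) (.lf 0x1))) (.nd (.nd (.lf 0x0) (.lf 0x2)) (.nd (.lf 0x0) (.lf 0x1)))) (.nd (.nd (.nd (.lf 0x0) (.lf 0x0)) (.nd (.lf 0x0) (.lf 0x4))) (.nd (.nd (.lf 0x0) (.lf 0x2)) (.nd (.lf 0x5) (.lf 0))))) (.nd (.nd (.nd (.nd (.lf 0x0) (.lf 0x7)) (.nd (.lf 0x6) (.lf 0x5))) (.nd (.nd (.lf 0x0) (.lf 0x0)) (.nd (.lf 0x0) (.lf 0x5)))) (.nd (.nd (.nd (.lf 0x0) (.lf 0x5)) (.nd (.lf 0x0) (.lf 0x0))) (.nd (.nd (.lf 0x0) (.lf 0x3)) (.nd (.lf 0x6) (.lf 0)))))))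
def witR1_nbbbb : Tr := (.nd (.nd (.nd (.nd (.nd (.nd (.lf 0x0) (.lf 0x0)) (.nd (.lf 0x0) (.lf 0x0))) (.nd (.nd (.lf 0x0) (.lf 0x5)) (.nd (.lf 0x3) (.lf 0x3)))) (.nd (.nd (.nd (.lf 0x0) (.lf 0x7)) (.nd (.lf 0x0) (.lf 0x6))) (.nd (.nd (.lf 0x0) (.lf 0x0)) (.nd (.lf 0x2) (.lf 0))))) (.nd (.nd (.nd (.nd (.lf 0x0) (.lf 0x0)) (.nd (.lf 0x0) (.lf 0x3))) (.nd (.nd (.lf 0x0) (.lf 0x7)) (.nd (.lf 0x0) (.lf 0x7)))) (.nd (.nd (.nd (.lf 0x0) (.lf 0x6)) (.nd (.lf 0x6) (.lf 0x2))) (.nd (.nd (.lf 0x0) (.lf 0x0)) (.nd (.lf 0x0) (.lf 0)))))) (.nd (.nd (.nd (.nd (.nd (.lf 0x0) (.lf 0x0)) (.nd (.lf 0x2) (.lf 0x2))) (.nd (.nd (.lf 0x0) (.lf 0x1)) (.nd (.lf 0x2) (.lf 0x4)))) (.nd (.nd (.nd (.lf 0x4) (.lf 0x0)) (.nd (.lf 0x3) (.lf 0x1))) (.nd (.nd (.lf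 0x0) (.lf 0x2)) (.nd (.lf 0x0) (.lf 0))))) (.nd (.nd (.nd (.nd (.lf 0x0) (.lf 0x2)) (.nd (.lf 0x6) (.lf 0x0))) (.nd (.nd (.lf 0x0) (.lf 0x0)) (.nd (.lf 0x1) (.lf 0x5)))) (.nd (.nd (.nd (.lf 0x3) (.lf 0x0)) (.nd (.lf 0x0) (.lf 0x5))) (.nd (.nd (.lf 0x0) (.lf 0x5)) (.nd (.lf 0x5) (.lf 0)))))))
def witR1 : Tr := (.nd (.nd (.nd (.nd witR1_naaaa witR1_naaab) (.nd witR1_naaba witR1_naabb)) (.nd (.nd witR1_nabaa witR1_nabab) (.nd witR1_nabba witR1_nabbb))) (.nd (.nd (.nd witR1_nbaaa witR1_nbaab) (.nd witR1_nbaba witR1_nbabb)) (.nd (.nd witR1_nbbaa witR1_nbbab) (.nd witR1_nbbba witR1_nbbbb))))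

end H94.RU.D
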