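import Cfsg.Agent.H94.J3.Gen

/-! Generated certificate data for the Rudvalis group. -/

namespace H94.RU.D

open H94.J3

def labG_naaaaaa : Tr := (.nd (.nd (.nd (.nd (.nd (.nd (.lf 0x0) (.lf 0x1)) (.nd (.lf 0x1) (.lf 0x1))) (.nd (.nd (.lf 0x1) (.lf 0x1)) (.nd (.lf 0x1) (.lf 0x2)))) (.nd (.nd (.nd (.lf 0x1) (.lf 0x2)) (.nd (.lf 0x2) (.lf 0x1))) (.nd (.nd (.lf 0x2) (.lf 0x1)) (.nd (.lf 0x1) (.lf 0x2))))) (.nd (.nd (.nd (.nd (.lf 0x1) (.lf 0x1)) (.nd (.lf 0x1) (.lf 0x1))) (.nd (.nd (.lf 0x1) (.lf 0x2)) (.nd (.lf 0x1) (.lf 0x2)))) (.nd (.nd (.nd (.lf 0x1) (.lf 0x1)) (.nd (.lf 0x1) (.lf 0x1))) (.nd (.nd (.lf 0x1) (.lf 0x1)) (.nd (.lf 0x1) (.lf 0x1)))))) (.nd (.nd (.nd (.nd (.nd (.lf 0x2) (.lf 0x2)) (.nd (.lf 0x2) (.lf 0x2)))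 (.nd (.nd (.lf 0x2) (.lf 0x1)) (.nd (.lf 0x2) (.lf 0x1)))) (.nd (.nd (.nd (.lf 0x2) (.lf 0x1)) (.nd (.lf 0x2) (.lf 0x1))) (.nd (.nd (.lf 0x1) (.lf 0x2)) (.nd (.lf 0x2) (.lf 0x1))))) (.nd (.nd (.nd (.nd (.lf 0x2) (.lf 0x2)) (.nd (.lf 0x1) (.lf 0x2))) (.nd (.nd (.lf 0x1) (.lf 0x2)) (.nd (.lf 0x1) (.lf 0x2)))) (.nd (.nd (.nd (.lf 0x1) (.lf 0x2)) (.nd (.lf 0x2) (.lf 0x2))) (.nd (.nd (.lf 0x1) (.lf 0x1)) (.nd (.lf 0x1) (.lf 0x1)))))))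
def labG_naaaaab : Tr := (.nd (.nd (.nd (.nd (.nd (.nd (.lf 0x2) (.lf 0x1)) (.nd (.lf 0x1) (.lf 0x2))) (.nd (.nd (.lf 0x1) (.lf 0x2)) (.nd (.lf 0x1) (.lf 0x1)))) (.nd (.nd (.nd (.lf 0x2) (.lf 0x1)) (.nd (.lf 0x1) (.lf 0x1))) (.nd (.nd (.lf 0x1) (.lf 0x1)) (.nd (.lf 0x1) (.lf 0x2))))) (.nd (.nd (.nd (.nd (.lf 0x1) (.lf 0x1)) (.nd (.lf 0x1) (.lf 0x1))) (.nd (.nd (.lf 0x2) (.lf 0x1)) (.nd (.lf 0x2) (.lf 0x1)))) (.nd (.nd (.nd (.lf 0x1) (.lf 0x1)) (.nd (.lf 0x2) (.lf 0x1))) (.nd (.nd (.lf 0x2) (.lf 0x2)) (.nd (.lf 0x1) (.lf 0x2)))))) (.nd (.nd (.nd (.nd (.nd (.lf 0x2) (.lf 0x2)) (.nd (.lf 0x1) (.lf 0x1))) (.nd (.nd (.lf 0x1) (.lf 0x1)) (.nd (.lf 0x1) (.lf 0x1)))) (.nd (.nd (.nd (.lf 0x1) (.lf 0x2)) (.nd (.lf 0x2) (.lf 0x1)))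 (.nd (.nd (.lf 0x2) (.lf 0x2)) (.nd (.lf 0x2) (.lf 0x1))))) (.nd (.nd (.nd (.nd (.lf 0x2) (.lf 0x1)) (.nd (.lf 0x2) (.lf 0x2))) (.nd (.nd (.lf 0x1) (.lf 0x2)) (.nd (.lf 0x1) (.lf 0x2)))) (.nd (.nd (.nd (.lf 0x2) (.lf 0x2)) (.nd (.lf 0x2) (.lf 0x1))) (.nd (.nd (.lf 0x1) (.lf 0x2)) (.nd (.lf 0x2) (.lf 0)))))))
def labG_naaaaba : Tr := (.nd (.nd (.nd (.nd (.nd (.nd (.lf 0x2) (.lf 0x1)) (.nd (.lf 0x2) (.lf 0x1))) (.nd (.nd (.lf 0x1) (.lf 0x1)) (.nd (.lf 0x1) (.lf 0x1)))) (.nd (.nd (.nd (.lf 0x1) (.lf 0x1)) (.nd (.lf 0x2) (.lf 0x1))) (.nd (.nd (.lf 0x2) (.lf 0x1)) (.nd (.lf 0x1) (.lf 0x2))))) (.nd (.nd (.nd (.nd (.lf 0x2) (.lf 0x2)) (.nd (.lf 0x1) (.lf 0x1))) (.nd (.nd (.lf 0x2) (.lf 0x2)) (.nd (.lf 0x1) (.lf 0x1)))) (.nd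 (.nd (.nd (.lf 0x1) (.lf 0x1)) (.nd (.lf 0x2) (.lf 0x2))) (.nd (.nd (.lf 0x1) (.lf 0x1)) (.nd (.lf 0x1) (.lf 0x2)))))) (.nd (.nd (.nd (.nd (.nd (.lf 0x2) (.lf 0x2)) (.nd (.lf 0x2) (.lf 0x1))) (.nd (.nd (.lf 0x2) (.lf 0x2)) (.nd (.lf 0x1) (.lf 0x2)))) (.nd (.nd (.nd (.lf 0x1) (.lf 0x2)) (.nd (.lf 0x1) (.lf 0x1))) (.nd (.nd (.lf 0x1) (.lf 0x2)) (.nd (.lf 0x2) (.lf 0x1))))) (.nd (.nd (.nd (.nd (.lf 0x1) (.lf 0x2)) (.nd (.lf 0x2) (.lf 0x1))) (.nd (.nd (.lf 0x2) (.lf 0x2)) (.nd (.lf 0x2) (.lf 0x1)))) (.nd (.nd (.nd (.lf 0x2) (.lf 0x2)) (.nd (.lf 0x2) (.lf 0x1))) (.nd (.nd (.lf 0x1) (.lf 0x1)) (.nd (.lf 0x2) (.lf 0x1)))))))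
def labG_naaaabb : Tr := (.nd (.nd (.nd (.nd (.nd (.nd (.lf 0x1) (.lf 0x1)) (.nd (.lf 0x1) (.lf 0x2))) (.nd (.nd (.lf 0x1) (.lf 0x1)) (.nd (.lf 0x2) (.lf 0x1)))) (.nd (.nd (.nd (.lf 0x2) (.lf 0x1)) (.nd (.lf 0x2) (.lf 0x2))) (.nd (.nd (.lf 0x1) (.lf 0x2)) (.nd (.lf 0x1) (.lf 0x1))))) (.nd (.nd (.nd (.nd (.lf 0x1) (.lf 0x2)) (.nd (.lf 0x1) (.lf 0x1))) (.nd (.nd (.lf 0x1) (.lf 0x2)) (.nd (.lf 0x1) (.lf 0x1)))) (.nd (.nd (.nd (.lf 0x1) (.lf 0x1)) (.nd (.lf 0x1) (.lf 0x1))) (.nd (.nd (.lf 0x1) (.lf 0x1)) (.nd (.lf 0x2) (.lf 0x2)))))) (.nd (.nd (.nd (.nd (.nd (.lf 0x1) (.lf 0x1)) (.nd (.lf 0x2) (.lf 0x1))) (.nd (.nd (.lf 0x2) (.lf 0x1)) (.nd (.lf 0x1) (.lf 0x2)))) (.nd (.nd (.nd (.lf 0x2) (.lf 0x1)) (.nd (.lf 0x1) (.lf 0x2)))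 (.nd (.nd (.lf 0x1) (.lf 0x2)) (.nd (.lf 0x1) (.lf 0x1))))) (.nd (.nd (.nd (.nd (.lf 0x1) (.lf 0x2)) (.nd (.lf 0x2) (.lf 0x2))) (.nd (.nd (.lf 0x2) (.lf 0x1)) (.nd (.lf 0x1) (.lf 0x1)))) (.nd (.nd (.nd (.lf 0x1) (.lf 0x2)) (.nd (.lf 0x2) (.lf 0x1))) (.nd (.nd (.lf 0x1) (.lf 0x1)) (.nd (.lf 0x1) (.lf 0)))))))
def labG_naaabaa : Tr := (.nd (.nd (.nd (.nd (.nd (.nd (.lf 0x1) (.lf 0x2)) (.nd (.lf 0x1) (.lf 0x1))) (.nd (.nd (.lf 0x1) (.lf 0x2)) (.nd (.lf 0x2) (.lf 0x2)))) (.nd (.nd (.nd (.lf 0x1) (.lf 0x1)) (.nd (.lf 0x2) (.lf 0x1))) (.nd (.nd (.lf 0x1) (.lf 0x1)) (.nd (.lf 0x2) (.lf 0x1))))) (.nd (.nd (.nd (.nd (.lf 0x1) (.lf 0x2)) (.nd (.lf 0x1) (.lf 0x1))) (.nd (.nd (.lf 0x2) (.lf 0x2)) (.nd (.lf 0x2) (.lf 0x2)))) (.nd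 (.nd (.nd (.lf 0x1) (.lf 0x2)) (.nd (.lf 0x1) (.lf 0x1))) (.nd (.nd (.lf 0x1) (.lf 0x2)) (.nd (.lf 0x1) (.lf 0x1)))))) (.nd (.nd (.nd (.nd (.nd (.lf 0x2) (.lf 0x1)) (.nd (.lf 0x1) (.lf 0x1))) (.nd (.nd (.lf 0x2) (.lf 0x1)) (.nd (.lf 0x2) (.lf 0x1)))) (.nd (.nd (.nd (.lf 0x1) (.lf 0x2)) (.nd (.lf 0x2) (.lf 0x2))) (.nd (.nd (.lf 0x1) (.lf 0x1)) (.nd (.lf 0x1) (.lf 0x2))))) (.nd (.nd (.nd (.nd (.lf 0x2) (.lf 0x2)) (.nd (.lf 0x1) (.lf 0x2))) (.nd (.nd (.lf 0x2) (.lf 0x1)) (.nd (.lf 0x1) (.lf 0x1)))) (.nd (.nd (.nd (.lf 0x2) (.lf 0x1)) (.nd (.lf 0x1) (.lf 0x1))) (.nd (.nd (.lf 0x2) (.lf 0x1)) (.nd (.lf 0x1) (.lf 0x1)))))))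
def labG_naaabab : Tr := (.nd (.nd (.nd (.nd (.nd (.nd (.lf 0x2) (.lf 0x1)) (.nd (.lf 0x2) (.lf 0x1))) (.nd (.nd (.lf 0x1) (.lf 0x1)) (.nd (.lf 0x2) (.lf 0x2)))) (.nd (.nd (.nd (.lf 0x2) (.lf 0x2)) (.nd (.lf 0x2) (.lf 0x1))) (.nd (.nd (.lf 0x2) (.lf 0x1)) (.nd (.lf 0x1) (.lf 0x2))))) (.nd (.nd (.nd (.nd (.lf 0x2) (.lf 0x1)) (.nd (.lf 0x2) (.lf 0x1))) (.nd (.nd (.lf 0x2) (.lf 0x1)) (.nd (.lf 0x2) (.lf 0x1)))) (.nd (.nd (.nd (.lf 0x1) (.lf 0x2)) (.nd (.lf 0x2) (.lf 0x1))) (.nd (.nd (.lf 0x1) (.lf 0x2)) (.nd (.lf 0x1) (.lf 0x1)))))) (.nd (.nd (.nd (.nd (.nd (.lf 0x2) (.lf 0x1)) (.nd (.lf 0x1) (.lf 0x1))) (.nd (.nd (.lf 0x1) (.lf 0x1)) (.nd (.lf 0x1) (.lf 0x2)))) (.nd (.nd (.nd (.lf 0x1) (.lf 0x1)) (.nd (.lf 0x1) (.lf 0x1)))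 (.nd (.nd (.lf 0x1) (.lf 0x1)) (.nd (.lf 0x2) (.lf 0x2))))) (.nd (.nd (.nd (.nd (.lf 0x1) (.lf 0x2)) (.nd (.lf 0x2) (.lf 0x1))) (.nd (.nd (.lf 0x2) (.lf 0x2)) (.nd (.lf 0x1) (.lf 0x2)))) (.nd (.nd (.nd (.lf 0x1) (.lf 0x2)) (.nd (.lf 0x2) (.lf 0x2))) (.nd (.nd (.lf 0x2) (.lf 0x1)) (.nd (.lf 0x1) (.lf 0)))))))
def labG_naaabba : Tr := (.nd (.nd (.nd (.nd (.nd (.nd (.lf 0x2) (.lf 0x1)) (.nd (.lf 0x2) (.lf 0x1))) (.nd (.nd (.lf 0x2) (.lf 0x2)) (.nd (.lf 0x1) (.lf 0x2)))) (.nd (.nd (.nd (.lf 0x2) (.lf 0x1)) (.nd (.lf 0x2) (.lf 0x2))) (.nd (.nd (.lf 0x2) (.lf 0x1)) (.nd (.lf 0x1) (.lf 0x1))))) (.nd (.nd (.nd (.nd (.lf 0x1) (.lf 0x1)) (.nd (.lf 0x1) (.lf 0x1))) (.nd (.nd (.lf 0x2) (.lf 0x1)) (.nd (.lf 0x1) (.lf 0x2)))) (.nd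 (.nd (.nd (.lf 0x1) (.lf 0x1)) (.nd (.lf 0x1) (.lf 0x2))) (.nd (.nd (.lf 0x2) (.lf 0x2)) (.nd (.lf 0x1) (.lf 0x1)))))) (.nd (.nd (.nd (.nd (.nd (.lf 0x1) (.lf 0x2)) (.nd (.lf 0x1) (.lf 0x2))) (.nd (.nd (.lf 0x1) (.lf 0x2)) (.nd (.lf 0x1) (.lf 0x1)))) (.nd (.nd (.nd (.lf 0x1) (.lf 0x1)) (.nd (.lf 0x2) (.lf 0x1))) (.nd (.nd (.lf 0x1) (.lf 0x1)) (.nd (.lf 0x2) (.lf 0x2))))) (.nd (.nd (.nd (.nd (.lf 0x2) (.lf 0x2)) (.nd (.lf 0x2) (.lf 0x1))) (.nd (.nd (.lf 0x1) (.lf 0x2)) (.nd (.lf 0x1) (.lf 0x1)))) (.nd (.nd (.nd (.lf 0x2) (.lf 0x1)) (.nd (.lf 0x2) (.lf 0x1))) (.nd (.nd (.lf 0x1) (.lf 0x1)) (.nd (.lf 0x1) (.lf 0x2)))))))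
def labG_naaabbb : Tr := (.nd (.nd (.nd (.nd (.nd (.nd (.lf 0x2) (.lf 0x1)) (.nd (.lf 0x2) (.lf 0x1))) (.nd (.nd (.lf 0x2) (.lf 0x2)) (.nd (.lf 0x1) (.lf 0x1)))) (.nd (.nd (.nd (.lf 0x2) (.lf 0x1)) (.nd (.lf 0x1) (.lf 0x1))) (.nd (.nd (.lf 0x2) (.lf 0x2)) (.nd (.lf 0x1) (.lf 0x1))))) (.nd (.nd (.nd (.nd (.lf 0x1) (.lf 0x2)) (.nd (.lf 0x1) (.lf 0x1))) (.nd (.nd (.lf 0x1) (.lf 0x2)) (.nd (.lf 0x1) (.lf 0x2)))) (.nd (.nd (.nd (.lf 0x1) (.lf 0x1)) (.nd (.lf 0x2) (.lf 0x1))) (.nd (.nd (.lf 0x1) (.lf 0x1)) (.nd (.lf 0x1) (.lf 0x2)))))) (.nd (.nd (.nd (.nd (.nd (.lf 0x1) (.lf 0x1)) (.nd (.lf 0x1) (.lf 0x1))) (.nd (.nd (.lf 0x2) (.lf 0x2)) (.nd (.lf 0x1) (.lf 0x1)))) (.nd (.nd (.nd (.lf 0x2) (.lf 0x2)) (.nd (.lf 0x2) (.lf 0x2)))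 (.nd (.nd (.lf 0x1) (.lf 0x2)) (.nd (.lf 0x2) (.lf 0x1))))) (.nd (.nd (.nd (.nd (.lf 0x1) (.lf 0x2)) (.nd (.lf 0x2) (.lf 0x1))) (.nd (.nd (.lf 0x1) (.lf 0x1)) (.nd (.lf 0x2) (.lf 0x1)))) (.nd (.nd (.nd (.lf 0x1) (.lf 0x2)) (.nd (.lf 0x2) (.lf 0x1))) (.nd (.nd (.lf 0x2) (.lf 0x1)) (.nd (.lf 0x1) (.lf 0)))))))
def labG_naabaaa : Tr := (.nd (.nd (.nd (.nd (.nd (.nd (.lf 0x1) (.lf 0x1)) (.nd (.lf 0x1) (.lf 0x1))) (.nd (.nd (.lf 0x2) (.lf 0x1)) (.nd (.lf 0x1) (.lf 0x2)))) (.nd (.nd (.nd (.lf 0x1) (.lf 0x2)) (.nd (.lf 0x1) (.lf 0x2))) (.nd (.nd (.lf 0x1) (.lf 0x1)) (.nd (.lf 0x1) (.lf 0x1))))) (.nd (.nd (.nd (.nd (.lf 0x2) (.lf 0x1)) (.nd (.lf 0x1) (.lf 0x1))) (.nd (.nd (.lf 0x2) (.lf 0x1)) (.nd (.lf 0x2) (.lf 0x2)))) (.nd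 (.nd (.nd (.lf 0x1) (.lf 0x1)) (.nd (.lf 0x1) (.lf 0x1))) (.nd (.nd (.lf 0x2) (.lf 0x1)) (.nd (.lf 0x2) (.lf 0x2)))))) (.nd (.nd (.nd (.nd (.nd (.lf 0x1) (.lf 0x1)) (.nd (.lf 0x1) (.lf 0x2))) (.nd (.nd (.lf 0x1) (.lf 0x1)) (.nd (.lf 0x2) (.lf 0x1)))) (.nd (.nd (.nd (.lf 0x1) (.lf 0x2)) (.nd (.lf 0x1) (.lf 0x2))) (.nd (.nd (.lf 0x2) (.lf 0x1)) (.nd (.lf 0x1) (.lf 0x1))))) (.nd (.nd (.nd (.nd (.lf 0x2) (.lf 0x2)) (.nd (.lf 0x2) (.lf 0x2))) (.nd (.nd (.lf 0x1) (.lf 0x1)) (.nd (.lf 0x1) (.lf 0x2)))) (.nd (.nd (.nd (.lf 0x2) (.lf 0x1)) (.nd (.lf 0x1) (.lf 0x2))) (.nd (.nd (.lf 0x2) (.lf 0x1)) (.nd (.lf 0x1) (.lf 0x2)))))))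
def labG_naabaab : Tr := (.nd (.nd (.nd (.nd (.nd (.nd (.lf 0x1) (.lf 0x1)) (.nd (.lf 0x1) (.lf 0x1))) (.nd (.nd (.lf 0x2) (.lf 0x2)) (.nd (.lf 0x2) (.lf 0x2)))) (.nd (.nd (.nd (.lf 0x2) (.lf 0x2)) (.nd (.lf 0x1) (.lf 0x1))) (.nd (.nd (.lf 0x1) (.lf 0x2)) (.nd (.lf 0x1) (.lf 0x2))))) (.nd (.nd (.nd (.nd (.lf 0x2) (.lf 0x1)) (.nd (.lf 0x1) (.lf 0x1))) (.nd (.nd (.lf 0x2) (.lf 0x1)) (.nd (.lf 0x2) (.lf 0x2)))) (.nd (.nd (.nd (.lf 0x2) (.lf 0x2)) (.nd (.lf 0x1) (.lf 0x2))) (.nd (.nd (.lf 0x2) (.lf 0x2)) (.nd (.lf 0x2) (.lf 0x1)))))) (.nd (.nd (.nd (.nd (.nd (.lf 0x1) (.lf 0x2)) (.nd (.lf 0x2) (.lf 0x1))) (.nd (.nd (.lf 0x1) (.lf 0x1)) (.nd (.lf 0x2) (.lf 0x1)))) (.nd (.nd (.nd (.lf 0x2) (.lf 0x2)) (.nd (.lf 0x2) (.lf 0x1)))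 (.nd (.nd (.lf 0x2) (.lf 0x1)) (.nd (.lf 0x2) (.lf 0x2))))) (.nd (.nd (.nd (.nd (.lf 0x2) (.lf 0x1)) (.nd (.lf 0x1) (.lf 0x2))) (.nd (.nd (.lf 0x2) (.lf 0x1)) (.nd (.lf 0x1) (.lf 0x1)))) (.nd (.nd (.nd (.lf 0x2) (.lf 0x2)) (.nd (.lf 0x2) (.lf 0x1))) (.nd (.nd (.lf 0x1) (.lf 0x1)) (.nd (.lf 0x2) (.lf 0)))))))
def labG_naababa : Tr := (.nd (.nd (.nd (.nd (.nd (.nd (.lf 0x1) (.lf 0x1)) (.nd (.lf 0x1) (.lf 0x2))) (.nd (.nd (.lf 0x2) (.lf 0x1)) (.nd (.lf 0x1) (.lf 0x1)))) (.nd (.nd (.nd (.lf 0x1) (.lf 0x2)) (.nd (.lf 0x2) (.lf 0x2))) (.nd (.nd (.lf 0x2) (.lf 0x2)) (.nd (.lf 0x1) (.lf 0x2))))) (.nd (.nd (.nd (.nd (.lf 0x1) (.lf 0x1)) (.nd (.lf 0x1) (.lf 0x2))) (.nd (.nd (.lf 0x2) (.lf 0x1)) (.nd (.lf 0x1) (.lf 0x1)))) (.nd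 (.nd (.nd (.lf 0x2) (.lf 0x1)) (.nd (.lf 0x1) (.lf 0x2))) (.nd (.nd (.lf 0x2) (.lf 0x1)) (.nd (.lf 0x2) (.lf 0x2)))))) (.nd (.nd (.nd (.nd (.nd (.lf 0x2) (.lf 0x1)) (.nd (.lf 0x2) (.lf 0x2))) (.nd (.nd (.lf 0x1) (.lf 0x2)) (.nd (.lf 0x1) (.lf 0x1)))) (.nd (.nd (.nd (.lf 0x2) (.lf 0x2)) (.nd (.lf 0x1) (.lf 0x2))) (.nd (.nd (.lf 0x2) (.lf 0x2)) (.nd (.lf 0x2) (.lf 0x1))))) (.nd (.nd (.nd (.nd (.lf 0x2) (.lf 0x1)) (.nd (.lf 0x2) (.lf 0x2))) (.nd (.nd (.lf 0x1) (.lf 0x1)) (.nd (.lf 0x1) (.lf 0x1)))) (.nd (.nd (.nd (.lf 0x1) (.lf 0x2)) (.nd (.lf 0x1) (.lf 0x1))) (.nd (.nd (.lf 0x2) (.lf 0x2)) (.nd (.lf 0x1) (.lf 0x1)))))))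
def labG_naababb : Tr := (.nd (.nd (.nd (.nd (.nd (.nd (.lf 0x2) (.lf 0x1)) (.nd (.lf 0x1) (.lf 0x1))) (.nd (.nd (.lf 0x2) (.lf 0x1)) (.nd (.lf 0x2) (.lf 0x2)))) (.nd (.nd (.nd (.lf 0x2) (.lf 0x1)) (.nd (.lf 0x1) (.lf 0x1))) (.nd (.nd (.lf 0x1) (.lf 0x1)) (.nd (.lf 0x1) (.lf 0x1))))) (.nd (.nd (.nd (.nd (.lf 0x2) (.lf 0x1)) (.nd (.lf 0x1) (.lf 0x1))) (.nd (.nd (.lf 0x1) (.lf 0x2)) (.nd (.lf 0x1) (.lf 0x1)))) (.nd (.nd (.nd (.lf 0x1) (.lf 0x1)) (.nd (.lf 0x1) (.lf 0x1))) (.nd (.nd (.lf 0x2) (.lf 0x2)) (.nd (.lf 0x1) (.lf 0x2)))))) (.nd (.nd (.nd (.nd (.nd (.lf 0x1) (.lf 0x2)) (.nd (.lf 0x1) (.lf 0x1))) (.nd (.nd (.lf 0x2) (.lf 0x2)) (.nd (.lf 0x2) (.lf 0x1)))) (.nd (.nd (.nd (.lf 0x2) (.lf 0x1)) (.nd (.lf 0x1) (.lf 0x1)))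 (.nd (.nd (.lf 0x2) (.lf 0x2)) (.nd (.lf 0x1) (.lf 0x1))))) (.nd (.nd (.nd (.nd (.lf 0x1) (.lf 0x2)) (.nd (.lf 0x1) (.lf 0x1))) (.nd (.nd (.lf 0x2) (.lf 0x1)) (.nd (.lf 0x1) (.lf 0x2)))) (.nd (.nd (.nd (.lf 0x2) (.lf 0x2)) (.nd (.lf 0x2) (.lf 0x2))) (.nd (.nd (.lf 0x1) (.lf 0x1)) (.nd (.lf 0x1) (.lf 0)))))))
def labG_naabbaa : Tr := (.nd (.nd (.nd (.nd (.nd (.nd (.lf 0x1) (.lf 0x1)) (.nd (.lf 0x1) (.lf 0x1))) (.nd (.nd (.lf 0x2) (.lf 0x1)) (.nd (.lf 0x1) (.lf 0x1)))) (.nd (.nd (.nd (.lf 0x1) (.lf 0x1)) (.nd (.lf 0x2) (.lf 0x2))) (.nd (.nd (.lf 0x1) (.lf 0x2)) (.nd (.lf 0x1) (.lf 0x2))))) (.nd (.nd (.nd (.nd (.lf 0x1) (.lf 0x1)) (.nd (.lf 0x2) (.lf 0x1))) (.nd (.nd (.lf 0x1) (.lf 0x1)) (.nd (.lf 0x1) (.lf 0x2)))) (.nd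 (.nd (.nd (.lf 0x1) (.lf 0x2)) (.nd (.lf 0x2) (.lf 0x2))) (.nd (.nd (.lf 0x1) (.lf 0x2)) (.nd (.lf 0x1) (.lf 0x2)))))) (.nd (.nd (.nd (.nd (.nd (.lf 0x2) (.lf 0x1)) (.nd (.lf 0x2) (.lf 0x1))) (.nd (.nd (.lf 0x1) (.lf 0x2)) (.nd (.lf 0x2) (.lf 0x2)))) (.nd (.nd (.nd (.lf 0x1) (.lf 0x1)) (.nd (.lf 0x1) (.lf 0x1))) (.nd (.nd (.lf 0x2) (.lf 0x1)) (.nd (.lf 0x1) (.lf 0x1))))) (.nd (.nd (.nd (.nd (.lf 0x1) (.lf 0x1)) (.nd (.lf 0x1) (.lf 0x1))) (.nd (.nd (.lf 0x1) (.lf 0x1)) (.nd (.lf 0x1) (.lf 0x2)))) (.nd (.nd (.nd (.lf 0x1) (.lf 0x2)) (.nd (.lf 0x1) (.lf 0x1))) (.nd (.nd (.lf 0x1) (.lf 0x1)) (.nd (.lf 0x1) (.lf 0x1)))))))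
def labG_naabbab : Tr := (.nd (.nd (.nd (.nd (.nd (.nd (.lf 0x1) (.lf 0x1)) (.nd (.lf 0x1) (.lf 0x2))) (.nd (.nd (.lf 0x1) (.lf 0x1)) (.nd (.lf 0x1) (.lf 0x1)))) (.nd (.nd (.nd (.lf 0x2) (.lf 0x1)) (.nd (.lf 0x2) (.lf 0x1))) (.nd (.nd (.lf 0x1) (.lf 0x2)) (.nd (.lf 0x2) (.lf 0x1))))) (.nd (.nd (.nd (.nd (.lf 0x1) (.lf 0x2)) (.nd (.lf 0x2) (.lf 0x2))) (.nd (.nd (.lf 0x2) (.lf 0x2)) (.nd (.lf 0x1) (.lf 0x1)))) (.nd (.nd (.nd (.lf 0x2) (.lf 0x2)) (.nd (.lf 0x1) (.lf 0x1))) (.nd (.nd (.lf 0x1) (.lf 0x2)) (.nd (.lf 0x2) (.lf 0x1)))))) (.nd (.nd (.nd (.nd (.nd (.lf 0x2) (.lf 0x2)) (.nd (.lf 0x2) (.lf 0x2))) (.nd (.nd (.lf 0x2) (.lf 0x1)) (.nd (.lf 0x1) (.lf 0x1)))) (.nd (.nd (.nd (.lf 0x2) (.lf 0x2)) (.nd (.lf 0x1) (.lf 0x2)))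 (.nd (.nd (.lf 0x2) (.lf 0x1)) (.nd (.lf 0x1) (.lf 0x1))))) (.nd (.nd (.nd (.nd (.lf 0x2) (.lf 0x2)) (.nd (.lf 0x2) (.lf 0x2))) (.nd (.nd (.lf 0x2) (.lf 0x2)) (.nd (.lf 0x2) (.lf 0x1)))) (.nd (.nd (.nd (.lf 0x1) (.lf 0x2)) (.nd (.lf 0x1) (.lf 0x2))) (.nd (.nd (.lf 0x2) (.lf 0x1)) (.nd (.lf 0x2) (.lf 0)))))))
def labG_naabbba : Tr := (.nd (.nd (.nd (.nd (.nd (.nd (.lf 0x2) (.lf 0x1)) (.nd (.lf 0x1) (.lf 0x1))) (.nd (.nd (.lf 0x1) (.lf 0x2)) (.nd (.lf 0x2) (.lf 0x2)))) (.nd (.nd (.nd (.lf 0x1) (.lf 0x1)) (.nd (.lf 0x1) (.lf 0x2))) (.nd (.nd (.lf 0x2) (.lf 0x2)) (.nd (.lf 0x1) (.lf 0x1))))) (.nd (.nd (.nd (.nd (.lf 0x2) (.lf 0x2)) (.nd (.lf 0x1) (.lf 0x2))) (.nd (.nd (.lf 0x2) (.lf 0x2)) (.nd (.lf 0x1) (.lf 0x2)))) (.nd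 (.nd (.nd (.lf 0x2) (.lf 0x1)) (.nd (.lf 0x1) (.lf 0x2))) (.nd (.nd (.lf 0x1) (.lf 0x1)) (.nd (.lf 0x1) (.lf 0x2)))))) (.nd (.nd (.nd (.nd (.nd (.lf 0x1) (.lf 0x1)) (.nd (.lf 0x1) (.lf 0x2))) (.nd (.nd (.lf 0x1) (.lf 0x1)) (.nd (.lf 0x1) (.lf 0x2)))) (.nd (.nd (.nd (.lf 0x2) (.lf 0x1)) (.nd (.lf 0x2) (.lf 0x1))) (.nd (.nd (.lf 0x1) (.lf 0x2)) (.nd (.lf 0x2) (.lf 0x2))))) (.nd (.nd (.nd (.nd (.lf 0x2) (.lf 0x2)) (.nd (.lf 0x1) (.lf 0x1))) (.nd (.nd (.lf 0x1) (.lf 0x2)) (.nd (.lf 0x1) (.lf 0x2)))) (.nd (.nd (.nd (.lf 0x2) (.lf 0x1)) (.nd (.lf 0x1) (.lf 0x2))) (.nd (.nd (.lf 0x1) (.lf 0x1)) (.nd (.lf 0x1) (.lf 0)))))))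
def labG_naabbbb : Tr := (.nd (.nd (.nd (.nd (.nd (.nd (.lf 0x1) (.lf 0x1)) (.nd (.lf 0x2) (.lf 0x2))) (.nd (.nd (.lf 0x1) (.lf 0x1)) (.nd (.lf 0x1) (.lf 0x2)))) (.nd (.nd (.nd (.lf 0x1) (.lf 0x1)) (.nd (.lf 0x1) (.lf 0x1))) (.nd (.nd (.lf 0x1) (.lf 0x1)) (.nd (.lf 0x1) (.lf 0x1))))) (.nd (.nd (.nd (.nd (.lf 0x1) (.lf 0x1)) (.nd (.lf 0x2) (.lf 0x1))) (.nd (.nd (.lf 0x1) (.lf 0x1)) (.nd (.lf 0x2) (.lf 0x1)))) (.nd (.nd (.nd (.lf 0x2) (.lf 0x1)) (.nd (.lf 0x1) (.lf 0x2))) (.nd (.nd (.lf 0x1) (.lf 0x1)) (.nd (.lf 0x1) (.lf 0x2)))))) (.nd (.nd (.nd (.nd (.nd (.lf 0x1) (.lf 0x2)) (.nd (.lf 0x1) (.lf 0x2))) (.nd (.nd (.lf 0x1) (.lf 0x1)) (.nd (.lf 0x1) (.lf 0x2)))) (.nd (.nd (.nd (.lf 0x1) (.lf 0x2)) (.nd (.lf 0x1) (.lf 0x1)))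 (.nd (.nd (.lf 0x1) (.lf 0x1)) (.nd (.lf 0x2) (.lf 0x1))))) (.nd (.nd (.nd (.nd (.lf 0x2) (.lf 0x1)) (.nd (.lf 0x1) (.lf 0x1))) (.nd (.nd (.lf 0x1) (.lf 0x1)) (.nd (.lf 0x2) (.lf 0x2)))) (.nd (.nd (.nd (.lf 0x2) (.lf 0x1)) (.nd (.lf 0x1) (.lf 0x1))) (.nd (.nd (.lf 0x1) (.lf 0x1)) (.nd (.lf 0x2) (.lf 0)))))))
def labG_nabaaaa : Tr := (.nd (.nd (.nd (.nd (.nd (.nd (.lf 0x2) (.lf 0x2)) (.nd (.lf 0x2) (.lf 0x1))) (.nd (.nd (.lf 0x1) (.lf 0x2)) (.nd (.lf 0x2) (.lf 0x1)))) (.nd (.nd (.nd (.lf 0x2) (.lf 0x2)) (.nd (.lf 0x2) (.lf 0x1))) (.nd (.nd (.lf 0x1) (.lf 0x1)) (.nd (.lf 0x2) (.lf 0x1))))) (.nd (.nd (.nd (.nd (.lf 0x1) (.lf 0x1)) (.nd (.lf 0x1) (.lf 0x1))) (.nd (.nd (.lf 0x1) (.lf 0x1)) (.nd (.lf 0x1) (.lf 0x1)))) (.nd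 (.nd (.nd (.lf 0x2) (.lf 0x1)) (.nd (.lf 0x1) (.lf 0x1))) (.nd (.nd (.lf 0x1) (.lf 0x2)) (.nd (.lf 0x1) (.lf 0x2)))))) (.nd (.nd (.nd (.nd (.nd (.lf 0x1) (.lf 0x2)) (.nd (.lf 0x1) (.lf 0x1))) (.nd (.nd (.lf 0x1) (.lf 0x1)) (.nd (.lf 0x1) (.lf 0x1)))) (.nd (.nd (.nd (.lf 0x1) (.lf 0x1)) (.nd (.lf 0x2) (.lf 0x1))) (.nd (.nd (.lf 0x1) (.lf 0x2)) (.nd (.lf 0x1) (.lf 0x1))))) (.nd (.nd (.nd (.nd (.lf 0x2) (.lf 0x2)) (.nd (.lf 0x2) (.lf 0x2))) (.nd (.nd (.lf 0x1) (.lf 0x1)) (.nd (.lf 0x1) (.lf 0x2)))) (.nd (.nd (.nd (.lf 0x2) (.lf 0x1)) (.nd (.lf 0x1) (.lf 0x2))) (.nd (.nd (.lf 0x1) (.lf 0x2)) (.nd (.lf 0x1) (.lf 0x2)))))))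
def labG_nabaaab : Tr := (.nd (.nd (.nd (.nd (.nd (.nd (.lf 0x2) (.lf 0x1)) (.nd (.lf 0x1) (.lf 0x2))) (.nd (.nd (.lf 0x2) (.lf 0x1)) (.nd (.lf 0x1) (.lf 0x1)))) (.nd (.nd (.nd (.lf 0x1) (.lf 0x2)) (.nd (.lf 0x2) (.lf 0x1))) (.nd (.nd (.lf 0x1) (.lf 0x1)) (.nd (.lf 0x2) (.lf 0x1))))) (.nd (.nd (.nd (.nd (.lf 0x2) (.lf 0x1)) (.nd (.lf 0x2) (.lf 0x2))) (.nd (.nd (.lf 0x2) (.lf 0x2)) (.nd (.lf 0x1) (.lf 0x1)))) (.nd (.nd (.nd (.lf 0x2) (.lf 0x1)) (.nd (.lf 0x2) (.lf 0x2))) (.nd (.nd (.lf 0x1) (.lf 0x1)) (.nd (.lf 0x1) (.lf 0x1)))))) (.nd (.nd (.nd (.nd (.nd (.lf 0x2) (.lf 0x1)) (.nd (.lf 0x2) (.lf 0x2))) (.nd (.nd (.lf 0x1) (.lf 0x1)) (.nd (.lf 0x2) (.lf 0x1)))) (.nd (.nd (.nd (.lf 0x1) (.lf 0x2)) (.nd (.lf 0x2) (.lf 0x2)))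 (.nd (.nd (.lf 0x2) (.lf 0x1)) (.nd (.lf 0x1) (.lf 0x1))))) (.nd (.nd (.nd (.nd (.lf 0x1) (.lf 0x2)) (.nd (.lf 0x1) (.lf 0x2))) (.nd (.nd (.lf 0x2) (.lf 0x2)) (.nd (.lf 0x2) (.lf 0x1)))) (.nd (.nd (.nd (.lf 0x2) (.lf 0x1)) (.nd (.lf 0x1) (.lf 0x1))) (.nd (.nd (.lf 0x2) (.lf 0x2)) (.nd (.lf 0x2) (.lf 0)))))))
def labG_nabaaba : Tr := (.nd (.nd (.nd (.nd (.nd (.nd (.lf 0x1) (.lf 0x1)) (.nd (.lf 0x2) (.lf 0x1))) (.nd (.nd (.lf 0x1) (.lf 0x1)) (.nd (.lf 0x2) (.lf 0x2)))) (.nd (.nd (.nd (.lf 0x1) (.lf 0x1)) (.nd (.lf 0x1) (.lf 0x2))) (.nd (.nd (.lf 0x2) (.lf 0x1)) (.nd (.lf 0x2) (.lf 0x1))))) (.nd (.nd (.nd (.nd (.lf 0x1) (.lf 0x1)) (.nd (.lf 0x1) (.lf 0x2))) (.nd (.nd (.lf 0x2) (.lf 0x1)) (.nd (.lf 0x1) (.lf 0x2)))) (.nd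 (.nd (.nd (.lf 0x1) (.lf 0x1)) (.nd (.lf 0x1) (.lf 0x2))) (.nd (.nd (.lf 0x2) (.lf 0x1)) (.nd (.lf 0x1) (.lf 0x1)))))) (.nd (.nd (.nd (.nd (.nd (.lf 0x2) (.lf 0x2)) (.nd (.lf 0x1) (.lf 0x2))) (.nd (.nd (.lf 0x2) (.lf 0x1)) (.nd (.lf 0x2) (.lf 0x2)))) (.nd (.nd (.nd (.lf 0x1) (.lf 0x1)) (.nd (.lf 0x1) (.lf 0x1))) (.nd (.nd (.lf 0x1) (.lf 0x2)) (.nd (.lf 0x1) (.lf 0x1))))) (.nd (.nd (.nd (.nd (.lf 0x1) (.lf 0x1)) (.nd (.lf 0x1) (.lf 0x2))) (.nd (.nd (.lf 0x1) (.lf 0x1)) (.nd (.lf 0x2) (.lf 0x2)))) (.nd (.nd (.nd (.lf 0x1) (.lf 0x2)) (.nd (.lf 0x1) (.lf 0x2))) (.nd (.nd (.lf 0x1) (.lf 0x1)) (.nd (.lf 0x1) (.lf 0x2)))))))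
def labG_nabaabb : Tr := (.nd (.nd (.nd (.nd (.nd (.nd (.lf 0x2) (.lf 0x2)) (.nd (.lf 0x2) (.lf 0x2))) (.nd (.nd (.lf 0x2) (.lf 0x2)) (.nd (.lf 0x2) (.lf 0x2)))) (.nd (.nd (.nd (.lf 0x1) (.lf 0x2)) (.nd (.lf 0x1) (.lf 0x1))) (.nd (.nd (.lf 0x2) (.lf 0x2)) (.nd (.lf 0x2) (.lf 0x2))))) (.nd (.nd (.nd (.nd (.lf 0x2) (.lf 0x1)) (.nd (.lf 0x2) (.lf 0x2))) (.nd (.nd (.lf 0x2) (.lf 0x1)) (.nd (.lf 0x1) (.lf 0x1)))) (.nd (.nd (.nd (.lf 0x1) (.lf 0x2)) (.nd (.lf 0x1) (.lf 0x2))) (.nd (.nd (.lf 0x2) (.lf 0x2)) (.nd (.lf 0x2) (.lf 0x2)))))) (.nd (.nd (.nd (.nd (.nd (.lf 0x1) (.lf 0x1)) (.nd (.lf 0x1) (.lf 0x2))) (.nd (.nd (.lf 0x2) (.lf 0x2)) (.nd (.lf 0x1) (.lf 0x1)))) (.nd (.nd (.nd (.lf 0x2) (.lf 0x2)) (.nd (.lf 0x1) (.lf 0x2)))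 (.nd (.nd (.lf 0x1) (.lf 0x1)) (.nd (.lf 0x1) (.lf 0x1))))) (.nd (.nd (.nd (.nd (.lf 0x1) (.lf 0x1)) (.nd (.lf 0x1) (.lf 0x1))) (.nd (.nd (.lf 0x1) (.lf 0x2)) (.nd (.lf 0x1) (.lf 0x1)))) (.nd (.nd (.nd (.lf 0x1) (.lf 0x1)) (.nd (.lf 0x1) (.lf 0x1))) (.nd (.nd (.lf 0x1) (.lf 0x2)) (.nd (.lf 0x2) (.lf 0)))))))
def labG_nababaa : Tr := (.nd (.nd (.nd (.nd (.nd (.nd (.lf 0x1) (.lf 0x1)) (.nd (.lf 0x1) (.lf 0x2))) (.nd (.nd (.lf 0x1) (.lf 0x2)) (.nd (.lf 0x1) (.lf 0x2)))) (.nd (.nd (.nd (.lf 0x2) (.lf 0x1)) (.nd (.lf 0x1) (.lf 0x1))) (.nd (.nd (.lf 0x1) (.lf 0x2)) (.nd (.lf 0x1) (.lf 0x1))))) (.nd (.nd (.nd (.nd (.lf 0x1) (.lf 0x1)) (.nd (.lf 0x2) (.lf 0x1))) (.nd (.nd (.lf 0x2) (.lf 0x2)) (.nd (.lf 0x2) (.lf 0x1)))) (.nd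 (.nd (.nd (.lf 0x2) (.lf 0x1)) (.nd (.lf 0x1) (.lf 0x1))) (.nd (.nd (.lf 0x1) (.lf 0x2)) (.nd (.lf 0x2) (.lf 0x2)))))) (.nd (.nd (.nd (.nd (.nd (.lf 0x1) (.lf 0x1)) (.nd (.lf 0x1) (.lf 0x1))) (.nd (.nd (.lf 0x2) (.lf 0x1)) (.nd (.lf 0x2) (.lf 0x2)))) (.nd (.nd (.nd (.lf 0x1) (.lf 0x1)) (.nd (.lf 0x2) (.lf 0x1))) (.nd (.nd (.lf 0x1) (.lf 0x1)) (.nd (.lf 0x2) (.lf 0x2))))) (.nd (.nd (.nd (.nd (.lf 0x1) (.lf 0x1)) (.nd (.lf 0x1) (.lf 0x1))) (.nd (.nd (.lf 0x2) (.lf 0x1)) (.nd (.lf 0x2) (.lf 0x1)))) (.nd (.nd (.nd (.lf 0x2) (.lf 0x2)) (.nd (.lf 0x2) (.lf 0x1))) (.nd (.nd (.lf 0x2) (.lf 0x1)) (.nd (.lf 0x1) (.lf 0x2)))))))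
def labG_nababab : Tr := (.nd (.nd (.nd (.nd (.nd (.nd (.lf 0x1) (.lf 0x2)) (.nd (.lf 0x1) (.lf 0x2))) (.nd (.nd (.lf 0x2) (.lf 0x2)) (.nd (.lf 0x1) (.lf 0x1)))) (.nd (.nd (.nd (.lf 0x1) (.lf 0x2)) (.nd (.lf 0x1) (.lf 0x2))) (.nd (.nd (.lf 0x1) (.lf 0x2)) (.nd (.lf 0x1) (.lf 0x1))))) (.nd (.nd (.nd (.nd (.lf 0x1) (.lf 0x1)) (.nd (.lf 0x1) (.lf 0x1))) (.nd (.nd (.lf 0x1) (.lf 0x1)) (.nd (.lf 0x2) (.lf 0x2)))) (.nd (.nd (.nd (.lf 0x1) (.lf 0x2)) (.nd (.lf 0x2) (.lf 0x2))) (.nd (.nd (.lf 0x2) (.lf 0x1)) (.nd (.lf 0x1) (.lf 0x2)))))) (.nd (.nd (.nd (.nd (.nd (.lf 0x1) (.lf 0x1)) (.nd (.lf 0x1) (.lf 0x1))) (.nd (.nd (.lf 0x2) (.lf 0x1)) (.nd (.lf 0x1) (.lf 0x1)))) (.nd (.nd (.nd (.lf 0x1) (.lf 0x1)) (.nd (.lf 0x1) (.lf 0x2)))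 (.nd (.nd (.lf 0x1) (.lf 0x1)) (.nd (.lf 0x1) (.lf 0x1))))) (.nd (.nd (.nd (.nd (.lf 0x1) (.lf 0x2)) (.nd (.lf 0x1) (.lf 0x1))) (.nd (.nd (.lf 0x1) (.lf 0x2)) (.nd (.lf 0x1) (.lf 0x1)))) (.nd (.nd (.nd (.lf 0x2) (.lf 0x1)) (.nd (.lf 0x1) (.lf 0x1))) (.nd (.nd (.lf 0x2) (.lf 0x2)) (.nd (.lf 0x1) (.lf 0)))))))
def labG_nababba : Tr := (.nd (.nd (.nd (.nd (.nd (.nd (.lf 0x2) (.lf 0x2)) (.nd (.lf 0x1) (.lf 0x2))) (.nd (.nd (.lf 0x1) (.lf 0x2)) (.nd (.lf 0x1) (.lf 0x1)))) (.nd (.nd (.nd (.lf 0x1) (.lf 0x2)) (.nd (.lf 0x1) (.lf 0x2))) (.nd (.nd (.lf 0x1) (.lf 0x1)) (.nd (.lf 0x2) (.lf 0x2))))) (.nd (.nd (.nd (.nd (.lf 0x1) (.lf 0x1)) (.nd (.lf 0x2) (.lf 0x1))) (.nd (.nd (.lf 0x1) (.lf 0x2)) (.nd (.lf 0x1) (.lf 0x1)))) (.nd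 (.nd (.nd (.lf 0x1) (.lf 0x1)) (.nd (.lf 0x2) (.lf 0x2))) (.nd (.nd (.lf 0x1) (.lf 0x2)) (.nd (.lf 0x2) (.lf 0x2)))))) (.nd (.nd (.nd (.nd (.nd (.lf 0x1) (.lf 0x1)) (.nd (.lf 0x2) (.lf 0x2))) (.nd (.nd (.lf 0x1) (.lf 0x2)) (.nd (.lf 0x2) (.lf 0x2)))) (.nd (.nd (.nd (.lf 0x2) (.lf 0x1)) (.nd (.lf 0x2) (.lf 0x1))) (.nd (.nd (.lf 0x1) (.lf 0x1)) (.nd (.lf 0x2) (.lf 0x2))))) (.nd (.nd (.nd (.nd (.lf 0x1) (.lf 0x2)) (.nd (.lf 0x1) (.lf 0x2))) (.nd (.nd (.lf 0x2) (.lf 0x2)) (.nd (.lf 0x1) (.lf 0x1)))) (.nd (.nd (.nd (.lf 0x2) (.lf 0x1)) (.nd (.lf 0x1) (.lf 0x2))) (.nd (.nd (.lf 0x2) (.lf 0x1)) (.nd (.lf 0x1) (.lf 0x1)))))))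
def labG_nababbb : Tr := (.nd (.nd (.nd (.nd (.nd (.nd (.lf 0x1) (.lf 0x2)) (.nd (.lf 0x1) (.lf 0x1))) (.nd (.nd (.lf 0x2) (.lf 0x1)) (.nd (.lf 0x1) (.lf 0x1)))) (.nd (.nd (.nd (.lf 0x1) (.lf 0x2)) (.nd (.lf 0x1) (.lf 0x1))) (.nd (.nd (.lf 0x1) (.lf 0x1)) (.nd (.lf 0x1) (.lf 0x2))))) (.nd (.nd (.nd (.nd (.lf 0x2) (.lf 0x1)) (.nd (.lf 0x2) (.lf 0x2))) (.nd (.nd (.lf 0x1) (.lf 0x2)) (.nd (.lf 0x1) (.lf 0x1)))) (.nd (.nd (.nd (.lf 0x2) (.lf 0x2)) (.nd (.lf 0x1) (.lf 0x1))) (.nd (.nd (.lf 0x2) (.lf 0x1)) (.nd (.lf 0x1) (.lf 0x2)))))) (.nd (.nd (.nd (.nd (.nd (.lf 0x1) (.lf 0x1)) (.nd (.lf 0x2) (.lf 0x1))) (.nd (.nd (.lf 0x2) (.lf 0x2)) (.nd (.lf 0x1) (.lf 0x1)))) (.nd (.nd (.nd (.lf 0x1) (.lf 0x1)) (.nd (.lf 0x1) (.lf 0x1)))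 (.nd (.nd (.lf 0x1) (.lf 0x2)) (.nd (.lf 0x1) (.lf 0x2))))) (.nd (.nd (.nd (.nd (.lf 0x2) (.lf 0x1)) (.nd (.lf 0x1) (.lf 0x2))) (.nd (.nd (.lf 0x1) (.lf 0x2)) (.nd (.lf 0x2) (.lf 0x1)))) (.nd (.nd (.nd (.lf 0x1) (.lf 0x1)) (.nd (.lf 0x2) (.lf 0x1))) (.nd (.nd (.lf 0x2) (.lf 0x1)) (.nd (.lf 0x2) (.lf 0)))))))
def labG_nabbaaa : Tr := (.nd (.nd (.nd (.nd (.nd (.nd (.lf 0x1) (.lf 0x2)) (.nd (.lf 0x1) (.lf 0x1))) (.nd (.nd (.lf 0x1) (.lf 0x1)) (.nd (.lf 0x1) (.lf 0x1)))) (.nd (.nd (.nd (.lf 0x1) (.lf 0x1)) (.nd (.lf 0x2) (.lf 0x2))) (.nd (.nd (.lf 0x1) (.lf 0x1)) (.nd (.lf 0x1) (.lf 0x2))))) (.nd (.nd (.nd (.nd (.lf 0x2) (.lf 0x1)) (.nd (.lf 0x2) (.lf 0x1))) (.nd (.nd (.lf 0x2) (.lf 0x2)) (.nd (.lf 0x1) (.lf 0x1)))) (.nd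 (.nd (.nd (.lf 0x2) (.lf 0x2)) (.nd (.lf 0x2) (.lf 0x2))) (.nd (.nd (.lf 0x2) (.lf 0x1)) (.nd (.lf 0x1) (.lf 0x1)))))) (.nd (.nd (.nd (.nd (.nd (.lf 0x2) (.lf 0x1)) (.nd (.lf 0x2) (.lf 0x1))) (.nd (.nd (.lf 0x1) (.lf 0x1)) (.nd (.lf 0x1) (.lf 0x1)))) (.nd (.nd (.nd (.lf 0x2) (.lf 0x2)) (.nd (.lf 0x2) (.lf 0x2))) (.nd (.nd (.lf 0x2) (.lf 0x2)) (.nd (.lf 0x2) (.lf 0x2))))) (.nd (.nd (.nd (.nd (.lf 0x2) (.lf 0x1)) (.nd (.lf 0x1) (.lf 0x1))) (.nd (.nd (.lf 0x2) (.lf 0x2)) (.nd (.lf 0x2) (.lf 0x2)))) (.nd (.nd (.nd (.lf 0x1) (.lf 0x1)) (.nd (.lf 0x1) (.lf 0x2))) (.nd (.nd (.lf 0x1) (.lf 0x2)) (.nd (.lf 0x2) (.lf 0x2)))))))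
def labG_nabbaab : Tr := (.nd (.nd (.nd (.nd (.nd (.nd (.lf 0x1) (.lf 0x2)) (.nd (.lf 0x1) (.lf 0x2))) (.nd (.nd (.lf 0x2) (.lf 0x1)) (.nd (.lf 0x2) (.lf 0x2)))) (.nd (.nd (.nd (.lf 0x2) (.lf 0x1)) (.nd (.lf 0x2) (.lf 0x1))) (.nd (.nd (.lf 0x2) (.lf 0x2)) (.nd (.lf 0x2) (.lf 0x2))))) (.nd (.nd (.nd (.nd (.lf 0x1) (.lf 0x1)) (.nd (.lf 0x1) (.lf 0x1))) (.nd (.nd (.lf 0x1) (.lf 0x1)) (.nd (.lf 0x1) (.lf 0x1)))) (.nd (.nd (.nd (.lf 0x2) (.lf 0x2)) (.nd (.lf 0x2) (.lf 0x2))) (.nd (.nd (.lf 0x2) (.lf 0x2)) (.nd (.lf 0x1) (.lf 0x1)))))) (.nd (.nd (.nd (.nd (.nd (.lf 0x2) (.lf 0x2)) (.nd (.lf 0x1) (.lf 0x2))) (.nd (.nd (.lf 0x1) (.lf 0x2)) (.nd (.lf 0x2) (.lf 0x1)))) (.nd (.nd (.nd (.lf 0x2) (.lf 0x2)) (.nd (.lf 0x2) (.lf 0x2)))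 (.nd (.nd (.lf 0x2) (.lf 0x2)) (.nd (.lf 0x1) (.lf 0x2))))) (.nd (.nd (.nd (.nd (.lf 0x1) (.lf 0x1)) (.nd (.lf 0x2) (.lf 0x1))) (.nd (.nd (.lf 0x1) (.lf 0x1)) (.nd (.lf 0x2) (.lf 0x1)))) (.nd (.nd (.nd (.lf 0x2) (.lf 0x1)) (.nd (.lf 0x1) (.lf 0x1))) (.nd (.nd (.lf 0x2) (.lf 0x2)) (.nd (.lf 0x2) (.lf 0)))))))
def labG_nabbaba : Tr := (.nd (.nd (.nd (.nd (.nd (.nd (.lf 0x2) (.lf 0x1)) (.nd (.lf 0x2) (.lf 0x1))) (.nd (.nd (.lf 0x1) (.lf 0x2)) (.nd (.lf 0x2) (.lf 0x1)))) (.nd (.nd (.nd (.lf 0x2) (.lf 0x1)) (.nd (.lf 0x1) (.lf 0x2))) (.nd (.nd (.lf 0x2) (.lf 0x1)) (.nd (.lf 0x2) (.lf 0x1))))) (.nd (.nd (.nd (.nd (.lf 0x1) (.lf 0x1)) (.nd (.lf 0x1) (.lf 0x1))) (.nd (.nd (.lf 0x2) (.lf 0x2)) (.nd (.lf 0x2) (.lf 0x2)))) (.nd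 (.nd (.nd (.lf 0x2) (.lf 0x1)) (.nd (.lf 0x2) (.lf 0x2))) (.nd (.nd (.lf 0x1) (.lf 0x2)) (.nd (.lf 0x2) (.lf 0x1)))))) (.nd (.nd (.nd (.nd (.nd (.lf 0x2) (.lf 0x2)) (.nd (.lf 0x2) (.lf 0x1))) (.nd (.nd (.lf 0x2) (.lf 0x2)) (.nd (.lf 0x1) (.lf 0x2)))) (.nd (.nd (.nd (.lf 0x2) (.lf 0x2)) (.nd (.lf 0x1) (.lf 0x1))) (.nd (.nd (.lf 0x1) (.lf 0x1)) (.nd (.lf 0x1) (.lf 0x2))))) (.nd (.nd (.nd (.nd (.lf 0x1) (.lf 0x2)) (.nd (.lf 0x2) (.lf 0x1))) (.nd (.nd (.lf 0x1) (.lf 0x2)) (.nd (.lf 0x1) (.lf 0x1)))) (.nd (.nd (.nd (.lf 0x1) (.lf 0x1)) (.nd (.lf 0x2) (.lf 0x1))) (.nd (.nd (.lf 0x2) (.lf 0x2)) (.nd (.lf 0x1) (.lf 0x2)))))))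
def labG_nabbabb : Tr := (.nd (.nd (.nd (.nd (.nd (.nd (.lf 0x1) (.lf 0x1)) (.nd (.lf 0x2) (.lf 0x2))) (.nd (.nd (.lf 0x1) (.lf 0x1)) (.nd (.lf 0x2) (.lf 0x1)))) (.nd (.nd (.nd (.lf 0x1) (.lf 0x1)) (.nd (.lf 0x1) (.lf 0x1))) (.nd (.nd (.lf 0x1) (.lf 0x2)) (.nd (.lf 0x2) (.lf 0x2))))) (.nd (.nd (.nd (.nd (.lf 0x2) (.lf 0x1)) (.nd (.lf 0x1) (.lf 0x2))) (.nd (.nd (.lf 0x1) (.lf 0x1)) (.nd (.lf 0x1) (.lf 0x1)))) (.nd (.nd (.nd (.lf 0x2) (.lf 0x1)) (.nd (.lf 0x1) (.lf 0x1))) (.nd (.nd (.lf 0x2) (.lf 0x1)) (.nd (.lf 0x2) (.lf 0x2)))))) (.nd (.nd (.nd (.nd (.nd (.lf 0x2) (.lf 0x1)) (.nd (.lf 0x2) (.lf 0x2))) (.nd (.nd (.lf 0x1) (.lf 0x2)) (.nd (.lf 0x2) (.lf 0x1)))) (.nd (.nd (.nd (.lf 0x1) (.lf 0x2)) (.nd (.lf 0x2) (.lf 0x1)))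 (.nd (.nd (.lf 0x1) (.lf 0x1)) (.nd (.lf 0x2) (.lf 0x1))))) (.nd (.nd (.nd (.nd (.lf 0x1) (.lf 0x2)) (.nd (.lf 0x1) (.lf 0x2))) (.nd (.nd (.lf 0x1) (.lf 0x2)) (.nd (.lf 0x2) (.lf 0x1)))) (.nd (.nd (.nd (.lf 0x1) (.lf 0x1)) (.nd (.lf 0x2) (.lf 0x1))) (.nd (.nd (.lf 0x2) (.lf 0x1)) (.nd (.lf 0x1) (.lf 0)))))))
def labG_nabbbaa : Tr := (.nd (.nd (.nd (.nd (.nd (.nd (.lf 0x1) (.lf 0x2)) (.nd (.lf 0x2) (.lf 0x2))) (.nd (.nd (.lf 0x1) (.lf 0x1)) (.nd (.lf 0x2) (.lf 0x2)))) (.nd (.nd (.nd (.lf 0x1) (.lf 0x2)) (.nd (.lf 0x2) (.lf 0x1))) (.nd (.nd (.lf 0x1) (.lf 0x2)) (.nd (.lf 0x2) (.lf 0x1))))) (.nd (.nd (.nd (.nd (.lf 0x2) (.lf 0x1)) (.nd (.lf 0x2) (.lf 0x2))) (.nd (.nd (.lf 0x1) (.lf 0x1)) (.nd (.lf 0x2) (.lf 0x2)))) (.nd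 (.nd (.nd (.lf 0x1) (.lf 0x2)) (.nd (.lf 0x1) (.lf 0x1))) (.nd (.nd (.lf 0x1) (.lf 0x1)) (.nd (.lf 0x1) (.lf 0x1)))))) (.nd (.nd (.nd (.nd (.nd (.lf 0x2) (.lf 0x2)) (.nd (.lf 0x2) (.lf 0x2))) (.nd (.nd (.lf 0x2) (.lf 0x2)) (.nd (.lf 0x1) (.lf 0x2)))) (.nd (.nd (.nd (.lf 0x1) (.lf 0x2)) (.nd (.lf 0x1) (.lf 0x2))) (.nd (.nd (.lf 0x2) (.lf 0x1)) (.nd (.lf 0x1) (.lf 0x1))))) (.nd (.nd (.nd (.nd (.lf 0x2) (.lf 0x1)) (.nd (.lf 0x1) (.lf 0x1))) (.nd (.nd (.lf 0x1) (.lf 0x1)) (.nd (.lf 0x2) (.lf 0x1)))) (.nd (.nd (.nd (.lf 0x1) (.lf 0x1)) (.nd (.lf 0x2) (.lf 0x2))) (.nd (.nd (.lf 0x2) (.lf 0x2)) (.nd (.lf 0x1) (.lf 0x1)))))))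
def labG_nabbbab : Tr := (.nd (.nd (.nd (.nd (.nd (.nd (.lf 0x2) (.lf 0x2)) (.nd (.lf 0x1) (.lf 0x1))) (.nd (.nd (.lf 0x2) (.lf 0x1)) (.nd (.lf 0x2) (.lf 0x2)))) (.nd (.nd (.nd (.lf 0x2) (.lf 0x1)) (.nd (.lf 0x1) (.lf 0x1))) (.nd (.nd (.lf 0x2) (.lf 0x2)) (.nd (.lf 0x2) (.lf 0x2))))) (.nd (.nd (.nd (.nd (.lf 0x1) (.lf 0x1)) (.nd (.lf 0x2) (.lf 0x1))) (.nd (.nd (.lf 0x2) (.lf 0x1)) (.nd (.lf 0x2) (.lf 0x1)))) (.nd (.nd (.nd (.lf 0x2) (.lf 0x1)) (.nd (.lf 0x2) (.lf 0x1))) (.nd (.nd (.lf 0x1) (.lf 0x2)) (.nd (.lf 0x1) (.lf 0x1)))))) (.nd (.nd (.nd (.nd (.nd (.lf 0x2) (.lf 0x1)) (.nd (.lf 0x1) (.lf 0x2))) (.nd (.nd (.lf 0x2) (.lf 0x1)) (.nd (.lf 0x1) (.lf 0x2)))) (.nd (.nd (.nd (.lf 0x1) (.lf 0x1)) (.nd (.lf 0x2) (.lf 0x1)))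 (.nd (.nd (.lf 0x1) (.lf 0x1)) (.nd (.lf 0x2) (.lf 0x2))))) (.nd (.nd (.nd (.nd (.lf 0x1) (.lf 0x2)) (.nd (.lf 0x1) (.lf 0x2))) (.nd (.nd (.lf 0x2) (.lf 0x2)) (.nd (.lf 0x1) (.lf 0x2)))) (.nd (.nd (.nd (.lf 0x1) (.lf 0x2)) (.nd (.lf 0x2) (.lf 0x1))) (.nd (.nd (.lf 0x2) (.lf 0x1)) (.nd (.lf 0x1) (.lf 0)))))))
def labG_nabbbba : Tr := (.nd (.nd (.nd (.nd (.nd (.nd (.lf 0x1) (.lf 0x2)) (.nd (.lf 0x1) (.lf 0x2))) (.nd (.nd (.lf 0x1) (.lf 0x2)) (.nd (.lf 0x1) (.lf 0x1)))) (.nd (.nd (.nd (.lf 0x2) (.lf 0x1)) (.nd (.lf 0x1) (.lf 0x1))) (.nd (.nd (.lf 0x2) (.lf 0x2)) (.nd (.lf 0x1) (.lf 0x1))))) (.nd (.nd (.nd (.nd (.lf 0x2) (.lf 0x2)) (.nd (.lf 0x2) (.lf 0x1))) (.nd (.nd (.lf 0x2) (.lf 0x1)) (.nd (.lf 0x1) (.lf 0x1)))) (.nd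 (.nd (.nd (.lf 0x2) (.lf 0x2)) (.nd (.lf 0x1) (.lf 0x1))) (.nd (.nd (.lf 0x2) (.lf 0x2)) (.nd (.lf 0x2) (.lf 0x2)))))) (.nd (.nd (.nd (.nd (.nd (.lf 0x2) (.lf 0x1)) (.nd (.lf 0x1) (.lf 0x1))) (.nd (.nd (.lf 0x2) (.lf 0x2)) (.nd (.lf 0x1) (.lf 0x1)))) (.nd (.nd (.nd (.lf 0x2) (.lf 0x2)) (.nd (.lf 0x2) (.lf 0x1))) (.nd (.nd (.lf 0x1) (.lf 0x2)) (.nd (.lf 0x1) (.lf 0x2))))) (.nd (.nd (.nd (.nd (.lf 0x1) (.lf 0x1)) (.nd (.lf 0x2) (.lf 0x1))) (.nd (.nd (.lf 0x1) (.lf 0x2)) (.nd (.lf 0x1) (.lf 0x2)))) (.nd (.nd (.nd (.lf 0x1) (.lf 0x2)) (.nd (.lf 0x1) (.lf 0x2))) (.nd (.nd (.lf 0x2) (.lf 0x1)) (.nd (.lf 0x1) (.lf 0)))))))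
def labG_nabbbbb : Tr := (.nd (.nd (.nd (.nd (.nd (.nd (.lf 0x1) (.lf 0x1)) (.nd (.lf 0x1) (.lf 0x1))) (.nd (.nd (.lf 0x1) (.lf 0x1)) (.nd (.lf 0x1) (.lf 0x2)))) (.nd (.nd (.nd (.lf 0x2) (.lf 0x1)) (.nd (.lf 0x1) (.lf 0x2))) (.nd (.nd (.lf 0x1) (.lf 0x2)) (.nd (.lf 0x1) (.lf 0x1))))) (.nd (.nd (.nd (.nd (.lf 0x1) (.lf 0x2)) (.nd (.lf 0x1) (.lf 0x1))) (.nd (.nd (.lf 0x2) (.lf 0x2)) (.nd (.lf 0x2) (.lf 0x2)))) (.nd (.nd (.nd (.lf 0x2) (.lf 0x1)) (.nd (.lf 0x1) (.lf 0x1))) (.nd (.nd (.lf 0x1) (.lf 0x2)) (.nd (.lf 0x1) (.lf 0x1)))))) (.nd (.nd (.nd (.nd (.nd (.lf 0x1) (.lf 0x2)) (.nd (.lf 0x2) (.lf 0x1))) (.nd (.nd (.lf 0x2) (.lf 0x1)) (.nd (.lf 0x2) (.lf 0x2)))) (.nd (.nd (.nd (.lf 0x2) (.lf 0x2)) (.nd (.lf 0x2) (.lf 0x2)))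 (.nd (.nd (.lf 0x1) (.lf 0x1)) (.nd (.lf 0x1) (.lf 0x1))))) (.nd (.nd (.nd (.nd (.lf 0x1) (.lf 0x2)) (.nd (.lf 0x2) (.lf 0x2))) (.nd (.nd (.lf 0x1) (.lf 0x1)) (.nd (.lf 0x1) (.lf 0x2)))) (.nd (.nd (.nd (.lf 0x2) (.lf 0x1)) (.nd (.lf 0x2) (.lf 0x1))) (.nd (.nd (.lf 0x1) (.lf 0x2)) (.nd (.lf 0x1) (.lf 0)))))))
def labG_nbaaaaa : Tr := (.nd (.nd (.nd (.nd (.nd (.nd (.lf 0x1) (.lf 0x1)) (.nd (.lf 0x1) (.lf 0x1))) (.nd (.nd (.lf 0x2) (.lf 0x2)) (.nd (.lf 0x2) (.lf 0x2)))) (.nd (.nd (.nd (.lf 0x1) (.lf 0x1)) (.nd (.lf 0x2) (.lf 0x1))) (.nd (.nd (.lf 0x1) (.lf 0x1)) (.nd (.lf 0x1) (.lf 0x2))))) (.nd (.nd (.nd (.nd (.lf 0x1) (.lf 0x1)) (.nd (.lf 0x1) (.lf 0x2))) (.nd (.nd (.lf 0x2) (.lf 0x1)) (.nd (.lf 0x2) (.lf 0x2)))) (.nd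 (.nd (.nd (.lf 0x2) (.lf 0x2)) (.nd (.lf 0x1) (.lf 0x1))) (.nd (.nd (.lf 0x2) (.lf 0x1)) (.nd (.lf 0x1) (.lf 0x1)))))) (.nd (.nd (.nd (.nd (.nd (.lf 0x1) (.lf 0x2)) (.nd (.lf 0x1) (.lf 0x1))) (.nd (.nd (.lf 0x1) (.lf 0x2)) (.nd (.lf 0x1) (.lf 0x1)))) (.nd (.nd (.nd (.lf 0x2) (.lf 0x2)) (.nd (.lf 0x1) (.lf 0x2))) (.nd (.nd (.lf 0x2) (.lf 0x2)) (.nd (.lf 0x2) (.lf 0x2))))) (.nd (.nd (.nd (.nd (.lf 0x2) (.lf 0x1)) (.nd (.lf 0x1) (.lf 0x1))) (.nd (.nd (.lf 0x1) (.lf 0x1)) (.nd (.lf 0x1) (.lf 0x2)))) (.nd (.nd (.nd (.lf 0x1) (.lf 0x1)) (.nd (.lf 0x1) (.lf 0x2))) (.nd (.nd (.lf 0x1) (.lf 0x2)) (.nd (.lf 0x2) (.lf 0x1)))))))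
def labG_nbaaaab : Tr := (.nd (.nd (.nd (.nd (.nd (.nd (.lf 0x1) (.lf 0x1)) (.nd (.lf 0x2) (.lf 0x1))) (.nd (.nd (.lf 0x1) (.lf 0x1)) (.nd (.lf 0x1) (.lf 0x1)))) (.nd (.nd (.nd (.lf 0x2) (.lf 0x2)) (.nd (.lf 0x2) (.lf 0x2))) (.nd (.nd (.lf 0x2) (.lf 0x2)) (.nd (.lf 0x1) (.lf 0x2))))) (.nd (.nd (.nd (.nd (.lf 0x1) (.lf 0x2)) (.nd (.lf 0x1) (.lf 0x1))) (.nd (.nd (.lf 0x1) (.lf 0x1)) (.nd (.lf 0x1) (.lf 0x2)))) (.nd (.nd (.nd (.lf 0x1) (.lf 0x1)) (.nd (.lf 0x1) (.lf 0x1))) (.nd (.nd (.lf 0x2) (.lf 0x1)) (.nd (.lf 0x2) (.lf 0x2)))))) (.nd (.nd (.nd (.nd (.nd (.lf 0x1) (.lf 0x2)) (.nd (.lf 0x1) (.lf 0x1))) (.nd (.nd (.lf 0x1) (.lf 0x2)) (.nd (.lf 0x1) (.lf 0x1)))) (.nd (.nd (.nd (.lf 0x1) (.lf 0x2)) (.nd (.lf 0x2) (.lf 0x2)))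 (.nd (.nd (.lf 0x2) (.lf 0x1)) (.nd (.lf 0x1) (.lf 0x2))))) (.nd (.nd (.nd (.nd (.lf 0x1) (.lf 0x2)) (.nd (.lf 0x1) (.lf 0x1))) (.nd (.nd (.lf 0x1) (.lf 0x1)) (.nd (.lf 0x2) (.lf 0x1)))) (.nd (.nd (.nd (.lf 0x1) (.lf 0x1)) (.nd (.lf 0x2) (.lf 0x2))) (.nd (.nd (.lf 0x1) (.lf 0x1)) (.nd (.lf 0x2) (.lf 0)))))))
def labG_nbaaaba : Tr := (.nd (.nd (.nd (.nd (.nd (.nd (.lf 0x1) (.lf 0x1)) (.nd (.lf 0x2) (.lf 0x2))) (.nd (.nd (.lf 0x2) (.lf 0x1)) (.nd (.lf 0x1) (.lf 0x1)))) (.nd (.nd (.nd (.lf 0x2) (.lf 0x1)) (.nd (.lf 0x2) (.lf 0x2))) (.nd (.nd (.lf 0x2) (.lf 0x2)) (.nd (.lf 0x1) (.lf 0x2))))) (.nd (.nd (.nd (.nd (.lf 0x2) (.lf 0x2)) (.nd (.lf 0x2) (.lf 0x1))) (.nd (.nd (.lf 0x1) (.lf 0x2)) (.nd (.lf 0x1) (.lf 0x2)))) (.nd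 (.nd (.nd (.lf 0x1) (.lf 0x1)) (.nd (.lf 0x2) (.lf 0x2))) (.nd (.nd (.lf 0x1) (.lf 0x2)) (.nd (.lf 0x1) (.lf 0x1)))))) (.nd (.nd (.nd (.nd (.nd (.lf 0x1) (.lf 0x2)) (.nd (.lf 0x2) (.lf 0x1))) (.nd (.nd (.lf 0x2) (.lf 0x1)) (.nd (.lf 0x1) (.lf 0x2)))) (.nd (.nd (.nd (.lf 0x1) (.lf 0x1)) (.nd (.lf 0x2) (.lf 0x2))) (.nd (.nd (.lf 0x1) (.lf 0x1)) (.nd (.lf 0x1) (.lf 0x2))))) (.nd (.nd (.nd (.nd (.lf 0x1) (.lf 0x2)) (.nd (.lf 0x2) (.lf 0x2))) (.nd (.nd (.lf 0x2) (.lf 0x2)) (.nd (.lf 0x1) (.lf 0x1)))) (.nd (.nd (.nd (.lf 0x2) (.lf 0x1)) (.nd (.lf 0x1) (.lf 0x1))) (.nd (.nd (.lf 0x1) (.lf 0x2)) (.nd (.lf 0x2) (.lf 0x1)))))))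
def labG_nbaaabb : Tr := (.nd (.nd (.nd (.nd (.nd (.nd (.lf 0x2) (.lf 0x1)) (.nd (.lf 0x2) (.lf 0x2))) (.nd (.nd (.lf 0x1) (.lf 0x1)) (.nd (.lf 0x1) (.lf 0x2)))) (.nd (.nd (.nd (.lf 0x1) (.lf 0x1)) (.nd (.lf 0x2) (.lf 0x2))) (.nd (.nd (.lf 0x1) (.lf 0x1)) (.nd (.lf 0x2) (.lf 0x1))))) (.nd (.nd (.nd (.nd (.lf 0x2) (.lf 0x2)) (.nd (.lf 0x1) (.lf 0x1))) (.nd (.nd (.lf 0x1) (.lf 0x2)) (.nd (.lf 0x1) (.lf 0x1)))) (.nd (.nd (.nd (.lf 0x1) (.lf 0x1)) (.nd (.lf 0x1) (.lf 0x1))) (.nd (.nd (.lf 0x1) (.lf 0x2)) (.nd (.lf 0x2) (.lf 0x1)))))) (.nd (.nd (.nd (.nd (.nd (.lf 0x2) (.lf 0x2)) (.nd (.lf 0x2) (.lf 0x1))) (.nd (.nd (.lf 0x2) (.lf 0x1)) (.nd (.lf 0x2) (.lf 0x1)))) (.nd (.nd (.nd (.lf 0x1) (.lf 0x2)) (.nd (.lf 0x1) (.lf 0x2)))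 (.nd (.nd (.lf 0x1) (.lf 0x2)) (.nd (.lf 0x2) (.lf 0x2))))) (.nd (.nd (.nd (.nd (.lf 0x2) (.lf 0x2)) (.nd (.lf 0x2) (.lf 0x1))) (.nd (.nd (.lf 0x2) (.lf 0x2)) (.nd (.lf 0x1) (.lf 0x2)))) (.nd (.nd (.nd (.lf 0x1) (.lf 0x2)) (.nd (.lf 0x2) (.lf 0x1))) (.nd (.nd (.lf 0x2) (.lf 0x1)) (.nd (.lf 0x2) (.lf 0)))))))
def labG_nbaabaa : Tr := (.nd (.nd (.nd (.nd (.nd (.nd (.lf 0x2) (.lf 0x1)) (.nd (.lf 0x1) (.lf 0x2))) (.nd (.nd (.lf 0x2) (.lf 0x1)) (.nd (.lf 0x1) (.lf 0x1)))) (.nd (.nd (.nd (.lf 0x2) (.lf 0x2)) (.nd (.lf 0x1) (.lf 0x1))) (.nd (.nd (.lf 0x1) (.lf 0x1)) (.nd (.lf 0x1) (.lf 0x1))))) (.nd (.nd (.nd (.nd (.lf 0x1) (.lf 0x1)) (.nd (.lf 0x1) (.lf 0x2))) (.nd (.nd (.lf 0x2) (.lf 0x2)) (.nd (.lf 0x1) (.lf 0x2)))) (.nd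 (.nd (.nd (.lf 0x1) (.lf 0x2)) (.nd (.lf 0x2) (.lf 0x1))) (.nd (.nd (.lf 0x1) (.lf 0x1)) (.nd (.lf 0x2) (.lf 0x2)))))) (.nd (.nd (.nd (.nd (.nd (.lf 0x2) (.lf 0x1)) (.nd (.lf 0x1) (.lf 0x2))) (.nd (.nd (.lf 0x1) (.lf 0x2)) (.nd (.lf 0x2) (.lf 0x2)))) (.nd (.nd (.nd (.lf 0x1) (.lf 0x2)) (.nd (.lf 0x2) (.lf 0x1))) (.nd (.nd (.lf 0x1) (.lf 0x1)) (.nd (.lf 0x2) (.lf 0x1))))) (.nd (.nd (.nd (.nd (.lf 0x2) (.lf 0x2)) (.nd (.lf 0x1) (.lf 0x2))) (.nd (.nd (.lf 0x1) (.lf 0x2)) (.nd (.lf 0x2) (.lf 0x2)))) (.nd (.nd (.nd (.lf 0x2) (.lf 0x2)) (.nd (.lf 0x2) (.lf 0x1))) (.nd (.nd (.lf 0x1) (.lf 0x2)) (.nd (.lf 0x1) (.lf 0x1)))))))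
def labG_nbaabab : Tr := (.nd (.nd (.nd (.nd (.nd (.nd (.lf 0x1) (.lf 0x2)) (.nd (.lf 0x1) (.lf 0x2))) (.nd (.nd (.lf 0x1) (.lf 0x1)) (.nd (.lf 0x2) (.lf 0x1)))) (.nd (.nd (.nd (.lf 0x2) (.lf 0x1)) (.nd (.lf 0x2) (.lf 0x1))) (.nd (.nd (.lf 0x1) (.lf 0x1)) (.nd (.lf 0x2) (.lf 0x1))))) (.nd (.nd (.nd (.nd (.lf 0x1) (.lf 0x1)) (.nd (.lf 0x1) (.lf 0x2))) (.nd (.nd (.lf 0x2) (.lf 0x2)) (.nd (.lf 0x1) (.lf 0x2)))) (.nd (.nd (.nd (.lf 0x2) (.lf 0x2)) (.nd (.lf 0x2) (.lf 0x1))) (.nd (.nd (.lf 0x1) (.lf 0x1)) (.nd (.lf 0x1) (.lf 0x1)))))) (.nd (.nd (.nd (.nd (.nd (.lf 0x1) (.lf 0x2)) (.nd (.lf 0x1) (.lf 0x1))) (.nd (.nd (.lf 0x2) (.lf 0x1)) (.nd (.lf 0x2) (.lf 0x2)))) (.nd (.nd (.nd (.lf 0x2) (.lf 0x1)) (.nd (.lf 0x2) (.lf 0x2)))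 (.nd (.nd (.lf 0x1) (.lf 0x2)) (.nd (.lf 0x2) (.lf 0x1))))) (.nd (.nd (.nd (.nd (.lf 0x1) (.lf 0x1)) (.nd (.lf 0x1) (.lf 0x2))) (.nd (.nd (.lf 0x2) (.lf 0x2)) (.nd (.lf 0x1) (.lf 0x1)))) (.nd (.nd (.nd (.lf 0x1) (.lf 0x2)) (.nd (.lf 0x1) (.lf 0x2))) (.nd (.nd (.lf 0x2) (.lf 0x1)) (.nd (.lf 0x1) (.lf 0)))))))
def labG_nbaabba : Tr := (.nd (.nd (.nd (.nd (.nd (.nd (.lf 0x1) (.lf 0x1)) (.nd (.lf 0x2) (.lf 0x1))) (.nd (.nd (.lf 0x1) (.lf 0x1)) (.nd (.lf 0x2) (.lf 0x1)))) (.nd (.nd (.nd (.lf 0x1) (.lf 0x1)) (.nd (.lf 0x2) (.lf 0x2))) (.nd (.nd (.lf 0x1) (.lf 0x2)) (.nd (.lf 0x1) (.lf 0x1))))) (.nd (.nd (.nd (.nd (.lf 0x2) (.lf 0x2)) (.nd (.lf 0x1) (.lf 0x2))) (.nd (.nd (.lf 0x1) (.lf 0x1)) (.nd (.lf 0x1) (.lf 0x2)))) (.nd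 (.nd (.nd (.lf 0x2) (.lf 0x2)) (.nd (.lf 0x1) (.lf 0x1))) (.nd (.nd (.lf 0x1) (.lf 0x1)) (.nd (.lf 0x2) (.lf 0x1)))))) (.nd (.nd (.nd (.nd (.nd (.lf 0x1) (.lf 0x1)) (.nd (.lf 0x2) (.lf 0x2))) (.nd (.nd (.lf 0x2) (.lf 0x1)) (.nd (.lf 0x1) (.lf 0x2)))) (.nd (.nd (.nd (.lf 0x2) (.lf 0x1)) (.nd (.lf 0x1) (.lf 0x2))) (.nd (.nd (.lf 0x2) (.lf 0x1)) (.nd (.lf 0x2) (.lf 0x1))))) (.nd (.nd (.nd (.nd (.lf 0x2) (.lf 0x1)) (.nd (.lf 0x1) (.lf 0x2))) (.nd (.nd (.lf 0x1) (.lf 0x1)) (.nd (.lf 0x2) (.lf 0x2)))) (.nd (.nd (.nd (.lf 0x1) (.lf 0x2)) (.nd (.lf 0x2) (.lf 0x2))) (.nd (.nd (.lf 0x2) (.lf 0x1)) (.nd (.lf 0x2) (.lf 0x1)))))))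
def labG_nbaabbb : Tr := (.nd (.nd (.nd (.nd (.nd (.nd (.lf 0x2) (.lf 0x1)) (.nd (.lf 0x1) (.lf 0x2))) (.nd (.nd (.lf 0x1) (.lf 0x2)) (.nd (.lf 0x2) (.lf 0x1)))) (.nd (.nd (.nd (.lf 0x2) (.lf 0x2)) (.nd (.lf 0x1) (.lf 0x2))) (.nd (.nd (.lf 0x1) (.lf 0x1)) (.nd (.lf 0x2) (.lf 0x1))))) (.nd (.nd (.nd (.nd (.lf 0x1) (.lf 0x2)) (.nd (.lf 0x2) (.lf 0x1))) (.nd (.nd (.lf 0x1) (.lf 0x2)) (.nd (.lf 0x1) (.lf 0x2)))) (.nd (.nd (.nd (.lf 0x1) (.lf 0x1)) (.nd (.lf 0x1) (.lf 0x1))) (.nd (.nd (.lf 0x1) (.lf 0x1)) (.nd (.lf 0x1) (.lf 0x1)))))) (.nd (.nd (.nd (.nd (.nd (.lf 0x1) (.lf 0x2)) (.nd (.lf 0x1) (.lf 0x1))) (.nd (.nd (.lf 0x1) (.lf 0x2)) (.nd (.lf 0x1) (.lf 0x2)))) (.nd (.nd (.nd (.lf 0x2) (.lf 0x1)) (.nd (.lf 0x1) (.lf 0x1)))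 (.nd (.nd (.lf 0x1) (.lf 0x1)) (.nd (.lf 0x2) (.lf 0x1))))) (.nd (.nd (.nd (.nd (.lf 0x1) (.lf 0x2)) (.nd (.lf 0x2) (.lf 0x1))) (.nd (.nd (.lf 0x1) (.lf 0x2)) (.nd (.lf 0x2) (.lf 0x1)))) (.nd (.nd (.nd (.lf 0x1) (.lf 0x2)) (.nd (.lf 0x1) (.lf 0x2))) (.nd (.nd (.lf 0x2) (.lf 0x2)) (.nd (.lf 0x1) (.lf 0)))))))
def labG_nbabaaa : Tr := (.nd (.nd (.nd (.nd (.nd (.nd (.lf 0x1) (.lf 0x2)) (.nd (.lf 0x1) (.lf 0x1))) (.nd (.nd (.lf 0x1) (.lf 0x1)) (.nd (.lf 0x1) (.lf 0x2)))) (.nd (.nd (.nd (.lf 0x1) (.lf 0x2)) (.nd (.lf 0x1) (.lf 0x1))) (.nd (.nd (.lf 0x1) (.lf 0x1)) (.nd (.lf 0x2) (.lf 0x2))))) (.nd (.nd (.nd (.nd (.lf 0x1) (.lf 0x1)) (.nd (.lf 0x1) (.lf 0x2))) (.nd (.nd (.lf 0x1) (.lf 0x2)) (.nd (.lf 0x2) (.lf 0x2)))) (.nd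 (.nd (.nd (.lf 0x1) (.lf 0x2)) (.nd (.lf 0x1) (.lf 0x2))) (.nd (.nd (.lf 0x1) (.lf 0x1)) (.nd (.lf 0x1) (.lf 0x2)))))) (.nd (.nd (.nd (.nd (.nd (.lf 0x2) (.lf 0x2)) (.nd (.lf 0x1) (.lf 0x2))) (.nd (.nd (.lf 0x1) (.lf 0x1)) (.nd (.lf 0x2) (.lf 0x1)))) (.nd (.nd (.nd (.lf 0x2) (.lf 0x1)) (.nd (.lf 0x1) (.lf 0x1))) (.nd (.nd (.lf 0x2) (.lf 0x1)) (.nd (.lf 0x1) (.lf 0x1))))) (.nd (.nd (.nd (.nd (.lf 0x2) (.lf 0x1)) (.nd (.lf 0x1) (.lf 0x1))) (.nd (.nd (.lf 0x1) (.lf 0x2)) (.nd (.lf 0x2) (.lf 0x1)))) (.nd (.nd (.nd (.lf 0x1) (.lf 0x1)) (.nd (.lf 0x1) (.lf 0x2))) (.nd (.nd (.lf 0x2) (.lf 0x1)) (.nd (.lf 0x2) (.lf 0x1)))))))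
def labG_nbabaab : Tr := (.nd (.nd (.nd (.nd (.nd (.nd (.lf 0x1) (.lf 0x1)) (.nd (.lf 0x1) (.lf 0x2))) (.nd (.nd (.lf 0x2) (.lf 0x2)) (.nd (.lf 0x2) (.lf 0x2)))) (.nd (.nd (.nd (.lf 0x2) (.lf 0x2)) (.nd (.lf 0x2) (.lf 0x2))) (.nd (.nd (.lf 0x2) (.lf 0x1)) (.nd (.lf 0x1) (.lf 0x1))))) (.nd (.nd (.nd (.nd (.lf 0x2) (.lf 0x2)) (.nd (.lf 0x1) (.lf 0x2))) (.nd (.nd (.lf 0x1) (.lf 0x1)) (.nd (.lf 0x1) (.lf 0x1)))) (.nd (.nd (.nd (.lf 0x1) (.lf 0x1)) (.nd (.lf 0x2) (.lf 0x2))) (.nd (.nd (.lf 0x2) (.lf 0x1)) (.nd (.lf 0x1) (.lf 0x2)))))) (.nd (.nd (.nd (.nd (.nd (.lf 0x1) (.lf 0x2)) (.nd (.lf 0x1) (.lf 0x1))) (.nd (.nd (.lf 0x1) (.lf 0x1)) (.nd (.lf 0x1) (.lf 0x1)))) (.nd (.nd (.nd (.lf 0x2) (.lf 0x1)) (.nd (.lf 0x1) (.lf 0x1)))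 (.nd (.nd (.lf 0x1) (.lf 0x1)) (.nd (.lf 0x1) (.lf 0x1))))) (.nd (.nd (.nd (.nd (.lf 0x1) (.lf 0x2)) (.nd (.lf 0x1) (.lf 0x1))) (.nd (.nd (.lf 0x1) (.lf 0x1)) (.nd (.lf 0x1) (.lf 0x2)))) (.nd (.nd (.nd (.lf 0x1) (.lf 0x1)) (.nd (.lf 0x1) (.lf 0x2))) (.nd (.nd (.lf 0x2) (.lf 0x2)) (.nd (.lf 0x1) (.lf 0)))))))
def labG_nbababa : Tr := (.nd (.nd (.nd (.nd (.nd (.nd (.lf 0x1) (.lf 0x2)) (.nd (.lf 0x1) (.lf 0x1))) (.nd (.nd (.lf 0x2) (.lf 0x2)) (.nd (.lf 0x2) (.lf 0x1)))) (.nd (.nd (.nd (.lf 0x1) (.lf 0x1)) (.nd (.lf 0x1) (.lf 0x1))) (.nd (.nd (.lf 0x2) (.lf 0x1)) (.nd (.lf 0x2) (.lf 0x2))))) (.nd (.nd (.nd (.nd (.lf 0x1) (.lf 0x2)) (.nd (.lf 0x1) (.lf 0x1))) (.nd (.nd (.lf 0x2) (.lf 0x2)) (.nd (.lf 0x1) (.lf 0x1)))) (.nd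 (.nd (.nd (.lf 0x1) (.lf 0x2)) (.nd (.lf 0x1) (.lf 0x1))) (.nd (.nd (.lf 0x2) (.lf 0x2)) (.nd (.lf 0x1) (.lf 0x2)))))) (.nd (.nd (.nd (.nd (.nd (.lf 0x2) (.lf 0x1)) (.nd (.lf 0x2) (.lf 0x2))) (.nd (.nd (.lf 0x2) (.lf 0x1)) (.nd (.lf 0x1) (.lf 0x2)))) (.nd (.nd (.nd (.lf 0x1) (.lf 0x1)) (.nd (.lf 0x1) (.lf 0x1))) (.nd (.nd (.lf 0x2) (.lf 0x1)) (.nd (.lf 0x2) (.lf 0x2))))) (.nd (.nd (.nd (.nd (.lf 0x1) (.lf 0x1)) (.nd (.lf 0x1) (.lf 0x2))) (.nd (.nd (.lf 0x1) (.lf 0x2)) (.nd (.lf 0x2) (.lf 0x2)))) (.nd (.nd (.nd (.lf 0x1) (.lf 0x2)) (.nd (.lf 0x1) (.lf 0x1))) (.nd (.nd (.lf 0x2) (.lf 0x1)) (.nd (.lf 0x2) (.lf 0x2)))))))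
def labG_nbababb : Tr := (.nd (.nd (.nd (.nd (.nd (.nd (.lf 0x2) (.lf 0x2)) (.nd (.lf 0x1) (.lf 0x1))) (.nd (.nd (.lf 0x2) (.lf 0x1)) (.nd (.lf 0x1) (.lf 0x1)))) (.nd (.nd (.nd (.lf 0x1) (.lf 0x2)) (.nd (.lf 0x2) (.lf 0x1))) (.nd (.nd (.lf 0x1) (.lf 0x1)) (.nd (.lf 0x1) (.lf 0x2))))) (.nd (.nd (.nd (.nd (.lf 0x1) (.lf 0x1)) (.nd (.lf 0x2) (.lf 0x1))) (.nd (.nd (.lf 0x2) (.lf 0x1)) (.nd (.lf 0x2) (.lf 0x2)))) (.nd (.nd (.nd (.lf 0x2) (.lf 0x1)) (.nd (.lf 0x1) (.lf 0x2))) (.nd (.nd (.lf 0x2) (.lf 0x1)) (.nd (.lf 0x2) (.lf 0x1)))))) (.nd (.nd (.nd (.nd (.nd (.lf 0x1) (.lf 0x1)) (.nd (.lf 0x1) (.lf 0x1))) (.nd (.nd (.lf 0x1) (.lf 0x1)) (.nd (.lf 0x1) (.lf 0x1)))) (.nd (.nd (.nd (.lf 0x1) (.lf 0x1)) (.nd (.lf 0x1) (.lf 0x1)))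 (.nd (.nd (.lf 0x1) (.lf 0x2)) (.nd (.lf 0x1) (.lf 0x2))))) (.nd (.nd (.nd (.nd (.lf 0x1) (.lf 0x2)) (.nd (.lf 0x2) (.lf 0x2))) (.nd (.nd (.lf 0x1) (.lf 0x2)) (.nd (.lf 0x1) (.lf 0x1)))) (.nd (.nd (.nd (.lf 0x1) (.lf 0x2)) (.nd (.lf 0x1) (.lf 0x2))) (.nd (.nd (.lf 0x2) (.lf 0x1)) (.nd (.lf 0x2) (.lf 0)))))))
def labG_nbabbaa : Tr := (.nd (.nd (.nd (.nd (.nd (.nd (.lf 0x1) (.lf 0x1)) (.nd (.lf 0x1) (.lf 0x2))) (.nd (.nd (.lf 0x1) (.lf 0x1)) (.nd (.lf 0x2) (.lf 0x1)))) (.nd (.nd (.nd (.lf 0x2) (.lf 0x1)) (.nd (.lf 0x1) (.lf 0x1))) (.nd (.nd (.lf 0x1) (.lf 0x2)) (.nd (.lf 0x2) (.lf 0x1))))) (.nd (.nd (.nd (.nd (.lf 0x1) (.lf 0x2)) (.nd (.lf 0x2) (.lf 0x1))) (.nd (.nd (.lf 0x2) (.lf 0x2)) (.nd (.lf 0x2) (.lf 0x1)))) (.nd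 (.nd (.nd (.lf 0x1) (.lf 0x1)) (.nd (.lf 0x1) (.lf 0x1))) (.nd (.nd (.lf 0x1) (.lf 0x1)) (.nd (.lf 0x2) (.lf 0x1)))))) (.nd (.nd (.nd (.nd (.nd (.lf 0x1) (.lf 0x1)) (.nd (.lf 0x2) (.lf 0x1))) (.nd (.nd (.lf 0x1) (.lf 0x2)) (.nd (.lf 0x2) (.lf 0x1)))) (.nd (.nd (.nd (.lf 0x2) (.lf 0x1)) (.nd (.lf 0x2) (.lf 0x1))) (.nd (.nd (.lf 0x1) (.lf 0x1)) (.nd (.lf 0x1) (.lf 0x1))))) (.nd (.nd (.nd (.nd (.lf 0x1) (.lf 0x2)) (.nd (.lf 0x2) (.lf 0x1))) (.nd (.nd (.lf 0x1) (.lf 0x1)) (.nd (.lf 0x2) (.lf 0x2)))) (.nd (.nd (.nd (.lf 0x1) (.lf 0x2)) (.nd (.lf 0x2) (.lf 0x1))) (.nd (.nd (.lf 0x1) (.lf 0x2)) (.nd (.lf 0x1) (.lf 0x1)))))))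
def labG_nbabbab : Tr := (.nd (.nd (.nd (.nd (.nd (.nd (.lf 0x2) (.lf 0x1)) (.nd (.lf 0x1) (.lf 0x1))) (.nd (.nd (.lf 0x1) (.lf 0x1)) (.nd (.lf 0x1) (.lf 0x1)))) (.nd (.nd (.nd (.lf 0x2) (.lf 0x2)) (.nd (.lf 0x1) (.lf 0x2))) (.nd (.nd (.lf 0x2) (.lf 0x1)) (.nd (.lf 0x2) (.lf 0x1))))) (.nd (.nd (.nd (.nd (.lf 0x2) (.lf 0x2)) (.nd (.lf 0x1) (.lf 0x2))) (.nd (.nd (.lf 0x2) (.lf 0x1)) (.nd (.lf 0x2) (.lf 0x2)))) (.nd (.nd (.nd (.lf 0x1) (.lf 0x1)) (.nd (.lf 0x1) (.lf 0x2))) (.nd (.nd (.lf 0x1) (.lf 0x1)) (.nd (.lf 0x2) (.lf 0x1)))))) (.nd (.nd (.nd (.nd (.nd (.lf 0x1) (.lf 0x1)) (.nd (.lf 0x2) (.lf 0x1))) (.nd (.nd (.lf 0x1) (.lf 0x1)) (.nd (.lf 0x1) (.lf 0x1)))) (.nd (.nd (.nd (.lf 0x2) (.lf 0x2)) (.nd (.lf 0x1) (.lf 0x2)))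 (.nd (.nd (.lf 0x1) (.lf 0x2)) (.nd (.lf 0x1) (.lf 0x1))))) (.nd (.nd (.nd (.nd (.lf 0x2) (.lf 0x1)) (.nd (.lf 0x1) (.lf 0x1))) (.nd (.nd (.lf 0x1) (.lf 0x2)) (.nd (.lf 0x1) (.lf 0x2)))) (.nd (.nd (.nd (.lf 0x2) (.lf 0x2)) (.nd (.lf 0x2) (.lf 0x2))) (.nd (.nd (.lf 0x2) (.lf 0x1)) (.nd (.lf 0x1) (.lf 0)))))))
def labG_nbabbba : Tr := (.nd (.nd (.nd (.nd (.nd (.nd (.lf 0x2) (.lf 0x2)) (.nd (.lf 0x2) (.lf 0x2))) (.nd (.nd (.lf 0x2) (.lf 0x1)) (.nd (.lf 0x1) (.lf 0x2)))) (.nd (.nd (.nd (.lf 0x2) (.lf 0x2)) (.nd (.lf 0x1) (.lf 0x1))) (.nd (.nd (.lf 0x1) (.lf 0x1)) (.nd (.lf 0x1) (.lf 0x1))))) (.nd (.nd (.nd (.nd (.lf 0x2) (.lf 0x1)) (.nd (.lf 0x2) (.lf 0x2))) (.nd (.nd (.lf 0x2) (.lf 0x2)) (.nd (.lf 0x1) (.lf 0x2)))) (.nd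 (.nd (.nd (.lf 0x2) (.lf 0x1)) (.nd (.lf 0x2) (.lf 0x1))) (.nd (.nd (.lf 0x2) (.lf 0x2)) (.nd (.lf 0x2) (.lf 0x1)))))) (.nd (.nd (.nd (.nd (.nd (.lf 0x1) (.lf 0x1)) (.nd (.lf 0x2) (.lf 0x2))) (.nd (.nd (.lf 0x1) (.lf 0x1)) (.nd (.lf 0x2) (.lf 0x2)))) (.nd (.nd (.nd (.lf 0x1) (.lf 0x2)) (.nd (.lf 0x2) (.lf 0x2))) (.nd (.nd (.lf 0x1) (.lf 0x2)) (.nd (.lf 0x1) (.lf 0x1))))) (.nd (.nd (.nd (.nd (.lf 0x1) (.lf 0x2)) (.nd (.lf 0x1) (.lf 0x2))) (.nd (.nd (.lf 0x1) (.lf 0x2)) (.nd (.lf 0x2) (.lf 0x2)))) (.nd (.nd (.nd (.lf 0x2) (.lf 0x1)) (.nd (.lf 0x1) (.lf 0x2))) (.nd (.nd (.lf 0x1) (.lf 0x2)) (.nd (.lf 0x1) (.lf 0)))))))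
def labG_nbabbbb : Tr := (.nd (.nd (.nd (.nd (.nd (.nd (.lf 0x2) (.lf 0x2)) (.nd (.lf 0x1) (.lf 0x1))) (.nd (.nd (.lf 0x1) (.lf 0x1)) (.nd (.lf 0x2) (.lf 0x2)))) (.nd (.nd (.nd (.lf 0x1) (.lf 0x1)) (.nd (.lf 0x1) (.lf 0x1))) (.nd (.nd (.lf 0x2) (.lf 0x1)) (.nd (.lf 0x2) (.lf 0x1))))) (.nd (.nd (.nd (.nd (.lf 0x2) (.lf 0x1)) (.nd (.lf 0x1) (.lf 0x1))) (.nd (.nd (.lf 0x2) (.lf 0x1)) (.nd (.lf 0x1) (.lf 0x2)))) (.nd (.nd (.nd (.lf 0x1) (.lf 0x2)) (.nd (.lf 0x1) (.lf 0x1))) (.nd (.nd (.lf 0x2) (.lf 0x2)) (.nd (.lf 0x1) (.lf 0x1)))))) (.nd (.nd (.nd (.nd (.nd (.lf 0x2) (.lf 0x1)) (.nd (.lf 0x2) (.lf 0x1))) (.nd (.nd (.lf 0x2) (.lf 0x1)) (.nd (.lf 0x2) (.lf 0x1)))) (.nd (.nd (.nd (.lf 0x1) (.lf 0x1)) (.nd (.lf 0x2) (.lf 0x1)))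 (.nd (.nd (.lf 0x2) (.lf 0x1)) (.nd (.lf 0x1) (.lf 0x2))))) (.nd (.nd (.nd (.nd (.lf 0x2) (.lf 0x1)) (.nd (.lf 0x2) (.lf 0x2))) (.nd (.nd (.lf 0x1) (.lf 0x1)) (.nd (.lf 0x1) (.lf 0x1)))) (.nd (.nd (.nd (.lf 0x2) (.lf 0x2)) (.nd (.lf 0x2) (.lf 0x2))) (.nd (.nd (.lf 0x2) (.lf 0x2)) (.nd (.lf 0x2) (.lf 0)))))))
def labG_nbbaaaa : Tr := (.nd (.nd (.nd (.nd (.nd (.nd (.lf 0x1) (.lf 0x1)) (.nd (.lf 0x1) (.lf 0x1))) (.nd (.nd (.lf 0x1) (.lf 0x2)) (.nd (.lf 0x2) (.lf 0x2)))) (.nd (.nd (.nd (.lf 0x1) (.lf 0x1)) (.nd (.lf 0x1) (.lf 0x1))) (.nd (.nd (.lf 0x2) (.lf 0x1)) (.nd (.lf 0x1) (.lf 0x1))))) (.nd (.nd (.nd (.nd (.lf 0x1) (.lf 0x1)) (.nd (.lf 0x1) (.lf 0x1))) (.nd (.nd (.lf 0x1) (.lf 0x1)) (.nd (.lf 0x1) (.lf 0x2)))) (.nd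 (.nd (.nd (.lf 0x2) (.lf 0x1)) (.nd (.lf 0x1) (.lf 0x1))) (.nd (.nd (.lf 0x2) (.lf 0x2)) (.nd (.lf 0x1) (.lf 0x2)))))) (.nd (.nd (.nd (.nd (.nd (.lf 0x1) (.lf 0x2)) (.nd (.lf 0x1) (.lf 0x2))) (.nd (.nd (.lf 0x2) (.lf 0x1)) (.nd (.lf 0x2) (.lf 0x1)))) (.nd (.nd (.nd (.lf 0x1) (.lf 0x2)) (.nd (.lf 0x2) (.lf 0x2))) (.nd (.nd (.lf 0x2) (.lf 0x1)) (.nd (.lf 0x2) (.lf 0x1))))) (.nd (.nd (.nd (.nd (.lf 0x2) (.lf 0x1)) (.nd (.lf 0x2) (.lf 0x1))) (.nd (.nd (.lf 0x2) (.lf 0x2)) (.nd (.lf 0x2) (.lf 0x2)))) (.nd (.nd (.nd (.lf 0x1) (.lf 0x1)) (.nd (.lf 0x2) (.lf 0x2))) (.nd (.nd (.lf 0x1) (.lf 0x2)) (.nd (.lf 0x1) (.lf 0x1)))))))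
def labG_nbbaaab : Tr := (.nd (.nd (.nd (.nd (.nd (.nd (.lf 0x1) (.lf 0x2)) (.nd (.lf 0x1) (.lf 0x2))) (.nd (.nd (.lf 0x1) (.lf 0x1)) (.nd (.lf 0x1) (.lf 0x2)))) (.nd (.nd (.nd (.lf 0x2) (.lf 0x2)) (.nd (.lf 0x2) (.lf 0x2))) (.nd (.nd (.lf 0x2) (.lf 0x2)) (.nd (.lf 0x2) (.lf 0x2))))) (.nd (.nd (.nd (.nd (.lf 0x2) (.lf 0x1)) (.nd (.lf 0x1) (.lf 0x2))) (.nd (.nd (.lf 0x1) (.lf 0x1)) (.nd (.lf 0x2) (.lf 0x2)))) (.nd (.nd (.nd (.lf 0x1) (.lf 0x1)) (.nd (.lf 0x2) (.lf 0x2))) (.nd (.nd (.lf 0x1) (.lf 0x2)) (.nd (.lf 0x2) (.lf 0x2)))))) (.nd (.nd (.nd (.nd (.nd (.lf 0x1) (.lf 0x1)) (.nd (.lf 0x2) (.lf 0x2))) (.nd (.nd (.lf 0x1) (.lf 0x1)) (.nd (.lf 0x1) (.lf 0x1)))) (.nd (.nd (.nd (.lf 0x1) (.lf 0x1)) (.nd (.lf 0x2) (.lf 0x1)))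 (.nd (.nd (.lf 0x1) (.lf 0x1)) (.nd (.lf 0x1) (.lf 0x2))))) (.nd (.nd (.nd (.nd (.lf 0x2) (.lf 0x2)) (.nd (.lf 0x1) (.lf 0x2))) (.nd (.nd (.lf 0x1) (.lf 0x1)) (.nd (.lf 0x1) (.lf 0x1)))) (.nd (.nd (.nd (.lf 0x1) (.lf 0x1)) (.nd (.lf 0x1) (.lf 0x1))) (.nd (.nd (.lf 0x2) (.lf 0x1)) (.nd (.lf 0x2) (.lf 0)))))))
def labG_nbbaaba : Tr := (.nd (.nd (.nd (.nd (.nd (.nd (.lf 0x1) (.lf 0x1)) (.nd (.lf 0x2) (.lf 0x2))) (.nd (.nd (.lf 0x1) (.lf 0x2)) (.nd (.lf 0x2) (.lf 0x2)))) (.nd (.nd (.nd (.lf 0x1) (.lf 0x2)) (.nd (.lf 0x1) (.lf 0x2))) (.nd (.nd (.lf 0x2) (.lf 0x1)) (.nd (.lf 0x1) (.lf 0x1))))) (.nd (.nd (.nd (.nd (.lf 0x1) (.lf 0x1)) (.nd (.lf 0x1) (.lf 0x1))) (.nd (.nd (.lf 0x2) (.lf 0x1)) (.nd (.lf 0x1) (.lf 0x2)))) (.nd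 (.nd (.nd (.lf 0x2) (.lf 0x2)) (.nd (.lf 0x2) (.lf 0x2))) (.nd (.nd (.lf 0x1) (.lf 0x1)) (.nd (.lf 0x2) (.lf 0x2)))))) (.nd (.nd (.nd (.nd (.nd (.lf 0x1) (.lf 0x2)) (.nd (.lf 0x1) (.lf 0x2))) (.nd (.nd (.lf 0x2) (.lf 0x1)) (.nd (.lf 0x1) (.lf 0x1)))) (.nd (.nd (.nd (.lf 0x1) (.lf 0x2)) (.nd (.lf 0x1) (.lf 0x1))) (.nd (.nd (.lf 0x1) (.lf 0x1)) (.nd (.lf 0x1) (.lf 0x1))))) (.nd (.nd (.nd (.nd (.lf 0x1) (.lf 0x1)) (.nd (.lf 0x2) (.lf 0x1))) (.nd (.nd (.lf 0x1) (.lf 0x2)) (.nd (.lf 0x1) (.lf 0x2)))) (.nd (.nd (.nd (.lf 0x2) (.lf 0x2)) (.nd (.lf 0x1) (.lf 0x1))) (.nd (.nd (.lf 0x2) (.lf 0x2)) (.nd (.lf 0x2) (.lf 0x1)))))))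
def labG_nbbaabb : Tr := (.nd (.nd (.nd (.nd (.nd (.nd (.lf 0x1) (.lf 0x1)) (.nd (.lf 0x1) (.lf 0x2))) (.nd (.nd (.lf 0x1) (.lf 0x1)) (.nd (.lf 0x2) (.lf 0x1)))) (.nd (.nd (.nd (.lf 0x1) (.lf 0x1)) (.nd (.lf 0x2) (.lf 0x2))) (.nd (.nd (.lf 0x2) (.lf 0x1)) (.nd (.lf 0x1) (.lf 0x2))))) (.nd (.nd (.nd (.nd (.lf 0x2) (.lf 0x2)) (.nd (.lf 0x2) (.lf 0x2))) (.nd (.nd (.lf 0x1) (.lf 0x2)) (.nd (.lf 0x2) (.lf 0x1)))) (.nd (.nd (.nd (.lf 0x2) (.lf 0x2)) (.nd (.lf 0x1) (.lf 0x1))) (.nd (.nd (.lf 0x1) (.lf 0x1)) (.nd (.lf 0x1) (.lf 0x1)))))) (.nd (.nd (.nd (.nd (.nd (.lf 0x1) (.lf 0x1)) (.nd (.lf 0x2) (.lf 0x2))) (.nd (.nd (.lf 0x2) (.lf 0x1)) (.nd (.lf 0x2) (.lf 0x2)))) (.nd (.nd (.nd (.lf 0x2) (.lf 0x1)) (.nd (.lf 0x1) (.lf 0x1)))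 (.nd (.nd (.lf 0x1) (.lf 0x1)) (.nd (.lf 0x1) (.lf 0x2))))) (.nd (.nd (.nd (.nd (.lf 0x2) (.lf 0x2)) (.nd (.lf 0x1) (.lf 0x1))) (.nd (.nd (.lf 0x2) (.lf 0x2)) (.nd (.lf 0x2) (.lf 0x2)))) (.nd (.nd (.nd (.lf 0x2) (.lf 0x1)) (.nd (.lf 0x2) (.lf 0x1))) (.nd (.nd (.lf 0x1) (.lf 0x1)) (.nd (.lf 0x2) (.lf 0)))))))
def labG_nbbabaa : Tr := (.nd (.nd (.nd (.nd (.nd (.nd (.lf 0x1) (.lf 0x1)) (.nd (.lf 0x2) (.lf 0x1))) (.nd (.nd (.lf 0x1) (.lf 0x1)) (.nd (.lf 0x1) (.lf 0x2)))) (.nd (.nd (.nd (.lf 0x1) (.lf 0x1)) (.nd (.lf 0x1) (.lf 0x1))) (.nd (.nd (.lf 0x1) (.lf 0x1)) (.nd (.lf 0x1) (.lf 0x1))))) (.nd (.nd (.nd (.nd (.lf 0x2) (.lf 0x1)) (.nd (.lf 0x1) (.lf 0x2))) (.nd (.nd (.lf 0x2) (.lf 0x1)) (.nd (.lf 0x2) (.lf 0x1)))) (.nd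 (.nd (.nd (.lf 0x1) (.lf 0x1)) (.nd (.lf 0x2) (.lf 0x1))) (.nd (.nd (.lf 0x2) (.lf 0x1)) (.nd (.lf 0x2) (.lf 0x2)))))) (.nd (.nd (.nd (.nd (.nd (.lf 0x1) (.lf 0x1)) (.nd (.lf 0x2) (.lf 0x1))) (.nd (.nd (.lf 0x2) (.lf 0x1)) (.nd (.lf 0x2) (.lf 0x1)))) (.nd (.nd (.nd (.lf 0x1) (.lf 0x2)) (.nd (.lf 0x1) (.lf 0x2))) (.nd (.nd (.lf 0x1) (.lf 0x1)) (.nd (.lf 0x2) (.lf 0x1))))) (.nd (.nd (.nd (.nd (.lf 0x1) (.lf 0x1)) (.nd (.lf 0x1) (.lf 0x1))) (.nd (.nd (.lf 0x2) (.lf 0x2)) (.nd (.lf 0x1) (.lf 0x1)))) (.nd (.nd (.nd (.lf 0x2) (.lf 0x1)) (.nd (.lf 0x1) (.lf 0x1))) (.nd (.nd (.lf 0x2) (.lf 0x2)) (.nd (.lf 0x1) (.lf 0x1)))))))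
def labG_nbbabab : Tr := (.nd (.nd (.nd (.nd (.nd (.nd (.lf 0x1) (.lf 0x1)) (.nd (.lf 0x1) (.lf 0x1))) (.nd (.nd (.lf 0x2) (.lf 0x2)) (.nd (.lf 0x1) (.lf 0x1)))) (.nd (.nd (.nd (.lf 0x1) (.lf 0x1)) (.nd (.lf 0x2) (.lf 0x1))) (.nd (.nd (.lf 0x2) (.lf 0x2)) (.nd (.lf 0x1) (.lf 0x2))))) (.nd (.nd (.nd (.nd (.lf 0x2) (.lf 0x1)) (.nd (.lf 0x2) (.lf 0x1))) (.nd (.nd (.lf 0x1) (.lf 0x2)) (.nd (.lf 0x1) (.lf 0x1)))) (.nd (.nd (.nd (.lf 0x2) (.lf 0x1)) (.nd (.lf 0x2) (.lf 0x2))) (.nd (.nd (.lf 0x1) (.lf 0x1)) (.nd (.lf 0x1) (.lf 0x1)))))) (.nd (.nd (.nd (.nd (.nd (.lf 0x2) (.lf 0x1)) (.nd (.lf 0x1) (.lf 0x2))) (.nd (.nd (.lf 0x2) (.lf 0x2)) (.nd (.lf 0x2) (.lf 0x2)))) (.nd (.nd (.nd (.lf 0x2) (.lf 0x2)) (.nd (.lf 0x1) (.lf 0x1)))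 (.nd (.nd (.lf 0x2) (.lf 0x2)) (.nd (.lf 0x2) (.lf 0x1))))) (.nd (.nd (.nd (.nd (.lf 0x2) (.lf 0x1)) (.nd (.lf 0x1) (.lf 0x2))) (.nd (.nd (.lf 0x2) (.lf 0x1)) (.nd (.lf 0x1) (.lf 0x2)))) (.nd (.nd (.nd (.lf 0x1) (.lf 0x1)) (.nd (.lf 0x2) (.lf 0x1))) (.nd (.nd (.lf 0x1) (.lf 0x1)) (.nd (.lf 0x1) (.lf 0)))))))
def labG_nbbabba : Tr := (.nd (.nd (.nd (.nd (.nd (.nd (.lf 0x1) (.lf 0x2)) (.nd (.lf 0x2) (.lf 0x2))) (.nd (.nd (.lf 0x1) (.lf 0x2)) (.nd (.lf 0x2) (.lf 0x1)))) (.nd (.nd (.nd (.lf 0x1) (.lf 0x1)) (.nd (.lf 0x1) (.lf 0x1))) (.nd (.nd (.lf 0x1) (.lf 0x1)) (.nd (.lf 0x2) (.lf 0x2))))) (.nd (.nd (.nd (.nd (.lf 0x1) (.lf 0x2)) (.nd (.lf 0x1) (.lf 0x2))) (.nd (.nd (.lf 0x1) (.lf 0x2)) (.nd (.lf 0x2) (.lf 0x1)))) (.nd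 (.nd (.nd (.lf 0x1) (.lf 0x2)) (.nd (.lf 0x2) (.lf 0x2))) (.nd (.nd (.lf 0x2) (.lf 0x1)) (.nd (.lf 0x1) (.lf 0x1)))))) (.nd (.nd (.nd (.nd (.nd (.lf 0x1) (.lf 0x2)) (.nd (.lf 0x1) (.lf 0x1))) (.nd (.nd (.lf 0x2) (.lf 0x1)) (.nd (.lf 0x1) (.lf 0x2)))) (.nd (.nd (.nd (.lf 0x1) (.lf 0x2)) (.nd (.lf 0x2) (.lf 0x1))) (.nd (.nd (.lf 0x2) (.lf 0x1)) (.nd (.lf 0x1) (.lf 0x2))))) (.nd (.nd (.nd (.nd (.lf 0x1) (.lf 0x2)) (.nd (.lf 0x2) (.lf 0x1))) (.nd (.nd (.lf 0x2) (.lf 0x2)) (.nd (.lf 0x1) (.lf 0x1)))) (.nd (.nd (.nd (.lf 0x1) (.lf 0x2)) (.nd (.lf 0x1) (.lf 0x1))) (.nd (.nd (.lf 0x2) (.lf 0x1)) (.nd (.lf 0x1) (.lf 0x1)))))))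
def labG_nbbabbb : Tr := (.nd (.nd (.nd (.nd (.nd (.nd (.lf 0x2) (.lf 0x2)) (.nd (.lf 0x1) (.lf 0x1))) (.nd (.nd (.lf 0x1) (.lf 0x2)) (.nd (.lf 0x2) (.lf 0x2)))) (.nd (.nd (.nd (.lf 0x2) (.lf 0x2)) (.nd (.lf 0x1) (.lf 0x1))) (.nd (.nd (.lf 0x1) (.lf 0x1)) (.nd (.lf 0x2) (.lf 0x2))))) (.nd (.nd (.nd (.nd (.lf 0x2) (.lf 0x1)) (.nd (.lf 0x1) (.lf 0x1))) (.nd (.nd (.lf 0x1) (.lf 0x1)) (.nd (.lf 0x2) (.lf 0x2)))) (.nd (.nd (.nd (.lf 0x1) (.lf 0x1)) (.nd (.lf 0x1) (.lf 0x1))) (.nd (.nd (.lf 0x1) (.lf 0x1)) (.nd (.lf 0x1) (.lf 0x1)))))) (.nd (.nd (.nd (.nd (.nd (.lf 0x1) (.lf 0x1)) (.nd (.lf 0x1) (.lf 0x1))) (.nd (.nd (.lf 0x1) (.lf 0x1)) (.nd (.lf 0x1) (.lf 0x1)))) (.nd (.nd (.nd (.lf 0x1) (.lf 0x2)) (.nd (.lf 0x1) (.lf 0x1)))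 (.nd (.nd (.lf 0x1) (.lf 0x1)) (.nd (.lf 0x2) (.lf 0x2))))) (.nd (.nd (.nd (.nd (.lf 0x2) (.lf 0x2)) (.nd (.lf 0x1) (.lf 0x1))) (.nd (.nd (.lf 0x1) (.lf 0x1)) (.nd (.lf 0x1) (.lf 0x2)))) (.nd (.nd (.nd (.lf 0x1) (.lf 0x2)) (.nd (.lf 0x2) (.lf 0x1))) (.nd (.nd (.lf 0x2) (.lf 0x2)) (.nd (.lf 0x1) (.lf 0)))))))
def labG_nbbbaaa : Tr := (.nd (.nd (.nd (.nd (.nd (.nd (.lf 0x1) (.lf 0x1)) (.nd (.lf 0x1) (.lf 0x2))) (.nd (.nd (.lf 0x2) (.lf 0x2)) (.nd (.lf 0x2) (.lf 0x1)))) (.nd (.nd (.nd (.lf 0x2) (.lf 0x1)) (.nd (.lf 0x2) (.lf 0x2))) (.nd (.nd (.lf 0x2) (.lf 0x2)) (.nd (.lf 0x1) (.lf 0x2))))) (.nd (.nd (.nd (.nd (.lf 0x1) (.lf 0x1)) (.nd (.lf 0x1) (.lf 0x2))) (.nd (.nd (.lf 0x2) (.lf 0x2)) (.nd (.lf 0x1) (.lf 0x1)))) (.nd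 (.nd (.nd (.lf 0x2) (.lf 0x2)) (.nd (.lf 0x2) (.lf 0x2))) (.nd (.nd (.lf 0x2) (.lf 0x1)) (.nd (.lf 0x2) (.lf 0x1)))))) (.nd (.nd (.nd (.nd (.nd (.lf 0x1) (.lf 0x2)) (.nd (.lf 0x1) (.lf 0x2))) (.nd (.nd (.lf 0x1) (.lf 0x1)) (.nd (.lf 0x1) (.lf 0x1)))) (.nd (.nd (.nd (.lf 0x1) (.lf 0x2)) (.nd (.lf 0x1) (.lf 0x1))) (.nd (.nd (.lf 0x2) (.lf 0x1)) (.nd (.lf 0x1) (.lf 0x1))))) (.nd (.nd (.nd (.nd (.lf 0x2) (.lf 0x2)) (.nd (.lf 0x1) (.lf 0x2))) (.nd (.nd (.lf 0x2) (.lf 0x2)) (.nd (.lf 0x1) (.lf 0x1)))) (.nd (.nd (.nd (.lf 0x2) (.lf 0x1)) (.nd (.lf 0x1) (.lf 0x1))) (.nd (.nd (.lf 0x1) (.lf 0x2)) (.nd (.lf 0x1) (.lf 0x2)))))))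
def labG_nbbbaab : Tr := (.nd (.nd (.nd (.nd (.nd (.nd (.lf 0x2) (.lf 0x1)) (.nd (.lf 0x1) (.lf 0x1))) (.nd (.nd (.lf 0x1) (.lf 0x2)) (.nd (.lf 0x1) (.lf 0x1)))) (.nd (.nd (.nd (.lf 0x1) (.lf 0x1)) (.nd (.lf 0x2) (.lf 0x1))) (.nd (.nd (.lf 0x2) (.lf 0x1)) (.nd (.lf 0x2) (.lf 0x2))))) (.nd (.nd (.nd (.nd (.lf 0x2) (.lf 0x1)) (.nd (.lf 0x2) (.lf 0x2))) (.nd (.nd (.lf 0x2) (.lf 0x1)) (.nd (.lf 0x2) (.lf 0x1)))) (.nd (.nd (.nd (.lf 0x1) (.lf 0x1)) (.nd (.lf 0x1) (.lf 0x2))) (.nd (.nd (.lf 0x1) (.lf 0x1)) (.nd (.lf 0x1) (.lf 0x2)))))) (.nd (.nd (.nd (.nd (.nd (.lf 0x1) (.lf 0x1)) (.nd (.lf 0x1) (.lf 0x1))) (.nd (.nd (.lf 0x1) (.lf 0x1)) (.nd (.lf 0x2) (.lf 0x2)))) (.nd (.nd (.nd (.lf 0x1) (.lf 0x2)) (.nd (.lf 0x1) (.lf 0x1)))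 (.nd (.nd (.lf 0x1) (.lf 0x2)) (.nd (.lf 0x2) (.lf 0x1))))) (.nd (.nd (.nd (.nd (.lf 0x2) (.lf 0x2)) (.nd (.lf 0x2) (.lf 0x2))) (.nd (.nd (.lf 0x1) (.lf 0x2)) (.nd (.lf 0x2) (.lf 0x2)))) (.nd (.nd (.nd (.lf 0x1) (.lf 0x1)) (.nd (.lf 0x1) (.lf 0x1))) (.nd (.nd (.lf 0x1) (.lf 0x1)) (.nd (.lf 0x1) (.lf 0)))))))
def labG_nbbbaba : Tr := (.nd (.nd (.nd (.nd (.nd (.nd (.lf 0x1) (.lf 0x2)) (.nd (.lf 0x1) (.lf 0x1))) (.nd (.nd (.lf 0x2) (.lf 0x2)) (.nd (.lf 0x1) (.lf 0x1)))) (.nd (.nd (.nd (.lf 0x1) (.lf 0x2)) (.nd (.lf 0x2) (.lf 0x1))) (.nd (.nd (.lf 0x1) (.lf 0x1)) (.nd (.lf 0x2) (.lf 0x2))))) (.nd (.nd (.nd (.nd (.lf 0x1) (.lf 0x1)) (.nd (.lf 0x1) (.lf 0x2))) (.nd (.nd (.lf 0x1) (.lf 0x1)) (.nd (.lf 0x1) (.lf 0x2)))) (.nd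 (.nd (.nd (.lf 0x2) (.lf 0x1)) (.nd (.lf 0x1) (.lf 0x1))) (.nd (.nd (.lf 0x1) (.lf 0x2)) (.nd (.lf 0x2) (.lf 0x1)))))) (.nd (.nd (.nd (.nd (.nd (.lf 0x1) (.lf 0x1)) (.nd (.lf 0x2) (.lf 0x2))) (.nd (.nd (.lf 0x1) (.lf 0x2)) (.nd (.lf 0x2) (.lf 0x1)))) (.nd (.nd (.nd (.lf 0x1) (.lf 0x2)) (.nd (.lf 0x2) (.lf 0x1))) (.nd (.nd (.lf 0x1) (.lf 0x1)) (.nd (.lf 0x1) (.lf 0x2))))) (.nd (.nd (.nd (.nd (.lf 0x2) (.lf 0x2)) (.nd (.lf 0x1) (.lf 0x1))) (.nd (.nd (.lf 0x2) (.lf 0x2)) (.nd (.lf 0x1) (.lf 0x1)))) (.nd (.nd (.nd (.lf 0x1) (.lf 0x2)) (.nd (.lf 0x1) (.lf 0x2))) (.nd (.nd (.lf 0x2) (.lf 0x1)) (.nd (.lf 0x1) (.lf 0x1)))))))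
def labG_nbbbabb : Tr := (.nd (.nd (.nd (.nd (.nd (.nd (.lf 0x2) (.lf 0x1)) (.nd (.lf 0x2) (.lf 0x2))) (.nd (.nd (.lf 0x1) (.lf 0x1)) (.nd (.lf 0x2) (.lf 0x1)))) (.nd (.nd (.nd (.lf 0x1) (.lf 0x2)) (.nd (.lf 0x1) (.lf 0x1))) (.nd (.nd (.lf 0x1) (.lf 0x1)) (.nd (.lf 0x1) (.lf 0x1))))) (.nd (.nd (.nd (.nd (.lf 0x1) (.lf 0x2)) (.nd (.lf 0x1) (.lf 0x1))) (.nd (.nd (.lf 0x1) (.lf 0x2)) (.nd (.lf 0x1) (.lf 0x2)))) (.nd (.nd (.nd (.lf 0x1) (.lf 0x2)) (.nd (.lf 0x1) (.lf 0x2))) (.nd (.nd (.lf 0x2) (.lf 0x2)) (.nd (.lf 0x1) (.lf 0x1)))))) (.nd (.nd (.nd (.nd (.nd (.lf 0x2) (.lf 0x2)) (.nd (.lf 0x1) (.lf 0x1))) (.nd (.nd (.lf 0x1) (.lf 0x2)) (.nd (.lf 0x1) (.lf 0x1)))) (.nd (.nd (.nd (.lf 0x1) (.lf 0x2)) (.nd (.lf 0x1) (.lf 0x2)))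 (.nd (.nd (.lf 0x2) (.lf 0x1)) (.nd (.lf 0x2) (.lf 0x2))))) (.nd (.nd (.nd (.nd (.lf 0x1) (.lf 0x1)) (.nd (.lf 0x2) (.lf 0x1))) (.nd (.nd (.lf 0x1) (.lf 0x1)) (.nd (.lf 0x1) (.lf 0x1)))) (.nd (.nd (.nd (.lf 0x1) (.lf 0x1)) (.nd (.lf 0x2) (.lf 0x1))) (.nd (.nd (.lf 0x2) (.lf 0x1)) (.nd (.lf 0x1) (.lf 0)))))))
def labG_nbbbbaa : Tr := (.nd (.nd (.nd (.nd (.nd (.nd (.lf 0x2) (.lf 0x2)) (.nd (.lf 0x1) (.lf 0x2))) (.nd (.nd (.lf 0x1) (.lf 0x2)) (.nd (.lf 0x1) (.lf 0x2)))) (.nd (.nd (.nd (.lf 0x1) (.lf 0x1)) (.nd (.lf 0x1) (.lf 0x2))) (.nd (.nd (.lf 0x2) (.lf 0x2)) (.nd (.lf 0x2) (.lf 0x1))))) (.nd (.nd (.nd (.nd (.lf 0x2) (.lf 0x2)) (.nd (.lf 0x1) (.lf 0x2))) (.nd (.nd (.lf 0x1) (.lf 0x1)) (.nd (.lf 0x1) (.lf 0x1)))) (.nd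 (.nd (.nd (.lf 0x1) (.lf 0x2)) (.nd (.lf 0x1) (.lf 0x1))) (.nd (.nd (.lf 0x1) (.lf 0x1)) (.nd (.lf 0x1) (.lf 0x1)))))) (.nd (.nd (.nd (.nd (.nd (.lf 0x2) (.lf 0x1)) (.nd (.lf 0x2) (.lf 0x2))) (.nd (.nd (.lf 0x2) (.lf 0x1)) (.nd (.lf 0x2) (.lf 0x1)))) (.nd (.nd (.nd (.lf 0x1) (.lf 0x2)) (.nd (.lf 0x1) (.lf 0x1))) (.nd (.nd (.lf 0x1) (.lf 0x2)) (.nd (.lf 0x2) (.lf 0x1))))) (.nd (.nd (.nd (.nd (.lf 0x1) (.lf 0x2)) (.nd (.lf 0x1) (.lf 0x1))) (.nd (.nd (.lf 0x2) (.lf 0x2)) (.nd (.lf 0x1) (.lf 0x2)))) (.nd (.nd (.nd (.lf 0x2) (.lf 0x1)) (.nd (.lf 0x1) (.lf 0x2))) (.nd (.nd (.lf 0x1) (.lf 0x2)) (.nd (.lf 0x2) (.lf 0x2)))))))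
def labG_nbbbbab : Tr := (.nd (.nd (.nd (.nd (.nd (.nd (.lf 0x2) (.lf 0x1)) (.nd (.lf 0x2) (.lf 0x1))) (.nd (.nd (.lf 0x2) (.lf 0x1)) (.nd (.lf 0x1) (.lf 0x1)))) (.nd (.nd (.nd (.lf 0x2) (.lf 0x1)) (.nd (.lf 0x2) (.lf 0x1))) (.nd (.nd (.lf 0x2) (.lf 0x1)) (.nd (.lf 0x2) (.lf 0x1))))) (.nd (.nd (.nd (.nd (.lf 0x1) (.lf 0x1)) (.nd (.lf 0x1) (.lf 0x1))) (.nd (.nd (.lf 0x2) (.lf 0x1)) (.nd (.lf 0x1) (.lf 0x1)))) (.nd (.nd (.nd (.lf 0x2) (.lf 0x2)) (.nd (.lf 0x1) (.lf 0x1))) (.nd (.nd (.lf 0x1) (.lf 0x2)) (.nd (.lf 0x1) (.lf 0x1)))))) (.nd (.nd (.nd (.nd (.nd (.lf 0x1) (.lf 0x1)) (.nd (.lf 0x1) (.lf 0x2))) (.nd (.nd (.lf 0x1) (.lf 0x2)) (.nd (.lf 0x1) (.lf 0x1)))) (.nd (.nd (.nd (.lf 0x1) (.lf 0x2)) (.nd (.lf 0x1) (.lf 0x1)))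 (.nd (.nd (.lf 0x2) (.lf 0x2)) (.nd (.lf 0x2) (.lf 0x1))))) (.nd (.nd (.nd (.nd (.lf 0x2) (.lf 0x1)) (.nd (.lf 0x2) (.lf 0x2))) (.nd (.nd (.lf 0x1) (.lf 0x1)) (.nd (.lf 0x2) (.lf 0x2)))) (.nd (.nd (.nd (.lf 0x2) (.lf 0x1)) (.nd (.lf 0x2) (.lf 0x1))) (.nd (.nd (.lf 0x2) (.lf 0x1)) (.nd (.lf 0x1) (.lf 0)))))))
def labG_nbbbbba : Tr := (.nd (.nd (.nd (.nd (.nd (.nd (.lf 0x1) (.lf 0x2)) (.nd (.lf 0x1) (.lf 0x2))) (.nd (.nd (.lf 0x1) (.lf 0x2)) (.nd (.lf 0x2) (.lf 0x1)))) (.nd (.nd (.nd (.lf 0x2) (.lf 0x1)) (.nd (.lf 0x2) (.lf 0x1))) (.nd (.nd (.lf 0x2) (.lf 0x2)) (.nd (.lf 0x1) (.lf 0x2))))) (.nd (.nd (.nd (.nd (.lf 0x2) (.lf 0x1)) (.nd (.lf 0x1) (.lf 0x1))) (.nd (.nd (.lf 0x1) (.lf 0x1)) (.nd (.lf 0x2) (.lf 0x1)))) (.nd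 (.nd (.nd (.lf 0x2) (.lf 0x1)) (.nd (.lf 0x1) (.lf 0x1))) (.nd (.nd (.lf 0x1) (.lf 0x1)) (.nd (.lf 0x2) (.lf 0x2)))))) (.nd (.nd (.nd (.nd (.nd (.lf 0x2) (.lf 0x2)) (.nd (.lf 0x1) (.lf 0x1))) (.nd (.nd (.lf 0x2) (.lf 0x2)) (.nd (.lf 0x1) (.lf 0x2)))) (.nd (.nd (.nd (.lf 0x2) (.lf 0x1)) (.nd (.lf 0x2) (.lf 0x1))) (.nd (.nd (.lf 0x2) (.lf 0x2)) (.nd (.lf 0x2) (.lf 0x2))))) (.nd (.nd (.nd (.nd (.lf 0x1) (.lf 0x1)) (.nd (.lf 0x1) (.lf 0x1))) (.nd (.nd (.lf 0x1) (.lf 0x1)) (.nd (.lf 0x2) (.lf 0x2)))) (.nd (.nd (.nd (.lf 0x1) (.lf 0x1)) (.nd (.lf 0x1) (.lf 0x2))) (.nd (.nd (.lf 0x1) (.lf 0x1)) (.nd (.lf 0x2) (.lf 0)))))))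
def labG_nbbbbbb : Tr := (.nd (.nd (.nd (.nd (.nd (.nd (.lf 0x2) (.lf 0x1)) (.nd (.lf 0x2) (.lf 0x1))) (.nd (.nd (.lf 0x1) (.lf 0x2)) (.nd (.lf 0x2) (.lf 0x2)))) (.nd (.nd (.nd (.lf 0x1) (.lf 0x2)) (.nd (.lf 0x1) (.lf 0x1))) (.nd (.nd (.lf 0x2) (.lf 0x1)) (.nd (.lf 0x2) (.lf 0x1))))) (.nd (.nd (.nd (.nd (.lf 0x1) (.lf 0x2)) (.nd (.lf 0x2) (.lf 0x1))) (.nd (.nd (.lf 0x2) (.lf 0x1)) (.nd (.lf 0x2) (.lf 0x1)))) (.nd (.nd (.nd (.lf 0x1) (.lf 0x1)) (.nd (.lf 0x1) (.lf 0x2))) (.nd (.nd (.lf 0x1) (.lf 0x2)) (.nd (.lf 0x1) (.lf 0x1)))))) (.nd (.nd (.nd (.nd (.nd (.lf 0x1) (.lf 0x1)) (.nd (.lf 0x1) (.lf 0x2))) (.nd (.nd (.lf 0x2) (.lf 0x1)) (.nd (.lf 0x1) (.lf 0x1)))) (.nd (.nd (.nd (.lf 0x1) (.lf 0x1)) (.nd (.lf 0x2) (.lf 0x1)))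 (.nd (.nd (.lf 0x1) (.lf 0x1)) (.nd (.lf 0x1) (.lf 0x1))))) (.nd (.nd (.nd (.nd (.lf 0x1) (.lf 0x2)) (.nd (.lf 0x1) (.lf 0x1))) (.nd (.nd (.lf 0x1) (.lf 0x1)) (.nd (.lf 0x1) (.lf 0x1)))) (.nd (.nd (.nd (.lf 0x1) (.lf 0x1)) (.nd (.lf 0x2) (.lf 0x1))) (.nd (.nd (.lf 0x2) (.lf 0x2)) (.nd (.lf 0x2) (.lf 0)))))))
def labG : Tr := (.nd (.nd (.nd (.nd (.nd (.nd labG_naaaaaa labG_naaaaab) (.nd labG_naaaaba labG_naaaabb)) (.nd (.nd labG_naaabaa labG_naaabab) (.nd labG_naaabba labG_naaabbb))) (.nd (.nd (.nd labG_naabaaa labG_naabaab) (.nd labG_naababa labG_naababb)) (.nd (.nd labG_naabbaa labG_naabbab) (.nd labG_naabbba labG_naabbbb)))) (.nd (.nd (.nd (.nd labG_nabaaaa labG_nabaaab) (.nd labG_nabaaba labG_nabaabb)) (.nd (.nd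 labG_nababaa labG_nababab) (.nd labG_nababba labG_nababbb))) (.nd (.nd (.nd labG_nabbaaa labG_nabbaab) (.nd labG_nabbaba labG_nabbabb)) (.nd (.nd labG_nabbbaa labG_nabbbab) (.nd labG_nabbbba labG_nabbbbb))))) (.nd (.nd (.nd (.nd (.nd labG_nbaaaaa labG_nbaaaab) (.nd labG_nbaaaba labG_nbaaabb)) (.nd (.nd labG_nbaabaa labG_nbaabab) (.nd labG_nbaabba labG_nbaabbb))) (.nd (.nd (.nd labG_nbabaaa labG_nbabaab) (.nd labG_nbababa labG_nbababb)) (.nd (.nd labG_nbabbaa labG_nbabbab) (.nd labG_nbabbba labG_nbabbbb)))) (.nd (.nd (.nd (.nd labG_nbbaaaa labG_nbbaaab) (.nd labG_nbbaaba labG_nbbaabb)) (.nd (.nd labG_nbbabaa labG_nbbabab) (.nd labG_nbbabba labG_nbbabbb))) (.nd (.nd (.nd labG_nbbbaaa labG_nbbbaab) (.nd labG_nbbbaba labG_nbbbabb))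 (.nd (.nd labG_nbbbbaa labG_nbbbbab) (.nd labG_nbbbbba labG_nbbbbbb))))))
def depG_naaaaaa : Tr := (.nd (.nd (.nd (.nd (.nd (.nd (.lf 0x0) (.lf 0xa)) (.nd (.lf 0x7) (.lf 0x8))) (.nd (.nd (.lf 0xc) (.lf 0xa)) (.nd (.lf 0x9) (.lf 0xa)))) (.nd (.nd (.nd (.lf 0xb) (.lf 0xb)) (.nd (.lf 0x7) (.lf 0xb))) (.nd (.nd (.lf 0x8) (.lf 0xa)) (.nd (.lf 0xb) (.lf 0x9))))) (.nd (.nd (.nd (.nd (.lf 0xc) (.lf 0x9)) (.nd (.lf 0xa) (.lf 0xb))) (.nd (.nd (.lf 0xc) (.lf 0x8)) (.nd (.lf 0xa) (.lf 0x9)))) (.nd (.nd (.nd (.lf 0x7) (.lf 0xb)) (.nd (.lf 0xa) (.lf 0x9))) (.nd (.nd (.lf 0xb) (.lf 0x9)) (.nd (.lf 0xa) (.lf 0x7)))))) (.nd (.nd (.nd (.nd (.nd (.lf 0x9) (.lf 0xb)) (.nd (.lf 0x8) (.lf 0x9))) (.nd (.nd (.lf 0xb) (.lf 0xa)) (.nd (.lf 0x8)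 (.lf 0xb)))) (.nd (.nd (.nd (.lf 0x9) (.lf 0xb)) (.nd (.lf 0xa) (.lf 0xb))) (.nd (.nd (.lf 0x7) (.lf 0x8)) (.nd (.lf 0xc) (.lf 0x8))))) (.nd (.nd (.nd (.nd (.lf 0xb) (.lf 0xa)) (.nd (.lf 0xb) (.lf 0x9))) (.nd (.nd (.lf 0x6) (.lf 0xa)) (.nd (.lf 0x9) (.lf 0x9)))) (.nd (.nd (.nd (.lf 0x6) (.lf 0x7)) (.nd (.lf 0x8) (.lf 0xb))) (.nd (.nd (.lf 0x8) (.lf 0x9)) (.nd (.lf 0xc) (.lf 0xb)))))))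
def depG_naaaaab : Tr := (.nd (.nd (.nd (.nd (.nd (.nd (.lf 0xa) (.lf 0xb)) (.nd (.lf 0xc) (.lf 0x9))) (.nd (.nd (.lf 0x9) (.lf 0x9)) (.nd (.lf 0xa) (.lf 0x7)))) (.nd (.nd (.nd (.lf 0x6) (.lf 0xa)) (.nd (.lf 0xb) (.lf 0xb))) (.nd (.nd (.lf 0x9) (.lf 0x9)) (.nd (.lf 0xa) (.lf 0x8))))) (.nd (.nd (.nd (.nd (.lf 0xb) (.lf 0x4)) (.nd (.lf 0xa) (.lf 0xc))) (.nd (.nd (.lf 0x9) (.lf 0x9)) (.nd (.lf 0xb) (.lf 0xa)))) (.nd (.nd (.nd (.lf 0x9) (.lf 0xa)) (.nd (.lf 0x3) (.lf 0xa))) (.nd (.nd (.lf 0xa) (.lf 0xa)) (.nd (.lf 0xb) (.lf 0x9)))))) (.nd (.nd (.nd (.nd (.nd (.lf 0xb) (.lf 0xb)) (.nd (.lf 0xa) (.lf 0xb))) (.nd (.nd (.lf 0xb) (.lf 0x4)) (.nd (.lf 0x8) (.lf 0x9)))) (.nd (.nd (.nd (.lf 0xb) (.lf 0xb)) (.nd (.lf 0x9) (.lf 0xa)))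 (.nd (.nd (.lf 0x4) (.lf 0x6)) (.nd (.lf 0xb) (.lf 0x8))))) (.nd (.nd (.nd (.nd (.lf 0xa) (.lf 0xb)) (.nd (.lf 0xc) (.lf 0xc))) (.nd (.nd (.lf 0x8) (.lf 0x8)) (.nd (.lf 0xc) (.lf 0xa)))) (.nd (.nd (.nd (.lf 0xb) (.lf 0x9)) (.nd (.lf 0xb) (.lf 0xc))) (.nd (.nd (.lf 0xb) (.lf 0xb)) (.nd (.lf 0x4) (.lf 0)))))))
def depG_naaaaba : Tr := (.nd (.nd (.nd (.nd (.nd (.nd (.lf 0xa) (.lf 0xb)) (.nd (.lf 0xb) (.lf 0xb))) (.nd (.nd (.lf 0xc) (.lf 0x9)) (.nd (.lf 0xc) (.lf 0x8)))) (.nd (.nd (.nd (.lf 0x9) (.lf 0xc)) (.nd (.lf 0x9) (.lf 0xa))) (.nd (.nd (.lf 0x8) (.lf 0xa)) (.nd (.lf 0xb) (.lf 0x9))))) (.nd (.nd (.nd (.nd (.lf 0xa) (.lf 0x8)) (.nd (.lf 0xb) (.lf 0x8))) (.nd (.nd (.lf 0xc) (.lf 0x9)) (.nd (.lf 0xa) (.lf 0xc)))) (.nd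 (.nd (.nd (.lf 0xb) (.lf 0xb)) (.nd (.lf 0xb) (.lf 0xc))) (.nd (.nd (.lf 0xa) (.lf 0x7)) (.nd (.lf 0x9) (.lf 0x9)))))) (.nd (.nd (.nd (.nd (.nd (.lf 0x9) (.lf 0x6)) (.nd (.lf 0x9) (.lf 0x7))) (.nd (.nd (.lf 0xa) (.lf 0xa)) (.nd (.lf 0xa) (.lf 0x9)))) (.nd (.nd (.nd (.lf 0xa) (.lf 0x8)) (.nd (.lf 0x8) (.lf 0xc))) (.nd (.nd (.lf 0xc) (.lf 0x9)) (.nd (.lf 0xa) (.lf 0x8))))) (.nd (.nd (.nd (.nd (.lf 0xa) (.lf 0x9)) (.nd (.lf 0x9) (.lf 0xc))) (.nd (.nd (.lf 0xc) (.lf 0x9)) (.nd (.lf 0x7) (.lf 0x9)))) (.nd (.nd (.nd (.lf 0xc) (.lf 0xa)) (.nd (.lf 0xa) (.lf 0x9))) (.nd (.nd (.lf 0xb) (.lf 0x8)) (.nd (.lf 0x8) (.lf 0xa)))))))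
def depG_naaaabb : Tr := (.nd (.nd (.nd (.nd (.nd (.nd (.lf 0x9) (.lf 0xa)) (.nd (.lf 0x8) (.lf 0x7))) (.nd (.nd (.lf 0x9) (.lf 0x9)) (.nd (.lf 0xc) (.lf 0x9)))) (.nd (.nd (.nd (.lf 0xc) (.lf 0xd)) (.nd (.lf 0xc) (.lf 0xa))) (.nd (.nd (.lf 0x9) (.lf 0x7)) (.nd (.lf 0xb) (.lf 0xb))))) (.nd (.nd (.nd (.nd (.lf 0xa) (.lf 0xb)) (.nd (.lf 0xa) (.lf 0xb))) (.nd (.nd (.lf 0xb) (.lf 0xc)) (.nd (.lf 0xc) (.lf 0x6)))) (.nd (.nd (.nd (.lf 0xa) (.lf 0xa)) (.nd (.lf 0xb) (.lf 0xb))) (.nd (.nd (.lf 0x8) (.lf 0xc)) (.nd (.lf 0x4) (.lf 0xa)))))) (.nd (.nd (.nd (.nd (.nd (.lf 0x7) (.lf 0xb)) (.nd (.lf 0x9) (.lf 0xb))) (.nd (.nd (.lf 0xb) (.lf 0x9)) (.nd (.lf 0x9) (.lf 0xb)))) (.nd (.nd (.nd (.lf 0xb) (.lf 0x9)) (.nd (.lf 0xc) (.lf 0xa)))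 (.nd (.nd (.lf 0xc) (.lf 0xa)) (.nd (.lf 0xb) (.lf 0xa))))) (.nd (.nd (.nd (.nd (.lf 0xb) (.lf 0x6)) (.nd (.lf 0x3) (.lf 0x7))) (.nd (.nd (.lf 0xa) (.lf 0xc)) (.nd (.lf 0xc) (.lf 0xa)))) (.nd (.nd (.nd (.lf 0xd) (.lf 0xa)) (.nd (.lf 0xc) (.lf 0xc))) (.nd (.nd (.lf 0xb) (.lf 0xb)) (.nd (.lf 0xa) (.lf 0)))))))
def depG_naaabaa : Tr := (.nd (.nd (.nd (.nd (.nd (.nd (.lf 0xc) (.lf 0xa)) (.nd (.lf 0x7) (.lf 0x8))) (.nd (.nd (.lf 0xa) (.lf 0xb)) (.nd (.lf 0xa) (.lf 0x8)))) (.nd (.nd (.nd (.lf 0xb) (.lf 0x9)) (.nd (.lf 0x5) (.lf 0xb))) (.nd (.nd (.lf 0xa) (.lf 0x8)) (.nd (.lf 0x8) (.lf 0xc))))) (.nd (.nd (.nd (.nd (.lf 0x7) (.lf 0xb)) (.nd (.lf 0x9) (.lf 0xc))) (.nd (.nd (.lf 0x8) (.lf 0xa)) (.nd (.lf 0xc) (.lf 0x6)))) (.nd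 (.nd (.nd (.lf 0xb) (.lf 0x6)) (.nd (.lf 0xb) (.lf 0x7))) (.nd (.nd (.lf 0x8) (.lf 0xb)) (.nd (.lf 0x8) (.lf 0xb)))))) (.nd (.nd (.nd (.nd (.nd (.lf 0xa) (.lf 0xc)) (.nd (.lf 0xb) (.lf 0xa))) (.nd (.nd (.lf 0x8) (.lf 0x9)) (.nd (.lf 0x7) (.lf 0x7)))) (.nd (.nd (.nd (.lf 0xa) (.lf 0xb)) (.nd (.lf 0xb) (.lf 0x8))) (.nd (.nd (.lf 0x7) (.lf 0xb)) (.nd (.lf 0xa) (.lf 0xc))))) (.nd (.nd (.nd (.nd (.lf 0xb) (.lf 0x9)) (.nd (.lf 0xc) (.lf 0xb))) (.nd (.nd (.lf 0x7) (.lf 0xd)) (.nd (.lf 0xa) (.lf 0xa)))) (.nd (.nd (.nd (.lf 0x9) (.lf 0x8)) (.nd (.lf 0xb) (.lf 0xb))) (.nd (.nd (.lf 0x6) (.lf 0xc)) (.nd (.lf 0x8) (.lf 0xb)))))))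
def depG_naaabab : Tr := (.nd (.nd (.nd (.nd (.nd (.nd (.lf 0xc) (.lf 0xa)) (.nd (.lf 0x9) (.lf 0x9))) (.nd (.nd (.lf 0x8) (.lf 0x9)) (.nd (.lf 0xb) (.lf 0xa)))) (.nd (.nd (.nd (.lf 0x8) (.lf 0xa)) (.nd (.lf 0x9) (.lf 0x7))) (.nd (.nd (.lf 0xa) (.lf 0xc)) (.nd (.lf 0x8) (.lf 0xa))))) (.nd (.nd (.nd (.nd (.lf 0x7) (.lf 0x6)) (.nd (.lf 0xd) (.lf 0x9))) (.nd (.nd (.lf 0x9) (.lf 0xa)) (.nd (.lf 0xa) (.lf 0x8)))) (.nd (.nd (.nd (.lf 0x7) (.lf 0xb)) (.nd (.lf 0xa) (.lf 0xa))) (.nd (.nd (.lf 0x9) (.lf 0x7)) (.nd (.lf 0xa) (.lf 0xc)))))) (.nd (.nd (.nd (.nd (.nd (.lf 0xb) (.lf 0xb)) (.nd (.lf 0xb) (.lf 0xb))) (.nd (.nd (.lf 0x8) (.lf 0xb)) (.nd (.lf 0xb) (.lf 0xc)))) (.nd (.nd (.nd (.lf 0x8) (.lf 0xa)) (.nd (.lf 0x9) (.lf 0xb)))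 (.nd (.nd (.lf 0x8) (.lf 0x9)) (.nd (.lf 0xc) (.lf 0xa))))) (.nd (.nd (.nd (.nd (.lf 0xa) (.lf 0xc)) (.nd (.lf 0x9) (.lf 0xb))) (.nd (.nd (.lf 0xb) (.lf 0xb)) (.nd (.lf 0xb) (.lf 0xb)))) (.nd (.nd (.nd (.lf 0x9) (.lf 0xa)) (.nd (.lf 0xa) (.lf 0x7))) (.nd (.nd (.lf 0x9) (.lf 0xc)) (.nd (.lf 0xb) (.lf 0)))))))
def depG_naaabba : Tr := (.nd (.nd (.nd (.nd (.nd (.nd (.lf 0x2) (.lf 0x9)) (.nd (.lf 0xa) (.lf 0xb))) (.nd (.nd (.lf 0xb) (.lf 0x9)) (.nd (.lf 0x9) (.lf 0x8)))) (.nd (.nd (.nd (.lf 0x9) (.lf 0x9)) (.nd (.lf 0xb) (.lf 0x9))) (.nd (.nd (.lf 0xb) (.lf 0x8)) (.nd (.lf 0x9) (.lf 0x8))))) (.nd (.nd (.nd (.nd (.lf 0xb) (.lf 0xa)) (.nd (.lf 0xb) (.lf 0x8))) (.nd (.nd (.lf 0xa) (.lf 0xb)) (.nd (.lf 0xa) (.lf 0xc)))) (.nd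 (.nd (.nd (.lf 0x5) (.lf 0xa)) (.nd (.lf 0x7) (.lf 0xa))) (.nd (.nd (.lf 0x9) (.lf 0xa)) (.nd (.lf 0x9) (.lf 0xc)))))) (.nd (.nd (.nd (.nd (.nd (.lf 0xc) (.lf 0x9)) (.nd (.lf 0x5) (.lf 0xb))) (.nd (.nd (.lf 0xb) (.lf 0x8)) (.nd (.lf 0xa) (.lf 0x9)))) (.nd (.nd (.nd (.lf 0x9) (.lf 0xa)) (.nd (.lf 0xb) (.lf 0x8))) (.nd (.nd (.lf 0xb) (.lf 0x9)) (.nd (.lf 0x9) (.lf 0xa))))) (.nd (.nd (.nd (.nd (.lf 0x6) (.lf 0xa)) (.nd (.lf 0x8) (.lf 0xb))) (.nd (.nd (.lf 0xc) (.lf 0x9)) (.nd (.lf 0xa) (.lf 0xc)))) (.nd (.nd (.nd (.lf 0xa) (.lf 0xb)) (.nd (.lf 0x9) (.lf 0x5))) (.nd (.nd (.lf 0xb) (.lf 0x9)) (.nd (.lf 0xc) (.lf 0xa)))))))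
def depG_naaabbb : Tr := (.nd (.nd (.nd (.nd (.nd (.nd (.lf 0x9) (.lf 0xb)) (.nd (.lf 0xb) (.lf 0xc))) (.nd (.nd (.lf 0x7) (.lf 0xd)) (.nd (.lf 0x9) (.lf 0x6)))) (.nd (.nd (.nd (.lf 0x8) (.lf 0x8)) (.nd (.lf 0x9) (.lf 0xc))) (.nd (.nd (.lf 0xb) (.lf 0xa)) (.nd (.lf 0xa) (.lf 0x9))))) (.nd (.nd (.nd (.nd (.lf 0x7) (.lf 0x7)) (.nd (.lf 0xa) (.lf 0x8))) (.nd (.nd (.lf 0xb) (.lf 0xa)) (.nd (.lf 0xa) (.lf 0x8)))) (.nd (.nd (.nd (.lf 0xa) (.lf 0x7)) (.nd (.lf 0x9) (.lf 0xb))) (.nd (.nd (.lf 0x8) (.lf 0x8)) (.nd (.lf 0xd) (.lf 0xc)))))) (.nd (.nd (.nd (.nd (.nd (.lf 0x8) (.lf 0x8)) (.nd (.lf 0xa) (.lf 0xd))) (.nd (.nd (.lf 0xb) (.lf 0xa)) (.nd (.lf 0xb) (.lf 0xb)))) (.nd (.nd (.nd (.lf 0xb) (.lf 0x8)) (.nd (.lf 0xc) (.lf 0xa)))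 (.nd (.nd (.lf 0x9) (.lf 0xb)) (.nd (.lf 0x9) (.lf 0x8))))) (.nd (.nd (.nd (.nd (.lf 0x8) (.lf 0x9)) (.nd (.lf 0x9) (.lf 0xc))) (.nd (.nd (.lf 0xa) (.lf 0xb)) (.nd (.lf 0xa) (.lf 0x9)))) (.nd (.nd (.nd (.lf 0x8) (.lf 0x9)) (.nd (.lf 0x9) (.lf 0xa))) (.nd (.nd (.lf 0xb) (.lf 0xb)) (.nd (.lf 0x6) (.lf 0)))))))
def depG_naabaaa : Tr := (.nd (.nd (.nd (.nd (.nd (.nd (.lf 0xa) (.lf 0x9)) (.nd (.lf 0xb) (.lf 0xa))) (.nd (.nd (.lf 0x9) (.lf 0xa)) (.nd (.lf 0x7) (.lf 0x8)))) (.nd (.nd (.nd (.lf 0x9) (.lf 0x9)) (.nd (.lf 0xb) (.lf 0x7))) (.nd (.nd (.lf 0xb) (.lf 0xc)) (.nd (.lf 0x9) (.lf 0xb))))) (.nd (.nd (.nd (.nd (.lf 0x7) (.lf 0xb)) (.nd (.lf 0xc) (.lf 0xb))) (.nd (.nd (.lf 0x8) (.lf 0x9)) (.nd (.lf 0xa) (.lf 0x9)))) (.nd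 (.nd (.nd (.lf 0xa) (.lf 0xc)) (.nd (.lf 0xa) (.lf 0x8))) (.nd (.nd (.lf 0x7) (.lf 0x9)) (.nd (.lf 0xb) (.lf 0xb)))))) (.nd (.nd (.nd (.nd (.nd (.lf 0xb) (.lf 0xc)) (.nd (.lf 0xa) (.lf 0x9))) (.nd (.nd (.lf 0xc) (.lf 0xd)) (.nd (.lf 0x8) (.lf 0xc)))) (.nd (.nd (.nd (.lf 0x9) (.lf 0xa)) (.nd (.lf 0x9) (.lf 0x9))) (.nd (.nd (.lf 0x9) (.lf 0xb)) (.nd (.lf 0xb) (.lf 0xa))))) (.nd (.nd (.nd (.nd (.lf 0xb) (.lf 0xa)) (.nd (.lf 0x9) (.lf 0x8))) (.nd (.nd (.lf 0x8) (.lf 0xc)) (.nd (.lf 0xb) (.lf 0x9)))) (.nd (.nd (.nd (.lf 0x7) (.lf 0x8)) (.nd (.lf 0xb) (.lf 0x8))) (.nd (.nd (.lf 0x9) (.lf 0xa)) (.nd (.lf 0xc) (.lf 0x7)))))))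
def depG_naabaab : Tr := (.nd (.nd (.nd (.nd (.nd (.nd (.lf 0x6) (.lf 0xc)) (.nd (.lf 0xb) (.lf 0x9))) (.nd (.nd (.lf 0xa) (.lf 0x9)) (.nd (.lf 0xb) (.lf 0x9)))) (.nd (.nd (.nd (.lf 0x7) (.lf 0x6)) (.nd (.lf 0x5) (.lf 0xd))) (.nd (.nd (.lf 0xa) (.lf 0xb)) (.nd (.lf 0x9) (.lf 0xb))))) (.nd (.nd (.nd (.nd (.lf 0xc) (.lf 0x9)) (.nd (.lf 0x8) (.lf 0xc))) (.nd (.nd (.lf 0x7) (.lf 0x8)) (.nd (.lf 0xc) (.lf 0x9)))) (.nd (.nd (.nd (.lf 0x8) (.lf 0xb)) (.nd (.lf 0xa) (.lf 0x8))) (.nd (.nd (.lf 0x9) (.lf 0xb)) (.nd (.lf 0xa) (.lf 0xb)))))) (.nd (.nd (.nd (.nd (.nd (.lf 0xc) (.lf 0x8)) (.nd (.lf 0x9) (.lf 0xb))) (.nd (.nd (.lf 0xa) (.lf 0xa)) (.nd (.lf 0xb) (.lf 0xa)))) (.nd (.nd (.nd (.lf 0xb) (.lf 0xc)) (.nd (.lf 0xc) (.lf 0x9)))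 (.nd (.nd (.lf 0xa) (.lf 0xb)) (.nd (.lf 0xa) (.lf 0xa))))) (.nd (.nd (.nd (.nd (.lf 0x8) (.lf 0xd)) (.nd (.lf 0xb) (.lf 0x9))) (.nd (.nd (.lf 0xc) (.lf 0x8)) (.nd (.lf 0x9) (.lf 0xa)))) (.nd (.nd (.nd (.lf 0xa) (.lf 0xa)) (.nd (.lf 0xa) (.lf 0xc))) (.nd (.nd (.lf 0xb) (.lf 0x8)) (.nd (.lf 0xa) (.lf 0)))))))
def depG_naababa : Tr := (.nd (.nd (.nd (.nd (.nd (.nd (.lf 0x8) (.lf 0x4)) (.nd (.lf 0xc) (.lf 0x9))) (.nd (.nd (.lf 0xa) (.lf 0x8)) (.nd (.lf 0x9) (.lf 0x9)))) (.nd (.nd (.nd (.lf 0xa) (.lf 0xc)) (.nd (.lf 0x8) (.lf 0xb))) (.nd (.nd (.lf 0xb) (.lf 0xb)) (.nd (.lf 0xb) (.lf 0x5))))) (.nd (.nd (.nd (.nd (.lf 0xb) (.lf 0xc)) (.nd (.lf 0xb) (.lf 0x8))) (.nd (.nd (.lf 0xc) (.lf 0xa)) (.nd (.lf 0x5) (.lf 0x7)))) (.nd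 (.nd (.nd (.lf 0x9) (.lf 0xb)) (.nd (.lf 0x8) (.lf 0x9))) (.nd (.nd (.lf 0xa) (.lf 0x4)) (.nd (.lf 0x8) (.lf 0xb)))))) (.nd (.nd (.nd (.nd (.nd (.lf 0xc) (.lf 0xa)) (.nd (.lf 0x8) (.lf 0xa))) (.nd (.nd (.lf 0xb) (.lf 0x9)) (.nd (.lf 0xb) (.lf 0xb)))) (.nd (.nd (.nd (.lf 0xa) (.lf 0xa)) (.nd (.lf 0xa) (.lf 0xb))) (.nd (.nd (.lf 0x7) (.lf 0x6)) (.nd (.lf 0x9) (.lf 0xb))))) (.nd (.nd (.nd (.nd (.lf 0xb) (.lf 0xc)) (.nd (.lf 0xc) (.lf 0xb))) (.nd (.nd (.lf 0xb) (.lf 0xa)) (.nd (.lf 0xa) (.lf 0x9)))) (.nd (.nd (.nd (.lf 0xc) (.lf 0x7)) (.nd (.lf 0xb) (.lf 0xc))) (.nd (.nd (.lf 0x9) (.lf 0xc)) (.nd (.lf 0xa) (.lf 0x9)))))))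
def depG_naababb : Tr := (.nd (.nd (.nd (.nd (.nd (.nd (.lf 0xa) (.lf 0xa)) (.nd (.lf 0xa) (.lf 0xb))) (.nd (.nd (.lf 0x9) (.lf 0x7)) (.nd (.lf 0x6) (.lf 0xb)))) (.nd (.nd (.nd (.lf 0xa) (.lf 0xc)) (.nd (.lf 0xc) (.lf 0x8))) (.nd (.nd (.lf 0xc) (.lf 0x9)) (.nd (.lf 0xb) (.lf 0xa))))) (.nd (.nd (.nd (.nd (.lf 0xa) (.lf 0x7)) (.nd (.lf 0x7) (.lf 0xb))) (.nd (.nd (.lf 0xb) (.lf 0xa)) (.nd (.lf 0xa) (.lf 0xa)))) (.nd (.nd (.nd (.lf 0x9) (.lf 0xb)) (.nd (.lf 0xa) (.lf 0xa))) (.nd (.nd (.lf 0xb) (.lf 0xb)) (.nd (.lf 0x9) (.lf 0xd)))))) (.nd (.nd (.nd (.nd (.nd (.lf 0xb) (.lf 0xb)) (.nd (.lf 0xa) (.lf 0xa))) (.nd (.nd (.lf 0xb) (.lf 0xa)) (.nd (.lf 0x8) (.lf 0xa)))) (.nd (.nd (.nd (.lf 0xc) (.lf 0x8)) (.nd (.lf 0x9) (.lf 0xa)))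 (.nd (.nd (.lf 0x5) (.lf 0x4)) (.nd (.lf 0xb) (.lf 0x9))))) (.nd (.nd (.nd (.nd (.lf 0xb) (.lf 0xc)) (.nd (.lf 0xb) (.lf 0xb))) (.nd (.nd (.lf 0x5) (.lf 0xc)) (.nd (.lf 0x9) (.lf 0xb)))) (.nd (.nd (.nd (.lf 0xb) (.lf 0xa)) (.nd (.lf 0xa) (.lf 0xa))) (.nd (.nd (.lf 0xb) (.lf 0xa)) (.nd (.lf 0xb) (.lf 0)))))))
def depG_naabbaa : Tr := (.nd (.nd (.nd (.nd (.nd (.nd (.lf 0xa) (.lf 0xb)) (.nd (.lf 0xa) (.lf 0xc))) (.nd (.nd (.lf 0x4) (.lf 0x7)) (.nd (.lf 0xb) (.lf 0xb)))) (.nd (.nd (.nd (.lf 0xa) (.lf 0x9)) (.nd (.lf 0xb) (.lf 0x7))) (.nd (.nd (.lf 0xa) (.lf 0xc)) (.nd (.lf 0xb) (.lf 0xc))))) (.nd (.nd (.nd (.nd (.lf 0xb) (.lf 0x4)) (.nd (.lf 0x9) (.lf 0xa))) (.nd (.nd (.lf 0xb) (.lf 0xb)) (.nd (.lf 0x5) (.lf 0xc)))) (.nd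 (.nd (.nd (.lf 0xc) (.lf 0x8)) (.nd (.lf 0x9) (.lf 0x8))) (.nd (.nd (.lf 0xc) (.lf 0xb)) (.nd (.lf 0xc) (.lf 0x4)))))) (.nd (.nd (.nd (.nd (.nd (.lf 0xa) (.lf 0x8)) (.nd (.lf 0xb) (.lf 0xc))) (.nd (.nd (.lf 0xb) (.lf 0x5)) (.nd (.lf 0x6) (.lf 0xc)))) (.nd (.nd (.nd (.lf 0xa) (.lf 0xb)) (.nd (.lf 0xb) (.lf 0x8))) (.nd (.nd (.lf 0x7) (.lf 0xb)) (.nd (.lf 0xa) (.lf 0x9))))) (.nd (.nd (.nd (.nd (.lf 0xa) (.lf 0xb)) (.nd (.lf 0x9) (.lf 0xa))) (.nd (.nd (.lf 0xc) (.lf 0x8)) (.nd (.lf 0x8) (.lf 0x8)))) (.nd (.nd (.nd (.lf 0xc) (.lf 0x2)) (.nd (.lf 0x8) (.lf 0x9))) (.nd (.nd (.lf 0xb) (.lf 0x9)) (.nd (.lf 0x7) (.lf 0x8)))))))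
def depG_naabbab : Tr := (.nd (.nd (.nd (.nd (.nd (.nd (.lf 0xb) (.lf 0x9)) (.nd (.lf 0xa) (.lf 0x8))) (.nd (.nd (.lf 0xa) (.lf 0x9)) (.nd (.lf 0x7) (.lf 0xb)))) (.nd (.nd (.nd (.lf 0x9) (.lf 0x7)) (.nd (.lf 0x9) (.lf 0xc))) (.nd (.nd (.lf 0x9) (.lf 0xb)) (.nd (.lf 0xd) (.lf 0xb))))) (.nd (.nd (.nd (.nd (.lf 0xa) (.lf 0xc)) (.nd (.lf 0xa) (.lf 0xa))) (.nd (.nd (.lf 0xa) (.lf 0x8)) (.nd (.lf 0x9) (.lf 0xa)))) (.nd (.nd (.nd (.lf 0xc) (.lf 0x7)) (.nd (.lf 0xa) (.lf 0xa))) (.nd (.nd (.lf 0xb) (.lf 0xa)) (.nd (.lf 0xa) (.lf 0x9)))))) (.nd (.nd (.nd (.nd (.nd (.lf 0xa) (.lf 0x9)) (.nd (.lf 0x4) (.lf 0x4))) (.nd (.nd (.lf 0xa) (.lf 0x8)) (.nd (.lf 0x9) (.lf 0xc)))) (.nd (.nd (.nd (.lf 0xc) (.lf 0x7)) (.nd (.lf 0xb) (.lf 0x8)))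 (.nd (.nd (.lf 0xa) (.lf 0x6)) (.nd (.lf 0xa) (.lf 0x9))))) (.nd (.nd (.nd (.nd (.lf 0x9) (.lf 0xa)) (.nd (.lf 0xb) (.lf 0x9))) (.nd (.nd (.lf 0xc) (.lf 0x8)) (.nd (.lf 0x8) (.lf 0x9)))) (.nd (.nd (.nd (.lf 0xa) (.lf 0x9)) (.nd (.lf 0x9) (.lf 0xa))) (.nd (.nd (.lf 0xb) (.lf 0x9)) (.nd (.lf 0xb) (.lf 0)))))))
def depG_naabbba : Tr := (.nd (.nd (.nd (.nd (.nd (.nd (.lf 0xc) (.lf 0xa)) (.nd (.lf 0xb) (.lf 0x7))) (.nd (.nd (.lf 0xb) (.lf 0x9)) (.nd (.lf 0xb) (.lf 0x9)))) (.nd (.nd (.nd (.lf 0xd) (.lf 0xa)) (.nd (.lf 0xa) (.lf 0x8))) (.nd (.nd (.lf 0xb) (.lf 0x9)) (.nd (.lf 0x8) (.lf 0xa))))) (.nd (.nd (.nd (.nd (.lf 0xb) (.lf 0xd)) (.nd (.lf 0x9) (.lf 0x9))) (.nd (.nd (.lf 0xa) (.lf 0xa)) (.nd (.lf 0xa) (.lf 0xa)))) (.nd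 (.nd (.nd (.lf 0xc) (.lf 0x7)) (.nd (.lf 0x9) (.lf 0x9))) (.nd (.nd (.lf 0xa) (.lf 0xc)) (.nd (.lf 0xb) (.lf 0x5)))))) (.nd (.nd (.nd (.nd (.nd (.lf 0xa) (.lf 0xb)) (.nd (.lf 0xa) (.lf 0x4))) (.nd (.nd (.lf 0x7) (.lf 0x9)) (.nd (.lf 0xc) (.lf 0xb)))) (.nd (.nd (.nd (.lf 0xb) (.lf 0xb)) (.nd (.lf 0x8) (.lf 0xb))) (.nd (.nd (.lf 0x9) (.lf 0x7)) (.nd (.lf 0xa) (.lf 0x9))))) (.nd (.nd (.nd (.nd (.lf 0x8) (.lf 0x9)) (.nd (.lf 0xa) (.lf 0xa))) (.nd (.nd (.lf 0xa) (.lf 0xa)) (.nd (.lf 0x8) (.lf 0x8)))) (.nd (.nd (.nd (.lf 0xc) (.lf 0xa)) (.nd (.lf 0x9) (.lf 0x6))) (.nd (.nd (.lf 0xb) (.lf 0x9)) (.nd (.lf 0xb) (.lf 0)))))))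
def depG_naabbbb : Tr := (.nd (.nd (.nd (.nd (.nd (.nd (.lf 0xb) (.lf 0x9)) (.nd (.lf 0x8) (.lf 0x8))) (.nd (.nd (.lf 0x9) (.lf 0x9)) (.nd (.lf 0xa) (.lf 0xb)))) (.nd (.nd (.nd (.lf 0xc) (.lf 0xc)) (.nd (.lf 0xb) (.lf 0x9))) (.nd (.nd (.lf 0x9) (.lf 0xc)) (.nd (.lf 0x8) (.lf 0x8))))) (.nd (.nd (.nd (.nd (.lf 0xa) (.lf 0xa)) (.nd (.lf 0x8) (.lf 0xa))) (.nd (.nd (.lf 0x8) (.lf 0x7)) (.nd (.lf 0x9) (.lf 0xd)))) (.nd (.nd (.nd (.lf 0xc) (.lf 0xc)) (.nd (.lf 0x7) (.lf 0x6))) (.nd (.nd (.lf 0x8) (.lf 0xb)) (.nd (.lf 0xc) (.lf 0xa)))))) (.nd (.nd (.nd (.nd (.nd (.lf 0xd) (.lf 0x8)) (.nd (.lf 0x9) (.lf 0x9))) (.nd (.nd (.lf 0xc) (.lf 0xa)) (.nd (.lf 0xd) (.lf 0xa)))) (.nd (.nd (.nd (.lf 0xb) (.lf 0xb)) (.nd (.lf 0xb) (.lf 0x6)))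 (.nd (.nd (.lf 0xb) (.lf 0x8)) (.nd (.lf 0x9) (.lf 0x9))))) (.nd (.nd (.nd (.nd (.lf 0x9) (.lf 0x8)) (.nd (.lf 0x8) (.lf 0xb))) (.nd (.nd (.lf 0x9) (.lf 0x9)) (.nd (.lf 0x8) (.lf 0x9)))) (.nd (.nd (.nd (.lf 0x7) (.lf 0xb)) (.nd (.lf 0xb) (.lf 0x7))) (.nd (.nd (.lf 0xb) (.lf 0x9)) (.nd (.lf 0x8) (.lf 0)))))))
def depG_nabaaaa : Tr := (.nd (.nd (.nd (.nd (.nd (.nd (.lf 0x0) (.lf 0xb)) (.nd (.lf 0x9) (.lf 0x8))) (.nd (.nd (.lf 0xb) (.lf 0xa)) (.nd (.lf 0xa) (.lf 0x5)))) (.nd (.nd (.nd (.lf 0xb) (.lf 0x8)) (.nd (.lf 0x9) (.lf 0x9))) (.nd (.nd (.lf 0x9) (.lf 0x7)) (.nd (.lf 0xc) (.lf 0xc))))) (.nd (.nd (.nd (.nd (.lf 0x9) (.lf 0xb)) (.nd (.lf 0x8) (.lf 0xb))) (.nd (.nd (.lf 0xb) (.lf 0x8)) (.nd (.lf 0x8) (.lf 0x9)))) (.nd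 (.nd (.nd (.lf 0xb) (.lf 0x9)) (.nd (.lf 0x9) (.lf 0x9))) (.nd (.nd (.lf 0xc) (.lf 0xa)) (.nd (.lf 0xa) (.lf 0xb)))))) (.nd (.nd (.nd (.nd (.nd (.lf 0x9) (.lf 0xb)) (.nd (.lf 0xb) (.lf 0xa))) (.nd (.nd (.lf 0xb) (.lf 0xc)) (.nd (.lf 0x9) (.lf 0xc)))) (.nd (.nd (.nd (.lf 0xb) (.lf 0xb)) (.nd (.lf 0xa) (.lf 0xa))) (.nd (.nd (.lf 0xb) (.lf 0xc)) (.nd (.lf 0xc) (.lf 0xc))))) (.nd (.nd (.nd (.nd (.lf 0x9) (.lf 0x8)) (.nd (.lf 0xa) (.lf 0xa))) (.nd (.nd (.lf 0x8) (.lf 0xc)) (.nd (.lf 0xb) (.lf 0xb)))) (.nd (.nd (.nd (.lf 0xa) (.lf 0x5)) (.nd (.lf 0xc) (.lf 0x7))) (.nd (.nd (.lf 0xa) (.lf 0xb)) (.nd (.lf 0xb) (.lf 0x9)))))))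
def depG_nabaaab : Tr := (.nd (.nd (.nd (.nd (.nd (.nd (.lf 0xa) (.lf 0x9)) (.nd (.lf 0xb) (.lf 0xa))) (.nd (.nd (.lf 0xa) (.lf 0x9)) (.nd (.lf 0x7) (.lf 0xc)))) (.nd (.nd (.nd (.lf 0x8) (.lf 0x9)) (.nd (.lf 0x6) (.lf 0xb))) (.nd (.nd (.lf 0xa) (.lf 0x9)) (.nd (.lf 0xc) (.lf 0xa))))) (.nd (.nd (.nd (.nd (.lf 0x9) (.lf 0xa)) (.nd (.lf 0xb) (.lf 0xb))) (.nd (.nd (.lf 0xb) (.lf 0xb)) (.nd (.lf 0xa) (.lf 0x9)))) (.nd (.nd (.nd (.lf 0xb) (.lf 0xb)) (.nd (.lf 0xb) (.lf 0x3))) (.nd (.nd (.lf 0x8) (.lf 0x9)) (.nd (.lf 0x9) (.lf 0xa)))))) (.nd (.nd (.nd (.nd (.nd (.lf 0xc) (.lf 0x4)) (.nd (.lf 0xb) (.lf 0xa))) (.nd (.nd (.lf 0xc) (.lf 0xb)) (.nd (.lf 0x9) (.lf 0xb)))) (.nd (.nd (.nd (.lf 0xb) (.lf 0x7)) (.nd (.lf 0x7) (.lf 0x5)))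 (.nd (.nd (.lf 0x8) (.lf 0xa)) (.nd (.lf 0x9) (.lf 0xa))))) (.nd (.nd (.nd (.nd (.lf 0x6) (.lf 0x9)) (.nd (.lf 0x5) (.lf 0x8))) (.nd (.nd (.lf 0x7) (.lf 0xa)) (.nd (.lf 0xa) (.lf 0x7)))) (.nd (.nd (.nd (.lf 0x7) (.lf 0x9)) (.nd (.lf 0x9) (.lf 0xb))) (.nd (.nd (.lf 0xa) (.lf 0x8)) (.nd (.lf 0xb) (.lf 0)))))))
def depG_nabaaba : Tr := (.nd (.nd (.nd (.nd (.nd (.nd (.lf 0xa) (.lf 0xc)) (.nd (.lf 0x9) (.lf 0x9))) (.nd (.nd (.lf 0xb) (.lf 0xc)) (.nd (.lf 0xb) (.lf 0x9)))) (.nd (.nd (.nd (.lf 0xb) (.lf 0x9)) (.nd (.lf 0xa) (.lf 0xc))) (.nd (.nd (.lf 0xd) (.lf 0x9)) (.nd (.lf 0xc) (.lf 0xb))))) (.nd (.nd (.nd (.nd (.lf 0xc) (.lf 0xa)) (.nd (.lf 0x9) (.lf 0xd))) (.nd (.nd (.lf 0x7) (.lf 0xa)) (.nd (.lf 0x6) (.lf 0xc)))) (.nd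 (.nd (.nd (.lf 0xc) (.lf 0xd)) (.nd (.lf 0xc) (.lf 0xb))) (.nd (.nd (.lf 0x9) (.lf 0xa)) (.nd (.lf 0xb) (.lf 0xa)))))) (.nd (.nd (.nd (.nd (.nd (.lf 0xa) (.lf 0x9)) (.nd (.lf 0x9) (.lf 0xa))) (.nd (.nd (.lf 0x5) (.lf 0xa)) (.nd (.lf 0xa) (.lf 0x7)))) (.nd (.nd (.nd (.lf 0x6) (.lf 0xa)) (.nd (.lf 0xa) (.lf 0x5))) (.nd (.nd (.lf 0x6) (.lf 0x9)) (.nd (.lf 0x9) (.lf 0xb))))) (.nd (.nd (.nd (.nd (.lf 0x9) (.lf 0x9)) (.nd (.lf 0xd) (.lf 0xa))) (.nd (.nd (.lf 0xc) (.lf 0xa)) (.nd (.lf 0xb) (.lf 0x8)))) (.nd (.nd (.nd (.lf 0xb) (.lf 0x7)) (.nd (.lf 0xc) (.lf 0x7))) (.nd (.nd (.lf 0x9) (.lf 0x8)) (.nd (.lf 0xb) (.lf 0xa)))))))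
def depG_nabaabb : Tr := (.nd (.nd (.nd (.nd (.nd (.nd (.lf 0xb) (.lf 0xc)) (.nd (.lf 0x9) (.lf 0xb))) (.nd (.nd (.lf 0x9) (.lf 0xb)) (.nd (.lf 0xa) (.lf 0x9)))) (.nd (.nd (.nd (.lf 0xa) (.lf 0x6)) (.nd (.lf 0x8) (.lf 0xb))) (.nd (.nd (.lf 0x8) (.lf 0x4)) (.nd (.lf 0x9) (.lf 0xb))))) (.nd (.nd (.nd (.nd (.lf 0x7) (.lf 0xc)) (.nd (.lf 0x5) (.lf 0xb))) (.nd (.nd (.lf 0x8) (.lf 0xc)) (.nd (.lf 0xb) (.lf 0x8)))) (.nd (.nd (.nd (.lf 0xa) (.lf 0x5)) (.nd (.lf 0x7) (.lf 0xb))) (.nd (.nd (.lf 0xa) (.lf 0x9)) (.nd (.lf 0xa) (.lf 0xb)))))) (.nd (.nd (.nd (.nd (.nd (.lf 0x8) (.lf 0xa)) (.nd (.lf 0x6) (.lf 0xb))) (.nd (.nd (.lf 0xa) (.lf 0xb)) (.nd (.lf 0xd) (.lf 0x8)))) (.nd (.nd (.nd (.lf 0xc) (.lf 0x6)) (.nd (.lf 0xa) (.lf 0xb)))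 (.nd (.nd (.lf 0x9) (.lf 0x9)) (.nd (.lf 0xb) (.lf 0xc))))) (.nd (.nd (.nd (.nd (.lf 0xa) (.lf 0x9)) (.nd (.lf 0xa) (.lf 0xa))) (.nd (.nd (.lf 0xc) (.lf 0x9)) (.nd (.lf 0xb) (.lf 0xd)))) (.nd (.nd (.nd (.lf 0xa) (.lf 0x7)) (.nd (.lf 0xa) (.lf 0x9))) (.nd (.nd (.lf 0x9) (.lf 0xa)) (.nd (.lf 0xc) (.lf 0)))))))
def depG_nababaa : Tr := (.nd (.nd (.nd (.nd (.nd (.nd (.lf 0x8) (.lf 0xb)) (.nd (.lf 0xb) (.lf 0x5))) (.nd (.nd (.lf 0x6) (.lf 0xb)) (.nd (.lf 0xa) (.lf 0x8)))) (.nd (.nd (.nd (.lf 0x8) (.lf 0x7)) (.nd (.lf 0x9) (.lf 0xc))) (.nd (.nd (.lf 0xd) (.lf 0xc)) (.nd (.lf 0xb) (.lf 0xa))))) (.nd (.nd (.nd (.nd (.lf 0xb) (.lf 0xa)) (.nd (.lf 0xc) (.lf 0x9))) (.nd (.nd (.lf 0x8) (.lf 0xb)) (.nd (.lf 0x9) (.lf 0xa)))) (.nd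 (.nd (.nd (.lf 0xa) (.lf 0xb)) (.nd (.lf 0xa) (.lf 0xa))) (.nd (.nd (.lf 0xd) (.lf 0xa)) (.nd (.lf 0x8) (.lf 0x5)))))) (.nd (.nd (.nd (.nd (.nd (.lf 0x8) (.lf 0xc)) (.nd (.lf 0x9) (.lf 0xb))) (.nd (.nd (.lf 0x7) (.lf 0xa)) (.nd (.lf 0x9) (.lf 0x9)))) (.nd (.nd (.nd (.lf 0x6) (.lf 0xb)) (.nd (.lf 0xc) (.lf 0xa))) (.nd (.nd (.lf 0x8) (.lf 0x7)) (.nd (.lf 0xa) (.lf 0x9))))) (.nd (.nd (.nd (.nd (.lf 0x8) (.lf 0xc)) (.nd (.lf 0xc) (.lf 0xc))) (.nd (.nd (.lf 0xa) (.lf 0x8)) (.nd (.lf 0x9) (.lf 0x7)))) (.nd (.nd (.nd (.lf 0xa) (.lf 0xa)) (.nd (.lf 0xb) (.lf 0x7))) (.nd (.nd (.lf 0x1) (.lf 0xb)) (.nd (.lf 0x9) (.lf 0xb)))))))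
def depG_nababab : Tr := (.nd (.nd (.nd (.nd (.nd (.nd (.lf 0xb) (.lf 0xa)) (.nd (.lf 0xa) (.lf 0x9))) (.nd (.nd (.lf 0xb) (.lf 0x6)) (.nd (.lf 0xb) (.lf 0xa)))) (.nd (.nd (.nd (.lf 0xc) (.lf 0xb)) (.nd (.lf 0xa) (.lf 0xb))) (.nd (.nd (.lf 0xc) (.lf 0x6)) (.nd (.lf 0xb) (.lf 0x9))))) (.nd (.nd (.nd (.nd (.lf 0x8) (.lf 0xa)) (.nd (.lf 0x9) (.lf 0xa))) (.nd (.nd (.lf 0xd) (.lf 0x9)) (.nd (.lf 0x6) (.lf 0xa)))) (.nd (.nd (.nd (.lf 0x5) (.lf 0x9)) (.nd (.lf 0xc) (.lf 0xa))) (.nd (.nd (.lf 0x7) (.lf 0xb)) (.nd (.lf 0xa) (.lf 0xa)))))) (.nd (.nd (.nd (.nd (.nd (.lf 0xc) (.lf 0xa)) (.nd (.lf 0x8) (.lf 0xb))) (.nd (.nd (.lf 0x9) (.lf 0xa)) (.nd (.lf 0xb) (.lf 0xc)))) (.nd (.nd (.nd (.lf 0xa) (.lf 0xa)) (.nd (.lf 0x6) (.lf 0x7)))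 (.nd (.nd (.lf 0xa) (.lf 0xc)) (.nd (.lf 0xb) (.lf 0xb))))) (.nd (.nd (.nd (.nd (.lf 0x8) (.lf 0xb)) (.nd (.lf 0xa) (.lf 0xa))) (.nd (.nd (.lf 0xb) (.lf 0xb)) (.nd (.lf 0x9) (.lf 0x9)))) (.nd (.nd (.nd (.lf 0xc) (.lf 0x9)) (.nd (.lf 0x5) (.lf 0x9))) (.nd (.nd (.lf 0x8) (.lf 0xb)) (.nd (.lf 0xa) (.lf 0)))))))
def depG_nababba : Tr := (.nd (.nd (.nd (.nd (.nd (.nd (.lf 0x7) (.lf 0x7)) (.nd (.lf 0x7) (.lf 0x8))) (.nd (.nd (.lf 0xb) (.lf 0xd)) (.nd (.lf 0xc) (.lf 0xd)))) (.nd (.nd (.nd (.lf 0xc) (.lf 0xa)) (.nd (.lf 0x9) (.lf 0xa))) (.nd (.nd (.lf 0xa) (.lf 0xb)) (.nd (.lf 0xb) (.lf 0xa))))) (.nd (.nd (.nd (.nd (.lf 0x5) (.lf 0x5)) (.nd (.lf 0xc) (.lf 0xc))) (.nd (.nd (.lf 0xc) (.lf 0xa)) (.nd (.lf 0x9) (.lf 0xa)))) (.nd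 (.nd (.nd (.lf 0xc) (.lf 0x5)) (.nd (.lf 0x6) (.lf 0xb))) (.nd (.nd (.lf 0xc) (.lf 0xa)) (.nd (.lf 0xa) (.lf 0x9)))))) (.nd (.nd (.nd (.nd (.nd (.lf 0xb) (.lf 0xa)) (.nd (.lf 0xa) (.lf 0xb))) (.nd (.nd (.lf 0xb) (.lf 0xa)) (.nd (.lf 0x9) (.lf 0xc)))) (.nd (.nd (.nd (.lf 0x9) (.lf 0xa)) (.nd (.lf 0xa) (.lf 0x9))) (.nd (.nd (.lf 0xa) (.lf 0xa)) (.nd (.lf 0x8) (.lf 0x6))))) (.nd (.nd (.nd (.nd (.lf 0x6) (.lf 0xa)) (.nd (.lf 0xc) (.lf 0x9))) (.nd (.nd (.lf 0x8) (.lf 0xa)) (.nd (.lf 0x5) (.lf 0xd)))) (.nd (.nd (.nd (.lf 0xb) (.lf 0xc)) (.nd (.lf 0xc) (.lf 0xb))) (.nd (.nd (.lf 0xb) (.lf 0xb)) (.nd (.lf 0xb) (.lf 0xb)))))))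
def depG_nababbb : Tr := (.nd (.nd (.nd (.nd (.nd (.nd (.lf 0xd) (.lf 0xb)) (.nd (.lf 0x9) (.lf 0xa))) (.nd (.nd (.lf 0xc) (.lf 0x7)) (.nd (.lf 0x9) (.lf 0xc)))) (.nd (.nd (.nd (.lf 0x6) (.lf 0x9)) (.nd (.lf 0x8) (.lf 0xc))) (.nd (.nd (.lf 0xb) (.lf 0xd)) (.nd (.lf 0xb) (.lf 0x8))))) (.nd (.nd (.nd (.nd (.lf 0xb) (.lf 0xb)) (.nd (.lf 0xb) (.lf 0x7))) (.nd (.nd (.lf 0xc) (.lf 0x8)) (.nd (.lf 0x8) (.lf 0x8)))) (.nd (.nd (.nd (.lf 0xc) (.lf 0xb)) (.nd (.lf 0x5) (.lf 0x9))) (.nd (.nd (.lf 0xa) (.lf 0xb)) (.nd (.lf 0x9) (.lf 0xa)))))) (.nd (.nd (.nd (.nd (.nd (.lf 0x8) (.lf 0xb)) (.nd (.lf 0x9) (.lf 0xb))) (.nd (.nd (.lf 0x9) (.lf 0xc)) (.nd (.lf 0xb) (.lf 0xa)))) (.nd (.nd (.nd (.lf 0xb) (.lf 0x9)) (.nd (.lf 0x9) (.lf 0xb)))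 (.nd (.nd (.lf 0xc) (.lf 0x6)) (.nd (.lf 0xc) (.lf 0xb))))) (.nd (.nd (.nd (.nd (.lf 0xc) (.lf 0xa)) (.nd (.lf 0xb) (.lf 0xb))) (.nd (.nd (.lf 0x7) (.lf 0xa)) (.nd (.lf 0xb) (.lf 0xa)))) (.nd (.nd (.nd (.lf 0xa) (.lf 0xb)) (.nd (.lf 0xb) (.lf 0xc))) (.nd (.nd (.lf 0xa) (.lf 0x7)) (.nd (.lf 0xa) (.lf 0)))))))
def depG_nabbaaa : Tr := (.nd (.nd (.nd (.nd (.nd (.nd (.lf 0x9) (.lf 0x9)) (.nd (.lf 0x9) (.lf 0xa))) (.nd (.nd (.lf 0xb) (.lf 0xc)) (.nd (.lf 0xa) (.lf 0x8)))) (.nd (.nd (.nd (.lf 0xb) (.lf 0xc)) (.nd (.lf 0x5) (.lf 0xa))) (.nd (.nd (.lf 0x4) (.lf 0xb)) (.nd (.lf 0x7) (.lf 0xc))))) (.nd (.nd (.nd (.nd (.lf 0xb) (.lf 0xb)) (.nd (.lf 0xa) (.lf 0x9))) (.nd (.nd (.lf 0x8) (.lf 0xc)) (.nd (.lf 0x9) (.lf 0x8)))) (.nd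 (.nd (.nd (.lf 0xa) (.lf 0x7)) (.nd (.lf 0xb) (.lf 0xa))) (.nd (.nd (.lf 0xa) (.lf 0xa)) (.nd (.lf 0xb) (.lf 0xa)))))) (.nd (.nd (.nd (.nd (.nd (.lf 0xa) (.lf 0x9)) (.nd (.lf 0xa) (.lf 0x9))) (.nd (.nd (.lf 0xb) (.lf 0xa)) (.nd (.lf 0xa) (.lf 0xc)))) (.nd (.nd (.nd (.lf 0xa) (.lf 0xa)) (.nd (.lf 0xb) (.lf 0xb))) (.nd (.nd (.lf 0x9) (.lf 0xa)) (.nd (.lf 0xb) (.lf 0xb))))) (.nd (.nd (.nd (.nd (.lf 0xd) (.lf 0x7)) (.nd (.lf 0xc) (.lf 0x9))) (.nd (.nd (.lf 0xa) (.lf 0x6)) (.nd (.lf 0x7) (.lf 0x7)))) (.nd (.nd (.nd (.lf 0x9) (.lf 0xa)) (.nd (.lf 0xb) (.lf 0xa))) (.nd (.nd (.lf 0xc) (.lf 0xa)) (.nd (.lf 0xc) (.lf 0xb)))))))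
def depG_nabbaab : Tr := (.nd (.nd (.nd (.nd (.nd (.nd (.lf 0xb) (.lf 0x8)) (.nd (.lf 0xa) (.lf 0xb))) (.nd (.nd (.lf 0x9) (.lf 0xa)) (.nd (.lf 0xb) (.lf 0x6)))) (.nd (.nd (.nd (.lf 0xa) (.lf 0xb)) (.nd (.lf 0xa) (.lf 0x9))) (.nd (.nd (.lf 0xb) (.lf 0xa)) (.nd (.lf 0x9) (.lf 0x6))))) (.nd (.nd (.nd (.nd (.lf 0xb) (.lf 0x9)) (.nd (.lf 0xc) (.lf 0x8))) (.nd (.nd (.lf 0xb) (.lf 0x9)) (.nd (.lf 0xa) (.lf 0xd)))) (.nd (.nd (.nd (.lf 0xc) (.lf 0x9)) (.nd (.lf 0xb) (.lf 0xc))) (.nd (.nd (.lf 0xb) (.lf 0x8)) (.nd (.lf 0x9) (.lf 0x9)))))) (.nd (.nd (.nd (.nd (.nd (.lf 0x9) (.lf 0x5)) (.nd (.lf 0xb) (.lf 0xa))) (.nd (.nd (.lf 0xc) (.lf 0xa)) (.nd (.lf 0xa) (.lf 0x7)))) (.nd (.nd (.nd (.lf 0xb) (.lf 0xb)) (.nd (.lf 0xa) (.lf 0xc)))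 (.nd (.nd (.lf 0x9) (.lf 0xa)) (.nd (.lf 0xa) (.lf 0x9))))) (.nd (.nd (.nd (.nd (.lf 0xc) (.lf 0xb)) (.nd (.lf 0xa) (.lf 0x8))) (.nd (.nd (.lf 0x4) (.lf 0x7)) (.nd (.lf 0x7) (.lf 0xa)))) (.nd (.nd (.nd (.lf 0x6) (.lf 0xd)) (.nd (.lf 0xc) (.lf 0x9))) (.nd (.nd (.lf 0xa) (.lf 0x9)) (.nd (.lf 0x7) (.lf 0)))))))
def depG_nabbaba : Tr := (.nd (.nd (.nd (.nd (.nd (.nd (.lf 0x8) (.lf 0x6)) (.nd (.lf 0xa) (.lf 0xb))) (.nd (.nd (.lf 0xa) (.lf 0x9)) (.nd (.lf 0xa) (.lf 0xa)))) (.nd (.nd (.nd (.lf 0xa) (.lf 0x4)) (.nd (.lf 0xd) (.lf 0xa))) (.nd (.nd (.lf 0x8) (.lf 0xb)) (.nd (.lf 0xc) (.lf 0x7))))) (.nd (.nd (.nd (.nd (.lf 0x6) (.lf 0x7)) (.nd (.lf 0xd) (.lf 0x8))) (.nd (.nd (.lf 0x9) (.lf 0x8)) (.nd (.lf 0xb) (.lf 0xc)))) (.nd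 (.nd (.nd (.lf 0xd) (.lf 0x9)) (.nd (.lf 0x9) (.lf 0xb))) (.nd (.nd (.lf 0xc) (.lf 0xa)) (.nd (.lf 0x9) (.lf 0x8)))))) (.nd (.nd (.nd (.nd (.nd (.lf 0x9) (.lf 0xa)) (.nd (.lf 0xc) (.lf 0x9))) (.nd (.nd (.lf 0x9) (.lf 0xa)) (.nd (.lf 0xb) (.lf 0xb)))) (.nd (.nd (.nd (.lf 0xa) (.lf 0x9)) (.nd (.lf 0x5) (.lf 0x8))) (.nd (.nd (.lf 0xa) (.lf 0xa)) (.nd (.lf 0xa) (.lf 0xa))))) (.nd (.nd (.nd (.nd (.lf 0xc) (.lf 0xa)) (.nd (.lf 0x8) (.lf 0xa))) (.nd (.nd (.lf 0x8) (.lf 0xb)) (.nd (.lf 0x9) (.lf 0xa)))) (.nd (.nd (.nd (.lf 0xb) (.lf 0xa)) (.nd (.lf 0x9) (.lf 0x9))) (.nd (.nd (.lf 0xa) (.lf 0xb)) (.nd (.lf 0xa) (.lf 0x7)))))))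
def depG_nabbabb : Tr := (.nd (.nd (.nd (.nd (.nd (.nd (.lf 0xa) (.lf 0xa)) (.nd (.lf 0xa) (.lf 0xa))) (.nd (.nd (.lf 0xa) (.lf 0xc)) (.nd (.lf 0x9) (.lf 0xb)))) (.nd (.nd (.nd (.lf 0xa) (.lf 0xa)) (.nd (.lf 0x8) (.lf 0x9))) (.nd (.nd (.lf 0x9) (.lf 0xb)) (.nd (.lf 0xb) (.lf 0xa))))) (.nd (.nd (.nd (.nd (.lf 0x9) (.lf 0xa)) (.nd (.lf 0xd) (.lf 0xb))) (.nd (.nd (.lf 0x7) (.lf 0xc)) (.nd (.lf 0xb) (.lf 0xa)))) (.nd (.nd (.nd (.lf 0xa) (.lf 0xb)) (.nd (.lf 0xc) (.lf 0xc))) (.nd (.nd (.lf 0x9) (.lf 0xc)) (.nd (.lf 0xb) (.lf 0xb)))))) (.nd (.nd (.nd (.nd (.nd (.lf 0xa) (.lf 0x8)) (.nd (.lf 0x9) (.lf 0x9))) (.nd (.nd (.lf 0x8) (.lf 0x8)) (.nd (.lf 0xa) (.lf 0xb)))) (.nd (.nd (.nd (.lf 0xc) (.lf 0xa)) (.nd (.lf 0x8) (.lf 0x7)))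 (.nd (.nd (.lf 0xa) (.lf 0x8)) (.nd (.lf 0xb) (.lf 0x7))))) (.nd (.nd (.nd (.nd (.lf 0xc) (.lf 0xb)) (.nd (.lf 0xc) (.lf 0x5))) (.nd (.nd (.lf 0xb) (.lf 0x7)) (.nd (.lf 0xb) (.lf 0xa)))) (.nd (.nd (.nd (.lf 0xa) (.lf 0x8)) (.nd (.lf 0x8) (.lf 0xa))) (.nd (.nd (.lf 0xa) (.lf 0xc)) (.nd (.lf 0x7) (.lf 0)))))))
def depG_nabbbaa : Tr := (.nd (.nd (.nd (.nd (.nd (.nd (.lf 0xc) (.lf 0x7)) (.nd (.lf 0xb) (.lf 0xa))) (.nd (.nd (.lf 0xa) (.lf 0x3)) (.nd (.lf 0xb) (.lf 0xa)))) (.nd (.nd (.nd (.lf 0xc) (.lf 0xc)) (.nd (.lf 0xa) (.lf 0xa))) (.nd (.nd (.lf 0xb) (.lf 0xa)) (.nd (.lf 0x9) (.lf 0xb))))) (.nd (.nd (.nd (.nd (.lf 0x7) (.lf 0xb)) (.nd (.lf 0x8) (.lf 0x8))) (.nd (.nd (.lf 0xa) (.lf 0x6)) (.nd (.lf 0x5) (.lf 0xb)))) (.nd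 (.nd (.nd (.lf 0x9) (.lf 0x9)) (.nd (.lf 0xa) (.lf 0x9))) (.nd (.nd (.lf 0xb) (.lf 0xb)) (.nd (.lf 0xa) (.lf 0xb)))))) (.nd (.nd (.nd (.nd (.nd (.lf 0xb) (.lf 0xb)) (.nd (.lf 0x8) (.lf 0x7))) (.nd (.nd (.lf 0x7) (.lf 0xd)) (.nd (.lf 0xb) (.lf 0x8)))) (.nd (.nd (.nd (.lf 0xc) (.lf 0xc)) (.nd (.lf 0x9) (.lf 0xa))) (.nd (.nd (.lf 0x8) (.lf 0xa)) (.nd (.lf 0x5) (.lf 0xb))))) (.nd (.nd (.nd (.nd (.lf 0xa) (.lf 0x9)) (.nd (.lf 0x6) (.lf 0x9))) (.nd (.nd (.lf 0x8) (.lf 0x8)) (.nd (.lf 0x9) (.lf 0x9)))) (.nd (.nd (.nd (.lf 0xc) (.lf 0xc)) (.nd (.lf 0x9) (.lf 0x7))) (.nd (.nd (.lf 0x8) (.lf 0xa)) (.nd (.lf 0x9) (.lf 0x9)))))))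
def depG_nabbbab : Tr := (.nd (.nd (.nd (.nd (.nd (.nd (.lf 0x9) (.lf 0xa)) (.nd (.lf 0x9) (.lf 0x8))) (.nd (.nd (.lf 0xa) (.lf 0xa)) (.nd (.lf 0xa) (.lf 0x9)))) (.nd (.nd (.nd (.lf 0x8) (.lf 0xa)) (.nd (.lf 0xb) (.lf 0xa))) (.nd (.nd (.lf 0x9) (.lf 0xb)) (.nd (.lf 0x7) (.lf 0xb))))) (.nd (.nd (.nd (.nd (.lf 0x9) (.lf 0xa)) (.nd (.lf 0x7) (.lf 0x9))) (.nd (.nd (.lf 0xa) (.lf 0xb)) (.nd (.lf 0xb) (.lf 0x9)))) (.nd (.nd (.nd (.lf 0x7) (.lf 0xb)) (.nd (.lf 0xb) (.lf 0xa))) (.nd (.nd (.lf 0x6) (.lf 0x8)) (.nd (.lf 0x9) (.lf 0x7)))))) (.nd (.nd (.nd (.nd (.nd (.lf 0xb) (.lf 0xa)) (.nd (.lf 0xc) (.lf 0x9))) (.nd (.nd (.lf 0x8) (.lf 0xa)) (.nd (.lf 0xc) (.lf 0x6)))) (.nd (.nd (.nd (.lf 0xb) (.lf 0x7)) (.nd (.lf 0xa) (.lf 0x7)))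 (.nd (.nd (.lf 0xa) (.lf 0xa)) (.nd (.lf 0x9) (.lf 0x8))))) (.nd (.nd (.nd (.nd (.lf 0xa) (.lf 0x9)) (.nd (.lf 0x9) (.lf 0xb))) (.nd (.nd (.lf 0xa) (.lf 0xb)) (.nd (.lf 0x5) (.lf 0x9)))) (.nd (.nd (.nd (.lf 0xa) (.lf 0xb)) (.nd (.lf 0xb) (.lf 0x9))) (.nd (.nd (.lf 0xb) (.lf 0xa)) (.nd (.lf 0x9) (.lf 0)))))))
def depG_nabbbba : Tr := (.nd (.nd (.nd (.nd (.nd (.nd (.lf 0xa) (.lf 0xc)) (.nd (.lf 0xd) (.lf 0xa))) (.nd (.nd (.lf 0xb) (.lf 0xa)) (.nd (.lf 0xd) (.lf 0xa)))) (.nd (.nd (.nd (.lf 0xa) (.lf 0x9)) (.nd (.lf 0x9) (.lf 0xc))) (.nd (.nd (.lf 0xa) (.lf 0x9)) (.nd (.lf 0xb) (.lf 0xa))))) (.nd (.nd (.nd (.nd (.lf 0x8) (.lf 0xc)) (.nd (.lf 0x9) (.lf 0xc))) (.nd (.nd (.lf 0x7) (.lf 0xc)) (.nd (.lf 0xc) (.lf 0x9)))) (.nd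 (.nd (.nd (.lf 0x9) (.lf 0xa)) (.nd (.lf 0xb) (.lf 0x6))) (.nd (.nd (.lf 0xb) (.lf 0xa)) (.nd (.lf 0xa) (.lf 0xb)))))) (.nd (.nd (.nd (.nd (.nd (.lf 0xa) (.lf 0xc)) (.nd (.lf 0xb) (.lf 0x7))) (.nd (.nd (.lf 0xa) (.lf 0x9)) (.nd (.lf 0x8) (.lf 0xa)))) (.nd (.nd (.nd (.lf 0xc) (.lf 0x9)) (.nd (.lf 0x9) (.lf 0xa))) (.nd (.nd (.lf 0x9) (.lf 0xb)) (.nd (.lf 0xa) (.lf 0xb))))) (.nd (.nd (.nd (.nd (.lf 0xa) (.lf 0xb)) (.nd (.lf 0x9) (.lf 0xb))) (.nd (.nd (.lf 0x9) (.lf 0xc)) (.nd (.lf 0xa) (.lf 0xb)))) (.nd (.nd (.nd (.lf 0xa) (.lf 0xa)) (.nd (.lf 0xb) (.lf 0x9))) (.nd (.nd (.lf 0x7) (.lf 0x9)) (.nd (.lf 0xb) (.lf 0)))))))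
def depG_nabbbbb : Tr := (.nd (.nd (.nd (.nd (.nd (.nd (.lf 0x6) (.lf 0x7)) (.nd (.lf 0xb) (.lf 0xb))) (.nd (.nd (.lf 0xb) (.lf 0xb)) (.nd (.lf 0xa) (.lf 0x9)))) (.nd (.nd (.nd (.lf 0x8) (.lf 0xa)) (.nd (.lf 0xa) (.lf 0x8))) (.nd (.nd (.lf 0xa) (.lf 0x6)) (.nd (.lf 0x7) (.lf 0xb))))) (.nd (.nd (.nd (.nd (.lf 0x9) (.lf 0xb)) (.nd (.lf 0x8) (.lf 0xa))) (.nd (.nd (.lf 0xb) (.lf 0xb)) (.nd (.lf 0x6) (.lf 0xa)))) (.nd (.nd (.nd (.lf 0xb) (.lf 0xb)) (.nd (.lf 0xb) (.lf 0xc))) (.nd (.nd (.lf 0x9) (.lf 0x8)) (.nd (.lf 0xa) (.lf 0x6)))))) (.nd (.nd (.nd (.nd (.nd (.lf 0xb) (.lf 0xc)) (.nd (.lf 0xa) (.lf 0xc))) (.nd (.nd (.lf 0xd) (.lf 0x9)) (.nd (.lf 0x9) (.lf 0xb)))) (.nd (.nd (.nd (.lf 0xc) (.lf 0xa)) (.nd (.lf 0xa) (.lf 0xb)))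 (.nd (.nd (.lf 0xc) (.lf 0xa)) (.nd (.lf 0xa) (.lf 0xa))))) (.nd (.nd (.nd (.nd (.lf 0xb) (.lf 0xb)) (.nd (.lf 0xc) (.lf 0x8))) (.nd (.nd (.lf 0xc) (.lf 0x9)) (.nd (.lf 0xa) (.lf 0xb)))) (.nd (.nd (.nd (.lf 0xa) (.lf 0x6)) (.nd (.lf 0x6) (.lf 0xa))) (.nd (.nd (.lf 0x7) (.lf 0xa)) (.nd (.lf 0x8) (.lf 0)))))))
def depG_nbaaaaa : Tr := (.nd (.nd (.nd (.nd (.nd (.nd (.lf 0x0) (.lf 0xa)) (.nd (.lf 0xb) (.lf 0xb))) (.nd (.nd (.lf 0x8) (.lf 0x9)) (.nd (.lf 0xb) (.lf 0xb)))) (.nd (.nd (.nd (.lf 0xb) (.lf 0x8)) (.nd (.lf 0x9) (.lf 0xc))) (.nd (.nd (.lf 0x8) (.lf 0xa)) (.nd (.lf 0xb) (.lf 0xb))))) (.nd (.nd (.nd (.nd (.lf 0xb) (.lf 0xb)) (.nd (.lf 0xa) (.lf 0x9))) (.nd (.nd (.lf 0x9) (.lf 0xa)) (.nd (.lf 0xb) (.lf 0x8)))) (.nd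 (.nd (.nd (.lf 0xa) (.lf 0xa)) (.nd (.lf 0x9) (.lf 0xb))) (.nd (.nd (.lf 0x9) (.lf 0xb)) (.nd (.lf 0xa) (.lf 0xa)))))) (.nd (.nd (.nd (.nd (.nd (.lf 0xb) (.lf 0x8)) (.nd (.lf 0x8) (.lf 0xc))) (.nd (.nd (.lf 0xb) (.lf 0x8)) (.nd (.lf 0x6) (.lf 0xc)))) (.nd (.nd (.nd (.lf 0x8) (.lf 0x9)) (.nd (.lf 0x9) (.lf 0xb))) (.nd (.nd (.lf 0x4) (.lf 0x7)) (.nd (.lf 0x8) (.lf 0xa))))) (.nd (.nd (.nd (.nd (.lf 0xc) (.lf 0xa)) (.nd (.lf 0xb) (.lf 0xc))) (.nd (.nd (.lf 0x8) (.lf 0x8)) (.nd (.lf 0xb) (.lf 0x8)))) (.nd (.nd (.nd (.lf 0xc) (.lf 0x9)) (.nd (.lf 0x7) (.lf 0xb))) (.nd (.nd (.lf 0xb) (.lf 0xa)) (.nd (.lf 0x8) (.lf 0x9)))))))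
def depG_nbaaaab : Tr := (.nd (.nd (.nd (.nd (.nd (.nd (.lf 0x9) (.lf 0x7)) (.nd (.lf 0x9) (.lf 0xb))) (.nd (.nd (.lf 0x8) (.lf 0x6)) (.nd (.lf 0xb) (.lf 0xb)))) (.nd (.nd (.nd (.lf 0xb) (.lf 0xa)) (.nd (.lf 0xb) (.lf 0x9))) (.nd (.nd (.lf 0x9) (.lf 0xa)) (.nd (.lf 0xa) (.lf 0x9))))) (.nd (.nd (.nd (.nd (.lf 0xa) (.lf 0xa)) (.nd (.lf 0xc) (.lf 0x6))) (.nd (.nd (.lf 0x9) (.lf 0xa)) (.nd (.lf 0xb) (.lf 0x6)))) (.nd (.nd (.nd (.lf 0xa) (.lf 0xb)) (.nd (.lf 0xc) (.lf 0xa))) (.nd (.nd (.lf 0xa) (.lf 0xa)) (.nd (.lf 0xa) (.lf 0x8)))))) (.nd (.nd (.nd (.nd (.nd (.lf 0xb) (.lf 0xb)) (.nd (.lf 0xb) (.lf 0x9))) (.nd (.nd (.lf 0xb) (.lf 0xa)) (.nd (.lf 0x8) (.lf 0xb)))) (.nd (.nd (.nd (.lf 0x8) (.lf 0xa)) (.nd (.lf 0x9) (.lf 0x8)))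 (.nd (.nd (.lf 0xa) (.lf 0x7)) (.nd (.lf 0xc) (.lf 0xa))))) (.nd (.nd (.nd (.nd (.lf 0xa) (.lf 0x8)) (.nd (.lf 0xb) (.lf 0xb))) (.nd (.nd (.lf 0x9) (.lf 0xc)) (.nd (.lf 0xb) (.lf 0xc)))) (.nd (.nd (.nd (.lf 0xb) (.lf 0xb)) (.nd (.lf 0x8) (.lf 0x7))) (.nd (.nd (.lf 0xc) (.lf 0xa)) (.nd (.lf 0xc) (.lf 0)))))))
def depG_nbaaaba : Tr := (.nd (.nd (.nd (.nd (.nd (.nd (.lf 0xb) (.lf 0x9)) (.nd (.lf 0xc) (.lf 0xb))) (.nd (.nd (.lf 0x4) (.lf 0xa)) (.nd (.lf 0xc) (.lf 0xc)))) (.nd (.nd (.nd (.lf 0x8) (.lf 0xc)) (.nd (.lf 0xa) (.lf 0xa))) (.nd (.nd (.lf 0x8) (.lf 0x9)) (.nd (.lf 0xb) (.lf 0xb))))) (.nd (.nd (.nd (.nd (.lf 0xb) (.lf 0xb)) (.nd (.lf 0x3) (.lf 0x9))) (.nd (.nd (.lf 0xb) (.lf 0x9)) (.nd (.lf 0xc) (.lf 0xa)))) (.nd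 (.nd (.nd (.lf 0xc) (.lf 0xc)) (.nd (.lf 0x9) (.lf 0xb))) (.nd (.nd (.lf 0xb) (.lf 0xa)) (.nd (.lf 0x8) (.lf 0x9)))))) (.nd (.nd (.nd (.nd (.nd (.lf 0x7) (.lf 0xa)) (.nd (.lf 0x6) (.lf 0xb))) (.nd (.nd (.lf 0x6) (.lf 0x9)) (.nd (.lf 0xa) (.lf 0x9)))) (.nd (.nd (.nd (.lf 0xc) (.lf 0xb)) (.nd (.lf 0xc) (.lf 0xc))) (.nd (.nd (.lf 0x9) (.lf 0xb)) (.nd (.lf 0xa) (.lf 0xa))))) (.nd (.nd (.nd (.nd (.lf 0xb) (.lf 0xa)) (.nd (.lf 0x6) (.lf 0x9))) (.nd (.nd (.lf 0xa) (.lf 0xb)) (.nd (.lf 0x7) (.lf 0xa)))) (.nd (.nd (.nd (.lf 0xb) (.lf 0xa)) (.nd (.lf 0x9) (.lf 0xb))) (.nd (.nd (.lf 0x7) (.lf 0xb)) (.nd (.lf 0x7) (.lf 0x7)))))))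
def depG_nbaaabb : Tr := (.nd (.nd (.nd (.nd (.nd (.nd (.lf 0x8) (.lf 0xb)) (.nd (.lf 0xa) (.lf 0xc))) (.nd (.nd (.lf 0xb) (.lf 0x6)) (.nd (.lf 0xb) (.lf 0x6)))) (.nd (.nd (.nd (.lf 0xd) (.lf 0x8)) (.nd (.lf 0xc) (.lf 0x9))) (.nd (.nd (.lf 0xc) (.lf 0x8)) (.nd (.lf 0x9) (.lf 0x2))))) (.nd (.nd (.nd (.nd (.lf 0x6) (.lf 0xa)) (.nd (.lf 0x8) (.lf 0x8))) (.nd (.nd (.lf 0x9) (.lf 0xa)) (.nd (.lf 0xb) (.lf 0xd)))) (.nd (.nd (.nd (.lf 0x9) (.lf 0x7)) (.nd (.lf 0xb) (.lf 0xc))) (.nd (.nd (.lf 0x7) (.lf 0x9)) (.nd (.lf 0xa) (.lf 0x7)))))) (.nd (.nd (.nd (.nd (.nd (.lf 0x9) (.lf 0xa)) (.nd (.lf 0x7) (.lf 0xa))) (.nd (.nd (.lf 0x2) (.lf 0xa)) (.nd (.lf 0xa) (.lf 0xa)))) (.nd (.nd (.nd (.lf 0x9) (.lf 0x8)) (.nd (.lf 0xb) (.lf 0xa)))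 (.nd (.nd (.lf 0xc) (.lf 0x8)) (.nd (.lf 0xc) (.lf 0xa))))) (.nd (.nd (.nd (.nd (.lf 0xb) (.lf 0xb)) (.nd (.lf 0x5) (.lf 0xc))) (.nd (.nd (.lf 0xc) (.lf 0x9)) (.nd (.lf 0xa) (.lf 0xb)))) (.nd (.nd (.nd (.lf 0x7) (.lf 0xb)) (.nd (.lf 0xc) (.lf 0x9))) (.nd (.nd (.lf 0xa) (.lf 0xa)) (.nd (.lf 0x9) (.lf 0)))))))
def depG_nbaabaa : Tr := (.nd (.nd (.nd (.nd (.nd (.nd (.lf 0xb) (.lf 0x7)) (.nd (.lf 0xb) (.lf 0x9))) (.nd (.nd (.lf 0x5) (.lf 0x9)) (.nd (.lf 0xc) (.lf 0x9)))) (.nd (.nd (.nd (.lf 0xb) (.lf 0xa)) (.nd (.lf 0xb) (.lf 0x7))) (.nd (.nd (.lf 0xb) (.lf 0xa)) (.nd (.lf 0xa) (.lf 0xc))))) (.nd (.nd (.nd (.nd (.lf 0x9) (.lf 0xc)) (.nd (.lf 0xb) (.lf 0xa))) (.nd (.nd (.lf 0x8) (.lf 0xa)) (.nd (.lf 0xa) (.lf 0xb)))) (.nd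 (.nd (.nd (.lf 0xa) (.lf 0x9)) (.nd (.lf 0xb) (.lf 0xd))) (.nd (.nd (.lf 0x4) (.lf 0xb)) (.nd (.lf 0x8) (.lf 0xb)))))) (.nd (.nd (.nd (.nd (.nd (.lf 0xb) (.lf 0xa)) (.nd (.lf 0xa) (.lf 0xb))) (.nd (.nd (.lf 0xc) (.lf 0x7)) (.nd (.lf 0x8) (.lf 0x8)))) (.nd (.nd (.nd (.lf 0xa) (.lf 0x9)) (.nd (.lf 0xb) (.lf 0x9))) (.nd (.nd (.lf 0x8) (.lf 0xa)) (.nd (.lf 0x8) (.lf 0xa))))) (.nd (.nd (.nd (.nd (.lf 0xa) (.lf 0x9)) (.nd (.lf 0xc) (.lf 0x6))) (.nd (.nd (.lf 0xb) (.lf 0xb)) (.nd (.lf 0xb) (.lf 0xb)))) (.nd (.nd (.nd (.lf 0x5) (.lf 0x9)) (.nd (.lf 0xb) (.lf 0xa))) (.nd (.nd (.lf 0x8) (.lf 0xb)) (.nd (.lf 0x9) (.lf 0xc)))))))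
def depG_nbaabab : Tr := (.nd (.nd (.nd (.nd (.nd (.nd (.lf 0x9) (.lf 0xa)) (.nd (.lf 0xc) (.lf 0xa))) (.nd (.nd (.lf 0xb) (.lf 0xa)) (.nd (.lf 0x8) (.lf 0xa)))) (.nd (.nd (.nd (.lf 0x8) (.lf 0xb)) (.nd (.lf 0x8) (.lf 0x8))) (.nd (.nd (.lf 0xb) (.lf 0xa)) (.nd (.lf 0xa) (.lf 0xb))))) (.nd (.nd (.nd (.nd (.lf 0x9) (.lf 0x9)) (.nd (.lf 0x8) (.lf 0xc))) (.nd (.nd (.lf 0xb) (.lf 0xb)) (.nd (.lf 0xb) (.lf 0xa)))) (.nd (.nd (.nd (.lf 0x8) (.lf 0xa)) (.nd (.lf 0x5) (.lf 0x9))) (.nd (.nd (.lf 0x9) (.lf 0xa)) (.nd (.lf 0x8) (.lf 0x9)))))) (.nd (.nd (.nd (.nd (.nd (.lf 0xb) (.lf 0xb)) (.nd (.lf 0x5) (.lf 0xc))) (.nd (.nd (.lf 0x7) (.lf 0xa)) (.nd (.lf 0xb) (.lf 0xa)))) (.nd (.nd (.nd (.lf 0xa) (.lf 0xa)) (.nd (.lf 0x9) (.lf 0xc)))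 (.nd (.nd (.lf 0xa) (.lf 0xa)) (.nd (.lf 0x9) (.lf 0xb))))) (.nd (.nd (.nd (.nd (.lf 0x8) (.lf 0x8)) (.nd (.lf 0xa) (.lf 0x9))) (.nd (.nd (.lf 0x8) (.lf 0xb)) (.nd (.lf 0xb) (.lf 0xa)))) (.nd (.nd (.nd (.lf 0xb) (.lf 0xb)) (.nd (.lf 0x9) (.lf 0x9))) (.nd (.nd (.lf 0x7) (.lf 0xc)) (.nd (.lf 0xc) (.lf 0)))))))
def depG_nbaabba : Tr := (.nd (.nd (.nd (.nd (.nd (.nd (.lf 0xb) (.lf 0x8)) (.nd (.lf 0x8) (.lf 0x8))) (.nd (.nd (.lf 0xa) (.lf 0xa)) (.nd (.lf 0xa) (.lf 0x9)))) (.nd (.nd (.nd (.lf 0x7) (.lf 0xc)) (.nd (.lf 0xb) (.lf 0x9))) (.nd (.nd (.lf 0xa) (.lf 0x8)) (.nd (.lf 0xb) (.lf 0x9))))) (.nd (.nd (.nd (.nd (.lf 0xa) (.lf 0x9)) (.nd (.lf 0xb) (.lf 0x9))) (.nd (.nd (.lf 0xa) (.lf 0xa)) (.nd (.lf 0xb) (.lf 0x9)))) (.nd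 (.nd (.nd (.lf 0xa) (.lf 0xb)) (.nd (.lf 0xb) (.lf 0xb))) (.nd (.nd (.lf 0x8) (.lf 0xc)) (.nd (.lf 0xb) (.lf 0x8)))))) (.nd (.nd (.nd (.nd (.nd (.lf 0x6) (.lf 0xd)) (.nd (.lf 0xb) (.lf 0x9))) (.nd (.nd (.lf 0x6) (.lf 0xc)) (.nd (.lf 0xa) (.lf 0x4)))) (.nd (.nd (.nd (.lf 0x8) (.lf 0x7)) (.nd (.lf 0xb) (.lf 0xa))) (.nd (.nd (.lf 0xa) (.lf 0xc)) (.nd (.lf 0x8) (.lf 0xd))))) (.nd (.nd (.nd (.nd (.lf 0x9) (.lf 0xb)) (.nd (.lf 0x7) (.lf 0x2))) (.nd (.nd (.lf 0x9) (.lf 0xb)) (.nd (.lf 0xa) (.lf 0xb)))) (.nd (.nd (.nd (.lf 0xc) (.lf 0x6)) (.nd (.lf 0xa) (.lf 0x9))) (.nd (.nd (.lf 0x9) (.lf 0xa)) (.nd (.lf 0xa) (.lf 0xc)))))))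
def depG_nbaabbb : Tr := (.nd (.nd (.nd (.nd (.nd (.nd (.lf 0xb) (.lf 0x8)) (.nd (.lf 0x9) (.lf 0xb))) (.nd (.nd (.lf 0xb) (.lf 0xa)) (.nd (.lf 0x9) (.lf 0xd)))) (.nd (.nd (.nd (.lf 0xa) (.lf 0xc)) (.nd (.lf 0x9) (.lf 0x9))) (.nd (.nd (.lf 0x9) (.lf 0xc)) (.nd (.lf 0x9) (.lf 0xc))))) (.nd (.nd (.nd (.nd (.lf 0x8) (.lf 0xc)) (.nd (.lf 0x8) (.lf 0x9))) (.nd (.nd (.lf 0xa) (.lf 0x9)) (.nd (.lf 0xb) (.lf 0xb)))) (.nd (.nd (.nd (.lf 0xa) (.lf 0xb)) (.nd (.lf 0xb) (.lf 0xb))) (.nd (.nd (.lf 0xa) (.lf 0x9)) (.nd (.lf 0xc) (.lf 0x9)))))) (.nd (.nd (.nd (.nd (.nd (.lf 0xc) (.lf 0x9)) (.nd (.lf 0xc) (.lf 0xa))) (.nd (.nd (.lf 0x8) (.lf 0xa)) (.nd (.lf 0xb) (.lf 0xb)))) (.nd (.nd (.nd (.lf 0xa) (.lf 0x8)) (.nd (.lf 0xb) (.lf 0x8)))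 (.nd (.nd (.lf 0x6) (.lf 0xd)) (.nd (.lf 0xb) (.lf 0xb))))) (.nd (.nd (.nd (.nd (.lf 0x8) (.lf 0x8)) (.nd (.lf 0x7) (.lf 0x9))) (.nd (.nd (.lf 0xa) (.lf 0x8)) (.nd (.lf 0xa) (.lf 0xb)))) (.nd (.nd (.nd (.lf 0xb) (.lf 0xa)) (.nd (.lf 0x9) (.lf 0x9))) (.nd (.nd (.lf 0xa) (.lf 0x9)) (.nd (.lf 0xc) (.lf 0)))))))
def depG_nbabaaa : Tr := (.nd (.nd (.nd (.nd (.nd (.nd (.lf 0x7) (.lf 0x7)) (.nd (.lf 0xa) (.lf 0xb))) (.nd (.nd (.lf 0x6) (.lf 0xb)) (.nd (.lf 0xb) (.lf 0x7)))) (.nd (.nd (.nd (.lf 0xa) (.lf 0xb)) (.nd (.lf 0xb) (.lf 0xb))) (.nd (.nd (.lf 0xa) (.lf 0xb)) (.nd (.lf 0x8) (.lf 0x8))))) (.nd (.nd (.nd (.nd (.lf 0x9) (.lf 0xb)) (.nd (.lf 0x9) (.lf 0xa))) (.nd (.nd (.lf 0xa) (.lf 0x9)) (.nd (.lf 0x8) (.lf 0xb)))) (.nd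 (.nd (.nd (.lf 0xb) (.lf 0x8)) (.nd (.lf 0x9) (.lf 0xa))) (.nd (.nd (.lf 0xa) (.lf 0xc)) (.nd (.lf 0xa) (.lf 0xb)))))) (.nd (.nd (.nd (.nd (.nd (.lf 0x7) (.lf 0x8)) (.nd (.lf 0xb) (.lf 0x9))) (.nd (.nd (.lf 0xc) (.lf 0xa)) (.nd (.lf 0x9) (.lf 0xc)))) (.nd (.nd (.nd (.lf 0x8) (.lf 0xa)) (.nd (.lf 0xb) (.lf 0x7))) (.nd (.nd (.lf 0xb) (.lf 0xa)) (.nd (.lf 0xc) (.lf 0x9))))) (.nd (.nd (.nd (.nd (.lf 0x9) (.lf 0x6)) (.nd (.lf 0xa) (.lf 0xa))) (.nd (.nd (.lf 0xc) (.lf 0xb)) (.nd (.lf 0x9) (.lf 0xc)))) (.nd (.nd (.nd (.lf 0xa) (.lf 0xb)) (.nd (.lf 0xa) (.lf 0x9))) (.nd (.nd (.lf 0xb) (.lf 0x5)) (.nd (.lf 0xb) (.lf 0xb)))))))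
def depG_nbabaab : Tr := (.nd (.nd (.nd (.nd (.nd (.nd (.lf 0xb) (.lf 0xd)) (.nd (.lf 0xb) (.lf 0x9))) (.nd (.nd (.lf 0xc) (.lf 0xd)) (.nd (.lf 0xb) (.lf 0xa)))) (.nd (.nd (.nd (.lf 0xa) (.lf 0xc)) (.nd (.lf 0xb) (.lf 0x8))) (.nd (.nd (.lf 0x9) (.lf 0x8)) (.nd (.lf 0x9) (.lf 0xc))))) (.nd (.nd (.nd (.nd (.lf 0x8) (.lf 0xc)) (.nd (.lf 0xa) (.lf 0xa))) (.nd (.nd (.lf 0xd) (.lf 0x7)) (.nd (.lf 0x7) (.lf 0xd)))) (.nd (.nd (.nd (.lf 0xb) (.lf 0xc)) (.nd (.lf 0x9) (.lf 0x7))) (.nd (.nd (.lf 0x7) (.lf 0x9)) (.nd (.lf 0xc) (.lf 0x9)))))) (.nd (.nd (.nd (.nd (.nd (.lf 0x6) (.lf 0xc)) (.nd (.lf 0xb) (.lf 0xa))) (.nd (.nd (.lf 0xc) (.lf 0xb)) (.nd (.lf 0x9) (.lf 0xc)))) (.nd (.nd (.nd (.lf 0xb) (.lf 0x8)) (.nd (.lf 0xc) (.lf 0x7)))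 (.nd (.nd (.lf 0xb) (.lf 0xb)) (.nd (.lf 0xa) (.lf 0xb))))) (.nd (.nd (.nd (.nd (.lf 0xb) (.lf 0x8)) (.nd (.lf 0xb) (.lf 0x5))) (.nd (.nd (.lf 0xa) (.lf 0xa)) (.nd (.lf 0x9) (.lf 0xb)))) (.nd (.nd (.nd (.lf 0xb) (.lf 0xc)) (.nd (.lf 0xb) (.lf 0x8))) (.nd (.nd (.lf 0xb) (.lf 0xb)) (.nd (.lf 0x9) (.lf 0)))))))
def depG_nbababa : Tr := (.nd (.nd (.nd (.nd (.nd (.nd (.lf 0xb) (.lf 0xb)) (.nd (.lf 0xb) (.lf 0xc))) (.nd (.nd (.lf 0xb) (.lf 0x8)) (.nd (.lf 0x4) (.lf 0xc)))) (.nd (.nd (.nd (.lf 0xc) (.lf 0xb)) (.nd (.lf 0x1) (.lf 0xa))) (.nd (.nd (.lf 0xa) (.lf 0x8)) (.nd (.lf 0xa) (.lf 0x9))))) (.nd (.nd (.nd (.nd (.lf 0xa) (.lf 0xa)) (.nd (.lf 0x9) (.lf 0x6))) (.nd (.nd (.lf 0xa) (.lf 0xa)) (.nd (.lf 0xa) (.lf 0x9)))) (.nd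 (.nd (.nd (.lf 0x9) (.lf 0x9)) (.nd (.lf 0xb) (.lf 0xb))) (.nd (.nd (.lf 0x9) (.lf 0x8)) (.nd (.lf 0xc) (.lf 0xb)))))) (.nd (.nd (.nd (.nd (.nd (.lf 0x7) (.lf 0x9)) (.nd (.lf 0xa) (.lf 0xa))) (.nd (.nd (.lf 0x6) (.lf 0x8)) (.nd (.lf 0x8) (.lf 0xb)))) (.nd (.nd (.nd (.lf 0x8) (.lf 0x9)) (.nd (.lf 0xd) (.lf 0x9))) (.nd (.nd (.lf 0xc) (.lf 0x8)) (.nd (.lf 0xa) (.lf 0x9))))) (.nd (.nd (.nd (.nd (.lf 0x9) (.lf 0xa)) (.nd (.lf 0xa) (.lf 0xa))) (.nd (.nd (.lf 0x8) (.lf 0xc)) (.nd (.lf 0x9) (.lf 0xb)))) (.nd (.nd (.nd (.lf 0xb) (.lf 0x8)) (.nd (.lf 0xc) (.lf 0x9))) (.nd (.nd (.lf 0x9) (.lf 0xb)) (.nd (.lf 0x8) (.lf 0x9)))))))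
def depG_nbababb : Tr := (.nd (.nd (.nd (.nd (.nd (.nd (.lf 0xa) (.lf 0x4)) (.nd (.lf 0xb) (.lf 0x8))) (.nd (.nd (.lf 0x5) (.lf 0xb)) (.nd (.lf 0x8) (.lf 0x9)))) (.nd (.nd (.nd (.lf 0x6) (.lf 0x7)) (.nd (.lf 0xc) (.lf 0x2))) (.nd (.nd (.lf 0xa) (.lf 0xa)) (.nd (.lf 0xa) (.lf 0x7))))) (.nd (.nd (.nd (.nd (.lf 0xc) (.lf 0xa)) (.nd (.lf 0xa) (.lf 0xa))) (.nd (.nd (.lf 0x9) (.lf 0x7)) (.nd (.lf 0xb) (.lf 0x9)))) (.nd (.nd (.nd (.lf 0xb) (.lf 0xa)) (.nd (.lf 0xc) (.lf 0xb))) (.nd (.nd (.lf 0xa) (.lf 0xd)) (.nd (.lf 0xc) (.lf 0x6)))))) (.nd (.nd (.nd (.nd (.nd (.lf 0xb) (.lf 0x8)) (.nd (.lf 0xa) (.lf 0xa))) (.nd (.nd (.lf 0xa) (.lf 0xc)) (.nd (.lf 0x9) (.lf 0x3)))) (.nd (.nd (.nd (.lf 0xa) (.lf 0xa)) (.nd (.lf 0xa) (.lf 0xa)))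 (.nd (.nd (.lf 0x8) (.lf 0xc)) (.nd (.lf 0xb) (.lf 0x9))))) (.nd (.nd (.nd (.nd (.lf 0xa) (.lf 0x8)) (.nd (.lf 0xa) (.lf 0x9))) (.nd (.nd (.lf 0xb) (.lf 0xb)) (.nd (.lf 0xb) (.lf 0x4)))) (.nd (.nd (.nd (.lf 0x9) (.lf 0x9)) (.nd (.lf 0xc) (.lf 0x6))) (.nd (.nd (.lf 0x9) (.lf 0xb)) (.nd (.lf 0xb) (.lf 0)))))))
def depG_nbabbaa : Tr := (.nd (.nd (.nd (.nd (.nd (.nd (.lf 0x9) (.lf 0xb)) (.nd (.lf 0xc) (.lf 0x8))) (.nd (.nd (.lf 0xc) (.lf 0xe)) (.nd (.lf 0xd) (.lf 0x7)))) (.nd (.nd (.nd (.lf 0xa) (.lf 0x5)) (.nd (.lf 0xa) (.lf 0xc))) (.nd (.nd (.lf 0xa) (.lf 0x8)) (.nd (.lf 0xa) (.lf 0x6))))) (.nd (.nd (.nd (.nd (.lf 0xb) (.lf 0x1)) (.nd (.lf 0xa) (.lf 0xb))) (.nd (.nd (.lf 0xb) (.lf 0xa)) (.nd (.lf 0x8) (.lf 0xc)))) (.nd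 (.nd (.nd (.lf 0x7) (.lf 0x9)) (.nd (.lf 0xa) (.lf 0xc))) (.nd (.nd (.lf 0xb) (.lf 0xb)) (.nd (.lf 0xa) (.lf 0xb)))))) (.nd (.nd (.nd (.nd (.nd (.lf 0xb) (.lf 0x8)) (.nd (.lf 0x9) (.lf 0xa))) (.nd (.nd (.lf 0xa) (.lf 0xa)) (.nd (.lf 0x8) (.lf 0xb)))) (.nd (.nd (.nd (.lf 0xc) (.lf 0xa)) (.nd (.lf 0x9) (.lf 0xa))) (.nd (.nd (.lf 0xa) (.lf 0xb)) (.nd (.lf 0xc) (.lf 0x9))))) (.nd (.nd (.nd (.nd (.lf 0xc) (.lf 0xa)) (.nd (.lf 0x8) (.lf 0x9))) (.nd (.nd (.lf 0x9) (.lf 0x9)) (.nd (.lf 0x5) (.lf 0x7)))) (.nd (.nd (.nd (.lf 0x6) (.lf 0xb)) (.nd (.lf 0x8) (.lf 0xc))) (.nd (.nd (.lf 0xa) (.lf 0xa)) (.nd (.lf 0xb) (.lf 0x9)))))))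
def depG_nbabbab : Tr := (.nd (.nd (.nd (.nd (.nd (.nd (.lf 0x6) (.lf 0xc)) (.nd (.lf 0xb) (.lf 0x7))) (.nd (.nd (.lf 0xa) (.lf 0x8)) (.nd (.lf 0xb) (.lf 0xb)))) (.nd (.nd (.nd (.lf 0x8) (.lf 0xa)) (.nd (.lf 0x9) (.lf 0xb))) (.nd (.nd (.lf 0x9) (.lf 0xa)) (.nd (.lf 0x8) (.lf 0x9))))) (.nd (.nd (.nd (.nd (.lf 0x8) (.lf 0xa)) (.nd (.lf 0xb) (.lf 0xb))) (.nd (.nd (.lf 0xa) (.lf 0x8)) (.nd (.lf 0xa) (.lf 0xc)))) (.nd (.nd (.nd (.lf 0x9) (.lf 0xc)) (.nd (.lf 0x7) (.lf 0xa))) (.nd (.nd (.lf 0xb) (.lf 0xb)) (.nd (.lf 0x9) (.lf 0x9)))))) (.nd (.nd (.nd (.nd (.nd (.lf 0xb) (.lf 0xb)) (.nd (.lf 0xb) (.lf 0xb))) (.nd (.nd (.lf 0xc) (.lf 0xa)) (.nd (.lf 0x4) (.lf 0xb)))) (.nd (.nd (.nd (.lf 0xa) (.lf 0xb)) (.nd (.lf 0xa) (.lf 0xb)))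 (.nd (.nd (.lf 0xc) (.lf 0xa)) (.nd (.lf 0x8) (.lf 0xa))))) (.nd (.nd (.nd (.nd (.lf 0xc) (.lf 0xc)) (.nd (.lf 0xc) (.lf 0x5))) (.nd (.nd (.lf 0xa) (.lf 0xb)) (.nd (.lf 0xa) (.lf 0x9)))) (.nd (.nd (.nd (.lf 0x9) (.lf 0xa)) (.nd (.lf 0xa) (.lf 0xb))) (.nd (.nd (.lf 0x9) (.lf 0xb)) (.nd (.lf 0x8) (.lf 0)))))))
def depG_nbabbba : Tr := (.nd (.nd (.nd (.nd (.nd (.nd (.lf 0x8) (.lf 0x8)) (.nd (.lf 0xb) (.lf 0x9))) (.nd (.nd (.lf 0xa) (.lf 0xc)) (.nd (.lf 0x8) (.lf 0xb)))) (.nd (.nd (.nd (.lf 0x7) (.lf 0x8)) (.nd (.lf 0xa) (.lf 0xb))) (.nd (.nd (.lf 0xa) (.lf 0xc)) (.nd (.lf 0x7) (.lf 0xc))))) (.nd (.nd (.nd (.nd (.lf 0xb) (.lf 0xb)) (.nd (.lf 0x5) (.lf 0xa))) (.nd (.nd (.lf 0x3) (.lf 0xa)) (.nd (.lf 0x9) (.lf 0xa)))) (.nd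 (.nd (.nd (.lf 0xc) (.lf 0x9)) (.nd (.lf 0x7) (.lf 0x6))) (.nd (.nd (.lf 0x7) (.lf 0xa)) (.nd (.lf 0xb) (.lf 0xd)))))) (.nd (.nd (.nd (.nd (.nd (.lf 0x8) (.lf 0x7)) (.nd (.lf 0xb) (.lf 0xb))) (.nd (.nd (.lf 0xb) (.lf 0xa)) (.nd (.lf 0x6) (.lf 0xb)))) (.nd (.nd (.nd (.lf 0xc) (.lf 0xa)) (.nd (.lf 0xb) (.lf 0xa))) (.nd (.nd (.lf 0xb) (.lf 0xa)) (.nd (.lf 0xa) (.lf 0xa))))) (.nd (.nd (.nd (.nd (.lf 0xa) (.lf 0x9)) (.nd (.lf 0xb) (.lf 0x6))) (.nd (.nd (.lf 0xa) (.lf 0xb)) (.nd (.lf 0x7) (.lf 0x7)))) (.nd (.nd (.nd (.lf 0x8) (.lf 0x9)) (.nd (.lf 0xb) (.lf 0xa))) (.nd (.nd (.lf 0xc) (.lf 0x8)) (.nd (.lf 0xc) (.lf 0)))))))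
def depG_nbabbbb : Tr := (.nd (.nd (.nd (.nd (.nd (.nd (.lf 0x6) (.lf 0x6)) (.nd (.lf 0x9) (.lf 0x7))) (.nd (.nd (.lf 0xc) (.lf 0xb)) (.nd (.lf 0x9) (.lf 0x8)))) (.nd (.nd (.nd (.lf 0xc) (.lf 0xc)) (.nd (.lf 0xc) (.lf 0xb))) (.nd (.nd (.lf 0xa) (.lf 0xb)) (.nd (.lf 0xa) (.lf 0xa))))) (.nd (.nd (.nd (.nd (.lf 0x8) (.lf 0xc)) (.nd (.lf 0x9) (.lf 0xb))) (.nd (.nd (.lf 0x9) (.lf 0x7)) (.nd (.lf 0xa) (.lf 0x9)))) (.nd (.nd (.nd (.lf 0xb) (.lf 0xa)) (.nd (.lf 0xb) (.lf 0x8))) (.nd (.nd (.lf 0x8) (.lf 0xa)) (.nd (.lf 0xb) (.lf 0xa)))))) (.nd (.nd (.nd (.nd (.nd (.lf 0xa) (.lf 0x5)) (.nd (.lf 0x9) (.lf 0xb))) (.nd (.nd (.lf 0xa) (.lf 0x9)) (.nd (.lf 0x8) (.lf 0xb)))) (.nd (.nd (.nd (.lf 0xa) (.lf 0xc)) (.nd (.lf 0x9) (.lf 0xa)))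 (.nd (.nd (.lf 0x9) (.lf 0xc)) (.nd (.lf 0xb) (.lf 0xb))))) (.nd (.nd (.nd (.nd (.lf 0xb) (.lf 0xb)) (.nd (.lf 0xb) (.lf 0xb))) (.nd (.nd (.lf 0xa) (.lf 0x9)) (.nd (.lf 0x9) (.lf 0xd)))) (.nd (.nd (.nd (.lf 0xb) (.lf 0xa)) (.nd (.lf 0xa) (.lf 0x6))) (.nd (.nd (.lf 0xb) (.lf 0xa)) (.nd (.lf 0x6) (.lf 0)))))))
def depG_nbbaaaa : Tr := (.nd (.nd (.nd (.nd (.nd (.nd (.lf 0xa) (.lf 0x9)) (.nd (.lf 0xc) (.lf 0xa))) (.nd (.nd (.lf 0xa) (.lf 0x9)) (.nd (.lf 0x6) (.lf 0x8)))) (.nd (.nd (.nd (.lf 0xd) (.lf 0xa)) (.nd (.lf 0x9) (.lf 0x6))) (.nd (.nd (.lf 0x8) (.lf 0xc)) (.nd (.lf 0xb) (.lf 0x8))))) (.nd (.nd (.nd (.nd (.lf 0xc) (.lf 0xc)) (.nd (.lf 0xc) (.lf 0xa))) (.nd (.nd (.lf 0x8) (.lf 0xc)) (.nd (.lf 0xb) (.lf 0x7)))) (.nd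 (.nd (.nd (.lf 0xa) (.lf 0xb)) (.nd (.lf 0x6) (.lf 0xa))) (.nd (.nd (.lf 0x8) (.lf 0xa)) (.nd (.lf 0x8) (.lf 0xa)))))) (.nd (.nd (.nd (.nd (.nd (.lf 0xa) (.lf 0xa)) (.nd (.lf 0xb) (.lf 0xb))) (.nd (.nd (.lf 0x9) (.lf 0xa)) (.nd (.lf 0xb) (.lf 0x8)))) (.nd (.nd (.nd (.lf 0x7) (.lf 0x9)) (.nd (.lf 0x7) (.lf 0xa))) (.nd (.nd (.lf 0x9) (.lf 0xa)) (.nd (.lf 0x6) (.lf 0xc))))) (.nd (.nd (.nd (.nd (.lf 0x7) (.lf 0xb)) (.nd (.lf 0x7) (.lf 0xa))) (.nd (.nd (.lf 0x9) (.lf 0x8)) (.nd (.lf 0xa) (.lf 0x9)))) (.nd (.nd (.nd (.lf 0xa) (.lf 0xa)) (.nd (.lf 0x7) (.lf 0x7))) (.nd (.nd (.lf 0xa) (.lf 0xb)) (.nd (.lf 0xa) (.lf 0xa)))))))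
def depG_nbbaaab : Tr := (.nd (.nd (.nd (.nd (.nd (.nd (.lf 0xa) (.lf 0xb)) (.nd (.lf 0xa) (.lf 0x7))) (.nd (.nd (.lf 0xb) (.lf 0xb)) (.nd (.lf 0x8) (.lf 0xa)))) (.nd (.nd (.nd (.lf 0x7) (.lf 0xa)) (.nd (.lf 0xb) (.lf 0xb))) (.nd (.nd (.lf 0x9) (.lf 0xa)) (.nd (.lf 0xa) (.lf 0xa))))) (.nd (.nd (.nd (.nd (.lf 0xa) (.lf 0x7)) (.nd (.lf 0xc) (.lf 0x9))) (.nd (.nd (.lf 0x9) (.lf 0x2)) (.nd (.lf 0xa) (.lf 0x9)))) (.nd (.nd (.nd (.lf 0xb) (.lf 0x8)) (.nd (.lf 0x9) (.lf 0x8))) (.nd (.nd (.lf 0xc) (.lf 0xb)) (.nd (.lf 0x6) (.lf 0xb)))))) (.nd (.nd (.nd (.nd (.nd (.lf 0xa) (.lf 0xb)) (.nd (.lf 0xb) (.lf 0xa))) (.nd (.nd (.lf 0xb) (.lf 0xb)) (.nd (.lf 0x8) (.lf 0xb)))) (.nd (.nd (.nd (.lf 0xc) (.lf 0x7)) (.nd (.lf 0x9) (.lf 0xc)))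 (.nd (.nd (.lf 0x6) (.lf 0x9)) (.nd (.lf 0x9) (.lf 0x8))))) (.nd (.nd (.nd (.nd (.lf 0x9) (.lf 0x8)) (.nd (.lf 0x9) (.lf 0x7))) (.nd (.nd (.lf 0x7) (.lf 0xa)) (.nd (.lf 0x9) (.lf 0xb)))) (.nd (.nd (.nd (.lf 0xc) (.lf 0x8)) (.nd (.lf 0x9) (.lf 0x9))) (.nd (.nd (.lf 0x8) (.lf 0x8)) (.nd (.lf 0x7) (.lf 0)))))))
def depG_nbbaaba : Tr := (.nd (.nd (.nd (.nd (.nd (.nd (.lf 0xa) (.lf 0xa)) (.nd (.lf 0x8) (.lf 0xa))) (.nd (.nd (.lf 0x9) (.lf 0x9)) (.nd (.lf 0xa) (.lf 0xa)))) (.nd (.nd (.nd (.lf 0xc) (.lf 0x8)) (.nd (.lf 0x8) (.lf 0x7))) (.nd (.nd (.lf 0x5) (.lf 0xc)) (.nd (.lf 0xa) (.lf 0x8))))) (.nd (.nd (.nd (.nd (.lf 0x9) (.lf 0x9)) (.nd (.lf 0x8) (.lf 0x8))) (.nd (.nd (.lf 0xa) (.lf 0xa)) (.nd (.lf 0xa) (.lf 0x6)))) (.nd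 (.nd (.nd (.lf 0xb) (.lf 0xa)) (.nd (.lf 0xc) (.lf 0xa))) (.nd (.nd (.lf 0xa) (.lf 0xb)) (.nd (.lf 0x8) (.lf 0xa)))))) (.nd (.nd (.nd (.nd (.nd (.lf 0x7) (.lf 0x4)) (.nd (.lf 0x9) (.lf 0xb))) (.nd (.nd (.lf 0xc) (.lf 0x9)) (.nd (.lf 0xa) (.lf 0xb)))) (.nd (.nd (.nd (.lf 0x8) (.lf 0x3)) (.nd (.lf 0x5) (.lf 0xa))) (.nd (.nd (.lf 0xc) (.lf 0xb)) (.nd (.lf 0x8) (.lf 0xa))))) (.nd (.nd (.nd (.nd (.lf 0xa) (.lf 0xb)) (.nd (.lf 0xa) (.lf 0x9))) (.nd (.nd (.lf 0xc) (.lf 0x7)) (.nd (.lf 0x6) (.lf 0x9)))) (.nd (.nd (.nd (.lf 0x8) (.lf 0xc)) (.nd (.lf 0x8) (.lf 0xc))) (.nd (.nd (.lf 0xb) (.lf 0x9)) (.nd (.lf 0xa) (.lf 0xb)))))))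
def depG_nbbaabb : Tr := (.nd (.nd (.nd (.nd (.nd (.nd (.lf 0x9) (.lf 0xb)) (.nd (.lf 0xc) (.lf 0x7))) (.nd (.nd (.lf 0xb) (.lf 0x8)) (.nd (.lf 0xc) (.lf 0x8)))) (.nd (.nd (.nd (.lf 0xc) (.lf 0xb)) (.nd (.lf 0xb) (.lf 0x7))) (.nd (.nd (.lf 0x9) (.lf 0xb)) (.nd (.lf 0x9) (.lf 0xb))))) (.nd (.nd (.nd (.nd (.lf 0xc) (.lf 0xb)) (.nd (.lf 0xb) (.lf 0xc))) (.nd (.nd (.lf 0xc) (.lf 0x5)) (.nd (.lf 0xb) (.lf 0xa)))) (.nd (.nd (.nd (.lf 0xa) (.lf 0x9)) (.nd (.lf 0xb) (.lf 0x9))) (.nd (.nd (.lf 0xc) (.lf 0xa)) (.nd (.lf 0x4) (.lf 0x8)))))) (.nd (.nd (.nd (.nd (.nd (.lf 0xc) (.lf 0x9)) (.nd (.lf 0xb) (.lf 0x9))) (.nd (.nd (.lf 0x8) (.lf 0xa)) (.nd (.lf 0x8) (.lf 0xa)))) (.nd (.nd (.nd (.lf 0x9) (.lf 0xa)) (.nd (.lf 0xa) (.lf 0xa)))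 (.nd (.nd (.lf 0xb) (.lf 0xc)) (.nd (.lf 0x8) (.lf 0xb))))) (.nd (.nd (.nd (.nd (.lf 0xb) (.lf 0x7)) (.nd (.lf 0xc) (.lf 0x7))) (.nd (.nd (.lf 0x9) (.lf 0x7)) (.nd (.lf 0xa) (.lf 0xc)))) (.nd (.nd (.nd (.lf 0x9) (.lf 0x9)) (.nd (.lf 0xb) (.lf 0xc))) (.nd (.nd (.lf 0xb) (.lf 0x8)) (.nd (.lf 0xb) (.lf 0)))))))
def depG_nbbabaa : Tr := (.nd (.nd (.nd (.nd (.nd (.nd (.lf 0xb) (.lf 0xa)) (.nd (.lf 0x8) (.lf 0xb))) (.nd (.nd (.lf 0xa) (.lf 0x9)) (.nd (.lf 0x9) (.lf 0x8)))) (.nd (.nd (.nd (.lf 0x7) (.lf 0x9)) (.nd (.lf 0xc) (.lf 0xc))) (.nd (.nd (.lf 0x6) (.lf 0x9)) (.nd (.lf 0xa) (.lf 0x8))))) (.nd (.nd (.nd (.nd (.lf 0x8) (.lf 0xb)) (.nd (.lf 0x9) (.lf 0xa))) (.nd (.nd (.lf 0x8) (.lf 0x8)) (.nd (.lf 0x8) (.lf 0x8)))) (.nd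 (.nd (.nd (.lf 0xa) (.lf 0x9)) (.nd (.lf 0xa) (.lf 0xb))) (.nd (.nd (.lf 0x9) (.lf 0xc)) (.nd (.lf 0x8) (.lf 0x8)))))) (.nd (.nd (.nd (.nd (.nd (.lf 0xa) (.lf 0x9)) (.nd (.lf 0xa) (.lf 0xb))) (.nd (.nd (.lf 0x9) (.lf 0xb)) (.nd (.lf 0x9) (.lf 0xa)))) (.nd (.nd (.nd (.lf 0x9) (.lf 0x9)) (.nd (.lf 0x9) (.lf 0x6))) (.nd (.nd (.lf 0xc) (.lf 0x9)) (.nd (.lf 0xa) (.lf 0xc))))) (.nd (.nd (.nd (.nd (.lf 0x6) (.lf 0x3)) (.nd (.lf 0xc) (.lf 0xb))) (.nd (.nd (.lf 0xa) (.lf 0xa)) (.nd (.lf 0xc) (.lf 0x8)))) (.nd (.nd (.nd (.lf 0x7) (.lf 0x8)) (.nd (.lf 0xd) (.lf 0xa))) (.nd (.nd (.lf 0xb) (.lf 0x8)) (.nd (.lf 0xa) (.lf 0xb)))))))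
def depG_nbbabab : Tr := (.nd (.nd (.nd (.nd (.nd (.nd (.lf 0xb) (.lf 0x4)) (.nd (.lf 0xb) (.lf 0x9))) (.nd (.nd (.lf 0x7) (.lf 0xc)) (.nd (.lf 0xe) (.lf 0x8)))) (.nd (.nd (.nd (.lf 0xc) (.lf 0xb)) (.nd (.lf 0x9) (.lf 0x5))) (.nd (.nd (.lf 0x9) (.lf 0xb)) (.nd (.lf 0x9) (.lf 0xb))))) (.nd (.nd (.nd (.nd (.lf 0xa) (.lf 0xc)) (.nd (.lf 0xb) (.lf 0xa))) (.nd (.nd (.lf 0xc) (.lf 0x8)) (.nd (.lf 0xa) (.lf 0xb)))) (.nd (.nd (.nd (.lf 0xb) (.lf 0xa)) (.nd (.lf 0xa) (.lf 0x9))) (.nd (.nd (.lf 0x9) (.lf 0xa)) (.nd (.lf 0xb) (.lf 0x6)))))) (.nd (.nd (.nd (.nd (.nd (.lf 0xb) (.lf 0x9)) (.nd (.lf 0xb) (.lf 0x9))) (.nd (.nd (.lf 0xa) (.lf 0x9)) (.nd (.lf 0x7) (.lf 0xa)))) (.nd (.nd (.nd (.lf 0xc) (.lf 0xa)) (.nd (.lf 0x9) (.lf 0xc)))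 (.nd (.nd (.lf 0xb) (.lf 0xb)) (.nd (.lf 0x7) (.lf 0xa))))) (.nd (.nd (.nd (.nd (.lf 0x9) (.lf 0x9)) (.nd (.lf 0x7) (.lf 0xa))) (.nd (.nd (.lf 0xa) (.lf 0xc)) (.nd (.lf 0xb) (.lf 0x9)))) (.nd (.nd (.nd (.lf 0xb) (.lf 0xa)) (.nd (.lf 0x8) (.lf 0xc))) (.nd (.nd (.lf 0xc) (.lf 0x9)) (.nd (.lf 0x9) (.lf 0)))))))
def depG_nbbabba : Tr := (.nd (.nd (.nd (.nd (.nd (.nd (.lf 0xc) (.lf 0x8)) (.nd (.lf 0x7) (.lf 0x9))) (.nd (.nd (.lf 0xb) (.lf 0xb)) (.nd (.lf 0xc) (.lf 0xb)))) (.nd (.nd (.nd (.lf 0xb) (.lf 0xc)) (.nd (.lf 0xb) (.lf 0xa))) (.nd (.nd (.lf 0x7) (.lf 0x9)) (.nd (.lf 0x9) (.lf 0xc))))) (.nd (.nd (.nd (.nd (.lf 0xb) (.lf 0x5)) (.nd (.lf 0xa) (.lf 0xc))) (.nd (.nd (.lf 0x9) (.lf 0xb)) (.nd (.lf 0x8) (.lf 0xb)))) (.nd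 (.nd (.nd (.lf 0xd) (.lf 0x8)) (.nd (.lf 0xb) (.lf 0xb))) (.nd (.nd (.lf 0x9) (.lf 0xa)) (.nd (.lf 0xa) (.lf 0x7)))))) (.nd (.nd (.nd (.nd (.nd (.lf 0xb) (.lf 0x7)) (.nd (.lf 0xa) (.lf 0x8))) (.nd (.nd (.lf 0x6) (.lf 0x7)) (.nd (.lf 0x8) (.lf 0xb)))) (.nd (.nd (.nd (.lf 0xc) (.lf 0xb)) (.nd (.lf 0xa) (.lf 0xb))) (.nd (.nd (.lf 0x9) (.lf 0x9)) (.nd (.lf 0xa) (.lf 0x9))))) (.nd (.nd (.nd (.nd (.lf 0x6) (.lf 0x9)) (.nd (.lf 0xb) (.lf 0xb))) (.nd (.nd (.lf 0x6) (.lf 0x9)) (.nd (.lf 0xa) (.lf 0x9)))) (.nd (.nd (.nd (.lf 0xa) (.lf 0xb)) (.nd (.lf 0x9) (.lf 0xb))) (.nd (.nd (.lf 0x9) (.lf 0xc)) (.nd (.lf 0xc) (.lf 0x9)))))))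
def depG_nbbabbb : Tr := (.nd (.nd (.nd (.nd (.nd (.nd (.lf 0xb) (.lf 0xc)) (.nd (.lf 0xb) (.lf 0xa))) (.nd (.nd (.lf 0x9) (.lf 0xb)) (.nd (.lf 0x9) (.lf 0xa)))) (.nd (.nd (.nd (.lf 0xa) (.lf 0xc)) (.nd (.lf 0xc) (.lf 0xa))) (.nd (.nd (.lf 0xb) (.lf 0xc)) (.nd (.lf 0x7) (.lf 0xa))))) (.nd (.nd (.nd (.nd (.lf 0x3) (.lf 0xa)) (.nd (.lf 0x9) (.lf 0xc))) (.nd (.nd (.lf 0x9) (.lf 0xb)) (.nd (.lf 0xa) (.lf 0xc)))) (.nd (.nd (.nd (.lf 0xc) (.lf 0xb)) (.nd (.lf 0xb) (.lf 0x9))) (.nd (.nd (.lf 0xa) (.lf 0xb)) (.nd (.lf 0xa) (.lf 0xb)))))) (.nd (.nd (.nd (.nd (.nd (.lf 0xc) (.lf 0xb)) (.nd (.lf 0x9) (.lf 0xb))) (.nd (.nd (.lf 0xa) (.lf 0xa)) (.nd (.lf 0xb) (.lf 0x9)))) (.nd (.nd (.nd (.lf 0x9) (.lf 0x8)) (.nd (.lf 0x7) (.lf 0x9)))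 (.nd (.nd (.lf 0xa) (.lf 0xa)) (.nd (.lf 0x5) (.lf 0xb))))) (.nd (.nd (.nd (.nd (.lf 0xa) (.lf 0xc)) (.nd (.lf 0xc) (.lf 0xa))) (.nd (.nd (.lf 0xd) (.lf 0x8)) (.nd (.lf 0xc) (.lf 0xa)))) (.nd (.nd (.nd (.lf 0x8) (.lf 0xb)) (.nd (.lf 0xa) (.lf 0xa))) (.nd (.nd (.lf 0x9) (.lf 0xa)) (.nd (.lf 0xd) (.lf 0)))))))
def depG_nbbbaaa : Tr := (.nd (.nd (.nd (.nd (.nd (.nd (.lf 0xa) (.lf 0xa)) (.nd (.lf 0xc) (.lf 0xa))) (.nd (.nd (.lf 0xc) (.lf 0xb)) (.nd (.lf 0x8) (.lf 0xb)))) (.nd (.nd (.nd (.lf 0x9) (.lf 0x8)) (.nd (.lf 0xa) (.lf 0xa))) (.nd (.nd (.lf 0xb) (.lf 0x9)) (.nd (.lf 0xc) (.lf 0x9))))) (.nd (.nd (.nd (.nd (.lf 0xc) (.lf 0xd)) (.nd (.lf 0xb) (.lf 0x9))) (.nd (.nd (.lf 0xc) (.lf 0x9)) (.nd (.lf 0x9) (.lf 0x6)))) (.nd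 (.nd (.nd (.lf 0x9) (.lf 0xa)) (.nd (.lf 0x9) (.lf 0xc))) (.nd (.nd (.lf 0xb) (.lf 0xb)) (.nd (.lf 0x9) (.lf 0x8)))))) (.nd (.nd (.nd (.nd (.nd (.lf 0x9) (.lf 0x8)) (.nd (.lf 0x9) (.lf 0x8))) (.nd (.nd (.lf 0xa) (.lf 0x9)) (.nd (.lf 0xb) (.lf 0xb)))) (.nd (.nd (.nd (.lf 0x9) (.lf 0x9)) (.nd (.lf 0xa) (.lf 0xa))) (.nd (.nd (.lf 0xa) (.lf 0xb)) (.nd (.lf 0xb) (.lf 0xc))))) (.nd (.nd (.nd (.nd (.lf 0x7) (.lf 0x7)) (.nd (.lf 0xb) (.lf 0x7))) (.nd (.nd (.lf 0x9) (.lf 0xa)) (.nd (.lf 0xa) (.lf 0xc)))) (.nd (.nd (.nd (.lf 0x9) (.lf 0xa)) (.nd (.lf 0xb) (.lf 0xc))) (.nd (.nd (.lf 0xb) (.lf 0x6)) (.nd (.lf 0x9) (.lf 0xb)))))))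
def depG_nbbbaab : Tr := (.nd (.nd (.nd (.nd (.nd (.nd (.lf 0xc) (.lf 0x9)) (.nd (.lf 0xb) (.lf 0x9))) (.nd (.nd (.lf 0x9) (.lf 0xa)) (.nd (.lf 0x7) (.lf 0xa)))) (.nd (.nd (.nd (.lf 0xb) (.lf 0xb)) (.nd (.lf 0x9) (.lf 0xa))) (.nd (.nd (.lf 0xc) (.lf 0xa)) (.nd (.lf 0x9) (.lf 0xa))))) (.nd (.nd (.nd (.nd (.lf 0x9) (.lf 0xa)) (.nd (.lf 0xb) (.lf 0x7))) (.nd (.nd (.lf 0xb) (.lf 0x7)) (.nd (.lf 0xa) (.lf 0x9)))) (.nd (.nd (.nd (.lf 0x9) (.lf 0xc)) (.nd (.lf 0xc) (.lf 0xc))) (.nd (.nd (.lf 0x9) (.lf 0xc)) (.nd (.lf 0xb) (.lf 0x8)))))) (.nd (.nd (.nd (.nd (.nd (.lf 0x9) (.lf 0xc)) (.nd (.lf 0x3) (.lf 0xb))) (.nd (.nd (.lf 0x8) (.lf 0xa)) (.nd (.lf 0x8) (.lf 0xb)))) (.nd (.nd (.nd (.lf 0x9) (.lf 0xa)) (.nd (.lf 0xa) (.lf 0xa)))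 (.nd (.nd (.lf 0x8) (.lf 0xb)) (.nd (.lf 0x8) (.lf 0xb))))) (.nd (.nd (.nd (.nd (.lf 0xb) (.lf 0xa)) (.nd (.lf 0xc) (.lf 0x9))) (.nd (.nd (.lf 0xa) (.lf 0xb)) (.nd (.lf 0x6) (.lf 0x9)))) (.nd (.nd (.nd (.lf 0xb) (.lf 0xc)) (.nd (.lf 0xb) (.lf 0x8))) (.nd (.nd (.lf 0xb) (.lf 0xc)) (.nd (.lf 0x6) (.lf 0)))))))
def depG_nbbbaba : Tr := (.nd (.nd (.nd (.nd (.nd (.nd (.lf 0x8) (.lf 0xa)) (.nd (.lf 0x8) (.lf 0xb))) (.nd (.nd (.lf 0x8) (.lf 0x9)) (.nd (.lf 0x5) (.lf 0xa)))) (.nd (.nd (.nd (.lf 0xa) (.lf 0xb)) (.nd (.lf 0x8) (.lf 0xa))) (.nd (.nd (.lf 0xb) (.lf 0xb)) (.nd (.lf 0xa) (.lf 0xb))))) (.nd (.nd (.nd (.nd (.lf 0x9) (.lf 0x4)) (.nd (.lf 0xc) (.lf 0xa))) (.nd (.nd (.lf 0xc) (.lf 0xb)) (.nd (.lf 0xa) (.lf 0x9)))) (.nd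 (.nd (.nd (.lf 0xa) (.lf 0x8)) (.nd (.lf 0xa) (.lf 0xa))) (.nd (.nd (.lf 0xa) (.lf 0xc)) (.nd (.lf 0x8) (.lf 0xa)))))) (.nd (.nd (.nd (.nd (.nd (.lf 0xa) (.lf 0x7)) (.nd (.lf 0xa) (.lf 0x7))) (.nd (.nd (.lf 0x9) (.lf 0x8)) (.nd (.lf 0xb) (.lf 0xa)))) (.nd (.nd (.nd (.lf 0xa) (.lf 0x5)) (.nd (.lf 0xc) (.lf 0xc))) (.nd (.nd (.lf 0xa) (.lf 0x8)) (.nd (.lf 0x8) (.lf 0xb))))) (.nd (.nd (.nd (.nd (.lf 0xc) (.lf 0xa)) (.nd (.lf 0xc) (.lf 0xb))) (.nd (.nd (.lf 0x5) (.lf 0xc)) (.nd (.lf 0xb) (.lf 0xb)))) (.nd (.nd (.nd (.lf 0xb) (.lf 0x9)) (.nd (.lf 0xa) (.lf 0xa))) (.nd (.nd (.lf 0x8) (.lf 0x8)) (.nd (.lf 0x1) (.lf 0x6)))))))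
def depG_nbbbabb : Tr := (.nd (.nd (.nd (.nd (.nd (.nd (.lf 0xc) (.lf 0xa)) (.nd (.lf 0x5) (.lf 0xa))) (.nd (.nd (.lf 0x8) (.lf 0x8)) (.nd (.lf 0xb) (.lf 0xb)))) (.nd (.nd (.nd (.lf 0x9) (.lf 0xb)) (.nd (.lf 0xa) (.lf 0xa))) (.nd (.nd (.lf 0xd) (.lf 0xd)) (.nd (.lf 0xb) (.lf 0x7))))) (.nd (.nd (.nd (.nd (.lf 0x9) (.lf 0xb)) (.nd (.lf 0xa) (.lf 0xa))) (.nd (.nd (.lf 0x9) (.lf 0x6)) (.nd (.lf 0x8) (.lf 0xc)))) (.nd (.nd (.nd (.lf 0xb) (.lf 0xa)) (.nd (.lf 0xb) (.lf 0xb))) (.nd (.nd (.lf 0xb) (.lf 0xb)) (.nd (.lf 0xb) (.lf 0xa)))))) (.nd (.nd (.nd (.nd (.nd (.lf 0xb) (.lf 0xa)) (.nd (.lf 0xc) (.lf 0x7))) (.nd (.nd (.lf 0x9) (.lf 0x9)) (.nd (.lf 0xa) (.lf 0xb)))) (.nd (.nd (.nd (.lf 0xa) (.lf 0xa)) (.nd (.lf 0x8) (.lf 0x7)))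 (.nd (.nd (.lf 0x8) (.lf 0xc)) (.nd (.lf 0x7) (.lf 0x9))))) (.nd (.nd (.nd (.nd (.lf 0xb) (.lf 0xa)) (.nd (.lf 0x7) (.lf 0xb))) (.nd (.nd (.lf 0x8) (.lf 0xc)) (.nd (.lf 0xa) (.lf 0xb)))) (.nd (.nd (.nd (.lf 0xb) (.lf 0xa)) (.nd (.lf 0xb) (.lf 0x8))) (.nd (.nd (.lf 0xc) (.lf 0xa)) (.nd (.lf 0xc) (.lf 0)))))))
def depG_nbbbbaa : Tr := (.nd (.nd (.nd (.nd (.nd (.nd (.lf 0xa) (.lf 0xa)) (.nd (.lf 0xb) (.lf 0xc))) (.nd (.nd (.lf 0xa) (.lf 0xa)) (.nd (.lf 0xa) (.lf 0xb)))) (.nd (.nd (.nd (.lf 0xa) (.lf 0x5)) (.nd (.lf 0xd) (.lf 0xb))) (.nd (.nd (.lf 0xb) (.lf 0xb)) (.nd (.lf 0xb) (.lf 0xa))))) (.nd (.nd (.nd (.nd (.lf 0xb) (.lf 0xa)) (.nd (.lf 0xb) (.lf 0xa))) (.nd (.nd (.lf 0xc) (.lf 0x6)) (.nd (.lf 0x8) (.lf 0x2)))) (.nd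 (.nd (.nd (.lf 0xb) (.lf 0xc)) (.nd (.lf 0xa) (.lf 0xa))) (.nd (.nd (.lf 0xb) (.lf 0xa)) (.nd (.lf 0x8) (.lf 0xa)))))) (.nd (.nd (.nd (.nd (.nd (.lf 0x7) (.lf 0x9)) (.nd (.lf 0x8) (.lf 0xa))) (.nd (.nd (.lf 0xa) (.lf 0x8)) (.nd (.lf 0x9) (.lf 0xb)))) (.nd (.nd (.nd (.lf 0x7) (.lf 0x9)) (.nd (.lf 0xb) (.lf 0xa))) (.nd (.nd (.lf 0xb) (.lf 0x5)) (.nd (.lf 0xa) (.lf 0x7))))) (.nd (.nd (.nd (.nd (.lf 0xa) (.lf 0x8)) (.nd (.lf 0xb) (.lf 0x9))) (.nd (.nd (.lf 0xa) (.lf 0xb)) (.nd (.lf 0xa) (.lf 0x9)))) (.nd (.nd (.nd (.lf 0xb) (.lf 0xa)) (.nd (.lf 0x9) (.lf 0x9))) (.nd (.nd (.lf 0x8) (.lf 0x8)) (.nd (.lf 0xb) (.lf 0x9)))))))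
def depG_nbbbbab : Tr := (.nd (.nd (.nd (.nd (.nd (.nd (.lf 0xa) (.lf 0x8)) (.nd (.lf 0xb) (.lf 0xc))) (.nd (.nd (.lf 0xa) (.lf 0x3)) (.nd (.lf 0xb) (.lf 0xc)))) (.nd (.nd (.nd (.lf 0x9) (.lf 0xa)) (.nd (.lf 0xa) (.lf 0xc))) (.nd (.nd (.lf 0xa) (.lf 0xa)) (.nd (.lf 0xb) (.lf 0xc))))) (.nd (.nd (.nd (.nd (.lf 0xc) (.lf 0x8)) (.nd (.lf 0xb) (.lf 0xb))) (.nd (.nd (.lf 0x9) (.lf 0xa)) (.nd (.lf 0x9) (.lf 0xa)))) (.nd (.nd (.nd (.lf 0xa) (.lf 0xa)) (.nd (.lf 0xa) (.lf 0xb))) (.nd (.nd (.lf 0x7) (.lf 0x7)) (.nd (.lf 0xb) (.lf 0xb)))))) (.nd (.nd (.nd (.nd (.nd (.lf 0xa) (.lf 0x9)) (.nd (.lf 0x6) (.lf 0x9))) (.nd (.nd (.lf 0x9) (.lf 0xa)) (.nd (.lf 0x7) (.lf 0x9)))) (.nd (.nd (.nd (.lf 0x9) (.lf 0x8)) (.nd (.lf 0x6) (.lf 0xc)))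 (.nd (.nd (.lf 0x9) (.lf 0x9)) (.nd (.lf 0x8) (.lf 0x6))))) (.nd (.nd (.nd (.nd (.lf 0x9) (.lf 0xd)) (.nd (.lf 0xb) (.lf 0xa))) (.nd (.nd (.lf 0xb) (.lf 0xc)) (.nd (.lf 0xc) (.lf 0x5)))) (.nd (.nd (.nd (.lf 0xc) (.lf 0xb)) (.nd (.lf 0xa) (.lf 0x8))) (.nd (.nd (.lf 0xa) (.lf 0x9)) (.nd (.lf 0x9) (.lf 0)))))))
def depG_nbbbbba : Tr := (.nd (.nd (.nd (.nd (.nd (.nd (.lf 0xb) (.lf 0xa)) (.nd (.lf 0xc) (.lf 0xd))) (.nd (.nd (.lf 0xa) (.lf 0x6)) (.nd (.lf 0x9) (.lf 0x5)))) (.nd (.nd (.nd (.lf 0xa) (.lf 0xb)) (.nd (.lf 0xa) (.lf 0xc))) (.nd (.nd (.lf 0x9) (.lf 0xb)) (.nd (.lf 0xb) (.lf 0xb))))) (.nd (.nd (.nd (.nd (.lf 0xa) (.lf 0xa)) (.nd (.lf 0xa) (.lf 0x8))) (.nd (.nd (.lf 0x6) (.lf 0xb)) (.nd (.lf 0xc) (.lf 0xb)))) (.nd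 (.nd (.nd (.lf 0xc) (.lf 0xa)) (.nd (.lf 0x6) (.lf 0xc))) (.nd (.nd (.lf 0xb) (.lf 0xa)) (.nd (.lf 0xa) (.lf 0x8)))))) (.nd (.nd (.nd (.nd (.nd (.lf 0x9) (.lf 0x8)) (.nd (.lf 0xa) (.lf 0xb))) (.nd (.nd (.lf 0x9) (.lf 0x7)) (.nd (.lf 0xb) (.lf 0x3)))) (.nd (.nd (.nd (.lf 0x9) (.lf 0xc)) (.nd (.lf 0x8) (.lf 0xa))) (.nd (.nd (.lf 0x9) (.lf 0xb)) (.nd (.lf 0x6) (.lf 0x9))))) (.nd (.nd (.nd (.nd (.lf 0x3) (.lf 0xb)) (.nd (.lf 0xa) (.lf 0x7))) (.nd (.nd (.lf 0x9) (.lf 0x7)) (.nd (.lf 0xa) (.lf 0xc)))) (.nd (.nd (.nd (.lf 0xb) (.lf 0x3)) (.nd (.lf 0xa) (.lf 0xa))) (.nd (.nd (.lf 0xa) (.lf 0xc)) (.nd (.lf 0x9) (.lf 0)))))))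
def depG_nbbbbbb : Tr := (.nd (.nd (.nd (.nd (.nd (.nd (.lf 0x7) (.lf 0xa)) (.nd (.lf 0xb) (.lf 0xa))) (.nd (.nd (.lf 0x7) (.lf 0x7)) (.nd (.lf 0xa) (.lf 0x7)))) (.nd (.nd (.nd (.lf 0xb) (.lf 0xa)) (.nd (.lf 0x3) (.lf 0xa))) (.nd (.nd (.lf 0xa) (.lf 0xc)) (.nd (.lf 0xb) (.lf 0xa))))) (.nd (.nd (.nd (.nd (.lf 0x8) (.lf 0x6)) (.nd (.lf 0xc) (.lf 0x7))) (.nd (.nd (.lf 0x9) (.lf 0xa)) (.nd (.lf 0xb) (.lf 0xa)))) (.nd (.nd (.nd (.lf 0x9) (.lf 0x6)) (.nd (.lf 0xb) (.lf 0x7))) (.nd (.nd (.lf 0x9) (.lf 0x6)) (.nd (.lf 0xa) (.lf 0x7)))))) (.nd (.nd (.nd (.nd (.nd (.lf 0xc) (.lf 0x8)) (.nd (.lf 0x9) (.lf 0xb))) (.nd (.nd (.lf 0x9) (.lf 0x9)) (.nd (.lf 0x7) (.lf 0xc)))) (.nd (.nd (.nd (.lf 0x9) (.lf 0xc)) (.nd (.lf 0xc) (.lf 0xa)))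 (.nd (.nd (.lf 0x6) (.lf 0xb)) (.nd (.lf 0xa) (.lf 0x9))))) (.nd (.nd (.nd (.nd (.lf 0xa) (.lf 0x9)) (.nd (.lf 0xc) (.lf 0xc))) (.nd (.nd (.lf 0xb) (.lf 0xb)) (.nd (.lf 0xb) (.lf 0xc)))) (.nd (.nd (.nd (.lf 0x9) (.lf 0xd)) (.nd (.lf 0x9) (.lf 0x4))) (.nd (.nd (.lf 0xb) (.lf 0xa)) (.nd (.lf 0xa) (.lf 0)))))))
def depG : Tr := (.nd (.nd (.nd (.nd (.nd (.nd depG_naaaaaa depG_naaaaab) (.nd depG_naaaaba depG_naaaabb)) (.nd (.nd depG_naaabaa depG_naaabab) (.nd depG_naaabba depG_naaabbb))) (.nd (.nd (.nd depG_naabaaa depG_naabaab) (.nd depG_naababa depG_naababb)) (.nd (.nd depG_naabbaa depG_naabbab) (.nd depG_naabbba depG_naabbbb)))) (.nd (.nd (.nd (.nd depG_nabaaaa depG_nabaaab) (.nd depG_nabaaba depG_nabaabb)) (.nd (.nd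 depG_nababaa depG_nababab) (.nd depG_nababba depG_nababbb))) (.nd (.nd (.nd depG_nabbaaa depG_nabbaab) (.nd depG_nabbaba depG_nabbabb)) (.nd (.nd depG_nabbbaa depG_nabbbab) (.nd depG_nabbbba depG_nabbbbb))))) (.nd (.nd (.nd (.nd (.nd depG_nbaaaaa depG_nbaaaab) (.nd depG_nbaaaba depG_nbaaabb)) (.nd (.nd depG_nbaabaa depG_nbaabab) (.nd depG_nbaabba depG_nbaabbb))) (.nd (.nd (.nd depG_nbabaaa depG_nbabaab) (.nd depG_nbababa depG_nbababb)) (.nd (.nd depG_nbabbaa depG_nbabbab) (.nd depG_nbabbba depG_nbabbbb)))) (.nd (.nd (.nd (.nd depG_nbbaaaa depG_nbbaaab) (.nd depG_nbbaaba depG_nbbaabb)) (.nd (.nd depG_nbbabaa depG_nbbabab) (.nd depG_nbbabba depG_nbbabbb))) (.nd (.nd (.nd depG_nbbbaaa depG_nbbbaab) (.nd depG_nbbbaba depG_nbbbabb))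 (.nd (.nd depG_nbbbbaa depG_nbbbbab) (.nd depG_nbbbbba depG_nbbbbbb))))))
def phG_naaaaaa : Tr := (.nd (.nd (.nd (.nd (.nd (.nd (.lf 0x0) (.lf 0x90c)) (.nd (.lf 0x1ca1) (.lf 0x1809))) (.nd (.nd (.lf 0x6e8) (.lf 0x1029)) (.nd (.lf 0x1acc) (.lf 0x1ab9)))) (.nd (.nd (.nd (.lf 0x1cfb) (.lf 0x1e0e)) (.nd (.lf 0x1b2a) (.lf 0x936))) (.nd (.nd (.lf 0x8f3) (.lf 0xd3c)) (.nd (.lf 0xd27) (.lf 0x1aec))))) (.nd (.nd (.nd (.nd (.lf 0x2c9) (.lf 0x1c08)) (.nd (.lf 0x1042) (.lf 0x1b29))) (.nd (.nd (.lf 0x80c) (.lf 0xec6)) (.nd (.lf 0xa10) (.lf 0x108b)))) (.nd (.nd (.nd (.lf 0xfd7) (.lf 0x6d8)) (.nd (.lf 0x6fd) (.lf 0x1e06))) (.nd (.nd (.lf 0x1c3) (.lf 0xaad)) (.nd (.lf 0xba2) (.lf 0xa31)))))) (.nd (.nd (.nd (.nd (.nd (.lf 0x97b) (.lf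 0xd11)) (.nd (.lf 0x1543) (.lf 0x1310))) (.nd (.nd (.lf 0x9f0) (.lf 0x1ccd)) (.nd (.lf 0x292) (.lf 0xb43)))) (.nd (.nd (.nd (.lf 0x1a57) (.lf 0xba9)) (.nd (.lf 0x1421) (.lf 0x1fc3))) (.nd (.nd (.lf 0x156f) (.lf 0x1baf)) (.nd (.lf 0x1b8c) (.lf 0x185d))))) (.nd (.nd (.nd (.nd (.lf 0x82a) (.lf 0x243)) (.nd (.lf 0x10e8) (.lf 0x17fc))) (.nd (.nd (.lf 0x4e2) (.lf 0xd21)) (.nd (.lf 0x61d) (.lf 0x3d7)))) (.nd (.nd (.nd (.lf 0x68c) (.lf 0x1ea1)) (.nd (.lf 0x8c7) (.lf 0x6c))) (.nd (.nd (.lf 0xf37) (.lf 0xace)) (.nd (.lf 0x19b9) (.lf 0x11f2)))))))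
def phG_naaaaab : Tr := (.nd (.nd (.nd (.nd (.nd (.nd (.lf 0x71) (.lf 0xbee)) (.nd (.lf 0x1f3e) (.lf 0x175a))) (.nd (.nd (.lf 0x19c4) (.lf 0xc1a)) (.nd (.lf 0xe6f) (.lf 0x1205)))) (.nd (.nd (.nd (.lf 0x437) (.lf 0x7ae)) (.nd (.lf 0x1e27) (.lf 0x1a64))) (.nd (.nd (.lf 0x1f3c) (.lf 0x1e43)) (.nd (.lf 0x11b4) (.lf 0xcf0))))) (.nd (.nd (.nd (.nd (.lf 0xfc3) (.lf 0x1a0e)) (.nd (.lf 0x1a0) (.lf 0x7cd))) (.nd (.nd (.lf 0x8b) (.lf 0x368)) (.nd (.lf 0x199) (.lf 0x1c91)))) (.nd (.nd (.nd (.lf 0xd4c) (.lf 0x5f9)) (.nd (.lf 0x1cd9) (.lf 0x3a9))) (.nd (.nd (.lf 0x152b) (.lf 0x19ec)) (.nd (.lf 0x15b4) (.lf 0x1f05)))))) (.nd (.nd (.nd (.nd (.nd (.lf 0xd06) (.lf 0xadc)) (.nd (.lf 0x4aa) (.lf 0x1e57))) (.nd (.nd (.lf 0x19c7) (.lf 0xa0e))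 (.nd (.lf 0xc77) (.lf 0xf50)))) (.nd (.nd (.nd (.lf 0xfd0) (.lf 0x1d59)) (.nd (.lf 0x1bcb) (.lf 0x4e3))) (.nd (.nd (.lf 0x5a0) (.lf 0x19b2)) (.nd (.lf 0x9d0) (.lf 0x2b6))))) (.nd (.nd (.nd (.nd (.lf 0xa7) (.lf 0x20e)) (.nd (.lf 0x1861) (.lf 0x1b5e))) (.nd (.nd (.lf 0xc2d) (.lf 0x176b)) (.nd (.lf 0xb47) (.lf 0x1922)))) (.nd (.nd (.nd (.lf 0x11c2) (.lf 0x145)) (.nd (.lf 0xab4) (.lf 0x1c16))) (.nd (.nd (.lf 0x12ed) (.lf 0x394)) (.nd (.lf 0xbb) (.lf 0)))))))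
def phG_naaaaba : Tr := (.nd (.nd (.nd (.nd (.nd (.nd (.lf 0xc99) (.lf 0x1547)) (.nd (.lf 0x9de) (.lf 0xee))) (.nd (.nd (.lf 0x1f0e) (.lf 0xa6c)) (.nd (.lf 0x1c34) (.lf 0xd6e)))) (.nd (.nd (.nd (.lf 0x1c90) (.lf 0x656)) (.nd (.lf 0x8cf) (.lf 0x1e14))) (.nd (.nd (.lf 0x124) (.lf 0x1e19)) (.nd (.lf 0x1f92) (.lf 0x1f6e))))) (.nd (.nd (.nd (.nd (.lf 0x71b) (.lf 0x500)) (.nd (.lf 0x1c03) (.lf 0xb8))) (.nd (.nd (.lf 0x1af5) (.lf 0x198c)) (.nd (.lf 0x1dea) (.lf 0x1d95)))) (.nd (.nd (.nd (.lf 0x1bab) (.lf 0x1036)) (.nd (.lf 0x1a79) (.lf 0x1799))) (.nd (.nd (.lf 0x1230) (.lf 0x379)) (.nd (.lf 0xeb2) (.lf 0x890)))))) (.nd (.nd (.nd (.nd (.nd (.lf 0x4b9) (.lf 0x5a9)) (.nd (.lf 0xb95) (.lf 0x472))) (.nd (.nd (.lf 0x6ce) (.lf 0xc87))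 (.nd (.lf 0xfad) (.lf 0x9e)))) (.nd (.nd (.nd (.lf 0x1752) (.lf 0x1da5)) (.nd (.lf 0xcbf) (.lf 0x3d0))) (.nd (.nd (.lf 0x15dd) (.lf 0x10ad)) (.nd (.lf 0x296) (.lf 0x2fa))))) (.nd (.nd (.nd (.nd (.lf 0xa47) (.lf 0x4d6)) (.nd (.lf 0x144f) (.lf 0x1435))) (.nd (.nd (.lf 0x1874) (.lf 0x316)) (.nd (.lf 0x743) (.lf 0xac1)))) (.nd (.nd (.nd (.lf 0x16e1) (.lf 0x18ee)) (.nd (.lf 0x12b5) (.lf 0xe43))) (.nd (.nd (.lf 0x1236) (.lf 0x1408)) (.nd (.lf 0x16c6) (.lf 0x1f5)))))))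
def phG_naaaabb : Tr := (.nd (.nd (.nd (.nd (.nd (.nd (.lf 0x1def) (.lf 0x1137)) (.nd (.lf 0x1180) (.lf 0xb7a))) (.nd (.nd (.lf 0xb31) (.lf 0x979)) (.nd (.lf 0x1779) (.lf 0x1f99)))) (.nd (.nd (.nd (.lf 0x12be) (.lf 0x1c9e)) (.nd (.lf 0x1f57) (.lf 0x1d39))) (.nd (.nd (.lf 0x165b) (.lf 0x1dbc)) (.nd (.lf 0x1df6) (.lf 0xb8f))))) (.nd (.nd (.nd (.nd (.lf 0x19dd) (.lf 0x1ee0)) (.nd (.lf 0x1c56) (.lf 0x1275))) (.nd (.nd (.lf 0x756) (.lf 0x165)) (.nd (.lf 0xfc8) (.lf 0x5ea)))) (.nd (.nd (.nd (.lf 0x11a0) (.lf 0x12b1)) (.nd (.lf 0x1552) (.lf 0x1426))) (.nd (.nd (.lf 0x1821) (.lf 0x1a23)) (.nd (.lf 0x15a0) (.lf 0x163b)))))) (.nd (.nd (.nd (.nd (.nd (.lf 0xd9d) (.lf 0xd73)) (.nd (.lf 0x759) (.lf 0xb7b))) (.nd (.nd (.lf 0x16c3)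 (.lf 0x1de7)) (.nd (.lf 0x1513) (.lf 0x19b7)))) (.nd (.nd (.nd (.lf 0x10fb) (.lf 0x155)) (.nd (.lf 0x25) (.lf 0xe2e))) (.nd (.nd (.lf 0x714) (.lf 0x1ecf)) (.nd (.lf 0x1837) (.lf 0x110))))) (.nd (.nd (.nd (.nd (.lf 0x5b4) (.lf 0x149d)) (.nd (.lf 0x1271) (.lf 0x175f))) (.nd (.nd (.lf 0x15b8) (.lf 0x2b8)) (.nd (.lf 0x6d7) (.lf 0x43d)))) (.nd (.nd (.nd (.lf 0x1429) (.lf 0x47a)) (.nd (.lf 0xca2) (.lf 0x9c5))) (.nd (.nd (.lf 0x698) (.lf 0xb27)) (.nd (.lf 0xb34) (.lf 0)))))))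
def phG_naaabaa : Tr := (.nd (.nd (.nd (.nd (.nd (.nd (.lf 0x3dc) (.lf 0x1040)) (.nd (.lf 0xfb5) (.lf 0x96e))) (.nd (.nd (.lf 0x585) (.lf 0xf)) (.nd (.lf 0xb1e) (.lf 0x1935)))) (.nd (.nd (.nd (.lf 0x151d) (.lf 0x13a2)) (.nd (.lf 0x1e59) (.lf 0x11b9))) (.nd (.nd (.lf 0x1eec) (.lf 0x190a)) (.nd (.lf 0x2e2) (.lf 0xf8e))))) (.nd (.nd (.nd (.nd (.lf 0x1a21) (.lf 0x62e)) (.nd (.lf 0x1155) (.lf 0xe76))) (.nd (.nd (.lf 0x1b5c) (.lf 0x119e)) (.nd (.lf 0x139e) (.lf 0x1cf6)))) (.nd (.nd (.nd (.lf 0x184) (.lf 0x1c0a)) (.nd (.lf 0xd97) (.lf 0x1d9d))) (.nd (.nd (.lf 0x1ae6) (.lf 0x1f51)) (.nd (.lf 0x16d1) (.lf 0x128e)))))) (.nd (.nd (.nd (.nd (.nd (.lf 0x167e) (.lf 0xf12)) (.nd (.lf 0x12f9) (.lf 0x183c))) (.nd (.nd (.lf 0x72e) (.lf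 0xdbd)) (.nd (.lf 0xe88) (.lf 0x1a8e)))) (.nd (.nd (.nd (.lf 0x1585) (.lf 0x1b9e)) (.nd (.lf 0xa95) (.lf 0x12e2))) (.nd (.nd (.lf 0x2c0) (.lf 0x1057)) (.nd (.lf 0x1908) (.lf 0x779))))) (.nd (.nd (.nd (.nd (.lf 0x116d) (.lf 0x31)) (.nd (.lf 0x66a) (.lf 0x293))) (.nd (.nd (.lf 0x522) (.lf 0x14ff)) (.nd (.lf 0x1fcd) (.lf 0xd02)))) (.nd (.nd (.nd (.lf 0x1138) (.lf 0xfd1)) (.nd (.lf 0x785) (.lf 0x1780))) (.nd (.nd (.lf 0x168e) (.lf 0x1599)) (.nd (.lf 0x6a5) (.lf 0x1fd0)))))))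
def phG_naaabab : Tr := (.nd (.nd (.nd (.nd (.nd (.nd (.lf 0x39e) (.lf 0x17eb)) (.nd (.lf 0x300) (.lf 0x17c8))) (.nd (.nd (.lf 0x5) (.lf 0x11f8)) (.nd (.lf 0x107d) (.lf 0x1a77)))) (.nd (.nd (.nd (.lf 0x18c7) (.lf 0x24b)) (.nd (.lf 0x112d) (.lf 0x1fb5))) (.nd (.nd (.lf 0x1f21) (.lf 0x15b9)) (.nd (.lf 0x18c6) (.lf 0x1c6f))))) (.nd (.nd (.nd (.nd (.lf 0x164c) (.lf 0x1198)) (.nd (.lf 0x1da7) (.lf 0x1a55))) (.nd (.nd (.lf 0xbdd) (.lf 0x172b)) (.nd (.lf 0x645) (.lf 0x14b4)))) (.nd (.nd (.nd (.lf 0x146f) (.lf 0xe25)) (.nd (.lf 0x476) (.lf 0x6d6))) (.nd (.nd (.lf 0xf96) (.lf 0x1603)) (.nd (.lf 0x137) (.lf 0x1b33)))))) (.nd (.nd (.nd (.nd (.nd (.lf 0x1e9d) (.lf 0x120b)) (.nd (.lf 0x2b9) (.lf 0x1de))) (.nd (.nd (.lf 0xe66) (.lf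 0xe74)) (.nd (.lf 0x1db) (.lf 0x1b14)))) (.nd (.nd (.nd (.lf 0x1dfc) (.lf 0x1097)) (.nd (.lf 0x1ae4) (.lf 0xd2e))) (.nd (.nd (.lf 0x1aa5) (.lf 0x1aca)) (.nd (.lf 0x307) (.lf 0x1226))))) (.nd (.nd (.nd (.nd (.lf 0x1330) (.lf 0x1d1)) (.nd (.lf 0x1d1c) (.lf 0x7bb))) (.nd (.nd (.lf 0x148d) (.lf 0x74b)) (.nd (.lf 0x236) (.lf 0x125)))) (.nd (.nd (.nd (.lf 0x1b55) (.lf 0x381)) (.nd (.lf 0x7df) (.lf 0x6be))) (.nd (.nd (.lf 0x168b) (.lf 0x1c05)) (.nd (.lf 0xaaf) (.lf 0)))))))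
def phG_naaabba : Tr := (.nd (.nd (.nd (.nd (.nd (.nd (.lf 0x188d) (.lf 0x12c2)) (.nd (.lf 0x10a7) (.lf 0x145f))) (.nd (.nd (.lf 0xeaa) (.lf 0x81d)) (.nd (.lf 0x14be) (.lf 0x1777)))) (.nd (.nd (.nd (.lf 0x1b95) (.lf 0xb7c)) (.nd (.lf 0x1954) (.lf 0x217))) (.nd (.nd (.lf 0x1c8b) (.lf 0x1053)) (.nd (.lf 0x7ed) (.lf 0x3b1))))) (.nd (.nd (.nd (.nd (.lf 0x836) (.lf 0x1df1)) (.nd (.lf 0x1892) (.lf 0x110b))) (.nd (.nd (.lf 0xc1d) (.lf 0x1319)) (.nd (.lf 0x198b) (.lf 0x1e0)))) (.nd (.nd (.nd (.lf 0x18a0) (.lf 0x16d6)) (.nd (.lf 0x13a) (.lf 0x1392))) (.nd (.nd (.lf 0x134e) (.lf 0x31f)) (.nd (.lf 0x13c0) (.lf 0x154f)))))) (.nd (.nd (.nd (.nd (.nd (.lf 0x1422) (.lf 0x1b71)) (.nd (.lf 0x1897) (.lf 0xb82))) (.nd (.nd (.lf 0xcbc)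 (.lf 0x14f7)) (.nd (.lf 0x1804) (.lf 0x965)))) (.nd (.nd (.nd (.lf 0x14b1) (.lf 0x1f2d)) (.nd (.lf 0x182a) (.lf 0x1c77))) (.nd (.nd (.lf 0x1043) (.lf 0x168f)) (.nd (.lf 0xbcb) (.lf 0x5d8))))) (.nd (.nd (.nd (.nd (.lf 0x1374) (.lf 0xdde)) (.nd (.lf 0x17d1) (.lf 0x1175))) (.nd (.nd (.lf 0x13e0) (.lf 0x15f6)) (.nd (.lf 0x1855) (.lf 0x16c2)))) (.nd (.nd (.nd (.lf 0x1325) (.lf 0x7ea)) (.nd (.lf 0x1971) (.lf 0x1306))) (.nd (.nd (.lf 0xa11) (.lf 0x2c2)) (.nd (.lf 0xc5f) (.lf 0x12f)))))))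
def phG_naaabbb : Tr := (.nd (.nd (.nd (.nd (.nd (.nd (.lf 0x11a9) (.lf 0x1247)) (.nd (.lf 0x104c) (.lf 0x504))) (.nd (.nd (.lf 0x19d9) (.lf 0x87e)) (.nd (.lf 0x1594) (.lf 0x556)))) (.nd (.nd (.nd (.lf 0x104f) (.lf 0xaa7)) (.nd (.lf 0x682) (.lf 0x102a))) (.nd (.nd (.lf 0x182e) (.lf 0x596)) (.nd (.lf 0x2d9) (.lf 0x12d6))))) (.nd (.nd (.nd (.nd (.lf 0x1f6f) (.lf 0x1b54)) (.nd (.lf 0x8f2) (.lf 0x1e94))) (.nd (.nd (.lf 0xb10) (.lf 0x14c4)) (.nd (.lf 0x1ad) (.lf 0xd13)))) (.nd (.nd (.nd (.lf 0x97a) (.lf 0x352)) (.nd (.lf 0x1667) (.lf 0x1677))) (.nd (.nd (.lf 0x25c) (.lf 0x1fbf)) (.nd (.lf 0x3eb) (.lf 0x7c5)))))) (.nd (.nd (.nd (.nd (.nd (.lf 0x4d9) (.lf 0xfbf)) (.nd (.lf 0x1d49) (.lf 0xf09))) (.nd (.nd (.lf 0x126) (.lf 0x1eeb))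 (.nd (.lf 0x1b2) (.lf 0x16db)))) (.nd (.nd (.nd (.lf 0x12ac) (.lf 0x11c4)) (.nd (.lf 0x1314) (.lf 0x155e))) (.nd (.nd (.lf 0x82f) (.lf 0x1f61)) (.nd (.lf 0x68b) (.lf 0x13af))))) (.nd (.nd (.nd (.nd (.lf 0x1d65) (.lf 0x1529)) (.nd (.lf 0xa5) (.lf 0x2a6))) (.nd (.nd (.lf 0xed0) (.lf 0x356)) (.nd (.lf 0x1cd1) (.lf 0x623)))) (.nd (.nd (.nd (.lf 0x1896) (.lf 0x68d)) (.nd (.lf 0x377) (.lf 0x118e))) (.nd (.nd (.lf 0xcef) (.lf 0x1f8f)) (.nd (.lf 0x1553) (.lf 0)))))))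
def phG_naabaaa : Tr := (.nd (.nd (.nd (.nd (.nd (.nd (.lf 0x147) (.lf 0x17)) (.nd (.lf 0x1cb7) (.lf 0x158))) (.nd (.nd (.lf 0x4cd) (.lf 0x149c)) (.nd (.lf 0x14ce) (.lf 0xc57)))) (.nd (.nd (.nd (.lf 0x1f18) (.lf 0xd61)) (.nd (.lf 0x397) (.lf 0x3c8))) (.nd (.nd (.lf 0x60a) (.lf 0x19fa)) (.nd (.lf 0x791) (.lf 0x1f62))))) (.nd (.nd (.nd (.nd (.lf 0x17a3) (.lf 0x114)) (.nd (.lf 0x143e) (.lf 0xe8a))) (.nd (.nd (.lf 0x76b) (.lf 0xb57)) (.nd (.lf 0xc6e) (.lf 0xe3d)))) (.nd (.nd (.nd (.lf 0x6f4) (.lf 0x1206)) (.nd (.lf 0x1574) (.lf 0x9f2))) (.nd (.nd (.lf 0x10b1) (.lf 0x1791)) (.nd (.lf 0x6df) (.lf 0x7a4)))))) (.nd (.nd (.nd (.nd (.nd (.lf 0x5ac) (.lf 0x1b8d)) (.nd (.lf 0x1d02) (.lf 0x1145))) (.nd (.nd (.lf 0xa3d) (.lf 0x1c1))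 (.nd (.lf 0x1a) (.lf 0xee3)))) (.nd (.nd (.nd (.lf 0xf60) (.lf 0x1321)) (.nd (.lf 0x1d58) (.lf 0x1bae))) (.nd (.nd (.lf 0x2b2) (.lf 0x1ee6)) (.nd (.lf 0x1dae) (.lf 0x3bf))))) (.nd (.nd (.nd (.nd (.lf 0xd5d) (.lf 0x1ca3)) (.nd (.lf 0x15c0) (.lf 0x129e))) (.nd (.nd (.lf 0xc5e) (.lf 0x282)) (.nd (.lf 0x19b5) (.lf 0x141)))) (.nd (.nd (.nd (.lf 0x988) (.lf 0x1070)) (.nd (.lf 0x16a) (.lf 0x4f9))) (.nd (.nd (.lf 0x15eb) (.lf 0x378)) (.nd (.lf 0x212) (.lf 0x102d)))))))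
def phG_naabaab : Tr := (.nd (.nd (.nd (.nd (.nd (.nd (.lf 0x1d2b) (.lf 0x13cc)) (.nd (.lf 0x27b) (.lf 0xc08))) (.nd (.nd (.lf 0xadb) (.lf 0x7fc)) (.nd (.lf 0xb91) (.lf 0x16fc)))) (.nd (.nd (.nd (.lf 0xe6e) (.lf 0xc0a)) (.nd (.lf 0x2e6) (.lf 0xb13))) (.nd (.nd (.lf 0x1302) (.lf 0x1d8)) (.nd (.lf 0x2bc) (.lf 0xbfe))))) (.nd (.nd (.nd (.nd (.lf 0xec2) (.lf 0xdf7)) (.nd (.lf 0x622) (.lf 0x499))) (.nd (.nd (.lf 0xf26) (.lf 0x3af)) (.nd (.lf 0xf2e) (.lf 0xad)))) (.nd (.nd (.nd (.lf 0xc7) (.lf 0x1871)) (.nd (.lf 0xb68) (.lf 0x10c3))) (.nd (.nd (.lf 0x10a) (.lf 0x1717)) (.nd (.lf 0x2bd) (.lf 0x1117)))))) (.nd (.nd (.nd (.nd (.nd (.lf 0xdb8) (.lf 0xa5f)) (.nd (.lf 0x1517) (.lf 0x15af))) (.nd (.nd (.lf 0x1d26) (.lf 0x1a48))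 (.nd (.lf 0x1181) (.lf 0x3ab)))) (.nd (.nd (.nd (.lf 0x1bfe) (.lf 0x525)) (.nd (.lf 0xb78) (.lf 0x482))) (.nd (.nd (.lf 0xa87) (.lf 0x800)) (.nd (.lf 0xe80) (.lf 0xe3e))))) (.nd (.nd (.nd (.nd (.lf 0x777) (.lf 0x5d2)) (.nd (.lf 0x11ec) (.lf 0x847))) (.nd (.nd (.lf 0xabe) (.lf 0x1d76)) (.nd (.lf 0x1974) (.lf 0x1fdb)))) (.nd (.nd (.nd (.lf 0xd19) (.lf 0x1a87)) (.nd (.lf 0x16ca) (.lf 0x87a))) (.nd (.nd (.lf 0xf49) (.lf 0x857)) (.nd (.lf 0x7ad) (.lf 0)))))))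
def phG_naababa : Tr := (.nd (.nd (.nd (.nd (.nd (.nd (.lf 0x83e) (.lf 0x467)) (.nd (.lf 0x1b3d) (.lf 0xed2))) (.nd (.nd (.lf 0x27f) (.lf 0xc1c)) (.nd (.lf 0x1901) (.lf 0x1d56)))) (.nd (.nd (.nd (.lf 0x1c2b) (.lf 0xe8e)) (.nd (.lf 0x181a) (.lf 0xa8d))) (.nd (.nd (.lf 0x151f) (.lf 0x126c)) (.nd (.lf 0x1a7c) (.lf 0xb32))))) (.nd (.nd (.nd (.nd (.lf 0x1ed1) (.lf 0x1229)) (.nd (.lf 0x299) (.lf 0xaf3))) (.nd (.nd (.lf 0xf89) (.lf 0x1021)) (.nd (.lf 0x1b94) (.lf 0x59)))) (.nd (.nd (.nd (.lf 0x1159) (.lf 0x1390)) (.nd (.lf 0x1e0d) (.lf 0x1c8e))) (.nd (.nd (.lf 0x1f15) (.lf 0x8cb)) (.nd (.lf 0x29e) (.lf 0x1183)))))) (.nd (.nd (.nd (.nd (.nd (.lf 0xdc0) (.lf 0x182c)) (.nd (.lf 0xb41) (.lf 0x67e))) (.nd (.nd (.lf 0xeac) (.lf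 0x14bc)) (.nd (.lf 0x53e) (.lf 0x1d17)))) (.nd (.nd (.nd (.lf 0x12af) (.lf 0x187)) (.nd (.lf 0x1581) (.lf 0x14b5))) (.nd (.nd (.lf 0x1743) (.lf 0x9b2)) (.nd (.lf 0xb0d) (.lf 0x1ef0))))) (.nd (.nd (.nd (.nd (.lf 0xb8a) (.lf 0xb17)) (.nd (.lf 0x1823) (.lf 0x1c22))) (.nd (.nd (.lf 0xbf1) (.lf 0x1b72)) (.nd (.lf 0x1171) (.lf 0xdef)))) (.nd (.nd (.nd (.lf 0x194c) (.lf 0xdbc)) (.nd (.lf 0x127b) (.lf 0x164e))) (.nd (.nd (.lf 0x18f5) (.lf 0x1add)) (.nd (.lf 0x1a3c) (.lf 0xf99)))))))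
def phG_naababb : Tr := (.nd (.nd (.nd (.nd (.nd (.nd (.lf 0x4de) (.lf 0x1afd)) (.nd (.lf 0x1d55) (.lf 0x801))) (.nd (.nd (.lf 0x1a15) (.lf 0x1b6c)) (.nd (.lf 0x1eef) (.lf 0x12d1)))) (.nd (.nd (.nd (.lf 0xe4a) (.lf 0x940)) (.nd (.lf 0x53c) (.lf 0x141a))) (.nd (.nd (.lf 0xed7) (.lf 0xe86)) (.nd (.lf 0x50d) (.lf 0x190c))))) (.nd (.nd (.nd (.nd (.lf 0x1e24) (.lf 0x103e)) (.nd (.lf 0xdb) (.lf 0xa99))) (.nd (.nd (.lf 0x135a) (.lf 0x63b)) (.nd (.lf 0x17c7) (.lf 0x50a)))) (.nd (.nd (.nd (.lf 0xe8b) (.lf 0x5df)) (.nd (.lf 0x3be) (.lf 0x6))) (.nd (.nd (.lf 0x45a) (.lf 0x121d)) (.nd (.lf 0x4b1) (.lf 0x187e)))))) (.nd (.nd (.nd (.nd (.nd (.lf 0x1756) (.lf 0xe00)) (.nd (.lf 0x2b1) (.lf 0x1e30))) (.nd (.nd (.lf 0xa6f) (.lf 0x1502))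 (.nd (.lf 0xb2) (.lf 0x1dd0)))) (.nd (.nd (.nd (.lf 0xcc8) (.lf 0x15b2)) (.nd (.lf 0xa) (.lf 0x154b))) (.nd (.nd (.lf 0x1b74) (.lf 0x14f0)) (.nd (.lf 0xd17) (.lf 0x10f9))))) (.nd (.nd (.nd (.nd (.lf 0x677) (.lf 0x14fd)) (.nd (.lf 0x104b) (.lf 0xcb5))) (.nd (.nd (.lf 0x17e0) (.lf 0x1223)) (.nd (.lf 0x367) (.lf 0x1f93)))) (.nd (.nd (.nd (.lf 0x6ad) (.lf 0x333)) (.nd (.lf 0x8ff) (.lf 0x450))) (.nd (.nd (.lf 0x13b9) (.lf 0x1600)) (.nd (.lf 0x1216) (.lf 0)))))))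
def phG_naabbaa : Tr := (.nd (.nd (.nd (.nd (.nd (.nd (.lf 0xa9) (.lf 0x620)) (.nd (.lf 0xba5) (.lf 0x71e))) (.nd (.nd (.lf 0x491) (.lf 0x14a)) (.nd (.lf 0x1cdc) (.lf 0x1735)))) (.nd (.nd (.nd (.lf 0xf7f) (.lf 0xe10)) (.nd (.lf 0x92d) (.lf 0x65d))) (.nd (.nd (.lf 0xf38) (.lf 0x4e)) (.nd (.lf 0x7) (.lf 0x2be))))) (.nd (.nd (.nd (.nd (.lf 0x208) (.lf 0xa2f)) (.nd (.lf 0x1aac) (.lf 0x16f))) (.nd (.nd (.lf 0x132) (.lf 0xcfb)) (.nd (.lf 0x17b3) (.lf 0xd0f)))) (.nd (.nd (.nd (.lf 0x54c) (.lf 0x1c4)) (.nd (.lf 0x1cfe) (.lf 0x269))) (.nd (.nd (.lf 0x1786) (.lf 0xd4e)) (.nd (.lf 0x1e2d) (.lf 0xe5f)))))) (.nd (.nd (.nd (.nd (.nd (.lf 0xb6f) (.lf 0x1c50)) (.nd (.lf 0x174b) (.lf 0x142b))) (.nd (.nd (.lf 0x481) (.lf 0x1835)) (.nd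 (.lf 0x374) (.lf 0x1a9b)))) (.nd (.nd (.nd (.lf 0x220) (.lf 0xa6e)) (.nd (.lf 0x94d) (.lf 0x1f37))) (.nd (.nd (.lf 0x1255) (.lf 0x203)) (.nd (.lf 0x18a6) (.lf 0xa8b))))) (.nd (.nd (.nd (.nd (.lf 0x1d82) (.lf 0x11de)) (.nd (.lf 0x1c98) (.lf 0x798))) (.nd (.nd (.lf 0xfaf) (.lf 0xd45)) (.nd (.lf 0x1a3a) (.lf 0x180e)))) (.nd (.nd (.nd (.lf 0x10a0) (.lf 0x88d)) (.nd (.lf 0x1340) (.lf 0x1161))) (.nd (.nd (.lf 0x18b) (.lf 0x1eba)) (.nd (.lf 0x152) (.lf 0xeca)))))))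
def phG_naabbab : Tr := (.nd (.nd (.nd (.nd (.nd (.nd (.lf 0x1969) (.lf 0x2c1)) (.nd (.lf 0x51e) (.lf 0x15c3))) (.nd (.nd (.lf 0xbcc) (.lf 0x9f6)) (.nd (.lf 0xd7c) (.lf 0x1800)))) (.nd (.nd (.nd (.lf 0xa96) (.lf 0x24)) (.nd (.lf 0x1201) (.lf 0x1c6d))) (.nd (.nd (.lf 0xaa) (.lf 0x1526)) (.nd (.lf 0x1c0f) (.lf 0xdc9))))) (.nd (.nd (.nd (.nd (.lf 0x568) (.lf 0x1bea)) (.nd (.lf 0xc9c) (.lf 0x1107))) (.nd (.nd (.lf 0xef) (.lf 0x1dc2)) (.nd (.lf 0x16ba) (.lf 0x19c1)))) (.nd (.nd (.nd (.lf 0x18b0) (.lf 0xbc7)) (.nd (.lf 0xaa0) (.lf 0x970))) (.nd (.nd (.lf 0x1bd9) (.lf 0x1dc5)) (.nd (.lf 0x1476) (.lf 0x1072)))))) (.nd (.nd (.nd (.nd (.nd (.lf 0xa2) (.lf 0xe0b)) (.nd (.lf 0x129d) (.lf 0x1da2))) (.nd (.nd (.lf 0xcd1) (.lf 0x19b8))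 (.nd (.lf 0x550) (.lf 0x3ac)))) (.nd (.nd (.nd (.lf 0x1ae8) (.lf 0xb54)) (.nd (.lf 0x434) (.lf 0xd04))) (.nd (.nd (.lf 0x1510) (.lf 0x1e1f)) (.nd (.lf 0x1dd5) (.lf 0x1ac1))))) (.nd (.nd (.nd (.nd (.lf 0x18f9) (.lf 0xb07)) (.nd (.lf 0x1b0e) (.lf 0xfa1))) (.nd (.nd (.lf 0x1e5d) (.lf 0x1d04)) (.nd (.lf 0x80e) (.lf 0x635)))) (.nd (.nd (.nd (.lf 0x1c24) (.lf 0x1be2)) (.nd (.lf 0x997) (.lf 0x879))) (.nd (.nd (.lf 0x2ae) (.lf 0x1be3)) (.nd (.lf 0x1b6) (.lf 0)))))))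
def phG_naabbba : Tr := (.nd (.nd (.nd (.nd (.nd (.nd (.lf 0x1218) (.lf 0x126f)) (.nd (.lf 0x9eb) (.lf 0x7f8))) (.nd (.nd (.lf 0x5a4) (.lf 0xa58)) (.nd (.lf 0x12eb) (.lf 0x310)))) (.nd (.nd (.nd (.lf 0x210) (.lf 0x618)) (.nd (.lf 0xdbb) (.lf 0x13a5))) (.nd (.nd (.lf 0x1e91) (.lf 0x164d)) (.nd (.lf 0x959) (.lf 0x1b22))))) (.nd (.nd (.nd (.nd (.lf 0xbbd) (.lf 0x1174)) (.nd (.lf 0x1f8) (.lf 0x44f))) (.nd (.nd (.lf 0x163d) (.lf 0x65a)) (.nd (.lf 0xdcc) (.lf 0x13ed)))) (.nd (.nd (.nd (.lf 0x166) (.lf 0x11cd)) (.nd (.lf 0x1d4c) (.lf 0x1377))) (.nd (.nd (.lf 0xe9e) (.lf 0x5c4)) (.nd (.lf 0x1c48) (.lf 0x20c)))))) (.nd (.nd (.nd (.nd (.nd (.lf 0xa70) (.lf 0x1da1)) (.nd (.lf 0xcce) (.lf 0x953))) (.nd (.nd (.lf 0x17f8) (.lf 0x18fc))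 (.nd (.lf 0xb33) (.lf 0xa9c)))) (.nd (.nd (.nd (.lf 0x436) (.lf 0x117d)) (.nd (.lf 0x1c33) (.lf 0x659))) (.nd (.nd (.lf 0xd58) (.lf 0xb60)) (.nd (.lf 0xeb) (.lf 0x13d7))))) (.nd (.nd (.nd (.nd (.lf 0x1b41) (.lf 0x1ce2)) (.nd (.lf 0x135e) (.lf 0x1ea2))) (.nd (.nd (.lf 0x880) (.lf 0x204)) (.nd (.lf 0xe20) (.lf 0x108e)))) (.nd (.nd (.nd (.lf 0x1ab) (.lf 0xed4)) (.nd (.lf 0xa14) (.lf 0xb4f))) (.nd (.nd (.lf 0xdf6) (.lf 0xe2b)) (.nd (.lf 0xd4d) (.lf 0)))))))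
def phG_naabbbb : Tr := (.nd (.nd (.nd (.nd (.nd (.nd (.lf 0x31a) (.lf 0xb76)) (.nd (.lf 0x18b8) (.lf 0x7e6))) (.nd (.nd (.lf 0x1788) (.lf 0x1afb)) (.nd (.lf 0x47) (.lf 0x1e25)))) (.nd (.nd (.nd (.lf 0x329) (.lf 0x1c7a)) (.nd (.lf 0x195a) (.lf 0x1965))) (.nd (.nd (.lf 0x1931) (.lf 0x1fda)) (.nd (.lf 0x7f6) (.lf 0xa3a))))) (.nd (.nd (.nd (.nd (.lf 0x1ff) (.lf 0x822)) (.nd (.lf 0x5c3) (.lf 0xccf))) (.nd (.nd (.lf 0xfb1) (.lf 0x19fe)) (.nd (.lf 0x1d25) (.lf 0x1008)))) (.nd (.nd (.nd (.lf 0x172f) (.lf 0xb64)) (.nd (.lf 0x1c95) (.lf 0x1c9))) (.nd (.nd (.lf 0xd09) (.lf 0x1caa)) (.nd (.lf 0x1792) (.lf 0x19b3)))))) (.nd (.nd (.nd (.nd (.nd (.lf 0xf08) (.lf 0x1ec6)) (.nd (.lf 0x78) (.lf 0x1985))) (.nd (.nd (.lf 0xe7d) (.lf 0x69a))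 (.nd (.lf 0x1d50) (.lf 0x25f)))) (.nd (.nd (.nd (.lf 0x449) (.lf 0x13f9)) (.nd (.lf 0x854) (.lf 0x553))) (.nd (.nd (.lf 0xb6e) (.lf 0x66f)) (.nd (.lf 0x12e9) (.lf 0x14a4))))) (.nd (.nd (.nd (.nd (.lf 0x288) (.lf 0xee2)) (.nd (.lf 0x1abc) (.lf 0xf62))) (.nd (.nd (.lf 0x46a) (.lf 0x1122)) (.nd (.lf 0xa49) (.lf 0x44e)))) (.nd (.nd (.nd (.lf 0x1251) (.lf 0x1b10)) (.nd (.lf 0x872) (.lf 0xb6c))) (.nd (.nd (.lf 0x40c) (.lf 0x1283)) (.nd (.lf 0xe52) (.lf 0)))))))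
def phG_nabaaaa : Tr := (.nd (.nd (.nd (.nd (.nd (.nd (.lf 0x0) (.lf 0x90)) (.nd (.lf 0x55f) (.lf 0x7cc))) (.nd (.nd (.lf 0x1f34) (.lf 0x1c1d)) (.nd (.lf 0x1a18) (.lf 0x814)))) (.nd (.nd (.nd (.lf 0x16a8) (.lf 0xcba)) (.nd (.lf 0xf20) (.lf 0x1b76))) (.nd (.nd (.lf 0x1a33) (.lf 0x3e)) (.nd (.lf 0xf2b) (.lf 0xeab))))) (.nd (.nd (.nd (.nd (.lf 0x14) (.lf 0xf5d)) (.nd (.lf 0x1b02) (.lf 0xf3d))) (.nd (.nd (.lf 0xe16) (.lf 0x8b4)) (.nd (.lf 0x627) (.lf 0xfb3)))) (.nd (.nd (.nd (.lf 0x9f) (.lf 0x1c9f)) (.nd (.lf 0x1876) (.lf 0x18af))) (.nd (.nd (.lf 0x152e) (.lf 0x402)) (.nd (.lf 0xbc0) (.lf 0x1f23)))))) (.nd (.nd (.nd (.nd (.nd (.lf 0x2d6) (.lf 0xa78)) (.nd (.lf 0x70b) (.lf 0x1bef))) (.nd (.nd (.lf 0x75e) (.lf 0x1c70)) (.nd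 (.lf 0x1a4f) (.lf 0x545)))) (.nd (.nd (.nd (.lf 0x1d5e) (.lf 0x1b2f)) (.nd (.lf 0x1b1c) (.lf 0xafe))) (.nd (.nd (.lf 0x423) (.lf 0x3f8)) (.nd (.lf 0x1e9f) (.lf 0x15b3))))) (.nd (.nd (.nd (.nd (.lf 0x1789) (.lf 0x384)) (.nd (.lf 0x19f5) (.lf 0x1806))) (.nd (.nd (.lf 0xa5b) (.lf 0x8cc)) (.nd (.lf 0x1a29) (.lf 0x1328)))) (.nd (.nd (.nd (.lf 0x19f8) (.lf 0x188c)) (.nd (.lf 0x128c) (.lf 0x850))) (.nd (.nd (.lf 0x5d1) (.lf 0xfb)) (.nd (.lf 0x1d83) (.lf 0x1383)))))))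
def phG_nabaaab : Tr := (.nd (.nd (.nd (.nd (.nd (.nd (.lf 0x1187) (.lf 0x1536)) (.nd (.lf 0xe1) (.lf 0xed3))) (.nd (.nd (.lf 0xc7c) (.lf 0x16dc)) (.nd (.lf 0x10db) (.lf 0x1927)))) (.nd (.nd (.nd (.lf 0x1143) (.lf 0xd3e)) (.nd (.lf 0x1209) (.lf 0x63))) (.nd (.nd (.lf 0x51a) (.lf 0xb08)) (.nd (.lf 0xa0a) (.lf 0x1dcc))))) (.nd (.nd (.nd (.nd (.lf 0x1607) (.lf 0xfdb)) (.nd (.lf 0x1431) (.lf 0x602))) (.nd (.nd (.lf 0x7e4) (.lf 0x180f)) (.nd (.lf 0xaa6) (.lf 0xaa4)))) (.nd (.nd (.nd (.lf 0x1afa) (.lf 0xf1c)) (.nd (.lf 0xc52) (.lf 0x9cc))) (.nd (.nd (.lf 0x1b4a) (.lf 0xbb8)) (.nd (.lf 0x1d84) (.lf 0x893)))))) (.nd (.nd (.nd (.nd (.nd (.lf 0x11e0) (.lf 0xe75)) (.nd (.lf 0x1977) (.lf 0xc44))) (.nd (.nd (.lf 0x1487) (.lf 0xf6b))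 (.nd (.lf 0x1950) (.lf 0x18a7)))) (.nd (.nd (.nd (.lf 0xa5d) (.lf 0x1850)) (.nd (.lf 0x83d) (.lf 0xc5c))) (.nd (.nd (.lf 0x141b) (.lf 0x1b20)) (.nd (.lf 0x6b7) (.lf 0x1912))))) (.nd (.nd (.nd (.nd (.lf 0x15ea) (.lf 0xc8e)) (.nd (.lf 0x1dff) (.lf 0x10b2))) (.nd (.nd (.lf 0x1e26) (.lf 0x148c)) (.nd (.lf 0x18e2) (.lf 0xeb0)))) (.nd (.nd (.nd (.lf 0x159a) (.lf 0x268)) (.nd (.lf 0x8e9) (.lf 0x158a))) (.nd (.nd (.lf 0x1dab) (.lf 0x16d0)) (.nd (.lf 0x7a1) (.lf 0)))))))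
def phG_nabaaba : Tr := (.nd (.nd (.nd (.nd (.nd (.nd (.lf 0xa5c) (.lf 0x1291)) (.nd (.lf 0xc3c) (.lf 0x2ce))) (.nd (.nd (.lf 0xd37) (.lf 0x1c10)) (.nd (.lf 0xab) (.lf 0x332)))) (.nd (.nd (.nd (.lf 0xd10) (.lf 0x1228)) (.nd (.lf 0x1a2c) (.lf 0xcfa))) (.nd (.nd (.lf 0x18fb) (.lf 0x122)) (.nd (.lf 0xf01) (.lf 0xb01))))) (.nd (.nd (.nd (.nd (.lf 0xf04) (.lf 0x17b4)) (.nd (.lf 0x8af) (.lf 0x1da6))) (.nd (.nd (.lf 0x1a2a) (.lf 0xece)) (.nd (.lf 0xbc5) (.lf 0x9e9)))) (.nd (.nd (.nd (.lf 0x1106) (.lf 0x1d2c)) (.nd (.lf 0x258) (.lf 0xc37))) (.nd (.nd (.lf 0xe03) (.lf 0x302)) (.nd (.lf 0x17be) (.lf 0xc46)))))) (.nd (.nd (.nd (.nd (.nd (.lf 0x9b3) (.lf 0x11dd)) (.nd (.lf 0x14fc) (.lf 0x14de))) (.nd (.nd (.lf 0x1853) (.lf 0x1b84))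 (.nd (.lf 0x1ce9) (.lf 0x7a3)))) (.nd (.nd (.nd (.lf 0x6ee) (.lf 0x1439)) (.nd (.lf 0x5e2) (.lf 0x66d))) (.nd (.nd (.lf 0xd2b) (.lf 0x1705)) (.nd (.lf 0x1c19) (.lf 0x8bb))))) (.nd (.nd (.nd (.nd (.lf 0x182f) (.lf 0x1e2b)) (.nd (.lf 0x1192) (.lf 0xb6))) (.nd (.nd (.lf 0x13d0) (.lf 0x1da9)) (.nd (.lf 0xc1e) (.lf 0xd6a)))) (.nd (.nd (.nd (.lf 0x1a69) (.lf 0x1259)) (.nd (.lf 0x1069) (.lf 0x634))) (.nd (.nd (.lf 0x17ed) (.lf 0x1598)) (.nd (.lf 0x16b4) (.lf 0x1fa5)))))))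
def phG_nabaabb : Tr := (.nd (.nd (.nd (.nd (.nd (.nd (.lf 0x1c85) (.lf 0x1b36)) (.nd (.lf 0x181b) (.lf 0xfd2))) (.nd (.nd (.lf 0xe0a) (.lf 0x7d9)) (.nd (.lf 0x806) (.lf 0x1ae0)))) (.nd (.nd (.nd (.lf 0x1fce) (.lf 0xeef)) (.nd (.lf 0x67f) (.lf 0xa73))) (.nd (.nd (.lf 0x14f9) (.lf 0x1953)) (.nd (.lf 0x1eb8) (.lf 0x418))))) (.nd (.nd (.nd (.nd (.lf 0x4d1) (.lf 0x10f0)) (.nd (.lf 0x853) (.lf 0x1a4d))) (.nd (.nd (.lf 0x1384) (.lf 0x137c)) (.nd (.lf 0x1c3f) (.lf 0x1963)))) (.nd (.nd (.nd (.lf 0x11a7) (.lf 0x211)) (.nd (.lf 0x17e7) (.lf 0x199e))) (.nd (.nd (.lf 0x8c8) (.lf 0x67d)) (.nd (.lf 0x12a0) (.lf 0x829)))))) (.nd (.nd (.nd (.nd (.nd (.lf 0x1a0c) (.lf 0x21)) (.nd (.lf 0x90d) (.lf 0x13b2))) (.nd (.nd (.lf 0xa54) (.lf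 0x6a8)) (.nd (.lf 0xc15) (.lf 0x14d9)))) (.nd (.nd (.nd (.lf 0x179d) (.lf 0x1b4f)) (.nd (.lf 0x1492) (.lf 0xb26))) (.nd (.nd (.lf 0x1bf3) (.lf 0x728)) (.nd (.lf 0x1a99) (.lf 0x108a))))) (.nd (.nd (.nd (.nd (.lf 0x13a7) (.lf 0x1ce6)) (.nd (.lf 0x1ccf) (.lf 0x1453))) (.nd (.nd (.lf 0x1bad) (.lf 0x3ea)) (.nd (.lf 0x17ea) (.lf 0x1b28)))) (.nd (.nd (.nd (.lf 0xde3) (.lf 0x113a)) (.nd (.lf 0xb4b) (.lf 0x577))) (.nd (.nd (.lf 0x14a9) (.lf 0x1528)) (.nd (.lf 0x1326) (.lf 0)))))))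
def phG_nababaa : Tr := (.nd (.nd (.nd (.nd (.nd (.nd (.lf 0x408) (.lf 0x1f3f)) (.nd (.lf 0xda1) (.lf 0x1b32))) (.nd (.nd (.lf 0xce5) (.lf 0x1048)) (.nd (.lf 0x790) (.lf 0x1562)))) (.nd (.nd (.nd (.lf 0x1fc) (.lf 0x130b)) (.nd (.lf 0x1c5b) (.lf 0x3ad))) (.nd (.nd (.lf 0x1f08) (.lf 0x948)) (.nd (.lf 0x158e) (.lf 0x6e4))))) (.nd (.nd (.nd (.nd (.lf 0x554) (.lf 0x4bb)) (.nd (.lf 0x1cd4) (.lf 0x279))) (.nd (.nd (.lf 0x12a4) (.lf 0x99)) (.nd (.lf 0x4d8) (.lf 0x82c)))) (.nd (.nd (.nd (.lf 0x5ce) (.lf 0x4c5)) (.nd (.lf 0xcd3) (.lf 0x16e4))) (.nd (.nd (.lf 0x11c1) (.lf 0xc5)) (.nd (.lf 0x1af3) (.lf 0x146c)))))) (.nd (.nd (.nd (.nd (.nd (.lf 0x70) (.lf 0xb65)) (.nd (.lf 0xbe3) (.lf 0xc65))) (.nd (.nd (.lf 0x165d) (.lf 0x320))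 (.nd (.lf 0x5e1) (.lf 0xce2)))) (.nd (.nd (.nd (.lf 0x6da) (.lf 0xd74)) (.nd (.lf 0x860) (.lf 0x12de))) (.nd (.nd (.lf 0x1dca) (.lf 0x3ae)) (.nd (.lf 0xcc0) (.lf 0x1da4))))) (.nd (.nd (.nd (.nd (.lf 0x1d28) (.lf 0x33a)) (.nd (.lf 0xe63) (.lf 0x17dc))) (.nd (.nd (.lf 0x561) (.lf 0x196e)) (.nd (.lf 0xbae) (.lf 0x9fe)))) (.nd (.nd (.nd (.lf 0x1bf9) (.lf 0xe97)) (.nd (.lf 0xdf4) (.lf 0x1f0d))) (.nd (.nd (.lf 0x1002) (.lf 0x150d)) (.nd (.lf 0xa82) (.lf 0x540)))))))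
def phG_nababab : Tr := (.nd (.nd (.nd (.nd (.nd (.nd (.lf 0x19eb) (.lf 0x2c3)) (.nd (.lf 0x1cce) (.lf 0x1e0a))) (.nd (.nd (.lf 0xf51) (.lf 0x1ab3)) (.nd (.lf 0x4b0) (.lf 0x195)))) (.nd (.nd (.nd (.lf 0x1098) (.lf 0x9fd)) (.nd (.lf 0x7ee) (.lf 0x1acb))) (.nd (.nd (.lf 0x1c68) (.lf 0x1f14)) (.nd (.lf 0x1fbd) (.lf 0x1997))))) (.nd (.nd (.nd (.nd (.lf 0x2e3) (.lf 0x1b12)) (.nd (.lf 0x13cf) (.lf 0x339))) (.nd (.nd (.lf 0x15a7) (.lf 0x1bd2)) (.nd (.lf 0x189b) (.lf 0x1071)))) (.nd (.nd (.nd (.lf 0x7b3) (.lf 0x1b40)) (.nd (.lf 0x9f1) (.lf 0x14f8))) (.nd (.nd (.lf 0xcdd) (.lf 0x12dd)) (.nd (.lf 0x996) (.lf 0xc20)))))) (.nd (.nd (.nd (.nd (.nd (.lf 0x1424) (.lf 0x1d80)) (.nd (.lf 0xe0d) (.lf 0x158d))) (.nd (.nd (.lf 0x273) (.lf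 0x330)) (.nd (.lf 0x57) (.lf 0x810)))) (.nd (.nd (.nd (.lf 0x1a7) (.lf 0x86f)) (.nd (.lf 0x190d) (.lf 0x1d4b))) (.nd (.nd (.lf 0x1dee) (.lf 0x1868)) (.nd (.lf 0x1653) (.lf 0x150))))) (.nd (.nd (.nd (.nd (.lf 0xf4f) (.lf 0x15e4)) (.nd (.lf 0x1f6c) (.lf 0x1f45))) (.nd (.nd (.lf 0x12fd) (.lf 0xc63)) (.nd (.lf 0xcb8) (.lf 0x532)))) (.nd (.nd (.nd (.lf 0x1625) (.lf 0x349)) (.nd (.lf 0xef5) (.lf 0x9e3))) (.nd (.nd (.lf 0x1084) (.lf 0x1c62)) (.nd (.lf 0x16ac) (.lf 0)))))))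
def phG_nababba : Tr := (.nd (.nd (.nd (.nd (.nd (.nd (.lf 0x59a) (.lf 0xd4b)) (.nd (.lf 0xa8f) (.lf 0xd0c))) (.nd (.nd (.lf 0x7be) (.lf 0xb0a)) (.nd (.lf 0x719) (.lf 0x26d)))) (.nd (.nd (.nd (.lf 0x105a) (.lf 0xe1c)) (.nd (.lf 0x417) (.lf 0x1470))) (.nd (.nd (.lf 0x1e35) (.lf 0x1cea)) (.nd (.lf 0x1a9c) (.lf 0x1232))))) (.nd (.nd (.nd (.nd (.lf 0xdff) (.lf 0xb94)) (.nd (.lf 0x1c39) (.lf 0xe61))) (.nd (.nd (.lf 0xd3d) (.lf 0xc40)) (.nd (.lf 0x5cc) (.lf 0xfb9)))) (.nd (.nd (.nd (.lf 0x142d) (.lf 0x1389)) (.nd (.lf 0x252) (.lf 0x877))) (.nd (.nd (.lf 0x1cbd) (.lf 0x12c)) (.nd (.lf 0x1f00) (.lf 0x1674)))))) (.nd (.nd (.nd (.nd (.nd (.lf 0x285) (.lf 0xb0b)) (.nd (.lf 0x1a5e) (.lf 0x1ada))) (.nd (.nd (.lf 0x1dfe) (.lf 0x1a17))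 (.nd (.lf 0x864) (.lf 0xae8)))) (.nd (.nd (.nd (.lf 0xc47) (.lf 0x1a10)) (.nd (.lf 0x15d8) (.lf 0x1221))) (.nd (.nd (.lf 0xb80) (.lf 0xeae)) (.nd (.lf 0x1cba) (.lf 0x957))))) (.nd (.nd (.nd (.nd (.lf 0x16da) (.lf 0x18d0)) (.nd (.lf 0x16f5) (.lf 0x1c1a))) (.nd (.nd (.lf 0xf35) (.lf 0x787)) (.nd (.lf 0x82b) (.lf 0x177a)))) (.nd (.nd (.nd (.lf 0xc55) (.lf 0x654)) (.nd (.lf 0x231) (.lf 0x1723))) (.nd (.nd (.lf 0x1a61) (.lf 0x118b)) (.nd (.lf 0x18bc) (.lf 0x1e74)))))))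
def phG_nababbb : Tr := (.nd (.nd (.nd (.nd (.nd (.nd (.lf 0x74d) (.lf 0x1923)) (.nd (.lf 0x100a) (.lf 0x19f3))) (.nd (.nd (.lf 0x60) (.lf 0x1352)) (.nd (.lf 0xf03) (.lf 0x5b0)))) (.nd (.nd (.nd (.lf 0xced) (.lf 0xcc4)) (.nd (.lf 0xe48) (.lf 0x3f0))) (.nd (.nd (.lf 0x10de) (.lf 0x609)) (.nd (.lf 0x1a4a) (.lf 0x66b))))) (.nd (.nd (.nd (.nd (.lf 0x4b5) (.lf 0x74c)) (.nd (.lf 0x13d6) (.lf 0x16aa))) (.nd (.nd (.lf 0x7de) (.lf 0x4f7)) (.nd (.lf 0x1d45) (.lf 0x1b61)))) (.nd (.nd (.nd (.lf 0xf24) (.lf 0xfd8)) (.nd (.lf 0x916) (.lf 0x1f96))) (.nd (.nd (.lf 0x54d) (.lf 0x1157)) (.nd (.lf 0x146a) (.lf 0x13db)))))) (.nd (.nd (.nd (.nd (.nd (.lf 0x821) (.lf 0x1a92)) (.nd (.lf 0xba6) (.lf 0x1474))) (.nd (.nd (.lf 0x1826) (.lf 0x1a72))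 (.nd (.lf 0x1958) (.lf 0x9dd)))) (.nd (.nd (.nd (.lf 0xb35) (.lf 0x134a)) (.nd (.lf 0x1441) (.lf 0x5af))) (.nd (.nd (.lf 0x863) (.lf 0x866)) (.nd (.lf 0x342) (.lf 0x909))))) (.nd (.nd (.nd (.nd (.lf 0x3b) (.lf 0x18d2)) (.nd (.lf 0xf5) (.lf 0x1c29))) (.nd (.nd (.lf 0x1a8f) (.lf 0xc73)) (.nd (.lf 0x33f) (.lf 0x17ce)))) (.nd (.nd (.nd (.lf 0x169d) (.lf 0x1836)) (.nd (.lf 0x808) (.lf 0xcdb))) (.nd (.nd (.lf 0xe12) (.lf 0x1e87)) (.nd (.lf 0x1118) (.lf 0)))))))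
def phG_nabbaaa : Tr := (.nd (.nd (.nd (.nd (.nd (.nd (.lf 0x3c9) (.lf 0x674)) (.nd (.lf 0xb9) (.lf 0x675))) (.nd (.nd (.lf 0x1690) (.lf 0x1734)) (.nd (.lf 0xfa6) (.lf 0x1c5e)))) (.nd (.nd (.nd (.lf 0x580) (.lf 0x42d)) (.nd (.lf 0x1360) (.lf 0x1ad8))) (.nd (.nd (.lf 0x53f) (.lf 0xef6)) (.nd (.lf 0xa8e) (.lf 0x9ee))))) (.nd (.nd (.nd (.nd (.lf 0x1359) (.lf 0x426)) (.nd (.lf 0x9c9) (.lf 0x10aa))) (.nd (.nd (.lf 0x10c7) (.lf 0xfca)) (.nd (.lf 0x1d34) (.lf 0x1959)))) (.nd (.nd (.nd (.lf 0x527) (.lf 0x1dfd)) (.nd (.lf 0x4e6) (.lf 0x1cec))) (.nd (.nd (.lf 0x639) (.lf 0x1ed4)) (.nd (.lf 0x8a7) (.lf 0x13d2)))))) (.nd (.nd (.nd (.nd (.nd (.lf 0x15d6) (.lf 0x1367)) (.nd (.lf 0x13e8) (.lf 0xc93))) (.nd (.nd (.lf 0x156d) (.lf 0x117b))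 (.nd (.lf 0x1edb) (.lf 0xc17)))) (.nd (.nd (.nd (.lf 0x18ff) (.lf 0x193a)) (.nd (.lf 0x5d9) (.lf 0x57e))) (.nd (.nd (.lf 0x289) (.lf 0x421)) (.nd (.lf 0xb9e) (.lf 0x1486))))) (.nd (.nd (.nd (.nd (.lf 0x740) (.lf 0x18c5)) (.nd (.lf 0x35d) (.lf 0x84d))) (.nd (.nd (.lf 0x1501) (.lf 0x2d7)) (.nd (.lf 0x14d1) (.lf 0x16e7)))) (.nd (.nd (.nd (.lf 0x7a9) (.lf 0x8a9)) (.nd (.lf 0x19d1) (.lf 0x3d4))) (.nd (.nd (.lf 0x1679) (.lf 0x1ec0)) (.nd (.lf 0x1215) (.lf 0x52)))))))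
def phG_nabbaab : Tr := (.nd (.nd (.nd (.nd (.nd (.nd (.lf 0x11b8) (.lf 0x4c3)) (.nd (.lf 0x908) (.lf 0x1ac7))) (.nd (.nd (.lf 0x1f20) (.lf 0x1006)) (.nd (.lf 0x22e) (.lf 0x313)))) (.nd (.nd (.nd (.lf 0x194f) (.lf 0xe4b)) (.nd (.lf 0x3a4) (.lf 0xc9f))) (.nd (.nd (.lf 0x111e) (.lf 0xbb1)) (.nd (.lf 0x178b) (.lf 0xf14))))) (.nd (.nd (.nd (.nd (.lf 0x1132) (.lf 0x173c)) (.nd (.lf 0xe4d) (.lf 0xcf3))) (.nd (.nd (.lf 0xb9b) (.lf 0x1388)) (.nd (.lf 0x18a9) (.lf 0xf25)))) (.nd (.nd (.nd (.lf 0x6b5) (.lf 0x1dd)) (.nd (.lf 0x1b98) (.lf 0x1ef1))) (.nd (.nd (.lf 0x50e) (.lf 0xe3f)) (.nd (.lf 0x1a37) (.lf 0x878)))))) (.nd (.nd (.nd (.nd (.nd (.lf 0x9d5) (.lf 0x1c6c)) (.nd (.lf 0x1a6d) (.lf 0xea4))) (.nd (.nd (.lf 0x1d7) (.lf 0x32d))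 (.nd (.lf 0x398) (.lf 0xf0d)))) (.nd (.nd (.nd (.lf 0x133f) (.lf 0x7b2)) (.nd (.lf 0x1d18) (.lf 0xd46))) (.nd (.nd (.lf 0xaba) (.lf 0x2bf)) (.nd (.lf 0x665) (.lf 0x971))))) (.nd (.nd (.nd (.nd (.lf 0x16c1) (.lf 0x1a40)) (.nd (.lf 0x922) (.lf 0x1a8))) (.nd (.nd (.lf 0x1e75) (.lf 0x56a)) (.nd (.lf 0xab7) (.lf 0x1d64)))) (.nd (.nd (.nd (.lf 0x12f4) (.lf 0x1f25)) (.nd (.lf 0x16b9) (.lf 0x73c))) (.nd (.nd (.lf 0x147a) (.lf 0x1b0d)) (.nd (.lf 0x8f0) (.lf 0)))))))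
def phG_nabbaba : Tr := (.nd (.nd (.nd (.nd (.nd (.nd (.lf 0x24e) (.lf 0x190f)) (.nd (.lf 0x8f8) (.lf 0x1ccc))) (.nd (.nd (.lf 0x1030) (.lf 0x98c)) (.nd (.lf 0x12bd) (.lf 0x184f)))) (.nd (.nd (.nd (.lf 0x173) (.lf 0x19df)) (.nd (.lf 0xb99) (.lf 0x323))) (.nd (.nd (.lf 0x19ac) (.lf 0xd3f)) (.nd (.lf 0x1f9e) (.lf 0xd03))))) (.nd (.nd (.nd (.nd (.lf 0x15ba) (.lf 0x6d3)) (.nd (.lf 0xe8d) (.lf 0xe94))) (.nd (.nd (.lf 0x101d) (.lf 0x11fc)) (.nd (.lf 0x1613) (.lf 0x314)))) (.nd (.nd (.nd (.lf 0x1287) (.lf 0x1907)) (.nd (.lf 0x793) (.lf 0x19ed))) (.nd (.nd (.lf 0x668) (.lf 0xea3)) (.nd (.lf 0x1f3a) (.lf 0x88)))))) (.nd (.nd (.nd (.nd (.nd (.lf 0xeb8) (.lf 0x1346)) (.nd (.lf 0xede) (.lf 0x153))) (.nd (.nd (.lf 0x286) (.lf 0x1296))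 (.nd (.lf 0x15f2) (.lf 0xbc1)))) (.nd (.nd (.nd (.lf 0xcec) (.lf 0x172d)) (.nd (.lf 0x8a0) (.lf 0x1d09))) (.nd (.nd (.lf 0x15e9) (.lf 0x1eae)) (.nd (.lf 0x855) (.lf 0x1df9))))) (.nd (.nd (.nd (.nd (.lf 0xe2c) (.lf 0x470)) (.nd (.lf 0xb5c) (.lf 0x1c6))) (.nd (.nd (.lf 0x167f) (.lf 0x152f)) (.nd (.lf 0x1c93) (.lf 0x7e5)))) (.nd (.nd (.nd (.lf 0xf2) (.lf 0x148b)) (.nd (.lf 0x8e3) (.lf 0x1279))) (.nd (.nd (.lf 0x36f) (.lf 0x1c0e)) (.nd (.lf 0x1a28) (.lf 0x2db)))))))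
def phG_nabbabb : Tr := (.nd (.nd (.nd (.nd (.nd (.nd (.lf 0x1c86) (.lf 0x1cd3)) (.nd (.lf 0x1281) (.lf 0x1343))) (.nd (.nd (.lf 0x1db3) (.lf 0x6d)) (.nd (.lf 0x1e04) (.lf 0x193e)))) (.nd (.nd (.nd (.lf 0x1bfc) (.lf 0x1582)) (.nd (.lf 0x1f4f) (.lf 0x168))) (.nd (.nd (.lf 0x1f60) (.lf 0x1224)) (.nd (.lf 0x1c37) (.lf 0x587))))) (.nd (.nd (.nd (.nd (.lf 0xbe2) (.lf 0x166c)) (.nd (.lf 0x120d) (.lf 0x1a50))) (.nd (.nd (.lf 0x1583) (.lf 0x179c)) (.nd (.lf 0x121f) (.lf 0xafd)))) (.nd (.nd (.nd (.lf 0xa91) (.lf 0xb92)) (.nd (.lf 0x15de) (.lf 0xb3d))) (.nd (.nd (.lf 0x1f8b) (.lf 0x1990)) (.nd (.lf 0x18da) (.lf 0x18a1)))))) (.nd (.nd (.nd (.nd (.nd (.lf 0x38b) (.lf 0x1fd1)) (.nd (.lf 0x1749) (.lf 0x1288))) (.nd (.nd (.lf 0x31b)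 (.lf 0x1f35)) (.nd (.lf 0x9ec) (.lf 0x1bee)))) (.nd (.nd (.nd (.lf 0x1588) (.lf 0x1ed3)) (.nd (.lf 0x124a) (.lf 0x1d7c))) (.nd (.nd (.lf 0x1cb9) (.lf 0x15c1)) (.nd (.lf 0xac7) (.lf 0x10e2))))) (.nd (.nd (.nd (.nd (.lf 0x1a8c) (.lf 0x431)) (.nd (.lf 0x1647) (.lf 0xc6c))) (.nd (.nd (.lf 0x547) (.lf 0xb2a)) (.nd (.lf 0x1b82) (.lf 0x1880)))) (.nd (.nd (.nd (.lf 0xf4c) (.lf 0x12b6)) (.nd (.lf 0x1a49) (.lf 0xd49))) (.nd (.nd (.lf 0x1662) (.lf 0x139f)) (.nd (.lf 0x1059) (.lf 0)))))))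
def phG_nabbbaa : Tr := (.nd (.nd (.nd (.nd (.nd (.nd (.lf 0x102b) (.lf 0x451)) (.nd (.lf 0x10a3) (.lf 0xc2a))) (.nd (.nd (.lf 0x133c) (.lf 0x1d35)) (.nd (.lf 0x33d) (.lf 0x64f)))) (.nd (.nd (.nd (.lf 0x1885) (.lf 0x1f1f)) (.nd (.lf 0x1c2a) (.lf 0xb12))) (.nd (.nd (.lf 0x1b27) (.lf 0x1cf5)) (.nd (.lf 0x5f6) (.lf 0x179b))))) (.nd (.nd (.nd (.nd (.lf 0x103d) (.lf 0xa64)) (.nd (.lf 0xc23) (.lf 0xdce))) (.nd (.nd (.lf 0x2a3) (.lf 0x524)) (.nd (.lf 0x1211) (.lf 0x723)))) (.nd (.nd (.nd (.lf 0x71c) (.lf 0x17d5)) (.nd (.lf 0x17ba) (.lf 0xf13))) (.nd (.nd (.lf 0x1b00) (.lf 0xe9a)) (.nd (.lf 0x42e) (.lf 0x10e1)))))) (.nd (.nd (.nd (.nd (.nd (.lf 0x1755) (.lf 0x15ab)) (.nd (.lf 0x1d6a) (.lf 0x75f))) (.nd (.nd (.lf 0x6e7) (.lf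 0x1939)) (.nd (.lf 0x6c8) (.lf 0xfc4)))) (.nd (.nd (.nd (.lf 0x1f) (.lf 0xae9)) (.nd (.lf 0x84c) (.lf 0x1527))) (.nd (.nd (.lf 0x1962) (.lf 0x18eb)) (.nd (.lf 0x12e6) (.lf 0x130c))))) (.nd (.nd (.nd (.nd (.lf 0x1596) (.lf 0x1276)) (.nd (.lf 0x168c) (.lf 0x1d29))) (.nd (.nd (.lf 0x14eb) (.lf 0x51)) (.nd (.lf 0x1fa1) (.lf 0xc98)))) (.nd (.nd (.nd (.lf 0x1f69) (.lf 0x11eb)) (.nd (.lf 0x841) (.lf 0x13c8))) (.nd (.nd (.lf 0x16dd) (.lf 0xeeb)) (.nd (.lf 0xaca) (.lf 0x53a)))))))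
def phG_nabbbab : Tr := (.nd (.nd (.nd (.nd (.nd (.nd (.lf 0x199b) (.lf 0x1758)) (.nd (.lf 0x267) (.lf 0x1622))) (.nd (.nd (.lf 0x50) (.lf 0x1d36)) (.nd (.lf 0x1560) (.lf 0x1cc4)))) (.nd (.nd (.nd (.lf 0x81a) (.lf 0x12fc)) (.nd (.lf 0x6c7) (.lf 0x1406))) (.nd (.nd (.lf 0x28b) (.lf 0x131e)) (.nd (.lf 0xcc9) (.lf 0x1961))))) (.nd (.nd (.nd (.nd (.lf 0x1c00) (.lf 0x7a2)) (.nd (.lf 0x8bf) (.lf 0x1757))) (.nd (.nd (.lf 0xefc) (.lf 0x1eb4)) (.nd (.lf 0xa61) (.lf 0x10e9)))) (.nd (.nd (.nd (.lf 0xd8) (.lf 0x16c8)) (.nd (.lf 0x10ce) (.lf 0x7c9))) (.nd (.nd (.lf 0x189a) (.lf 0xedd)) (.nd (.lf 0xa55) (.lf 0x1c0)))))) (.nd (.nd (.nd (.nd (.nd (.lf 0x961) (.lf 0x9ea)) (.nd (.lf 0x10fe) (.lf 0x649))) (.nd (.nd (.lf 0xba8) (.lf 0xfc1))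 (.nd (.lf 0x176a) (.lf 0x177b)))) (.nd (.nd (.nd (.lf 0x4dc) (.lf 0x137f)) (.nd (.lf 0x1066) (.lf 0x1065))) (.nd (.nd (.lf 0x47c) (.lf 0x1093)) (.nd (.lf 0x1d48) (.lf 0x41b))))) (.nd (.nd (.nd (.nd (.lf 0x9c1) (.lf 0xf9f)) (.nd (.lf 0x7fe) (.lf 0xc36))) (.nd (.nd (.lf 0x432) (.lf 0xbcd)) (.nd (.lf 0x862) (.lf 0x111)))) (.nd (.nd (.nd (.lf 0x1e6f) (.lf 0x1034)) (.nd (.lf 0x12f0) (.lf 0xca6))) (.nd (.nd (.lf 0x1511) (.lf 0x1970)) (.nd (.lf 0x931) (.lf 0)))))))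
def phG_nabbbba : Tr := (.nd (.nd (.nd (.nd (.nd (.nd (.lf 0x1f7c) (.lf 0x1cb6)) (.nd (.lf 0x18c) (.lf 0xf66))) (.nd (.nd (.lf 0x2f9) (.lf 0x1726)) (.nd (.lf 0x1883) (.lf 0x439)))) (.nd (.nd (.nd (.lf 0x1a6b) (.lf 0x493)) (.nd (.lf 0x1f78) (.lf 0x1d22))) (.nd (.nd (.lf 0xd9c) (.lf 0x1316)) (.nd (.lf 0x216) (.lf 0x10ae))))) (.nd (.nd (.nd (.nd (.lf 0x648) (.lf 0x1c32)) (.nd (.lf 0x1794) (.lf 0x7e8))) (.nd (.nd (.lf 0xbbf) (.lf 0x8de)) (.nd (.lf 0x5b) (.lf 0x1660)))) (.nd (.nd (.nd (.lf 0x85f) (.lf 0x1796)) (.nd (.lf 0xdd) (.lf 0x9c2))) (.nd (.nd (.lf 0x169) (.lf 0x1be6)) (.nd (.lf 0x1b11) (.lf 0x1928)))))) (.nd (.nd (.nd (.nd (.nd (.lf 0x68a) (.lf 0x1e6d)) (.nd (.lf 0x11c3) (.lf 0x1fd7))) (.nd (.nd (.lf 0x1e84) (.lf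 0x1c94)) (.nd (.lf 0x400) (.lf 0x541)))) (.nd (.nd (.nd (.lf 0x1a07) (.lf 0xf3a)) (.nd (.lf 0x826) (.lf 0x1f4d))) (.nd (.nd (.lf 0x171c) (.lf 0x132f)) (.nd (.lf 0x2a1) (.lf 0x17d9))))) (.nd (.nd (.nd (.nd (.lf 0x7eb) (.lf 0x120f)) (.nd (.lf 0xbcf) (.lf 0x17cb))) (.nd (.nd (.lf 0x875) (.lf 0x888)) (.nd (.lf 0x1beb) (.lf 0x1c4f)))) (.nd (.nd (.nd (.lf 0x16c0) (.lf 0xa18)) (.nd (.lf 0x1554) (.lf 0x191d))) (.nd (.nd (.lf 0x1b3e) (.lf 0x301)) (.nd (.lf 0x11b0) (.lf 0)))))))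
def phG_nabbbbb : Tr := (.nd (.nd (.nd (.nd (.nd (.nd (.lf 0x19c2) (.lf 0xfab)) (.nd (.lf 0x11c5) (.lf 0xa2e))) (.nd (.nd (.lf 0x1208) (.lf 0x1a6e)) (.nd (.lf 0xb84) (.lf 0x248)))) (.nd (.nd (.nd (.lf 0xfd6) (.lf 0x47b)) (.nd (.lf 0x32c) (.lf 0x17e3))) (.nd (.nd (.lf 0x752) (.lf 0x11c9)) (.nd (.lf 0x12c0) (.lf 0x9b5))))) (.nd (.nd (.nd (.nd (.lf 0x13b8) (.lf 0x174f)) (.nd (.lf 0x1b90) (.lf 0x1955))) (.nd (.nd (.lf 0x24f) (.lf 0x12ee)) (.nd (.lf 0x1252) (.lf 0x1f4a)))) (.nd (.nd (.nd (.lf 0xddf) (.lf 0x78e)) (.nd (.lf 0xc71) (.lf 0x1df))) (.nd (.nd (.lf 0x388) (.lf 0xce3)) (.nd (.lf 0x614) (.lf 0x1469)))))) (.nd (.nd (.nd (.nd (.nd (.lf 0x160f) (.lf 0x4a7)) (.nd (.lf 0x1b6f) (.lf 0xfcb))) (.nd (.nd (.lf 0x6a4) (.lf 0x68f))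 (.nd (.lf 0x2e9) (.lf 0x1684)))) (.nd (.nd (.nd (.lf 0x17e2) (.lf 0x234)) (.nd (.lf 0x10ec) (.lf 0x15fb))) (.nd (.nd (.lf 0x1190) (.lf 0x197a)) (.nd (.lf 0xccd) (.lf 0x14aa))))) (.nd (.nd (.nd (.nd (.lf 0x14a0) (.lf 0x179f)) (.nd (.lf 0x1ee8) (.lf 0x1124))) (.nd (.nd (.lf 0xbba) (.lf 0x12c1)) (.nd (.lf 0xf6c) (.lf 0x20)))) (.nd (.nd (.nd (.lf 0x19c9) (.lf 0x1556)) (.nd (.lf 0x14b2) (.lf 0xaaa))) (.nd (.nd (.lf 0x1d9e) (.lf 0x18f8)) (.nd (.lf 0x1f9b) (.lf 0)))))))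
def phG_nbaaaaa : Tr := (.nd (.nd (.nd (.nd (.nd (.nd (.lf 0x0) (.lf 0x1e82)) (.nd (.lf 0x75b) (.lf 0x1d7d))) (.nd (.nd (.lf 0x1d77) (.lf 0x48e)) (.nd (.lf 0x1946) (.lf 0x1a9a)))) (.nd (.nd (.nd (.lf 0x14c5) (.lf 0x1f1)) (.nd (.lf 0x789) (.lf 0xc82))) (.nd (.nd (.lf 0x1c1c) (.lf 0x1c28)) (.nd (.lf 0x58a) (.lf 0x1fb0))))) (.nd (.nd (.nd (.nd (.lf 0x6f7) (.lf 0x1a00)) (.nd (.lf 0x10a9) (.lf 0x1dc4))) (.nd (.nd (.lf 0x81b) (.lf 0x1541)) (.nd (.lf 0x183) (.lf 0x1238)))) (.nd (.nd (.nd (.lf 0xdcf) (.lf 0xdab)) (.nd (.lf 0xde7) (.lf 0x43))) (.nd (.nd (.lf 0x1890) (.lf 0x735)) (.nd (.lf 0x12a3) (.lf 0x1b80)))))) (.nd (.nd (.nd (.nd (.nd (.lf 0x1b86) (.lf 0x4ae)) (.nd (.lf 0x6d1) (.lf 0x1329))) (.nd (.nd (.lf 0x968) (.lf 0x73b))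 (.nd (.lf 0x1e02) (.lf 0x17da)))) (.nd (.nd (.nd (.lf 0x238) (.lf 0x8c2)) (.nd (.lf 0x1b08) (.lf 0xfaa))) (.nd (.nd (.lf 0x1491) (.lf 0x12db)) (.nd (.lf 0x11ae) (.lf 0x112c))))) (.nd (.nd (.nd (.nd (.lf 0x1ac5) (.lf 0x15ec)) (.nd (.lf 0x1b8f) (.lf 0x18cc))) (.nd (.nd (.lf 0xabd) (.lf 0xb61)) (.nd (.lf 0xa29) (.lf 0x1292)))) (.nd (.nd (.nd (.lf 0x1494) (.lf 0xea8)) (.nd (.lf 0x205) (.lf 0x214))) (.nd (.nd (.lf 0x95a) (.lf 0x2a0)) (.nd (.lf 0x1cf0) (.lf 0x7c8)))))))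
def phG_nbaaaab : Tr := (.nd (.nd (.nd (.nd (.nd (.nd (.lf 0xb15) (.lf 0x20a)) (.nd (.lf 0x1e0b) (.lf 0x4ea))) (.nd (.nd (.lf 0x85d) (.lf 0x1bc5)) (.nd (.lf 0x10a1) (.lf 0x1e16)))) (.nd (.nd (.nd (.lf 0x1a8d) (.lf 0x1f9a)) (.nd (.lf 0xa88) (.lf 0x1978))) (.nd (.nd (.lf 0x197b) (.lf 0xf10)) (.nd (.lf 0xf91) (.lf 0x1644))))) (.nd (.nd (.nd (.nd (.lf 0xb1b) (.lf 0x232)) (.nd (.lf 0x15bf) (.lf 0x469))) (.nd (.nd (.lf 0x1482) (.lf 0xdd5)) (.nd (.lf 0x1f53) (.lf 0x1313)))) (.nd (.nd (.nd (.lf 0x1488) (.lf 0x6cf)) (.nd (.lf 0x7f4) (.lf 0x803))) (.nd (.nd (.lf 0x149e) (.lf 0x1918)) (.nd (.lf 0x510) (.lf 0x166b)))))) (.nd (.nd (.nd (.nd (.nd (.lf 0x1e29) (.lf 0x1b8a)) (.nd (.lf 0x58e) (.lf 0xd29))) (.nd (.nd (.lf 0x1480) (.lf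 0x95e)) (.nd (.lf 0xd65) (.lf 0x1444)))) (.nd (.nd (.nd (.lf 0x1706) (.lf 0xec3)) (.nd (.lf 0x96f) (.lf 0x4f))) (.nd (.nd (.lf 0xd31) (.lf 0x10da)) (.nd (.lf 0xe4f) (.lf 0x346))))) (.nd (.nd (.nd (.nd (.lf 0xc61) (.lf 0x122b)) (.nd (.lf 0xc06) (.lf 0x106f))) (.nd (.nd (.lf 0x3a2) (.lf 0x1246)) (.nd (.lf 0xcac) (.lf 0xe47)))) (.nd (.nd (.nd (.lf 0xc3f) (.lf 0x1478)) (.nd (.lf 0x96c) (.lf 0x2d))) (.nd (.nd (.lf 0x1710) (.lf 0x1a7f)) (.nd (.lf 0xefe) (.lf 0)))))))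
def phG_nbaaaba : Tr := (.nd (.nd (.nd (.nd (.nd (.nd (.lf 0x10cc) (.lf 0x5d)) (.nd (.lf 0x136b) (.lf 0x5ed))) (.nd (.nd (.lf 0x4f0) (.lf 0xa7d)) (.nd (.lf 0x1c84) (.lf 0x57c)))) (.nd (.nd (.nd (.lf 0x185b) (.lf 0x223)) (.nd (.lf 0x392) (.lf 0x1eb5))) (.nd (.nd (.lf 0x6e6) (.lf 0x8e1)) (.nd (.lf 0x23) (.lf 0x186))))) (.nd (.nd (.nd (.nd (.lf 0x1f36) (.lf 0x18a)) (.nd (.lf 0x18) (.lf 0x165e))) (.nd (.nd (.lf 0x9c3) (.lf 0x1629)) (.nd (.lf 0xf65) (.lf 0x395)))) (.nd (.nd (.nd (.lf 0xdd1) (.lf 0x1e2c)) (.nd (.lf 0x17d0) (.lf 0x178d))) (.nd (.nd (.lf 0x1b35) (.lf 0x39b)) (.nd (.lf 0x1ab5) (.lf 0x1153)))))) (.nd (.nd (.nd (.nd (.nd (.lf 0x816) (.lf 0x1464)) (.nd (.lf 0xcf6) (.lf 0xd4f))) (.nd (.nd (.lf 0xa4c) (.lf 0xc19))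 (.nd (.lf 0x574) (.lf 0x1847)))) (.nd (.nd (.nd (.lf 0x41c) (.lf 0x1a1)) (.nd (.lf 0x270) (.lf 0xaee))) (.nd (.nd (.lf 0x12f7) (.lf 0xb56)) (.nd (.lf 0x1675) (.lf 0xf5f))))) (.nd (.nd (.nd (.nd (.lf 0x782) (.lf 0x1432)) (.nd (.lf 0x1508) (.lf 0xe4))) (.nd (.nd (.lf 0x852) (.lf 0x1dad)) (.nd (.lf 0x120a) (.lf 0x1a22)))) (.nd (.nd (.nd (.lf 0x1f56) (.lf 0x150a)) (.nd (.lf 0x375) (.lf 0xebf))) (.nd (.nd (.lf 0x46f) (.lf 0x191a)) (.nd (.lf 0x25b) (.lf 0xfbe)))))))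
def phG_nbaaabb : Tr := (.nd (.nd (.nd (.nd (.nd (.nd (.lf 0x1cc7) (.lf 0x1606)) (.nd (.lf 0x1a24) (.lf 0x521))) (.nd (.nd (.lf 0x11ee) (.lf 0x694)) (.nd (.lf 0x1713) (.lf 0x1235)))) (.nd (.nd (.nd (.lf 0x795) (.lf 0xab5)) (.nd (.lf 0xf73) (.lf 0x6ec))) (.nd (.nd (.lf 0x80d) (.lf 0x1f80)) (.nd (.lf 0x794) (.lf 0x17d7))))) (.nd (.nd (.nd (.nd (.lf 0x506) (.lf 0x1ad0)) (.nd (.lf 0x4b4) (.lf 0x17f6))) (.nd (.nd (.lf 0x184c) (.lf 0x1050)) (.nd (.lf 0x13c2) (.lf 0x112a)))) (.nd (.nd (.nd (.lf 0x10ea) (.lf 0x8c5)) (.nd (.lf 0xdae) (.lf 0x62f))) (.nd (.nd (.lf 0x1135) (.lf 0xcfe)) (.nd (.lf 0x1194) (.lf 0xe87)))))) (.nd (.nd (.nd (.nd (.nd (.lf 0x128) (.lf 0x2e)) (.nd (.lf 0x603) (.lf 0x14ee))) (.nd (.nd (.lf 0x13ca) (.lf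 0xef8)) (.nd (.lf 0x6d5) (.lf 0x19ea)))) (.nd (.nd (.nd (.lf 0xc90) (.lf 0x1de1)) (.nd (.lf 0x1f6) (.lf 0xc25))) (.nd (.nd (.lf 0x466) (.lf 0x1986)) (.nd (.lf 0x1fc6) (.lf 0x1561))))) (.nd (.nd (.nd (.nd (.lf 0x1b6d) (.lf 0x136c)) (.nd (.lf 0x1c5c) (.lf 0xc8d))) (.nd (.nd (.lf 0xc7f) (.lf 0xdc4)) (.nd (.lf 0x1d7b) (.lf 0x110d)))) (.nd (.nd (.nd (.lf 0x1152) (.lf 0xb4)) (.nd (.lf 0xf85) (.lf 0xbd7))) (.nd (.nd (.lf 0x6c5) (.lf 0x12df)) (.nd (.lf 0x14cd) (.lf 0)))))))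
def phG_nbaabaa : Tr := (.nd (.nd (.nd (.nd (.nd (.nd (.lf 0x18d1) (.lf 0x583)) (.nd (.lf 0xb4e) (.lf 0x440))) (.nd (.nd (.lf 0xb74) (.lf 0x1349)) (.nd (.lf 0x1e4d) (.lf 0x4a4)))) (.nd (.nd (.nd (.lf 0x9e8) (.lf 0x956)) (.nd (.lf 0x17f0) (.lf 0x29f))) (.nd (.nd (.lf 0x1807) (.lf 0x84b)) (.nd (.lf 0x1485) (.lf 0xb06))))) (.nd (.nd (.nd (.nd (.lf 0x1b57) (.lf 0xdc8)) (.nd (.lf 0x1e) (.lf 0xa03))) (.nd (.nd (.lf 0xdc2) (.lf 0xc59)) (.nd (.lf 0x151a) (.lf 0xd71)))) (.nd (.nd (.nd (.lf 0x1a70) (.lf 0x1a9)) (.nd (.lf 0xbf2) (.lf 0x46e))) (.nd (.nd (.lf 0x1467) (.lf 0xf34)) (.nd (.lf 0x1edd) (.lf 0x1b46)))))) (.nd (.nd (.nd (.nd (.nd (.lf 0xa39) (.lf 0x186f)) (.nd (.lf 0x5db) (.lf 0x19f4))) (.nd (.nd (.lf 0x140a) (.lf 0x16be))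 (.nd (.lf 0x17e6) (.lf 0x1e05)))) (.nd (.nd (.nd (.lf 0xea2) (.lf 0x91d)) (.nd (.lf 0x93f) (.lf 0x773))) (.nd (.nd (.lf 0x10b) (.lf 0xfac)) (.nd (.lf 0x101a) (.lf 0xb22))))) (.nd (.nd (.nd (.nd (.lf 0x904) (.lf 0x1708)) (.nd (.lf 0x61) (.lf 0x89b))) (.nd (.nd (.lf 0x1b9) (.lf 0x1ceb)) (.nd (.lf 0xc54) (.lf 0x3f9)))) (.nd (.nd (.nd (.lf 0x46c) (.lf 0x1fa7)) (.nd (.lf 0xd93) (.lf 0x1bec))) (.nd (.nd (.lf 0x3fe) (.lf 0x619)) (.nd (.lf 0x161) (.lf 0x229)))))))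
def phG_nbaabab : Tr := (.nd (.nd (.nd (.nd (.nd (.nd (.lf 0x1bd7) (.lf 0x1d19)) (.nd (.lf 0x605) (.lf 0x13c4))) (.nd (.nd (.lf 0x1f6b) (.lf 0xb63)) (.nd (.lf 0x39d) (.lf 0x1147)))) (.nd (.nd (.nd (.lf 0x1dce) (.lf 0x1697)) (.nd (.lf 0x7d1) (.lf 0x92c))) (.nd (.nd (.lf 0xcab) (.lf 0xc86)) (.nd (.lf 0xdc5) (.lf 0x1ae3))))) (.nd (.nd (.nd (.nd (.lf 0xc96) (.lf 0x105d)) (.nd (.lf 0x1348) (.lf 0x1acf))) (.nd (.nd (.lf 0x1daa) (.lf 0x7d3)) (.nd (.lf 0x1d10) (.lf 0x3ed)))) (.nd (.nd (.nd (.lf 0x1500) (.lf 0x344)) (.nd (.lf 0x7b0) (.lf 0x536))) (.nd (.nd (.lf 0x276) (.lf 0x351)) (.nd (.lf 0x1e20) (.lf 0xf3c)))))) (.nd (.nd (.nd (.nd (.nd (.lf 0x247) (.lf 0x1e3b)) (.nd (.lf 0x1862) (.lf 0x9d8))) (.nd (.nd (.lf 0xa1f) (.lf 0x7ca))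 (.nd (.lf 0x88f) (.lf 0xa16)))) (.nd (.nd (.nd (.lf 0x10e3) (.lf 0x1822)) (.nd (.lf 0xf05) (.lf 0xc49))) (.nd (.nd (.lf 0x1b68) (.lf 0x2a8)) (.nd (.lf 0x1286) (.lf 0xccc))))) (.nd (.nd (.nd (.nd (.lf 0x1005) (.lf 0x1cbf)) (.nd (.lf 0x144) (.lf 0x26e))) (.nd (.nd (.lf 0xdbf) (.lf 0x1f71)) (.nd (.lf 0x14b7) (.lf 0x16f4)))) (.nd (.nd (.nd (.lf 0x175d) (.lf 0x1b21)) (.nd (.lf 0xc5b) (.lf 0x87c))) (.nd (.nd (.lf 0x924) (.lf 0x16ff)) (.nd (.lf 0x1595) (.lf 0)))))))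
def phG_nbaabba : Tr := (.nd (.nd (.nd (.nd (.nd (.nd (.lf 0x136a) (.lf 0x1aa7)) (.nd (.lf 0xde1) (.lf 0x1e48))) (.nd (.nd (.lf 0x13be) (.lf 0xb7)) (.nd (.lf 0x3d5) (.lf 0x1430)))) (.nd (.nd (.nd (.lf 0x8a8) (.lf 0x1cfc)) (.nd (.lf 0x1eaa) (.lf 0x64d))) (.nd (.nd (.lf 0x1538) (.lf 0x1a5f)) (.nd (.lf 0x1369) (.lf 0xc00))))) (.nd (.nd (.nd (.nd (.lf 0x1de9) (.lf 0x148e)) (.nd (.lf 0x1356) (.lf 0x985))) (.nd (.nd (.lf 0x91e) (.lf 0x184b)) (.nd (.lf 0xefa) (.lf 0xa80)))) (.nd (.nd (.nd (.lf 0xe3) (.lf 0xb5d)) (.nd (.lf 0x1c75) (.lf 0xc79))) (.nd (.nd (.lf 0xadf) (.lf 0x138d)) (.nd (.lf 0x1976) (.lf 0xdfc)))))) (.nd (.nd (.nd (.nd (.nd (.lf 0x1d52) (.lf 0x200)) (.nd (.lf 0x3f1) (.lf 0x76f))) (.nd (.nd (.lf 0x4b2) (.lf 0xb93))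 (.nd (.lf 0x7b4) (.lf 0x10bb)))) (.nd (.nd (.nd (.lf 0x3f) (.lf 0x59f)) (.nd (.lf 0x1d4f) (.lf 0x1f07))) (.nd (.nd (.lf 0xe99) (.lf 0x1e61)) (.nd (.lf 0x11d) (.lf 0x166e))))) (.nd (.nd (.nd (.nd (.lf 0x1f63) (.lf 0x1ed6)) (.nd (.lf 0xe2) (.lf 0x3ca))) (.nd (.nd (.lf 0x9c4) (.lf 0x480)) (.nd (.lf 0x1739) (.lf 0x1bf2)))) (.nd (.nd (.nd (.lf 0x1ccb) (.lf 0x1d62)) (.nd (.lf 0xf75) (.lf 0x1ac3))) (.nd (.nd (.lf 0xe49) (.lf 0x372)) (.nd (.lf 0xa90) (.lf 0x51b)))))))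
def phG_nbaabbb : Tr := (.nd (.nd (.nd (.nd (.nd (.nd (.lf 0x15d9) (.lf 0x180)) (.nd (.lf 0x783) (.lf 0x139))) (.nd (.nd (.lf 0x1b45) (.lf 0x1cda)) (.nd (.lf 0xaf9) (.lf 0x1984)))) (.nd (.nd (.nd (.lf 0x1731) (.lf 0x1ae9)) (.nd (.lf 0x1773) (.lf 0x1284))) (.nd (.nd (.lf 0x1375) (.lf 0x4e1)) (.nd (.lf 0xa41) (.lf 0x2a))))) (.nd (.nd (.nd (.nd (.lf 0x706) (.lf 0x625)) (.nd (.lf 0xde8) (.lf 0x1728))) (.nd (.nd (.lf 0x1fc1) (.lf 0x69b)) (.nd (.lf 0x5f2) (.lf 0x5e4)))) (.nd (.nd (.nd (.lf 0x198d) (.lf 0xbb3)) (.nd (.lf 0xf0f) (.lf 0x646))) (.nd (.nd (.lf 0x1277) (.lf 0x1663)) (.nd (.lf 0xa63) (.lf 0x655)))))) (.nd (.nd (.nd (.nd (.nd (.lf 0x1b48) (.lf 0x1a96)) (.nd (.lf 0x16d7) (.lf 0xa28))) (.nd (.nd (.lf 0x125c) (.lf 0x1e99))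 (.nd (.lf 0x444) (.lf 0x1507)))) (.nd (.nd (.nd (.lf 0x995) (.lf 0x114f)) (.nd (.lf 0x17bb) (.lf 0x173e))) (.nd (.nd (.lf 0x109a) (.lf 0x1b73)) (.nd (.lf 0x1608) (.lf 0xf81))))) (.nd (.nd (.nd (.nd (.lf 0x17cc) (.lf 0x471)) (.nd (.lf 0xf5a) (.lf 0x1e86))) (.nd (.nd (.lf 0x1df2) (.lf 0x962)) (.nd (.lf 0xe51) (.lf 0x572)))) (.nd (.nd (.nd (.lf 0x16fe) (.lf 0xce7)) (.nd (.lf 0x10bf) (.lf 0x185f))) (.nd (.nd (.lf 0x1323) (.lf 0x1a80)) (.nd (.lf 0x559) (.lf 0)))))))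
def phG_nbabaaa : Tr := (.nd (.nd (.nd (.nd (.nd (.nd (.lf 0x1fab) (.lf 0x1924)) (.nd (.lf 0x147b) (.lf 0x1c3b))) (.nd (.nd (.lf 0x1524) (.lf 0xd5f)) (.nd (.lf 0x79b) (.lf 0x1cc9)))) (.nd (.nd (.nd (.lf 0xdee) (.lf 0x1c36)) (.nd (.lf 0x7aa) (.lf 0x6ab))) (.nd (.nd (.lf 0x1d5a) (.lf 0xd1b)) (.nd (.lf 0x13e9) (.lf 0x1471))))) (.nd (.nd (.nd (.nd (.lf 0x19e3) (.lf 0xae5)) (.nd (.lf 0x1f87) (.lf 0x1f77))) (.nd (.nd (.lf 0x1372) (.lf 0xb40)) (.nd (.lf 0x3e9) (.lf 0x82e)))) (.nd (.nd (.nd (.lf 0x10ac) (.lf 0x11e2)) (.nd (.lf 0xfcc) (.lf 0xf5c))) (.nd (.nd (.lf 0x1670) (.lf 0xef9)) (.nd (.lf 0x10be) (.lf 0xbce)))))) (.nd (.nd (.nd (.nd (.nd (.lf 0x255) (.lf 0xd77)) (.nd (.lf 0x1136) (.lf 0x5c0))) (.nd (.nd (.lf 0x1719) (.lf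 0xdf2)) (.nd (.lf 0x1b19) (.lf 0x48f)))) (.nd (.nd (.nd (.lf 0x124e) (.lf 0x1b0b)) (.nd (.lf 0x131a) (.lf 0x1fbe))) (.nd (.nd (.lf 0x2f0) (.lf 0x26f)) (.nd (.lf 0x186d) (.lf 0xce6))))) (.nd (.nd (.nd (.nd (.lf 0x749) (.lf 0x1694)) (.nd (.lf 0x846) (.lf 0x1fa9))) (.nd (.nd (.lf 0x12f5) (.lf 0x150e)) (.nd (.lf 0x72d) (.lf 0x125a)))) (.nd (.nd (.nd (.lf 0x336) (.lf 0x76c)) (.nd (.lf 0x1618) (.lf 0x529))) (.nd (.nd (.lf 0xf41) (.lf 0xa60)) (.nd (.lf 0x1146) (.lf 0x945)))))))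
def phG_nbabaab : Tr := (.nd (.nd (.nd (.nd (.nd (.nd (.lf 0xdac) (.lf 0x197d)) (.nd (.lf 0xc3a) (.lf 0x1d6c))) (.nd (.nd (.lf 0x1c72) (.lf 0x1b42)) (.nd (.lf 0xafa) (.lf 0x858)))) (.nd (.nd (.nd (.lf 0xab9) (.lf 0xbea)) (.nd (.lf 0x1416) (.lf 0xda5))) (.nd (.nd (.lf 0x78a) (.lf 0x90a)) (.nd (.lf 0x12d5) (.lf 0x468))))) (.nd (.nd (.nd (.nd (.lf 0xecd) (.lf 0x1e01)) (.nd (.lf 0x686) (.lf 0x139b))) (.nd (.nd (.lf 0x1bc8) (.lf 0x1cd)) (.nd (.lf 0x13ae) (.lf 0xd3a)))) (.nd (.nd (.nd (.lf 0x11b2) (.lf 0x1b16)) (.nd (.lf 0x143c) (.lf 0x15fe))) (.nd (.nd (.lf 0x18bf) (.lf 0x513)) (.nd (.lf 0xa23) (.lf 0x1a4)))))) (.nd (.nd (.nd (.nd (.nd (.lf 0x199a) (.lf 0xef1)) (.nd (.lf 0x140c) (.lf 0xa53))) (.nd (.nd (.lf 0x25a) (.lf 0x14a5))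 (.nd (.lf 0x1682) (.lf 0x1461)))) (.nd (.nd (.nd (.lf 0x13fa) (.lf 0x1cf3)) (.nd (.lf 0x1870) (.lf 0xc95))) (.nd (.nd (.lf 0x1cbc) (.lf 0xe27)) (.nd (.lf 0x1bb9) (.lf 0x1007))))) (.nd (.nd (.nd (.nd (.lf 0x10dd) (.lf 0x172e)) (.nd (.lf 0x14b8) (.lf 0x1ef5))) (.nd (.nd (.lf 0x1718) (.lf 0x1a09)) (.nd (.lf 0xafb) (.lf 0x8ec)))) (.nd (.nd (.nd (.lf 0x18b5) (.lf 0x1c3e)) (.nd (.lf 0x973) (.lf 0xa3f))) (.nd (.nd (.lf 0x7b1) (.lf 0x36c)) (.nd (.lf 0x15cc) (.lf 0)))))))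
def phG_nbababa : Tr := (.nd (.nd (.nd (.nd (.nd (.nd (.lf 0xa04) (.lf 0x1ea9)) (.nd (.lf 0x1a04) (.lf 0x1e21))) (.nd (.nd (.lf 0x613) (.lf 0x14ae)) (.nd (.lf 0x1e5f) (.lf 0x138f)))) (.nd (.nd (.nd (.lf 0x12f6) (.lf 0x1d60)) (.nd (.lf 0x1001) (.lf 0xe60))) (.nd (.nd (.lf 0x754) (.lf 0x3d1)) (.nd (.lf 0x2f3) (.lf 0xde5))))) (.nd (.nd (.nd (.nd (.lf 0xc2b) (.lf 0x1056)) (.nd (.lf 0xf87) (.lf 0x89a))) (.nd (.nd (.lf 0x9f8) (.lf 0x127f)) (.nd (.lf 0x13bf) (.lf 0x1e8b)))) (.nd (.nd (.nd (.lf 0x1ecb) (.lf 0x1a58)) (.nd (.lf 0x1324) (.lf 0xbf4))) (.nd (.nd (.lf 0x1e08) (.lf 0xb30)) (.nd (.lf 0x12ef) (.lf 0x1c9d)))))) (.nd (.nd (.nd (.nd (.nd (.lf 0x6aa) (.lf 0x17fe)) (.nd (.lf 0x1947) (.lf 0xe84))) (.nd (.nd (.lf 0xf9c) (.lf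 0xfae)) (.nd (.lf 0xc3d) (.lf 0x1e00)))) (.nd (.nd (.nd (.lf 0x5c1) (.lf 0x1875)) (.nd (.lf 0xe90) (.lf 0x1b31))) (.nd (.nd (.lf 0x999) (.lf 0x12e3)) (.nd (.lf 0x56) (.lf 0x383))))) (.nd (.nd (.nd (.nd (.lf 0x4a9) (.lf 0x49c)) (.nd (.lf 0xd64) (.lf 0x48c))) (.nd (.nd (.lf 0xbfa) (.lf 0x14db)) (.nd (.lf 0xd25) (.lf 0x1e23)))) (.nd (.nd (.nd (.lf 0x122d) (.lf 0x1ae)) (.nd (.lf 0x1b64) (.lf 0x187f))) (.nd (.nd (.lf 0x3e3) (.lf 0xd47)) (.nd (.lf 0x1dc3) (.lf 0x34e)))))))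
def phG_nbababb : Tr := (.nd (.nd (.nd (.nd (.nd (.nd (.lf 0x27a) (.lf 0x29d)) (.nd (.lf 0xad4) (.lf 0x41a))) (.nd (.nd (.lf 0x7e0) (.lf 0x537)) (.nd (.lf 0x13fe) (.lf 0xa37)))) (.nd (.nd (.nd (.lf 0x187d) (.lf 0x932)) (.nd (.lf 0xa1b) (.lf 0x1515))) (.nd (.nd (.lf 0x186b) (.lf 0x503)) (.nd (.lf 0x86b) (.lf 0xac6))))) (.nd (.nd (.nd (.nd (.lf 0xbca) (.lf 0xa7f)) (.nd (.lf 0x176e) (.lf 0x5e3))) (.nd (.nd (.lf 0x8e5) (.lf 0x641)) (.nd (.lf 0x22f) (.lf 0x1e81)))) (.nd (.nd (.nd (.lf 0x75c) (.lf 0x11f5)) (.nd (.lf 0xd08) (.lf 0x32f))) (.nd (.nd (.lf 0x1852) (.lf 0xee1)) (.nd (.lf 0x218) (.lf 0x74e)))))) (.nd (.nd (.nd (.nd (.nd (.lf 0x1b01) (.lf 0x143)) (.nd (.lf 0xb5b) (.lf 0xdd0))) (.nd (.nd (.lf 0x6af) (.lf 0x170c))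 (.nd (.lf 0x13bc) (.lf 0x1aa3)))) (.nd (.nd (.nd (.lf 0xa22) (.lf 0x1733)) (.nd (.lf 0x642) (.lf 0x1de3))) (.nd (.nd (.lf 0x4eb) (.lf 0x657)) (.nd (.lf 0x15a4) (.lf 0x181d))))) (.nd (.nd (.nd (.nd (.lf 0x47f) (.lf 0x34c)) (.nd (.lf 0x1f10) (.lf 0x18cf))) (.nd (.nd (.lf 0x1d2e) (.lf 0x1126)) (.nd (.lf 0x145c) (.lf 0x18cb)))) (.nd (.nd (.nd (.lf 0x1661) (.lf 0x5cd)) (.nd (.lf 0x167b) (.lf 0x49d))) (.nd (.nd (.lf 0x1845) (.lf 0x1481)) (.nd (.lf 0x74a) (.lf 0)))))))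
def phG_nbabbaa : Tr := (.nd (.nd (.nd (.nd (.nd (.nd (.lf 0xbf) (.lf 0x9a0)) (.nd (.lf 0x4af) (.lf 0x3de))) (.nd (.nd (.lf 0x926) (.lf 0x14d2)) (.nd (.lf 0xca9) (.lf 0x1eb0)))) (.nd (.nd (.nd (.lf 0x1ec3) (.lf 0x182b)) (.nd (.lf 0x1e09) (.lf 0x870))) (.nd (.nd (.lf 0x762) (.lf 0x19d2)) (.nd (.lf 0xdf9) (.lf 0x9a))))) (.nd (.nd (.nd (.nd (.lf 0xbab) (.lf 0x2)) (.nd (.lf 0x5f) (.lf 0x1573))) (.nd (.nd (.lf 0xa1e) (.lf 0x1754)) (.nd (.lf 0x1fd6) (.lf 0x260)))) (.nd (.nd (.nd (.lf 0x4ce) (.lf 0x2f7)) (.nd (.lf 0x1982) (.lf 0x17af))) (.nd (.nd (.lf 0x1ee) (.lf 0x1ef6)) (.nd (.lf 0x1a54) (.lf 0x1a93)))))) (.nd (.nd (.nd (.nd (.nd (.lf 0x1b7e) (.lf 0xf80)) (.nd (.lf 0x6fc) (.lf 0x1544))) (.nd (.nd (.lf 0x67) (.lf 0x93a))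 (.nd (.lf 0x1ca7) (.lf 0xd60)))) (.nd (.nd (.nd (.lf 0x16b5) (.lf 0x1ea7)) (.nd (.lf 0x1673) (.lf 0xbde))) (.nd (.nd (.lf 0x54e) (.lf 0xb2d)) (.nd (.lf 0x391) (.lf 0xacc))))) (.nd (.nd (.nd (.nd (.lf 0x1380) (.lf 0x1ce4)) (.nd (.lf 0x123) (.lf 0x1399))) (.nd (.nd (.lf 0x2c4) (.lf 0x1e72)) (.nd (.lf 0x341) (.lf 0x1cdd)))) (.nd (.nd (.nd (.lf 0x11aa) (.lf 0x17ff)) (.nd (.lf 0x1dd2) (.lf 0x1231))) (.nd (.nd (.lf 0x1067) (.lf 0x11c7)) (.nd (.lf 0x18ae) (.lf 0x8fc)))))))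
def phG_nbabbab : Tr := (.nd (.nd (.nd (.nd (.nd (.nd (.lf 0x1f9c) (.lf 0xc64)) (.nd (.lf 0x478) (.lf 0x1816))) (.nd (.nd (.lf 0x1c46) (.lf 0x166f)) (.nd (.lf 0x9d6) (.lf 0x1cab)))) (.nd (.nd (.nd (.lf 0xc30) (.lf 0x1769)) (.nd (.lf 0x1f0b) (.lf 0x1a27))) (.nd (.nd (.lf 0x362) (.lf 0x14bb)) (.nd (.lf 0xd33) (.lf 0x441))))) (.nd (.nd (.nd (.nd (.lf 0x18f3) (.lf 0x1b07)) (.nd (.lf 0x1c74) (.lf 0x16bb))) (.nd (.nd (.lf 0xad8) (.lf 0xb02)) (.nd (.lf 0x165a) (.lf 0x624)))) (.nd (.nd (.nd (.lf 0x6cc) (.lf 0x915)) (.nd (.lf 0x1641) (.lf 0x1563))) (.nd (.nd (.lf 0x85a) (.lf 0x30c)) (.nd (.lf 0xb19) (.lf 0xe72)))))) (.nd (.nd (.nd (.nd (.nd (.lf 0x77e) (.lf 0x1184)) (.nd (.lf 0x1bcd) (.lf 0x8ae))) (.nd (.nd (.lf 0x88e) (.lf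 0x488)) (.nd (.lf 0x10df) (.lf 0x1ea0)))) (.nd (.nd (.nd (.lf 0x1c8) (.lf 0x1b9a)) (.nd (.lf 0x16af) (.lf 0x19bd))) (.nd (.nd (.lf 0x41) (.lf 0x1a85)) (.nd (.lf 0x604) (.lf 0x492))))) (.nd (.nd (.nd (.nd (.lf 0x1e8e) (.lf 0x1baa)) (.nd (.lf 0x445) (.lf 0x1814))) (.nd (.nd (.lf 0x3d2) (.lf 0x170d)) (.nd (.lf 0x19e2) (.lf 0x1ecc)))) (.nd (.nd (.nd (.lf 0x16ec) (.lf 0xfc)) (.nd (.lf 0x38) (.lf 0x9e4))) (.nd (.nd (.lf 0x1bcf) (.lf 0x1dfb)) (.nd (.lf 0x340) (.lf 0)))))))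
def phG_nbabbba : Tr := (.nd (.nd (.nd (.nd (.nd (.nd (.lf 0xdc3) (.lf 0xaf6)) (.nd (.lf 0x11b3) (.lf 0xc0d))) (.nd (.nd (.lf 0xb50) (.lf 0x5c7)) (.nd (.lf 0x1c2d) (.lf 0x717)))) (.nd (.nd (.nd (.lf 0x3d) (.lf 0x134c)) (.nd (.lf 0x6e3) (.lf 0x1d5f))) (.nd (.nd (.lf 0x1f38) (.lf 0x2ff)) (.nd (.lf 0x9bf) (.lf 0x1081))))) (.nd (.nd (.nd (.nd (.lf 0x16df) (.lf 0x1748)) (.nd (.lf 0x1615) (.lf 0x164a))) (.nd (.nd (.lf 0x19cc) (.lf 0x1a91)) (.nd (.lf 0x107a) (.lf 0x1366)))) (.nd (.nd (.nd (.lf 0x1bc2) (.lf 0x1ea8)) (.nd (.lf 0x1f5a) (.lf 0x99a))) (.nd (.nd (.lf 0x972) (.lf 0x195e)) (.nd (.lf 0x19e4) (.lf 0x1f43)))))) (.nd (.nd (.nd (.nd (.nd (.lf 0x131b) (.lf 0x159f)) (.nd (.lf 0xb70) (.lf 0x1808))) (.nd (.nd (.lf 0x1460)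 (.lf 0xc12)) (.nd (.lf 0x12d7) (.lf 0x250)))) (.nd (.nd (.nd (.lf 0x700) (.lf 0xad0)) (.nd (.lf 0x1186) (.lf 0xb52))) (.nd (.nd (.lf 0xc83) (.lf 0x118)) (.nd (.lf 0x873) (.lf 0x1ed0))))) (.nd (.nd (.nd (.nd (.lf 0x13a9) (.lf 0x1e18)) (.nd (.lf 0x1d4d) (.lf 0x508))) (.nd (.nd (.lf 0xa2c) (.lf 0x315)) (.nd (.lf 0x7fd) (.lf 0xe31)))) (.nd (.nd (.nd (.lf 0x354) (.lf 0x18e9)) (.nd (.lf 0x1830) (.lf 0x16d5))) (.nd (.nd (.lf 0x424) (.lf 0x12c8)) (.nd (.lf 0x1019) (.lf 0)))))))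
def phG_nbabbbb : Tr := (.nd (.nd (.nd (.nd (.nd (.nd (.lf 0x1506) (.lf 0x209)) (.nd (.lf 0x1623) (.lf 0x11c0))) (.nd (.nd (.lf 0xf79) (.lf 0x1be1)) (.nd (.lf 0x978) (.lf 0x11cb)))) (.nd (.nd (.nd (.lf 0x6e9) (.lf 0x13c1)) (.nd (.lf 0x12a6) (.lf 0x1f0f))) (.nd (.nd (.lf 0x1c87) (.lf 0x1cb5)) (.nd (.lf 0x132d) (.lf 0x1a84))))) (.nd (.nd (.nd (.nd (.lf 0x6dd) (.lf 0x1bd5)) (.nd (.lf 0xea) (.lf 0x1584))) (.nd (.nd (.lf 0x15e1) (.lf 0x135)) (.nd (.lf 0x147c) (.lf 0x1edc)))) (.nd (.nd (.nd (.lf 0x145b) (.lf 0x19a6)) (.nd (.lf 0x952) (.lf 0x598))) (.nd (.nd (.lf 0x2c8) (.lf 0x64a)) (.nd (.lf 0xb0) (.lf 0x1b5b)))))) (.nd (.nd (.nd (.nd (.nd (.lf 0xf9a) (.lf 0x306)) (.nd (.lf 0x629) (.lf 0x1f22))) (.nd (.nd (.lf 0x1941) (.lf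 0x153a)) (.nd (.lf 0x1e52) (.lf 0x96a)))) (.nd (.nd (.nd (.lf 0x1fad) (.lf 0xc80)) (.nd (.lf 0x7d5) (.lf 0xdd6))) (.nd (.nd (.lf 0x140b) (.lf 0x1683)) (.nd (.lf 0x2dc) (.lf 0x1895))))) (.nd (.nd (.nd (.nd (.lf 0xd86) (.lf 0x1397)) (.nd (.lf 0x981) (.lf 0x1616))) (.nd (.nd (.lf 0x35c) (.lf 0x1c35)) (.nd (.lf 0x1017) (.lf 0x16fb)))) (.nd (.nd (.nd (.lf 0x715) (.lf 0x428)) (.nd (.lf 0x2af) (.lf 0x1866))) (.nd (.nd (.lf 0x7ac) (.lf 0x12f3)) (.nd (.lf 0x1a4c) (.lf 0)))))))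
def phG_nbbaaaa : Tr := (.nd (.nd (.nd (.nd (.nd (.nd (.lf 0x10d2) (.lf 0x19c8)) (.nd (.lf 0x5dd) (.lf 0x638))) (.nd (.nd (.lf 0x1642) (.lf 0x1797)) (.nd (.lf 0x1437) (.lf 0xbaf)))) (.nd (.nd (.nd (.lf 0xb6a) (.lf 0x1d8e)) (.nd (.lf 0x16cc) (.lf 0x16ee))) (.nd (.nd (.lf 0x1ba8) (.lf 0x1fc5)) (.nd (.lf 0x12e5) (.lf 0x963))))) (.nd (.nd (.nd (.nd (.lf 0x16b1) (.lf 0x1714)) (.nd (.lf 0x5bb) (.lf 0x495))) (.nd (.nd (.lf 0x809) (.lf 0x5de)) (.nd (.lf 0x152a) (.lf 0x1bc7)))) (.nd (.nd (.nd (.lf 0xc45) (.lf 0x720)) (.nd (.lf 0x1ce5) (.lf 0xdb3))) (.nd (.nd (.lf 0xc3) (.lf 0x1c76)) (.nd (.lf 0xd76) (.lf 0xec0)))))) (.nd (.nd (.nd (.nd (.nd (.lf 0x17ee) (.lf 0xbe6)) (.nd (.lf 0xdfb) (.lf 0xb6d))) (.nd (.nd (.lf 0x1289) (.lf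 0x14cc)) (.nd (.lf 0x3ef) (.lf 0xcdf)))) (.nd (.nd (.nd (.lf 0xa21) (.lf 0xaac)) (.nd (.lf 0x1988) (.lf 0xfc2))) (.nd (.nd (.lf 0x1128) (.lf 0x16e5)) (.nd (.lf 0xf8a) (.lf 0xb87))))) (.nd (.nd (.nd (.nd (.lf 0x1e93) (.lf 0x1575)) (.nd (.lf 0x64c) (.lf 0xde6))) (.nd (.nd (.lf 0x1332) (.lf 0x7e3)) (.nd (.lf 0x1dde) (.lf 0x196f)))) (.nd (.nd (.nd (.lf 0x1351) (.lf 0x17b)) (.nd (.lf 0xb1) (.lf 0x1522))) (.nd (.nd (.lf 0x1144) (.lf 0xc97)) (.nd (.lf 0xf45) (.lf 0x167)))))))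
def phG_nbbaaab : Tr := (.nd (.nd (.nd (.nd (.nd (.nd (.lf 0x6ac) (.lf 0x8da)) (.nd (.lf 0x69d) (.lf 0xddc))) (.nd (.nd (.lf 0x369) (.lf 0x1e1e)) (.nd (.lf 0x13b1) (.lf 0x1a01)))) (.nd (.nd (.nd (.lf 0x18f0) (.lf 0x12c3)) (.nd (.lf 0x195d) (.lf 0x1fba))) (.nd (.nd (.lf 0x126e) (.lf 0x137d)) (.nd (.lf 0x170e) (.lf 0x19aa))))) (.nd (.nd (.nd (.nd (.lf 0x10a2) (.lf 0x1472)) (.nd (.lf 0xa35) (.lf 0xa76))) (.nd (.nd (.lf 0x78f) (.lf 0x515)) (.nd (.lf 0x1f5b) (.lf 0x201)))) (.nd (.nd (.nd (.lf 0xb86) (.lf 0x18b4)) (.nd (.lf 0x1c3c) (.lf 0x9c0))) (.nd (.nd (.lf 0x1d32) (.lf 0x154)) (.nd (.lf 0x235) (.lf 0x157e)))))) (.nd (.nd (.nd (.nd (.nd (.lf 0x35e) (.lf 0x8bc)) (.nd (.lf 0x1dd7) (.lf 0x1591))) (.nd (.nd (.lf 0x1d27) (.lf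 0xd7f)) (.nd (.lf 0x99c) (.lf 0x4a5)))) (.nd (.nd (.nd (.lf 0x1dd1) (.lf 0xf6f)) (.nd (.lf 0xe81) (.lf 0x5a))) (.nd (.nd (.lf 0xdd8) (.lf 0x1878)) (.nd (.lf 0x10ca) (.lf 0x55))))) (.nd (.nd (.nd (.nd (.lf 0x845) (.lf 0x1dbf)) (.nd (.lf 0x594) (.lf 0xdfd))) (.nd (.nd (.lf 0x96) (.lf 0xcb9)) (.nd (.lf 0x660) (.lf 0x1405)))) (.nd (.nd (.nd (.lf 0x520) (.lf 0x15bc)) (.nd (.lf 0x1f40) (.lf 0x1d79))) (.nd (.nd (.lf 0x1648) (.lf 0x1a5b)) (.nd (.lf 0x1e88) (.lf 0)))))))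
def phG_nbbaaba : Tr := (.nd (.nd (.nd (.nd (.nd (.nd (.lf 0xc8a) (.lf 0x1811)) (.nd (.lf 0x543) (.lf 0x18c8))) (.nd (.nd (.lf 0x1b25) (.lf 0x2da)) (.nd (.lf 0x2b5) (.lf 0x132e)))) (.nd (.nd (.nd (.lf 0xddb) (.lf 0x1055)) (.nd (.lf 0xae6) (.lf 0x10d8))) (.nd (.nd (.lf 0x120c) (.lf 0xb05)) (.nd (.lf 0x687) (.lf 0x15ad))))) (.nd (.nd (.nd (.nd (.lf 0x788) (.lf 0x1ca6)) (.nd (.lf 0x1cdf) (.lf 0x57b))) (.nd (.nd (.lf 0x144d) (.lf 0xc24)) (.nd (.lf 0xf2a) (.lf 0xd62)))) (.nd (.nd (.nd (.lf 0x1250) (.lf 0x18dc)) (.nd (.lf 0x462) (.lf 0x13d5))) (.nd (.nd (.lf 0xfd4) (.lf 0x45b)) (.nd (.lf 0xe83) (.lf 0xb1c)))))) (.nd (.nd (.nd (.nd (.nd (.lf 0x1024) (.lf 0xda2)) (.nd (.lf 0x907) (.lf 0x1a56))) (.nd (.nd (.lf 0x36b) (.lf 0x34a))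 (.nd (.lf 0x169a) (.lf 0x1376)))) (.nd (.nd (.nd (.lf 0x348) (.lf 0x271)) (.nd (.lf 0x897) (.lf 0x116f))) (.nd (.nd (.lf 0x1309) (.lf 0x1ee9)) (.nd (.lf 0x183e) (.lf 0xa09))))) (.nd (.nd (.nd (.nd (.lf 0x57a) (.lf 0x21f)) (.nd (.lf 0x6ca) (.lf 0x1078))) (.nd (.nd (.lf 0x1442) (.lf 0x1634)) (.nd (.lf 0x1aa) (.lf 0x13e3)))) (.nd (.nd (.nd (.lf 0x1ad3) (.lf 0x1cc8)) (.nd (.lf 0x1e66) (.lf 0x38f))) (.nd (.nd (.lf 0x729) (.lf 0x1311)) (.nd (.lf 0x12bf) (.lf 0x1013)))))))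
def phG_nbbaabb : Tr := (.nd (.nd (.nd (.nd (.nd (.nd (.lf 0x1577) (.lf 0xf1e)) (.nd (.lf 0x951) (.lf 0x1ddc))) (.nd (.nd (.lf 0x6d4) (.lf 0x5ad)) (.nd (.lf 0x681) (.lf 0x19b1)))) (.nd (.nd (.nd (.lf 0x10f7) (.lf 0x6bd)) (.nd (.lf 0xacb) (.lf 0x259))) (.nd (.nd (.lf 0x13ce) (.lf 0x1680)) (.nd (.lf 0x13b0) (.lf 0x13e2))))) (.nd (.nd (.nd (.nd (.lf 0xc4) (.lf 0xab8)) (.nd (.lf 0x8c0) (.lf 0x14ab))) (.nd (.nd (.lf 0x17d2) (.lf 0x360)) (.nd (.lf 0xbfd) (.lf 0x1fac)))) (.nd (.nd (.nd (.lf 0xa1c) (.lf 0x1c0d)) (.nd (.lf 0x8d5) (.lf 0x16b7))) (.nd (.nd (.lf 0x11e1) (.lf 0x60b)) (.nd (.lf 0x1a2f) (.lf 0x896)))))) (.nd (.nd (.nd (.nd (.nd (.lf 0x79c) (.lf 0x104a)) (.nd (.lf 0x1adc) (.lf 0x1841))) (.nd (.nd (.lf 0x1c4e) (.lf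 0x6ea)) (.nd (.lf 0x1354) (.lf 0x3b6)))) (.nd (.nd (.nd (.lf 0x1913) (.lf 0x1e7b)) (.nd (.lf 0x17a2) (.lf 0x29))) (.nd (.nd (.lf 0x6f1) (.lf 0xe9b)) (.nd (.lf 0x1627) (.lf 0x3b5))))) (.nd (.nd (.nd (.nd (.lf 0x11b6) (.lf 0x1e6e)) (.nd (.lf 0x489) (.lf 0x1363))) (.nd (.nd (.lf 0x7d0) (.lf 0xa2a)) (.nd (.lf 0x1ec4) (.lf 0xc5d)))) (.nd (.nd (.nd (.lf 0x413) (.lf 0x3b8)) (.nd (.lf 0x455) (.lf 0x77d))) (.nd (.nd (.lf 0x175e) (.lf 0x5bc)) (.nd (.lf 0x1faa) (.lf 0)))))))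
def phG_nbbabaa : Tr := (.nd (.nd (.nd (.nd (.nd (.nd (.lf 0x813) (.lf 0x100d)) (.nd (.lf 0x3a5) (.lf 0x1693))) (.nd (.nd (.lf 0x33c) (.lf 0x1fb)) (.nd (.lf 0x72) (.lf 0x986)))) (.nd (.nd (.nd (.lf 0xd9e) (.lf 0xd84)) (.nd (.lf 0x12b8) (.lf 0x59e))) (.nd (.nd (.lf 0xe1f) (.lf 0xbf3)) (.nd (.lf 0x1503) (.lf 0x8a3))))) (.nd (.nd (.nd (.nd (.lf 0x8b8) (.lf 0x920)) (.nd (.lf 0x283) (.lf 0x1995))) (.nd (.nd (.lf 0x10a8) (.lf 0x1eca)) (.nd (.lf 0x562) (.lf 0xa34)))) (.nd (.nd (.nd (.lf 0xb58) (.lf 0xeba)) (.nd (.lf 0x1c20) (.lf 0x1da0))) (.nd (.nd (.lf 0xf6e) (.lf 0xc4a)) (.nd (.lf 0x173b) (.lf 0x1c57)))))) (.nd (.nd (.nd (.nd (.nd (.lf 0x12b7) (.lf 0xf18)) (.nd (.lf 0x177c) (.lf 0x14c))) (.nd (.nd (.lf 0x13e) (.lf 0xd7d))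 (.nd (.lf 0x1d8c) (.lf 0x1b4b)))) (.nd (.nd (.nd (.lf 0x4a) (.lf 0x1303)) (.nd (.lf 0x176d) (.lf 0x15a9))) (.nd (.nd (.lf 0x19e1) (.lf 0xb55)) (.nd (.lf 0x1a1c) (.lf 0x1d8b))))) (.nd (.nd (.nd (.nd (.lf 0xe02) (.lf 0xf31)) (.nd (.lf 0x13f) (.lf 0x19c6))) (.nd (.nd (.lf 0x569) (.lf 0x5ff)) (.nd (.lf 0x13f4) (.lf 0x13d1)))) (.nd (.nd (.nd (.lf 0x17fd) (.lf 0xa0c)) (.nd (.lf 0xc69) (.lf 0x230))) (.nd (.nd (.lf 0xb96) (.lf 0x111d)) (.nd (.lf 0x15cf) (.lf 0x16de)))))))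
def phG_nbbabab : Tr := (.nd (.nd (.nd (.nd (.nd (.nd (.lf 0x1e17) (.lf 0xdf)) (.nd (.lf 0x1e8a) (.lf 0x15d3))) (.nd (.nd (.lf 0x1932) (.lf 0x1586)) (.nd (.lf 0x19e6) (.lf 0x1c3d)))) (.nd (.nd (.nd (.lf 0x12b0) (.lf 0x1658)) (.nd (.lf 0x1685) (.lf 0x389))) (.nd (.nd (.lf 0xae0) (.lf 0x1a02)) (.nd (.lf 0xc35) (.lf 0xf71))))) (.nd (.nd (.nd (.nd (.lf 0x140) (.lf 0x1094)) (.nd (.lf 0xb83) (.lf 0x30))) (.nd (.nd (.lf 0xc3e) (.lf 0x805)) (.nd (.lf 0x144a) (.lf 0x11fa)))) (.nd (.nd (.nd (.lf 0xdc6) (.lf 0x955)) (.nd (.lf 0x1989) (.lf 0x1767))) (.nd (.nd (.lf 0x1fb3) (.lf 0x1f91)) (.nd (.lf 0x1fb7) (.lf 0xd52)))))) (.nd (.nd (.nd (.nd (.nd (.lf 0x7fa) (.lf 0x161d)) (.nd (.lf 0x1189) (.lf 0x1576))) (.nd (.nd (.lf 0x10c2) (.lf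 0x14b9)) (.nd (.lf 0x120) (.lf 0x1dd9)))) (.nd (.nd (.nd (.lf 0xd7e) (.lf 0xecf)) (.nd (.lf 0xbd0) (.lf 0x12c9))) (.nd (.nd (.lf 0x106c) (.lf 0xce)) (.nd (.lf 0xe93) (.lf 0x10b7))))) (.nd (.nd (.nd (.nd (.lf 0x11d3) (.lf 0x1417)) (.nd (.lf 0x114a) (.lf 0x19e0))) (.nd (.nd (.lf 0x3f5) (.lf 0x1e7)) (.nd (.lf 0x575) (.lf 0x55c)))) (.nd (.nd (.nd (.lf 0x153e) (.lf 0x1a53)) (.nd (.lf 0x13aa) (.lf 0x145e))) (.nd (.nd (.lf 0x75) (.lf 0x9c8)) (.nd (.lf 0x237) (.lf 0)))))))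
def phG_nbbabba : Tr := (.nd (.nd (.nd (.nd (.nd (.nd (.lf 0x1504) (.lf 0x45)) (.nd (.lf 0xe26) (.lf 0x1af9))) (.nd (.nd (.lf 0x597) (.lf 0xe9d)) (.nd (.lf 0x71a) (.lf 0xd3)))) (.nd (.nd (.nd (.lf 0x1abf) (.lf 0x10d1)) (.nd (.lf 0x1b43) (.lf 0xae))) (.nd (.nd (.lf 0x1d03) (.lf 0xe9)) (.nd (.lf 0xf63) (.lf 0xbd1))))) (.nd (.nd (.nd (.nd (.lf 0x1cc3) (.lf 0x835)) (.nd (.lf 0x1ba5) (.lf 0x1d54))) (.nd (.nd (.lf 0xae4) (.lf 0x1cd2)) (.nd (.lf 0x6c6) (.lf 0x12e7)))) (.nd (.nd (.nd (.lf 0xc2f) (.lf 0x1269)) (.nd (.lf 0x359) (.lf 0xbff))) (.nd (.nd (.lf 0x16) (.lf 0xfa9)) (.nd (.lf 0x190b) (.lf 0x692)))))) (.nd (.nd (.nd (.nd (.nd (.lf 0x3) (.lf 0x1b60)) (.nd (.lf 0x581) (.lf 0xaa5))) (.nd (.nd (.lf 0x16cd) (.lf 0x1379)) (.nd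 (.lf 0x1119) (.lf 0x10e0)))) (.nd (.nd (.nd (.lf 0x3c7) (.lf 0x17a4)) (.nd (.lf 0x63d) (.lf 0x16ab))) (.nd (.nd (.lf 0x419) (.lf 0x1b15)) (.nd (.lf 0x143a) (.lf 0x99b))))) (.nd (.nd (.nd (.nd (.lf 0x458) (.lf 0x667)) (.nd (.lf 0x1d4e) (.lf 0x136))) (.nd (.nd (.lf 0x2f4) (.lf 0xbbe)) (.nd (.lf 0x4ee) (.lf 0x663)))) (.nd (.nd (.nd (.lf 0xd5) (.lf 0xa27)) (.nd (.lf 0x12e0) (.lf 0x584))) (.nd (.nd (.lf 0x17c1) (.lf 0xa98)) (.nd (.lf 0xad9) (.lf 0xb25)))))))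
def phG_nbbabbb : Tr := (.nd (.nd (.nd (.nd (.nd (.nd (.lf 0x1bce) (.lf 0x9ba)) (.nd (.lf 0x7d6) (.lf 0x227))) (.nd (.nd (.lf 0x1550) (.lf 0x19a9)) (.nd (.lf 0xc2c) (.lf 0x1efc)))) (.nd (.nd (.nd (.lf 0xc76) (.lf 0x6bf)) (.nd (.lf 0x1aff) (.lf 0x1fa6))) (.nd (.nd (.lf 0x1580) (.lf 0x994)) (.nd (.lf 0x1ab7) (.lf 0x1858))))) (.nd (.nd (.nd (.nd (.lf 0xcd9) (.lf 0x1227)) (.nd (.lf 0x1783) (.lf 0x14ad))) (.nd (.nd (.lf 0x1267) (.lf 0x1393)) (.nd (.lf 0x9aa) (.lf 0x15e0)))) (.nd (.nd (.nd (.lf 0x65f) (.lf 0x567)) (.nd (.lf 0xd0e) (.lf 0xc02))) (.nd (.nd (.lf 0x18a4) (.lf 0x18f7)) (.nd (.lf 0x23b) (.lf 0x975)))))) (.nd (.nd (.nd (.nd (.nd (.lf 0xc05) (.lf 0xabf)) (.nd (.lf 0x19a3) (.lf 0x1063))) (.nd (.nd (.lf 0x1704) (.lf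 0x1afc)) (.nd (.lf 0x1eb6) (.lf 0x228)))) (.nd (.nd (.nd (.lf 0x12ce) (.lf 0x1045)) (.nd (.lf 0x18a8) (.lf 0xcb1))) (.nd (.nd (.lf 0x1033) (.lf 0x1c61)) (.nd (.lf 0x615) (.lf 0x19f0))))) (.nd (.nd (.nd (.nd (.lf 0x3fb) (.lf 0xc26)) (.nd (.lf 0x487) (.lf 0x29b))) (.nd (.nd (.lf 0xb9c) (.lf 0xabc)) (.nd (.lf 0x103c) (.lf 0x464)))) (.nd (.nd (.nd (.lf 0xc50) (.lf 0x5fb)) (.nd (.lf 0xd9) (.lf 0x1afe))) (.nd (.nd (.lf 0x10bd) (.lf 0x86c)) (.nd (.lf 0x4ed) (.lf 0)))))))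
def phG_nbbbaaa : Tr := (.nd (.nd (.nd (.nd (.nd (.nd (.lf 0x1a7d) (.lf 0x1b63)) (.nd (.lf 0x17bd) (.lf 0x8d0))) (.nd (.nd (.lf 0x1626) (.lf 0x1272)) (.nd (.lf 0x1e2) (.lf 0x1d4a)))) (.nd (.nd (.nd (.lf 0x144e) (.lf 0x11f1)) (.nd (.lf 0x1f55) (.lf 0x1038))) (.nd (.nd (.lf 0x26b) (.lf 0xfa7)) (.nd (.lf 0x1d2) (.lf 0xd8c))))) (.nd (.nd (.nd (.nd (.lf 0x11e5) (.lf 0x353)) (.nd (.lf 0x958) (.lf 0xa57))) (.nd (.nd (.lf 0x11f4) (.lf 0x640)) (.nd (.lf 0xecb) (.lf 0x1dd8)))) (.nd (.nd (.nd (.lf 0xe18) (.lf 0xec4)) (.nd (.lf 0x19d5) (.lf 0x1db7))) (.nd (.nd (.lf 0x526) (.lf 0x9d1)) (.nd (.lf 0x705) (.lf 0x11a8)))))) (.nd (.nd (.nd (.nd (.nd (.lf 0xf9) (.lf 0x8e)) (.nd (.lf 0x1cb1) (.lf 0x103f))) (.nd (.nd (.lf 0x4bd) (.lf 0x876))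 (.nd (.lf 0xed6) (.lf 0x36)))) (.nd (.nd (.nd (.lf 0x184d) (.lf 0x18e3)) (.nd (.lf 0x982) (.lf 0x2bb))) (.nd (.nd (.lf 0x1eed) (.lf 0x1df8)) (.nd (.lf 0x998) (.lf 0x9a1))))) (.nd (.nd (.nd (.nd (.lf 0x251) (.lf 0x5fe)) (.nd (.lf 0xdfe) (.lf 0x125b))) (.nd (.nd (.lf 0xdc) (.lf 0x1c7c)) (.nd (.lf 0xdea) (.lf 0x13e7)))) (.nd (.nd (.nd (.lf 0x1454) (.lf 0x5cf)) (.nd (.lf 0x1eac) (.lf 0x425))) (.nd (.nd (.lf 0x1597) (.lf 0x6cd)) (.nd (.lf 0x1c2e) (.lf 0xbfb)))))))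
def phG_nbbbaab : Tr := (.nd (.nd (.nd (.nd (.nd (.nd (.lf 0x1318) (.lf 0x1168)) (.nd (.lf 0x6ed) (.lf 0x1df7))) (.nd (.nd (.lf 0xd56) (.lf 0x4c4)) (.nd (.lf 0xda) (.lf 0x1687)))) (.nd (.nd (.nd (.lf 0x10cf) (.lf 0x131d)) (.nd (.lf 0x950) (.lf 0xbe))) (.nd (.nd (.lf 0xcb2) (.lf 0x1eea)) (.nd (.lf 0xd1c) (.lf 0x94f))))) (.nd (.nd (.nd (.nd (.lf 0xf8b) (.lf 0x13a8)) (.nd (.lf 0x124f) (.lf 0x1bbf))) (.nd (.nd (.lf 0x1b9d) (.lf 0x1a31)) (.nd (.lf 0x102e) (.lf 0x1c96)))) (.nd (.nd (.nd (.lf 0x3b0) (.lf 0x1e40)) (.nd (.lf 0x14dd) (.lf 0x7cf))) (.nd (.nd (.lf 0x1eb2) (.lf 0x1a05)) (.nd (.lf 0xf44) (.lf 0x19d4)))))) (.nd (.nd (.nd (.nd (.nd (.lf 0x1fcc) (.lf 0x599)) (.nd (.lf 0x1e8f) (.lf 0x142c))) (.nd (.nd (.lf 0x62c) (.lf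 0x1725)) (.nd (.lf 0x9d4) (.lf 0x2eb)))) (.nd (.nd (.nd (.lf 0x1753) (.lf 0x281)) (.nd (.lf 0x1167) (.lf 0xd80))) (.nd (.nd (.lf 0x118d) (.lf 0x3e6)) (.nd (.lf 0x1c30) (.lf 0xaa8))))) (.nd (.nd (.nd (.nd (.lf 0x193f) (.lf 0x77c)) (.nd (.lf 0xad6) (.lf 0x110a))) (.nd (.nd (.lf 0x17ef) (.lf 0x1d30)) (.nd (.lf 0x77b) (.lf 0x3ce)))) (.nd (.nd (.nd (.lf 0x1a43) (.lf 0xc70)) (.nd (.lf 0x2dd) (.lf 0x123f))) (.nd (.nd (.lf 0x680) (.lf 0x13ac)) (.nd (.lf 0x87d) (.lf 0)))))))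
def phG_nbbbaba : Tr := (.nd (.nd (.nd (.nd (.nd (.nd (.lf 0x9b1) (.lf 0x194b)) (.nd (.lf 0xf16) (.lf 0x1828))) (.nd (.nd (.lf 0x85b) (.lf 0x169b)) (.nd (.lf 0x166d) (.lf 0x1e9e)))) (.nd (.nd (.nd (.lf 0xa30) (.lf 0xf83)) (.nd (.lf 0xad3) (.lf 0x7c7))) (.nd (.nd (.lf 0x1335) (.lf 0x16ed)) (.nd (.lf 0x61f) (.lf 0x27d))))) (.nd (.nd (.nd (.nd (.lf 0xd79) (.lf 0x9df)) (.nd (.lf 0x15bb) (.lf 0x9a6))) (.nd (.nd (.lf 0x435) (.lf 0x1813)) (.nd (.lf 0xd2) (.lf 0x18e1)))) (.nd (.nd (.nd (.lf 0xec) (.lf 0x199c)) (.nd (.lf 0x11c6) (.lf 0x5ec))) (.nd (.nd (.lf 0xb20) (.lf 0x1ad6)) (.nd (.lf 0x14c3) (.lf 0x3a8)))))) (.nd (.nd (.nd (.nd (.nd (.lf 0x98b) (.lf 0x65)) (.nd (.lf 0x1c7) (.lf 0x1e6))) (.nd (.nd (.lf 0x76d) (.lf 0xdd2))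 (.nd (.lf 0x3d6) (.lf 0xf7c)))) (.nd (.nd (.nd (.lf 0x1762) (.lf 0x1341)) (.nd (.lf 0x1170) (.lf 0x202))) (.nd (.nd (.lf 0x918) (.lf 0xb4a)) (.nd (.lf 0x1fb1) (.lf 0x1e6b))))) (.nd (.nd (.nd (.nd (.lf 0xe1d) (.lf 0x8dd)) (.nd (.lf 0x17a7) (.lf 0x177))) (.nd (.nd (.lf 0xe59) (.lf 0x1da)) (.nd (.lf 0x1c04) (.lf 0x1f49)))) (.nd (.nd (.nd (.lf 0x16f1) (.lf 0x1741)) (.nd (.lf 0x1dbb) (.lf 0x1af1))) (.nd (.nd (.lf 0x24a) (.lf 0x18a3)) (.nd (.lf 0x1) (.lf 0x14e2)))))))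
def phG_nbbbabb : Tr := (.nd (.nd (.nd (.nd (.nd (.nd (.lf 0x1a08) (.lf 0x33)) (.nd (.lf 0xf8c) (.lf 0xeee))) (.nd (.nd (.lf 0x18d) (.lf 0x162c)) (.nd (.lf 0x16f8) (.lf 0x149b)))) (.nd (.nd (.nd (.lf 0x1e33) (.lf 0xbac)) (.nd (.lf 0x1ca8) (.lf 0x12cd))) (.nd (.nd (.lf 0x1cc1) (.lf 0x15a1)) (.nd (.lf 0x1b6e) (.lf 0x156a))))) (.nd (.nd (.nd (.nd (.lf 0x661) (.lf 0x10d)) (.nd (.lf 0x1104) (.lf 0x1f2a))) (.nd (.nd (.lf 0x17a9) (.lf 0x68e)) (.nd (.lf 0x1adf) (.lf 0x15c)))) (.nd (.nd (.nd (.lf 0x17d6) (.lf 0x158c)) (.nd (.lf 0x1a19) (.lf 0x1f27))) (.nd (.nd (.lf 0x1ba0) (.lf 0x486)) (.nd (.lf 0x1b56) (.lf 0x2cd)))))) (.nd (.nd (.nd (.nd (.nd (.lf 0x3a0) (.lf 0x107)) (.nd (.lf 0x1774) (.lf 0x363))) (.nd (.nd (.lf 0x3cf) (.lf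 0x28a)) (.nd (.lf 0x1b1b) (.lf 0x1801)))) (.nd (.nd (.nd (.lf 0x1e58) (.lf 0x11ed)) (.nd (.lf 0x1400) (.lf 0x1972))) (.nd (.nd (.lf 0x196c) (.lf 0x4dd)) (.nd (.lf 0x1ac6) (.lf 0x128b))))) (.nd (.nd (.nd (.nd (.lf 0xda8) (.lf 0x42)) (.nd (.lf 0xea1) (.lf 0x1cd6))) (.nd (.nd (.lf 0x23f) (.lf 0x5e5)) (.nd (.lf 0x1f4c) (.lf 0xec8)))) (.nd (.nd (.nd (.lf 0x830) (.lf 0x135c)) (.nd (.lf 0x1c89) (.lf 0x1051))) (.nd (.nd (.lf 0x1165) (.lf 0x1638)) (.nd (.lf 0x422) (.lf 0)))))))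
def phG_nbbbbaa : Tr := (.nd (.nd (.nd (.nd (.nd (.nd (.lf 0x168a) (.lf 0xc81)) (.nd (.lf 0xe29) (.lf 0x18f1))) (.nd (.nd (.lf 0x129b) (.lf 0xee7)) (.nd (.lf 0x59c) (.lf 0x1817)))) (.nd (.nd (.nd (.lf 0x16ea) (.lf 0x88c)) (.nd (.lf 0x1200) (.lf 0x1f83))) (.nd (.nd (.lf 0x109f) (.lf 0x175c)) (.nd (.lf 0x1829) (.lf 0x5dc))))) (.nd (.nd (.nd (.nd (.lf 0x1b83) (.lf 0xbf9)) (.nd (.lf 0x1945) (.lf 0xce9))) (.nd (.nd (.lf 0x19a2) (.lf 0x1617)) (.nd (.lf 0x1a34) (.lf 0x7d7)))) (.nd (.nd (.nd (.lf 0x1650) (.lf 0x3fd)) (.nd (.lf 0x1bdc) (.lf 0x11e8))) (.nd (.nd (.lf 0x1d3b) (.lf 0x93)) (.nd (.lf 0x16a5) (.lf 0x1447)))))) (.nd (.nd (.nd (.nd (.nd (.lf 0xb3e) (.lf 0xc2e)) (.nd (.lf 0x2a4) (.lf 0x8dc))) (.nd (.nd (.lf 0x8c9) (.lf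 0xd88)) (.nd (.lf 0x113e) (.lf 0x177f)))) (.nd (.nd (.nd (.lf 0x7e7) (.lf 0x167d)) (.nd (.lf 0x30d) (.lf 0x17a6))) (.nd (.nd (.lf 0x175) (.lf 0x1f8c)) (.nd (.lf 0xdd9) (.lf 0x16d3))))) (.nd (.nd (.nd (.nd (.lf 0xc56) (.lf 0xc33)) (.nd (.lf 0x1b7b) (.lf 0x1635))) (.nd (.nd (.lf 0x1732) (.lf 0x13ef)) (.nd (.lf 0x8eb) (.lf 0x1419)))) (.nd (.nd (.nd (.lf 0x102f) (.lf 0x11ad)) (.nd (.lf 0x399) (.lf 0x1640))) (.nd (.nd (.lf 0x1f76) (.lf 0x59d)) (.nd (.lf 0x5a8) (.lf 0x155f)))))))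
def phG_nbbbbab : Tr := (.nd (.nd (.nd (.nd (.nd (.nd (.lf 0x1569) (.lf 0x1ee2)) (.nd (.lf 0xa0f) (.lf 0xf29))) (.nd (.nd (.lf 0x70e) (.lf 0xaa3)) (.nd (.lf 0x13c3) (.lf 0x1d08)))) (.nd (.nd (.nd (.lf 0x913) (.lf 0x544)) (.nd (.lf 0x138b) (.lf 0x3f4))) (.nd (.nd (.lf 0x127a) (.lf 0x1220)) (.nd (.lf 0x73d) (.lf 0x1a9f))))) (.nd (.nd (.nd (.nd (.lf 0xc7a) (.lf 0xdca)) (.nd (.lf 0x1651) (.lf 0x1975))) (.nd (.nd (.lf 0x902) (.lf 0x2fc)) (.nd (.lf 0x1c02) (.lf 0x11bf)))) (.nd (.nd (.nd (.lf 0x1173) (.lf 0x115f)) (.nd (.lf 0x17ca) (.lf 0x1149))) (.nd (.nd (.lf 0x37f) (.lf 0x1120)) (.nd (.lf 0xa92) (.lf 0x16a2)))))) (.nd (.nd (.nd (.nd (.nd (.lf 0x1539) (.lf 0x1aa4)) (.nd (.lf 0x198) (.lf 0x708))) (.nd (.nd (.lf 0x2e0) (.lf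 0x105f)) (.nd (.lf 0x30b) (.lf 0xe33)))) (.nd (.nd (.nd (.lf 0x1014) (.lf 0x9d2)) (.nd (.lf 0x1458) (.lf 0x18de))) (.nd (.nd (.lf 0x1e03) (.lf 0x311)) (.nd (.lf 0xcc7) (.lf 0x90f))))) (.nd (.nd (.nd (.nd (.lf 0x1141) (.lf 0x1382)) (.nd (.lf 0x25e) (.lf 0x1a20))) (.nd (.nd (.lf 0x130d) (.lf 0x4c1)) (.nd (.lf 0xb6b) (.lf 0x17b0)))) (.nd (.nd (.nd (.lf 0x1b2b) (.lf 0x149)) (.nd (.lf 0x11f3) (.lf 0x71d))) (.nd (.nd (.lf 0x1c99) (.lf 0x1a82)) (.nd (.lf 0x221) (.lf 0)))))))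
def phG_nbbbbba : Tr := (.nd (.nd (.nd (.nd (.nd (.nd (.lf 0xa19) (.lf 0x37d)) (.nd (.lf 0x442) (.lf 0x1633))) (.nd (.nd (.lf 0x89) (.lf 0x4f1)) (.nd (.lf 0x1ec1) (.lf 0x1a60)))) (.nd (.nd (.nd (.lf 0xd94) (.lf 0x1781)) (.nd (.lf 0x3d9) (.lf 0x588))) (.nd (.nd (.lf 0x1ed2) (.lf 0xf56)) (.nd (.lf 0x1299) (.lf 0x1fbc))))) (.nd (.nd (.nd (.nd (.lf 0x662) (.lf 0xbef)) (.nd (.lf 0x213) (.lf 0x8c6))) (.nd (.nd (.lf 0x1ced) (.lf 0x9f7)) (.nd (.lf 0x5a6) (.lf 0x36a)))) (.nd (.nd (.nd (.lf 0xb88) (.lf 0x1827)) (.nd (.lf 0x174e) (.lf 0xc18))) (.nd (.nd (.lf 0x11f6) (.lf 0x11ff)) (.nd (.lf 0xf55) (.lf 0x16e6)))))) (.nd (.nd (.nd (.nd (.nd (.lf 0x576) (.lf 0x139d)) (.nd (.lf 0x1047) (.lf 0x12dc))) (.nd (.nd (.lf 0xedc) (.lf 0x1451))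 (.nd (.lf 0xa26) (.lf 0x1018)))) (.nd (.nd (.nd (.lf 0x14d6) (.lf 0x1d6)) (.nd (.lf 0x1d0c) (.lf 0x8d2))) (.nd (.nd (.lf 0xaab) (.lf 0x14f5)) (.nd (.lf 0xab3) (.lf 0x1d3))))) (.nd (.nd (.nd (.nd (.lf 0x1f31) (.lf 0xa6d)) (.nd (.lf 0x13ab) (.lf 0x1096))) (.nd (.nd (.lf 0x1655) (.lf 0x56f)) (.nd (.lf 0x198e) (.lf 0x143f)))) (.nd (.nd (.nd (.lf 0x10ee) (.lf 0xe8f)) (.nd (.lf 0xbb9) (.lf 0x47d))) (.nd (.nd (.lf 0x1452) (.lf 0x1db0)) (.nd (.lf 0xe04) (.lf 0)))))))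
def phG_nbbbbbb : Tr := (.nd (.nd (.nd (.nd (.nd (.nd (.lf 0x1df5) (.lf 0x1f7f)) (.nd (.lf 0x10c9) (.lf 0xca8))) (.nd (.nd (.lf 0xcb) (.lf 0x183d)) (.nd (.lf 0x15ff) (.lf 0x1f26)))) (.nd (.nd (.nd (.lf 0x163e) (.lf 0x1c40)) (.nd (.lf 0xd35) (.lf 0xe95))) (.nd (.nd (.lf 0x26a) (.lf 0x17c2)) (.nd (.lf 0x1b26) (.lf 0xafc))))) (.nd (.nd (.nd (.nd (.lf 0xd28) (.lf 0x14f1)) (.nd (.lf 0x15a2) (.lf 0xe38))) (.nd (.nd (.lf 0x284) (.lf 0x1bcc)) (.nd (.lf 0x1b91) (.lf 0x17ae)))) (.nd (.nd (.nd (.lf 0x6ba) (.lf 0x617)) (.nd (.lf 0x2f8) (.lf 0x1e31))) (.nd (.nd (.lf 0xd34) (.lf 0x1957)) (.nd (.lf 0x912) (.lf 0x129f)))))) (.nd (.nd (.nd (.nd (.nd (.lf 0x11a5) (.lf 0x192c)) (.nd (.lf 0xa33) (.lf 0x1169))) (.nd (.nd (.lf 0x1aab) (.lf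 0x1979)) (.nd (.lf 0x19bf) (.lf 0x17cd)))) (.nd (.nd (.nd (.lf 0x87f) (.lf 0x1933)) (.nd (.lf 0xd91) (.lf 0x15dc))) (.nd (.nd (.lf 0x5ba) (.lf 0x357)) (.nd (.lf 0x1f19) (.lf 0x5d3))))) (.nd (.nd (.nd (.nd (.lf 0x1686) (.lf 0x1d3e)) (.nd (.lf 0xc51) (.lf 0x157c))) (.nd (.nd (.lf 0xc03) (.lf 0xd8f)) (.nd (.lf 0x16d4) (.lf 0x734)))) (.nd (.nd (.nd (.lf 0x1f13) (.lf 0x17dd)) (.nd (.lf 0xda4) (.lf 0x153f))) (.nd (.nd (.lf 0x118a) (.lf 0x13a4)) (.nd (.lf 0x636) (.lf 0)))))))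
def phG : Tr := (.nd (.nd (.nd (.nd (.nd (.nd phG_naaaaaa phG_naaaaab) (.nd phG_naaaaba phG_naaaabb)) (.nd (.nd phG_naaabaa phG_naaabab) (.nd phG_naaabba phG_naaabbb))) (.nd (.nd (.nd phG_naabaaa phG_naabaab) (.nd phG_naababa phG_naababb)) (.nd (.nd phG_naabbaa phG_naabbab) (.nd phG_naabbba phG_naabbbb)))) (.nd (.nd (.nd (.nd phG_nabaaaa phG_nabaaab) (.nd phG_nabaaba phG_nabaabb)) (.nd (.nd phG_nababaa phG_nababab) (.nd phG_nababba phG_nababbb))) (.nd (.nd (.nd phG_nabbaaa phG_nabbaab) (.nd phG_nabbaba phG_nabbabb)) (.nd (.nd phG_nabbbaa phG_nabbbab) (.nd phG_nabbbba phG_nabbbbb))))) (.nd (.nd (.nd (.nd (.nd phG_nbaaaaa phG_nbaaaab) (.nd phG_nbaaaba phG_nbaaabb)) (.nd (.nd phG_nbaabaa phG_nbaabab) (.nd phG_nbaabba phG_nbaabbb)))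 (.nd (.nd (.nd phG_nbabaaa phG_nbabaab) (.nd phG_nbababa phG_nbababb)) (.nd (.nd phG_nbabbaa phG_nbabbab) (.nd phG_nbabbba phG_nbabbbb)))) (.nd (.nd (.nd (.nd phG_nbbaaaa phG_nbbaaab) (.nd phG_nbbaaba phG_nbbaabb)) (.nd (.nd phG_nbbabaa phG_nbbabab) (.nd phG_nbbabba phG_nbbabbb))) (.nd (.nd (.nd phG_nbbbaaa phG_nbbbaab) (.nd phG_nbbbaba phG_nbbbabb)) (.nd (.nd phG_nbbbbaa phG_nbbbbab) (.nd phG_nbbbbba phG_nbbbbbb))))))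
def sizeG : List ℕ := [1, 2304, 1755]
def repG : List ℕ := [0, 1, 2]
def labQ_naaaaaa : Tr := (.nd (.nd (.nd (.nd (.nd (.nd (.lf 0x0) (.lf 0x4)) (.nd (.lf 0x3) (.lf 0))) (.nd (.nd (.lf 0x4) (.lf 0)) (.nd (.lf 0x1) (.lf 0)))) (.nd (.nd (.nd (.lf 0x2) (.lf 0)) (.nd (.lf 0x6) (.lf 0))) (.nd (.nd (.lf 0x5) (.lf 0)) (.nd (.lf 0x4) (.lf 0))))) (.nd (.nd (.nd (.nd (.lf 0x4) (.lf 0x4)) (.nd (.lf 0x6) (.lf 0))) (.nd (.nd (.lf 0x4) (.lf 0)) (.nd (.lf 0x4) (.lf 0)))) (.nd (.nd (.nd (.lf 0x3) (.lf 0)) (.nd (.lf 0x6) (.lf 0))) (.nd (.nd (.lf 0x4) (.lf 0)) (.nd (.lf 0x3) (.lf 0)))))) (.nd (.nd (.nd (.nd (.nd (.lf 0x4) (.lf 0x4)) (.nd (.lf 0x6) (.lf 0))) (.nd (.nd (.lf 0x1) (.lf 0)) (.nd (.lf 0x2) (.lf 0)))) (.nd (.nd (.nd (.lf 0x4)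 (.lf 0)) (.nd (.lf 0x4) (.lf 0))) (.nd (.nd (.lf 0x4) (.lf 0)) (.nd (.lf 0x4) (.lf 0))))) (.nd (.nd (.nd (.nd (.lf 0x4) (.lf 0x1)) (.nd (.lf 0x4) (.lf 0))) (.nd (.nd (.lf 0x1) (.lf 0)) (.nd (.lf 0x5) (.lf 0)))) (.nd (.nd (.nd (.lf 0x4) (.lf 0)) (.nd (.lf 0x4) (.lf 0))) (.nd (.nd (.lf 0x4) (.lf 0)) (.nd (.lf 0x3) (.lf 0)))))))
def labQ_naaaaab : Tr := (.nd (.nd (.nd (.nd (.nd (.nd (.lf 0x3) (.lf 0x3)) (.nd (.lf 0x6) (.lf 0))) (.nd (.nd (.lf 0x3) (.lf 0)) (.nd (.lf 0x3) (.lf 0)))) (.nd (.nd (.nd (.lf 0x6) (.lf 0)) (.nd (.lf 0x2) (.lf 0))) (.nd (.nd (.lf 0x6) (.lf 0)) (.nd (.lf 0x1) (.lf 0))))) (.nd (.nd (.nd (.nd (.lf 0x4) (.lf 0x3)) (.nd (.lf 0x2) (.lf 0))) (.nd (.nd (.lf 0x6) (.lf 0)) (.nd (.lf 0x4) (.lf 0)))) (.nd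 (.nd (.nd (.lf 0x4) (.lf 0)) (.nd (.lf 0x4) (.lf 0))) (.nd (.nd (.lf 0x6) (.lf 0)) (.nd (.lf 0x4) (.lf 0)))))) (.nd (.nd (.nd (.nd (.nd (.lf 0x4) (.lf 0x1)) (.nd (.lf 0x4) (.lf 0))) (.nd (.nd (.lf 0x4) (.lf 0)) (.nd (.lf 0x6) (.lf 0)))) (.nd (.nd (.nd (.lf 0x1) (.lf 0)) (.nd (.lf 0x4) (.lf 0))) (.nd (.nd (.lf 0x2) (.lf 0)) (.nd (.lf 0x4) (.lf 0))))) (.nd (.nd (.nd (.nd (.lf 0x6) (.lf 0x2)) (.nd (.lf 0x2) (.lf 0))) (.nd (.nd (.lf 0x1) (.lf 0)) (.nd (.lf 0x4) (.lf 0)))) (.nd (.nd (.nd (.lf 0x2) (.lf 0)) (.nd (.lf 0x3) (.lf 0))) (.nd (.nd (.lf 0x4) (.lf 0)) (.nd (.lf 0x2) (.lf 0)))))))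
def labQ_naaaaba : Tr := (.nd (.nd (.nd (.nd (.nd (.nd (.lf 0x2) (.lf 0x6)) (.nd (.lf 0x4) (.lf 0))) (.nd (.nd (.lf 0x3) (.lf 0)) (.nd (.lf 0x1) (.lf 0)))) (.nd (.nd (.nd (.lf 0x6) (.lf 0)) (.nd (.lf 0x4) (.lf 0))) (.nd (.nd (.lf 0x2) (.lf 0)) (.nd (.lf 0x6) (.lf 0))))) (.nd (.nd (.nd (.nd (.lf 0x5) (.lf 0x3)) (.nd (.lf 0x6) (.lf 0))) (.nd (.nd (.lf 0x4) (.lf 0)) (.nd (.lf 0x2) (.lf 0)))) (.nd (.nd (.nd (.lf 0x3) (.lf 0)) (.nd (.lf 0x3) (.lf 0))) (.nd (.nd (.lf 0x6) (.lf 0)) (.nd (.lf 0x2) (.lf 0)))))) (.nd (.nd (.nd (.nd (.nd (.lf 0x6) (.lf 0x4)) (.nd (.lf 0x3) (.lf 0))) (.nd (.nd (.lf 0x2) (.lf 0)) (.nd (.lf 0x3) (.lf 0)))) (.nd (.nd (.nd (.lf 0x3) (.lf 0)) (.nd (.lf 0x4) (.lf 0))) (.nd (.nd (.lf 0x1) (.lf 0)) (.nd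 (.lf 0x4) (.lf 0))))) (.nd (.nd (.nd (.nd (.lf 0x6) (.lf 0x5)) (.nd (.lf 0x4) (.lf 0))) (.nd (.nd (.lf 0x1) (.lf 0)) (.nd (.lf 0x6) (.lf 0)))) (.nd (.nd (.nd (.lf 0x4) (.lf 0)) (.nd (.lf 0x6) (.lf 0))) (.nd (.nd (.lf 0x4) (.lf 0)) (.nd (.lf 0x6) (.lf 0)))))))
def labQ_naaaabb : Tr := (.nd (.nd (.nd (.nd (.nd (.nd (.lf 0x6) (.lf 0x6)) (.nd (.lf 0x4) (.lf 0))) (.nd (.nd (.lf 0x1) (.lf 0)) (.nd (.lf 0x6) (.lf 0)))) (.nd (.nd (.nd (.lf 0x1) (.lf 0)) (.nd (.lf 0x4) (.lf 0))) (.nd (.nd (.lf 0x4) (.lf 0)) (.nd (.lf 0x5) (.lf 0))))) (.nd (.nd (.nd (.nd (.lf 0x2) (.lf 0x4)) (.nd (.lf 0x4) (.lf 0))) (.nd (.nd (.lf 0x4) (.lf 0)) (.nd (.lf 0x1) (.lf 0)))) (.nd (.nd (.nd (.lf 0x4) (.lf 0)) (.nd (.lf 0x1) (.lf 0))) (.nd (.nd (.lf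 0x3) (.lf 0)) (.nd (.lf 0x4) (.lf 0)))))) (.nd (.nd (.nd (.nd (.nd (.lf 0x4) (.lf 0x2)) (.nd (.lf 0x2) (.lf 0))) (.nd (.nd (.lf 0x1) (.lf 0)) (.nd (.lf 0x2) (.lf 0)))) (.nd (.nd (.nd (.lf 0x4) (.lf 0)) (.nd (.lf 0x6) (.lf 0))) (.nd (.nd (.lf 0x1) (.lf 0)) (.nd (.lf 0x2) (.lf 0))))) (.nd (.nd (.nd (.nd (.lf 0x4) (.lf 0x4)) (.nd (.lf 0x3) (.lf 0))) (.nd (.nd (.lf 0x3) (.lf 0)) (.nd (.lf 0x4) (.lf 0)))) (.nd (.nd (.nd (.lf 0x1) (.lf 0)) (.nd (.lf 0x4) (.lf 0))) (.nd (.nd (.lf 0x1) (.lf 0)) (.nd (.lf 0x2) (.lf 0)))))))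
def labQ_naaabaa : Tr := (.nd (.nd (.nd (.nd (.nd (.nd (.lf 0x4) (.lf 0x4)) (.nd (.lf 0x4) (.lf 0))) (.nd (.nd (.lf 0x2) (.lf 0)) (.nd (.lf 0x4) (.lf 0)))) (.nd (.nd (.nd (.lf 0x4) (.lf 0)) (.nd (.lf 0x2) (.lf 0))) (.nd (.nd (.lf 0x4) (.lf 0)) (.nd (.lf 0x4) (.lf 0))))) (.nd (.nd (.nd (.nd (.lf 0x2) (.lf 0x4)) (.nd (.lf 0x1) (.lf 0))) (.nd (.nd (.lf 0x4) (.lf 0)) (.nd (.lf 0x1) (.lf 0)))) (.nd (.nd (.nd (.lf 0x4) (.lf 0)) (.nd (.lf 0x1) (.lf 0))) (.nd (.nd (.lf 0x4) (.lf 0)) (.nd (.lf 0x4) (.lf 0)))))) (.nd (.nd (.nd (.nd (.nd (.lf 0x5) (.lf 0x6)) (.nd (.lf 0x2) (.lf 0))) (.nd (.nd (.lf 0x3) (.lf 0)) (.nd (.lf 0x4) (.lf 0)))) (.nd (.nd (.nd (.lf 0x1) (.lf 0)) (.nd (.lf 0x3) (.lf 0))) (.nd (.nd (.lf 0x4) (.lf 0)) (.nd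 (.lf 0x3) (.lf 0))))) (.nd (.nd (.nd (.nd (.lf 0x6) (.lf 0x2)) (.nd (.lf 0x3) (.lf 0))) (.nd (.nd (.lf 0x1) (.lf 0)) (.nd (.lf 0x3) (.lf 0)))) (.nd (.nd (.nd (.lf 0x5) (.lf 0)) (.nd (.lf 0x4) (.lf 0))) (.nd (.nd (.lf 0x4) (.lf 0)) (.nd (.lf 0x6) (.lf 0)))))))
def labQ_naaabab : Tr := (.nd (.nd (.nd (.nd (.nd (.nd (.lf 0x1) (.lf 0x2)) (.nd (.lf 0x1) (.lf 0))) (.nd (.nd (.lf 0x4) (.lf 0)) (.nd (.lf 0x4) (.lf 0)))) (.nd (.nd (.nd (.lf 0x6) (.lf 0)) (.nd (.lf 0x1) (.lf 0))) (.nd (.nd (.lf 0x3) (.lf 0)) (.nd (.lf 0x2) (.lf 0))))) (.nd (.nd (.nd (.nd (.lf 0x4) (.lf 0x1)) (.nd (.lf 0x4) (.lf 0))) (.nd (.nd (.lf 0x1) (.lf 0)) (.nd (.lf 0x1) (.lf 0)))) (.nd (.nd (.nd (.lf 0x4) (.lf 0)) (.nd (.lf 0x4) (.lf 0))) (.nd (.nd (.lf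 0x2) (.lf 0)) (.nd (.lf 0x4) (.lf 0)))))) (.nd (.nd (.nd (.nd (.nd (.lf 0x6) (.lf 0x1)) (.nd (.lf 0x4) (.lf 0))) (.nd (.nd (.lf 0x6) (.lf 0)) (.nd (.lf 0x3) (.lf 0)))) (.nd (.nd (.nd (.lf 0x6) (.lf 0)) (.nd (.lf 0x4) (.lf 0))) (.nd (.nd (.lf 0x2) (.lf 0)) (.nd (.lf 0x4) (.lf 0))))) (.nd (.nd (.nd (.nd (.lf 0x4) (.lf 0x4)) (.nd (.lf 0x3) (.lf 0))) (.nd (.nd (.lf 0x4) (.lf 0)) (.nd (.lf 0x3) (.lf 0)))) (.nd (.nd (.nd (.lf 0x4) (.lf 0)) (.nd (.lf 0x3) (.lf 0))) (.nd (.nd (.lf 0x4) (.lf 0)) (.nd (.lf 0x2) (.lf 0)))))))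
def labQ_naaabba : Tr := (.nd (.nd (.nd (.nd (.nd (.nd (.lf 0x4) (.lf 0x6)) (.nd (.lf 0x6) (.lf 0))) (.nd (.nd (.lf 0x1) (.lf 0)) (.nd (.lf 0x2) (.lf 0)))) (.nd (.nd (.nd (.lf 0x4) (.lf 0)) (.nd (.lf 0x6) (.lf 0))) (.nd (.nd (.lf 0x4) (.lf 0)) (.nd (.lf 0x2) (.lf 0))))) (.nd (.nd (.nd (.nd (.lf 0x4) (.lf 0x4)) (.nd (.lf 0x1) (.lf 0))) (.nd (.nd (.lf 0x4) (.lf 0)) (.nd (.lf 0x4) (.lf 0)))) (.nd (.nd (.nd (.lf 0x6) (.lf 0)) (.nd (.lf 0x3) (.lf 0))) (.nd (.nd (.lf 0x2) (.lf 0)) (.nd (.lf 0x4) (.lf 0)))))) (.nd (.nd (.nd (.nd (.nd (.lf 0x4) (.lf 0x5)) (.nd (.lf 0x1) (.lf 0))) (.nd (.nd (.lf 0x4) (.lf 0)) (.nd (.lf 0x2) (.lf 0)))) (.nd (.nd (.nd (.lf 0x1) (.lf 0)) (.nd (.lf 0x4) (.lf 0))) (.nd (.nd (.lf 0x3) (.lf 0)) (.nd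 (.lf 0x3) (.lf 0))))) (.nd (.nd (.nd (.nd (.lf 0x4) (.lf 0x2)) (.nd (.lf 0x4) (.lf 0))) (.nd (.nd (.lf 0x4) (.lf 0)) (.nd (.lf 0x4) (.lf 0)))) (.nd (.nd (.nd (.lf 0x6) (.lf 0)) (.nd (.lf 0x2) (.lf 0))) (.nd (.nd (.lf 0x2) (.lf 0)) (.nd (.lf 0x6) (.lf 0)))))))
def labQ_naaabbb : Tr := (.nd (.nd (.nd (.nd (.nd (.nd (.lf 0x2) (.lf 0x2)) (.nd (.lf 0x1) (.lf 0))) (.nd (.nd (.lf 0x4) (.lf 0)) (.nd (.lf 0x4) (.lf 0)))) (.nd (.nd (.nd (.lf 0x4) (.lf 0)) (.nd (.lf 0x2) (.lf 0))) (.nd (.nd (.lf 0x4) (.lf 0)) (.nd (.lf 0x4) (.lf 0))))) (.nd (.nd (.nd (.nd (.lf 0x6) (.lf 0x4)) (.nd (.lf 0x3) (.lf 0))) (.nd (.nd (.lf 0x4) (.lf 0)) (.nd (.lf 0x2) (.lf 0)))) (.nd (.nd (.nd (.lf 0x4) (.lf 0)) (.nd (.lf 0x4) (.lf 0))) (.nd (.nd (.lf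 0x3) (.lf 0)) (.nd (.lf 0x4) (.lf 0)))))) (.nd (.nd (.nd (.nd (.nd (.lf 0x4) (.lf 0x2)) (.nd (.lf 0x3) (.lf 0))) (.nd (.nd (.lf 0x4) (.lf 0)) (.nd (.lf 0x4) (.lf 0)))) (.nd (.nd (.nd (.lf 0x3) (.lf 0)) (.nd (.lf 0x6) (.lf 0))) (.nd (.nd (.lf 0x4) (.lf 0)) (.nd (.lf 0x5) (.lf 0))))) (.nd (.nd (.nd (.nd (.lf 0x4) (.lf 0x6)) (.nd (.lf 0x4) (.lf 0))) (.nd (.nd (.lf 0x4) (.lf 0)) (.nd (.lf 0x3) (.lf 0)))) (.nd (.nd (.nd (.lf 0x2) (.lf 0)) (.nd (.lf 0x6) (.lf 0))) (.nd (.nd (.lf 0x4) (.lf 0)) (.nd (.lf 0x3) (.lf 0)))))))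
def labQ_naabaaa : Tr := (.nd (.nd (.nd (.nd (.nd (.nd (.lf 0x3) (.lf 0x4)) (.nd (.lf 0x6) (.lf 0))) (.nd (.nd (.lf 0x3) (.lf 0)) (.nd (.lf 0x1) (.lf 0)))) (.nd (.nd (.nd (.lf 0x3) (.lf 0)) (.nd (.lf 0x1) (.lf 0))) (.nd (.nd (.lf 0x6) (.lf 0)) (.nd (.lf 0x4) (.lf 0))))) (.nd (.nd (.nd (.nd (.lf 0x6) (.lf 0x1)) (.nd (.lf 0x4) (.lf 0))) (.nd (.nd (.lf 0x1) (.lf 0)) (.nd (.lf 0x6) (.lf 0)))) (.nd (.nd (.nd (.lf 0x4) (.lf 0)) (.nd (.lf 0x4) (.lf 0))) (.nd (.nd (.lf 0x4) (.lf 0)) (.nd (.lf 0x4) (.lf 0)))))) (.nd (.nd (.nd (.nd (.nd (.lf 0x3) (.lf 0x3)) (.nd (.lf 0x6) (.lf 0))) (.nd (.nd (.lf 0x3) (.lf 0)) (.nd (.lf 0x4) (.lf 0)))) (.nd (.nd (.nd (.lf 0x6) (.lf 0)) (.nd (.lf 0x4) (.lf 0))) (.nd (.nd (.lf 0x4) (.lf 0)) (.nd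 (.lf 0x3) (.lf 0))))) (.nd (.nd (.nd (.nd (.lf 0x4) (.lf 0x4)) (.nd (.lf 0x2) (.lf 0))) (.nd (.nd (.lf 0x3) (.lf 0)) (.nd (.lf 0x4) (.lf 0)))) (.nd (.nd (.nd (.lf 0x4) (.lf 0)) (.nd (.lf 0x4) (.lf 0))) (.nd (.nd (.lf 0x4) (.lf 0)) (.nd (.lf 0x2) (.lf 0)))))))
def labQ_naabaab : Tr := (.nd (.nd (.nd (.nd (.nd (.nd (.lf 0x3) (.lf 0x4)) (.nd (.lf 0x5) (.lf 0))) (.nd (.nd (.lf 0x4) (.lf 0)) (.nd (.lf 0x2) (.lf 0)))) (.nd (.nd (.nd (.lf 0x5) (.lf 0)) (.nd (.lf 0x2) (.lf 0))) (.nd (.nd (.lf 0x4) (.lf 0)) (.nd (.lf 0x4) (.lf 0))))) (.nd (.nd (.nd (.nd (.lf 0x6) (.lf 0x1)) (.nd (.lf 0x4) (.lf 0))) (.nd (.nd (.lf 0x2) (.lf 0)) (.nd (.lf 0x3) (.lf 0)))) (.nd (.nd (.nd (.lf 0x6) (.lf 0)) (.nd (.lf 0x3) (.lf 0))) (.nd (.nd (.lf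 0x6) (.lf 0)) (.nd (.lf 0x6) (.lf 0)))))) (.nd (.nd (.nd (.nd (.nd (.lf 0x5) (.lf 0x2)) (.nd (.lf 0x4) (.lf 0))) (.nd (.nd (.lf 0x1) (.lf 0)) (.nd (.lf 0x3) (.lf 0)))) (.nd (.nd (.nd (.lf 0x3) (.lf 0)) (.nd (.lf 0x6) (.lf 0))) (.nd (.nd (.lf 0x6) (.lf 0)) (.nd (.lf 0x4) (.lf 0))))) (.nd (.nd (.nd (.nd (.lf 0x1) (.lf 0x2)) (.nd (.lf 0x4) (.lf 0))) (.nd (.nd (.lf 0x3) (.lf 0)) (.nd (.lf 0x1) (.lf 0)))) (.nd (.nd (.nd (.lf 0x4) (.lf 0)) (.nd (.lf 0x4) (.lf 0))) (.nd (.nd (.lf 0x3) (.lf 0)) (.nd (.lf 0x4) (.lf 0)))))))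
def labQ_naababa : Tr := (.nd (.nd (.nd (.nd (.nd (.nd (.lf 0x3) (.lf 0x4)) (.nd (.lf 0x4) (.lf 0))) (.nd (.nd (.lf 0x2) (.lf 0)) (.nd (.lf 0x4) (.lf 0)))) (.nd (.nd (.nd (.lf 0x4) (.lf 0)) (.nd (.lf 0x1) (.lf 0))) (.nd (.nd (.lf 0x4) (.lf 0)) (.nd (.lf 0x3) (.lf 0))))) (.nd (.nd (.nd (.nd (.lf 0x4) (.lf 0x4)) (.nd (.lf 0x4) (.lf 0))) (.nd (.nd (.lf 0x4) (.lf 0)) (.nd (.lf 0x2) (.lf 0)))) (.nd (.nd (.nd (.lf 0x6) (.lf 0)) (.nd (.lf 0x6) (.lf 0))) (.nd (.nd (.lf 0x1) (.lf 0)) (.nd (.lf 0x4) (.lf 0)))))) (.nd (.nd (.nd (.nd (.nd (.lf 0x4) (.lf 0x3)) (.nd (.lf 0x4) (.lf 0))) (.nd (.nd (.lf 0x6) (.lf 0)) (.nd (.lf 0x4) (.lf 0)))) (.nd (.nd (.nd (.lf 0x4) (.lf 0)) (.nd (.lf 0x3) (.lf 0))) (.nd (.nd (.lf 0x3) (.lf 0)) (.nd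 (.lf 0x1) (.lf 0))))) (.nd (.nd (.nd (.nd (.lf 0x4) (.lf 0x1)) (.nd (.lf 0x4) (.lf 0))) (.nd (.nd (.lf 0x4) (.lf 0)) (.nd (.lf 0x6) (.lf 0)))) (.nd (.nd (.nd (.lf 0x4) (.lf 0)) (.nd (.lf 0x3) (.lf 0))) (.nd (.nd (.lf 0x4) (.lf 0)) (.nd (.lf 0x3) (.lf 0)))))))
def labQ_naababb : Tr := (.nd (.nd (.nd (.nd (.nd (.nd (.lf 0x4) (.lf 0x4)) (.nd (.lf 0x3) (.lf 0))) (.nd (.nd (.lf 0x2) (.lf 0)) (.nd (.lf 0x4) (.lf 0)))) (.nd (.nd (.nd (.lf 0x4) (.lf 0)) (.nd (.lf 0x2) (.lf 0))) (.nd (.nd (.lf 0x4) (.lf 0)) (.nd (.lf 0x1) (.lf 0))))) (.nd (.nd (.nd (.nd (.lf 0x5) (.lf 0x4)) (.nd (.lf 0x4) (.lf 0))) (.nd (.nd (.lf 0x4) (.lf 0)) (.nd (.lf 0x6) (.lf 0)))) (.nd (.nd (.nd (.lf 0x4) (.lf 0)) (.nd (.lf 0x4) (.lf 0))) (.nd (.nd (.lf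 0x3) (.lf 0)) (.nd (.lf 0x4) (.lf 0)))))) (.nd (.nd (.nd (.nd (.nd (.lf 0x2) (.lf 0x1)) (.nd (.lf 0x1) (.lf 0))) (.nd (.nd (.lf 0x1) (.lf 0)) (.nd (.lf 0x1) (.lf 0)))) (.nd (.nd (.nd (.lf 0x2) (.lf 0)) (.nd (.lf 0x1) (.lf 0))) (.nd (.nd (.lf 0x3) (.lf 0)) (.nd (.lf 0x4) (.lf 0))))) (.nd (.nd (.nd (.nd (.lf 0x2) (.lf 0x4)) (.nd (.lf 0x4) (.lf 0))) (.nd (.nd (.lf 0x6) (.lf 0)) (.nd (.lf 0x1) (.lf 0)))) (.nd (.nd (.nd (.lf 0x4) (.lf 0)) (.nd (.lf 0x1) (.lf 0))) (.nd (.nd (.lf 0x4) (.lf 0)) (.nd (.lf 0x2) (.lf 0)))))))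
def labQ_naabbaa : Tr := (.nd (.nd (.nd (.nd (.nd (.nd (.lf 0x4) (.lf 0x1)) (.nd (.lf 0x2) (.lf 0))) (.nd (.nd (.lf 0x1) (.lf 0)) (.nd (.lf 0x3) (.lf 0)))) (.nd (.nd (.nd (.lf 0x3) (.lf 0)) (.nd (.lf 0x4) (.lf 0))) (.nd (.nd (.lf 0x4) (.lf 0)) (.nd (.lf 0x4) (.lf 0))))) (.nd (.nd (.nd (.nd (.lf 0x4) (.lf 0x1)) (.nd (.lf 0x4) (.lf 0))) (.nd (.nd (.lf 0x2) (.lf 0)) (.nd (.lf 0x4) (.lf 0)))) (.nd (.nd (.nd (.lf 0x4) (.lf 0)) (.nd (.lf 0x6) (.lf 0))) (.nd (.nd (.lf 0x2) (.lf 0)) (.nd (.lf 0x3) (.lf 0)))))) (.nd (.nd (.nd (.nd (.nd (.lf 0x4) (.lf 0x3)) (.nd (.lf 0x3) (.lf 0))) (.nd (.nd (.lf 0x1) (.lf 0)) (.nd (.lf 0x4) (.lf 0)))) (.nd (.nd (.nd (.lf 0x1) (.lf 0)) (.nd (.lf 0x4) (.lf 0))) (.nd (.nd (.lf 0x6) (.lf 0)) (.nd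 (.lf 0x2) (.lf 0))))) (.nd (.nd (.nd (.nd (.lf 0x1) (.lf 0x2)) (.nd (.lf 0x3) (.lf 0))) (.nd (.nd (.lf 0x6) (.lf 0)) (.nd (.lf 0x6) (.lf 0)))) (.nd (.nd (.nd (.lf 0x2) (.lf 0)) (.nd (.lf 0x4) (.lf 0))) (.nd (.nd (.lf 0x1) (.lf 0)) (.nd (.lf 0x2) (.lf 0)))))))
def labQ_naabbab : Tr := (.nd (.nd (.nd (.nd (.nd (.nd (.lf 0x4) (.lf 0x4)) (.nd (.lf 0x4) (.lf 0))) (.nd (.nd (.lf 0x4) (.lf 0)) (.nd (.lf 0x2) (.lf 0)))) (.nd (.nd (.nd (.lf 0x4) (.lf 0)) (.nd (.lf 0x3) (.lf 0))) (.nd (.nd (.lf 0x5) (.lf 0)) (.nd (.lf 0x4) (.lf 0))))) (.nd (.nd (.nd (.nd (.lf 0x4) (.lf 0x4)) (.nd (.lf 0x6) (.lf 0))) (.nd (.nd (.lf 0x4) (.lf 0)) (.nd (.lf 0x1) (.lf 0)))) (.nd (.nd (.nd (.lf 0x6) (.lf 0)) (.nd (.lf 0x3) (.lf 0))) (.nd (.nd (.lf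 0x6) (.lf 0)) (.nd (.lf 0x4) (.lf 0)))))) (.nd (.nd (.nd (.nd (.nd (.lf 0x3) (.lf 0x1)) (.nd (.lf 0x2) (.lf 0))) (.nd (.nd (.lf 0x2) (.lf 0)) (.nd (.lf 0x5) (.lf 0)))) (.nd (.nd (.nd (.lf 0x5) (.lf 0)) (.nd (.lf 0x4) (.lf 0))) (.nd (.nd (.lf 0x4) (.lf 0)) (.nd (.lf 0x1) (.lf 0))))) (.nd (.nd (.nd (.nd (.lf 0x4) (.lf 0x4)) (.nd (.lf 0x3) (.lf 0))) (.nd (.nd (.lf 0x4) (.lf 0)) (.nd (.lf 0x4) (.lf 0)))) (.nd (.nd (.nd (.lf 0x3) (.lf 0)) (.nd (.lf 0x4) (.lf 0))) (.nd (.nd (.lf 0x4) (.lf 0)) (.nd (.lf 0x4) (.lf 0)))))))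
def labQ_naabbba : Tr := (.nd (.nd (.nd (.nd (.nd (.nd (.lf 0x2) (.lf 0x5)) (.nd (.lf 0x4) (.lf 0))) (.nd (.nd (.lf 0x1) (.lf 0)) (.nd (.lf 0x2) (.lf 0)))) (.nd (.nd (.nd (.lf 0x5) (.lf 0)) (.nd (.lf 0x1) (.lf 0))) (.nd (.nd (.lf 0x4) (.lf 0)) (.nd (.lf 0x6) (.lf 0))))) (.nd (.nd (.nd (.nd (.lf 0x4) (.lf 0x3)) (.nd (.lf 0x4) (.lf 0))) (.nd (.nd (.lf 0x1) (.lf 0)) (.nd (.lf 0x3) (.lf 0)))) (.nd (.nd (.nd (.lf 0x4) (.lf 0)) (.nd (.lf 0x4) (.lf 0))) (.nd (.nd (.lf 0x4) (.lf 0)) (.nd (.lf 0x6) (.lf 0)))))) (.nd (.nd (.nd (.nd (.nd (.lf 0x2) (.lf 0x4)) (.nd (.lf 0x1) (.lf 0))) (.nd (.nd (.lf 0x6) (.lf 0)) (.nd (.lf 0x5) (.lf 0)))) (.nd (.nd (.nd (.lf 0x4) (.lf 0)) (.nd (.lf 0x6) (.lf 0))) (.nd (.nd (.lf 0x6) (.lf 0)) (.nd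 (.lf 0x3) (.lf 0))))) (.nd (.nd (.nd (.nd (.lf 0x4) (.lf 0x1)) (.nd (.lf 0x2) (.lf 0))) (.nd (.nd (.lf 0x4) (.lf 0)) (.nd (.lf 0x4) (.lf 0)))) (.nd (.nd (.nd (.lf 0x1) (.lf 0)) (.nd (.lf 0x6) (.lf 0))) (.nd (.nd (.lf 0x4) (.lf 0)) (.nd (.lf 0x3) (.lf 0)))))))
def labQ_naabbbb : Tr := (.nd (.nd (.nd (.nd (.nd (.nd (.lf 0x4) (.lf 0x6)) (.nd (.lf 0x4) (.lf 0))) (.nd (.nd (.lf 0x1) (.lf 0)) (.nd (.lf 0x6) (.lf 0)))) (.nd (.nd (.nd (.lf 0x6) (.lf 0)) (.nd (.lf 0x4) (.lf 0))) (.nd (.nd (.lf 0x2) (.lf 0)) (.nd (.lf 0x2) (.lf 0))))) (.nd (.nd (.nd (.nd (.lf 0x4) (.lf 0x4)) (.nd (.lf 0x4) (.lf 0))) (.nd (.nd (.lf 0x4) (.lf 0)) (.nd (.lf 0x4) (.lf 0)))) (.nd (.nd (.nd (.lf 0x2) (.lf 0)) (.nd (.lf 0x4) (.lf 0))) (.nd (.nd (.lf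 0x3) (.lf 0)) (.nd (.lf 0x4) (.lf 0)))))) (.nd (.nd (.nd (.nd (.nd (.lf 0x4) (.lf 0x4)) (.nd (.lf 0x6) (.lf 0))) (.nd (.nd (.lf 0x3) (.lf 0)) (.nd (.lf 0x4) (.lf 0)))) (.nd (.nd (.nd (.lf 0x1) (.lf 0)) (.nd (.lf 0x3) (.lf 0))) (.nd (.nd (.lf 0x4) (.lf 0)) (.nd (.lf 0x4) (.lf 0))))) (.nd (.nd (.nd (.nd (.lf 0x6) (.lf 0x4)) (.nd (.lf 0x6) (.lf 0))) (.nd (.nd (.lf 0x4) (.lf 0)) (.nd (.lf 0x6) (.lf 0)))) (.nd (.nd (.nd (.lf 0x4) (.lf 0)) (.nd (.lf 0x3) (.lf 0))) (.nd (.nd (.lf 0x2) (.lf 0)) (.nd (.lf 0x1) (.lf 0)))))))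
def labQ_nabaaaa : Tr := (.nd (.nd (.nd (.nd (.nd (.nd (.lf 0x1) (.lf 0x4)) (.nd (.lf 0x4) (.lf 0))) (.nd (.nd (.lf 0x4) (.lf 0)) (.nd (.lf 0x4) (.lf 0)))) (.nd (.nd (.nd (.lf 0x4) (.lf 0)) (.nd (.lf 0x4) (.lf 0))) (.nd (.nd (.lf 0x2) (.lf 0)) (.nd (.lf 0x4) (.lf 0))))) (.nd (.nd (.nd (.nd (.lf 0x6) (.lf 0x4)) (.nd (.lf 0x6) (.lf 0))) (.nd (.nd (.lf 0x6) (.lf 0)) (.nd (.lf 0x1) (.lf 0)))) (.nd (.nd (.nd (.lf 0x2) (.lf 0)) (.nd (.lf 0x6) (.lf 0))) (.nd (.nd (.lf 0x1) (.lf 0)) (.nd (.lf 0x4) (.lf 0)))))) (.nd (.nd (.nd (.nd (.nd (.lf 0x1) (.lf 0x4)) (.nd (.lf 0x1) (.lf 0))) (.nd (.nd (.lf 0x4) (.lf 0)) (.nd (.lf 0x2) (.lf 0)))) (.nd (.nd (.nd (.lf 0x3) (.lf 0)) (.nd (.lf 0x4) (.lf 0))) (.nd (.nd (.lf 0x2) (.lf 0)) (.nd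 (.lf 0x5) (.lf 0))))) (.nd (.nd (.nd (.nd (.lf 0x4) (.lf 0x4)) (.nd (.lf 0x6) (.lf 0))) (.nd (.nd (.lf 0x4) (.lf 0)) (.nd (.lf 0x6) (.lf 0)))) (.nd (.nd (.nd (.lf 0x1) (.lf 0)) (.nd (.lf 0x3) (.lf 0))) (.nd (.nd (.lf 0x4) (.lf 0)) (.nd (.lf 0x2) (.lf 0)))))))
def labQ_nabaaab : Tr := (.nd (.nd (.nd (.nd (.nd (.nd (.lf 0x1) (.lf 0x3)) (.nd (.lf 0x3) (.lf 0))) (.nd (.nd (.lf 0x5) (.lf 0)) (.nd (.lf 0x6) (.lf 0)))) (.nd (.nd (.nd (.lf 0x4) (.lf 0)) (.nd (.lf 0x4) (.lf 0))) (.nd (.nd (.lf 0x2) (.lf 0)) (.nd (.lf 0x4) (.lf 0))))) (.nd (.nd (.nd (.nd (.lf 0x6) (.lf 0x5)) (.nd (.lf 0x3) (.lf 0))) (.nd (.nd (.lf 0x4) (.lf 0)) (.nd (.lf 0x4) (.lf 0)))) (.nd (.nd (.nd (.lf 0x2) (.lf 0)) (.nd (.lf 0x4) (.lf 0))) (.nd (.nd (.lf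 0x2) (.lf 0)) (.nd (.lf 0x4) (.lf 0)))))) (.nd (.nd (.nd (.nd (.nd (.lf 0x2) (.lf 0x4)) (.nd (.lf 0x2) (.lf 0))) (.nd (.nd (.lf 0x4) (.lf 0)) (.nd (.lf 0x1) (.lf 0)))) (.nd (.nd (.nd (.lf 0x1) (.lf 0)) (.nd (.lf 0x3) (.lf 0))) (.nd (.nd (.lf 0x4) (.lf 0)) (.nd (.lf 0x4) (.lf 0))))) (.nd (.nd (.nd (.nd (.lf 0x4) (.lf 0x6)) (.nd (.lf 0x4) (.lf 0))) (.nd (.nd (.lf 0x4) (.lf 0)) (.nd (.lf 0x4) (.lf 0)))) (.nd (.nd (.nd (.lf 0x1) (.lf 0)) (.nd (.lf 0x4) (.lf 0))) (.nd (.nd (.lf 0x1) (.lf 0)) (.nd (.lf 0x6) (.lf 0)))))))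
def labQ_nabaaba : Tr := (.nd (.nd (.nd (.nd (.nd (.nd (.lf 0x3) (.lf 0x4)) (.nd (.lf 0x4) (.lf 0))) (.nd (.nd (.lf 0x4) (.lf 0)) (.nd (.lf 0x3) (.lf 0)))) (.nd (.nd (.nd (.lf 0x4) (.lf 0)) (.nd (.lf 0x4) (.lf 0))) (.nd (.nd (.lf 0x4) (.lf 0)) (.nd (.lf 0x4) (.lf 0))))) (.nd (.nd (.nd (.nd (.lf 0x3) (.lf 0x3)) (.nd (.lf 0x4) (.lf 0))) (.nd (.nd (.lf 0x3) (.lf 0)) (.nd (.lf 0x6) (.lf 0)))) (.nd (.nd (.nd (.lf 0x4) (.lf 0)) (.nd (.lf 0x1) (.lf 0))) (.nd (.nd (.lf 0x1) (.lf 0)) (.nd (.lf 0x4) (.lf 0)))))) (.nd (.nd (.nd (.nd (.nd (.lf 0x2) (.lf 0x4)) (.nd (.lf 0x3) (.lf 0))) (.nd (.nd (.lf 0x6) (.lf 0)) (.nd (.lf 0x6) (.lf 0)))) (.nd (.nd (.nd (.lf 0x4) (.lf 0)) (.nd (.lf 0x4) (.lf 0))) (.nd (.nd (.lf 0x6) (.lf 0)) (.nd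 (.lf 0x4) (.lf 0))))) (.nd (.nd (.nd (.nd (.lf 0x3) (.lf 0x6)) (.nd (.lf 0x6) (.lf 0))) (.nd (.nd (.lf 0x6) (.lf 0)) (.nd (.lf 0x2) (.lf 0)))) (.nd (.nd (.nd (.lf 0x4) (.lf 0)) (.nd (.lf 0x1) (.lf 0))) (.nd (.nd (.lf 0x1) (.lf 0)) (.nd (.lf 0x3) (.lf 0)))))))
def labQ_nabaabb : Tr := (.nd (.nd (.nd (.nd (.nd (.nd (.lf 0x4) (.lf 0x3)) (.nd (.lf 0x4) (.lf 0))) (.nd (.nd (.lf 0x4) (.lf 0)) (.nd (.lf 0x3) (.lf 0)))) (.nd (.nd (.nd (.lf 0x4) (.lf 0)) (.nd (.lf 0x5) (.lf 0))) (.nd (.nd (.lf 0x3) (.lf 0)) (.nd (.lf 0x1) (.lf 0))))) (.nd (.nd (.nd (.nd (.lf 0x6) (.lf 0x6)) (.nd (.lf 0x4) (.lf 0))) (.nd (.nd (.lf 0x3) (.lf 0)) (.nd (.lf 0x4) (.lf 0)))) (.nd (.nd (.nd (.lf 0x2) (.lf 0)) (.nd (.lf 0x1) (.lf 0))) (.nd (.nd (.lf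 0x4) (.lf 0)) (.nd (.lf 0x4) (.lf 0)))))) (.nd (.nd (.nd (.nd (.nd (.lf 0x4) (.lf 0x3)) (.nd (.lf 0x4) (.lf 0))) (.nd (.nd (.lf 0x4) (.lf 0)) (.nd (.lf 0x4) (.lf 0)))) (.nd (.nd (.nd (.lf 0x4) (.lf 0)) (.nd (.lf 0x1) (.lf 0))) (.nd (.nd (.lf 0x3) (.lf 0)) (.nd (.lf 0x1) (.lf 0))))) (.nd (.nd (.nd (.nd (.lf 0x4) (.lf 0x6)) (.nd (.lf 0x4) (.lf 0))) (.nd (.nd (.lf 0x2) (.lf 0)) (.nd (.lf 0x3) (.lf 0)))) (.nd (.nd (.nd (.lf 0x4) (.lf 0)) (.nd (.lf 0x3) (.lf 0))) (.nd (.nd (.lf 0x4) (.lf 0)) (.nd (.lf 0x4) (.lf 0)))))))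
def labQ_nababaa : Tr := (.nd (.nd (.nd (.nd (.nd (.nd (.lf 0x6) (.lf 0x2)) (.nd (.lf 0x4) (.lf 0))) (.nd (.nd (.lf 0x2) (.lf 0)) (.nd (.lf 0x4) (.lf 0)))) (.nd (.nd (.nd (.lf 0x2) (.lf 0)) (.nd (.lf 0x6) (.lf 0))) (.nd (.nd (.lf 0x2) (.lf 0)) (.nd (.lf 0x6) (.lf 0))))) (.nd (.nd (.nd (.nd (.lf 0x2) (.lf 0x4)) (.nd (.lf 0x4) (.lf 0))) (.nd (.nd (.lf 0x4) (.lf 0)) (.nd (.lf 0x5) (.lf 0)))) (.nd (.nd (.nd (.lf 0x6) (.lf 0)) (.nd (.lf 0x3) (.lf 0))) (.nd (.nd (.lf 0x3) (.lf 0)) (.nd (.lf 0x6) (.lf 0)))))) (.nd (.nd (.nd (.nd (.nd (.lf 0x2) (.lf 0x4)) (.nd (.lf 0x3) (.lf 0))) (.nd (.nd (.lf 0x3) (.lf 0)) (.nd (.lf 0x5) (.lf 0)))) (.nd (.nd (.nd (.lf 0x3) (.lf 0)) (.nd (.lf 0x1) (.lf 0))) (.nd (.nd (.lf 0x5) (.lf 0)) (.nd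 (.lf 0x3) (.lf 0))))) (.nd (.nd (.nd (.nd (.lf 0x4) (.lf 0x4)) (.nd (.lf 0x1) (.lf 0))) (.nd (.nd (.lf 0x2) (.lf 0)) (.nd (.lf 0x2) (.lf 0)))) (.nd (.nd (.nd (.lf 0x4) (.lf 0)) (.nd (.lf 0x4) (.lf 0))) (.nd (.nd (.lf 0x6) (.lf 0)) (.nd (.lf 0x4) (.lf 0)))))))
def labQ_nababab : Tr := (.nd (.nd (.nd (.nd (.nd (.nd (.lf 0x6) (.lf 0x4)) (.nd (.lf 0x1) (.lf 0))) (.nd (.nd (.lf 0x1) (.lf 0)) (.nd (.lf 0x3) (.lf 0)))) (.nd (.nd (.nd (.lf 0x4) (.lf 0)) (.nd (.lf 0x4) (.lf 0))) (.nd (.nd (.lf 0x3) (.lf 0)) (.nd (.lf 0x3) (.lf 0))))) (.nd (.nd (.nd (.nd (.lf 0x3) (.lf 0x2)) (.nd (.lf 0x4) (.lf 0))) (.nd (.nd (.lf 0x2) (.lf 0)) (.nd (.lf 0x4) (.lf 0)))) (.nd (.nd (.nd (.lf 0x5) (.lf 0)) (.nd (.lf 0x4) (.lf 0))) (.nd (.nd (.lf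 0x4) (.lf 0)) (.nd (.lf 0x6) (.lf 0)))))) (.nd (.nd (.nd (.nd (.nd (.lf 0x2) (.lf 0x1)) (.nd (.lf 0x3) (.lf 0))) (.nd (.nd (.lf 0x2) (.lf 0)) (.nd (.lf 0x4) (.lf 0)))) (.nd (.nd (.nd (.lf 0x4) (.lf 0)) (.nd (.lf 0x4) (.lf 0))) (.nd (.nd (.lf 0x6) (.lf 0)) (.nd (.lf 0x4) (.lf 0))))) (.nd (.nd (.nd (.nd (.lf 0x4) (.lf 0x3)) (.nd (.lf 0x2) (.lf 0))) (.nd (.nd (.lf 0x4) (.lf 0)) (.nd (.lf 0x4) (.lf 0)))) (.nd (.nd (.nd (.lf 0x5) (.lf 0)) (.nd (.lf 0x4) (.lf 0))) (.nd (.nd (.lf 0x4) (.lf 0)) (.nd (.lf 0x4) (.lf 0)))))))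
def labQ_nababba : Tr := (.nd (.nd (.nd (.nd (.nd (.nd (.lf 0x4) (.lf 0x6)) (.nd (.lf 0x6) (.lf 0))) (.nd (.nd (.lf 0x5) (.lf 0)) (.nd (.lf 0x4) (.lf 0)))) (.nd (.nd (.nd (.lf 0x3) (.lf 0)) (.nd (.lf 0x5) (.lf 0))) (.nd (.nd (.lf 0x4) (.lf 0)) (.nd (.lf 0x2) (.lf 0))))) (.nd (.nd (.nd (.nd (.lf 0x6) (.lf 0x4)) (.nd (.lf 0x6) (.lf 0))) (.nd (.nd (.lf 0x1) (.lf 0)) (.nd (.lf 0x4) (.lf 0)))) (.nd (.nd (.nd (.lf 0x4) (.lf 0)) (.nd (.lf 0x5) (.lf 0))) (.nd (.nd (.lf 0x6) (.lf 0)) (.nd (.lf 0x2) (.lf 0)))))) (.nd (.nd (.nd (.nd (.nd (.lf 0x4) (.lf 0x3)) (.nd (.lf 0x1) (.lf 0))) (.nd (.nd (.lf 0x5) (.lf 0)) (.nd (.lf 0x1) (.lf 0)))) (.nd (.nd (.nd (.lf 0x1) (.lf 0)) (.nd (.lf 0x1) (.lf 0))) (.nd (.nd (.lf 0x6) (.lf 0)) (.nd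 (.lf 0x4) (.lf 0))))) (.nd (.nd (.nd (.nd (.lf 0x4) (.lf 0x4)) (.nd (.lf 0x6) (.lf 0))) (.nd (.nd (.lf 0x1) (.lf 0)) (.nd (.lf 0x3) (.lf 0)))) (.nd (.nd (.nd (.lf 0x4) (.lf 0)) (.nd (.lf 0x4) (.lf 0))) (.nd (.nd (.lf 0x4) (.lf 0)) (.nd (.lf 0x6) (.lf 0)))))))
def labQ_nababbb : Tr := (.nd (.nd (.nd (.nd (.nd (.nd (.lf 0x4) (.lf 0x4)) (.nd (.lf 0x4) (.lf 0))) (.nd (.nd (.lf 0x2) (.lf 0)) (.nd (.lf 0x1) (.lf 0)))) (.nd (.nd (.nd (.lf 0x6) (.lf 0)) (.nd (.lf 0x2) (.lf 0))) (.nd (.nd (.lf 0x2) (.lf 0)) (.nd (.lf 0x4) (.lf 0))))) (.nd (.nd (.nd (.nd (.lf 0x1) (.lf 0x1)) (.nd (.lf 0x6) (.lf 0))) (.nd (.nd (.lf 0x4) (.lf 0)) (.nd (.lf 0x6) (.lf 0)))) (.nd (.nd (.nd (.lf 0x6) (.lf 0)) (.nd (.lf 0x4) (.lf 0))) (.nd (.nd (.lf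 0x3) (.lf 0)) (.nd (.lf 0x2) (.lf 0)))))) (.nd (.nd (.nd (.nd (.nd (.lf 0x6) (.lf 0x1)) (.nd (.lf 0x6) (.lf 0))) (.nd (.nd (.lf 0x1) (.lf 0)) (.nd (.lf 0x3) (.lf 0)))) (.nd (.nd (.nd (.lf 0x1) (.lf 0)) (.nd (.lf 0x2) (.lf 0))) (.nd (.nd (.lf 0x3) (.lf 0)) (.nd (.lf 0x4) (.lf 0))))) (.nd (.nd (.nd (.nd (.lf 0x1) (.lf 0x3)) (.nd (.lf 0x4) (.lf 0))) (.nd (.nd (.lf 0x4) (.lf 0)) (.nd (.lf 0x2) (.lf 0)))) (.nd (.nd (.nd (.lf 0x4) (.lf 0)) (.nd (.lf 0x4) (.lf 0))) (.nd (.nd (.lf 0x6) (.lf 0)) (.nd (.lf 0x1) (.lf 0)))))))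
def labQ_nabbaaa : Tr := (.nd (.nd (.nd (.nd (.nd (.nd (.lf 0x1) (.lf 0x2)) (.nd (.lf 0x1) (.lf 0))) (.nd (.nd (.lf 0x4) (.lf 0)) (.nd (.lf 0x1) (.lf 0)))) (.nd (.nd (.nd (.lf 0x6) (.lf 0)) (.nd (.lf 0x4) (.lf 0))) (.nd (.nd (.lf 0x5) (.lf 0)) (.nd (.lf 0x3) (.lf 0))))) (.nd (.nd (.nd (.nd (.lf 0x4) (.lf 0x6)) (.nd (.lf 0x4) (.lf 0))) (.nd (.nd (.lf 0x4) (.lf 0)) (.nd (.lf 0x4) (.lf 0)))) (.nd (.nd (.nd (.lf 0x4) (.lf 0)) (.nd (.lf 0x6) (.lf 0))) (.nd (.nd (.lf 0x1) (.lf 0)) (.nd (.lf 0x4) (.lf 0)))))) (.nd (.nd (.nd (.nd (.nd (.lf 0x6) (.lf 0x6)) (.nd (.lf 0x6) (.lf 0))) (.nd (.nd (.lf 0x6) (.lf 0)) (.nd (.lf 0x4) (.lf 0)))) (.nd (.nd (.nd (.lf 0x2) (.lf 0)) (.nd (.lf 0x4) (.lf 0))) (.nd (.nd (.lf 0x3) (.lf 0)) (.nd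 (.lf 0x1) (.lf 0))))) (.nd (.nd (.nd (.nd (.lf 0x1) (.lf 0x1)) (.nd (.lf 0x2) (.lf 0))) (.nd (.nd (.lf 0x4) (.lf 0)) (.nd (.lf 0x2) (.lf 0)))) (.nd (.nd (.nd (.lf 0x2) (.lf 0)) (.nd (.lf 0x2) (.lf 0))) (.nd (.nd (.lf 0x2) (.lf 0)) (.nd (.lf 0x1) (.lf 0)))))))
def labQ_nabbaab : Tr := (.nd (.nd (.nd (.nd (.nd (.nd (.lf 0x4) (.lf 0x2)) (.nd (.lf 0x6) (.lf 0))) (.nd (.nd (.lf 0x4) (.lf 0)) (.nd (.lf 0x4) (.lf 0)))) (.nd (.nd (.nd (.lf 0x6) (.lf 0)) (.nd (.lf 0x4) (.lf 0))) (.nd (.nd (.lf 0x4) (.lf 0)) (.nd (.lf 0x6) (.lf 0))))) (.nd (.nd (.nd (.nd (.lf 0x4) (.lf 0x6)) (.nd (.lf 0x4) (.lf 0))) (.nd (.nd (.lf 0x2) (.lf 0)) (.nd (.lf 0x4) (.lf 0)))) (.nd (.nd (.nd (.lf 0x4) (.lf 0)) (.nd (.lf 0x6) (.lf 0))) (.nd (.nd (.lf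 0x4) (.lf 0)) (.nd (.lf 0x4) (.lf 0)))))) (.nd (.nd (.nd (.nd (.nd (.lf 0x4) (.lf 0x3)) (.nd (.lf 0x2) (.lf 0))) (.nd (.nd (.lf 0x4) (.lf 0)) (.nd (.lf 0x4) (.lf 0)))) (.nd (.nd (.nd (.lf 0x4) (.lf 0)) (.nd (.lf 0x2) (.lf 0))) (.nd (.nd (.lf 0x3) (.lf 0)) (.nd (.lf 0x3) (.lf 0))))) (.nd (.nd (.nd (.nd (.lf 0x4) (.lf 0x4)) (.nd (.lf 0x4) (.lf 0))) (.nd (.nd (.lf 0x2) (.lf 0)) (.nd (.lf 0x2) (.lf 0)))) (.nd (.nd (.nd (.lf 0x2) (.lf 0)) (.nd (.lf 0x1) (.lf 0))) (.nd (.nd (.lf 0x4) (.lf 0)) (.nd (.lf 0x4) (.lf 0)))))))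
def labQ_nabbaba : Tr := (.nd (.nd (.nd (.nd (.nd (.nd (.lf 0x2) (.lf 0x3)) (.nd (.lf 0x6) (.lf 0))) (.nd (.nd (.lf 0x2) (.lf 0)) (.nd (.lf 0x4) (.lf 0)))) (.nd (.nd (.nd (.lf 0x2) (.lf 0)) (.nd (.lf 0x4) (.lf 0))) (.nd (.nd (.lf 0x4) (.lf 0)) (.nd (.lf 0x2) (.lf 0))))) (.nd (.nd (.nd (.nd (.lf 0x6) (.lf 0x4)) (.nd (.lf 0x1) (.lf 0))) (.nd (.nd (.lf 0x3) (.lf 0)) (.nd (.lf 0x6) (.lf 0)))) (.nd (.nd (.nd (.lf 0x6) (.lf 0)) (.nd (.lf 0x2) (.lf 0))) (.nd (.nd (.lf 0x3) (.lf 0)) (.nd (.lf 0x1) (.lf 0)))))) (.nd (.nd (.nd (.nd (.nd (.lf 0x3) (.lf 0x4)) (.nd (.lf 0x6) (.lf 0))) (.nd (.nd (.lf 0x6) (.lf 0)) (.nd (.lf 0x1) (.lf 0)))) (.nd (.nd (.nd (.lf 0x4) (.lf 0)) (.nd (.lf 0x4) (.lf 0))) (.nd (.nd (.lf 0x4) (.lf 0)) (.nd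 (.lf 0x1) (.lf 0))))) (.nd (.nd (.nd (.nd (.lf 0x1) (.lf 0x4)) (.nd (.lf 0x2) (.lf 0))) (.nd (.nd (.lf 0x4) (.lf 0)) (.nd (.lf 0x2) (.lf 0)))) (.nd (.nd (.nd (.lf 0x4) (.lf 0)) (.nd (.lf 0x6) (.lf 0))) (.nd (.nd (.lf 0x6) (.lf 0)) (.nd (.lf 0x3) (.lf 0)))))))
def labQ_nabbabb : Tr := (.nd (.nd (.nd (.nd (.nd (.nd (.lf 0x1) (.lf 0x3)) (.nd (.lf 0x4) (.lf 0))) (.nd (.nd (.lf 0x6) (.lf 0)) (.nd (.lf 0x4) (.lf 0)))) (.nd (.nd (.nd (.lf 0x6) (.lf 0)) (.nd (.lf 0x4) (.lf 0))) (.nd (.nd (.lf 0x1) (.lf 0)) (.nd (.lf 0x6) (.lf 0))))) (.nd (.nd (.nd (.nd (.lf 0x4) (.lf 0x2)) (.nd (.lf 0x1) (.lf 0))) (.nd (.nd (.lf 0x1) (.lf 0)) (.nd (.lf 0x4) (.lf 0)))) (.nd (.nd (.nd (.lf 0x1) (.lf 0)) (.nd (.lf 0x1) (.lf 0))) (.nd (.nd (.lf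 0x5) (.lf 0)) (.nd (.lf 0x4) (.lf 0)))))) (.nd (.nd (.nd (.nd (.nd (.lf 0x5) (.lf 0x2)) (.nd (.lf 0x4) (.lf 0))) (.nd (.nd (.lf 0x6) (.lf 0)) (.nd (.lf 0x4) (.lf 0)))) (.nd (.nd (.nd (.lf 0x3) (.lf 0)) (.nd (.lf 0x4) (.lf 0))) (.nd (.nd (.lf 0x3) (.lf 0)) (.nd (.lf 0x6) (.lf 0))))) (.nd (.nd (.nd (.nd (.lf 0x2) (.lf 0x3)) (.nd (.lf 0x4) (.lf 0))) (.nd (.nd (.lf 0x2) (.lf 0)) (.nd (.lf 0x2) (.lf 0)))) (.nd (.nd (.nd (.lf 0x1) (.lf 0)) (.nd (.lf 0x4) (.lf 0))) (.nd (.nd (.lf 0x1) (.lf 0)) (.nd (.lf 0x4) (.lf 0)))))))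
def labQ_nabbbaa : Tr := (.nd (.nd (.nd (.nd (.nd (.nd (.lf 0x2) (.lf 0x4)) (.nd (.lf 0x4) (.lf 0))) (.nd (.nd (.lf 0x4) (.lf 0)) (.nd (.lf 0x1) (.lf 0)))) (.nd (.nd (.nd (.lf 0x3) (.lf 0)) (.nd (.lf 0x5) (.lf 0))) (.nd (.nd (.lf 0x4) (.lf 0)) (.nd (.lf 0x4) (.lf 0))))) (.nd (.nd (.nd (.nd (.lf 0x4) (.lf 0x1)) (.nd (.lf 0x1) (.lf 0))) (.nd (.nd (.lf 0x1) (.lf 0)) (.nd (.lf 0x4) (.lf 0)))) (.nd (.nd (.nd (.lf 0x2) (.lf 0)) (.nd (.lf 0x1) (.lf 0))) (.nd (.nd (.lf 0x4) (.lf 0)) (.nd (.lf 0x1) (.lf 0)))))) (.nd (.nd (.nd (.nd (.nd (.lf 0x4) (.lf 0x4)) (.nd (.lf 0x4) (.lf 0))) (.nd (.nd (.lf 0x2) (.lf 0)) (.nd (.lf 0x4) (.lf 0)))) (.nd (.nd (.nd (.lf 0x6) (.lf 0)) (.nd (.lf 0x6) (.lf 0))) (.nd (.nd (.lf 0x4) (.lf 0)) (.nd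 (.lf 0x3) (.lf 0))))) (.nd (.nd (.nd (.nd (.lf 0x2) (.lf 0x3)) (.nd (.lf 0x4) (.lf 0))) (.nd (.nd (.lf 0x4) (.lf 0)) (.nd (.lf 0x4) (.lf 0)))) (.nd (.nd (.nd (.lf 0x3) (.lf 0)) (.nd (.lf 0x6) (.lf 0))) (.nd (.nd (.lf 0x3) (.lf 0)) (.nd (.lf 0x6) (.lf 0)))))))
def labQ_nabbbab : Tr := (.nd (.nd (.nd (.nd (.nd (.nd (.lf 0x3) (.lf 0x6)) (.nd (.lf 0x2) (.lf 0))) (.nd (.nd (.lf 0x2) (.lf 0)) (.nd (.lf 0x2) (.lf 0)))) (.nd (.nd (.nd (.lf 0x2) (.lf 0)) (.nd (.lf 0x4) (.lf 0))) (.nd (.nd (.lf 0x2) (.lf 0)) (.nd (.lf 0x3) (.lf 0))))) (.nd (.nd (.nd (.nd (.lf 0x3) (.lf 0x3)) (.nd (.lf 0x4) (.lf 0))) (.nd (.nd (.lf 0x2) (.lf 0)) (.nd (.lf 0x6) (.lf 0)))) (.nd (.nd (.nd (.lf 0x1) (.lf 0)) (.nd (.lf 0x1) (.lf 0))) (.nd (.nd (.lf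 0x4) (.lf 0)) (.nd (.lf 0x1) (.lf 0)))))) (.nd (.nd (.nd (.nd (.nd (.lf 0x4) (.lf 0x6)) (.nd (.lf 0x4) (.lf 0))) (.nd (.nd (.lf 0x4) (.lf 0)) (.nd (.lf 0x3) (.lf 0)))) (.nd (.nd (.nd (.lf 0x6) (.lf 0)) (.nd (.lf 0x6) (.lf 0))) (.nd (.nd (.lf 0x4) (.lf 0)) (.nd (.lf 0x4) (.lf 0))))) (.nd (.nd (.nd (.nd (.lf 0x6) (.lf 0x4)) (.nd (.lf 0x6) (.lf 0))) (.nd (.nd (.lf 0x1) (.lf 0)) (.nd (.lf 0x6) (.lf 0)))) (.nd (.nd (.nd (.lf 0x4) (.lf 0)) (.nd (.lf 0x4) (.lf 0))) (.nd (.nd (.lf 0x2) (.lf 0)) (.nd (.lf 0x3) (.lf 0)))))))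
def labQ_nabbbba : Tr := (.nd (.nd (.nd (.nd (.nd (.nd (.lf 0x1) (.lf 0x4)) (.nd (.lf 0x6) (.lf 0))) (.nd (.nd (.lf 0x4) (.lf 0)) (.nd (.lf 0x4) (.lf 0)))) (.nd (.nd (.nd (.lf 0x6) (.lf 0)) (.nd (.lf 0x4) (.lf 0))) (.nd (.nd (.lf 0x2) (.lf 0)) (.nd (.lf 0x2) (.lf 0))))) (.nd (.nd (.nd (.nd (.lf 0x1) (.lf 0x4)) (.nd (.lf 0x4) (.lf 0))) (.nd (.nd (.lf 0x2) (.lf 0)) (.nd (.lf 0x4) (.lf 0)))) (.nd (.nd (.nd (.lf 0x4) (.lf 0)) (.nd (.lf 0x4) (.lf 0))) (.nd (.nd (.lf 0x3) (.lf 0)) (.nd (.lf 0x6) (.lf 0)))))) (.nd (.nd (.nd (.nd (.nd (.lf 0x4) (.lf 0x2)) (.nd (.lf 0x4) (.lf 0))) (.nd (.nd (.lf 0x1) (.lf 0)) (.nd (.lf 0x1) (.lf 0)))) (.nd (.nd (.nd (.lf 0x2) (.lf 0)) (.nd (.lf 0x6) (.lf 0))) (.nd (.nd (.lf 0x6) (.lf 0)) (.nd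 (.lf 0x1) (.lf 0))))) (.nd (.nd (.nd (.nd (.lf 0x4) (.lf 0x4)) (.nd (.lf 0x4) (.lf 0))) (.nd (.nd (.lf 0x2) (.lf 0)) (.nd (.lf 0x6) (.lf 0)))) (.nd (.nd (.nd (.lf 0x2) (.lf 0)) (.nd (.lf 0x6) (.lf 0))) (.nd (.nd (.lf 0x5) (.lf 0)) (.nd (.lf 0x3) (.lf 0)))))))
def labQ_nabbbbb : Tr := (.nd (.nd (.nd (.nd (.nd (.nd (.lf 0x6) (.lf 0x6)) (.nd (.lf 0x2) (.lf 0))) (.nd (.nd (.lf 0x6) (.lf 0)) (.nd (.lf 0x4) (.lf 0)))) (.nd (.nd (.nd (.lf 0x4) (.lf 0)) (.nd (.lf 0x4) (.lf 0))) (.nd (.nd (.lf 0x2) (.lf 0)) (.nd (.lf 0x4) (.lf 0))))) (.nd (.nd (.nd (.nd (.lf 0x3) (.lf 0x4)) (.nd (.lf 0x4) (.lf 0))) (.nd (.nd (.lf 0x3) (.lf 0)) (.nd (.lf 0x4) (.lf 0)))) (.nd (.nd (.nd (.lf 0x4) (.lf 0)) (.nd (.lf 0x6) (.lf 0))) (.nd (.nd (.lf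 0x2) (.lf 0)) (.nd (.lf 0x1) (.lf 0)))))) (.nd (.nd (.nd (.nd (.nd (.lf 0x1) (.lf 0x1)) (.nd (.lf 0x4) (.lf 0))) (.nd (.nd (.lf 0x3) (.lf 0)) (.nd (.lf 0x2) (.lf 0)))) (.nd (.nd (.nd (.lf 0x6) (.lf 0)) (.nd (.lf 0x6) (.lf 0))) (.nd (.nd (.lf 0x3) (.lf 0)) (.nd (.lf 0x4) (.lf 0))))) (.nd (.nd (.nd (.nd (.lf 0x2) (.lf 0x3)) (.nd (.lf 0x4) (.lf 0))) (.nd (.nd (.lf 0x4) (.lf 0)) (.nd (.lf 0x4) (.lf 0)))) (.nd (.nd (.nd (.lf 0x6) (.lf 0)) (.nd (.lf 0x4) (.lf 0))) (.nd (.nd (.lf 0x3) (.lf 0)) (.nd (.lf 0x4) (.lf 0)))))))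
def labQ_nbaaaaa : Tr := (.nd (.nd (.nd (.nd (.nd (.nd (.lf 0x1) (.lf 0x1)) (.nd (.lf 0x4) (.lf 0))) (.nd (.nd (.lf 0x6) (.lf 0)) (.nd (.lf 0x1) (.lf 0)))) (.nd (.nd (.nd (.lf 0x4) (.lf 0)) (.nd (.lf 0x4) (.lf 0))) (.nd (.nd (.lf 0x4) (.lf 0)) (.nd (.lf 0x4) (.lf 0))))) (.nd (.nd (.nd (.nd (.lf 0x4) (.lf 0x1)) (.nd (.lf 0x4) (.lf 0))) (.nd (.nd (.lf 0x4) (.lf 0)) (.nd (.lf 0x4) (.lf 0)))) (.nd (.nd (.nd (.lf 0x4) (.lf 0)) (.nd (.lf 0x4) (.lf 0))) (.nd (.nd (.lf 0x3) (.lf 0)) (.nd (.lf 0x4) (.lf 0)))))) (.nd (.nd (.nd (.nd (.nd (.lf 0x2) (.lf 0x2)) (.nd (.lf 0x4) (.lf 0))) (.nd (.nd (.lf 0x4) (.lf 0)) (.nd (.lf 0x4) (.lf 0)))) (.nd (.nd (.nd (.lf 0x2) (.lf 0)) (.nd (.lf 0x3) (.lf 0))) (.nd (.nd (.lf 0x3) (.lf 0)) (.nd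 (.lf 0x4) (.lf 0))))) (.nd (.nd (.nd (.nd (.lf 0x5) (.lf 0x6)) (.nd (.lf 0x1) (.lf 0))) (.nd (.nd (.lf 0x2) (.lf 0)) (.nd (.lf 0x4) (.lf 0)))) (.nd (.nd (.nd (.lf 0x6) (.lf 0)) (.nd (.lf 0x4) (.lf 0))) (.nd (.nd (.lf 0x4) (.lf 0)) (.nd (.lf 0x6) (.lf 0)))))))
def labQ_nbaaaab : Tr := (.nd (.nd (.nd (.nd (.nd (.nd (.lf 0x1) (.lf 0x5)) (.nd (.lf 0x4) (.lf 0))) (.nd (.nd (.lf 0x1) (.lf 0)) (.nd (.lf 0x5) (.lf 0)))) (.nd (.nd (.nd (.lf 0x4) (.lf 0)) (.nd (.lf 0x2) (.lf 0))) (.nd (.nd (.lf 0x4) (.lf 0)) (.nd (.lf 0x6) (.lf 0))))) (.nd (.nd (.nd (.nd (.lf 0x4) (.lf 0x4)) (.nd (.lf 0x4) (.lf 0))) (.nd (.nd (.lf 0x2) (.lf 0)) (.nd (.lf 0x4) (.lf 0)))) (.nd (.nd (.nd (.lf 0x2) (.lf 0)) (.nd (.lf 0x1) (.lf 0))) (.nd (.nd (.lf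 0x1) (.lf 0)) (.nd (.lf 0x3) (.lf 0)))))) (.nd (.nd (.nd (.nd (.nd (.lf 0x4) (.lf 0x6)) (.nd (.lf 0x6) (.lf 0))) (.nd (.nd (.lf 0x3) (.lf 0)) (.nd (.lf 0x2) (.lf 0)))) (.nd (.nd (.nd (.lf 0x4) (.lf 0)) (.nd (.lf 0x4) (.lf 0))) (.nd (.nd (.lf 0x6) (.lf 0)) (.nd (.lf 0x6) (.lf 0))))) (.nd (.nd (.nd (.nd (.lf 0x2) (.lf 0x4)) (.nd (.lf 0x6) (.lf 0))) (.nd (.nd (.lf 0x4) (.lf 0)) (.nd (.lf 0x4) (.lf 0)))) (.nd (.nd (.nd (.lf 0x4) (.lf 0)) (.nd (.lf 0x4) (.lf 0))) (.nd (.nd (.lf 0x2) (.lf 0)) (.nd (.lf 0x3) (.lf 0)))))))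
def labQ_nbaaaba : Tr := (.nd (.nd (.nd (.nd (.nd (.nd (.lf 0x5) (.lf 0x4)) (.nd (.lf 0x1) (.lf 0))) (.nd (.nd (.lf 0x4) (.lf 0)) (.nd (.lf 0x4) (.lf 0)))) (.nd (.nd (.nd (.lf 0x4) (.lf 0)) (.nd (.lf 0x3) (.lf 0))) (.nd (.nd (.lf 0x1) (.lf 0)) (.nd (.lf 0x6) (.lf 0))))) (.nd (.nd (.nd (.nd (.lf 0x2) (.lf 0x2)) (.nd (.lf 0x5) (.lf 0))) (.nd (.nd (.lf 0x4) (.lf 0)) (.nd (.lf 0x4) (.lf 0)))) (.nd (.nd (.nd (.lf 0x4) (.lf 0)) (.nd (.lf 0x6) (.lf 0))) (.nd (.nd (.lf 0x4) (.lf 0)) (.nd (.lf 0x3) (.lf 0)))))) (.nd (.nd (.nd (.nd (.nd (.lf 0x5) (.lf 0x1)) (.nd (.lf 0x1) (.lf 0))) (.nd (.nd (.lf 0x4) (.lf 0)) (.nd (.lf 0x2) (.lf 0)))) (.nd (.nd (.nd (.lf 0x6) (.lf 0)) (.nd (.lf 0x6) (.lf 0))) (.nd (.nd (.lf 0x4) (.lf 0)) (.nd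 (.lf 0x1) (.lf 0))))) (.nd (.nd (.nd (.nd (.lf 0x6) (.lf 0x3)) (.nd (.lf 0x3) (.lf 0))) (.nd (.nd (.lf 0x1) (.lf 0)) (.nd (.lf 0x6) (.lf 0)))) (.nd (.nd (.nd (.lf 0x4) (.lf 0)) (.nd (.lf 0x2) (.lf 0))) (.nd (.nd (.lf 0x4) (.lf 0)) (.nd (.lf 0x4) (.lf 0)))))))
def labQ_nbaaabb : Tr := (.nd (.nd (.nd (.nd (.nd (.nd (.lf 0x4) (.lf 0x3)) (.nd (.lf 0x6) (.lf 0))) (.nd (.nd (.lf 0x2) (.lf 0)) (.nd (.lf 0x6) (.lf 0)))) (.nd (.nd (.nd (.lf 0x4) (.lf 0)) (.nd (.lf 0x6) (.lf 0))) (.nd (.nd (.lf 0x6) (.lf 0)) (.nd (.lf 0x5) (.lf 0))))) (.nd (.nd (.nd (.nd (.lf 0x1) (.lf 0x4)) (.nd (.lf 0x1) (.lf 0))) (.nd (.nd (.lf 0x6) (.lf 0)) (.nd (.lf 0x3) (.lf 0)))) (.nd (.nd (.nd (.lf 0x6) (.lf 0)) (.nd (.lf 0x4) (.lf 0))) (.nd (.nd (.lf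 0x4) (.lf 0)) (.nd (.lf 0x3) (.lf 0)))))) (.nd (.nd (.nd (.nd (.nd (.lf 0x4) (.lf 0x4)) (.nd (.lf 0x4) (.lf 0))) (.nd (.nd (.lf 0x4) (.lf 0)) (.nd (.lf 0x2) (.lf 0)))) (.nd (.nd (.nd (.lf 0x3) (.lf 0)) (.nd (.lf 0x5) (.lf 0))) (.nd (.nd (.lf 0x4) (.lf 0)) (.nd (.lf 0x6) (.lf 0))))) (.nd (.nd (.nd (.nd (.lf 0x2) (.lf 0x4)) (.nd (.lf 0x6) (.lf 0))) (.nd (.nd (.lf 0x4) (.lf 0)) (.nd (.lf 0x4) (.lf 0)))) (.nd (.nd (.nd (.lf 0x4) (.lf 0)) (.nd (.lf 0x2) (.lf 0))) (.nd (.nd (.lf 0x4) (.lf 0)) (.nd (.lf 0x6) (.lf 0)))))))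
def labQ_nbaabaa : Tr := (.nd (.nd (.nd (.nd (.nd (.nd (.lf 0x4) (.lf 0x4)) (.nd (.lf 0x3) (.lf 0))) (.nd (.nd (.lf 0x4) (.lf 0)) (.nd (.lf 0x4) (.lf 0)))) (.nd (.nd (.nd (.lf 0x1) (.lf 0)) (.nd (.lf 0x4) (.lf 0))) (.nd (.nd (.lf 0x2) (.lf 0)) (.nd (.lf 0x4) (.lf 0))))) (.nd (.nd (.nd (.nd (.lf 0x2) (.lf 0x1)) (.nd (.lf 0x4) (.lf 0))) (.nd (.nd (.lf 0x2) (.lf 0)) (.nd (.lf 0x4) (.lf 0)))) (.nd (.nd (.nd (.lf 0x6) (.lf 0)) (.nd (.lf 0x2) (.lf 0))) (.nd (.nd (.lf 0x3) (.lf 0)) (.nd (.lf 0x3) (.lf 0)))))) (.nd (.nd (.nd (.nd (.nd (.lf 0x4) (.lf 0x4)) (.nd (.lf 0x4) (.lf 0))) (.nd (.nd (.lf 0x4) (.lf 0)) (.nd (.lf 0x6) (.lf 0)))) (.nd (.nd (.nd (.lf 0x4) (.lf 0)) (.nd (.lf 0x4) (.lf 0))) (.nd (.nd (.lf 0x4) (.lf 0)) (.nd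 (.lf 0x4) (.lf 0))))) (.nd (.nd (.nd (.nd (.lf 0x6) (.lf 0x2)) (.nd (.lf 0x2) (.lf 0))) (.nd (.nd (.lf 0x6) (.lf 0)) (.nd (.lf 0x2) (.lf 0)))) (.nd (.nd (.nd (.lf 0x2) (.lf 0)) (.nd (.lf 0x1) (.lf 0))) (.nd (.nd (.lf 0x6) (.lf 0)) (.nd (.lf 0x1) (.lf 0)))))))
def labQ_nbaabab : Tr := (.nd (.nd (.nd (.nd (.nd (.nd (.lf 0x4) (.lf 0x3)) (.nd (.lf 0x6) (.lf 0))) (.nd (.nd (.lf 0x4) (.lf 0)) (.nd (.lf 0x4) (.lf 0)))) (.nd (.nd (.nd (.lf 0x4) (.lf 0)) (.nd (.lf 0x3) (.lf 0))) (.nd (.nd (.lf 0x4) (.lf 0)) (.nd (.lf 0x4) (.lf 0))))) (.nd (.nd (.nd (.nd (.lf 0x4) (.lf 0x2)) (.nd (.lf 0x6) (.lf 0))) (.nd (.nd (.lf 0x2) (.lf 0)) (.nd (.lf 0x4) (.lf 0)))) (.nd (.nd (.nd (.lf 0x4) (.lf 0)) (.nd (.lf 0x4) (.lf 0))) (.nd (.nd (.lf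 0x4) (.lf 0)) (.nd (.lf 0x2) (.lf 0)))))) (.nd (.nd (.nd (.nd (.nd (.lf 0x4) (.lf 0x4)) (.nd (.lf 0x6) (.lf 0))) (.nd (.nd (.lf 0x1) (.lf 0)) (.nd (.lf 0x4) (.lf 0)))) (.nd (.nd (.nd (.lf 0x6) (.lf 0)) (.nd (.lf 0x4) (.lf 0))) (.nd (.nd (.lf 0x5) (.lf 0)) (.nd (.lf 0x1) (.lf 0))))) (.nd (.nd (.nd (.nd (.lf 0x6) (.lf 0x4)) (.nd (.lf 0x4) (.lf 0))) (.nd (.nd (.lf 0x5) (.lf 0)) (.nd (.lf 0x2) (.lf 0)))) (.nd (.nd (.nd (.lf 0x4) (.lf 0)) (.nd (.lf 0x1) (.lf 0))) (.nd (.nd (.lf 0x4) (.lf 0)) (.nd (.lf 0x4) (.lf 0)))))))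
def labQ_nbaabba : Tr := (.nd (.nd (.nd (.nd (.nd (.nd (.lf 0x2) (.lf 0x3)) (.nd (.lf 0x4) (.lf 0))) (.nd (.nd (.lf 0x4) (.lf 0)) (.nd (.lf 0x4) (.lf 0)))) (.nd (.nd (.nd (.lf 0x4) (.lf 0)) (.nd (.lf 0x3) (.lf 0))) (.nd (.nd (.lf 0x4) (.lf 0)) (.nd (.lf 0x4) (.lf 0))))) (.nd (.nd (.nd (.nd (.lf 0x6) (.lf 0x3)) (.nd (.lf 0x6) (.lf 0))) (.nd (.nd (.lf 0x2) (.lf 0)) (.nd (.lf 0x4) (.lf 0)))) (.nd (.nd (.nd (.lf 0x4) (.lf 0)) (.nd (.lf 0x4) (.lf 0))) (.nd (.nd (.lf 0x6) (.lf 0)) (.nd (.lf 0x4) (.lf 0)))))) (.nd (.nd (.nd (.nd (.nd (.lf 0x5) (.lf 0x4)) (.nd (.lf 0x4) (.lf 0))) (.nd (.nd (.lf 0x3) (.lf 0)) (.nd (.lf 0x4) (.lf 0)))) (.nd (.nd (.nd (.lf 0x4) (.lf 0)) (.nd (.lf 0x4) (.lf 0))) (.nd (.nd (.lf 0x4) (.lf 0)) (.nd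 (.lf 0x6) (.lf 0))))) (.nd (.nd (.nd (.nd (.lf 0x6) (.lf 0x6)) (.nd (.lf 0x1) (.lf 0))) (.nd (.nd (.lf 0x1) (.lf 0)) (.nd (.lf 0x2) (.lf 0)))) (.nd (.nd (.nd (.lf 0x4) (.lf 0)) (.nd (.lf 0x4) (.lf 0))) (.nd (.nd (.lf 0x1) (.lf 0)) (.nd (.lf 0x3) (.lf 0)))))))
def labQ_nbaabbb : Tr := (.nd (.nd (.nd (.nd (.nd (.nd (.lf 0x4) (.lf 0x2)) (.nd (.lf 0x3) (.lf 0))) (.nd (.nd (.lf 0x4) (.lf 0)) (.nd (.lf 0x2) (.lf 0)))) (.nd (.nd (.nd (.lf 0x3) (.lf 0)) (.nd (.lf 0x3) (.lf 0))) (.nd (.nd (.lf 0x1) (.lf 0)) (.nd (.lf 0x1) (.lf 0))))) (.nd (.nd (.nd (.nd (.lf 0x3) (.lf 0x4)) (.nd (.lf 0x6) (.lf 0))) (.nd (.nd (.lf 0x3) (.lf 0)) (.nd (.lf 0x6) (.lf 0)))) (.nd (.nd (.nd (.lf 0x4) (.lf 0)) (.nd (.lf 0x4) (.lf 0))) (.nd (.nd (.lf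 0x1) (.lf 0)) (.nd (.lf 0x3) (.lf 0)))))) (.nd (.nd (.nd (.nd (.nd (.lf 0x1) (.lf 0x1)) (.nd (.lf 0x4) (.lf 0))) (.nd (.nd (.lf 0x3) (.lf 0)) (.nd (.lf 0x6) (.lf 0)))) (.nd (.nd (.nd (.lf 0x3) (.lf 0)) (.nd (.lf 0x4) (.lf 0))) (.nd (.nd (.lf 0x2) (.lf 0)) (.nd (.lf 0x3) (.lf 0))))) (.nd (.nd (.nd (.nd (.lf 0x3) (.lf 0x4)) (.nd (.lf 0x2) (.lf 0))) (.nd (.nd (.lf 0x4) (.lf 0)) (.nd (.lf 0x6) (.lf 0)))) (.nd (.nd (.nd (.lf 0x2) (.lf 0)) (.nd (.lf 0x1) (.lf 0))) (.nd (.nd (.lf 0x1) (.lf 0)) (.nd (.lf 0x2) (.lf 0)))))))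
def labQ_nbabaaa : Tr := (.nd (.nd (.nd (.nd (.nd (.nd (.lf 0x4) (.lf 0x4)) (.nd (.lf 0x6) (.lf 0))) (.nd (.nd (.lf 0x3) (.lf 0)) (.nd (.lf 0x2) (.lf 0)))) (.nd (.nd (.nd (.lf 0x4) (.lf 0)) (.nd (.lf 0x6) (.lf 0))) (.nd (.nd (.lf 0x4) (.lf 0)) (.nd (.lf 0x1) (.lf 0))))) (.nd (.nd (.nd (.nd (.lf 0x4) (.lf 0x1)) (.nd (.lf 0x1) (.lf 0))) (.nd (.nd (.lf 0x4) (.lf 0)) (.nd (.lf 0x4) (.lf 0)))) (.nd (.nd (.nd (.lf 0x4) (.lf 0)) (.nd (.lf 0x5) (.lf 0))) (.nd (.nd (.lf 0x4) (.lf 0)) (.nd (.lf 0x3) (.lf 0)))))) (.nd (.nd (.nd (.nd (.nd (.lf 0x2) (.lf 0x6)) (.nd (.lf 0x3) (.lf 0))) (.nd (.nd (.lf 0x4) (.lf 0)) (.nd (.lf 0x2) (.lf 0)))) (.nd (.nd (.nd (.lf 0x6) (.lf 0)) (.nd (.lf 0x2) (.lf 0))) (.nd (.nd (.lf 0x1) (.lf 0)) (.nd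 (.lf 0x4) (.lf 0))))) (.nd (.nd (.nd (.nd (.lf 0x2) (.lf 0x4)) (.nd (.lf 0x4) (.lf 0))) (.nd (.nd (.lf 0x4) (.lf 0)) (.nd (.lf 0x4) (.lf 0)))) (.nd (.nd (.nd (.lf 0x1) (.lf 0)) (.nd (.lf 0x1) (.lf 0))) (.nd (.nd (.lf 0x4) (.lf 0)) (.nd (.lf 0x2) (.lf 0)))))))
def labQ_nbabaab : Tr := (.nd (.nd (.nd (.nd (.nd (.nd (.lf 0x1) (.lf 0x6)) (.nd (.lf 0x4) (.lf 0))) (.nd (.nd (.lf 0x3) (.lf 0)) (.nd (.lf 0x1) (.lf 0)))) (.nd (.nd (.nd (.lf 0x1) (.lf 0)) (.nd (.lf 0x2) (.lf 0))) (.nd (.nd (.lf 0x1) (.lf 0)) (.nd (.lf 0x6) (.lf 0))))) (.nd (.nd (.nd (.nd (.lf 0x4) (.lf 0x1)) (.nd (.lf 0x2) (.lf 0))) (.nd (.nd (.lf 0x2) (.lf 0)) (.nd (.lf 0x4) (.lf 0)))) (.nd (.nd (.nd (.lf 0x4) (.lf 0)) (.nd (.lf 0x4) (.lf 0))) (.nd (.nd (.lf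 0x4) (.lf 0)) (.nd (.lf 0x4) (.lf 0)))))) (.nd (.nd (.nd (.nd (.nd (.lf 0x4) (.lf 0x6)) (.nd (.lf 0x6) (.lf 0))) (.nd (.nd (.lf 0x6) (.lf 0)) (.nd (.lf 0x3) (.lf 0)))) (.nd (.nd (.nd (.lf 0x4) (.lf 0)) (.nd (.lf 0x1) (.lf 0))) (.nd (.nd (.lf 0x4) (.lf 0)) (.nd (.lf 0x1) (.lf 0))))) (.nd (.nd (.nd (.nd (.lf 0x4) (.lf 0x1)) (.nd (.lf 0x4) (.lf 0))) (.nd (.nd (.lf 0x6) (.lf 0)) (.nd (.lf 0x4) (.lf 0)))) (.nd (.nd (.nd (.lf 0x1) (.lf 0)) (.nd (.lf 0x2) (.lf 0))) (.nd (.nd (.lf 0x3) (.lf 0)) (.nd (.lf 0x6) (.lf 0)))))))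
def labQ_nbababa : Tr := (.nd (.nd (.nd (.nd (.nd (.nd (.lf 0x4) (.lf 0x6)) (.nd (.lf 0x2) (.lf 0))) (.nd (.nd (.lf 0x6) (.lf 0)) (.nd (.lf 0x4) (.lf 0)))) (.nd (.nd (.nd (.lf 0x4) (.lf 0)) (.nd (.lf 0x4) (.lf 0))) (.nd (.nd (.lf 0x2) (.lf 0)) (.nd (.lf 0x2) (.lf 0))))) (.nd (.nd (.nd (.nd (.lf 0x4) (.lf 0x2)) (.nd (.lf 0x2) (.lf 0))) (.nd (.nd (.lf 0x6) (.lf 0)) (.nd (.lf 0x4) (.lf 0)))) (.nd (.nd (.nd (.lf 0x4) (.lf 0)) (.nd (.lf 0x2) (.lf 0))) (.nd (.nd (.lf 0x4) (.lf 0)) (.nd (.lf 0x2) (.lf 0)))))) (.nd (.nd (.nd (.nd (.nd (.lf 0x6) (.lf 0x4)) (.nd (.lf 0x4) (.lf 0))) (.nd (.nd (.lf 0x4) (.lf 0)) (.nd (.lf 0x4) (.lf 0)))) (.nd (.nd (.nd (.lf 0x4) (.lf 0)) (.nd (.lf 0x2) (.lf 0))) (.nd (.nd (.lf 0x2) (.lf 0)) (.nd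 (.lf 0x6) (.lf 0))))) (.nd (.nd (.nd (.nd (.lf 0x2) (.lf 0x2)) (.nd (.lf 0x2) (.lf 0))) (.nd (.nd (.lf 0x5) (.lf 0)) (.nd (.lf 0x2) (.lf 0)))) (.nd (.nd (.nd (.lf 0x4) (.lf 0)) (.nd (.lf 0x1) (.lf 0))) (.nd (.nd (.lf 0x2) (.lf 0)) (.nd (.lf 0x4) (.lf 0)))))))
def labQ_nbababb : Tr := (.nd (.nd (.nd (.nd (.nd (.nd (.lf 0x3) (.lf 0x1)) (.nd (.lf 0x4) (.lf 0))) (.nd (.nd (.lf 0x4) (.lf 0)) (.nd (.lf 0x4) (.lf 0)))) (.nd (.nd (.nd (.lf 0x3) (.lf 0)) (.nd (.lf 0x4) (.lf 0))) (.nd (.nd (.lf 0x1) (.lf 0)) (.nd (.lf 0x4) (.lf 0))))) (.nd (.nd (.nd (.nd (.lf 0x1) (.lf 0x2)) (.nd (.lf 0x3) (.lf 0))) (.nd (.nd (.lf 0x3) (.lf 0)) (.nd (.lf 0x4) (.lf 0)))) (.nd (.nd (.nd (.lf 0x3) (.lf 0)) (.nd (.lf 0x3) (.lf 0))) (.nd (.nd (.lf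 0x2) (.lf 0)) (.nd (.lf 0x4) (.lf 0)))))) (.nd (.nd (.nd (.nd (.nd (.lf 0x3) (.lf 0x2)) (.nd (.lf 0x6) (.lf 0))) (.nd (.nd (.lf 0x4) (.lf 0)) (.nd (.lf 0x6) (.lf 0)))) (.nd (.nd (.nd (.lf 0x1) (.lf 0)) (.nd (.lf 0x4) (.lf 0))) (.nd (.nd (.lf 0x4) (.lf 0)) (.nd (.lf 0x6) (.lf 0))))) (.nd (.nd (.nd (.nd (.lf 0x2) (.lf 0x4)) (.nd (.lf 0x6) (.lf 0))) (.nd (.nd (.lf 0x3) (.lf 0)) (.nd (.lf 0x2) (.lf 0)))) (.nd (.nd (.nd (.lf 0x2) (.lf 0)) (.nd (.lf 0x3) (.lf 0))) (.nd (.nd (.lf 0x4) (.lf 0)) (.nd (.lf 0x2) (.lf 0)))))))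
def labQ_nbabbaa : Tr := (.nd (.nd (.nd (.nd (.nd (.nd (.lf 0x2) (.lf 0x6)) (.nd (.lf 0x4) (.lf 0))) (.nd (.nd (.lf 0x3) (.lf 0)) (.nd (.lf 0x4) (.lf 0)))) (.nd (.nd (.nd (.lf 0x6) (.lf 0)) (.nd (.lf 0x3) (.lf 0))) (.nd (.nd (.lf 0x5) (.lf 0)) (.nd (.lf 0x1) (.lf 0))))) (.nd (.nd (.nd (.nd (.lf 0x5) (.lf 0x3)) (.nd (.lf 0x2) (.lf 0))) (.nd (.nd (.lf 0x6) (.lf 0)) (.nd (.lf 0x1) (.lf 0)))) (.nd (.nd (.nd (.lf 0x2) (.lf 0)) (.nd (.lf 0x6) (.lf 0))) (.nd (.nd (.lf 0x2) (.lf 0)) (.nd (.lf 0x3) (.lf 0)))))) (.nd (.nd (.nd (.nd (.nd (.lf 0x4) (.lf 0x1)) (.nd (.lf 0x5) (.lf 0))) (.nd (.nd (.lf 0x4) (.lf 0)) (.nd (.lf 0x4) (.lf 0)))) (.nd (.nd (.nd (.lf 0x4) (.lf 0)) (.nd (.lf 0x1) (.lf 0))) (.nd (.nd (.lf 0x4) (.lf 0)) (.nd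 (.lf 0x4) (.lf 0))))) (.nd (.nd (.nd (.nd (.lf 0x4) (.lf 0x4)) (.nd (.lf 0x1) (.lf 0))) (.nd (.nd (.lf 0x3) (.lf 0)) (.nd (.lf 0x4) (.lf 0)))) (.nd (.nd (.nd (.lf 0x3) (.lf 0)) (.nd (.lf 0x4) (.lf 0))) (.nd (.nd (.lf 0x1) (.lf 0)) (.nd (.lf 0x3) (.lf 0)))))))
def labQ_nbabbab : Tr := (.nd (.nd (.nd (.nd (.nd (.nd (.lf 0x2) (.lf 0x5)) (.nd (.lf 0x3) (.lf 0))) (.nd (.nd (.lf 0x2) (.lf 0)) (.nd (.lf 0x4) (.lf 0)))) (.nd (.nd (.nd (.lf 0x6) (.lf 0)) (.nd (.lf 0x1) (.lf 0))) (.nd (.nd (.lf 0x4) (.lf 0)) (.nd (.lf 0x2) (.lf 0))))) (.nd (.nd (.nd (.nd (.lf 0x6) (.lf 0x4)) (.nd (.lf 0x4) (.lf 0))) (.nd (.nd (.lf 0x4) (.lf 0)) (.nd (.lf 0x1) (.lf 0)))) (.nd (.nd (.nd (.lf 0x2) (.lf 0)) (.nd (.lf 0x4) (.lf 0))) (.nd (.nd (.lf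 0x5) (.lf 0)) (.nd (.lf 0x4) (.lf 0)))))) (.nd (.nd (.nd (.nd (.nd (.lf 0x4) (.lf 0x4)) (.nd (.lf 0x2) (.lf 0))) (.nd (.nd (.lf 0x6) (.lf 0)) (.nd (.lf 0x3) (.lf 0)))) (.nd (.nd (.nd (.lf 0x4) (.lf 0)) (.nd (.lf 0x4) (.lf 0))) (.nd (.nd (.lf 0x2) (.lf 0)) (.nd (.lf 0x2) (.lf 0))))) (.nd (.nd (.nd (.nd (.lf 0x4) (.lf 0x6)) (.nd (.lf 0x4) (.lf 0))) (.nd (.nd (.lf 0x4) (.lf 0)) (.nd (.lf 0x4) (.lf 0)))) (.nd (.nd (.nd (.lf 0x2) (.lf 0)) (.nd (.lf 0x4) (.lf 0))) (.nd (.nd (.lf 0x3) (.lf 0)) (.nd (.lf 0x4) (.lf 0)))))))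
def labQ_nbabbba : Tr := (.nd (.nd (.nd (.nd (.nd (.nd (.lf 0x3) (.lf 0x2)) (.nd (.lf 0x3) (.lf 0))) (.nd (.nd (.lf 0x5) (.lf 0)) (.nd (.lf 0x4) (.lf 0)))) (.nd (.nd (.nd (.lf 0x4) (.lf 0)) (.nd (.lf 0x4) (.lf 0))) (.nd (.nd (.lf 0x4) (.lf 0)) (.nd (.lf 0x4) (.lf 0))))) (.nd (.nd (.nd (.nd (.lf 0x4) (.lf 0x6)) (.nd (.lf 0x4) (.lf 0))) (.nd (.nd (.lf 0x2) (.lf 0)) (.nd (.lf 0x1) (.lf 0)))) (.nd (.nd (.nd (.lf 0x4) (.lf 0)) (.nd (.lf 0x6) (.lf 0))) (.nd (.nd (.lf 0x2) (.lf 0)) (.nd (.lf 0x4) (.lf 0)))))) (.nd (.nd (.nd (.nd (.nd (.lf 0x2) (.lf 0x6)) (.nd (.lf 0x4) (.lf 0))) (.nd (.nd (.lf 0x3) (.lf 0)) (.nd (.lf 0x4) (.lf 0)))) (.nd (.nd (.nd (.lf 0x6) (.lf 0)) (.nd (.lf 0x4) (.lf 0))) (.nd (.nd (.lf 0x4) (.lf 0)) (.nd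 (.lf 0x4) (.lf 0))))) (.nd (.nd (.nd (.nd (.lf 0x6) (.lf 0x2)) (.nd (.lf 0x6) (.lf 0))) (.nd (.nd (.lf 0x3) (.lf 0)) (.nd (.lf 0x3) (.lf 0)))) (.nd (.nd (.nd (.lf 0x4) (.lf 0)) (.nd (.lf 0x4) (.lf 0))) (.nd (.nd (.lf 0x4) (.lf 0)) (.nd (.lf 0x4) (.lf 0)))))))
def labQ_nbabbbb : Tr := (.nd (.nd (.nd (.nd (.nd (.nd (.lf 0x6) (.lf 0x1)) (.nd (.lf 0x4) (.lf 0))) (.nd (.nd (.lf 0x4) (.lf 0)) (.nd (.lf 0x2) (.lf 0)))) (.nd (.nd (.nd (.lf 0x4) (.lf 0)) (.nd (.lf 0x2) (.lf 0))) (.nd (.nd (.lf 0x1) (.lf 0)) (.nd (.lf 0x4) (.lf 0))))) (.nd (.nd (.nd (.nd (.lf 0x4) (.lf 0x4)) (.nd (.lf 0x5) (.lf 0))) (.nd (.nd (.lf 0x4) (.lf 0)) (.nd (.lf 0x1) (.lf 0)))) (.nd (.nd (.nd (.lf 0x4) (.lf 0)) (.nd (.lf 0x4) (.lf 0))) (.nd (.nd (.lf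 0x4) (.lf 0)) (.nd (.lf 0x4) (.lf 0)))))) (.nd (.nd (.nd (.nd (.nd (.lf 0x4) (.lf 0x4)) (.nd (.lf 0x4) (.lf 0))) (.nd (.nd (.lf 0x4) (.lf 0)) (.nd (.lf 0x2) (.lf 0)))) (.nd (.nd (.nd (.lf 0x6) (.lf 0)) (.nd (.lf 0x3) (.lf 0))) (.nd (.nd (.lf 0x2) (.lf 0)) (.nd (.lf 0x4) (.lf 0))))) (.nd (.nd (.nd (.nd (.lf 0x4) (.lf 0x4)) (.nd (.lf 0x4) (.lf 0))) (.nd (.nd (.lf 0x4) (.lf 0)) (.nd (.lf 0x4) (.lf 0)))) (.nd (.nd (.nd (.lf 0x4) (.lf 0)) (.nd (.lf 0x1) (.lf 0))) (.nd (.nd (.lf 0x4) (.lf 0)) (.nd (.lf 0x1) (.lf 0)))))))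
def labQ_nbbaaaa : Tr := (.nd (.nd (.nd (.nd (.nd (.nd (.lf 0x2) (.lf 0x3)) (.nd (.lf 0x4) (.lf 0))) (.nd (.nd (.lf 0x4) (.lf 0)) (.nd (.lf 0x2) (.lf 0)))) (.nd (.nd (.nd (.lf 0x4) (.lf 0)) (.nd (.lf 0x3) (.lf 0))) (.nd (.nd (.lf 0x6) (.lf 0)) (.nd (.lf 0x1) (.lf 0))))) (.nd (.nd (.nd (.nd (.lf 0x3) (.lf 0x4)) (.nd (.lf 0x3) (.lf 0))) (.nd (.nd (.lf 0x3) (.lf 0)) (.nd (.lf 0x4) (.lf 0)))) (.nd (.nd (.nd (.lf 0x6) (.lf 0)) (.nd (.lf 0x3) (.lf 0))) (.nd (.nd (.lf 0x4) (.lf 0)) (.nd (.lf 0x4) (.lf 0)))))) (.nd (.nd (.nd (.nd (.nd (.lf 0x4) (.lf 0x6)) (.nd (.lf 0x1) (.lf 0))) (.nd (.nd (.lf 0x6) (.lf 0)) (.nd (.lf 0x1) (.lf 0)))) (.nd (.nd (.nd (.lf 0x3) (.lf 0)) (.nd (.lf 0x3) (.lf 0))) (.nd (.nd (.lf 0x6) (.lf 0)) (.nd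 (.lf 0x4) (.lf 0))))) (.nd (.nd (.nd (.nd (.lf 0x2) (.lf 0x5)) (.nd (.lf 0x4) (.lf 0))) (.nd (.nd (.lf 0x2) (.lf 0)) (.nd (.lf 0x4) (.lf 0)))) (.nd (.nd (.nd (.lf 0x4) (.lf 0)) (.nd (.lf 0x1) (.lf 0))) (.nd (.nd (.lf 0x4) (.lf 0)) (.nd (.lf 0x6) (.lf 0)))))))
def labQ_nbbaaab : Tr := (.nd (.nd (.nd (.nd (.nd (.nd (.lf 0x6) (.lf 0x4)) (.nd (.lf 0x1) (.lf 0))) (.nd (.nd (.lf 0x4) (.lf 0)) (.nd (.lf 0x2) (.lf 0)))) (.nd (.nd (.nd (.lf 0x4) (.lf 0)) (.nd (.lf 0x4) (.lf 0))) (.nd (.nd (.lf 0x6) (.lf 0)) (.nd (.lf 0x3) (.lf 0))))) (.nd (.nd (.nd (.nd (.lf 0x6) (.lf 0x3)) (.nd (.lf 0x2) (.lf 0))) (.nd (.nd (.lf 0x4) (.lf 0)) (.nd (.lf 0x4) (.lf 0)))) (.nd (.nd (.nd (.lf 0x2) (.lf 0)) (.nd (.lf 0x4) (.lf 0))) (.nd (.nd (.lf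 0x4) (.lf 0)) (.nd (.lf 0x4) (.lf 0)))))) (.nd (.nd (.nd (.nd (.nd (.lf 0x3) (.lf 0x1)) (.nd (.lf 0x4) (.lf 0))) (.nd (.nd (.lf 0x4) (.lf 0)) (.nd (.lf 0x4) (.lf 0)))) (.nd (.nd (.nd (.lf 0x4) (.lf 0)) (.nd (.lf 0x3) (.lf 0))) (.nd (.nd (.lf 0x4) (.lf 0)) (.nd (.lf 0x4) (.lf 0))))) (.nd (.nd (.nd (.nd (.lf 0x4) (.lf 0x4)) (.nd (.lf 0x1) (.lf 0))) (.nd (.nd (.lf 0x4) (.lf 0)) (.nd (.lf 0x2) (.lf 0)))) (.nd (.nd (.nd (.lf 0x4) (.lf 0)) (.nd (.lf 0x4) (.lf 0))) (.nd (.nd (.lf 0x1) (.lf 0)) (.nd (.lf 0x6) (.lf 0)))))))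
def labQ_nbbaaba : Tr := (.nd (.nd (.nd (.nd (.nd (.nd (.lf 0x4) (.lf 0x4)) (.nd (.lf 0x4) (.lf 0))) (.nd (.nd (.lf 0x2) (.lf 0)) (.nd (.lf 0x4) (.lf 0)))) (.nd (.nd (.nd (.lf 0x2) (.lf 0)) (.nd (.lf 0x4) (.lf 0))) (.nd (.nd (.lf 0x4) (.lf 0)) (.nd (.lf 0x4) (.lf 0))))) (.nd (.nd (.nd (.nd (.lf 0x1) (.lf 0x4)) (.nd (.lf 0x4) (.lf 0))) (.nd (.nd (.lf 0x4) (.lf 0)) (.nd (.lf 0x4) (.lf 0)))) (.nd (.nd (.nd (.lf 0x4) (.lf 0)) (.nd (.lf 0x6) (.lf 0))) (.nd (.nd (.lf 0x4) (.lf 0)) (.nd (.lf 0x4) (.lf 0)))))) (.nd (.nd (.nd (.nd (.nd (.lf 0x4) (.lf 0x6)) (.nd (.lf 0x1) (.lf 0))) (.nd (.nd (.lf 0x1) (.lf 0)) (.nd (.lf 0x4) (.lf 0)))) (.nd (.nd (.nd (.lf 0x4) (.lf 0)) (.nd (.lf 0x5) (.lf 0))) (.nd (.nd (.lf 0x6) (.lf 0)) (.nd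 (.lf 0x3) (.lf 0))))) (.nd (.nd (.nd (.nd (.lf 0x4) (.lf 0x4)) (.nd (.lf 0x3) (.lf 0))) (.nd (.nd (.lf 0x2) (.lf 0)) (.nd (.lf 0x2) (.lf 0)))) (.nd (.nd (.nd (.lf 0x2) (.lf 0)) (.nd (.lf 0x6) (.lf 0))) (.nd (.nd (.lf 0x3) (.lf 0)) (.nd (.lf 0x4) (.lf 0)))))))
def labQ_nbbaabb : Tr := (.nd (.nd (.nd (.nd (.nd (.nd (.lf 0x3) (.lf 0x4)) (.nd (.lf 0x4) (.lf 0))) (.nd (.nd (.lf 0x1) (.lf 0)) (.nd (.lf 0x1) (.lf 0)))) (.nd (.nd (.nd (.lf 0x3) (.lf 0)) (.nd (.lf 0x1) (.lf 0))) (.nd (.nd (.lf 0x4) (.lf 0)) (.nd (.lf 0x2) (.lf 0))))) (.nd (.nd (.nd (.nd (.lf 0x4) (.lf 0x3)) (.nd (.lf 0x3) (.lf 0))) (.nd (.nd (.lf 0x3) (.lf 0)) (.nd (.lf 0x6) (.lf 0)))) (.nd (.nd (.nd (.lf 0x1) (.lf 0)) (.nd (.lf 0x1) (.lf 0))) (.nd (.nd (.lf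 0x4) (.lf 0)) (.nd (.lf 0x6) (.lf 0)))))) (.nd (.nd (.nd (.nd (.nd (.lf 0x4) (.lf 0x6)) (.nd (.lf 0x6) (.lf 0))) (.nd (.nd (.lf 0x3) (.lf 0)) (.nd (.lf 0x1) (.lf 0)))) (.nd (.nd (.nd (.lf 0x4) (.lf 0)) (.nd (.lf 0x4) (.lf 0))) (.nd (.nd (.lf 0x2) (.lf 0)) (.nd (.lf 0x4) (.lf 0))))) (.nd (.nd (.nd (.nd (.lf 0x4) (.lf 0x4)) (.nd (.lf 0x3) (.lf 0))) (.nd (.nd (.lf 0x1) (.lf 0)) (.nd (.lf 0x4) (.lf 0)))) (.nd (.nd (.nd (.lf 0x2) (.lf 0)) (.nd (.lf 0x4) (.lf 0))) (.nd (.nd (.lf 0x3) (.lf 0)) (.nd (.lf 0x6) (.lf 0)))))))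
def labQ_nbbabaa : Tr := (.nd (.nd (.nd (.nd (.nd (.nd (.lf 0x4) (.lf 0x6)) (.nd (.lf 0x1) (.lf 0))) (.nd (.nd (.lf 0x4) (.lf 0)) (.nd (.lf 0x6) (.lf 0)))) (.nd (.nd (.nd (.lf 0x3) (.lf 0)) (.nd (.lf 0x2) (.lf 0))) (.nd (.nd (.lf 0x4) (.lf 0)) (.nd (.lf 0x3) (.lf 0))))) (.nd (.nd (.nd (.nd (.lf 0x6) (.lf 0x5)) (.nd (.lf 0x3) (.lf 0))) (.nd (.nd (.lf 0x4) (.lf 0)) (.nd (.lf 0x6) (.lf 0)))) (.nd (.nd (.nd (.lf 0x1) (.lf 0)) (.nd (.lf 0x4) (.lf 0))) (.nd (.nd (.lf 0x2) (.lf 0)) (.nd (.lf 0x3) (.lf 0)))))) (.nd (.nd (.nd (.nd (.nd (.lf 0x4) (.lf 0x5)) (.nd (.lf 0x3) (.lf 0))) (.nd (.nd (.lf 0x2) (.lf 0)) (.nd (.lf 0x1) (.lf 0)))) (.nd (.nd (.nd (.lf 0x3) (.lf 0)) (.nd (.lf 0x4) (.lf 0))) (.nd (.nd (.lf 0x2) (.lf 0)) (.nd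 (.lf 0x3) (.lf 0))))) (.nd (.nd (.nd (.nd (.lf 0x1) (.lf 0x4)) (.nd (.lf 0x4) (.lf 0))) (.nd (.nd (.lf 0x4) (.lf 0)) (.nd (.lf 0x6) (.lf 0)))) (.nd (.nd (.nd (.lf 0x6) (.lf 0)) (.nd (.lf 0x4) (.lf 0))) (.nd (.nd (.lf 0x1) (.lf 0)) (.nd (.lf 0x4) (.lf 0)))))))
def labQ_nbbabab : Tr := (.nd (.nd (.nd (.nd (.nd (.nd (.lf 0x2) (.lf 0x6)) (.nd (.lf 0x4) (.lf 0))) (.nd (.nd (.lf 0x6) (.lf 0)) (.nd (.lf 0x2) (.lf 0)))) (.nd (.nd (.nd (.lf 0x1) (.lf 0)) (.nd (.lf 0x6) (.lf 0))) (.nd (.nd (.lf 0x2) (.lf 0)) (.nd (.lf 0x6) (.lf 0))))) (.nd (.nd (.nd (.nd (.lf 0x1) (.lf 0x2)) (.nd (.lf 0x4) (.lf 0))) (.nd (.nd (.lf 0x1) (.lf 0)) (.nd (.lf 0x4) (.lf 0)))) (.nd (.nd (.nd (.lf 0x4) (.lf 0)) (.nd (.lf 0x3) (.lf 0))) (.nd (.nd (.lf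 0x4) (.lf 0)) (.nd (.lf 0x4) (.lf 0)))))) (.nd (.nd (.nd (.nd (.nd (.lf 0x6) (.lf 0x4)) (.nd (.lf 0x5) (.lf 0))) (.nd (.nd (.lf 0x4) (.lf 0)) (.nd (.lf 0x4) (.lf 0)))) (.nd (.nd (.nd (.lf 0x3) (.lf 0)) (.nd (.lf 0x3) (.lf 0))) (.nd (.nd (.lf 0x6) (.lf 0)) (.nd (.lf 0x1) (.lf 0))))) (.nd (.nd (.nd (.nd (.lf 0x4) (.lf 0x2)) (.nd (.lf 0x2) (.lf 0))) (.nd (.nd (.lf 0x4) (.lf 0)) (.nd (.lf 0x4) (.lf 0)))) (.nd (.nd (.nd (.lf 0x6) (.lf 0)) (.nd (.lf 0x4) (.lf 0))) (.nd (.nd (.lf 0x2) (.lf 0)) (.nd (.lf 0x4) (.lf 0)))))))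
def labQ_nbbabba : Tr := (.nd (.nd (.nd (.nd (.nd (.nd (.lf 0x6) (.lf 0x4)) (.nd (.lf 0x4) (.lf 0))) (.nd (.nd (.lf 0x4) (.lf 0)) (.nd (.lf 0x3) (.lf 0)))) (.nd (.nd (.nd (.lf 0x2) (.lf 0)) (.nd (.lf 0x4) (.lf 0))) (.nd (.nd (.lf 0x1) (.lf 0)) (.nd (.lf 0x3) (.lf 0))))) (.nd (.nd (.nd (.nd (.lf 0x4) (.lf 0x3)) (.nd (.lf 0x4) (.lf 0))) (.nd (.nd (.lf 0x4) (.lf 0)) (.nd (.lf 0x2) (.lf 0)))) (.nd (.nd (.nd (.lf 0x3) (.lf 0)) (.nd (.lf 0x3) (.lf 0))) (.nd (.nd (.lf 0x4) (.lf 0)) (.nd (.lf 0x4) (.lf 0)))))) (.nd (.nd (.nd (.nd (.nd (.lf 0x4) (.lf 0x3)) (.nd (.lf 0x2) (.lf 0))) (.nd (.nd (.lf 0x5) (.lf 0)) (.nd (.lf 0x2) (.lf 0)))) (.nd (.nd (.nd (.lf 0x6) (.lf 0)) (.nd (.lf 0x2) (.lf 0))) (.nd (.nd (.lf 0x1) (.lf 0)) (.nd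 (.lf 0x2) (.lf 0))))) (.nd (.nd (.nd (.nd (.lf 0x4) (.lf 0x1)) (.nd (.lf 0x4) (.lf 0))) (.nd (.nd (.lf 0x2) (.lf 0)) (.nd (.lf 0x4) (.lf 0)))) (.nd (.nd (.nd (.lf 0x4) (.lf 0)) (.nd (.lf 0x4) (.lf 0))) (.nd (.nd (.lf 0x4) (.lf 0)) (.nd (.lf 0x1) (.lf 0)))))))
def labQ_nbbabbb : Tr := (.nd (.nd (.nd (.nd (.nd (.nd (.lf 0x2) (.lf 0x4)) (.nd (.lf 0x4) (.lf 0))) (.nd (.nd (.lf 0x4) (.lf 0)) (.nd (.lf 0x2) (.lf 0)))) (.nd (.nd (.nd (.lf 0x1) (.lf 0)) (.nd (.lf 0x1) (.lf 0))) (.nd (.nd (.lf 0x4) (.lf 0)) (.nd (.lf 0x3) (.lf 0))))) (.nd (.nd (.nd (.nd (.lf 0x4) (.lf 0x4)) (.nd (.lf 0x4) (.lf 0))) (.nd (.nd (.lf 0x4) (.lf 0)) (.nd (.lf 0x1) (.lf 0)))) (.nd (.nd (.nd (.lf 0x4) (.lf 0)) (.nd (.lf 0x4) (.lf 0))) (.nd (.nd (.lf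 0x4) (.lf 0)) (.nd (.lf 0x6) (.lf 0)))))) (.nd (.nd (.nd (.nd (.nd (.lf 0x2) (.lf 0x1)) (.nd (.lf 0x4) (.lf 0))) (.nd (.nd (.lf 0x4) (.lf 0)) (.nd (.lf 0x3) (.lf 0)))) (.nd (.nd (.nd (.lf 0x4) (.lf 0)) (.nd (.lf 0x2) (.lf 0))) (.nd (.nd (.lf 0x5) (.lf 0)) (.nd (.lf 0x4) (.lf 0))))) (.nd (.nd (.nd (.nd (.lf 0x3) (.lf 0x2)) (.nd (.lf 0x2) (.lf 0))) (.nd (.nd (.lf 0x4) (.lf 0)) (.nd (.lf 0x1) (.lf 0)))) (.nd (.nd (.nd (.lf 0x6) (.lf 0)) (.nd (.lf 0x6) (.lf 0))) (.nd (.nd (.lf 0x4) (.lf 0)) (.nd (.lf 0x1) (.lf 0)))))))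
def labQ_nbbbaaa : Tr := (.nd (.nd (.nd (.nd (.nd (.nd (.lf 0x5) (.lf 0x6)) (.nd (.lf 0x4) (.lf 0))) (.nd (.nd (.lf 0x4) (.lf 0)) (.nd (.lf 0x4) (.lf 0)))) (.nd (.nd (.nd (.lf 0x4) (.lf 0)) (.nd (.lf 0x1) (.lf 0))) (.nd (.nd (.lf 0x4) (.lf 0)) (.nd (.lf 0x4) (.lf 0))))) (.nd (.nd (.nd (.nd (.lf 0x4) (.lf 0x4)) (.nd (.lf 0x4) (.lf 0))) (.nd (.nd (.lf 0x1) (.lf 0)) (.nd (.lf 0x4) (.lf 0)))) (.nd (.nd (.nd (.lf 0x4) (.lf 0)) (.nd (.lf 0x3) (.lf 0))) (.nd (.nd (.lf 0x4) (.lf 0)) (.nd (.lf 0x6) (.lf 0)))))) (.nd (.nd (.nd (.nd (.nd (.lf 0x2) (.lf 0x3)) (.nd (.lf 0x4) (.lf 0))) (.nd (.nd (.lf 0x4) (.lf 0)) (.nd (.lf 0x3) (.lf 0)))) (.nd (.nd (.nd (.lf 0x4) (.lf 0)) (.nd (.lf 0x1) (.lf 0))) (.nd (.nd (.lf 0x2) (.lf 0)) (.nd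 (.lf 0x4) (.lf 0))))) (.nd (.nd (.nd (.nd (.lf 0x4) (.lf 0x4)) (.nd (.lf 0x5) (.lf 0))) (.nd (.nd (.lf 0x4) (.lf 0)) (.nd (.lf 0x5) (.lf 0)))) (.nd (.nd (.nd (.lf 0x4) (.lf 0)) (.nd (.lf 0x4) (.lf 0))) (.nd (.nd (.lf 0x6) (.lf 0)) (.nd (.lf 0x6) (.lf 0)))))))
def labQ_nbbbaab : Tr := (.nd (.nd (.nd (.nd (.nd (.nd (.lf 0x5) (.lf 0x4)) (.nd (.lf 0x4) (.lf 0))) (.nd (.nd (.lf 0x3) (.lf 0)) (.nd (.lf 0x4) (.lf 0)))) (.nd (.nd (.nd (.lf 0x4) (.lf 0)) (.nd (.lf 0x4) (.lf 0))) (.nd (.nd (.lf 0x4) (.lf 0)) (.nd (.lf 0x4) (.lf 0))))) (.nd (.nd (.nd (.nd (.lf 0x4) (.lf 0x6)) (.nd (.lf 0x3) (.lf 0))) (.nd (.nd (.lf 0x4) (.lf 0)) (.nd (.lf 0x3) (.lf 0)))) (.nd (.nd (.nd (.lf 0x4) (.lf 0)) (.nd (.lf 0x5) (.lf 0))) (.nd (.nd (.lf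 0x2) (.lf 0)) (.nd (.lf 0x4) (.lf 0)))))) (.nd (.nd (.nd (.nd (.nd (.lf 0x2) (.lf 0x1)) (.nd (.lf 0x3) (.lf 0))) (.nd (.nd (.lf 0x3) (.lf 0)) (.nd (.lf 0x4) (.lf 0)))) (.nd (.nd (.nd (.lf 0x4) (.lf 0)) (.nd (.lf 0x4) (.lf 0))) (.nd (.nd (.lf 0x3) (.lf 0)) (.nd (.lf 0x3) (.lf 0))))) (.nd (.nd (.nd (.nd (.lf 0x6) (.lf 0x1)) (.nd (.lf 0x4) (.lf 0))) (.nd (.nd (.lf 0x3) (.lf 0)) (.nd (.lf 0x4) (.lf 0)))) (.nd (.nd (.nd (.lf 0x4) (.lf 0)) (.nd (.lf 0x2) (.lf 0))) (.nd (.nd (.lf 0x6) (.lf 0)) (.nd (.lf 0x3) (.lf 0)))))))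
def labQ_nbbbaba : Tr := (.nd (.nd (.nd (.nd (.nd (.nd (.lf 0x4) (.lf 0x4)) (.nd (.lf 0x1) (.lf 0))) (.nd (.nd (.lf 0x2) (.lf 0)) (.nd (.lf 0x6) (.lf 0)))) (.nd (.nd (.nd (.lf 0x4) (.lf 0)) (.nd (.lf 0x1) (.lf 0))) (.nd (.nd (.lf 0x1) (.lf 0)) (.nd (.lf 0x4) (.lf 0))))) (.nd (.nd (.nd (.nd (.lf 0x6) (.lf 0x4)) (.nd (.lf 0x6) (.lf 0))) (.nd (.nd (.lf 0x3) (.lf 0)) (.nd (.lf 0x3) (.lf 0)))) (.nd (.nd (.nd (.lf 0x2) (.lf 0)) (.nd (.lf 0x2) (.lf 0))) (.nd (.nd (.lf 0x4) (.lf 0)) (.nd (.lf 0x2) (.lf 0)))))) (.nd (.nd (.nd (.nd (.nd (.lf 0x4) (.lf 0x3)) (.nd (.lf 0x6) (.lf 0))) (.nd (.nd (.lf 0x4) (.lf 0)) (.nd (.lf 0x1) (.lf 0)))) (.nd (.nd (.nd (.lf 0x4) (.lf 0)) (.nd (.lf 0x2) (.lf 0))) (.nd (.nd (.lf 0x2) (.lf 0)) (.nd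 (.lf 0x2) (.lf 0))))) (.nd (.nd (.nd (.nd (.lf 0x4) (.lf 0x2)) (.nd (.lf 0x2) (.lf 0))) (.nd (.nd (.lf 0x1) (.lf 0)) (.nd (.lf 0x3) (.lf 0)))) (.nd (.nd (.nd (.lf 0x4) (.lf 0)) (.nd (.lf 0x5) (.lf 0))) (.nd (.nd (.lf 0x4) (.lf 0)) (.nd (.lf 0x2) (.lf 0)))))))
def labQ_nbbbabb : Tr := (.nd (.nd (.nd (.nd (.nd (.nd (.lf 0x4) (.lf 0x2)) (.nd (.lf 0x4) (.lf 0))) (.nd (.nd (.lf 0x2) (.lf 0)) (.nd (.lf 0x1) (.lf 0)))) (.nd (.nd (.nd (.lf 0x4) (.lf 0)) (.nd (.lf 0x4) (.lf 0))) (.nd (.nd (.lf 0x4) (.lf 0)) (.nd (.lf 0x3) (.lf 0))))) (.nd (.nd (.nd (.nd (.lf 0x2) (.lf 0x3)) (.nd (.lf 0x1) (.lf 0))) (.nd (.nd (.lf 0x4) (.lf 0)) (.nd (.lf 0x4) (.lf 0)))) (.nd (.nd (.nd (.lf 0x1) (.lf 0)) (.nd (.lf 0x4) (.lf 0))) (.nd (.nd (.lf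 0x1) (.lf 0)) (.nd (.lf 0x4) (.lf 0)))))) (.nd (.nd (.nd (.nd (.nd (.lf 0x5) (.lf 0x3)) (.nd (.lf 0x4) (.lf 0))) (.nd (.nd (.lf 0x4) (.lf 0)) (.nd (.lf 0x3) (.lf 0)))) (.nd (.nd (.nd (.lf 0x1) (.lf 0)) (.nd (.lf 0x4) (.lf 0))) (.nd (.nd (.lf 0x6) (.lf 0)) (.nd (.lf 0x4) (.lf 0))))) (.nd (.nd (.nd (.nd (.lf 0x6) (.lf 0x4)) (.nd (.lf 0x3) (.lf 0))) (.nd (.nd (.lf 0x4) (.lf 0)) (.nd (.lf 0x4) (.lf 0)))) (.nd (.nd (.nd (.lf 0x4) (.lf 0)) (.nd (.lf 0x1) (.lf 0))) (.nd (.nd (.lf 0x4) (.lf 0)) (.nd (.lf 0x1) (.lf 0)))))))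
def labQ_nbbbbaa : Tr := (.nd (.nd (.nd (.nd (.nd (.nd (.lf 0x4) (.lf 0x2)) (.nd (.lf 0x2) (.lf 0))) (.nd (.nd (.lf 0x6) (.lf 0)) (.nd (.lf 0x3) (.lf 0)))) (.nd (.nd (.nd (.lf 0x1) (.lf 0)) (.nd (.lf 0x4) (.lf 0))) (.nd (.nd (.lf 0x4) (.lf 0)) (.nd (.lf 0x4) (.lf 0))))) (.nd (.nd (.nd (.nd (.lf 0x6) (.lf 0x4)) (.nd (.lf 0x4) (.lf 0))) (.nd (.nd (.lf 0x2) (.lf 0)) (.nd (.lf 0x4) (.lf 0)))) (.nd (.nd (.nd (.lf 0x4) (.lf 0)) (.nd (.lf 0x1) (.lf 0))) (.nd (.nd (.lf 0x4) (.lf 0)) (.nd (.lf 0x4) (.lf 0)))))) (.nd (.nd (.nd (.nd (.nd (.lf 0x4) (.lf 0x4)) (.nd (.lf 0x4) (.lf 0))) (.nd (.nd (.lf 0x4) (.lf 0)) (.nd (.lf 0x6) (.lf 0)))) (.nd (.nd (.nd (.lf 0x5) (.lf 0)) (.nd (.lf 0x6) (.lf 0))) (.nd (.nd (.lf 0x2) (.lf 0)) (.nd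 (.lf 0x6) (.lf 0))))) (.nd (.nd (.nd (.nd (.lf 0x3) (.lf 0x3)) (.nd (.lf 0x2) (.lf 0))) (.nd (.nd (.lf 0x1) (.lf 0)) (.nd (.lf 0x2) (.lf 0)))) (.nd (.nd (.nd (.lf 0x4) (.lf 0)) (.nd (.lf 0x1) (.lf 0))) (.nd (.nd (.lf 0x4) (.lf 0)) (.nd (.lf 0x6) (.lf 0)))))))
def labQ_nbbbbab : Tr := (.nd (.nd (.nd (.nd (.nd (.nd (.lf 0x4) (.lf 0x6)) (.nd (.lf 0x4) (.lf 0))) (.nd (.nd (.lf 0x4) (.lf 0)) (.nd (.lf 0x3) (.lf 0)))) (.nd (.nd (.nd (.lf 0x6) (.lf 0)) (.nd (.lf 0x4) (.lf 0))) (.nd (.nd (.lf 0x1) (.lf 0)) (.nd (.lf 0x2) (.lf 0))))) (.nd (.nd (.nd (.nd (.lf 0x6) (.lf 0x3)) (.nd (.lf 0x2) (.lf 0))) (.nd (.nd (.lf 0x6) (.lf 0)) (.nd (.lf 0x4) (.lf 0)))) (.nd (.nd (.nd (.lf 0x3) (.lf 0)) (.nd (.lf 0x1) (.lf 0))) (.nd (.nd (.lf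 0x4) (.lf 0)) (.nd (.lf 0x6) (.lf 0)))))) (.nd (.nd (.nd (.nd (.nd (.lf 0x4) (.lf 0x4)) (.nd (.lf 0x2) (.lf 0))) (.nd (.nd (.lf 0x1) (.lf 0)) (.nd (.lf 0x4) (.lf 0)))) (.nd (.nd (.nd (.lf 0x3) (.lf 0)) (.nd (.lf 0x1) (.lf 0))) (.nd (.nd (.lf 0x4) (.lf 0)) (.nd (.lf 0x3) (.lf 0))))) (.nd (.nd (.nd (.nd (.lf 0x4) (.lf 0x1)) (.nd (.lf 0x4) (.lf 0))) (.nd (.nd (.lf 0x4) (.lf 0)) (.nd (.lf 0x3) (.lf 0)))) (.nd (.nd (.nd (.lf 0x4) (.lf 0)) (.nd (.lf 0x6) (.lf 0))) (.nd (.nd (.lf 0x5) (.lf 0)) (.nd (.lf 0x1) (.lf 0)))))))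
def labQ_nbbbbba : Tr := (.nd (.nd (.nd (.nd (.nd (.nd (.lf 0x4) (.lf 0x3)) (.nd (.lf 0x4) (.lf 0))) (.nd (.nd (.lf 0x4) (.lf 0)) (.nd (.lf 0x4) (.lf 0)))) (.nd (.nd (.nd (.lf 0x1) (.lf 0)) (.nd (.lf 0x5) (.lf 0))) (.nd (.nd (.lf 0x4) (.lf 0)) (.nd (.lf 0x3) (.lf 0))))) (.nd (.nd (.nd (.nd (.lf 0x6) (.lf 0x1)) (.nd (.lf 0x4) (.lf 0))) (.nd (.nd (.lf 0x4) (.lf 0)) (.nd (.lf 0x6) (.lf 0)))) (.nd (.nd (.nd (.lf 0x1) (.lf 0)) (.nd (.lf 0x3) (.lf 0))) (.nd (.nd (.lf 0x1) (.lf 0)) (.nd (.lf 0x1) (.lf 0)))))) (.nd (.nd (.nd (.nd (.nd (.lf 0x4) (.lf 0x6)) (.nd (.lf 0x2) (.lf 0))) (.nd (.nd (.lf 0x4) (.lf 0)) (.nd (.lf 0x6) (.lf 0)))) (.nd (.nd (.nd (.lf 0x4) (.lf 0)) (.nd (.lf 0x2) (.lf 0))) (.nd (.nd (.lf 0x6) (.lf 0)) (.nd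 (.lf 0x4) (.lf 0))))) (.nd (.nd (.nd (.nd (.lf 0x4) (.lf 0x5)) (.nd (.lf 0x4) (.lf 0))) (.nd (.nd (.lf 0x1) (.lf 0)) (.nd (.lf 0x4) (.lf 0)))) (.nd (.nd (.nd (.lf 0x2) (.lf 0)) (.nd (.lf 0x2) (.lf 0))) (.nd (.nd (.lf 0x1) (.lf 0)) (.nd (.lf 0x6) (.lf 0)))))))
def labQ_nbbbbbb : Tr := (.nd (.nd (.nd (.nd (.nd (.nd (.lf 0x4) (.lf 0x3)) (.nd (.lf 0x4) (.lf 0))) (.nd (.nd (.lf 0x4) (.lf 0)) (.nd (.lf 0x4) (.lf 0)))) (.nd (.nd (.nd (.lf 0x4) (.lf 0)) (.nd (.lf 0x4) (.lf 0))) (.nd (.nd (.lf 0x4) (.lf 0)) (.nd (.lf 0x3) (.lf 0))))) (.nd (.nd (.nd (.nd (.lf 0x4) (.lf 0x1)) (.nd (.lf 0x4) (.lf 0))) (.nd (.nd (.lf 0x1) (.lf 0)) (.nd (.lf 0x1) (.lf 0)))) (.nd (.nd (.nd (.lf 0x1) (.lf 0)) (.nd (.lf 0x4) (.lf 0))) (.nd (.nd (.lf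 0x4) (.lf 0)) (.nd (.lf 0x1) (.lf 0)))))) (.nd (.nd (.nd (.nd (.nd (.lf 0x4) (.lf 0x4)) (.nd (.lf 0x4) (.lf 0))) (.nd (.nd (.lf 0x1) (.lf 0)) (.nd (.lf 0x6) (.lf 0)))) (.nd (.nd (.nd (.lf 0x1) (.lf 0)) (.nd (.lf 0x2) (.lf 0))) (.nd (.nd (.lf 0x5) (.lf 0)) (.nd (.lf 0x4) (.lf 0))))) (.nd (.nd (.nd (.nd (.lf 0x4) (.lf 0x1)) (.nd (.lf 0x5) (.lf 0))) (.nd (.nd (.lf 0x4) (.lf 0)) (.nd (.lf 0x3) (.lf 0)))) (.nd (.nd (.nd (.lf 0x2) (.lf 0)) (.nd (.lf 0x4) (.lf 0))) (.nd (.nd (.lf 0x2) (.lf 0)) (.nd (.lf 0x5) (.lf 0)))))))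
def labQ : Tr := (.nd (.nd (.nd (.nd (.nd (.nd labQ_naaaaaa labQ_naaaaab) (.nd labQ_naaaaba labQ_naaaabb)) (.nd (.nd labQ_naaabaa labQ_naaabab) (.nd labQ_naaabba labQ_naaabbb))) (.nd (.nd (.nd labQ_naabaaa labQ_naabaab) (.nd labQ_naababa labQ_naababb)) (.nd (.nd labQ_naabbaa labQ_naabbab) (.nd labQ_naabbba labQ_naabbbb)))) (.nd (.nd (.nd (.nd labQ_nabaaaa labQ_nabaaab) (.nd labQ_nabaaba labQ_nabaabb)) (.nd (.nd labQ_nababaa labQ_nababab) (.nd labQ_nababba labQ_nababbb))) (.nd (.nd (.nd labQ_nabbaaa labQ_nabbaab) (.nd labQ_nabbaba labQ_nabbabb)) (.nd (.nd labQ_nabbbaa labQ_nabbbab) (.nd labQ_nabbbba labQ_nabbbbb))))) (.nd (.nd (.nd (.nd (.nd labQ_nbaaaaa labQ_nbaaaab) (.nd labQ_nbaaaba labQ_nbaaabb)) (.nd (.nd labQ_nbaabaa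 labQ_nbaabab) (.nd labQ_nbaabba labQ_nbaabbb))) (.nd (.nd (.nd labQ_nbabaaa labQ_nbabaab) (.nd labQ_nbababa labQ_nbababb)) (.nd (.nd labQ_nbabbaa labQ_nbabbab) (.nd labQ_nbabbba labQ_nbabbbb)))) (.nd (.nd (.nd (.nd labQ_nbbaaaa labQ_nbbaaab) (.nd labQ_nbbaaba labQ_nbbaabb)) (.nd (.nd labQ_nbbabaa labQ_nbbabab) (.nd labQ_nbbabba labQ_nbbabbb))) (.nd (.nd (.nd labQ_nbbbaaa labQ_nbbbaab) (.nd labQ_nbbbaba labQ_nbbbabb)) (.nd (.nd labQ_nbbbbaa labQ_nbbbbab) (.nd labQ_nbbbbba labQ_nbbbbbb))))))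
def depQ_naaaaaa : Tr := (.nd (.nd (.nd (.nd (.nd (.nd (.lf 0x0) (.lf 0xc)) (.nd (.lf 0x8) (.lf 0))) (.nd (.nd (.lf 0xa) (.lf 0)) (.nd (.lf 0x6) (.lf 0)))) (.nd (.nd (.nd (.lf 0x7) (.lf 0)) (.nd (.lf 0x6) (.lf 0))) (.nd (.nd (.lf 0x4) (.lf 0)) (.nd (.lf 0x9) (.lf 0))))) (.nd (.nd (.nd (.nd (.lf 0xb) (.lf 0x9)) (.nd (.lf 0x7) (.lf 0))) (.nd (.nd (.lf 0x6) (.lf 0)) (.nd (.lf 0xc) (.lf 0)))) (.nd (.nd (.nd (.lf 0x7) (.lf 0)) (.nd (.lf 0x8) (.lf 0))) (.nd (.nd (.lf 0x9) (.lf 0)) (.nd (.lf 0xa) (.lf 0)))))) (.nd (.nd (.nd (.nd (.nd (.lf 0x5) (.lf 0xc)) (.nd (.lf 0x6) (.lf 0))) (.nd (.nd (.lf 0x8) (.lf 0)) (.nd (.lf 0x8) (.lf 0)))) (.nd (.nd (.nd (.lf 0x8) (.lf 0)) (.nd (.lf 0xb) (.lf 0))) (.nd (.nd (.lf 0x9) (.lf 0)) (.nd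 (.lf 0x7) (.lf 0))))) (.nd (.nd (.nd (.nd (.lf 0x8) (.lf 0x7)) (.nd (.lf 0x5) (.lf 0))) (.nd (.nd (.lf 0x7) (.lf 0)) (.nd (.lf 0x7) (.lf 0)))) (.nd (.nd (.nd (.lf 0x8) (.lf 0)) (.nd (.lf 0x3) (.lf 0))) (.nd (.nd (.lf 0xc) (.lf 0)) (.nd (.lf 0x3) (.lf 0)))))))
def depQ_naaaaab : Tr := (.nd (.nd (.nd (.nd (.nd (.nd (.lf 0x9) (.lf 0x9)) (.nd (.lf 0x8) (.lf 0))) (.nd (.nd (.lf 0x7) (.lf 0)) (.nd (.lf 0x7) (.lf 0)))) (.nd (.nd (.nd (.lf 0x4) (.lf 0)) (.nd (.lf 0x6) (.lf 0))) (.nd (.nd (.lf 0x7) (.lf 0)) (.nd (.lf 0x6) (.lf 0))))) (.nd (.nd (.nd (.nd (.lf 0x7) (.lf 0x6)) (.nd (.lf 0x6) (.lf 0))) (.nd (.nd (.lf 0x2) (.lf 0)) (.nd (.lf 0xa) (.lf 0)))) (.nd (.nd (.nd (.lf 0x9) (.lf 0)) (.nd (.lf 0x6) (.lf 0))) (.nd (.nd (.lf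 0x8) (.lf 0)) (.nd (.lf 0xb) (.lf 0)))))) (.nd (.nd (.nd (.nd (.nd (.lf 0x7) (.lf 0x9)) (.nd (.lf 0x7) (.lf 0))) (.nd (.nd (.lf 0xa) (.lf 0)) (.nd (.lf 0x6) (.lf 0)))) (.nd (.nd (.nd (.lf 0x5) (.lf 0)) (.nd (.lf 0xb) (.lf 0))) (.nd (.nd (.lf 0x8) (.lf 0)) (.nd (.lf 0x7) (.lf 0))))) (.nd (.nd (.nd (.nd (.lf 0x7) (.lf 0x7)) (.nd (.lf 0x4) (.lf 0))) (.nd (.nd (.lf 0x7) (.lf 0)) (.nd (.lf 0x9) (.lf 0)))) (.nd (.nd (.nd (.lf 0x4) (.lf 0)) (.nd (.lf 0x6) (.lf 0))) (.nd (.nd (.lf 0x9) (.lf 0)) (.nd (.lf 0x9) (.lf 0)))))))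
def depQ_naaaaba : Tr := (.nd (.nd (.nd (.nd (.nd (.nd (.lf 0x6) (.lf 0x5)) (.nd (.lf 0xb) (.lf 0))) (.nd (.nd (.lf 0x8) (.lf 0)) (.nd (.lf 0x6) (.lf 0)))) (.nd (.nd (.nd (.lf 0x9) (.lf 0)) (.nd (.lf 0xc) (.lf 0))) (.nd (.nd (.lf 0x2) (.lf 0)) (.nd (.lf 0x5) (.lf 0))))) (.nd (.nd (.nd (.nd (.lf 0x3) (.lf 0x5)) (.nd (.lf 0x7) (.lf 0))) (.nd (.nd (.lf 0x8) (.lf 0)) (.nd (.lf 0x9) (.lf 0)))) (.nd (.nd (.nd (.lf 0x8) (.lf 0)) (.nd (.lf 0x8) (.lf 0))) (.nd (.nd (.lf 0x8) (.lf 0)) (.nd (.lf 0x7) (.lf 0)))))) (.nd (.nd (.nd (.nd (.nd (.lf 0x6) (.lf 0x9)) (.nd (.lf 0xa) (.lf 0))) (.nd (.nd (.lf 0x7) (.lf 0)) (.nd (.lf 0x9) (.lf 0)))) (.nd (.nd (.nd (.lf 0x4) (.lf 0)) (.nd (.lf 0xb) (.lf 0))) (.nd (.nd (.lf 0x9) (.lf 0)) (.nd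 (.lf 0x9) (.lf 0))))) (.nd (.nd (.nd (.nd (.lf 0x4) (.lf 0x6)) (.nd (.lf 0xa) (.lf 0))) (.nd (.nd (.lf 0x8) (.lf 0)) (.nd (.lf 0x9) (.lf 0)))) (.nd (.nd (.nd (.lf 0x6) (.lf 0)) (.nd (.lf 0x6) (.lf 0))) (.nd (.nd (.lf 0xa) (.lf 0)) (.nd (.lf 0x9) (.lf 0)))))))
def depQ_naaaabb : Tr := (.nd (.nd (.nd (.nd (.nd (.nd (.lf 0x7) (.lf 0x8)) (.nd (.lf 0x9) (.lf 0))) (.nd (.nd (.lf 0x5) (.lf 0)) (.nd (.lf 0xa) (.lf 0)))) (.nd (.nd (.nd (.lf 0x7) (.lf 0)) (.nd (.lf 0xa) (.lf 0))) (.nd (.nd (.lf 0x5) (.lf 0)) (.nd (.lf 0x6) (.lf 0))))) (.nd (.nd (.nd (.nd (.lf 0x9) (.lf 0xc)) (.nd (.lf 0xa) (.lf 0))) (.nd (.nd (.lf 0xb) (.lf 0)) (.nd (.lf 0x8) (.lf 0)))) (.nd (.nd (.nd (.lf 0xc) (.lf 0)) (.nd (.lf 0x8) (.lf 0))) (.nd (.nd (.lf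 0x7) (.lf 0)) (.nd (.lf 0xa) (.lf 0)))))) (.nd (.nd (.nd (.nd (.nd (.lf 0xc) (.lf 0x7)) (.nd (.lf 0x9) (.lf 0))) (.nd (.nd (.lf 0x6) (.lf 0)) (.nd (.lf 0x4) (.lf 0)))) (.nd (.nd (.nd (.lf 0xb) (.lf 0)) (.nd (.lf 0x8) (.lf 0))) (.nd (.nd (.lf 0x5) (.lf 0)) (.nd (.lf 0x9) (.lf 0))))) (.nd (.nd (.nd (.nd (.lf 0xa) (.lf 0x6)) (.nd (.lf 0x6) (.lf 0))) (.nd (.nd (.lf 0x8) (.lf 0)) (.nd (.lf 0xb) (.lf 0)))) (.nd (.nd (.nd (.lf 0x5) (.lf 0)) (.nd (.lf 0x4) (.lf 0))) (.nd (.nd (.lf 0x9) (.lf 0)) (.nd (.lf 0x8) (.lf 0)))))))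
def depQ_naaabaa : Tr := (.nd (.nd (.nd (.nd (.nd (.nd (.lf 0xb) (.lf 0xb)) (.nd (.lf 0x8) (.lf 0))) (.nd (.nd (.lf 0x7) (.lf 0)) (.nd (.lf 0xa) (.lf 0)))) (.nd (.nd (.nd (.lf 0xb) (.lf 0)) (.nd (.lf 0x8) (.lf 0))) (.nd (.nd (.lf 0x9) (.lf 0)) (.nd (.lf 0x6) (.lf 0))))) (.nd (.nd (.nd (.nd (.lf 0x7) (.lf 0x7)) (.nd (.lf 0x6) (.lf 0))) (.nd (.nd (.lf 0xc) (.lf 0)) (.nd (.lf 0x9) (.lf 0)))) (.nd (.nd (.nd (.lf 0x7) (.lf 0)) (.nd (.lf 0x7) (.lf 0))) (.nd (.nd (.lf 0xa) (.lf 0)) (.nd (.lf 0x8) (.lf 0)))))) (.nd (.nd (.nd (.nd (.nd (.lf 0x5) (.lf 0x6)) (.nd (.lf 0xa) (.lf 0))) (.nd (.nd (.lf 0x9) (.lf 0)) (.nd (.lf 0x6) (.lf 0)))) (.nd (.nd (.nd (.lf 0x8) (.lf 0)) (.nd (.lf 0x8) (.lf 0))) (.nd (.nd (.lf 0xa) (.lf 0)) (.nd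 (.lf 0x5) (.lf 0))))) (.nd (.nd (.nd (.nd (.lf 0x8) (.lf 0x5)) (.nd (.lf 0xa) (.lf 0))) (.nd (.nd (.lf 0x8) (.lf 0)) (.nd (.lf 0xa) (.lf 0)))) (.nd (.nd (.nd (.lf 0x6) (.lf 0)) (.nd (.lf 0x8) (.lf 0))) (.nd (.nd (.lf 0xa) (.lf 0)) (.nd (.lf 0x6) (.lf 0)))))))
def depQ_naaabab : Tr := (.nd (.nd (.nd (.nd (.nd (.nd (.lf 0x6) (.lf 0x9)) (.nd (.lf 0x5) (.lf 0))) (.nd (.nd (.lf 0x8) (.lf 0)) (.nd (.lf 0x9) (.lf 0)))) (.nd (.nd (.nd (.lf 0xb) (.lf 0)) (.nd (.lf 0x9) (.lf 0))) (.nd (.nd (.lf 0x9) (.lf 0)) (.nd (.lf 0x9) (.lf 0))))) (.nd (.nd (.nd (.nd (.lf 0xa) (.lf 0x7)) (.nd (.lf 0x9) (.lf 0))) (.nd (.nd (.lf 0x9) (.lf 0)) (.nd (.lf 0x5) (.lf 0)))) (.nd (.nd (.nd (.lf 0xb) (.lf 0)) (.nd (.lf 0xa) (.lf 0))) (.nd (.nd (.lf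 0x5) (.lf 0)) (.nd (.lf 0xb) (.lf 0)))))) (.nd (.nd (.nd (.nd (.nd (.lf 0x9) (.lf 0x9)) (.nd (.lf 0x9) (.lf 0))) (.nd (.nd (.lf 0x7) (.lf 0)) (.nd (.lf 0x8) (.lf 0)))) (.nd (.nd (.nd (.lf 0x8) (.lf 0)) (.nd (.lf 0x8) (.lf 0))) (.nd (.nd (.lf 0x5) (.lf 0)) (.nd (.lf 0x7) (.lf 0))))) (.nd (.nd (.nd (.nd (.lf 0x9) (.lf 0xb)) (.nd (.lf 0x6) (.lf 0))) (.nd (.nd (.lf 0xa) (.lf 0)) (.nd (.lf 0x7) (.lf 0)))) (.nd (.nd (.nd (.lf 0xb) (.lf 0)) (.nd (.lf 0x9) (.lf 0))) (.nd (.nd (.lf 0x9) (.lf 0)) (.nd (.lf 0x5) (.lf 0)))))))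
def depQ_naaabba : Tr := (.nd (.nd (.nd (.nd (.nd (.nd (.lf 0x8) (.lf 0x6)) (.nd (.lf 0x5) (.lf 0))) (.nd (.nd (.lf 0xa) (.lf 0)) (.nd (.lf 0x5) (.lf 0)))) (.nd (.nd (.nd (.lf 0xb) (.lf 0)) (.nd (.lf 0x8) (.lf 0))) (.nd (.nd (.lf 0x4) (.lf 0)) (.nd (.lf 0x8) (.lf 0))))) (.nd (.nd (.nd (.nd (.lf 0xb) (.lf 0xa)) (.nd (.lf 0x7) (.lf 0))) (.nd (.nd (.lf 0x7) (.lf 0)) (.nd (.lf 0xb) (.lf 0)))) (.nd (.nd (.nd (.lf 0x8) (.lf 0)) (.nd (.lf 0x4) (.lf 0))) (.nd (.nd (.lf 0x9) (.lf 0)) (.nd (.lf 0xb) (.lf 0)))))) (.nd (.nd (.nd (.nd (.nd (.lf 0xa) (.lf 0x6)) (.nd (.lf 0x8) (.lf 0))) (.nd (.nd (.lf 0xc) (.lf 0)) (.nd (.lf 0x8) (.lf 0)))) (.nd (.nd (.nd (.lf 0x7) (.lf 0)) (.nd (.lf 0x7) (.lf 0))) (.nd (.nd (.lf 0xa) (.lf 0)) (.nd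 (.lf 0x7) (.lf 0))))) (.nd (.nd (.nd (.nd (.lf 0xa) (.lf 0x9)) (.nd (.lf 0xb) (.lf 0))) (.nd (.nd (.lf 0xb) (.lf 0)) (.nd (.lf 0xb) (.lf 0)))) (.nd (.nd (.nd (.lf 0x7) (.lf 0)) (.nd (.lf 0x7) (.lf 0))) (.nd (.nd (.lf 0x9) (.lf 0)) (.nd (.lf 0x8) (.lf 0)))))))
def depQ_naaabbb : Tr := (.nd (.nd (.nd (.nd (.nd (.nd (.lf 0x9) (.lf 0x7)) (.nd (.lf 0x6) (.lf 0))) (.nd (.nd (.lf 0x8) (.lf 0)) (.nd (.lf 0x9) (.lf 0)))) (.nd (.nd (.nd (.lf 0x6) (.lf 0)) (.nd (.lf 0x7) (.lf 0))) (.nd (.nd (.lf 0x8) (.lf 0)) (.nd (.lf 0xa) (.lf 0))))) (.nd (.nd (.nd (.nd (.lf 0x8) (.lf 0xa)) (.nd (.lf 0x9) (.lf 0))) (.nd (.nd (.lf 0x8) (.lf 0)) (.nd (.lf 0xa) (.lf 0)))) (.nd (.nd (.nd (.lf 0xa) (.lf 0)) (.nd (.lf 0x8) (.lf 0))) (.nd (.nd (.lf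 0x6) (.lf 0)) (.nd (.lf 0xb) (.lf 0)))))) (.nd (.nd (.nd (.nd (.nd (.lf 0x8) (.lf 0x9)) (.nd (.lf 0x9) (.lf 0))) (.nd (.nd (.lf 0xa) (.lf 0)) (.nd (.lf 0xc) (.lf 0)))) (.nd (.nd (.nd (.lf 0x7) (.lf 0)) (.nd (.lf 0x8) (.lf 0))) (.nd (.nd (.lf 0xa) (.lf 0)) (.nd (.lf 0x5) (.lf 0))))) (.nd (.nd (.nd (.nd (.lf 0xc) (.lf 0x8)) (.nd (.lf 0x9) (.lf 0))) (.nd (.nd (.lf 0x9) (.lf 0)) (.nd (.lf 0x3) (.lf 0)))) (.nd (.nd (.nd (.lf 0x7) (.lf 0)) (.nd (.lf 0x7) (.lf 0))) (.nd (.nd (.lf 0xb) (.lf 0)) (.nd (.lf 0x7) (.lf 0)))))))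
def depQ_naabaaa : Tr := (.nd (.nd (.nd (.nd (.nd (.nd (.lf 0x0) (.lf 0xb)) (.nd (.lf 0x8) (.lf 0))) (.nd (.nd (.lf 0x8) (.lf 0)) (.nd (.lf 0x5) (.lf 0)))) (.nd (.nd (.nd (.lf 0xa) (.lf 0)) (.nd (.lf 0x4) (.lf 0))) (.nd (.nd (.lf 0x7) (.lf 0)) (.nd (.lf 0x6) (.lf 0))))) (.nd (.nd (.nd (.nd (.lf 0x8) (.lf 0x8)) (.nd (.lf 0xa) (.lf 0))) (.nd (.nd (.lf 0x5) (.lf 0)) (.nd (.lf 0x3) (.lf 0)))) (.nd (.nd (.nd (.lf 0xa) (.lf 0)) (.nd (.lf 0xa) (.lf 0))) (.nd (.nd (.lf 0x8) (.lf 0)) (.nd (.lf 0x8) (.lf 0)))))) (.nd (.nd (.nd (.nd (.nd (.lf 0x8) (.lf 0x9)) (.nd (.lf 0x4) (.lf 0))) (.nd (.nd (.lf 0x5) (.lf 0)) (.nd (.lf 0x4) (.lf 0)))) (.nd (.nd (.nd (.lf 0x5) (.lf 0)) (.nd (.lf 0xb) (.lf 0))) (.nd (.nd (.lf 0xc) (.lf 0)) (.nd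 (.lf 0x3) (.lf 0))))) (.nd (.nd (.nd (.nd (.lf 0xc) (.lf 0xd)) (.nd (.lf 0x9) (.lf 0))) (.nd (.nd (.lf 0x9) (.lf 0)) (.nd (.lf 0x5) (.lf 0)))) (.nd (.nd (.nd (.lf 0x8) (.lf 0)) (.nd (.lf 0xc) (.lf 0))) (.nd (.nd (.lf 0xa) (.lf 0)) (.nd (.lf 0x8) (.lf 0)))))))
def depQ_naabaab : Tr := (.nd (.nd (.nd (.nd (.nd (.nd (.lf 0x8) (.lf 0x6)) (.nd (.lf 0x1) (.lf 0))) (.nd (.nd (.lf 0x6) (.lf 0)) (.nd (.lf 0x7) (.lf 0)))) (.nd (.nd (.nd (.lf 0x3) (.lf 0)) (.nd (.lf 0x8) (.lf 0))) (.nd (.nd (.lf 0x8) (.lf 0)) (.nd (.lf 0x5) (.lf 0))))) (.nd (.nd (.nd (.nd (.lf 0x8) (.lf 0x2)) (.nd (.lf 0x6) (.lf 0))) (.nd (.nd (.lf 0x5) (.lf 0)) (.nd (.lf 0x9) (.lf 0)))) (.nd (.nd (.nd (.lf 0x8) (.lf 0)) (.nd (.lf 0x7) (.lf 0))) (.nd (.nd (.lf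 0x8) (.lf 0)) (.nd (.lf 0x7) (.lf 0)))))) (.nd (.nd (.nd (.nd (.nd (.lf 0x5) (.lf 0x7)) (.nd (.lf 0x7) (.lf 0))) (.nd (.nd (.lf 0x8) (.lf 0)) (.nd (.lf 0x6) (.lf 0)))) (.nd (.nd (.nd (.lf 0x9) (.lf 0)) (.nd (.lf 0x9) (.lf 0))) (.nd (.nd (.lf 0x9) (.lf 0)) (.nd (.lf 0xc) (.lf 0))))) (.nd (.nd (.nd (.nd (.lf 0x3) (.lf 0x5)) (.nd (.lf 0xb) (.lf 0))) (.nd (.nd (.lf 0x9) (.lf 0)) (.nd (.lf 0x6) (.lf 0)))) (.nd (.nd (.nd (.lf 0x9) (.lf 0)) (.nd (.lf 0xa) (.lf 0))) (.nd (.nd (.lf 0x7) (.lf 0)) (.nd (.lf 0x9) (.lf 0)))))))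
def depQ_naababa : Tr := (.nd (.nd (.nd (.nd (.nd (.nd (.lf 0x7) (.lf 0xb)) (.nd (.lf 0x4) (.lf 0))) (.nd (.nd (.lf 0x4) (.lf 0)) (.nd (.lf 0x8) (.lf 0)))) (.nd (.nd (.nd (.lf 0xd) (.lf 0)) (.nd (.lf 0x6) (.lf 0))) (.nd (.nd (.lf 0x8) (.lf 0)) (.nd (.lf 0x8) (.lf 0))))) (.nd (.nd (.nd (.nd (.lf 0xb) (.lf 0xb)) (.nd (.lf 0x9) (.lf 0))) (.nd (.nd (.lf 0x8) (.lf 0)) (.nd (.lf 0x9) (.lf 0)))) (.nd (.nd (.nd (.lf 0x5) (.lf 0)) (.nd (.lf 0x6) (.lf 0))) (.nd (.nd (.lf 0x8) (.lf 0)) (.nd (.lf 0x9) (.lf 0)))))) (.nd (.nd (.nd (.nd (.nd (.lf 0xc) (.lf 0x5)) (.nd (.lf 0x2) (.lf 0))) (.nd (.nd (.lf 0x8) (.lf 0)) (.nd (.lf 0xc) (.lf 0)))) (.nd (.nd (.nd (.lf 0xa) (.lf 0)) (.nd (.lf 0x5) (.lf 0))) (.nd (.nd (.lf 0x8) (.lf 0)) (.nd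 (.lf 0x4) (.lf 0))))) (.nd (.nd (.nd (.nd (.lf 0xa) (.lf 0x8)) (.nd (.lf 0xc) (.lf 0))) (.nd (.nd (.lf 0x9) (.lf 0)) (.nd (.lf 0x7) (.lf 0)))) (.nd (.nd (.nd (.lf 0xb) (.lf 0)) (.nd (.lf 0x9) (.lf 0))) (.nd (.nd (.lf 0x9) (.lf 0)) (.nd (.lf 0x9) (.lf 0)))))))
def depQ_naababb : Tr := (.nd (.nd (.nd (.nd (.nd (.nd (.lf 0x9) (.lf 0xb)) (.nd (.lf 0x5) (.lf 0))) (.nd (.nd (.lf 0x6) (.lf 0)) (.nd (.lf 0x7) (.lf 0)))) (.nd (.nd (.nd (.lf 0xa) (.lf 0)) (.nd (.lf 0x7) (.lf 0))) (.nd (.nd (.lf 0x6) (.lf 0)) (.nd (.lf 0x6) (.lf 0))))) (.nd (.nd (.nd (.nd (.lf 0x5) (.lf 0x3)) (.nd (.lf 0xa) (.lf 0))) (.nd (.nd (.lf 0x7) (.lf 0)) (.nd (.lf 0x9) (.lf 0)))) (.nd (.nd (.nd (.lf 0xc) (.lf 0)) (.nd (.lf 0xc) (.lf 0))) (.nd (.nd (.lf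 0x4) (.lf 0)) (.nd (.lf 0xc) (.lf 0)))))) (.nd (.nd (.nd (.nd (.nd (.lf 0x7) (.lf 0x6)) (.nd (.lf 0x9) (.lf 0))) (.nd (.nd (.lf 0x8) (.lf 0)) (.nd (.lf 0x8) (.lf 0)))) (.nd (.nd (.nd (.lf 0x7) (.lf 0)) (.nd (.lf 0x8) (.lf 0))) (.nd (.nd (.lf 0x9) (.lf 0)) (.nd (.lf 0xa) (.lf 0))))) (.nd (.nd (.nd (.nd (.lf 0x9) (.lf 0xb)) (.nd (.lf 0x8) (.lf 0))) (.nd (.nd (.lf 0x8) (.lf 0)) (.nd (.lf 0x5) (.lf 0)))) (.nd (.nd (.nd (.lf 0xb) (.lf 0)) (.nd (.lf 0x5) (.lf 0))) (.nd (.nd (.lf 0x9) (.lf 0)) (.nd (.lf 0x7) (.lf 0)))))))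
def depQ_naabbaa : Tr := (.nd (.nd (.nd (.nd (.nd (.nd (.lf 0x5) (.lf 0x6)) (.nd (.lf 0x9) (.lf 0))) (.nd (.nd (.lf 0x3) (.lf 0)) (.nd (.lf 0x5) (.lf 0)))) (.nd (.nd (.nd (.lf 0x6) (.lf 0)) (.nd (.lf 0x9) (.lf 0))) (.nd (.nd (.lf 0x7) (.lf 0)) (.nd (.lf 0x8) (.lf 0))))) (.nd (.nd (.nd (.nd (.lf 0x7) (.lf 0x6)) (.nd (.lf 0x9) (.lf 0))) (.nd (.nd (.lf 0x8) (.lf 0)) (.nd (.lf 0xb) (.lf 0)))) (.nd (.nd (.nd (.lf 0xc) (.lf 0)) (.nd (.lf 0x6) (.lf 0))) (.nd (.nd (.lf 0x9) (.lf 0)) (.nd (.lf 0x9) (.lf 0)))))) (.nd (.nd (.nd (.nd (.nd (.lf 0xa) (.lf 0x8)) (.nd (.lf 0x2) (.lf 0))) (.nd (.nd (.lf 0x8) (.lf 0)) (.nd (.lf 0xb) (.lf 0)))) (.nd (.nd (.nd (.lf 0x8) (.lf 0)) (.nd (.lf 0x8) (.lf 0))) (.nd (.nd (.lf 0x6) (.lf 0)) (.nd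 (.lf 0x9) (.lf 0))))) (.nd (.nd (.nd (.nd (.lf 0xa) (.lf 0x8)) (.nd (.lf 0x8) (.lf 0))) (.nd (.nd (.lf 0x7) (.lf 0)) (.nd (.lf 0x3) (.lf 0)))) (.nd (.nd (.nd (.lf 0x5) (.lf 0)) (.nd (.lf 0x5) (.lf 0))) (.nd (.nd (.lf 0x8) (.lf 0)) (.nd (.lf 0x8) (.lf 0)))))))
def depQ_naabbab : Tr := (.nd (.nd (.nd (.nd (.nd (.nd (.lf 0x9) (.lf 0x4)) (.nd (.lf 0xa) (.lf 0))) (.nd (.nd (.lf 0xa) (.lf 0)) (.nd (.lf 0x7) (.lf 0)))) (.nd (.nd (.nd (.lf 0xc) (.lf 0)) (.nd (.lf 0x6) (.lf 0))) (.nd (.nd (.lf 0x5) (.lf 0)) (.nd (.lf 0x6) (.lf 0))))) (.nd (.nd (.nd (.nd (.lf 0xb) (.lf 0xa)) (.nd (.lf 0x9) (.lf 0))) (.nd (.nd (.lf 0xa) (.lf 0)) (.nd (.lf 0x4) (.lf 0)))) (.nd (.nd (.nd (.lf 0x9) (.lf 0)) (.nd (.lf 0x6) (.lf 0))) (.nd (.nd (.lf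 0x6) (.lf 0)) (.nd (.lf 0xa) (.lf 0)))))) (.nd (.nd (.nd (.nd (.nd (.lf 0x6) (.lf 0x7)) (.nd (.lf 0x9) (.lf 0))) (.nd (.nd (.lf 0x5) (.lf 0)) (.nd (.lf 0x8) (.lf 0)))) (.nd (.nd (.nd (.lf 0x4) (.lf 0)) (.nd (.lf 0x8) (.lf 0))) (.nd (.nd (.lf 0xb) (.lf 0)) (.nd (.lf 0x9) (.lf 0))))) (.nd (.nd (.nd (.nd (.lf 0x6) (.lf 0xc)) (.nd (.lf 0x6) (.lf 0))) (.nd (.nd (.lf 0x5) (.lf 0)) (.nd (.lf 0x6) (.lf 0)))) (.nd (.nd (.nd (.lf 0x9) (.lf 0)) (.nd (.lf 0xc) (.lf 0))) (.nd (.nd (.lf 0xa) (.lf 0)) (.nd (.lf 0xa) (.lf 0)))))))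
def depQ_naabbba : Tr := (.nd (.nd (.nd (.nd (.nd (.nd (.lf 0x9) (.lf 0x7)) (.nd (.lf 0x9) (.lf 0))) (.nd (.nd (.lf 0x6) (.lf 0)) (.nd (.lf 0x8) (.lf 0)))) (.nd (.nd (.nd (.lf 0x8) (.lf 0)) (.nd (.lf 0x6) (.lf 0))) (.nd (.nd (.lf 0xa) (.lf 0)) (.nd (.lf 0x5) (.lf 0))))) (.nd (.nd (.nd (.nd (.lf 0x8) (.lf 0x8)) (.nd (.lf 0xc) (.lf 0))) (.nd (.nd (.lf 0x4) (.lf 0)) (.nd (.lf 0x6) (.lf 0)))) (.nd (.nd (.nd (.lf 0x9) (.lf 0)) (.nd (.lf 0x9) (.lf 0))) (.nd (.nd (.lf 0xa) (.lf 0)) (.nd (.lf 0x8) (.lf 0)))))) (.nd (.nd (.nd (.nd (.nd (.lf 0x9) (.lf 0x7)) (.nd (.lf 0x6) (.lf 0))) (.nd (.nd (.lf 0x5) (.lf 0)) (.nd (.lf 0x7) (.lf 0)))) (.nd (.nd (.nd (.lf 0xc) (.lf 0)) (.nd (.lf 0x9) (.lf 0))) (.nd (.nd (.lf 0x7) (.lf 0)) (.nd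 (.lf 0x7) (.lf 0))))) (.nd (.nd (.nd (.nd (.lf 0x8) (.lf 0x3)) (.nd (.lf 0x7) (.lf 0))) (.nd (.nd (.lf 0x8) (.lf 0)) (.nd (.lf 0x8) (.lf 0)))) (.nd (.nd (.nd (.lf 0x8) (.lf 0)) (.nd (.lf 0x9) (.lf 0))) (.nd (.nd (.lf 0xb) (.lf 0)) (.nd (.lf 0x7) (.lf 0)))))))
def depQ_naabbbb : Tr := (.nd (.nd (.nd (.nd (.nd (.nd (.lf 0xa) (.lf 0x8)) (.nd (.lf 0xc) (.lf 0))) (.nd (.nd (.lf 0x6) (.lf 0)) (.nd (.lf 0x8) (.lf 0)))) (.nd (.nd (.nd (.lf 0x6) (.lf 0)) (.nd (.lf 0x9) (.lf 0))) (.nd (.nd (.lf 0x8) (.lf 0)) (.nd (.lf 0x8) (.lf 0))))) (.nd (.nd (.nd (.nd (.lf 0x7) (.lf 0xb)) (.nd (.lf 0xb) (.lf 0))) (.nd (.nd (.lf 0xa) (.lf 0)) (.nd (.lf 0x9) (.lf 0)))) (.nd (.nd (.nd (.lf 0x5) (.lf 0)) (.nd (.lf 0x9) (.lf 0))) (.nd (.nd (.lf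 0x6) (.lf 0)) (.nd (.lf 0xb) (.lf 0)))))) (.nd (.nd (.nd (.nd (.nd (.lf 0x9) (.lf 0xb)) (.nd (.lf 0x8) (.lf 0))) (.nd (.nd (.lf 0x9) (.lf 0)) (.nd (.lf 0xb) (.lf 0)))) (.nd (.nd (.nd (.lf 0x8) (.lf 0)) (.nd (.lf 0x6) (.lf 0))) (.nd (.nd (.lf 0x8) (.lf 0)) (.nd (.lf 0x6) (.lf 0))))) (.nd (.nd (.nd (.nd (.lf 0x9) (.lf 0x8)) (.nd (.lf 0xa) (.lf 0))) (.nd (.nd (.lf 0xb) (.lf 0)) (.nd (.lf 0x3) (.lf 0)))) (.nd (.nd (.nd (.lf 0xb) (.lf 0)) (.nd (.lf 0x8) (.lf 0))) (.nd (.nd (.lf 0x6) (.lf 0)) (.nd (.lf 0xa) (.lf 0)))))))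
def depQ_nabaaaa : Tr := (.nd (.nd (.nd (.nd (.nd (.nd (.lf 0x6) (.lf 0x4)) (.nd (.lf 0xa) (.lf 0))) (.nd (.nd (.lf 0xb) (.lf 0)) (.nd (.lf 0xa) (.lf 0)))) (.nd (.nd (.nd (.lf 0x9) (.lf 0)) (.nd (.lf 0xa) (.lf 0))) (.nd (.nd (.lf 0x9) (.lf 0)) (.nd (.lf 0x8) (.lf 0))))) (.nd (.nd (.nd (.nd (.lf 0x7) (.lf 0x6)) (.nd (.lf 0x7) (.lf 0))) (.nd (.nd (.lf 0x7) (.lf 0)) (.nd (.lf 0x7) (.lf 0)))) (.nd (.nd (.nd (.lf 0x7) (.lf 0)) (.nd (.lf 0x8) (.lf 0))) (.nd (.nd (.lf 0x8) (.lf 0)) (.nd (.lf 0x9) (.lf 0)))))) (.nd (.nd (.nd (.nd (.nd (.lf 0x7) (.lf 0xa)) (.nd (.lf 0x9) (.lf 0))) (.nd (.nd (.lf 0xc) (.lf 0)) (.nd (.lf 0x8) (.lf 0)))) (.nd (.nd (.nd (.lf 0xa) (.lf 0)) (.nd (.lf 0x5) (.lf 0))) (.nd (.nd (.lf 0xa) (.lf 0)) (.nd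 (.lf 0x3) (.lf 0))))) (.nd (.nd (.nd (.nd (.lf 0x8) (.lf 0xb)) (.nd (.lf 0x5) (.lf 0))) (.nd (.nd (.lf 0xa) (.lf 0)) (.nd (.lf 0x8) (.lf 0)))) (.nd (.nd (.nd (.lf 0x7) (.lf 0)) (.nd (.lf 0x4) (.lf 0))) (.nd (.nd (.lf 0x9) (.lf 0)) (.nd (.lf 0x8) (.lf 0)))))))
def depQ_nabaaab : Tr := (.nd (.nd (.nd (.nd (.nd (.nd (.lf 0x5) (.lf 0x7)) (.nd (.lf 0x2) (.lf 0))) (.nd (.nd (.lf 0x5) (.lf 0)) (.nd (.lf 0x5) (.lf 0)))) (.nd (.nd (.nd (.lf 0xc) (.lf 0)) (.nd (.lf 0x9) (.lf 0))) (.nd (.nd (.lf 0x5) (.lf 0)) (.nd (.lf 0x7) (.lf 0))))) (.nd (.nd (.nd (.nd (.lf 0xa) (.lf 0x7)) (.nd (.lf 0x9) (.lf 0))) (.nd (.nd (.lf 0x9) (.lf 0)) (.nd (.lf 0x9) (.lf 0)))) (.nd (.nd (.nd (.lf 0x6) (.lf 0)) (.nd (.lf 0xa) (.lf 0))) (.nd (.nd (.lf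 0x9) (.lf 0)) (.nd (.lf 0x9) (.lf 0)))))) (.nd (.nd (.nd (.nd (.nd (.lf 0x9) (.lf 0xc)) (.nd (.lf 0x7) (.lf 0))) (.nd (.nd (.lf 0xa) (.lf 0)) (.nd (.lf 0x8) (.lf 0)))) (.nd (.nd (.nd (.lf 0x6) (.lf 0)) (.nd (.lf 0x7) (.lf 0))) (.nd (.nd (.lf 0x7) (.lf 0)) (.nd (.lf 0xb) (.lf 0))))) (.nd (.nd (.nd (.nd (.lf 0x9) (.lf 0x8)) (.nd (.lf 0xb) (.lf 0))) (.nd (.nd (.lf 0xa) (.lf 0)) (.nd (.lf 0x2) (.lf 0)))) (.nd (.nd (.nd (.lf 0x9) (.lf 0)) (.nd (.lf 0x7) (.lf 0))) (.nd (.nd (.lf 0x6) (.lf 0)) (.nd (.lf 0x7) (.lf 0)))))))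
def depQ_nabaaba : Tr := (.nd (.nd (.nd (.nd (.nd (.nd (.lf 0x6) (.lf 0xa)) (.nd (.lf 0xb) (.lf 0))) (.nd (.nd (.lf 0xa) (.lf 0)) (.nd (.lf 0x7) (.lf 0)))) (.nd (.nd (.nd (.lf 0xb) (.lf 0)) (.nd (.lf 0xb) (.lf 0))) (.nd (.nd (.lf 0x9) (.lf 0)) (.nd (.lf 0x8) (.lf 0))))) (.nd (.nd (.nd (.nd (.lf 0x8) (.lf 0x9)) (.nd (.lf 0x9) (.lf 0))) (.nd (.nd (.lf 0x7) (.lf 0)) (.nd (.lf 0xa) (.lf 0)))) (.nd (.nd (.nd (.lf 0x3) (.lf 0)) (.nd (.lf 0x6) (.lf 0))) (.nd (.nd (.lf 0x6) (.lf 0)) (.nd (.lf 0x8) (.lf 0)))))) (.nd (.nd (.nd (.nd (.nd (.lf 0xa) (.lf 0xa)) (.nd (.lf 0x6) (.lf 0))) (.nd (.nd (.lf 0x8) (.lf 0)) (.nd (.lf 0x9) (.lf 0)))) (.nd (.nd (.nd (.lf 0xd) (.lf 0)) (.nd (.lf 0xa) (.lf 0))) (.nd (.nd (.lf 0x8) (.lf 0)) (.nd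 (.lf 0x7) (.lf 0))))) (.nd (.nd (.nd (.nd (.lf 0x9) (.lf 0x6)) (.nd (.lf 0x9) (.lf 0))) (.nd (.nd (.lf 0x9) (.lf 0)) (.nd (.lf 0x3) (.lf 0)))) (.nd (.nd (.nd (.lf 0x9) (.lf 0)) (.nd (.lf 0x3) (.lf 0))) (.nd (.nd (.lf 0x7) (.lf 0)) (.nd (.lf 0x7) (.lf 0)))))))
def depQ_nabaabb : Tr := (.nd (.nd (.nd (.nd (.nd (.nd (.lf 0xb) (.lf 0x5)) (.nd (.lf 0xa) (.lf 0))) (.nd (.nd (.lf 0x9) (.lf 0)) (.nd (.lf 0x6) (.lf 0)))) (.nd (.nd (.nd (.lf 0xb) (.lf 0)) (.nd (.lf 0x2) (.lf 0))) (.nd (.nd (.lf 0x6) (.lf 0)) (.nd (.lf 0x8) (.lf 0))))) (.nd (.nd (.nd (.nd (.lf 0x9) (.lf 0x7)) (.nd (.lf 0x9) (.lf 0))) (.nd (.nd (.lf 0x7) (.lf 0)) (.nd (.lf 0x9) (.lf 0)))) (.nd (.nd (.nd (.lf 0x6) (.lf 0)) (.nd (.lf 0x8) (.lf 0))) (.nd (.nd (.lf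 0x9) (.lf 0)) (.nd (.lf 0x9) (.lf 0)))))) (.nd (.nd (.nd (.nd (.nd (.lf 0x9) (.lf 0xa)) (.nd (.lf 0x7) (.lf 0))) (.nd (.nd (.lf 0x8) (.lf 0)) (.nd (.lf 0xa) (.lf 0)))) (.nd (.nd (.nd (.lf 0x7) (.lf 0)) (.nd (.lf 0x8) (.lf 0))) (.nd (.nd (.lf 0x8) (.lf 0)) (.nd (.lf 0x6) (.lf 0))))) (.nd (.nd (.nd (.nd (.lf 0x7) (.lf 0x7)) (.nd (.lf 0x9) (.lf 0))) (.nd (.nd (.lf 0x7) (.lf 0)) (.nd (.lf 0x3) (.lf 0)))) (.nd (.nd (.nd (.lf 0x6) (.lf 0)) (.nd (.lf 0x8) (.lf 0))) (.nd (.nd (.lf 0x6) (.lf 0)) (.nd (.lf 0x8) (.lf 0)))))))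
def depQ_nababaa : Tr := (.nd (.nd (.nd (.nd (.nd (.nd (.lf 0x0) (.lf 0x9)) (.nd (.lf 0x3) (.lf 0))) (.nd (.nd (.lf 0x7) (.lf 0)) (.nd (.lf 0xb) (.lf 0)))) (.nd (.nd (.nd (.lf 0x3) (.lf 0)) (.nd (.lf 0x6) (.lf 0))) (.nd (.nd (.lf 0x6) (.lf 0)) (.nd (.lf 0x6) (.lf 0))))) (.nd (.nd (.nd (.nd (.lf 0x8) (.lf 0xa)) (.nd (.lf 0x7) (.lf 0))) (.nd (.nd (.lf 0xb) (.lf 0)) (.nd (.lf 0x6) (.lf 0)))) (.nd (.nd (.nd (.lf 0x8) (.lf 0)) (.nd (.lf 0x9) (.lf 0))) (.nd (.nd (.lf 0x5) (.lf 0)) (.nd (.lf 0x9) (.lf 0)))))) (.nd (.nd (.nd (.nd (.nd (.lf 0x8) (.lf 0xa)) (.nd (.lf 0xa) (.lf 0))) (.nd (.nd (.lf 0x9) (.lf 0)) (.nd (.lf 0x7) (.lf 0)))) (.nd (.nd (.nd (.lf 0x1) (.lf 0)) (.nd (.lf 0x6) (.lf 0))) (.nd (.nd (.lf 0x4) (.lf 0)) (.nd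 (.lf 0xa) (.lf 0))))) (.nd (.nd (.nd (.nd (.lf 0x9) (.lf 0x6)) (.nd (.lf 0x8) (.lf 0))) (.nd (.nd (.lf 0x6) (.lf 0)) (.nd (.lf 0x9) (.lf 0)))) (.nd (.nd (.nd (.lf 0xa) (.lf 0)) (.nd (.lf 0x8) (.lf 0))) (.nd (.nd (.lf 0x8) (.lf 0)) (.nd (.lf 0xa) (.lf 0)))))))
def depQ_nababab : Tr := (.nd (.nd (.nd (.nd (.nd (.nd (.lf 0x8) (.lf 0xb)) (.nd (.lf 0x6) (.lf 0))) (.nd (.nd (.lf 0x9) (.lf 0)) (.nd (.lf 0x8) (.lf 0)))) (.nd (.nd (.nd (.lf 0x9) (.lf 0)) (.nd (.lf 0xa) (.lf 0))) (.nd (.nd (.lf 0x9) (.lf 0)) (.nd (.lf 0xa) (.lf 0))))) (.nd (.nd (.nd (.nd (.lf 0xa) (.lf 0x6)) (.nd (.lf 0x6) (.lf 0))) (.nd (.nd (.lf 0x9) (.lf 0)) (.nd (.lf 0x9) (.lf 0)))) (.nd (.nd (.nd (.lf 0x7) (.lf 0)) (.nd (.lf 0x9) (.lf 0))) (.nd (.nd (.lf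 0xa) (.lf 0)) (.nd (.lf 0x5) (.lf 0)))))) (.nd (.nd (.nd (.nd (.nd (.lf 0x8) (.lf 0x7)) (.nd (.lf 0x5) (.lf 0))) (.nd (.nd (.lf 0x5) (.lf 0)) (.nd (.lf 0xb) (.lf 0)))) (.nd (.nd (.nd (.lf 0xb) (.lf 0)) (.nd (.lf 0xb) (.lf 0))) (.nd (.nd (.lf 0x9) (.lf 0)) (.nd (.lf 0xa) (.lf 0))))) (.nd (.nd (.nd (.nd (.lf 0xa) (.lf 0x7)) (.nd (.lf 0xa) (.lf 0))) (.nd (.nd (.lf 0xb) (.lf 0)) (.nd (.lf 0xa) (.lf 0)))) (.nd (.nd (.nd (.lf 0x7) (.lf 0)) (.nd (.lf 0x9) (.lf 0))) (.nd (.nd (.lf 0x9) (.lf 0)) (.nd (.lf 0xb) (.lf 0)))))))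
def depQ_nababba : Tr := (.nd (.nd (.nd (.nd (.nd (.nd (.lf 0x9) (.lf 0x8)) (.nd (.lf 0x6) (.lf 0))) (.nd (.nd (.lf 0x6) (.lf 0)) (.nd (.lf 0xa) (.lf 0)))) (.nd (.nd (.nd (.lf 0x7) (.lf 0)) (.nd (.lf 0x7) (.lf 0))) (.nd (.nd (.lf 0xb) (.lf 0)) (.nd (.lf 0x7) (.lf 0))))) (.nd (.nd (.nd (.nd (.lf 0x7) (.lf 0xc)) (.nd (.lf 0x6) (.lf 0))) (.nd (.nd (.lf 0x7) (.lf 0)) (.nd (.lf 0xb) (.lf 0)))) (.nd (.nd (.nd (.lf 0xa) (.lf 0)) (.nd (.lf 0x4) (.lf 0))) (.nd (.nd (.lf 0x5) (.lf 0)) (.nd (.lf 0x7) (.lf 0)))))) (.nd (.nd (.nd (.nd (.nd (.lf 0xb) (.lf 0x7)) (.nd (.lf 0x6) (.lf 0))) (.nd (.nd (.lf 0x4) (.lf 0)) (.nd (.lf 0x8) (.lf 0)))) (.nd (.nd (.nd (.lf 0x8) (.lf 0)) (.nd (.lf 0x8) (.lf 0))) (.nd (.nd (.lf 0x7) (.lf 0)) (.nd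 (.lf 0x7) (.lf 0))))) (.nd (.nd (.nd (.nd (.lf 0x7) (.lf 0x9)) (.nd (.lf 0x8) (.lf 0))) (.nd (.nd (.lf 0x3) (.lf 0)) (.nd (.lf 0x8) (.lf 0)))) (.nd (.nd (.nd (.lf 0xa) (.lf 0)) (.nd (.lf 0xa) (.lf 0))) (.nd (.nd (.lf 0xa) (.lf 0)) (.nd (.lf 0x5) (.lf 0)))))))
def depQ_nababbb : Tr := (.nd (.nd (.nd (.nd (.nd (.nd (.lf 0x7) (.lf 0x5)) (.nd (.lf 0x7) (.lf 0))) (.nd (.nd (.lf 0xa) (.lf 0)) (.nd (.lf 0x7) (.lf 0)))) (.nd (.nd (.nd (.lf 0x4) (.lf 0)) (.nd (.lf 0x7) (.lf 0))) (.nd (.nd (.lf 0x8) (.lf 0)) (.nd (.lf 0x9) (.lf 0))))) (.nd (.nd (.nd (.nd (.lf 0x6) (.lf 0x7)) (.nd (.lf 0x8) (.lf 0))) (.nd (.nd (.lf 0xa) (.lf 0)) (.nd (.lf 0x9) (.lf 0)))) (.nd (.nd (.nd (.lf 0x6) (.lf 0)) (.nd (.lf 0xa) (.lf 0))) (.nd (.nd (.lf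 0x6) (.lf 0)) (.nd (.lf 0x5) (.lf 0)))))) (.nd (.nd (.nd (.nd (.nd (.lf 0x4) (.lf 0x5)) (.nd (.lf 0x7) (.lf 0))) (.nd (.nd (.lf 0x8) (.lf 0)) (.nd (.lf 0x8) (.lf 0)))) (.nd (.nd (.nd (.lf 0x9) (.lf 0)) (.nd (.lf 0x7) (.lf 0))) (.nd (.nd (.lf 0x8) (.lf 0)) (.nd (.lf 0xa) (.lf 0))))) (.nd (.nd (.nd (.nd (.lf 0x4) (.lf 0x5)) (.nd (.lf 0xc) (.lf 0))) (.nd (.nd (.lf 0x9) (.lf 0)) (.nd (.lf 0x9) (.lf 0)))) (.nd (.nd (.nd (.lf 0xb) (.lf 0)) (.nd (.lf 0x5) (.lf 0))) (.nd (.nd (.lf 0x7) (.lf 0)) (.nd (.lf 0x5) (.lf 0)))))))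
def depQ_nabbaaa : Tr := (.nd (.nd (.nd (.nd (.nd (.nd (.lf 0x8) (.lf 0x4)) (.nd (.lf 0x7) (.lf 0))) (.nd (.nd (.lf 0xa) (.lf 0)) (.nd (.lf 0xa) (.lf 0)))) (.nd (.nd (.nd (.lf 0x8) (.lf 0)) (.nd (.lf 0xc) (.lf 0))) (.nd (.nd (.lf 0x5) (.lf 0)) (.nd (.lf 0x7) (.lf 0))))) (.nd (.nd (.nd (.nd (.lf 0xa) (.lf 0x9)) (.nd (.lf 0xb) (.lf 0))) (.nd (.nd (.lf 0xb) (.lf 0)) (.nd (.lf 0x9) (.lf 0)))) (.nd (.nd (.nd (.lf 0x7) (.lf 0)) (.nd (.lf 0x6) (.lf 0))) (.nd (.nd (.lf 0x9) (.lf 0)) (.nd (.lf 0x9) (.lf 0)))))) (.nd (.nd (.nd (.nd (.nd (.lf 0x7) (.lf 0x6)) (.nd (.lf 0x6) (.lf 0))) (.nd (.nd (.lf 0x9) (.lf 0)) (.nd (.lf 0xa) (.lf 0)))) (.nd (.nd (.nd (.lf 0x4) (.lf 0)) (.nd (.lf 0x8) (.lf 0))) (.nd (.nd (.lf 0x6) (.lf 0)) (.nd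 (.lf 0x6) (.lf 0))))) (.nd (.nd (.nd (.nd (.lf 0x1) (.lf 0x7)) (.nd (.lf 0x1) (.lf 0))) (.nd (.nd (.lf 0xb) (.lf 0)) (.nd (.lf 0xa) (.lf 0)))) (.nd (.nd (.nd (.lf 0x7) (.lf 0)) (.nd (.lf 0x7) (.lf 0))) (.nd (.nd (.lf 0x5) (.lf 0)) (.nd (.lf 0x5) (.lf 0)))))))
def depQ_nabbaab : Tr := (.nd (.nd (.nd (.nd (.nd (.nd (.lf 0x9) (.lf 0x8)) (.nd (.lf 0x3) (.lf 0))) (.nd (.nd (.lf 0xc) (.lf 0)) (.nd (.lf 0x8) (.lf 0)))) (.nd (.nd (.nd (.lf 0x7) (.lf 0)) (.nd (.lf 0xa) (.lf 0))) (.nd (.nd (.lf 0xc) (.lf 0)) (.nd (.lf 0x5) (.lf 0))))) (.nd (.nd (.nd (.nd (.lf 0xb) (.lf 0xa)) (.nd (.lf 0x7) (.lf 0))) (.nd (.nd (.lf 0x9) (.lf 0)) (.nd (.lf 0xa) (.lf 0)))) (.nd (.nd (.nd (.lf 0x9) (.lf 0)) (.nd (.lf 0x7) (.lf 0))) (.nd (.nd (.lf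 0xc) (.lf 0)) (.nd (.lf 0xc) (.lf 0)))))) (.nd (.nd (.nd (.nd (.nd (.lf 0xc) (.lf 0x8)) (.nd (.lf 0xa) (.lf 0))) (.nd (.nd (.lf 0x7) (.lf 0)) (.nd (.lf 0x9) (.lf 0)))) (.nd (.nd (.nd (.lf 0x8) (.lf 0)) (.nd (.lf 0x9) (.lf 0))) (.nd (.nd (.lf 0x8) (.lf 0)) (.nd (.lf 0x8) (.lf 0))))) (.nd (.nd (.nd (.nd (.lf 0x5) (.lf 0x7)) (.nd (.lf 0xa) (.lf 0))) (.nd (.nd (.lf 0x9) (.lf 0)) (.nd (.lf 0x8) (.lf 0)))) (.nd (.nd (.nd (.lf 0xa) (.lf 0)) (.nd (.lf 0x6) (.lf 0))) (.nd (.nd (.lf 0xb) (.lf 0)) (.nd (.lf 0xa) (.lf 0)))))))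
def depQ_nabbaba : Tr := (.nd (.nd (.nd (.nd (.nd (.nd (.lf 0x9) (.lf 0x5)) (.nd (.lf 0x5) (.lf 0))) (.nd (.nd (.lf 0x7) (.lf 0)) (.nd (.lf 0x9) (.lf 0)))) (.nd (.nd (.nd (.lf 0x8) (.lf 0)) (.nd (.lf 0xa) (.lf 0))) (.nd (.nd (.lf 0xa) (.lf 0)) (.nd (.lf 0x6) (.lf 0))))) (.nd (.nd (.nd (.nd (.lf 0x9) (.lf 0x8)) (.nd (.lf 0x8) (.lf 0))) (.nd (.nd (.lf 0xa) (.lf 0)) (.nd (.lf 0x8) (.lf 0)))) (.nd (.nd (.nd (.lf 0x2) (.lf 0)) (.nd (.lf 0x9) (.lf 0))) (.nd (.nd (.lf 0x5) (.lf 0)) (.nd (.lf 0x4) (.lf 0)))))) (.nd (.nd (.nd (.nd (.nd (.lf 0x8) (.lf 0xb)) (.nd (.lf 0x7) (.lf 0))) (.nd (.nd (.lf 0x6) (.lf 0)) (.nd (.lf 0x4) (.lf 0)))) (.nd (.nd (.nd (.lf 0x9) (.lf 0)) (.nd (.lf 0x9) (.lf 0))) (.nd (.nd (.lf 0xb) (.lf 0)) (.nd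 (.lf 0x7) (.lf 0))))) (.nd (.nd (.nd (.nd (.lf 0x5) (.lf 0x9)) (.nd (.lf 0x6) (.lf 0))) (.nd (.nd (.lf 0x9) (.lf 0)) (.nd (.lf 0xa) (.lf 0)))) (.nd (.nd (.nd (.lf 0x7) (.lf 0)) (.nd (.lf 0xa) (.lf 0))) (.nd (.nd (.lf 0x5) (.lf 0)) (.nd (.lf 0x8) (.lf 0)))))))
def depQ_nabbabb : Tr := (.nd (.nd (.nd (.nd (.nd (.nd (.lf 0x9) (.lf 0x7)) (.nd (.lf 0xa) (.lf 0))) (.nd (.nd (.lf 0x8) (.lf 0)) (.nd (.lf 0xc) (.lf 0)))) (.nd (.nd (.nd (.lf 0x9) (.lf 0)) (.nd (.lf 0xb) (.lf 0))) (.nd (.nd (.lf 0x7) (.lf 0)) (.nd (.lf 0x7) (.lf 0))))) (.nd (.nd (.nd (.nd (.lf 0x9) (.lf 0x8)) (.nd (.lf 0x8) (.lf 0))) (.nd (.nd (.lf 0x6) (.lf 0)) (.nd (.lf 0xa) (.lf 0)))) (.nd (.nd (.nd (.lf 0x6) (.lf 0)) (.nd (.lf 0x7) (.lf 0))) (.nd (.nd (.lf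 0x6) (.lf 0)) (.nd (.lf 0x5) (.lf 0)))))) (.nd (.nd (.nd (.nd (.nd (.lf 0x5) (.lf 0x6)) (.nd (.lf 0x8) (.lf 0))) (.nd (.nd (.lf 0x9) (.lf 0)) (.nd (.lf 0xa) (.lf 0)))) (.nd (.nd (.nd (.lf 0x4) (.lf 0)) (.nd (.lf 0xb) (.lf 0))) (.nd (.nd (.lf 0x9) (.lf 0)) (.nd (.lf 0x6) (.lf 0))))) (.nd (.nd (.nd (.nd (.lf 0x8) (.lf 0x8)) (.nd (.lf 0xb) (.lf 0))) (.nd (.nd (.lf 0x8) (.lf 0)) (.nd (.lf 0x8) (.lf 0)))) (.nd (.nd (.nd (.lf 0x8) (.lf 0)) (.nd (.lf 0xa) (.lf 0))) (.nd (.nd (.lf 0xa) (.lf 0)) (.nd (.lf 0x8) (.lf 0)))))))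
def depQ_nabbbaa : Tr := (.nd (.nd (.nd (.nd (.nd (.nd (.lf 0x5) (.lf 0xc)) (.nd (.lf 0xc) (.lf 0))) (.nd (.nd (.lf 0xa) (.lf 0)) (.nd (.lf 0x8) (.lf 0)))) (.nd (.nd (.nd (.lf 0x9) (.lf 0)) (.nd (.lf 0x4) (.lf 0))) (.nd (.nd (.lf 0x7) (.lf 0)) (.nd (.lf 0xb) (.lf 0))))) (.nd (.nd (.nd (.nd (.lf 0xa) (.lf 0x7)) (.nd (.lf 0x8) (.lf 0))) (.nd (.nd (.lf 0x8) (.lf 0)) (.nd (.lf 0xa) (.lf 0)))) (.nd (.nd (.nd (.lf 0x7) (.lf 0)) (.nd (.lf 0x7) (.lf 0))) (.nd (.nd (.lf 0x9) (.lf 0)) (.nd (.lf 0x9) (.lf 0)))))) (.nd (.nd (.nd (.nd (.nd (.lf 0x9) (.lf 0xa)) (.nd (.lf 0x9) (.lf 0))) (.nd (.nd (.lf 0x5) (.lf 0)) (.nd (.lf 0xa) (.lf 0)))) (.nd (.nd (.nd (.lf 0x7) (.lf 0)) (.nd (.lf 0x8) (.lf 0))) (.nd (.nd (.lf 0xb) (.lf 0)) (.nd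 (.lf 0x7) (.lf 0))))) (.nd (.nd (.nd (.nd (.lf 0x5) (.lf 0x6)) (.nd (.lf 0x9) (.lf 0))) (.nd (.nd (.lf 0xb) (.lf 0)) (.nd (.lf 0x9) (.lf 0)))) (.nd (.nd (.nd (.lf 0x7) (.lf 0)) (.nd (.lf 0x7) (.lf 0))) (.nd (.nd (.lf 0xa) (.lf 0)) (.nd (.lf 0x6) (.lf 0)))))))
def depQ_nabbbab : Tr := (.nd (.nd (.nd (.nd (.nd (.nd (.lf 0x4) (.lf 0x6)) (.nd (.lf 0x9) (.lf 0))) (.nd (.nd (.lf 0x8) (.lf 0)) (.nd (.lf 0xa) (.lf 0)))) (.nd (.nd (.nd (.lf 0x7) (.lf 0)) (.nd (.lf 0xb) (.lf 0))) (.nd (.nd (.lf 0x9) (.lf 0)) (.nd (.lf 0xb) (.lf 0))))) (.nd (.nd (.nd (.nd (.lf 0x6) (.lf 0x8)) (.nd (.lf 0xb) (.lf 0))) (.nd (.nd (.lf 0x9) (.lf 0)) (.nd (.lf 0x9) (.lf 0)))) (.nd (.nd (.nd (.lf 0x6) (.lf 0)) (.nd (.lf 0x7) (.lf 0))) (.nd (.nd (.lf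 0x9) (.lf 0)) (.nd (.lf 0xa) (.lf 0)))))) (.nd (.nd (.nd (.nd (.nd (.lf 0x9) (.lf 0x9)) (.nd (.lf 0x9) (.lf 0))) (.nd (.nd (.lf 0xa) (.lf 0)) (.nd (.lf 0x6) (.lf 0)))) (.nd (.nd (.nd (.lf 0x9) (.lf 0)) (.nd (.lf 0x8) (.lf 0))) (.nd (.nd (.lf 0x9) (.lf 0)) (.nd (.lf 0x9) (.lf 0))))) (.nd (.nd (.nd (.nd (.lf 0xa) (.lf 0x6)) (.nd (.lf 0x5) (.lf 0))) (.nd (.nd (.lf 0x9) (.lf 0)) (.nd (.lf 0x7) (.lf 0)))) (.nd (.nd (.nd (.lf 0xb) (.lf 0)) (.nd (.lf 0xb) (.lf 0))) (.nd (.nd (.lf 0x8) (.lf 0)) (.nd (.lf 0x8) (.lf 0)))))))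
def depQ_nabbbba : Tr := (.nd (.nd (.nd (.nd (.nd (.nd (.lf 0x6) (.lf 0xa)) (.nd (.lf 0x5) (.lf 0))) (.nd (.nd (.lf 0x8) (.lf 0)) (.nd (.lf 0xa) (.lf 0)))) (.nd (.nd (.nd (.lf 0x8) (.lf 0)) (.nd (.lf 0x3) (.lf 0))) (.nd (.nd (.lf 0x3) (.lf 0)) (.nd (.lf 0x4) (.lf 0))))) (.nd (.nd (.nd (.nd (.lf 0x8) (.lf 0x6)) (.nd (.lf 0xb) (.lf 0))) (.nd (.nd (.lf 0x6) (.lf 0)) (.nd (.lf 0xb) (.lf 0)))) (.nd (.nd (.nd (.lf 0x8) (.lf 0)) (.nd (.lf 0x6) (.lf 0))) (.nd (.nd (.lf 0x9) (.lf 0)) (.nd (.lf 0x5) (.lf 0)))))) (.nd (.nd (.nd (.nd (.nd (.lf 0xa) (.lf 0x9)) (.nd (.lf 0x8) (.lf 0))) (.nd (.nd (.lf 0x5) (.lf 0)) (.nd (.lf 0x7) (.lf 0)))) (.nd (.nd (.nd (.lf 0xa) (.lf 0)) (.nd (.lf 0x5) (.lf 0))) (.nd (.nd (.lf 0x9) (.lf 0)) (.nd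 (.lf 0x9) (.lf 0))))) (.nd (.nd (.nd (.nd (.lf 0xb) (.lf 0x8)) (.nd (.lf 0x6) (.lf 0))) (.nd (.nd (.lf 0x8) (.lf 0)) (.nd (.lf 0x6) (.lf 0)))) (.nd (.nd (.nd (.lf 0x9) (.lf 0)) (.nd (.lf 0x3) (.lf 0))) (.nd (.nd (.lf 0x4) (.lf 0)) (.nd (.lf 0x9) (.lf 0)))))))
def depQ_nabbbbb : Tr := (.nd (.nd (.nd (.nd (.nd (.nd (.lf 0x6) (.lf 0x8)) (.nd (.lf 0x4) (.lf 0))) (.nd (.nd (.lf 0x8) (.lf 0)) (.nd (.lf 0xa) (.lf 0)))) (.nd (.nd (.nd (.lf 0x7) (.lf 0)) (.nd (.lf 0xb) (.lf 0))) (.nd (.nd (.lf 0x9) (.lf 0)) (.nd (.lf 0x9) (.lf 0))))) (.nd (.nd (.nd (.nd (.lf 0x8) (.lf 0xa)) (.nd (.lf 0x9) (.lf 0))) (.nd (.nd (.lf 0x5) (.lf 0)) (.nd (.lf 0xb) (.lf 0)))) (.nd (.nd (.nd (.lf 0xb) (.lf 0)) (.nd (.lf 0x3) (.lf 0))) (.nd (.nd (.lf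 0x3) (.lf 0)) (.nd (.lf 0x5) (.lf 0)))))) (.nd (.nd (.nd (.nd (.nd (.lf 0x8) (.lf 0x1)) (.nd (.lf 0x4) (.lf 0))) (.nd (.nd (.lf 0x8) (.lf 0)) (.nd (.lf 0x9) (.lf 0)))) (.nd (.nd (.nd (.lf 0x6) (.lf 0)) (.nd (.lf 0x4) (.lf 0))) (.nd (.nd (.lf 0x7) (.lf 0)) (.nd (.lf 0x8) (.lf 0))))) (.nd (.nd (.nd (.nd (.lf 0x2) (.lf 0x8)) (.nd (.lf 0xb) (.lf 0))) (.nd (.nd (.lf 0xc) (.lf 0)) (.nd (.lf 0x9) (.lf 0)))) (.nd (.nd (.nd (.lf 0x5) (.lf 0)) (.nd (.lf 0xa) (.lf 0))) (.nd (.nd (.lf 0x8) (.lf 0)) (.nd (.lf 0xb) (.lf 0)))))))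
def depQ_nbaaaaa : Tr := (.nd (.nd (.nd (.nd (.nd (.nd (.lf 0x0) (.lf 0x9)) (.nd (.lf 0x7) (.lf 0))) (.nd (.nd (.lf 0x6) (.lf 0)) (.nd (.lf 0x7) (.lf 0)))) (.nd (.nd (.nd (.lf 0x8) (.lf 0)) (.nd (.lf 0xb) (.lf 0))) (.nd (.nd (.lf 0x7) (.lf 0)) (.nd (.lf 0x9) (.lf 0))))) (.nd (.nd (.nd (.nd (.lf 0xb) (.lf 0x7)) (.nd (.lf 0x9) (.lf 0))) (.nd (.nd (.lf 0xa) (.lf 0)) (.nd (.lf 0xb) (.lf 0)))) (.nd (.nd (.nd (.lf 0x8) (.lf 0)) (.nd (.lf 0x8) (.lf 0))) (.nd (.nd (.lf 0x5) (.lf 0)) (.nd (.lf 0x8) (.lf 0)))))) (.nd (.nd (.nd (.nd (.nd (.lf 0xa) (.lf 0x9)) (.nd (.lf 0xa) (.lf 0))) (.nd (.nd (.lf 0x9) (.lf 0)) (.nd (.lf 0x9) (.lf 0)))) (.nd (.nd (.nd (.lf 0xa) (.lf 0)) (.nd (.lf 0x5) (.lf 0))) (.nd (.nd (.lf 0x6) (.lf 0)) (.nd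 (.lf 0xb) (.lf 0))))) (.nd (.nd (.nd (.nd (.lf 0x3) (.lf 0x7)) (.nd (.lf 0x9) (.lf 0))) (.nd (.nd (.lf 0x8) (.lf 0)) (.nd (.lf 0xb) (.lf 0)))) (.nd (.nd (.nd (.lf 0x4) (.lf 0)) (.nd (.lf 0x9) (.lf 0))) (.nd (.nd (.lf 0xa) (.lf 0)) (.nd (.lf 0x6) (.lf 0)))))))
def depQ_nbaaaab : Tr := (.nd (.nd (.nd (.nd (.nd (.nd (.lf 0x3) (.lf 0x6)) (.nd (.lf 0x8) (.lf 0))) (.nd (.nd (.lf 0x7) (.lf 0)) (.nd (.lf 0x3) (.lf 0)))) (.nd (.nd (.nd (.lf 0x8) (.lf 0)) (.nd (.lf 0xa) (.lf 0))) (.nd (.nd (.lf 0xc) (.lf 0)) (.nd (.lf 0x8) (.lf 0))))) (.nd (.nd (.nd (.nd (.lf 0xc) (.lf 0x8)) (.nd (.lf 0x5) (.lf 0))) (.nd (.nd (.lf 0xa) (.lf 0)) (.nd (.lf 0xc) (.lf 0)))) (.nd (.nd (.nd (.lf 0x9) (.lf 0)) (.nd (.lf 0x4) (.lf 0))) (.nd (.nd (.lf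 0x8) (.lf 0)) (.nd (.lf 0x8) (.lf 0)))))) (.nd (.nd (.nd (.nd (.nd (.lf 0xa) (.lf 0x8)) (.nd (.lf 0x7) (.lf 0))) (.nd (.nd (.lf 0x7) (.lf 0)) (.nd (.lf 0xa) (.lf 0)))) (.nd (.nd (.nd (.lf 0xa) (.lf 0)) (.nd (.lf 0x8) (.lf 0))) (.nd (.nd (.lf 0x7) (.lf 0)) (.nd (.lf 0x6) (.lf 0))))) (.nd (.nd (.nd (.nd (.lf 0xa) (.lf 0xa)) (.nd (.lf 0x6) (.lf 0))) (.nd (.nd (.lf 0xc) (.lf 0)) (.nd (.lf 0x9) (.lf 0)))) (.nd (.nd (.nd (.lf 0xa) (.lf 0)) (.nd (.lf 0xa) (.lf 0))) (.nd (.nd (.lf 0x5) (.lf 0)) (.nd (.lf 0x7) (.lf 0)))))))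
def depQ_nbaaaba : Tr := (.nd (.nd (.nd (.nd (.nd (.nd (.lf 0x3) (.lf 0xa)) (.nd (.lf 0x9) (.lf 0))) (.nd (.nd (.lf 0x6) (.lf 0)) (.nd (.lf 0x7) (.lf 0)))) (.nd (.nd (.nd (.lf 0xa) (.lf 0)) (.nd (.lf 0x7) (.lf 0))) (.nd (.nd (.lf 0x4) (.lf 0)) (.nd (.lf 0x9) (.lf 0))))) (.nd (.nd (.nd (.nd (.lf 0x8) (.lf 0x7)) (.nd (.lf 0x6) (.lf 0))) (.nd (.nd (.lf 0xa) (.lf 0)) (.nd (.lf 0x9) (.lf 0)))) (.nd (.nd (.nd (.lf 0x9) (.lf 0)) (.nd (.lf 0x5) (.lf 0))) (.nd (.nd (.lf 0xb) (.lf 0)) (.nd (.lf 0x6) (.lf 0)))))) (.nd (.nd (.nd (.nd (.nd (.lf 0x2) (.lf 0x6)) (.nd (.lf 0x6) (.lf 0))) (.nd (.nd (.lf 0xb) (.lf 0)) (.nd (.lf 0x9) (.lf 0)))) (.nd (.nd (.nd (.lf 0x8) (.lf 0)) (.nd (.lf 0x9) (.lf 0))) (.nd (.nd (.lf 0x9) (.lf 0)) (.nd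 (.lf 0x9) (.lf 0))))) (.nd (.nd (.nd (.nd (.lf 0x5) (.lf 0x5)) (.nd (.lf 0x8) (.lf 0))) (.nd (.nd (.lf 0x7) (.lf 0)) (.nd (.lf 0x8) (.lf 0)))) (.nd (.nd (.nd (.lf 0xa) (.lf 0)) (.nd (.lf 0x8) (.lf 0))) (.nd (.nd (.lf 0x9) (.lf 0)) (.nd (.lf 0xa) (.lf 0)))))))
def depQ_nbaaabb : Tr := (.nd (.nd (.nd (.nd (.nd (.nd (.lf 0xb) (.lf 0x2)) (.nd (.lf 0x8) (.lf 0))) (.nd (.nd (.lf 0x7) (.lf 0)) (.nd (.lf 0x7) (.lf 0)))) (.nd (.nd (.nd (.lf 0x8) (.lf 0)) (.nd (.lf 0x6) (.lf 0))) (.nd (.nd (.lf 0x8) (.lf 0)) (.nd (.lf 0x7) (.lf 0))))) (.nd (.nd (.nd (.nd (.lf 0x9) (.lf 0xc)) (.nd (.lf 0x8) (.lf 0))) (.nd (.nd (.lf 0x9) (.lf 0)) (.nd (.lf 0x4) (.lf 0)))) (.nd (.nd (.nd (.lf 0x7) (.lf 0)) (.nd (.lf 0x8) (.lf 0))) (.nd (.nd (.lf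 0xa) (.lf 0)) (.nd (.lf 0x8) (.lf 0)))))) (.nd (.nd (.nd (.nd (.nd (.lf 0xb) (.lf 0x7)) (.nd (.lf 0x7) (.lf 0))) (.nd (.nd (.lf 0xd) (.lf 0)) (.nd (.lf 0x6) (.lf 0)))) (.nd (.nd (.nd (.lf 0x7) (.lf 0)) (.nd (.lf 0x6) (.lf 0))) (.nd (.nd (.lf 0x9) (.lf 0)) (.nd (.lf 0x8) (.lf 0))))) (.nd (.nd (.nd (.nd (.lf 0xa) (.lf 0xb)) (.nd (.lf 0xa) (.lf 0))) (.nd (.nd (.lf 0x7) (.lf 0)) (.nd (.lf 0x9) (.lf 0)))) (.nd (.nd (.nd (.lf 0x5) (.lf 0)) (.nd (.lf 0x6) (.lf 0))) (.nd (.nd (.lf 0xa) (.lf 0)) (.nd (.lf 0x5) (.lf 0)))))))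
def depQ_nbaabaa : Tr := (.nd (.nd (.nd (.nd (.nd (.nd (.lf 0x7) (.lf 0x9)) (.nd (.lf 0x7) (.lf 0))) (.nd (.nd (.lf 0x7) (.lf 0)) (.nd (.lf 0x7) (.lf 0)))) (.nd (.nd (.nd (.lf 0x7) (.lf 0)) (.nd (.lf 0x9) (.lf 0))) (.nd (.nd (.lf 0x8) (.lf 0)) (.nd (.lf 0xa) (.lf 0))))) (.nd (.nd (.nd (.nd (.lf 0x8) (.lf 0x7)) (.nd (.lf 0xb) (.lf 0))) (.nd (.nd (.lf 0x3) (.lf 0)) (.nd (.lf 0x8) (.lf 0)))) (.nd (.nd (.nd (.lf 0x9) (.lf 0)) (.nd (.lf 0x7) (.lf 0))) (.nd (.nd (.lf 0x9) (.lf 0)) (.nd (.lf 0x8) (.lf 0)))))) (.nd (.nd (.nd (.nd (.nd (.lf 0xb) (.lf 0xa)) (.nd (.lf 0xa) (.lf 0))) (.nd (.nd (.lf 0x7) (.lf 0)) (.nd (.lf 0x8) (.lf 0)))) (.nd (.nd (.nd (.lf 0x4) (.lf 0)) (.nd (.lf 0xc) (.lf 0))) (.nd (.nd (.lf 0xb) (.lf 0)) (.nd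 (.lf 0x7) (.lf 0))))) (.nd (.nd (.nd (.nd (.lf 0x8) (.lf 0x9)) (.nd (.lf 0x9) (.lf 0))) (.nd (.nd (.lf 0x9) (.lf 0)) (.nd (.lf 0x7) (.lf 0)))) (.nd (.nd (.nd (.lf 0x9) (.lf 0)) (.nd (.lf 0x7) (.lf 0))) (.nd (.nd (.lf 0x8) (.lf 0)) (.nd (.lf 0x4) (.lf 0)))))))
def depQ_nbaabab : Tr := (.nd (.nd (.nd (.nd (.nd (.nd (.lf 0xa) (.lf 0x6)) (.nd (.lf 0xa) (.lf 0))) (.nd (.nd (.lf 0x9) (.lf 0)) (.nd (.lf 0xa) (.lf 0)))) (.nd (.nd (.nd (.lf 0xa) (.lf 0)) (.nd (.lf 0x7) (.lf 0))) (.nd (.nd (.lf 0xb) (.lf 0)) (.nd (.lf 0xc) (.lf 0))))) (.nd (.nd (.nd (.nd (.lf 0x7) (.lf 0x5)) (.nd (.lf 0xa) (.lf 0))) (.nd (.nd (.lf 0x8) (.lf 0)) (.nd (.lf 0x7) (.lf 0)))) (.nd (.nd (.nd (.lf 0xa) (.lf 0)) (.nd (.lf 0x8) (.lf 0))) (.nd (.nd (.lf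 0x8) (.lf 0)) (.nd (.lf 0x9) (.lf 0)))))) (.nd (.nd (.nd (.nd (.nd (.lf 0xb) (.lf 0xb)) (.nd (.lf 0x4) (.lf 0))) (.nd (.nd (.lf 0x8) (.lf 0)) (.nd (.lf 0xb) (.lf 0)))) (.nd (.nd (.nd (.lf 0x6) (.lf 0)) (.nd (.lf 0xa) (.lf 0))) (.nd (.nd (.lf 0x5) (.lf 0)) (.nd (.lf 0x6) (.lf 0))))) (.nd (.nd (.nd (.nd (.lf 0x8) (.lf 0x8)) (.nd (.lf 0x8) (.lf 0))) (.nd (.nd (.lf 0x5) (.lf 0)) (.nd (.lf 0x9) (.lf 0)))) (.nd (.nd (.nd (.lf 0x8) (.lf 0)) (.nd (.lf 0x8) (.lf 0))) (.nd (.nd (.lf 0x9) (.lf 0)) (.nd (.lf 0xa) (.lf 0)))))))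
def depQ_nbaabba : Tr := (.nd (.nd (.nd (.nd (.nd (.nd (.lf 0x4) (.lf 0x9)) (.nd (.lf 0x9) (.lf 0))) (.nd (.nd (.lf 0x8) (.lf 0)) (.nd (.lf 0x8) (.lf 0)))) (.nd (.nd (.nd (.lf 0xa) (.lf 0)) (.nd (.lf 0x8) (.lf 0))) (.nd (.nd (.lf 0xb) (.lf 0)) (.nd (.lf 0xa) (.lf 0))))) (.nd (.nd (.nd (.nd (.lf 0x7) (.lf 0x8)) (.nd (.lf 0x5) (.lf 0))) (.nd (.nd (.lf 0x9) (.lf 0)) (.nd (.lf 0x8) (.lf 0)))) (.nd (.nd (.nd (.lf 0xa) (.lf 0)) (.nd (.lf 0x9) (.lf 0))) (.nd (.nd (.lf 0x9) (.lf 0)) (.nd (.lf 0xa) (.lf 0)))))) (.nd (.nd (.nd (.nd (.nd (.lf 0x6) (.lf 0x9)) (.nd (.lf 0xc) (.lf 0))) (.nd (.nd (.lf 0x7) (.lf 0)) (.nd (.lf 0x9) (.lf 0)))) (.nd (.nd (.nd (.lf 0x9) (.lf 0)) (.nd (.lf 0x9) (.lf 0))) (.nd (.nd (.lf 0xb) (.lf 0)) (.nd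 (.lf 0x7) (.lf 0))))) (.nd (.nd (.nd (.nd (.lf 0x8) (.lf 0x8)) (.nd (.lf 0x6) (.lf 0))) (.nd (.nd (.lf 0x8) (.lf 0)) (.nd (.lf 0x7) (.lf 0)))) (.nd (.nd (.nd (.lf 0xb) (.lf 0)) (.nd (.lf 0xa) (.lf 0))) (.nd (.nd (.lf 0x7) (.lf 0)) (.nd (.lf 0x8) (.lf 0)))))))
def depQ_nbaabbb : Tr := (.nd (.nd (.nd (.nd (.nd (.nd (.lf 0x6) (.lf 0x9)) (.nd (.lf 0x8) (.lf 0))) (.nd (.nd (.lf 0xa) (.lf 0)) (.nd (.lf 0x8) (.lf 0)))) (.nd (.nd (.nd (.lf 0x6) (.lf 0)) (.nd (.lf 0x6) (.lf 0))) (.nd (.nd (.lf 0x7) (.lf 0)) (.nd (.lf 0x7) (.lf 0))))) (.nd (.nd (.nd (.nd (.lf 0x5) (.lf 0xd)) (.nd (.lf 0x9) (.lf 0))) (.nd (.nd (.lf 0x7) (.lf 0)) (.nd (.lf 0x9) (.lf 0)))) (.nd (.nd (.nd (.lf 0xa) (.lf 0)) (.nd (.lf 0xa) (.lf 0))) (.nd (.nd (.lf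 0x7) (.lf 0)) (.nd (.lf 0x7) (.lf 0)))))) (.nd (.nd (.nd (.nd (.nd (.lf 0x9) (.lf 0x4)) (.nd (.lf 0xa) (.lf 0))) (.nd (.nd (.lf 0x9) (.lf 0)) (.nd (.lf 0x9) (.lf 0)))) (.nd (.nd (.nd (.lf 0x9) (.lf 0)) (.nd (.lf 0x9) (.lf 0))) (.nd (.nd (.lf 0x6) (.lf 0)) (.nd (.lf 0x7) (.lf 0))))) (.nd (.nd (.nd (.nd (.lf 0x8) (.lf 0xa)) (.nd (.lf 0x7) (.lf 0))) (.nd (.nd (.lf 0x2) (.lf 0)) (.nd (.lf 0x9) (.lf 0)))) (.nd (.nd (.nd (.lf 0x5) (.lf 0)) (.nd (.lf 0x8) (.lf 0))) (.nd (.nd (.lf 0x7) (.lf 0)) (.nd (.lf 0x7) (.lf 0)))))))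
def depQ_nbabaaa : Tr := (.nd (.nd (.nd (.nd (.nd (.nd (.lf 0x0) (.lf 0xa)) (.nd (.lf 0x7) (.lf 0))) (.nd (.nd (.lf 0x6) (.lf 0)) (.nd (.lf 0x6) (.lf 0)))) (.nd (.nd (.nd (.lf 0x7) (.lf 0)) (.nd (.lf 0x7) (.lf 0))) (.nd (.nd (.lf 0x9) (.lf 0)) (.nd (.lf 0x8) (.lf 0))))) (.nd (.nd (.nd (.nd (.lf 0xb) (.lf 0x7)) (.nd (.lf 0x8) (.lf 0))) (.nd (.nd (.lf 0xc) (.lf 0)) (.nd (.lf 0xc) (.lf 0)))) (.nd (.nd (.nd (.lf 0xa) (.lf 0)) (.nd (.lf 0x6) (.lf 0))) (.nd (.nd (.lf 0x9) (.lf 0)) (.nd (.lf 0x6) (.lf 0)))))) (.nd (.nd (.nd (.nd (.nd (.lf 0x9) (.lf 0x1)) (.nd (.lf 0x7) (.lf 0))) (.nd (.nd (.lf 0xb) (.lf 0)) (.nd (.lf 0x9) (.lf 0)))) (.nd (.nd (.nd (.lf 0x9) (.lf 0)) (.nd (.lf 0x7) (.lf 0))) (.nd (.nd (.lf 0xa) (.lf 0)) (.nd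 (.lf 0x9) (.lf 0))))) (.nd (.nd (.nd (.nd (.lf 0x7) (.lf 0xa)) (.nd (.lf 0xa) (.lf 0))) (.nd (.nd (.lf 0x8) (.lf 0)) (.nd (.lf 0x3) (.lf 0)))) (.nd (.nd (.nd (.lf 0x4) (.lf 0)) (.nd (.lf 0x6) (.lf 0))) (.nd (.nd (.lf 0x8) (.lf 0)) (.nd (.lf 0xa) (.lf 0)))))))
def depQ_nbabaab : Tr := (.nd (.nd (.nd (.nd (.nd (.nd (.lf 0x8) (.lf 0x4)) (.nd (.lf 0xb) (.lf 0))) (.nd (.nd (.lf 0xa) (.lf 0)) (.nd (.lf 0x7) (.lf 0)))) (.nd (.nd (.nd (.lf 0x7) (.lf 0)) (.nd (.lf 0x8) (.lf 0))) (.nd (.nd (.lf 0x2) (.lf 0)) (.nd (.lf 0x6) (.lf 0))))) (.nd (.nd (.nd (.nd (.lf 0xb) (.lf 0x5)) (.nd (.lf 0x6) (.lf 0))) (.nd (.nd (.lf 0x7) (.lf 0)) (.nd (.lf 0x8) (.lf 0)))) (.nd (.nd (.nd (.lf 0xa) (.lf 0)) (.nd (.lf 0xa) (.lf 0))) (.nd (.nd (.lf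 0x7) (.lf 0)) (.nd (.lf 0xb) (.lf 0)))))) (.nd (.nd (.nd (.nd (.nd (.lf 0x9) (.lf 0xb)) (.nd (.lf 0x6) (.lf 0))) (.nd (.nd (.lf 0x7) (.lf 0)) (.nd (.lf 0x9) (.lf 0)))) (.nd (.nd (.nd (.lf 0x9) (.lf 0)) (.nd (.lf 0x8) (.lf 0))) (.nd (.nd (.lf 0x8) (.lf 0)) (.nd (.lf 0x8) (.lf 0))))) (.nd (.nd (.nd (.nd (.lf 0xb) (.lf 0x9)) (.nd (.lf 0x8) (.lf 0))) (.nd (.nd (.lf 0x8) (.lf 0)) (.nd (.lf 0x9) (.lf 0)))) (.nd (.nd (.nd (.lf 0x3) (.lf 0)) (.nd (.lf 0x8) (.lf 0))) (.nd (.nd (.lf 0x9) (.lf 0)) (.nd (.lf 0x9) (.lf 0)))))))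
def depQ_nbababa : Tr := (.nd (.nd (.nd (.nd (.nd (.nd (.lf 0xa) (.lf 0x9)) (.nd (.lf 0x3) (.lf 0))) (.nd (.nd (.lf 0x8) (.lf 0)) (.nd (.lf 0x7) (.lf 0)))) (.nd (.nd (.nd (.lf 0xa) (.lf 0)) (.nd (.lf 0x5) (.lf 0))) (.nd (.nd (.lf 0x8) (.lf 0)) (.nd (.lf 0x5) (.lf 0))))) (.nd (.nd (.nd (.nd (.lf 0xb) (.lf 0x9)) (.nd (.lf 0x6) (.lf 0))) (.nd (.nd (.lf 0x8) (.lf 0)) (.nd (.lf 0x6) (.lf 0)))) (.nd (.nd (.nd (.lf 0xb) (.lf 0)) (.nd (.lf 0x7) (.lf 0))) (.nd (.nd (.lf 0x9) (.lf 0)) (.nd (.lf 0x8) (.lf 0)))))) (.nd (.nd (.nd (.nd (.nd (.lf 0x7) (.lf 0xa)) (.nd (.lf 0x9) (.lf 0))) (.nd (.nd (.lf 0x7) (.lf 0)) (.nd (.lf 0x7) (.lf 0)))) (.nd (.nd (.nd (.lf 0xb) (.lf 0)) (.nd (.lf 0x8) (.lf 0))) (.nd (.nd (.lf 0x9) (.lf 0)) (.nd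 (.lf 0x7) (.lf 0))))) (.nd (.nd (.nd (.nd (.lf 0x8) (.lf 0x8)) (.nd (.lf 0x8) (.lf 0))) (.nd (.nd (.lf 0x4) (.lf 0)) (.nd (.lf 0x9) (.lf 0)))) (.nd (.nd (.nd (.lf 0x6) (.lf 0)) (.nd (.lf 0x8) (.lf 0))) (.nd (.nd (.lf 0x8) (.lf 0)) (.nd (.lf 0x7) (.lf 0)))))))
def depQ_nbababb : Tr := (.nd (.nd (.nd (.nd (.nd (.nd (.lf 0x8) (.lf 0xa)) (.nd (.lf 0x9) (.lf 0))) (.nd (.nd (.lf 0xa) (.lf 0)) (.nd (.lf 0x8) (.lf 0)))) (.nd (.nd (.nd (.lf 0x8) (.lf 0)) (.nd (.lf 0x7) (.lf 0))) (.nd (.nd (.lf 0x8) (.lf 0)) (.nd (.lf 0xb) (.lf 0))))) (.nd (.nd (.nd (.nd (.lf 0x8) (.lf 0x8)) (.nd (.lf 0x7) (.lf 0))) (.nd (.nd (.lf 0x6) (.lf 0)) (.nd (.lf 0xa) (.lf 0)))) (.nd (.nd (.nd (.lf 0x9) (.lf 0)) (.nd (.lf 0x9) (.lf 0))) (.nd (.nd (.lf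 0x7) (.lf 0)) (.nd (.lf 0x8) (.lf 0)))))) (.nd (.nd (.nd (.nd (.nd (.lf 0x7) (.lf 0xa)) (.nd (.lf 0x4) (.lf 0))) (.nd (.nd (.lf 0xc) (.lf 0)) (.nd (.lf 0xa) (.lf 0)))) (.nd (.nd (.nd (.lf 0x5) (.lf 0)) (.nd (.lf 0x5) (.lf 0))) (.nd (.nd (.lf 0x8) (.lf 0)) (.nd (.lf 0x7) (.lf 0))))) (.nd (.nd (.nd (.nd (.lf 0xa) (.lf 0x9)) (.nd (.lf 0x9) (.lf 0))) (.nd (.nd (.lf 0x5) (.lf 0)) (.nd (.lf 0x9) (.lf 0)))) (.nd (.nd (.nd (.lf 0x3) (.lf 0)) (.nd (.lf 0x8) (.lf 0))) (.nd (.nd (.lf 0x9) (.lf 0)) (.nd (.lf 0x7) (.lf 0)))))))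
def depQ_nbabbaa : Tr := (.nd (.nd (.nd (.nd (.nd (.nd (.lf 0x8) (.lf 0x6)) (.nd (.lf 0xb) (.lf 0))) (.nd (.nd (.lf 0x7) (.lf 0)) (.nd (.lf 0xc) (.lf 0)))) (.nd (.nd (.nd (.lf 0x7) (.lf 0)) (.nd (.lf 0x3) (.lf 0))) (.nd (.nd (.lf 0x5) (.lf 0)) (.nd (.lf 0x4) (.lf 0))))) (.nd (.nd (.nd (.nd (.lf 0x7) (.lf 0x7)) (.nd (.lf 0x8) (.lf 0))) (.nd (.nd (.lf 0x9) (.lf 0)) (.nd (.lf 0x7) (.lf 0)))) (.nd (.nd (.nd (.lf 0x8) (.lf 0)) (.nd (.lf 0x8) (.lf 0))) (.nd (.nd (.lf 0x8) (.lf 0)) (.nd (.lf 0x5) (.lf 0)))))) (.nd (.nd (.nd (.nd (.nd (.lf 0xb) (.lf 0x8)) (.nd (.lf 0x5) (.lf 0))) (.nd (.nd (.lf 0x9) (.lf 0)) (.nd (.lf 0xa) (.lf 0)))) (.nd (.nd (.nd (.lf 0xb) (.lf 0)) (.nd (.lf 0x5) (.lf 0))) (.nd (.nd (.lf 0x9) (.lf 0)) (.nd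 (.lf 0xb) (.lf 0))))) (.nd (.nd (.nd (.nd (.lf 0xb) (.lf 0x9)) (.nd (.lf 0x8) (.lf 0))) (.nd (.nd (.lf 0x5) (.lf 0)) (.nd (.lf 0x9) (.lf 0)))) (.nd (.nd (.nd (.lf 0x7) (.lf 0)) (.nd (.lf 0xc) (.lf 0))) (.nd (.nd (.lf 0x7) (.lf 0)) (.nd (.lf 0x8) (.lf 0)))))))
def depQ_nbabbab : Tr := (.nd (.nd (.nd (.nd (.nd (.nd (.lf 0x8) (.lf 0x5)) (.nd (.lf 0x4) (.lf 0))) (.nd (.nd (.lf 0x7) (.lf 0)) (.nd (.lf 0x9) (.lf 0)))) (.nd (.nd (.nd (.lf 0x7) (.lf 0)) (.nd (.lf 0x7) (.lf 0))) (.nd (.nd (.lf 0x5) (.lf 0)) (.nd (.lf 0x5) (.lf 0))))) (.nd (.nd (.nd (.nd (.lf 0x5) (.lf 0xc)) (.nd (.lf 0xb) (.lf 0))) (.nd (.nd (.lf 0x6) (.lf 0)) (.nd (.lf 0x7) (.lf 0)))) (.nd (.nd (.nd (.lf 0x6) (.lf 0)) (.nd (.lf 0x5) (.lf 0))) (.nd (.nd (.lf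 0x5) (.lf 0)) (.nd (.lf 0xb) (.lf 0)))))) (.nd (.nd (.nd (.nd (.nd (.lf 0x7) (.lf 0xa)) (.nd (.lf 0x9) (.lf 0))) (.nd (.nd (.lf 0x9) (.lf 0)) (.nd (.lf 0x7) (.lf 0)))) (.nd (.nd (.nd (.lf 0xa) (.lf 0)) (.nd (.lf 0xa) (.lf 0))) (.nd (.nd (.lf 0x8) (.lf 0)) (.nd (.lf 0x8) (.lf 0))))) (.nd (.nd (.nd (.nd (.lf 0x6) (.lf 0x9)) (.nd (.lf 0xa) (.lf 0))) (.nd (.nd (.lf 0xa) (.lf 0)) (.nd (.lf 0x6) (.lf 0)))) (.nd (.nd (.nd (.lf 0x8) (.lf 0)) (.nd (.lf 0xa) (.lf 0))) (.nd (.nd (.lf 0x8) (.lf 0)) (.nd (.lf 0xa) (.lf 0)))))))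
def depQ_nbabbba : Tr := (.nd (.nd (.nd (.nd (.nd (.nd (.lf 0x7) (.lf 0x8)) (.nd (.lf 0x3) (.lf 0))) (.nd (.nd (.lf 0x6) (.lf 0)) (.nd (.lf 0x7) (.lf 0)))) (.nd (.nd (.nd (.lf 0x7) (.lf 0)) (.nd (.lf 0x8) (.lf 0))) (.nd (.nd (.lf 0xc) (.lf 0)) (.nd (.lf 0xc) (.lf 0))))) (.nd (.nd (.nd (.nd (.lf 0xb) (.lf 0x9)) (.nd (.lf 0xc) (.lf 0))) (.nd (.nd (.lf 0x7) (.lf 0)) (.nd (.lf 0x8) (.lf 0)))) (.nd (.nd (.nd (.lf 0xb) (.lf 0)) (.nd (.lf 0x7) (.lf 0))) (.nd (.nd (.lf 0x9) (.lf 0)) (.nd (.lf 0xa) (.lf 0)))))) (.nd (.nd (.nd (.nd (.nd (.lf 0x7) (.lf 0x9)) (.nd (.lf 0x4) (.lf 0))) (.nd (.nd (.lf 0x7) (.lf 0)) (.nd (.lf 0xb) (.lf 0)))) (.nd (.nd (.nd (.lf 0x8) (.lf 0)) (.nd (.lf 0xa) (.lf 0))) (.nd (.nd (.lf 0x8) (.lf 0)) (.nd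 (.lf 0x6) (.lf 0))))) (.nd (.nd (.nd (.nd (.lf 0x8) (.lf 0x6)) (.nd (.lf 0x7) (.lf 0))) (.nd (.nd (.lf 0x6) (.lf 0)) (.nd (.lf 0x7) (.lf 0)))) (.nd (.nd (.nd (.lf 0xa) (.lf 0)) (.nd (.lf 0x8) (.lf 0))) (.nd (.nd (.lf 0x9) (.lf 0)) (.nd (.lf 0xa) (.lf 0)))))))
def depQ_nbabbbb : Tr := (.nd (.nd (.nd (.nd (.nd (.nd (.lf 0x9) (.lf 0x9)) (.nd (.lf 0xa) (.lf 0))) (.nd (.nd (.lf 0xb) (.lf 0)) (.nd (.lf 0x6) (.lf 0)))) (.nd (.nd (.nd (.lf 0xb) (.lf 0)) (.nd (.lf 0x8) (.lf 0))) (.nd (.nd (.lf 0x7) (.lf 0)) (.nd (.lf 0x9) (.lf 0))))) (.nd (.nd (.nd (.nd (.lf 0x9) (.lf 0xb)) (.nd (.lf 0x4) (.lf 0))) (.nd (.nd (.lf 0x9) (.lf 0)) (.nd (.lf 0x7) (.lf 0)))) (.nd (.nd (.nd (.lf 0xc) (.lf 0)) (.nd (.lf 0xc) (.lf 0))) (.nd (.nd (.lf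 0x9) (.lf 0)) (.nd (.lf 0x8) (.lf 0)))))) (.nd (.nd (.nd (.nd (.nd (.lf 0xb) (.lf 0xb)) (.nd (.lf 0xa) (.lf 0))) (.nd (.nd (.lf 0xc) (.lf 0)) (.nd (.lf 0x9) (.lf 0)))) (.nd (.nd (.nd (.lf 0x9) (.lf 0)) (.nd (.lf 0x7) (.lf 0))) (.nd (.nd (.lf 0x7) (.lf 0)) (.nd (.lf 0xa) (.lf 0))))) (.nd (.nd (.nd (.nd (.lf 0xa) (.lf 0xa)) (.nd (.lf 0xa) (.lf 0))) (.nd (.nd (.lf 0xb) (.lf 0)) (.nd (.lf 0x6) (.lf 0)))) (.nd (.nd (.nd (.lf 0x4) (.lf 0)) (.nd (.lf 0x7) (.lf 0))) (.nd (.nd (.lf 0x9) (.lf 0)) (.nd (.lf 0x8) (.lf 0)))))))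
def depQ_nbbaaaa : Tr := (.nd (.nd (.nd (.nd (.nd (.nd (.lf 0x0) (.lf 0x8)) (.nd (.lf 0x8) (.lf 0))) (.nd (.nd (.lf 0xa) (.lf 0)) (.nd (.lf 0x5) (.lf 0)))) (.nd (.nd (.nd (.lf 0x9) (.lf 0)) (.nd (.lf 0x9) (.lf 0))) (.nd (.nd (.lf 0x8) (.lf 0)) (.nd (.lf 0xa) (.lf 0))))) (.nd (.nd (.nd (.nd (.lf 0x9) (.lf 0x5)) (.nd (.lf 0x8) (.lf 0))) (.nd (.nd (.lf 0x6) (.lf 0)) (.nd (.lf 0x9) (.lf 0)))) (.nd (.nd (.nd (.lf 0x9) (.lf 0)) (.nd (.lf 0x6) (.lf 0))) (.nd (.nd (.lf 0xa) (.lf 0)) (.nd (.lf 0x6) (.lf 0)))))) (.nd (.nd (.nd (.nd (.nd (.lf 0xa) (.lf 0x4)) (.nd (.lf 0x6) (.lf 0))) (.nd (.nd (.lf 0x7) (.lf 0)) (.nd (.lf 0x3) (.lf 0)))) (.nd (.nd (.nd (.lf 0x8) (.lf 0)) (.nd (.lf 0x4) (.lf 0))) (.nd (.nd (.lf 0x8) (.lf 0)) (.nd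 (.lf 0x9) (.lf 0))))) (.nd (.nd (.nd (.nd (.lf 0x6) (.lf 0x6)) (.nd (.lf 0x8) (.lf 0))) (.nd (.nd (.lf 0x1) (.lf 0)) (.nd (.lf 0xc) (.lf 0)))) (.nd (.nd (.nd (.lf 0xa) (.lf 0)) (.nd (.lf 0xa) (.lf 0))) (.nd (.nd (.lf 0xb) (.lf 0)) (.nd (.lf 0x8) (.lf 0)))))))
def depQ_nbbaaab : Tr := (.nd (.nd (.nd (.nd (.nd (.nd (.lf 0x8) (.lf 0xa)) (.nd (.lf 0x8) (.lf 0))) (.nd (.nd (.lf 0xa) (.lf 0)) (.nd (.lf 0x7) (.lf 0)))) (.nd (.nd (.nd (.lf 0xb) (.lf 0)) (.nd (.lf 0xa) (.lf 0))) (.nd (.nd (.lf 0x8) (.lf 0)) (.nd (.lf 0x7) (.lf 0))))) (.nd (.nd (.nd (.nd (.lf 0xa) (.lf 0x8)) (.nd (.lf 0x6) (.lf 0))) (.nd (.nd (.lf 0x9) (.lf 0)) (.nd (.lf 0x7) (.lf 0)))) (.nd (.nd (.nd (.lf 0x6) (.lf 0)) (.nd (.lf 0xa) (.lf 0))) (.nd (.nd (.lf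 0xc) (.lf 0)) (.nd (.lf 0xc) (.lf 0)))))) (.nd (.nd (.nd (.nd (.nd (.lf 0x9) (.lf 0x8)) (.nd (.lf 0x5) (.lf 0))) (.nd (.nd (.lf 0xa) (.lf 0)) (.nd (.lf 0x8) (.lf 0)))) (.nd (.nd (.nd (.lf 0x7) (.lf 0)) (.nd (.lf 0x8) (.lf 0))) (.nd (.nd (.lf 0xa) (.lf 0)) (.nd (.lf 0xb) (.lf 0))))) (.nd (.nd (.nd (.nd (.lf 0x7) (.lf 0xc)) (.nd (.lf 0x9) (.lf 0))) (.nd (.nd (.lf 0xb) (.lf 0)) (.nd (.lf 0x8) (.lf 0)))) (.nd (.nd (.nd (.lf 0x9) (.lf 0)) (.nd (.lf 0xb) (.lf 0))) (.nd (.nd (.lf 0x8) (.lf 0)) (.nd (.lf 0x6) (.lf 0)))))))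
def depQ_nbbaaba : Tr := (.nd (.nd (.nd (.nd (.nd (.nd (.lf 0xa) (.lf 0xc)) (.nd (.lf 0x9) (.lf 0))) (.nd (.nd (.lf 0x6) (.lf 0)) (.nd (.lf 0xa) (.lf 0)))) (.nd (.nd (.nd (.lf 0x7) (.lf 0)) (.nd (.lf 0x7) (.lf 0))) (.nd (.nd (.lf 0xa) (.lf 0)) (.nd (.lf 0xb) (.lf 0))))) (.nd (.nd (.nd (.nd (.lf 0x5) (.lf 0x8)) (.nd (.lf 0xb) (.lf 0))) (.nd (.nd (.lf 0xa) (.lf 0)) (.nd (.lf 0xa) (.lf 0)))) (.nd (.nd (.nd (.lf 0x9) (.lf 0)) (.nd (.lf 0x7) (.lf 0))) (.nd (.nd (.lf 0xb) (.lf 0)) (.nd (.lf 0xb) (.lf 0)))))) (.nd (.nd (.nd (.nd (.nd (.lf 0xa) (.lf 0x6)) (.nd (.lf 0x2) (.lf 0))) (.nd (.nd (.lf 0x7) (.lf 0)) (.nd (.lf 0xa) (.lf 0)))) (.nd (.nd (.nd (.lf 0xb) (.lf 0)) (.nd (.lf 0x9) (.lf 0))) (.nd (.nd (.lf 0x6) (.lf 0)) (.nd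 (.lf 0x8) (.lf 0))))) (.nd (.nd (.nd (.nd (.lf 0x6) (.lf 0x8)) (.nd (.lf 0x4) (.lf 0))) (.nd (.nd (.lf 0x5) (.lf 0)) (.nd (.lf 0x9) (.lf 0)))) (.nd (.nd (.nd (.lf 0x6) (.lf 0)) (.nd (.lf 0x4) (.lf 0))) (.nd (.nd (.lf 0x6) (.lf 0)) (.nd (.lf 0x8) (.lf 0)))))))
def depQ_nbbaabb : Tr := (.nd (.nd (.nd (.nd (.nd (.nd (.lf 0x4) (.lf 0x8)) (.nd (.lf 0xa) (.lf 0))) (.nd (.nd (.lf 0x7) (.lf 0)) (.nd (.lf 0x9) (.lf 0)))) (.nd (.nd (.nd (.lf 0x8) (.lf 0)) (.nd (.lf 0x7) (.lf 0))) (.nd (.nd (.lf 0x8) (.lf 0)) (.nd (.lf 0x8) (.lf 0))))) (.nd (.nd (.nd (.nd (.lf 0xc) (.lf 0x5)) (.nd (.lf 0xa) (.lf 0))) (.nd (.nd (.lf 0x4) (.lf 0)) (.nd (.lf 0x7) (.lf 0)))) (.nd (.nd (.nd (.lf 0x7) (.lf 0)) (.nd (.lf 0x6) (.lf 0))) (.nd (.nd (.lf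 0xb) (.lf 0)) (.nd (.lf 0x8) (.lf 0)))))) (.nd (.nd (.nd (.nd (.nd (.lf 0x7) (.lf 0x8)) (.nd (.lf 0x9) (.lf 0))) (.nd (.nd (.lf 0x4) (.lf 0)) (.nd (.lf 0x6) (.lf 0)))) (.nd (.nd (.nd (.lf 0x5) (.lf 0)) (.nd (.lf 0x7) (.lf 0))) (.nd (.nd (.lf 0x6) (.lf 0)) (.nd (.lf 0xa) (.lf 0))))) (.nd (.nd (.nd (.nd (.lf 0xa) (.lf 0x8)) (.nd (.lf 0x8) (.lf 0))) (.nd (.nd (.lf 0x7) (.lf 0)) (.nd (.lf 0xa) (.lf 0)))) (.nd (.nd (.nd (.lf 0x4) (.lf 0)) (.nd (.lf 0xb) (.lf 0))) (.nd (.nd (.lf 0x7) (.lf 0)) (.nd (.lf 0x7) (.lf 0)))))))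
def depQ_nbbabaa : Tr := (.nd (.nd (.nd (.nd (.nd (.nd (.lf 0x9) (.lf 0x8)) (.nd (.lf 0x5) (.lf 0))) (.nd (.nd (.lf 0xb) (.lf 0)) (.nd (.lf 0x7) (.lf 0)))) (.nd (.nd (.nd (.lf 0x7) (.lf 0)) (.nd (.lf 0x8) (.lf 0))) (.nd (.nd (.lf 0xa) (.lf 0)) (.nd (.lf 0x7) (.lf 0))))) (.nd (.nd (.nd (.nd (.lf 0x7) (.lf 0x6)) (.nd (.lf 0x7) (.lf 0))) (.nd (.nd (.lf 0xa) (.lf 0)) (.nd (.lf 0xa) (.lf 0)))) (.nd (.nd (.nd (.lf 0x8) (.lf 0)) (.nd (.lf 0xa) (.lf 0))) (.nd (.nd (.lf 0x6) (.lf 0)) (.nd (.lf 0x8) (.lf 0)))))) (.nd (.nd (.nd (.nd (.nd (.lf 0xb) (.lf 0x4)) (.nd (.lf 0x9) (.lf 0))) (.nd (.nd (.lf 0x7) (.lf 0)) (.nd (.lf 0x7) (.lf 0)))) (.nd (.nd (.nd (.lf 0x9) (.lf 0)) (.nd (.lf 0x8) (.lf 0))) (.nd (.nd (.lf 0x9) (.lf 0)) (.nd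 (.lf 0x8) (.lf 0))))) (.nd (.nd (.nd (.nd (.lf 0x8) (.lf 0x8)) (.nd (.lf 0xa) (.lf 0))) (.nd (.nd (.lf 0xa) (.lf 0)) (.nd (.lf 0x5) (.lf 0)))) (.nd (.nd (.nd (.lf 0x8) (.lf 0)) (.nd (.lf 0xc) (.lf 0))) (.nd (.nd (.lf 0x9) (.lf 0)) (.nd (.lf 0x9) (.lf 0)))))))
def depQ_nbbabab : Tr := (.nd (.nd (.nd (.nd (.nd (.nd (.lf 0x8) (.lf 0x8)) (.nd (.lf 0xa) (.lf 0))) (.nd (.nd (.lf 0x7) (.lf 0)) (.nd (.lf 0x9) (.lf 0)))) (.nd (.nd (.nd (.lf 0x8) (.lf 0)) (.nd (.lf 0x9) (.lf 0))) (.nd (.nd (.lf 0xa) (.lf 0)) (.nd (.lf 0x9) (.lf 0))))) (.nd (.nd (.nd (.nd (.lf 0x8) (.lf 0x6)) (.nd (.lf 0x8) (.lf 0))) (.nd (.nd (.lf 0x7) (.lf 0)) (.nd (.lf 0x9) (.lf 0)))) (.nd (.nd (.nd (.lf 0x8) (.lf 0)) (.nd (.lf 0x8) (.lf 0))) (.nd (.nd (.lf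 0x9) (.lf 0)) (.nd (.lf 0x7) (.lf 0)))))) (.nd (.nd (.nd (.nd (.nd (.lf 0x2) (.lf 0x9)) (.nd (.lf 0x7) (.lf 0))) (.nd (.nd (.lf 0xa) (.lf 0)) (.nd (.lf 0xa) (.lf 0)))) (.nd (.nd (.nd (.lf 0x6) (.lf 0)) (.nd (.lf 0x7) (.lf 0))) (.nd (.nd (.lf 0x7) (.lf 0)) (.nd (.lf 0x9) (.lf 0))))) (.nd (.nd (.nd (.nd (.lf 0xa) (.lf 0x8)) (.nd (.lf 0x6) (.lf 0))) (.nd (.nd (.lf 0x9) (.lf 0)) (.nd (.lf 0xc) (.lf 0)))) (.nd (.nd (.nd (.lf 0x2) (.lf 0)) (.nd (.lf 0x8) (.lf 0))) (.nd (.nd (.lf 0x4) (.lf 0)) (.nd (.lf 0xb) (.lf 0)))))))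
def depQ_nbbabba : Tr := (.nd (.nd (.nd (.nd (.nd (.nd (.lf 0x4) (.lf 0xa)) (.nd (.lf 0x7) (.lf 0))) (.nd (.nd (.lf 0x4) (.lf 0)) (.nd (.lf 0x8) (.lf 0)))) (.nd (.nd (.nd (.lf 0x8) (.lf 0)) (.nd (.lf 0xa) (.lf 0))) (.nd (.nd (.lf 0x5) (.lf 0)) (.nd (.lf 0x9) (.lf 0))))) (.nd (.nd (.nd (.nd (.lf 0xc) (.lf 0x1)) (.nd (.lf 0xa) (.lf 0))) (.nd (.nd (.lf 0x8) (.lf 0)) (.nd (.lf 0xa) (.lf 0)))) (.nd (.nd (.nd (.lf 0x8) (.lf 0)) (.nd (.lf 0x9) (.lf 0))) (.nd (.nd (.lf 0xa) (.lf 0)) (.nd (.lf 0xa) (.lf 0)))))) (.nd (.nd (.nd (.nd (.nd (.lf 0x9) (.lf 0x9)) (.nd (.lf 0x9) (.lf 0))) (.nd (.nd (.lf 0x7) (.lf 0)) (.nd (.lf 0x4) (.lf 0)))) (.nd (.nd (.nd (.lf 0xa) (.lf 0)) (.nd (.lf 0x7) (.lf 0))) (.nd (.nd (.lf 0x8) (.lf 0)) (.nd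 (.lf 0x6) (.lf 0))))) (.nd (.nd (.nd (.nd (.lf 0x8) (.lf 0x5)) (.nd (.lf 0xb) (.lf 0))) (.nd (.nd (.lf 0xa) (.lf 0)) (.nd (.lf 0xc) (.lf 0)))) (.nd (.nd (.nd (.lf 0x7) (.lf 0)) (.nd (.lf 0x4) (.lf 0))) (.nd (.nd (.lf 0xc) (.lf 0)) (.nd (.lf 0x6) (.lf 0)))))))
def depQ_nbbabbb : Tr := (.nd (.nd (.nd (.nd (.nd (.nd (.lf 0x6) (.lf 0x3)) (.nd (.lf 0x7) (.lf 0))) (.nd (.nd (.lf 0x6) (.lf 0)) (.nd (.lf 0x8) (.lf 0)))) (.nd (.nd (.nd (.lf 0x8) (.lf 0)) (.nd (.lf 0x8) (.lf 0))) (.nd (.nd (.lf 0x8) (.lf 0)) (.nd (.lf 0xa) (.lf 0))))) (.nd (.nd (.nd (.nd (.lf 0x9) (.lf 0x5)) (.nd (.lf 0x8) (.lf 0))) (.nd (.nd (.lf 0xa) (.lf 0)) (.nd (.lf 0x8) (.lf 0)))) (.nd (.nd (.nd (.lf 0xa) (.lf 0)) (.nd (.lf 0x8) (.lf 0))) (.nd (.nd (.lf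 0x9) (.lf 0)) (.nd (.lf 0x7) (.lf 0)))))) (.nd (.nd (.nd (.nd (.nd (.lf 0x7) (.lf 0x9)) (.nd (.lf 0xd) (.lf 0))) (.nd (.nd (.lf 0x5) (.lf 0)) (.nd (.lf 0x9) (.lf 0)))) (.nd (.nd (.nd (.lf 0x8) (.lf 0)) (.nd (.lf 0x7) (.lf 0))) (.nd (.nd (.lf 0x4) (.lf 0)) (.nd (.lf 0x9) (.lf 0))))) (.nd (.nd (.nd (.nd (.lf 0x3) (.lf 0x7)) (.nd (.lf 0x4) (.lf 0))) (.nd (.nd (.lf 0x8) (.lf 0)) (.nd (.lf 0x7) (.lf 0)))) (.nd (.nd (.nd (.lf 0x4) (.lf 0)) (.nd (.lf 0x7) (.lf 0))) (.nd (.nd (.lf 0x7) (.lf 0)) (.nd (.lf 0x6) (.lf 0)))))))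
def depQ_nbbbaaa : Tr := (.nd (.nd (.nd (.nd (.nd (.nd (.lf 0x0) (.lf 0x5)) (.nd (.lf 0x5) (.lf 0))) (.nd (.nd (.lf 0xb) (.lf 0)) (.nd (.lf 0x6) (.lf 0)))) (.nd (.nd (.nd (.lf 0x1) (.lf 0)) (.nd (.lf 0x2) (.lf 0))) (.nd (.nd (.lf 0x7) (.lf 0)) (.nd (.lf 0xa) (.lf 0))))) (.nd (.nd (.nd (.nd (.lf 0xb) (.lf 0xa)) (.nd (.lf 0x6) (.lf 0))) (.nd (.nd (.lf 0x9) (.lf 0)) (.nd (.lf 0xc) (.lf 0)))) (.nd (.nd (.nd (.lf 0x3) (.lf 0)) (.nd (.lf 0x6) (.lf 0))) (.nd (.nd (.lf 0xb) (.lf 0)) (.nd (.lf 0x8) (.lf 0)))))) (.nd (.nd (.nd (.nd (.nd (.lf 0x8) (.lf 0xa)) (.nd (.lf 0x9) (.lf 0))) (.nd (.nd (.lf 0x7) (.lf 0)) (.nd (.lf 0x8) (.lf 0)))) (.nd (.nd (.nd (.lf 0xc) (.lf 0)) (.nd (.lf 0x9) (.lf 0))) (.nd (.nd (.lf 0x9) (.lf 0)) (.nd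 (.lf 0x6) (.lf 0))))) (.nd (.nd (.nd (.nd (.lf 0xc) (.lf 0x9)) (.nd (.lf 0x5) (.lf 0))) (.nd (.nd (.lf 0xd) (.lf 0)) (.nd (.lf 0x8) (.lf 0)))) (.nd (.nd (.nd (.lf 0x8) (.lf 0)) (.nd (.lf 0x8) (.lf 0))) (.nd (.nd (.lf 0x9) (.lf 0)) (.nd (.lf 0x6) (.lf 0)))))))
def depQ_nbbbaab : Tr := (.nd (.nd (.nd (.nd (.nd (.nd (.lf 0x7) (.lf 0x7)) (.nd (.lf 0xa) (.lf 0))) (.nd (.nd (.lf 0x8) (.lf 0)) (.nd (.lf 0xb) (.lf 0)))) (.nd (.nd (.nd (.lf 0x9) (.lf 0)) (.nd (.lf 0x6) (.lf 0))) (.nd (.nd (.lf 0xb) (.lf 0)) (.nd (.lf 0x9) (.lf 0))))) (.nd (.nd (.nd (.nd (.lf 0x9) (.lf 0x7)) (.nd (.lf 0x7) (.lf 0))) (.nd (.nd (.lf 0xa) (.lf 0)) (.nd (.lf 0x9) (.lf 0)))) (.nd (.nd (.nd (.lf 0xa) (.lf 0)) (.nd (.lf 0x2) (.lf 0))) (.nd (.nd (.lf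 0x9) (.lf 0)) (.nd (.lf 0xc) (.lf 0)))))) (.nd (.nd (.nd (.nd (.nd (.lf 0x8) (.lf 0x7)) (.nd (.lf 0x5) (.lf 0))) (.nd (.nd (.lf 0xa) (.lf 0)) (.nd (.lf 0xb) (.lf 0)))) (.nd (.nd (.nd (.lf 0xa) (.lf 0)) (.nd (.lf 0x9) (.lf 0))) (.nd (.nd (.lf 0x7) (.lf 0)) (.nd (.lf 0x7) (.lf 0))))) (.nd (.nd (.nd (.nd (.lf 0xa) (.lf 0x6)) (.nd (.lf 0x9) (.lf 0))) (.nd (.nd (.lf 0x6) (.lf 0)) (.nd (.lf 0xa) (.lf 0)))) (.nd (.nd (.nd (.lf 0xb) (.lf 0)) (.nd (.lf 0x8) (.lf 0))) (.nd (.nd (.lf 0xa) (.lf 0)) (.nd (.lf 0xb) (.lf 0)))))))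
def depQ_nbbbaba : Tr := (.nd (.nd (.nd (.nd (.nd (.nd (.lf 0x7) (.lf 0x8)) (.nd (.lf 0x8) (.lf 0))) (.nd (.nd (.lf 0x6) (.lf 0)) (.nd (.lf 0x8) (.lf 0)))) (.nd (.nd (.nd (.lf 0x9) (.lf 0)) (.nd (.lf 0x7) (.lf 0))) (.nd (.nd (.lf 0x7) (.lf 0)) (.nd (.lf 0xd) (.lf 0))))) (.nd (.nd (.nd (.nd (.lf 0x9) (.lf 0x6)) (.nd (.lf 0x7) (.lf 0))) (.nd (.nd (.lf 0x6) (.lf 0)) (.nd (.lf 0x2) (.lf 0)))) (.nd (.nd (.nd (.lf 0x9) (.lf 0)) (.nd (.lf 0x7) (.lf 0))) (.nd (.nd (.lf 0xa) (.lf 0)) (.nd (.lf 0x8) (.lf 0)))))) (.nd (.nd (.nd (.nd (.nd (.lf 0x8) (.lf 0x6)) (.nd (.lf 0x9) (.lf 0))) (.nd (.nd (.lf 0x8) (.lf 0)) (.nd (.lf 0x6) (.lf 0)))) (.nd (.nd (.nd (.lf 0x9) (.lf 0)) (.nd (.lf 0x7) (.lf 0))) (.nd (.nd (.lf 0x8) (.lf 0)) (.nd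 (.lf 0x6) (.lf 0))))) (.nd (.nd (.nd (.nd (.lf 0xb) (.lf 0x6)) (.nd (.lf 0x2) (.lf 0))) (.nd (.nd (.lf 0x5) (.lf 0)) (.nd (.lf 0x4) (.lf 0)))) (.nd (.nd (.nd (.lf 0xb) (.lf 0)) (.nd (.lf 0x4) (.lf 0))) (.nd (.nd (.lf 0xb) (.lf 0)) (.nd (.lf 0x6) (.lf 0)))))))
def depQ_nbbbabb : Tr := (.nd (.nd (.nd (.nd (.nd (.nd (.lf 0x9) (.lf 0x9)) (.nd (.lf 0x7) (.lf 0))) (.nd (.nd (.lf 0x8) (.lf 0)) (.nd (.lf 0x8) (.lf 0)))) (.nd (.nd (.nd (.lf 0xc) (.lf 0)) (.nd (.lf 0x1) (.lf 0))) (.nd (.nd (.lf 0x9) (.lf 0)) (.nd (.lf 0x5) (.lf 0))))) (.nd (.nd (.nd (.nd (.lf 0x8) (.lf 0x7)) (.nd (.lf 0x8) (.lf 0))) (.nd (.nd (.lf 0xb) (.lf 0)) (.nd (.lf 0x4) (.lf 0)))) (.nd (.nd (.nd (.lf 0x5) (.lf 0)) (.nd (.lf 0x9) (.lf 0))) (.nd (.nd (.lf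 0xa) (.lf 0)) (.nd (.lf 0xb) (.lf 0)))))) (.nd (.nd (.nd (.nd (.nd (.lf 0x7) (.lf 0x9)) (.nd (.lf 0x4) (.lf 0))) (.nd (.nd (.lf 0x8) (.lf 0)) (.nd (.lf 0x4) (.lf 0)))) (.nd (.nd (.nd (.lf 0x6) (.lf 0)) (.nd (.lf 0xb) (.lf 0))) (.nd (.nd (.lf 0x8) (.lf 0)) (.nd (.lf 0xb) (.lf 0))))) (.nd (.nd (.nd (.nd (.lf 0x8) (.lf 0xa)) (.nd (.lf 0x6) (.lf 0))) (.nd (.nd (.lf 0x9) (.lf 0)) (.nd (.lf 0xb) (.lf 0)))) (.nd (.nd (.nd (.lf 0x8) (.lf 0)) (.nd (.lf 0x5) (.lf 0))) (.nd (.nd (.lf 0x8) (.lf 0)) (.nd (.lf 0x8) (.lf 0)))))))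
def depQ_nbbbbaa : Tr := (.nd (.nd (.nd (.nd (.nd (.nd (.lf 0xb) (.lf 0x8)) (.nd (.lf 0x5) (.lf 0))) (.nd (.nd (.lf 0x5) (.lf 0)) (.nd (.lf 0x9) (.lf 0)))) (.nd (.nd (.nd (.lf 0x4) (.lf 0)) (.nd (.lf 0x8) (.lf 0))) (.nd (.nd (.lf 0x7) (.lf 0)) (.nd (.lf 0x9) (.lf 0))))) (.nd (.nd (.nd (.nd (.lf 0x7) (.lf 0x7)) (.nd (.lf 0x8) (.lf 0))) (.nd (.nd (.lf 0x6) (.lf 0)) (.nd (.lf 0xb) (.lf 0)))) (.nd (.nd (.nd (.lf 0x9) (.lf 0)) (.nd (.lf 0x7) (.lf 0))) (.nd (.nd (.lf 0x8) (.lf 0)) (.nd (.lf 0x9) (.lf 0)))))) (.nd (.nd (.nd (.nd (.nd (.lf 0xb) (.lf 0xa)) (.nd (.lf 0xa) (.lf 0))) (.nd (.nd (.lf 0xc) (.lf 0)) (.nd (.lf 0x4) (.lf 0)))) (.nd (.nd (.nd (.lf 0x1) (.lf 0)) (.nd (.lf 0x6) (.lf 0))) (.nd (.nd (.lf 0x4) (.lf 0)) (.nd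 (.lf 0x9) (.lf 0))))) (.nd (.nd (.nd (.nd (.lf 0x8) (.lf 0x8)) (.nd (.lf 0x8) (.lf 0))) (.nd (.nd (.lf 0x7) (.lf 0)) (.nd (.lf 0x7) (.lf 0)))) (.nd (.nd (.nd (.lf 0x8) (.lf 0)) (.nd (.lf 0x9) (.lf 0))) (.nd (.nd (.lf 0xa) (.lf 0)) (.nd (.lf 0x6) (.lf 0)))))))
def depQ_nbbbbab : Tr := (.nd (.nd (.nd (.nd (.nd (.nd (.lf 0x9) (.lf 0x8)) (.nd (.lf 0xb) (.lf 0))) (.nd (.nd (.lf 0xa) (.lf 0)) (.nd (.lf 0x4) (.lf 0)))) (.nd (.nd (.nd (.lf 0x9) (.lf 0)) (.nd (.lf 0x2) (.lf 0))) (.nd (.nd (.lf 0x6) (.lf 0)) (.nd (.lf 0x5) (.lf 0))))) (.nd (.nd (.nd (.nd (.lf 0x9) (.lf 0x6)) (.nd (.lf 0x3) (.lf 0))) (.nd (.nd (.lf 0xa) (.lf 0)) (.nd (.lf 0xb) (.lf 0)))) (.nd (.nd (.nd (.lf 0x5) (.lf 0)) (.nd (.lf 0x8) (.lf 0))) (.nd (.nd (.lf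 0xb) (.lf 0)) (.nd (.lf 0x7) (.lf 0)))))) (.nd (.nd (.nd (.nd (.nd (.lf 0x6) (.lf 0x4)) (.nd (.lf 0xa) (.lf 0))) (.nd (.nd (.lf 0x7) (.lf 0)) (.nd (.lf 0xb) (.lf 0)))) (.nd (.nd (.nd (.lf 0x5) (.lf 0)) (.nd (.lf 0x5) (.lf 0))) (.nd (.nd (.lf 0x7) (.lf 0)) (.nd (.lf 0xa) (.lf 0))))) (.nd (.nd (.nd (.nd (.lf 0x8) (.lf 0x6)) (.nd (.lf 0xa) (.lf 0))) (.nd (.nd (.lf 0xb) (.lf 0)) (.nd (.lf 0x8) (.lf 0)))) (.nd (.nd (.nd (.lf 0x9) (.lf 0)) (.nd (.lf 0xa) (.lf 0))) (.nd (.nd (.lf 0x2) (.lf 0)) (.nd (.lf 0x7) (.lf 0)))))))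
def depQ_nbbbbba : Tr := (.nd (.nd (.nd (.nd (.nd (.nd (.lf 0x8) (.lf 0x7)) (.nd (.lf 0x9) (.lf 0))) (.nd (.nd (.lf 0x6) (.lf 0)) (.nd (.lf 0xc) (.lf 0)))) (.nd (.nd (.nd (.lf 0x8) (.lf 0)) (.nd (.lf 0x3) (.lf 0))) (.nd (.nd (.lf 0xd) (.lf 0)) (.nd (.lf 0x8) (.lf 0))))) (.nd (.nd (.nd (.nd (.lf 0x9) (.lf 0x7)) (.nd (.lf 0xb) (.lf 0))) (.nd (.nd (.lf 0xa) (.lf 0)) (.nd (.lf 0x8) (.lf 0)))) (.nd (.nd (.nd (.lf 0x8) (.lf 0)) (.nd (.lf 0x5) (.lf 0))) (.nd (.nd (.lf 0x8) (.lf 0)) (.nd (.lf 0x4) (.lf 0)))))) (.nd (.nd (.nd (.nd (.nd (.lf 0xa) (.lf 0xa)) (.nd (.lf 0x2) (.lf 0))) (.nd (.nd (.lf 0x9) (.lf 0)) (.nd (.lf 0x1) (.lf 0)))) (.nd (.nd (.nd (.lf 0x7) (.lf 0)) (.nd (.lf 0x9) (.lf 0))) (.nd (.nd (.lf 0x6) (.lf 0)) (.nd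 (.lf 0xd) (.lf 0))))) (.nd (.nd (.nd (.nd (.lf 0x9) (.lf 0x6)) (.nd (.lf 0x6) (.lf 0))) (.nd (.nd (.lf 0x8) (.lf 0)) (.nd (.lf 0x8) (.lf 0)))) (.nd (.nd (.nd (.lf 0x8) (.lf 0)) (.nd (.lf 0x4) (.lf 0))) (.nd (.nd (.lf 0x8) (.lf 0)) (.nd (.lf 0x3) (.lf 0)))))))
def depQ_nbbbbbb : Tr := (.nd (.nd (.nd (.nd (.nd (.nd (.lf 0x5) (.lf 0x3)) (.nd (.lf 0xc) (.lf 0))) (.nd (.nd (.lf 0xa) (.lf 0)) (.nd (.lf 0x8) (.lf 0)))) (.nd (.nd (.nd (.lf 0xb) (.lf 0)) (.nd (.lf 0xa) (.lf 0))) (.nd (.nd (.lf 0x9) (.lf 0)) (.nd (.lf 0x6) (.lf 0))))) (.nd (.nd (.nd (.nd (.lf 0x8) (.lf 0x7)) (.nd (.lf 0x8) (.lf 0))) (.nd (.nd (.lf 0x8) (.lf 0)) (.nd (.lf 0x9) (.lf 0)))) (.nd (.nd (.nd (.lf 0x6) (.lf 0)) (.nd (.lf 0x8) (.lf 0))) (.nd (.nd (.lf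 0x9) (.lf 0)) (.nd (.lf 0x9) (.lf 0)))))) (.nd (.nd (.nd (.nd (.nd (.lf 0x8) (.lf 0xb)) (.nd (.lf 0x5) (.lf 0))) (.nd (.nd (.lf 0x7) (.lf 0)) (.nd (.lf 0x3) (.lf 0)))) (.nd (.nd (.nd (.lf 0xa) (.lf 0)) (.nd (.lf 0x8) (.lf 0))) (.nd (.nd (.lf 0x8) (.lf 0)) (.nd (.lf 0x6) (.lf 0))))) (.nd (.nd (.nd (.nd (.lf 0x7) (.lf 0x8)) (.nd (.lf 0x7) (.lf 0))) (.nd (.nd (.lf 0x9) (.lf 0)) (.nd (.lf 0x9) (.lf 0)))) (.nd (.nd (.nd (.lf 0x8) (.lf 0)) (.nd (.lf 0x9) (.lf 0))) (.nd (.nd (.lf 0x7) (.lf 0)) (.nd (.lf 0x6) (.lf 0)))))))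
def depQ : Tr := (.nd (.nd (.nd (.nd (.nd (.nd depQ_naaaaaa depQ_naaaaab) (.nd depQ_naaaaba depQ_naaaabb)) (.nd (.nd depQ_naaabaa depQ_naaabab) (.nd depQ_naaabba depQ_naaabbb))) (.nd (.nd (.nd depQ_naabaaa depQ_naabaab) (.nd depQ_naababa depQ_naababb)) (.nd (.nd depQ_naabbaa depQ_naabbab) (.nd depQ_naabbba depQ_naabbbb)))) (.nd (.nd (.nd (.nd depQ_nabaaaa depQ_nabaaab) (.nd depQ_nabaaba depQ_nabaabb)) (.nd (.nd depQ_nababaa depQ_nababab) (.nd depQ_nababba depQ_nababbb))) (.nd (.nd (.nd depQ_nabbaaa depQ_nabbaab) (.nd depQ_nabbaba depQ_nabbabb)) (.nd (.nd depQ_nabbbaa depQ_nabbbab) (.nd depQ_nabbbba depQ_nabbbbb))))) (.nd (.nd (.nd (.nd (.nd depQ_nbaaaaa depQ_nbaaaab) (.nd depQ_nbaaaba depQ_nbaaabb)) (.nd (.nd depQ_nbaabaa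 depQ_nbaabab) (.nd depQ_nbaabba depQ_nbaabbb))) (.nd (.nd (.nd depQ_nbabaaa depQ_nbabaab) (.nd depQ_nbababa depQ_nbababb)) (.nd (.nd depQ_nbabbaa depQ_nbabbab) (.nd depQ_nbabbba depQ_nbabbbb)))) (.nd (.nd (.nd (.nd depQ_nbbaaaa depQ_nbbaaab) (.nd depQ_nbbaaba depQ_nbbaabb)) (.nd (.nd depQ_nbbabaa depQ_nbbabab) (.nd depQ_nbbabba depQ_nbbabbb))) (.nd (.nd (.nd depQ_nbbbaaa depQ_nbbbaab) (.nd depQ_nbbbaba depQ_nbbbabb)) (.nd (.nd depQ_nbbbbaa depQ_nbbbbab) (.nd depQ_nbbbbba depQ_nbbbbbb))))))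
def phQ_naaaaaa : Tr := (.nd (.nd (.nd (.nd (.nd (.nd (.lf 0x0) (.lf 0x1087)) (.nd (.lf 0x1723) (.lf 0))) (.nd (.nd (.lf 0x102c) (.lf 0)) (.nd (.lf 0x187a) (.lf 0)))) (.nd (.nd (.nd (.lf 0x10) (.lf 0)) (.nd (.lf 0x1710) (.lf 0))) (.nd (.nd (.lf 0x11) (.lf 0)) (.nd (.lf 0x1078) (.lf 0))))) (.nd (.nd (.nd (.nd (.lf 0x1433) (.lf 0x5c8)) (.nd (.lf 0x846) (.lf 0))) (.nd (.nd (.lf 0x1407) (.lf 0)) (.nd (.lf 0x136c) (.lf 0)))) (.nd (.nd (.nd (.lf 0x169c) (.lf 0)) (.nd (.lf 0x112d) (.lf 0))) (.nd (.nd (.lf 0x70c) (.lf 0)) (.nd (.lf 0x5d4) (.lf 0)))))) (.nd (.nd (.nd (.nd (.nd (.lf 0x1318) (.lf 0x1391)) (.nd (.lf 0x1144) (.lf 0))) (.nd (.nd (.lf 0x189f) (.lf 0)) (.nd (.lf 0x15d8) (.lf 0)))) (.nd (.nd (.nd (.lf 0x1105) (.lf 0))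 (.nd (.lf 0x719) (.lf 0))) (.nd (.nd (.lf 0x7f6) (.lf 0)) (.nd (.lf 0x89e) (.lf 0))))) (.nd (.nd (.nd (.nd (.lf 0x6a3) (.lf 0x42a)) (.nd (.lf 0x45d) (.lf 0))) (.nd (.nd (.lf 0x392) (.lf 0)) (.nd (.lf 0x858) (.lf 0)))) (.nd (.nd (.nd (.lf 0x75a) (.lf 0)) (.nd (.lf 0x2f9) (.lf 0))) (.nd (.nd (.lf 0x18bd) (.lf 0)) (.nd (.lf 0x1697) (.lf 0)))))))
def phQ_naaaaab : Tr := (.nd (.nd (.nd (.nd (.nd (.nd (.lf 0x16da) (.lf 0x162a)) (.nd (.lf 0x631) (.lf 0))) (.nd (.nd (.lf 0x587) (.lf 0)) (.nd (.lf 0x1283) (.lf 0)))) (.nd (.nd (.nd (.lf 0x15be) (.lf 0)) (.nd (.lf 0x72f) (.lf 0))) (.nd (.nd (.lf 0x660) (.lf 0)) (.nd (.lf 0x8a5) (.lf 0))))) (.nd (.nd (.nd (.nd (.lf 0x1d5) (.lf 0x748)) (.nd (.lf 0x1322) (.lf 0))) (.nd (.nd (.lf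 0x845) (.lf 0)) (.nd (.lf 0x3f5) (.lf 0)))) (.nd (.nd (.nd (.lf 0x14f4) (.lf 0)) (.nd (.lf 0x8bb) (.lf 0))) (.nd (.nd (.lf 0x1265) (.lf 0)) (.nd (.lf 0x15ba) (.lf 0)))))) (.nd (.nd (.nd (.nd (.nd (.lf 0x1747) (.lf 0x674)) (.nd (.lf 0x704) (.lf 0))) (.nd (.nd (.lf 0x16a2) (.lf 0)) (.nd (.lf 0x25c) (.lf 0)))) (.nd (.nd (.nd (.lf 0x16ac) (.lf 0)) (.nd (.lf 0x167) (.lf 0))) (.nd (.nd (.lf 0x1c6) (.lf 0)) (.nd (.lf 0x16ec) (.lf 0))))) (.nd (.nd (.nd (.nd (.lf 0x58c) (.lf 0x1b2)) (.nd (.lf 0x3be) (.lf 0))) (.nd (.nd (.lf 0x12b6) (.lf 0)) (.nd (.lf 0x156c) (.lf 0)))) (.nd (.nd (.nd (.lf 0x13be) (.lf 0)) (.nd (.lf 0x467) (.lf 0))) (.nd (.nd (.lf 0x408) (.lf 0)) (.nd (.lf 0x237) (.lf 0)))))))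
def phQ_naaaaba : Tr := (.nd (.nd (.nd (.nd (.nd (.nd (.lf 0x1cc) (.lf 0x13a)) (.nd (.lf 0x1811) (.lf 0))) (.nd (.nd (.lf 0x1706) (.lf 0)) (.nd (.lf 0x17c6) (.lf 0)))) (.nd (.nd (.nd (.lf 0x1404) (.lf 0)) (.nd (.lf 0x1e7) (.lf 0))) (.nd (.nd (.lf 0x14c6) (.lf 0)) (.nd (.lf 0x101b) (.lf 0))))) (.nd (.nd (.nd (.nd (.lf 0x5a7) (.lf 0x13b4)) (.nd (.lf 0x7c8) (.lf 0))) (.nd (.nd (.lf 0x111d) (.lf 0)) (.nd (.lf 0x1826) (.lf 0)))) (.nd (.nd (.nd (.lf 0x259) (.lf 0)) (.nd (.lf 0x261) (.lf 0))) (.nd (.nd (.lf 0x82) (.lf 0)) (.nd (.lf 0x7d7) (.lf 0)))))) (.nd (.nd (.nd (.nd (.nd (.lf 0x79e) (.lf 0x10ef)) (.nd (.lf 0x1179) (.lf 0))) (.nd (.nd (.lf 0x29e) (.lf 0)) (.nd (.lf 0x1899) (.lf 0)))) (.nd (.nd (.nd (.lf 0x744) (.lf 0))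 (.nd (.lf 0xf3) (.lf 0))) (.nd (.nd (.lf 0x8d4) (.lf 0)) (.nd (.lf 0x788) (.lf 0))))) (.nd (.nd (.nd (.nd (.lf 0x16cc) (.lf 0x10b4)) (.nd (.lf 0x850) (.lf 0))) (.nd (.nd (.lf 0x86c) (.lf 0)) (.nd (.lf 0x8d9) (.lf 0)))) (.nd (.nd (.nd (.lf 0x5cc) (.lf 0)) (.nd (.lf 0x55e) (.lf 0))) (.nd (.nd (.lf 0x4f2) (.lf 0)) (.nd (.lf 0x13c9) (.lf 0)))))))
def phQ_naaaabb : Tr := (.nd (.nd (.nd (.nd (.nd (.nd (.lf 0x7cf) (.lf 0x135a)) (.nd (.lf 0x11cf) (.lf 0))) (.nd (.nd (.lf 0xfa) (.lf 0)) (.nd (.lf 0x6ae) (.lf 0)))) (.nd (.nd (.nd (.lf 0x600) (.lf 0)) (.nd (.lf 0x10bd) (.lf 0))) (.nd (.nd (.lf 0x21b) (.lf 0)) (.nd (.lf 0x1064) (.lf 0))))) (.nd (.nd (.nd (.nd (.lf 0x12f6) (.lf 0x12ef)) (.nd (.lf 0x59c) (.lf 0))) (.nd (.nd (.lf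 0x1432) (.lf 0)) (.nd (.lf 0x13cd) (.lf 0)))) (.nd (.nd (.nd (.lf 0x17fe) (.lf 0)) (.nd (.lf 0x13d9) (.lf 0))) (.nd (.nd (.lf 0x4f0) (.lf 0)) (.nd (.lf 0x6ab) (.lf 0)))))) (.nd (.nd (.nd (.nd (.nd (.lf 0x6af) (.lf 0x103b)) (.nd (.lf 0x6f6) (.lf 0))) (.nd (.nd (.lf 0x22) (.lf 0)) (.nd (.lf 0x10a) (.lf 0)))) (.nd (.nd (.nd (.lf 0x47d) (.lf 0)) (.nd (.lf 0x1320) (.lf 0))) (.nd (.nd (.lf 0x10f) (.lf 0)) (.nd (.lf 0x2a9) (.lf 0))))) (.nd (.nd (.nd (.nd (.lf 0x4e7) (.lf 0x4c0)) (.nd (.lf 0x1af) (.lf 0))) (.nd (.nd (.lf 0x170b) (.lf 0)) (.nd (.lf 0x436) (.lf 0)))) (.nd (.nd (.nd (.lf 0x879) (.lf 0)) (.nd (.lf 0x192) (.lf 0))) (.nd (.nd (.lf 0x53b) (.lf 0)) (.nd (.lf 0x105d) (.lf 0)))))))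
def phQ_naaabaa : Tr := (.nd (.nd (.nd (.nd (.nd (.nd (.lf 0x13ec) (.lf 0x602)) (.nd (.lf 0x2f1) (.lf 0))) (.nd (.nd (.lf 0x671) (.lf 0)) (.nd (.lf 0x1157) (.lf 0)))) (.nd (.nd (.nd (.lf 0x143d) (.lf 0)) (.nd (.lf 0x1557) (.lf 0))) (.nd (.nd (.lf 0x11ab) (.lf 0)) (.nd (.lf 0x515) (.lf 0))))) (.nd (.nd (.nd (.nd (.lf 0x8d7) (.lf 0x6fd)) (.nd (.lf 0x1370) (.lf 0))) (.nd (.nd (.lf 0x17bc) (.lf 0)) (.nd (.lf 0x1574) (.lf 0)))) (.nd (.nd (.nd (.lf 0x77c) (.lf 0)) (.nd (.lf 0x1600) (.lf 0))) (.nd (.nd (.lf 0x492) (.lf 0)) (.nd (.lf 0xf2) (.lf 0)))))) (.nd (.nd (.nd (.nd (.nd (.lf 0x16c) (.lf 0x155e)) (.nd (.lf 0x6d5) (.lf 0))) (.nd (.nd (.lf 0x8fe) (.lf 0)) (.nd (.lf 0x6c4) (.lf 0)))) (.nd (.nd (.nd (.lf 0x1339) (.lf 0))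 (.nd (.lf 0x562) (.lf 0))) (.nd (.nd (.lf 0x3fd) (.lf 0)) (.nd (.lf 0x16b1) (.lf 0))))) (.nd (.nd (.nd (.nd (.lf 0x8b) (.lf 0x11f3)) (.nd (.lf 0x15b5) (.lf 0))) (.nd (.nd (.lf 0x109) (.lf 0)) (.nd (.lf 0x158a) (.lf 0)))) (.nd (.nd (.nd (.lf 0x306) (.lf 0)) (.nd (.lf 0x722) (.lf 0))) (.nd (.nd (.lf 0x65) (.lf 0)) (.nd (.lf 0x120f) (.lf 0)))))))
def phQ_naaabab : Tr := (.nd (.nd (.nd (.nd (.nd (.nd (.lf 0x160) (.lf 0x7c4)) (.nd (.lf 0x129c) (.lf 0))) (.nd (.nd (.lf 0x888) (.lf 0)) (.nd (.lf 0x699) (.lf 0)))) (.nd (.nd (.nd (.lf 0x4f1) (.lf 0)) (.nd (.lf 0x135b) (.lf 0))) (.nd (.nd (.lf 0x37a) (.lf 0)) (.nd (.lf 0x6e6) (.lf 0))))) (.nd (.nd (.nd (.nd (.lf 0x73a) (.lf 0x7fb)) (.nd (.lf 0x15eb) (.lf 0))) (.nd (.nd (.lf 0x39f)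 (.lf 0)) (.nd (.lf 0x79f) (.lf 0)))) (.nd (.nd (.nd (.lf 0x6f3) (.lf 0)) (.nd (.lf 0x1686) (.lf 0))) (.nd (.nd (.lf 0x1806) (.lf 0)) (.nd (.lf 0x1212) (.lf 0)))))) (.nd (.nd (.nd (.nd (.nd (.lf 0x111e) (.lf 0x1335)) (.nd (.lf 0x1ab) (.lf 0))) (.nd (.nd (.lf 0x17c8) (.lf 0)) (.nd (.lf 0x181f) (.lf 0)))) (.nd (.nd (.nd (.lf 0x17af) (.lf 0)) (.nd (.lf 0x1760) (.lf 0))) (.nd (.nd (.lf 0x71e) (.lf 0)) (.nd (.lf 0x3f2) (.lf 0))))) (.nd (.nd (.nd (.nd (.lf 0x1057) (.lf 0x126e)) (.nd (.lf 0x737) (.lf 0))) (.nd (.nd (.lf 0x2d4) (.lf 0)) (.nd (.lf 0x3ba) (.lf 0)))) (.nd (.nd (.nd (.lf 0x1526) (.lf 0)) (.nd (.lf 0xf9) (.lf 0))) (.nd (.nd (.lf 0x138f) (.lf 0)) (.nd (.lf 0x171e) (.lf 0)))))))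
def phQ_naaabba : Tr := (.nd (.nd (.nd (.nd (.nd (.nd (.lf 0x16a3) (.lf 0x1418)) (.nd (.lf 0x1469) (.lf 0))) (.nd (.nd (.lf 0x117a) (.lf 0)) (.nd (.lf 0x4e0) (.lf 0)))) (.nd (.nd (.nd (.lf 0x11c3) (.lf 0)) (.nd (.lf 0x268) (.lf 0))) (.nd (.nd (.lf 0x8b4) (.lf 0)) (.nd (.lf 0x20a) (.lf 0))))) (.nd (.nd (.nd (.nd (.lf 0x53f) (.lf 0x2a2)) (.nd (.lf 0x151c) (.lf 0))) (.nd (.nd (.lf 0x1882) (.lf 0)) (.nd (.lf 0x6b6) (.lf 0)))) (.nd (.nd (.nd (.lf 0x505) (.lf 0)) (.nd (.lf 0x6f2) (.lf 0))) (.nd (.nd (.lf 0x104a) (.lf 0)) (.nd (.lf 0x8b8) (.lf 0)))))) (.nd (.nd (.nd (.nd (.nd (.lf 0x559) (.lf 0x1306)) (.nd (.lf 0x133d) (.lf 0))) (.nd (.nd (.lf 0xa6) (.lf 0)) (.nd (.lf 0x16d9) (.lf 0)))) (.nd (.nd (.nd (.lf 0x17fb) (.lf 0))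 (.nd (.lf 0x487) (.lf 0))) (.nd (.nd (.lf 0x14b8) (.lf 0)) (.nd (.lf 0x10ae) (.lf 0))))) (.nd (.nd (.nd (.nd (.lf 0x14ce) (.lf 0x1658)) (.nd (.lf 0x6b5) (.lf 0))) (.nd (.nd (.lf 0x1738) (.lf 0)) (.nd (.lf 0x3d0) (.lf 0)))) (.nd (.nd (.nd (.lf 0x80d) (.lf 0)) (.nd (.lf 0x15f1) (.lf 0))) (.nd (.nd (.lf 0x50b) (.lf 0)) (.nd (.lf 0x8a7) (.lf 0)))))))
def phQ_naaabbb : Tr := (.nd (.nd (.nd (.nd (.nd (.nd (.lf 0x81d) (.lf 0x75b)) (.nd (.lf 0x1160) (.lf 0))) (.nd (.nd (.lf 0x209) (.lf 0)) (.nd (.lf 0x56c) (.lf 0)))) (.nd (.nd (.nd (.lf 0x1542) (.lf 0)) (.nd (.lf 0x8aa) (.lf 0))) (.nd (.nd (.lf 0xa9) (.lf 0)) (.nd (.lf 0x7c) (.lf 0))))) (.nd (.nd (.nd (.nd (.lf 0x1304) (.lf 0x556)) (.nd (.lf 0x668) (.lf 0))) (.nd (.nd (.lf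 0x1722) (.lf 0)) (.nd (.lf 0x38) (.lf 0)))) (.nd (.nd (.nd (.lf 0x134d) (.lf 0)) (.nd (.lf 0x17d5) (.lf 0))) (.nd (.nd (.lf 0x1396) (.lf 0)) (.nd (.lf 0x1dd) (.lf 0)))))) (.nd (.nd (.nd (.nd (.nd (.lf 0x301) (.lf 0x181d)) (.nd (.lf 0x1035) (.lf 0))) (.nd (.nd (.lf 0x8d6) (.lf 0)) (.nd (.lf 0x17b7) (.lf 0)))) (.nd (.nd (.nd (.lf 0x5e0) (.lf 0)) (.nd (.lf 0x320) (.lf 0))) (.nd (.nd (.lf 0x3f4) (.lf 0)) (.nd (.lf 0x159a) (.lf 0))))) (.nd (.nd (.nd (.nd (.lf 0x7fe) (.lf 0x8b2)) (.nd (.lf 0x1e9) (.lf 0))) (.nd (.nd (.lf 0x1121) (.lf 0)) (.nd (.lf 0x144c) (.lf 0)))) (.nd (.nd (.nd (.lf 0x128f) (.lf 0)) (.nd (.lf 0x1440) (.lf 0))) (.nd (.nd (.lf 0x15a5) (.lf 0)) (.nd (.lf 0x664) (.lf 0)))))))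
def phQ_naabaaa : Tr := (.nd (.nd (.nd (.nd (.nd (.nd (.lf 0x0) (.lf 0x1115)) (.nd (.lf 0x8f) (.lf 0))) (.nd (.nd (.lf 0x7dc) (.lf 0)) (.nd (.lf 0x656) (.lf 0)))) (.nd (.nd (.nd (.lf 0x124a) (.lf 0)) (.nd (.lf 0x12da) (.lf 0))) (.nd (.nd (.lf 0x586) (.lf 0)) (.nd (.lf 0x147f) (.lf 0))))) (.nd (.nd (.nd (.nd (.lf 0x6d4) (.lf 0x42)) (.nd (.lf 0x12d6) (.lf 0))) (.nd (.nd (.lf 0x1879) (.lf 0)) (.nd (.lf 0x11eb) (.lf 0)))) (.nd (.nd (.nd (.lf 0x144e) (.lf 0)) (.nd (.lf 0x659) (.lf 0))) (.nd (.nd (.lf 0x136f) (.lf 0)) (.nd (.lf 0x1009) (.lf 0)))))) (.nd (.nd (.nd (.nd (.nd (.lf 0x11cd) (.lf 0x17ee)) (.nd (.lf 0x67f) (.lf 0))) (.nd (.nd (.lf 0x62f) (.lf 0)) (.nd (.lf 0x51e) (.lf 0)))) (.nd (.nd (.nd (.lf 0x469) (.lf 0)) (.nd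 (.lf 0x7d1) (.lf 0))) (.nd (.nd (.lf 0x11be) (.lf 0)) (.nd (.lf 0x1831) (.lf 0))))) (.nd (.nd (.nd (.nd (.lf 0x1713) (.lf 0x11b0)) (.nd (.lf 0x102d) (.lf 0))) (.nd (.nd (.lf 0x13ed) (.lf 0)) (.nd (.lf 0x121b) (.lf 0)))) (.nd (.nd (.nd (.lf 0x1871) (.lf 0)) (.nd (.lf 0x762) (.lf 0))) (.nd (.nd (.lf 0x3e8) (.lf 0)) (.nd (.lf 0x538) (.lf 0)))))))
def phQ_naabaab : Tr := (.nd (.nd (.nd (.nd (.nd (.nd (.lf 0x14) (.lf 0x15ad)) (.nd (.lf 0x1007) (.lf 0))) (.nd (.nd (.lf 0x1724) (.lf 0)) (.nd (.lf 0x129e) (.lf 0)))) (.nd (.nd (.nd (.lf 0x3ef) (.lf 0)) (.nd (.lf 0x216) (.lf 0))) (.nd (.nd (.lf 0x186) (.lf 0)) (.nd (.lf 0x644) (.lf 0))))) (.nd (.nd (.nd (.nd (.lf 0x3fa) (.lf 0x187e)) (.nd (.lf 0x1883) (.lf 0))) (.nd (.nd (.lf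 0x143e) (.lf 0)) (.nd (.lf 0x1143) (.lf 0)))) (.nd (.nd (.nd (.lf 0x126) (.lf 0)) (.nd (.lf 0x1587) (.lf 0))) (.nd (.nd (.lf 0x1480) (.lf 0)) (.nd (.lf 0x180d) (.lf 0)))))) (.nd (.nd (.nd (.nd (.nd (.lf 0x25a) (.lf 0x876)) (.nd (.lf 0x18ca) (.lf 0))) (.nd (.nd (.lf 0x12cf) (.lf 0)) (.nd (.lf 0x396) (.lf 0)))) (.nd (.nd (.nd (.lf 0x35) (.lf 0)) (.nd (.lf 0x1578) (.lf 0))) (.nd (.nd (.lf 0xa4) (.lf 0)) (.nd (.lf 0x12b7) (.lf 0))))) (.nd (.nd (.nd (.nd (.lf 0x325) (.lf 0x43e)) (.nd (.lf 0x4cb) (.lf 0))) (.nd (.nd (.lf 0x27e) (.lf 0)) (.nd (.lf 0x1604) (.lf 0)))) (.nd (.nd (.nd (.lf 0x101) (.lf 0)) (.nd (.lf 0x337) (.lf 0))) (.nd (.nd (.lf 0x13b8) (.lf 0)) (.nd (.lf 0x57) (.lf 0)))))))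
def phQ_naababa : Tr := (.nd (.nd (.nd (.nd (.nd (.nd (.lf 0x12) (.lf 0x11a7)) (.nd (.lf 0x1192) (.lf 0))) (.nd (.nd (.lf 0x110a) (.lf 0)) (.nd (.lf 0x130e) (.lf 0)))) (.nd (.nd (.nd (.lf 0x11bd) (.lf 0)) (.nd (.lf 0x87a) (.lf 0))) (.nd (.nd (.lf 0x573) (.lf 0)) (.nd (.lf 0x1014) (.lf 0))))) (.nd (.nd (.nd (.nd (.lf 0x4fd) (.lf 0x129)) (.nd (.lf 0xef) (.lf 0))) (.nd (.nd (.lf 0x13fb) (.lf 0)) (.nd (.lf 0x11ed) (.lf 0)))) (.nd (.nd (.nd (.lf 0x1b) (.lf 0)) (.nd (.lf 0x7f1) (.lf 0))) (.nd (.nd (.lf 0x889) (.lf 0)) (.nd (.lf 0x15b8) (.lf 0)))))) (.nd (.nd (.nd (.nd (.nd (.lf 0x3dc) (.lf 0x1677)) (.nd (.lf 0x1107) (.lf 0))) (.nd (.nd (.lf 0x15ce) (.lf 0)) (.nd (.lf 0x3b3) (.lf 0)))) (.nd (.nd (.nd (.lf 0x1666) (.lf 0))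 (.nd (.lf 0x677) (.lf 0))) (.nd (.nd (.lf 0x157d) (.lf 0)) (.nd (.lf 0x1e5) (.lf 0))))) (.nd (.nd (.nd (.nd (.lf 0x178f) (.lf 0x52d)) (.nd (.lf 0x132) (.lf 0))) (.nd (.nd (.lf 0x16dc) (.lf 0)) (.nd (.lf 0x103e) (.lf 0)))) (.nd (.nd (.nd (.lf 0x52a) (.lf 0)) (.nd (.lf 0x8ae) (.lf 0))) (.nd (.nd (.lf 0x5b1) (.lf 0)) (.nd (.lf 0x1647) (.lf 0)))))))
def phQ_naababb : Tr := (.nd (.nd (.nd (.nd (.nd (.nd (.lf 0x1817) (.lf 0x184f)) (.nd (.lf 0x162f) (.lf 0))) (.nd (.nd (.lf 0x12a4) (.lf 0)) (.nd (.lf 0x8ca) (.lf 0)))) (.nd (.nd (.nd (.lf 0x11e3) (.lf 0)) (.nd (.lf 0x1495) (.lf 0))) (.nd (.nd (.lf 0x40) (.lf 0)) (.nd (.lf 0x8db) (.lf 0))))) (.nd (.nd (.nd (.nd (.lf 0x150e) (.lf 0x6e2)) (.nd (.lf 0x1701) (.lf 0))) (.nd (.nd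 (.lf 0x177c) (.lf 0)) (.nd (.lf 0x10c9) (.lf 0)))) (.nd (.nd (.nd (.lf 0x9d) (.lf 0)) (.nd (.lf 0x1356) (.lf 0))) (.nd (.nd (.lf 0x16f2) (.lf 0)) (.nd (.lf 0x31) (.lf 0)))))) (.nd (.nd (.nd (.nd (.nd (.lf 0x4a3) (.lf 0x230)) (.nd (.lf 0x6bb) (.lf 0))) (.nd (.nd (.lf 0x2ab) (.lf 0)) (.nd (.lf 0x16ad) (.lf 0)))) (.nd (.nd (.nd (.lf 0x757) (.lf 0)) (.nd (.lf 0x1498) (.lf 0))) (.nd (.nd (.lf 0x899) (.lf 0)) (.nd (.lf 0x5c1) (.lf 0))))) (.nd (.nd (.nd (.nd (.lf 0x733) (.lf 0x2ba)) (.nd (.lf 0x1768) (.lf 0))) (.nd (.nd (.lf 0x243) (.lf 0)) (.nd (.lf 0x1c5) (.lf 0)))) (.nd (.nd (.nd (.lf 0x1852) (.lf 0)) (.nd (.lf 0x179f) (.lf 0))) (.nd (.nd (.lf 0x12fb) (.lf 0)) (.nd (.lf 0x716) (.lf 0)))))))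
def phQ_naabbaa : Tr := (.nd (.nd (.nd (.nd (.nd (.nd (.lf 0x6b7) (.lf 0x10d6)) (.nd (.lf 0x14d5) (.lf 0))) (.nd (.nd (.lf 0x453) (.lf 0)) (.nd (.lf 0x142d) (.lf 0)))) (.nd (.nd (.nd (.lf 0x146a) (.lf 0)) (.nd (.lf 0x1290) (.lf 0))) (.nd (.nd (.lf 0x21f) (.lf 0)) (.nd (.lf 0x1247) (.lf 0))))) (.nd (.nd (.nd (.nd (.lf 0x607) (.lf 0x56f)) (.nd (.lf 0x148f) (.lf 0))) (.nd (.nd (.lf 0x11c6) (.lf 0)) (.nd (.lf 0x61) (.lf 0)))) (.nd (.nd (.nd (.lf 0x251) (.lf 0)) (.nd (.lf 0x1fe) (.lf 0))) (.nd (.nd (.lf 0x180f) (.lf 0)) (.nd (.lf 0x1789) (.lf 0)))))) (.nd (.nd (.nd (.nd (.nd (.lf 0x481) (.lf 0x7b9)) (.nd (.lf 0x14a) (.lf 0))) (.nd (.nd (.lf 0x17ef) (.lf 0)) (.nd (.lf 0x153f) (.lf 0)))) (.nd (.nd (.nd (.lf 0x1b3) (.lf 0))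 (.nd (.lf 0x1460) (.lf 0))) (.nd (.nd (.lf 0x591) (.lf 0)) (.nd (.lf 0x4cf) (.lf 0))))) (.nd (.nd (.nd (.nd (.lf 0x16bf) (.lf 0x3b5)) (.nd (.lf 0x20d) (.lf 0))) (.nd (.nd (.lf 0x5d0) (.lf 0)) (.nd (.lf 0x196) (.lf 0)))) (.nd (.nd (.nd (.lf 0x14e0) (.lf 0)) (.nd (.lf 0x147e) (.lf 0))) (.nd (.nd (.lf 0x158f) (.lf 0)) (.nd (.lf 0x7b) (.lf 0)))))))
def phQ_naabbab : Tr := (.nd (.nd (.nd (.nd (.nd (.nd (.lf 0x17f2) (.lf 0x151e)) (.nd (.lf 0x1159) (.lf 0))) (.nd (.nd (.lf 0x73e) (.lf 0)) (.nd (.lf 0x30a) (.lf 0)))) (.nd (.nd (.nd (.lf 0x18f4) (.lf 0)) (.nd (.lf 0x1554) (.lf 0))) (.nd (.nd (.lf 0x37b) (.lf 0)) (.nd (.lf 0x103f) (.lf 0))))) (.nd (.nd (.nd (.nd (.lf 0x5e) (.lf 0x12f8)) (.nd (.lf 0x4ba) (.lf 0))) (.nd (.nd (.lf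 0x6aa) (.lf 0)) (.nd (.lf 0x15d2) (.lf 0)))) (.nd (.nd (.nd (.lf 0x17d8) (.lf 0)) (.nd (.lf 0x1890) (.lf 0))) (.nd (.nd (.lf 0x13d6) (.lf 0)) (.nd (.lf 0x1455) (.lf 0)))))) (.nd (.nd (.nd (.nd (.nd (.lf 0x78d) (.lf 0x592)) (.nd (.lf 0x1508) (.lf 0))) (.nd (.nd (.lf 0x806) (.lf 0)) (.nd (.lf 0x11ea) (.lf 0)))) (.nd (.nd (.nd (.lf 0xc1) (.lf 0)) (.nd (.lf 0x16a9) (.lf 0))) (.nd (.nd (.lf 0x177d) (.lf 0)) (.nd (.lf 0x109e) (.lf 0))))) (.nd (.nd (.nd (.nd (.lf 0x10e6) (.lf 0x149e)) (.nd (.lf 0x46a) (.lf 0))) (.nd (.nd (.lf 0x1414) (.lf 0)) (.nd (.lf 0x15fa) (.lf 0)))) (.nd (.nd (.nd (.lf 0x8f6) (.lf 0)) (.nd (.lf 0x1095) (.lf 0))) (.nd (.nd (.lf 0x419) (.lf 0)) (.nd (.lf 0x1ef) (.lf 0)))))))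
def phQ_naabbba : Tr := (.nd (.nd (.nd (.nd (.nd (.nd (.lf 0x57f) (.lf 0x3b6)) (.nd (.lf 0x12c5) (.lf 0))) (.nd (.nd (.lf 0x7be) (.lf 0)) (.nd (.lf 0x37d) (.lf 0)))) (.nd (.nd (.nd (.lf 0x8d) (.lf 0)) (.nd (.lf 0x5f4) (.lf 0))) (.nd (.nd (.lf 0x683) (.lf 0)) (.nd (.lf 0x1843) (.lf 0))))) (.nd (.nd (.nd (.nd (.lf 0x249) (.lf 0x13f3)) (.nd (.lf 0x1080) (.lf 0))) (.nd (.nd (.lf 0x10e4) (.lf 0)) (.nd (.lf 0x434) (.lf 0)))) (.nd (.nd (.nd (.lf 0xc0) (.lf 0)) (.nd (.lf 0x11f7) (.lf 0))) (.nd (.nd (.lf 0x48c) (.lf 0)) (.nd (.lf 0x22b) (.lf 0)))))) (.nd (.nd (.nd (.nd (.nd (.lf 0x176d) (.lf 0x1704)) (.nd (.lf 0x17fa) (.lf 0))) (.nd (.nd (.lf 0xd0) (.lf 0)) (.nd (.lf 0x585) (.lf 0)))) (.nd (.nd (.nd (.lf 0x1894) (.lf 0)) (.nd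 (.lf 0x1582) (.lf 0))) (.nd (.nd (.lf 0x3e) (.lf 0)) (.nd (.lf 0x166e) (.lf 0))))) (.nd (.nd (.nd (.nd (.lf 0x768) (.lf 0x507)) (.nd (.lf 0x18ab) (.lf 0))) (.nd (.nd (.lf 0x1749) (.lf 0)) (.nd (.lf 0x10f2) (.lf 0)))) (.nd (.nd (.nd (.lf 0x26f) (.lf 0)) (.nd (.lf 0xd9) (.lf 0))) (.nd (.nd (.lf 0x15a3) (.lf 0)) (.nd (.lf 0x2b5) (.lf 0)))))))
def phQ_naabbbb : Tr := (.nd (.nd (.nd (.nd (.nd (.nd (.lf 0x12fa) (.lf 0x1126)) (.nd (.lf 0x70e) (.lf 0))) (.nd (.nd (.lf 0x1230) (.lf 0)) (.nd (.lf 0x46) (.lf 0)))) (.nd (.nd (.nd (.lf 0x41e) (.lf 0)) (.nd (.lf 0x15b1) (.lf 0))) (.nd (.nd (.lf 0x250) (.lf 0)) (.nd (.lf 0x55b) (.lf 0))))) (.nd (.nd (.nd (.nd (.lf 0x5a0) (.lf 0x811)) (.nd (.lf 0x584) (.lf 0))) (.nd (.nd (.lf 0x6ce)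 (.lf 0)) (.nd (.lf 0x1f7) (.lf 0)))) (.nd (.nd (.nd (.lf 0x11e0) (.lf 0)) (.nd (.lf 0x16df) (.lf 0))) (.nd (.nd (.lf 0x12f5) (.lf 0)) (.nd (.lf 0x2ac) (.lf 0)))))) (.nd (.nd (.nd (.nd (.nd (.lf 0x1619) (.lf 0x4c)) (.nd (.lf 0x1099) (.lf 0))) (.nd (.nd (.lf 0x18a3) (.lf 0)) (.nd (.lf 0x13c8) (.lf 0)))) (.nd (.nd (.nd (.lf 0x2e0) (.lf 0)) (.nd (.lf 0x1467) (.lf 0))) (.nd (.nd (.lf 0x148a) (.lf 0)) (.nd (.lf 0x83a) (.lf 0))))) (.nd (.nd (.nd (.nd (.lf 0x13a4) (.lf 0x36f)) (.nd (.lf 0x7d0) (.lf 0))) (.nd (.nd (.lf 0x5da) (.lf 0)) (.nd (.lf 0x1eb) (.lf 0)))) (.nd (.nd (.nd (.lf 0x29f) (.lf 0)) (.nd (.lf 0x779) (.lf 0))) (.nd (.nd (.lf 0x12d3) (.lf 0)) (.nd (.lf 0x1442) (.lf 0)))))))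
def phQ_nabaaaa : Tr := (.nd (.nd (.nd (.nd (.nd (.nd (.lf 0x604) (.lf 0x16c5)) (.nd (.lf 0x16fe) (.lf 0))) (.nd (.nd (.lf 0x12a7) (.lf 0)) (.nd (.lf 0x117) (.lf 0)))) (.nd (.nd (.nd (.lf 0x51d) (.lf 0)) (.nd (.lf 0x12d4) (.lf 0))) (.nd (.nd (.lf 0x4d5) (.lf 0)) (.nd (.lf 0x1017) (.lf 0))))) (.nd (.nd (.nd (.nd (.lf 0x1586) (.lf 0x14c0)) (.nd (.lf 0x35f) (.lf 0))) (.nd (.nd (.lf 0x725) (.lf 0)) (.nd (.lf 0x673) (.lf 0)))) (.nd (.nd (.nd (.lf 0x10c3) (.lf 0)) (.nd (.lf 0x14e) (.lf 0))) (.nd (.nd (.lf 0x12e0) (.lf 0)) (.nd (.lf 0x1833) (.lf 0)))))) (.nd (.nd (.nd (.nd (.nd (.lf 0x851) (.lf 0x6bc)) (.nd (.lf 0x2d0) (.lf 0))) (.nd (.nd (.lf 0x1327) (.lf 0)) (.nd (.lf 0x790) (.lf 0)))) (.nd (.nd (.nd (.lf 0x178c) (.lf 0))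 (.nd (.lf 0x47e) (.lf 0))) (.nd (.nd (.lf 0x5c) (.lf 0)) (.nd (.lf 0x15a7) (.lf 0))))) (.nd (.nd (.nd (.nd (.lf 0x1573) (.lf 0x111)) (.nd (.lf 0x444) (.lf 0))) (.nd (.nd (.lf 0x72) (.lf 0)) (.nd (.lf 0x18c1) (.lf 0)))) (.nd (.nd (.nd (.lf 0x45a) (.lf 0)) (.nd (.lf 0xfb) (.lf 0))) (.nd (.nd (.lf 0x476) (.lf 0)) (.nd (.lf 0x2f2) (.lf 0)))))))
def phQ_nabaaab : Tr := (.nd (.nd (.nd (.nd (.nd (.nd (.lf 0x754) (.lf 0x18a0)) (.nd (.lf 0x89b) (.lf 0))) (.nd (.nd (.lf 0x59a) (.lf 0)) (.nd (.lf 0x1c1) (.lf 0)))) (.nd (.nd (.nd (.lf 0x128a) (.lf 0)) (.nd (.lf 0x17f6) (.lf 0))) (.nd (.nd (.lf 0x1e0) (.lf 0)) (.nd (.lf 0x11f2) (.lf 0))))) (.nd (.nd (.nd (.nd (.lf 0x1886) (.lf 0x13b6)) (.nd (.lf 0x89c) (.lf 0))) (.nd (.nd (.lf 0x15bb)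 (.lf 0)) (.nd (.lf 0x16a5) (.lf 0)))) (.nd (.nd (.nd (.lf 0x172d) (.lf 0)) (.nd (.lf 0x567) (.lf 0))) (.nd (.nd (.lf 0x163b) (.lf 0)) (.nd (.lf 0x6a5) (.lf 0)))))) (.nd (.nd (.nd (.nd (.nd (.lf 0x1047) (.lf 0x793)) (.nd (.lf 0x8dd) (.lf 0))) (.nd (.nd (.lf 0x13bd) (.lf 0)) (.nd (.lf 0x16fb) (.lf 0)))) (.nd (.nd (.nd (.lf 0x140b) (.lf 0)) (.nd (.lf 0x173f) (.lf 0))) (.nd (.nd (.lf 0x175d) (.lf 0)) (.nd (.lf 0x855) (.lf 0))))) (.nd (.nd (.nd (.nd (.lf 0x11c7) (.lf 0x282)) (.nd (.lf 0x709) (.lf 0))) (.nd (.nd (.lf 0x10ca) (.lf 0)) (.nd (.lf 0x107) (.lf 0)))) (.nd (.nd (.nd (.lf 0x5b0) (.lf 0)) (.nd (.lf 0x1211) (.lf 0))) (.nd (.nd (.lf 0x11b7) (.lf 0)) (.nd (.lf 0x17c1) (.lf 0)))))))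
def phQ_nabaaba : Tr := (.nd (.nd (.nd (.nd (.nd (.nd (.lf 0xb9) (.lf 0x13e0)) (.nd (.lf 0x523) (.lf 0))) (.nd (.nd (.lf 0x12ff) (.lf 0)) (.nd (.lf 0xae) (.lf 0)))) (.nd (.nd (.nd (.lf 0x16e7) (.lf 0)) (.nd (.lf 0x13aa) (.lf 0))) (.nd (.nd (.lf 0x6dc) (.lf 0)) (.nd (.lf 0x85c) (.lf 0))))) (.nd (.nd (.nd (.nd (.lf 0x17b9) (.lf 0x1204)) (.nd (.lf 0x896) (.lf 0))) (.nd (.nd (.lf 0x539) (.lf 0)) (.nd (.lf 0x85d) (.lf 0)))) (.nd (.nd (.nd (.lf 0x152f) (.lf 0)) (.nd (.lf 0x131b) (.lf 0))) (.nd (.nd (.lf 0x7fa) (.lf 0)) (.nd (.lf 0x634) (.lf 0)))))) (.nd (.nd (.nd (.nd (.nd (.lf 0x13a7) (.lf 0x15ff)) (.nd (.lf 0x1748) (.lf 0))) (.nd (.nd (.lf 0x736) (.lf 0)) (.nd (.lf 0x4da) (.lf 0)))) (.nd (.nd (.nd (.lf 0x140e) (.lf 0))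 (.nd (.lf 0x1193) (.lf 0))) (.nd (.nd (.lf 0x15a6) (.lf 0)) (.nd (.lf 0x8f0) (.lf 0))))) (.nd (.nd (.nd (.nd (.lf 0x161b) (.lf 0x810)) (.nd (.lf 0xf7) (.lf 0))) (.nd (.nd (.lf 0x1431) (.lf 0)) (.nd (.lf 0x310) (.lf 0)))) (.nd (.nd (.nd (.lf 0x1cf) (.lf 0)) (.nd (.lf 0x8a4) (.lf 0))) (.nd (.nd (.lf 0x1610) (.lf 0)) (.nd (.lf 0x1012) (.lf 0)))))))
def phQ_nabaabb : Tr := (.nd (.nd (.nd (.nd (.nd (.nd (.lf 0x774) (.lf 0x33)) (.nd (.lf 0x141f) (.lf 0))) (.nd (.nd (.lf 0x2b8) (.lf 0)) (.nd (.lf 0x1381) (.lf 0)))) (.nd (.nd (.nd (.lf 0x1313) (.lf 0)) (.nd (.lf 0x114f) (.lf 0))) (.nd (.nd (.lf 0x16f) (.lf 0)) (.nd (.lf 0x1881) (.lf 0))))) (.nd (.nd (.nd (.nd (.lf 0x80b) (.lf 0x531)) (.nd (.lf 0xbf) (.lf 0))) (.nd (.nd (.lf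 0x1829) (.lf 0)) (.nd (.lf 0x561) (.lf 0)))) (.nd (.nd (.nd (.lf 0x172f) (.lf 0)) (.nd (.lf 0x15fd) (.lf 0))) (.nd (.nd (.lf 0x403) (.lf 0)) (.nd (.lf 0x4bf) (.lf 0)))))) (.nd (.nd (.nd (.nd (.nd (.lf 0x8fc) (.lf 0x1164)) (.nd (.lf 0x59e) (.lf 0))) (.nd (.nd (.lf 0x13a5) (.lf 0)) (.nd (.lf 0x1156) (.lf 0)))) (.nd (.nd (.nd (.lf 0x18f0) (.lf 0)) (.nd (.lf 0x129a) (.lf 0))) (.nd (.nd (.lf 0x7f8) (.lf 0)) (.nd (.lf 0x25e) (.lf 0))))) (.nd (.nd (.nd (.nd (.lf 0x1527) (.lf 0x17ce)) (.nd (.lf 0x1272) (.lf 0))) (.nd (.nd (.lf 0x14eb) (.lf 0)) (.nd (.lf 0x1422) (.lf 0)))) (.nd (.nd (.nd (.lf 0x1515) (.lf 0)) (.nd (.lf 0x511) (.lf 0))) (.nd (.nd (.lf 0x12ec) (.lf 0)) (.nd (.lf 0x471) (.lf 0)))))))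
def phQ_nababaa : Tr := (.nd (.nd (.nd (.nd (.nd (.nd (.lf 0x0) (.lf 0x718)) (.nd (.lf 0x12f9) (.lf 0))) (.nd (.nd (.lf 0x38b) (.lf 0)) (.nd (.lf 0x17b0) (.lf 0)))) (.nd (.nd (.nd (.lf 0x10fe) (.lf 0)) (.nd (.lf 0xad) (.lf 0))) (.nd (.nd (.lf 0x1bc) (.lf 0)) (.nd (.lf 0x194) (.lf 0))))) (.nd (.nd (.nd (.nd (.lf 0x74) (.lf 0xbd)) (.nd (.lf 0x1d0) (.lf 0))) (.nd (.nd (.lf 0x1015) (.lf 0)) (.nd (.lf 0x12e9) (.lf 0)))) (.nd (.nd (.nd (.lf 0x136b) (.lf 0)) (.nd (.lf 0x439) (.lf 0))) (.nd (.nd (.lf 0x4d3) (.lf 0)) (.nd (.lf 0x151) (.lf 0)))))) (.nd (.nd (.nd (.nd (.nd (.lf 0x1864) (.lf 0x1599)) (.nd (.lf 0x114b) (.lf 0))) (.nd (.nd (.lf 0x143) (.lf 0)) (.nd (.lf 0x1571) (.lf 0)))) (.nd (.nd (.nd (.lf 0x4) (.lf 0)) (.nd (.lf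 0x1f0) (.lf 0))) (.nd (.nd (.lf 0x742) (.lf 0)) (.nd (.lf 0x127c) (.lf 0))))) (.nd (.nd (.nd (.nd (.lf 0x1375) (.lf 0x173)) (.nd (.lf 0x756) (.lf 0))) (.nd (.nd (.lf 0x26c) (.lf 0)) (.nd (.lf 0x136d) (.lf 0)))) (.nd (.nd (.nd (.lf 0x11d2) (.lf 0)) (.nd (.lf 0x7ab) (.lf 0))) (.nd (.nd (.lf 0x12cc) (.lf 0)) (.nd (.lf 0x3bb) (.lf 0)))))))
def phQ_nababab : Tr := (.nd (.nd (.nd (.nd (.nd (.nd (.lf 0x490) (.lf 0x11b9)) (.nd (.lf 0x1b7) (.lf 0))) (.nd (.nd (.lf 0x5b2) (.lf 0)) (.nd (.lf 0x175c) (.lf 0)))) (.nd (.nd (.nd (.lf 0x12dc) (.lf 0)) (.nd (.lf 0x8cd) (.lf 0))) (.nd (.nd (.lf 0x18ae) (.lf 0)) (.nd (.lf 0x63) (.lf 0))))) (.nd (.nd (.nd (.nd (.lf 0x4b8) (.lf 0x1618)) (.nd (.lf 0x463) (.lf 0))) (.nd (.nd (.lf 0x1555)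 (.lf 0)) (.nd (.lf 0x154b) (.lf 0)))) (.nd (.nd (.nd (.lf 0x1059) (.lf 0)) (.nd (.lf 0x121e) (.lf 0))) (.nd (.nd (.lf 0x1850) (.lf 0)) (.nd (.lf 0x11fb) (.lf 0)))))) (.nd (.nd (.nd (.nd (.nd (.lf 0x1595) (.lf 0x17db)) (.nd (.lf 0x1176) (.lf 0))) (.nd (.nd (.lf 0x670) (.lf 0)) (.nd (.lf 0x8ac) (.lf 0)))) (.nd (.nd (.nd (.lf 0x184a) (.lf 0)) (.nd (.lf 0xa8) (.lf 0))) (.nd (.nd (.lf 0x54e) (.lf 0)) (.nd (.lf 0x13e9) (.lf 0))))) (.nd (.nd (.nd (.nd (.lf 0x616) (.lf 0x3d3)) (.nd (.lf 0x7e0) (.lf 0))) (.nd (.nd (.lf 0x179d) (.lf 0)) (.nd (.lf 0x1641) (.lf 0)))) (.nd (.nd (.nd (.lf 0x121d) (.lf 0)) (.nd (.lf 0x1663) (.lf 0))) (.nd (.nd (.lf 0x324) (.lf 0)) (.nd (.lf 0x799) (.lf 0)))))))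
def phQ_nababba : Tr := (.nd (.nd (.nd (.nd (.nd (.nd (.lf 0x7f) (.lf 0x36b)) (.nd (.lf 0x416) (.lf 0))) (.nd (.nd (.lf 0x369) (.lf 0)) (.nd (.lf 0x1385) (.lf 0)))) (.nd (.nd (.nd (.lf 0x8a0) (.lf 0)) (.nd (.lf 0x1858) (.lf 0))) (.nd (.nd (.lf 0x1013) (.lf 0)) (.nd (.lf 0x138b) (.lf 0))))) (.nd (.nd (.nd (.nd (.lf 0x158c) (.lf 0x15e3)) (.nd (.lf 0x11fe) (.lf 0))) (.nd (.nd (.lf 0x1177) (.lf 0)) (.nd (.lf 0xf0) (.lf 0)))) (.nd (.nd (.nd (.lf 0x34d) (.lf 0)) (.nd (.lf 0x51f) (.lf 0))) (.nd (.nd (.lf 0x7a) (.lf 0)) (.nd (.lf 0x8ab) (.lf 0)))))) (.nd (.nd (.nd (.nd (.nd (.lf 0x552) (.lf 0x12b5)) (.nd (.lf 0x1284) (.lf 0))) (.nd (.nd (.lf 0x1090) (.lf 0)) (.nd (.lf 0x88e) (.lf 0)))) (.nd (.nd (.nd (.lf 0x1233) (.lf 0)) (.nd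 (.lf 0x186a) (.lf 0))) (.nd (.nd (.lf 0x150a) (.lf 0)) (.nd (.lf 0x4aa) (.lf 0))))) (.nd (.nd (.nd (.nd (.lf 0x6f) (.lf 0x3c5)) (.nd (.lf 0x59d) (.lf 0))) (.nd (.nd (.lf 0x1325) (.lf 0)) (.nd (.lf 0x1612) (.lf 0)))) (.nd (.nd (.nd (.lf 0x1700) (.lf 0)) (.nd (.lf 0x700) (.lf 0))) (.nd (.nd (.lf 0x10e8) (.lf 0)) (.nd (.lf 0x157e) (.lf 0)))))))
def phQ_nababbb : Tr := (.nd (.nd (.nd (.nd (.nd (.nd (.lf 0x1487) (.lf 0x1802)) (.nd (.lf 0x1708) (.lf 0))) (.nd (.nd (.lf 0x16) (.lf 0)) (.nd (.lf 0x734) (.lf 0)))) (.nd (.nd (.nd (.lf 0x15de) (.lf 0)) (.nd (.lf 0x213) (.lf 0))) (.nd (.nd (.lf 0x1534) (.lf 0)) (.nd (.lf 0x1314) (.lf 0))))) (.nd (.nd (.nd (.nd (.lf 0x7c6) (.lf 0xba)) (.nd (.lf 0x47a) (.lf 0))) (.nd (.nd (.lf 0x229)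 (.lf 0)) (.nd (.lf 0x183c) (.lf 0)))) (.nd (.nd (.nd (.lf 0x141e) (.lf 0)) (.nd (.lf 0x3ea) (.lf 0))) (.nd (.nd (.lf 0x381) (.lf 0)) (.nd (.lf 0x1f3) (.lf 0)))))) (.nd (.nd (.nd (.nd (.nd (.lf 0x5be) (.lf 0x5a1)) (.nd (.lf 0x1446) (.lf 0))) (.nd (.nd (.lf 0x1317) (.lf 0)) (.nd (.lf 0x8b7) (.lf 0)))) (.nd (.nd (.nd (.lf 0x863) (.lf 0)) (.nd (.lf 0x130a) (.lf 0))) (.nd (.nd (.lf 0x66d) (.lf 0)) (.nd (.lf 0x191) (.lf 0))))) (.nd (.nd (.nd (.nd (.lf 0x643) (.lf 0x1598)) (.nd (.lf 0x329) (.lf 0))) (.nd (.nd (.lf 0x1614) (.lf 0)) (.nd (.lf 0x16e3) (.lf 0)))) (.nd (.nd (.nd (.lf 0x17ec) (.lf 0)) (.nd (.lf 0x16b7) (.lf 0))) (.nd (.nd (.lf 0x7c1) (.lf 0)) (.nd (.lf 0x170d) (.lf 0)))))))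
def phQ_nabbaaa : Tr := (.nd (.nd (.nd (.nd (.nd (.nd (.lf 0x15ae) (.lf 0x415)) (.nd (.lf 0x16e4) (.lf 0))) (.nd (.nd (.lf 0x1447) (.lf 0)) (.nd (.lf 0x1801) (.lf 0)))) (.nd (.nd (.nd (.lf 0x30) (.lf 0)) (.nd (.lf 0x2d8) (.lf 0))) (.nd (.nd (.lf 0x300) (.lf 0)) (.nd (.lf 0x452) (.lf 0))))) (.nd (.nd (.nd (.nd (.lf 0x509) (.lf 0x79c)) (.nd (.lf 0x4b4) (.lf 0))) (.nd (.nd (.lf 0x1129) (.lf 0)) (.nd (.lf 0x1228) (.lf 0)))) (.nd (.nd (.nd (.lf 0x10ed) (.lf 0)) (.nd (.lf 0x1416) (.lf 0))) (.nd (.nd (.lf 0x124c) (.lf 0)) (.nd (.lf 0x133b) (.lf 0)))))) (.nd (.nd (.nd (.nd (.nd (.lf 0x7c7) (.lf 0x144)) (.nd (.lf 0x1810) (.lf 0))) (.nd (.nd (.lf 0x8f8) (.lf 0)) (.nd (.lf 0x1809) (.lf 0)))) (.nd (.nd (.nd (.lf 0x11f5) (.lf 0))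 (.nd (.lf 0x12f1) (.lf 0))) (.nd (.nd (.lf 0x178d) (.lf 0)) (.nd (.lf 0x1022) (.lf 0))))) (.nd (.nd (.nd (.nd (.lf 0x1) (.lf 0x270)) (.nd (.lf 0x3) (.lf 0))) (.nd (.nd (.lf 0x1235) (.lf 0)) (.nd (.lf 0x2a6) (.lf 0)))) (.nd (.nd (.nd (.lf 0x4a5) (.lf 0)) (.nd (.lf 0x4eb) (.lf 0))) (.nd (.nd (.lf 0x65b) (.lf 0)) (.nd (.lf 0x6ac) (.lf 0)))))))
def phQ_nabbaab : Tr := (.nd (.nd (.nd (.nd (.nd (.nd (.lf 0x8cb) (.lf 0x1624)) (.nd (.lf 0x1196) (.lf 0))) (.nd (.nd (.lf 0x20b) (.lf 0)) (.nd (.lf 0x247) (.lf 0)))) (.nd (.nd (.nd (.lf 0x149a) (.lf 0)) (.nd (.lf 0x1492) (.lf 0))) (.nd (.nd (.lf 0x114d) (.lf 0)) (.nd (.lf 0x825) (.lf 0))))) (.nd (.nd (.nd (.nd (.lf 0x653) (.lf 0x1551)) (.nd (.lf 0x121f) (.lf 0))) (.nd (.nd (.lf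 0x8a) (.lf 0)) (.nd (.lf 0x455) (.lf 0)))) (.nd (.nd (.nd (.lf 0x2dc) (.lf 0)) (.nd (.lf 0x17e) (.lf 0))) (.nd (.nd (.lf 0x1286) (.lf 0)) (.nd (.lf 0x1123) (.lf 0)))))) (.nd (.nd (.nd (.nd (.nd (.lf 0x120b) (.lf 0x529)) (.nd (.lf 0x828) (.lf 0))) (.nd (.nd (.lf 0x1897) (.lf 0)) (.nd (.lf 0x5eb) (.lf 0)))) (.nd (.nd (.nd (.lf 0x1609) (.lf 0)) (.nd (.lf 0x18b6) (.lf 0))) (.nd (.nd (.lf 0x1075) (.lf 0)) (.nd (.lf 0x767) (.lf 0))))) (.nd (.nd (.nd (.nd (.lf 0x5f0) (.lf 0x138)) (.nd (.lf 0x53c) (.lf 0))) (.nd (.nd (.lf 0x2f6) (.lf 0)) (.nd (.lf 0x1790) (.lf 0)))) (.nd (.nd (.nd (.lf 0x2ae) (.lf 0)) (.nd (.lf 0x1428) (.lf 0))) (.nd (.nd (.lf 0x129f) (.lf 0)) (.nd (.lf 0x25f) (.lf 0)))))))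
def phQ_nabbaba : Tr := (.nd (.nd (.nd (.nd (.nd (.nd (.lf 0x118d) (.lf 0x14d3)) (.nd (.lf 0x107a) (.lf 0))) (.nd (.nd (.lf 0x1a3) (.lf 0)) (.nd (.lf 0x8de) (.lf 0)))) (.nd (.nd (.nd (.lf 0x137d) (.lf 0)) (.nd (.lf 0x14a8) (.lf 0))) (.nd (.nd (.lf 0x5ff) (.lf 0)) (.nd (.lf 0x126c) (.lf 0))))) (.nd (.nd (.nd (.nd (.lf 0x1420) (.lf 0x185c)) (.nd (.lf 0x188e) (.lf 0))) (.nd (.nd (.lf 0x389) (.lf 0)) (.nd (.lf 0x1759) (.lf 0)))) (.nd (.nd (.nd (.lf 0x65f) (.lf 0)) (.nd (.lf 0x10f6) (.lf 0))) (.nd (.nd (.lf 0x16d7) (.lf 0)) (.nd (.lf 0x20c) (.lf 0)))))) (.nd (.nd (.nd (.nd (.nd (.lf 0x174e) (.lf 0x1167)) (.nd (.lf 0x1660) (.lf 0))) (.nd (.nd (.lf 0x418) (.lf 0)) (.nd (.lf 0x11e5) (.lf 0)))) (.nd (.nd (.nd (.lf 0x10db) (.lf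 0)) (.nd (.lf 0x15c7) (.lf 0))) (.nd (.nd (.lf 0x22f) (.lf 0)) (.nd (.lf 0x51c) (.lf 0))))) (.nd (.nd (.nd (.nd (.lf 0x15a1) (.lf 0x119e)) (.nd (.lf 0x7ba) (.lf 0))) (.nd (.nd (.lf 0x635) (.lf 0)) (.nd (.lf 0x6fa) (.lf 0)))) (.nd (.nd (.nd (.lf 0x6ed) (.lf 0)) (.nd (.lf 0x886) (.lf 0))) (.nd (.nd (.lf 0x10d0) (.lf 0)) (.nd (.lf 0x1171) (.lf 0)))))))
def phQ_nabbabb : Tr := (.nd (.nd (.nd (.nd (.nd (.nd (.lf 0x15b0) (.lf 0x341)) (.nd (.lf 0x16f1) (.lf 0))) (.nd (.nd (.lf 0x482) (.lf 0)) (.nd (.lf 0x123) (.lf 0)))) (.nd (.nd (.nd (.lf 0x182f) (.lf 0)) (.nd (.lf 0x151b) (.lf 0))) (.nd (.nd (.lf 0x1438) (.lf 0)) (.nd (.lf 0x17c7) (.lf 0))))) (.nd (.nd (.nd (.nd (.lf 0x784) (.lf 0x107b)) (.nd (.lf 0x1756) (.lf 0))) (.nd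 (.nd (.lf 0x2d7) (.lf 0)) (.nd (.lf 0x1312) (.lf 0)))) (.nd (.nd (.nd (.lf 0x428) (.lf 0)) (.nd (.lf 0x188c) (.lf 0))) (.nd (.nd (.lf 0x144d) (.lf 0)) (.nd (.lf 0x145d) (.lf 0)))))) (.nd (.nd (.nd (.nd (.nd (.lf 0x137b) (.lf 0x24e)) (.nd (.lf 0x513) (.lf 0))) (.nd (.nd (.lf 0x18f8) (.lf 0)) (.nd (.lf 0x1117) (.lf 0)))) (.nd (.nd (.nd (.lf 0x83f) (.lf 0)) (.nd (.lf 0x629) (.lf 0))) (.nd (.nd (.lf 0x400) (.lf 0)) (.nd (.lf 0x726) (.lf 0))))) (.nd (.nd (.nd (.nd (.lf 0x16c9) (.lf 0x7e1)) (.nd (.lf 0x13b1) (.lf 0))) (.nd (.nd (.lf 0x534) (.lf 0)) (.nd (.lf 0x7f9) (.lf 0)))) (.nd (.nd (.nd (.lf 0x12d1) (.lf 0)) (.nd (.lf 0x1683) (.lf 0))) (.nd (.nd (.lf 0x83d) (.lf 0)) (.nd (.lf 0x1060) (.lf 0)))))))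
def phQ_nabbbaa : Tr := (.nd (.nd (.nd (.nd (.nd (.nd (.lf 0x34f) (.lf 0x187d)) (.nd (.lf 0x17ea) (.lf 0))) (.nd (.nd (.lf 0x1229) (.lf 0)) (.nd (.lf 0x2f3) (.lf 0)))) (.nd (.nd (.nd (.lf 0x17d9) (.lf 0)) (.nd (.lf 0x124) (.lf 0))) (.nd (.nd (.lf 0x1f2) (.lf 0)) (.nd (.lf 0x11b8) (.lf 0))))) (.nd (.nd (.nd (.nd (.lf 0x628) (.lf 0x488)) (.nd (.lf 0x11c2) (.lf 0))) (.nd (.nd (.lf 0x3b9) (.lf 0)) (.nd (.lf 0x62d) (.lf 0)))) (.nd (.nd (.nd (.lf 0x14a0) (.lf 0)) (.nd (.lf 0x1392) (.lf 0))) (.nd (.nd (.lf 0x5b8) (.lf 0)) (.nd (.lf 0x382) (.lf 0)))))) (.nd (.nd (.nd (.nd (.nd (.lf 0x1018) (.lf 0x2f7)) (.nd (.lf 0x1166) (.lf 0))) (.nd (.nd (.lf 0x5df) (.lf 0)) (.nd (.lf 0x153c) (.lf 0)))) (.nd (.nd (.nd (.lf 0x594) (.lf 0))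 (.nd (.lf 0x1775) (.lf 0))) (.nd (.nd (.lf 0xd4) (.lf 0)) (.nd (.lf 0x2e7) (.lf 0))))) (.nd (.nd (.nd (.nd (.lf 0x1670) (.lf 0x59f)) (.nd (.lf 0x5bf) (.lf 0))) (.nd (.nd (.lf 0x199) (.lf 0)) (.nd (.lf 0x3a9) (.lf 0)))) (.nd (.nd (.nd (.lf 0x157c) (.lf 0)) (.nd (.lf 0x3ac) (.lf 0))) (.nd (.nd (.lf 0x59b) (.lf 0)) (.nd (.lf 0x499) (.lf 0)))))))
def phQ_nabbbab : Tr := (.nd (.nd (.nd (.nd (.nd (.nd (.lf 0x1744) (.lf 0x710)) (.nd (.lf 0x2b) (.lf 0))) (.nd (.nd (.lf 0x595) (.lf 0)) (.nd (.lf 0x46c) (.lf 0)))) (.nd (.nd (.nd (.lf 0x1d3) (.lf 0)) (.nd (.lf 0x1263) (.lf 0))) (.nd (.nd (.lf 0x61c) (.lf 0)) (.nd (.lf 0x3ce) (.lf 0))))) (.nd (.nd (.nd (.nd (.lf 0x1541) (.lf 0x156b)) (.nd (.lf 0x887) (.lf 0))) (.nd (.nd (.lf 0x16f6)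 (.lf 0)) (.nd (.lf 0x7d8) (.lf 0)))) (.nd (.nd (.nd (.lf 0x370) (.lf 0)) (.nd (.lf 0x21c) (.lf 0))) (.nd (.nd (.lf 0x37c) (.lf 0)) (.nd (.lf 0x8e5) (.lf 0)))))) (.nd (.nd (.nd (.nd (.nd (.lf 0x238) (.lf 0x56e)) (.nd (.lf 0x15dd) (.lf 0))) (.nd (.nd (.lf 0x3e0) (.lf 0)) (.nd (.lf 0x8b3) (.lf 0)))) (.nd (.nd (.nd (.lf 0x1023) (.lf 0)) (.nd (.lf 0x147a) (.lf 0))) (.nd (.nd (.lf 0x5a9) (.lf 0)) (.nd (.lf 0x1626) (.lf 0))))) (.nd (.nd (.nd (.nd (.lf 0x276) (.lf 0x15cc)) (.nd (.lf 0x64f) (.lf 0))) (.nd (.nd (.lf 0x84d) (.lf 0)) (.nd (.lf 0x465) (.lf 0)))) (.nd (.nd (.nd (.lf 0x676) (.lf 0)) (.nd (.lf 0x10fd) (.lf 0))) (.nd (.nd (.lf 0x589) (.lf 0)) (.nd (.lf 0x17d2) (.lf 0)))))))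
def phQ_nabbbba : Tr := (.nd (.nd (.nd (.nd (.nd (.nd (.lf 0x1175) (.lf 0x809)) (.nd (.lf 0x475) (.lf 0))) (.nd (.nd (.lf 0x108c) (.lf 0)) (.nd (.lf 0x430) (.lf 0)))) (.nd (.nd (.nd (.lf 0x17f3) (.lf 0)) (.nd (.lf 0x16e2) (.lf 0))) (.nd (.nd (.lf 0x14d7) (.lf 0)) (.nd (.lf 0x31e) (.lf 0))))) (.nd (.nd (.nd (.nd (.lf 0x221) (.lf 0x16c4)) (.nd (.lf 0x126b) (.lf 0))) (.nd (.nd (.lf 0x322) (.lf 0)) (.nd (.lf 0x128b) (.lf 0)))) (.nd (.nd (.nd (.lf 0x141b) (.lf 0)) (.nd (.lf 0x724) (.lf 0))) (.nd (.nd (.lf 0x1400) (.lf 0)) (.nd (.lf 0x1fb) (.lf 0)))))) (.nd (.nd (.nd (.nd (.nd (.lf 0x786) (.lf 0x555)) (.nd (.lf 0x1163) (.lf 0))) (.nd (.nd (.lf 0x29c) (.lf 0)) (.nd (.lf 0x10ba) (.lf 0)))) (.nd (.nd (.nd (.lf 0x42e) (.lf 0))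 (.nd (.lf 0x1825) (.lf 0))) (.nd (.nd (.lf 0x303) (.lf 0)) (.nd (.lf 0x14b7) (.lf 0))))) (.nd (.nd (.nd (.nd (.lf 0x14e6) (.lf 0x10da)) (.nd (.lf 0x47f) (.lf 0))) (.nd (.nd (.lf 0x1208) (.lf 0)) (.nd (.lf 0x622) (.lf 0)))) (.nd (.nd (.nd (.lf 0x15d1) (.lf 0)) (.nd (.lf 0x106b) (.lf 0))) (.nd (.nd (.lf 0x1621) (.lf 0)) (.nd (.lf 0x15ab) (.lf 0)))))))
def phQ_nabbbbb : Tr := (.nd (.nd (.nd (.nd (.nd (.nd (.lf 0x16cb) (.lf 0x60b)) (.nd (.lf 0x131e) (.lf 0))) (.nd (.nd (.lf 0x759) (.lf 0)) (.nd (.lf 0x159c) (.lf 0)))) (.nd (.nd (.nd (.lf 0x747) (.lf 0)) (.nd (.lf 0x122c) (.lf 0))) (.nd (.nd (.lf 0x6e3) (.lf 0)) (.nd (.lf 0x8d3) (.lf 0))))) (.nd (.nd (.nd (.nd (.lf 0x11a) (.lf 0x41f)) (.nd (.lf 0x14c3) (.lf 0))) (.nd (.nd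 (.lf 0x2b3) (.lf 0)) (.nd (.lf 0x530) (.lf 0)))) (.nd (.nd (.nd (.lf 0x427) (.lf 0)) (.nd (.lf 0x6b) (.lf 0))) (.nd (.nd (.lf 0x4d7) (.lf 0)) (.nd (.lf 0x70d) (.lf 0)))))) (.nd (.nd (.nd (.nd (.nd (.lf 0x126f) (.lf 0x1001)) (.nd (.lf 0x18b4) (.lf 0))) (.nd (.nd (.lf 0x70b) (.lf 0)) (.nd (.lf 0x1309) (.lf 0)))) (.nd (.nd (.nd (.lf 0x3d6) (.lf 0)) (.nd (.lf 0x6fc) (.lf 0))) (.nd (.nd (.lf 0x18ce) (.lf 0)) (.nd (.lf 0x43b) (.lf 0))))) (.nd (.nd (.nd (.nd (.lf 0x4c6) (.lf 0x85a)) (.nd (.lf 0x28b) (.lf 0))) (.nd (.nd (.lf 0x1536) (.lf 0)) (.nd (.lf 0x384) (.lf 0)))) (.nd (.nd (.nd (.lf 0x57e) (.lf 0)) (.nd (.lf 0x743) (.lf 0))) (.nd (.nd (.lf 0x171) (.lf 0)) (.nd (.lf 0x58b) (.lf 0)))))))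
def phQ_nbaaaaa : Tr := (.nd (.nd (.nd (.nd (.nd (.nd (.lf 0x0) (.lf 0x165a)) (.nd (.lf 0x1695) (.lf 0))) (.nd (.nd (.lf 0x17f1) (.lf 0)) (.nd (.lf 0x11ae) (.lf 0)))) (.nd (.nd (.nd (.lf 0x17) (.lf 0)) (.nd (.lf 0x1029) (.lf 0))) (.nd (.nd (.lf 0x1824) (.lf 0)) (.nd (.lf 0x11c0) (.lf 0))))) (.nd (.nd (.nd (.nd (.lf 0x1436) (.lf 0x1514)) (.nd (.lf 0x181) (.lf 0))) (.nd (.nd (.lf 0x2a3) (.lf 0)) (.nd (.lf 0x5e4) (.lf 0)))) (.nd (.nd (.nd (.lf 0x655) (.lf 0)) (.nd (.lf 0x3fb) (.lf 0))) (.nd (.nd (.lf 0x1273) (.lf 0)) (.nd (.lf 0x3a) (.lf 0)))))) (.nd (.nd (.nd (.nd (.nd (.lf 0x4c4) (.lf 0x5d1)) (.nd (.lf 0x119c) (.lf 0))) (.nd (.nd (.lf 0x15bf) (.lf 0)) (.nd (.lf 0x375) (.lf 0)))) (.nd (.nd (.nd (.lf 0x1c9) (.lf 0)) (.nd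 (.lf 0x176) (.lf 0))) (.nd (.nd (.lf 0x1816) (.lf 0)) (.nd (.lf 0x1449) (.lf 0))))) (.nd (.nd (.nd (.nd (.lf 0x532) (.lf 0x1846)) (.nd (.lf 0x128e) (.lf 0))) (.nd (.nd (.lf 0x13ff) (.lf 0)) (.nd (.lf 0x181b) (.lf 0)))) (.nd (.nd (.nd (.lf 0x17df) (.lf 0)) (.nd (.lf 0x11e9) (.lf 0))) (.nd (.nd (.lf 0x5ea) (.lf 0)) (.nd (.lf 0x171c) (.lf 0)))))))
def phQ_nbaaaab : Tr := (.nd (.nd (.nd (.nd (.nd (.nd (.lf 0x1507) (.lf 0x2e9)) (.nd (.lf 0x266) (.lf 0))) (.nd (.nd (.lf 0x1451) (.lf 0)) (.nd (.lf 0x1532) (.lf 0)))) (.nd (.nd (.nd (.lf 0x472) (.lf 0)) (.nd (.lf 0x1038) (.lf 0))) (.nd (.nd (.lf 0x165d) (.lf 0)) (.nd (.lf 0x461) (.lf 0))))) (.nd (.nd (.nd (.nd (.lf 0x1a8) (.lf 0xda)) (.nd (.lf 0x477) (.lf 0))) (.nd (.nd (.lf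 0x11a1) (.lf 0)) (.nd (.lf 0x349) (.lf 0)))) (.nd (.nd (.nd (.lf 0x173c) (.lf 0)) (.nd (.lf 0x5d2) (.lf 0))) (.nd (.nd (.lf 0x11b3) (.lf 0)) (.nd (.lf 0x6e8) (.lf 0)))))) (.nd (.nd (.nd (.nd (.nd (.lf 0x102) (.lf 0x8c1)) (.nd (.lf 0x1853) (.lf 0))) (.nd (.nd (.lf 0x5ac) (.lf 0)) (.nd (.lf 0x770) (.lf 0)))) (.nd (.nd (.nd (.lf 0x1616) (.lf 0)) (.nd (.lf 0x115f) (.lf 0))) (.nd (.nd (.lf 0x49a) (.lf 0)) (.nd (.lf 0x1726) (.lf 0))))) (.nd (.nd (.nd (.nd (.lf 0x146c) (.lf 0x1638)) (.nd (.lf 0x139a) (.lf 0))) (.nd (.nd (.lf 0x2b0) (.lf 0)) (.nd (.lf 0x1476) (.lf 0)))) (.nd (.nd (.nd (.lf 0x10df) (.lf 0)) (.nd (.lf 0x1a0) (.lf 0))) (.nd (.nd (.lf 0x4fb) (.lf 0)) (.nd (.lf 0x6c) (.lf 0)))))))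
def phQ_nbaaaba : Tr := (.nd (.nd (.nd (.nd (.nd (.nd (.lf 0x51) (.lf 0x4f8)) (.nd (.lf 0x160e) (.lf 0))) (.nd (.nd (.lf 0x4a1) (.lf 0)) (.nd (.lf 0x783) (.lf 0)))) (.nd (.nd (.nd (.lf 0x138e) (.lf 0)) (.nd (.lf 0x205) (.lf 0))) (.nd (.nd (.lf 0x8dc) (.lf 0)) (.nd (.lf 0x1617) (.lf 0))))) (.nd (.nd (.nd (.nd (.lf 0x838) (.lf 0x18d7)) (.nd (.lf 0x13ad) (.lf 0))) (.nd (.nd (.lf 0x165) (.lf 0)) (.nd (.lf 0x17d3) (.lf 0)))) (.nd (.nd (.nd (.lf 0x4ab) (.lf 0)) (.nd (.lf 0x843) (.lf 0))) (.nd (.nd (.lf 0x147d) (.lf 0)) (.nd (.lf 0x12cd) (.lf 0)))))) (.nd (.nd (.nd (.nd (.nd (.lf 0x424) (.lf 0x31b)) (.nd (.lf 0x54d) (.lf 0))) (.nd (.nd (.lf 0x1316) (.lf 0)) (.nd (.lf 0x36d) (.lf 0)))) (.nd (.nd (.nd (.lf 0x9a) (.lf 0)) (.nd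 (.lf 0x147c) (.lf 0))) (.nd (.nd (.lf 0x4bb) (.lf 0)) (.nd (.lf 0x732) (.lf 0))))) (.nd (.nd (.nd (.nd (.lf 0x5d3) (.lf 0x3b4)) (.nd (.lf 0x12b2) (.lf 0))) (.nd (.nd (.lf 0x80c) (.lf 0)) (.nd (.lf 0x304) (.lf 0)))) (.nd (.nd (.nd (.lf 0x666) (.lf 0)) (.nd (.lf 0x57a) (.lf 0))) (.nd (.nd (.lf 0xdb) (.lf 0)) (.nd (.lf 0x112a) (.lf 0)))))))
def phQ_nbaaabb : Tr := (.nd (.nd (.nd (.nd (.nd (.nd (.lf 0x1199) (.lf 0x189b)) (.nd (.lf 0x122b) (.lf 0))) (.nd (.nd (.lf 0x14d6) (.lf 0)) (.nd (.lf 0x256) (.lf 0)))) (.nd (.nd (.nd (.lf 0x615) (.lf 0)) (.nd (.lf 0x1807) (.lf 0))) (.nd (.nd (.lf 0x17bb) (.lf 0)) (.nd (.lf 0x18c3) (.lf 0))))) (.nd (.nd (.nd (.nd (.lf 0x16bb) (.lf 0xcd)) (.nd (.lf 0x739) (.lf 0))) (.nd (.nd (.lf 0x12e5)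 (.lf 0)) (.nd (.lf 0x50d) (.lf 0)))) (.nd (.nd (.nd (.lf 0x170a) (.lf 0)) (.nd (.lf 0x1827) (.lf 0))) (.nd (.nd (.lf 0x18f5) (.lf 0)) (.nd (.lf 0x3e4) (.lf 0)))))) (.nd (.nd (.nd (.nd (.nd (.lf 0x8e1) (.lf 0x8ee)) (.nd (.lf 0x18ee) (.lf 0))) (.nd (.nd (.lf 0x1685) (.lf 0)) (.nd (.lf 0x8c8) (.lf 0)))) (.nd (.nd (.nd (.lf 0x106c) (.lf 0)) (.nd (.lf 0x1222) (.lf 0))) (.nd (.nd (.lf 0x817) (.lf 0)) (.nd (.lf 0x7bb) (.lf 0))))) (.nd (.nd (.nd (.nd (.lf 0x14c4) (.lf 0x103c)) (.nd (.lf 0x14d2) (.lf 0))) (.nd (.nd (.lf 0x882) (.lf 0)) (.nd (.lf 0x5c7) (.lf 0)))) (.nd (.nd (.nd (.lf 0x802) (.lf 0)) (.nd (.lf 0x1f9) (.lf 0))) (.nd (.nd (.lf 0x156) (.lf 0)) (.nd (.lf 0x11c1) (.lf 0)))))))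
def phQ_nbaabaa : Tr := (.nd (.nd (.nd (.nd (.nd (.nd (.lf 0x1039) (.lf 0x18cb)) (.nd (.lf 0x3b8) (.lf 0))) (.nd (.nd (.lf 0x14df) (.lf 0)) (.nd (.lf 0x72c) (.lf 0)))) (.nd (.nd (.nd (.lf 0x15e6) (.lf 0)) (.nd (.lf 0x166) (.lf 0))) (.nd (.nd (.lf 0x8e0) (.lf 0)) (.nd (.lf 0x1659) (.lf 0))))) (.nd (.nd (.nd (.nd (.lf 0x864) (.lf 0x132f)) (.nd (.lf 0x388) (.lf 0))) (.nd (.nd (.lf 0x145f) (.lf 0)) (.nd (.lf 0x4a6) (.lf 0)))) (.nd (.nd (.nd (.lf 0x82b) (.lf 0)) (.nd (.lf 0x1010) (.lf 0))) (.nd (.nd (.lf 0x5f5) (.lf 0)) (.nd (.lf 0x4a7) (.lf 0)))))) (.nd (.nd (.nd (.nd (.nd (.lf 0x1842) (.lf 0x16bc)) (.nd (.lf 0x3bf) (.lf 0))) (.nd (.nd (.lf 0xd3) (.lf 0)) (.nd (.lf 0x17a4) (.lf 0)))) (.nd (.nd (.nd (.lf 0x187) (.lf 0))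 (.nd (.lf 0x80) (.lf 0))) (.nd (.nd (.lf 0x51b) (.lf 0)) (.nd (.lf 0x16fd) (.lf 0))))) (.nd (.nd (.nd (.nd (.lf 0x135c) (.lf 0x8b6)) (.nd (.lf 0x642) (.lf 0))) (.nd (.nd (.lf 0x1a4) (.lf 0)) (.nd (.lf 0x1213) (.lf 0)))) (.nd (.nd (.nd (.lf 0x53d) (.lf 0)) (.nd (.lf 0x1746) (.lf 0))) (.nd (.nd (.lf 0x1d8) (.lf 0)) (.nd (.lf 0x21) (.lf 0)))))))
def phQ_nbaabab : Tr := (.nd (.nd (.nd (.nd (.nd (.nd (.lf 0x1a) (.lf 0x554)) (.nd (.lf 0x4d2) (.lf 0))) (.nd (.nd (.lf 0x150f) (.lf 0)) (.nd (.lf 0x133f) (.lf 0)))) (.nd (.nd (.nd (.lf 0x14f8) (.lf 0)) (.nd (.lf 0x1452) (.lf 0))) (.nd (.nd (.lf 0x5f6) (.lf 0)) (.nd (.lf 0x16be) (.lf 0))))) (.nd (.nd (.nd (.nd (.lf 0x189e) (.lf 0x1214)) (.nd (.lf 0x14f5) (.lf 0))) (.nd (.nd (.lf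 0x4dc) (.lf 0)) (.nd (.lf 0x11d5) (.lf 0)))) (.nd (.nd (.nd (.lf 0x7e4) (.lf 0)) (.nd (.lf 0x298) (.lf 0))) (.nd (.nd (.lf 0x15e2) (.lf 0)) (.nd (.lf 0x17c4) (.lf 0)))))) (.nd (.nd (.nd (.nd (.nd (.lf 0x1484) (.lf 0x81e)) (.nd (.lf 0x684) (.lf 0))) (.nd (.nd (.lf 0x16bd) (.lf 0)) (.nd (.lf 0x842) (.lf 0)))) (.nd (.nd (.nd (.lf 0x20f) (.lf 0)) (.nd (.lf 0x15bc) (.lf 0))) (.nd (.nd (.lf 0x15d7) (.lf 0)) (.nd (.lf 0x16a8) (.lf 0))))) (.nd (.nd (.nd (.nd (.lf 0x5f8) (.lf 0x871)) (.nd (.lf 0x10bc) (.lf 0))) (.nd (.nd (.lf 0x14bd) (.lf 0)) (.nd (.lf 0x797) (.lf 0)))) (.nd (.nd (.nd (.lf 0x3a5) (.lf 0)) (.nd (.lf 0x233) (.lf 0))) (.nd (.nd (.lf 0x1219) (.lf 0)) (.nd (.lf 0x6fe) (.lf 0)))))))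
def phQ_nbaabba : Tr := (.nd (.nd (.nd (.nd (.nd (.nd (.lf 0x1415) (.lf 0x137a)) (.nd (.lf 0x12b8) (.lf 0))) (.nd (.nd (.lf 0x255) (.lf 0)) (.nd (.lf 0x611) (.lf 0)))) (.nd (.nd (.nd (.lf 0x7a2) (.lf 0)) (.nd (.lf 0x836) (.lf 0))) (.nd (.nd (.lf 0x17e9) (.lf 0)) (.nd (.lf 0x1308) (.lf 0))))) (.nd (.nd (.nd (.nd (.lf 0x134c) (.lf 0x3f3)) (.nd (.lf 0x120) (.lf 0))) (.nd (.nd (.lf 0x1237) (.lf 0)) (.nd (.lf 0x437) (.lf 0)))) (.nd (.nd (.nd (.lf 0x18cd) (.lf 0)) (.nd (.lf 0x5bb) (.lf 0))) (.nd (.nd (.lf 0x696) (.lf 0)) (.nd (.lf 0x170f) (.lf 0)))))) (.nd (.nd (.nd (.nd (.nd (.lf 0x222) (.lf 0x257)) (.nd (.lf 0x319) (.lf 0))) (.nd (.nd (.lf 0x15e0) (.lf 0)) (.nd (.lf 0x333) (.lf 0)))) (.nd (.nd (.nd (.lf 0x228) (.lf 0))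 (.nd (.lf 0x712) (.lf 0))) (.nd (.nd (.lf 0x1855) (.lf 0)) (.nd (.lf 0x6de) (.lf 0))))) (.nd (.nd (.nd (.nd (.lf 0x108f) (.lf 0x1497)) (.nd (.lf 0x5f7) (.lf 0))) (.nd (.nd (.lf 0x1c2) (.lf 0)) (.nd (.lf 0x4d6) (.lf 0)))) (.nd (.nd (.nd (.lf 0x608) (.lf 0)) (.nd (.lf 0x1509) (.lf 0))) (.nd (.nd (.lf 0x1720) (.lf 0)) (.nd (.lf 0x7d2) (.lf 0)))))))
def phQ_nbaabbb : Tr := (.nd (.nd (.nd (.nd (.nd (.nd (.lf 0x1040) (.lf 0x1718)) (.nd (.lf 0x758) (.lf 0))) (.nd (.nd (.lf 0x150c) (.lf 0)) (.nd (.lf 0x1216) (.lf 0)))) (.nd (.nd (.nd (.lf 0x890) (.lf 0)) (.nd (.lf 0x816) (.lf 0))) (.nd (.nd (.lf 0x28) (.lf 0)) (.nd (.lf 0x18ef) (.lf 0))))) (.nd (.nd (.nd (.nd (.lf 0x273) (.lf 0x8b1)) (.nd (.lf 0x1377) (.lf 0))) (.nd (.nd (.lf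 0x18af) (.lf 0)) (.nd (.lf 0x12f4) (.lf 0)))) (.nd (.nd (.nd (.lf 0x176e) (.lf 0)) (.nd (.lf 0xb6) (.lf 0))) (.nd (.nd (.lf 0x142a) (.lf 0)) (.nd (.lf 0x4ec) (.lf 0)))))) (.nd (.nd (.nd (.nd (.nd (.lf 0x765) (.lf 0xe4)) (.nd (.lf 0x385) (.lf 0))) (.nd (.nd (.lf 0x5fc) (.lf 0)) (.nd (.lf 0x404) (.lf 0)))) (.nd (.nd (.nd (.lf 0x8cf) (.lf 0)) (.nd (.lf 0x2c5) (.lf 0))) (.nd (.nd (.lf 0x126a) (.lf 0)) (.nd (.lf 0x16b) (.lf 0))))) (.nd (.nd (.nd (.nd (.lf 0x180) (.lf 0x102f)) (.nd (.lf 0x3fc) (.lf 0))) (.nd (.nd (.lf 0x1537) (.lf 0)) (.nd (.lf 0x163c) (.lf 0)))) (.nd (.nd (.nd (.lf 0x15df) (.lf 0)) (.nd (.lf 0x152d) (.lf 0))) (.nd (.nd (.lf 0x14d9) (.lf 0)) (.nd (.lf 0x520) (.lf 0)))))))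
def phQ_nbabaaa : Tr := (.nd (.nd (.nd (.nd (.nd (.nd (.lf 0x0) (.lf 0x13bb)) (.nd (.lf 0x16de) (.lf 0))) (.nd (.nd (.lf 0x244) (.lf 0)) (.nd (.lf 0x11bc) (.lf 0)))) (.nd (.nd (.nd (.lf 0x39) (.lf 0)) (.nd (.lf 0x1531) (.lf 0))) (.nd (.nd (.lf 0x135d) (.lf 0)) (.nd (.lf 0x13b9) (.lf 0))))) (.nd (.nd (.nd (.nd (.lf 0x184) (.lf 0x5e6)) (.nd (.lf 0x158e) (.lf 0))) (.nd (.nd (.lf 0x356) (.lf 0)) (.nd (.lf 0x1094) (.lf 0)))) (.nd (.nd (.nd (.lf 0x141c) (.lf 0)) (.nd (.lf 0x64) (.lf 0))) (.nd (.nd (.lf 0x5ca) (.lf 0)) (.nd (.lf 0x60c) (.lf 0)))))) (.nd (.nd (.nd (.nd (.nd (.lf 0x16e6) (.lf 0x100a)) (.nd (.lf 0x1346) (.lf 0))) (.nd (.nd (.lf 0x61e) (.lf 0)) (.nd (.lf 0x150b) (.lf 0)))) (.nd (.nd (.nd (.lf 0x1151) (.lf 0))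 (.nd (.lf 0x18dd) (.lf 0))) (.nd (.nd (.lf 0x386) (.lf 0)) (.nd (.lf 0x131) (.lf 0))))) (.nd (.nd (.nd (.nd (.lf 0x11a2) (.lf 0x12f7)) (.nd (.lf 0x16aa) (.lf 0))) (.nd (.nd (.lf 0xe3) (.lf 0)) (.nd (.lf 0x52f) (.lf 0)))) (.nd (.nd (.nd (.lf 0x18dc) (.lf 0)) (.nd (.lf 0x40b) (.lf 0))) (.nd (.nd (.lf 0x307) (.lf 0)) (.nd (.lf 0x11c9) (.lf 0)))))))
def phQ_nbabaab : Tr := (.nd (.nd (.nd (.nd (.nd (.nd (.lf 0x18ba) (.lf 0x1426)) (.nd (.lf 0x5e1) (.lf 0))) (.nd (.nd (.lf 0x12e4) (.lf 0)) (.nd (.lf 0x1657) (.lf 0)))) (.nd (.nd (.nd (.lf 0x2) (.lf 0)) (.nd (.lf 0x71a) (.lf 0))) (.nd (.nd (.lf 0x10c6) (.lf 0)) (.nd (.lf 0x14c2) (.lf 0))))) (.nd (.nd (.nd (.nd (.lf 0x15a8) (.lf 0x311)) (.nd (.lf 0x3a8) (.lf 0))) (.nd (.nd (.lf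 0xc3) (.lf 0)) (.nd (.lf 0xa0) (.lf 0)))) (.nd (.nd (.nd (.lf 0x105b) (.lf 0)) (.nd (.lf 0x17e4) (.lf 0))) (.nd (.nd (.lf 0x4a4) (.lf 0)) (.nd (.lf 0x363) (.lf 0)))))) (.nd (.nd (.nd (.nd (.nd (.lf 0x8e9) (.lf 0x13e7)) (.nd (.lf 0x4c2) (.lf 0))) (.nd (.nd (.lf 0x7ce) (.lf 0)) (.nd (.lf 0x548) (.lf 0)))) (.nd (.nd (.nd (.lf 0x18de) (.lf 0)) (.nd (.lf 0x165e) (.lf 0))) (.nd (.nd (.lf 0x1249) (.lf 0)) (.nd (.lf 0x68d) (.lf 0))))) (.nd (.nd (.nd (.nd (.lf 0x1a9) (.lf 0x2df)) (.nd (.lf 0x1209) (.lf 0))) (.nd (.nd (.lf 0x1405) (.lf 0)) (.nd (.lf 0x13a9) (.lf 0)))) (.nd (.nd (.nd (.lf 0x18a4) (.lf 0)) (.nd (.lf 0x157a) (.lf 0))) (.nd (.nd (.lf 0x15f2) (.lf 0)) (.nd (.lf 0x3ca) (.lf 0)))))))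
def phQ_nbababa : Tr := (.nd (.nd (.nd (.nd (.nd (.nd (.lf 0x19c) (.lf 0x63c)) (.nd (.lf 0xfe) (.lf 0))) (.nd (.nd (.lf 0x1b1) (.lf 0)) (.nd (.lf 0x1334) (.lf 0)))) (.nd (.nd (.nd (.lf 0x2d6) (.lf 0)) (.nd (.lf 0x149) (.lf 0))) (.nd (.nd (.lf 0x16cf) (.lf 0)) (.nd (.lf 0x19) (.lf 0))))) (.nd (.nd (.nd (.nd (.lf 0x4d0) (.lf 0x33c)) (.nd (.lf 0x13e1) (.lf 0))) (.nd (.nd (.lf 0x2cc) (.lf 0)) (.nd (.lf 0x1173) (.lf 0)))) (.nd (.nd (.nd (.lf 0x6ea) (.lf 0)) (.nd (.lf 0x3b) (.lf 0))) (.nd (.nd (.lf 0x107f) (.lf 0)) (.nd (.lf 0xc5) (.lf 0)))))) (.nd (.nd (.nd (.nd (.nd (.lf 0x500) (.lf 0x1430)) (.nd (.lf 0x1c4) (.lf 0))) (.nd (.nd (.lf 0x23b) (.lf 0)) (.nd (.lf 0x1138) (.lf 0)))) (.nd (.nd (.nd (.lf 0x262) (.lf 0)) (.nd (.lf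 0x153a) (.lf 0))) (.nd (.nd (.lf 0x639) (.lf 0)) (.nd (.lf 0x70a) (.lf 0))))) (.nd (.nd (.nd (.nd (.lf 0x1538) (.lf 0x12a5)) (.nd (.lf 0x462) (.lf 0))) (.nd (.nd (.lf 0x1742) (.lf 0)) (.nd (.lf 0x100d) (.lf 0)))) (.nd (.nd (.nd (.lf 0x100c) (.lf 0)) (.nd (.lf 0x2cf) (.lf 0))) (.nd (.nd (.lf 0x88) (.lf 0)) (.nd (.lf 0x14aa) (.lf 0)))))))
def phQ_nbababb : Tr := (.nd (.nd (.nd (.nd (.nd (.nd (.lf 0x1367) (.lf 0x1688)) (.nd (.lf 0x15ca) (.lf 0))) (.nd (.nd (.lf 0x15b7) (.lf 0)) (.nd (.lf 0x609) (.lf 0)))) (.nd (.nd (.nd (.lf 0x13b0) (.lf 0)) (.nd (.lf 0x1783) (.lf 0))) (.nd (.nd (.lf 0x8c6) (.lf 0)) (.nd (.lf 0x1774) (.lf 0))))) (.nd (.nd (.nd (.nd (.lf 0x8bf) (.lf 0x162c)) (.nd (.lf 0x152c) (.lf 0))) (.nd (.nd (.lf 0x11af)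 (.lf 0)) (.nd (.lf 0x1413) (.lf 0)))) (.nd (.nd (.nd (.lf 0x5f2) (.lf 0)) (.nd (.lf 0x12f0) (.lf 0))) (.nd (.nd (.lf 0x14a3) (.lf 0)) (.nd (.lf 0x14a6) (.lf 0)))))) (.nd (.nd (.nd (.nd (.nd (.lf 0x13bc) (.lf 0x85e)) (.nd (.lf 0x6cc) (.lf 0))) (.nd (.nd (.lf 0x10d7) (.lf 0)) (.nd (.lf 0x364) (.lf 0)))) (.nd (.nd (.nd (.lf 0x1754) (.lf 0)) (.nd (.lf 0x1644) (.lf 0))) (.nd (.nd (.lf 0x30c) (.lf 0)) (.nd (.lf 0x1818) (.lf 0))))) (.nd (.nd (.nd (.nd (.lf 0x18d8) (.lf 0x10c2)) (.nd (.lf 0x82f) (.lf 0))) (.nd (.nd (.lf 0x1150) (.lf 0)) (.nd (.lf 0x138d) (.lf 0)))) (.nd (.nd (.nd (.lf 0x45f) (.lf 0)) (.nd (.lf 0x1529) (.lf 0))) (.nd (.nd (.lf 0x1294) (.lf 0)) (.nd (.lf 0x18aa) (.lf 0)))))))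
def phQ_nbabbaa : Tr := (.nd (.nd (.nd (.nd (.nd (.nd (.lf 0x24b) (.lf 0x39a)) (.nd (.lf 0x16d) (.lf 0))) (.nd (.nd (.lf 0x829) (.lf 0)) (.nd (.lf 0x195) (.lf 0)))) (.nd (.nd (.nd (.lf 0x11ba) (.lf 0)) (.nd (.lf 0x831) (.lf 0))) (.nd (.nd (.lf 0x13de) (.lf 0)) (.nd (.lf 0x120c) (.lf 0))))) (.nd (.nd (.nd (.nd (.lf 0x18d0) (.lf 0x13d3)) (.nd (.lf 0x18e) (.lf 0))) (.nd (.nd (.lf 0x1580) (.lf 0)) (.nd (.lf 0x1769) (.lf 0)))) (.nd (.nd (.nd (.lf 0x17f4) (.lf 0)) (.nd (.lf 0x35a) (.lf 0))) (.nd (.nd (.lf 0x29d) (.lf 0)) (.nd (.lf 0x598) (.lf 0)))))) (.nd (.nd (.nd (.nd (.nd (.lf 0x1291) (.lf 0x8ba)) (.nd (.lf 0x134a) (.lf 0))) (.nd (.nd (.lf 0x154c) (.lf 0)) (.nd (.lf 0x76e) (.lf 0)))) (.nd (.nd (.nd (.lf 0x131c) (.lf 0))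 (.nd (.lf 0x11c5) (.lf 0))) (.nd (.nd (.lf 0x1781) (.lf 0)) (.nd (.lf 0x26e) (.lf 0))))) (.nd (.nd (.nd (.nd (.lf 0x1281) (.lf 0x781)) (.nd (.lf 0x12c0) (.lf 0))) (.nd (.nd (.lf 0x1543) (.lf 0)) (.nd (.lf 0x663) (.lf 0)))) (.nd (.nd (.nd (.lf 0x1785) (.lf 0)) (.nd (.lf 0x4f6) (.lf 0))) (.nd (.nd (.lf 0x6e4) (.lf 0)) (.nd (.lf 0x409) (.lf 0)))))))
def phQ_nbabbab : Tr := (.nd (.nd (.nd (.nd (.nd (.nd (.lf 0x53a) (.lf 0x5d7)) (.nd (.lf 0x7c0) (.lf 0))) (.nd (.nd (.lf 0x5f1) (.lf 0)) (.nd (.lf 0x546) (.lf 0)))) (.nd (.nd (.nd (.lf 0x135f) (.lf 0)) (.nd (.lf 0x746) (.lf 0))) (.nd (.nd (.lf 0x15f0) (.lf 0)) (.nd (.lf 0x13eb) (.lf 0))))) (.nd (.nd (.nd (.nd (.lf 0x1444) (.lf 0x1202)) (.nd (.lf 0x26b) (.lf 0))) (.nd (.nd (.lf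 0x1330) (.lf 0)) (.nd (.lf 0x1851) (.lf 0)))) (.nd (.nd (.nd (.lf 0x3e1) (.lf 0)) (.nd (.lf 0x1477) (.lf 0))) (.nd (.nd (.lf 0x84b) (.lf 0)) (.nd (.lf 0x1161) (.lf 0)))))) (.nd (.nd (.nd (.nd (.nd (.lf 0xed) (.lf 0x11e4)) (.nd (.lf 0x18b5) (.lf 0))) (.nd (.nd (.lf 0x1696) (.lf 0)) (.nd (.lf 0x2dd) (.lf 0)))) (.nd (.nd (.nd (.lf 0x6e5) (.lf 0)) (.nd (.lf 0x106e) (.lf 0))) (.nd (.nd (.lf 0x1545) (.lf 0)) (.nd (.lf 0x179a) (.lf 0))))) (.nd (.nd (.nd (.nd (.lf 0xc) (.lf 0x69f)) (.nd (.lf 0x3d1) (.lf 0))) (.nd (.nd (.lf 0x146e) (.lf 0)) (.nd (.lf 0x127b) (.lf 0)))) (.nd (.nd (.nd (.lf 0x1174) (.lf 0)) (.nd (.lf 0x750) (.lf 0))) (.nd (.nd (.lf 0x1758) (.lf 0)) (.nd (.lf 0x16ab) (.lf 0)))))))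
def phQ_nbabbba : Tr := (.nd (.nd (.nd (.nd (.nd (.nd (.lf 0x1857) (.lf 0x4f9)) (.nd (.lf 0x697) (.lf 0))) (.nd (.nd (.lf 0x76) (.lf 0)) (.nd (.lf 0x172c) (.lf 0)))) (.nd (.nd (.nd (.lf 0x106f) (.lf 0)) (.nd (.lf 0x1615) (.lf 0))) (.nd (.nd (.lf 0x17eb) (.lf 0)) (.nd (.lf 0x169a) (.lf 0))))) (.nd (.nd (.nd (.nd (.lf 0xeb) (.lf 0x331)) (.nd (.lf 0xde) (.lf 0))) (.nd (.nd (.lf 0x1379) (.lf 0)) (.nd (.lf 0x63a) (.lf 0)))) (.nd (.nd (.nd (.lf 0x77a) (.lf 0)) (.nd (.lf 0x446) (.lf 0))) (.nd (.nd (.lf 0x640) (.lf 0)) (.nd (.lf 0x157) (.lf 0)))))) (.nd (.nd (.nd (.nd (.nd (.lf 0x1ad) (.lf 0x15d)) (.nd (.lf 0x6c5) (.lf 0))) (.nd (.nd (.lf 0x14e8) (.lf 0)) (.nd (.lf 0x1a5) (.lf 0)))) (.nd (.nd (.nd (.lf 0x18b2) (.lf 0)) (.nd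 (.lf 0x13fd) (.lf 0))) (.nd (.nd (.lf 0x1472) (.lf 0)) (.nd (.lf 0x11f1) (.lf 0))))) (.nd (.nd (.nd (.nd (.lf 0x160b) (.lf 0x72d)) (.nd (.lf 0x1256) (.lf 0))) (.nd (.nd (.lf 0x18fa) (.lf 0)) (.nd (.lf 0x791) (.lf 0)))) (.nd (.nd (.nd (.lf 0x12a) (.lf 0)) (.nd (.lf 0x6d) (.lf 0))) (.nd (.nd (.lf 0x314) (.lf 0)) (.nd (.lf 0x38e) (.lf 0)))))))
def phQ_nbabbbb : Tr := (.nd (.nd (.nd (.nd (.nd (.nd (.lf 0x830) (.lf 0x1274)) (.nd (.lf 0x8da) (.lf 0))) (.nd (.nd (.lf 0x1154) (.lf 0)) (.nd (.lf 0xce) (.lf 0)))) (.nd (.nd (.nd (.lf 0x8f9) (.lf 0)) (.nd (.lf 0x891) (.lf 0))) (.nd (.nd (.lf 0x15b3) (.lf 0)) (.nd (.lf 0x14bf) (.lf 0))))) (.nd (.nd (.nd (.nd (.lf 0x1c0) (.lf 0x1388)) (.nd (.lf 0x151f) (.lf 0))) (.nd (.nd (.lf 0x1581)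 (.lf 0)) (.nd (.lf 0x145a) (.lf 0)))) (.nd (.nd (.nd (.lf 0x18c2) (.lf 0)) (.nd (.lf 0x14bc) (.lf 0))) (.nd (.nd (.lf 0x1561) (.lf 0)) (.nd (.lf 0x163) (.lf 0)))))) (.nd (.nd (.nd (.nd (.nd (.lf 0x166b) (.lf 0x42c)) (.nd (.lf 0x340) (.lf 0))) (.nd (.nd (.lf 0x1118) (.lf 0)) (.nd (.lf 0x111b) (.lf 0)))) (.nd (.nd (.nd (.lf 0x11a4) (.lf 0)) (.nd (.lf 0x12e7) (.lf 0))) (.nd (.nd (.lf 0x14a5) (.lf 0)) (.nd (.lf 0x2c) (.lf 0))))) (.nd (.nd (.nd (.nd (.lf 0x1579) (.lf 0x3c2)) (.nd (.lf 0x3bd) (.lf 0))) (.nd (.nd (.lf 0x3f1) (.lf 0)) (.nd (.lf 0x7b6) (.lf 0)))) (.nd (.nd (.nd (.lf 0x5c0) (.lf 0)) (.nd (.lf 0x443) (.lf 0))) (.nd (.nd (.lf 0x1792) (.lf 0)) (.nd (.lf 0x601) (.lf 0)))))))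
def phQ_nbbaaaa : Tr := (.nd (.nd (.nd (.nd (.nd (.nd (.lf 0x0) (.lf 0x1562)) (.nd (.lf 0xff) (.lf 0))) (.nd (.nd (.lf 0x13ae) (.lf 0)) (.nd (.lf 0x14fb) (.lf 0)))) (.nd (.nd (.nd (.lf 0x1893) (.lf 0)) (.nd (.lf 0x1190) (.lf 0))) (.nd (.nd (.lf 0x110d) (.lf 0)) (.nd (.lf 0x287) (.lf 0))))) (.nd (.nd (.nd (.nd (.lf 0x1766) (.lf 0x182c)) (.nd (.lf 0x292) (.lf 0))) (.nd (.nd (.lf 0x1832) (.lf 0)) (.nd (.lf 0x163f) (.lf 0)))) (.nd (.nd (.nd (.lf 0x182b) (.lf 0)) (.nd (.lf 0x8d1) (.lf 0))) (.nd (.nd (.lf 0x16e5) (.lf 0)) (.nd (.lf 0x542) (.lf 0)))))) (.nd (.nd (.nd (.nd (.nd (.lf 0x1072) (.lf 0x7df)) (.nd (.lf 0x6a8) (.lf 0))) (.nd (.nd (.lf 0x117e) (.lf 0)) (.nd (.lf 0x1453) (.lf 0)))) (.nd (.nd (.nd (.lf 0x1220) (.lf 0))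 (.nd (.lf 0x41d) (.lf 0))) (.nd (.nd (.lf 0x16ee) (.lf 0)) (.nd (.lf 0x568) (.lf 0))))) (.nd (.nd (.nd (.nd (.lf 0x368) (.lf 0x1048)) (.nd (.lf 0x13e) (.lf 0))) (.nd (.nd (.lf 0x1003) (.lf 0)) (.nd (.lf 0x1032) (.lf 0)))) (.nd (.nd (.nd (.lf 0x5bc) (.lf 0)) (.nd (.lf 0x15cf) (.lf 0))) (.nd (.nd (.lf 0x1805) (.lf 0)) (.nd (.lf 0x114e) (.lf 0)))))))
def phQ_nbbaaab : Tr := (.nd (.nd (.nd (.nd (.nd (.nd (.lf 0x593) (.lf 0x10a7)) (.nd (.lf 0x3cd) (.lf 0))) (.nd (.nd (.lf 0x1494) (.lf 0)) (.nd (.lf 0x12ca) (.lf 0)))) (.nd (.nd (.nd (.lf 0x516) (.lf 0)) (.nd (.lf 0x16e1) (.lf 0))) (.nd (.nd (.lf 0x1505) (.lf 0)) (.nd (.lf 0x332) (.lf 0))))) (.nd (.nd (.nd (.nd (.lf 0x551) (.lf 0x14a7)) (.nd (.lf 0x1715) (.lf 0))) (.nd (.nd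 (.lf 0x893) (.lf 0)) (.nd (.lf 0x6ec) (.lf 0)))) (.nd (.nd (.nd (.lf 0x715) (.lf 0)) (.nd (.lf 0x1859) (.lf 0))) (.nd (.nd (.lf 0x2fc) (.lf 0)) (.nd (.lf 0x1741) (.lf 0)))))) (.nd (.nd (.nd (.nd (.nd (.lf 0x6da) (.lf 0x15b6)) (.nd (.lf 0x318) (.lf 0))) (.nd (.nd (.lf 0x12eb) (.lf 0)) (.nd (.lf 0x1558) (.lf 0)))) (.nd (.nd (.nd (.lf 0x177f) (.lf 0)) (.nd (.lf 0x1836) (.lf 0))) (.nd (.nd (.lf 0x1232) (.lf 0)) (.nd (.lf 0x18e1) (.lf 0))))) (.nd (.nd (.nd (.nd (.lf 0x159e) (.lf 0x104b)) (.nd (.lf 0x705) (.lf 0))) (.nd (.nd (.lf 0x14d0) (.lf 0)) (.nd (.lf 0x62c) (.lf 0)))) (.nd (.nd (.nd (.lf 0x18fc) (.lf 0)) (.nd (.lf 0x158b) (.lf 0))) (.nd (.nd (.lf 0x1625) (.lf 0)) (.nd (.lf 0x1194) (.lf 0)))))))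
def phQ_nbbaaba : Tr := (.nd (.nd (.nd (.nd (.nd (.nd (.lf 0x193) (.lf 0x798)) (.nd (.lf 0x17b) (.lf 0))) (.nd (.nd (.lf 0x40f) (.lf 0)) (.nd (.lf 0x5b) (.lf 0)))) (.nd (.nd (.nd (.lf 0x1605) (.lf 0)) (.nd (.lf 0x211) (.lf 0))) (.nd (.nd (.lf 0x1191) (.lf 0)) (.nd (.lf 0x1530) (.lf 0))))) (.nd (.nd (.nd (.nd (.lf 0x10fa) (.lf 0x1535)) (.nd (.lf 0x8f7) (.lf 0))) (.nd (.nd (.lf 0x880) (.lf 0)) (.nd (.lf 0x86b) (.lf 0)))) (.nd (.nd (.nd (.lf 0x177e) (.lf 0)) (.nd (.lf 0x34c) (.lf 0))) (.nd (.nd (.lf 0x12cb) (.lf 0)) (.nd (.lf 0x1203) (.lf 0)))))) (.nd (.nd (.nd (.nd (.nd (.lf 0xe2) (.lf 0x17da)) (.nd (.lf 0x87e) (.lf 0))) (.nd (.nd (.lf 0x772) (.lf 0)) (.nd (.lf 0x494) (.lf 0)))) (.nd (.nd (.nd (.lf 0x123f) (.lf 0)) (.nd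 (.lf 0x11c) (.lf 0))) (.nd (.nd (.lf 0x1499) (.lf 0)) (.nd (.lf 0x88d) (.lf 0))))) (.nd (.nd (.nd (.nd (.lf 0x407) (.lf 0x401)) (.nd (.lf 0x10fb) (.lf 0))) (.nd (.nd (.lf 0x214) (.lf 0)) (.nd (.lf 0x1116) (.lf 0)))) (.nd (.nd (.nd (.lf 0x3c6) (.lf 0)) (.nd (.lf 0x16fc) (.lf 0))) (.nd (.nd (.lf 0x541) (.lf 0)) (.nd (.lf 0xbc) (.lf 0)))))))
def phQ_nbbaabb : Tr := (.nd (.nd (.nd (.nd (.nd (.nd (.lf 0x6f8) (.lf 0x1752)) (.nd (.lf 0x794) (.lf 0))) (.nd (.nd (.lf 0x874) (.lf 0)) (.nd (.lf 0x69d) (.lf 0)))) (.nd (.nd (.nd (.lf 0x1178) (.lf 0)) (.nd (.lf 0x1b6) (.lf 0))) (.nd (.nd (.lf 0x103a) (.lf 0)) (.nd (.lf 0x174) (.lf 0))))) (.nd (.nd (.nd (.nd (.lf 0x1ee) (.lf 0x6d7)) (.nd (.lf 0x1503) (.lf 0))) (.nd (.nd (.lf 0x141d)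 (.lf 0)) (.nd (.lf 0x14e1) (.lf 0)))) (.nd (.nd (.nd (.lf 0x1002) (.lf 0)) (.nd (.lf 0x18a5) (.lf 0))) (.nd (.nd (.lf 0x200) (.lf 0)) (.nd (.lf 0x1631) (.lf 0)))))) (.nd (.nd (.nd (.nd (.nd (.lf 0x527) (.lf 0x755)) (.nd (.lf 0x198) (.lf 0))) (.nd (.nd (.lf 0x16f8) (.lf 0)) (.nd (.lf 0x18db) (.lf 0)))) (.nd (.nd (.nd (.lf 0x5db) (.lf 0)) (.nd (.lf 0x4de) (.lf 0))) (.nd (.nd (.lf 0x18a9) (.lf 0)) (.nd (.lf 0x1037) (.lf 0))))) (.nd (.nd (.nd (.nd (.lf 0x4ce) (.lf 0x1634)) (.nd (.lf 0x3b0) (.lf 0))) (.nd (.nd (.lf 0x657) (.lf 0)) (.nd (.lf 0x6e1) (.lf 0)))) (.nd (.nd (.nd (.lf 0x16d2) (.lf 0)) (.nd (.lf 0x15d9) (.lf 0))) (.nd (.nd (.lf 0x14f7) (.lf 0)) (.nd (.lf 0x1353) (.lf 0)))))))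
def phQ_nbbabaa : Tr := (.nd (.nd (.nd (.nd (.nd (.nd (.lf 0x4e5) (.lf 0x1030)) (.nd (.lf 0x17c9) (.lf 0))) (.nd (.nd (.lf 0x2e8) (.lf 0)) (.nd (.lf 0x848) (.lf 0)))) (.nd (.nd (.nd (.lf 0x1539) (.lf 0)) (.nd (.lf 0x870) (.lf 0))) (.nd (.nd (.lf 0x4b2) (.lf 0)) (.nd (.lf 0x785) (.lf 0))))) (.nd (.nd (.nd (.nd (.lf 0x440) (.lf 0x778)) (.nd (.lf 0x13ba) (.lf 0))) (.nd (.nd (.lf 0x17b2) (.lf 0)) (.nd (.lf 0x1110) (.lf 0)))) (.nd (.nd (.nd (.lf 0x163a) (.lf 0)) (.nd (.lf 0x12a3) (.lf 0))) (.nd (.nd (.lf 0x10ce) (.lf 0)) (.nd (.lf 0x120d) (.lf 0)))))) (.nd (.nd (.nd (.nd (.nd (.lf 0x29) (.lf 0x90)) (.nd (.lf 0x44) (.lf 0))) (.nd (.nd (.lf 0x2ca) (.lf 0)) (.nd (.lf 0x4d9) (.lf 0)))) (.nd (.nd (.nd (.lf 0x84c) (.lf 0)) (.nd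 (.lf 0x1172) (.lf 0))) (.nd (.nd (.lf 0x360) (.lf 0)) (.nd (.lf 0x111a) (.lf 0))))) (.nd (.nd (.nd (.nd (.lf 0x317) (.lf 0x10a0)) (.nd (.lf 0x103) (.lf 0))) (.nd (.nd (.lf 0x1556) (.lf 0)) (.nd (.lf 0x164f) (.lf 0)))) (.nd (.nd (.nd (.lf 0x6b3) (.lf 0)) (.nd (.lf 0x540) (.lf 0))) (.nd (.nd (.lf 0x4b1) (.lf 0)) (.nd (.lf 0x1788) (.lf 0)))))))
def phQ_nbbabab : Tr := (.nd (.nd (.nd (.nd (.nd (.nd (.lf 0x1231) (.lf 0x18f2)) (.nd (.lf 0x380) (.lf 0))) (.nd (.nd (.lf 0x776) (.lf 0)) (.nd (.lf 0x47) (.lf 0)))) (.nd (.nd (.nd (.lf 0x1406) (.lf 0)) (.nd (.lf 0x183e) (.lf 0))) (.nd (.nd (.lf 0x1016) (.lf 0)) (.nd (.lf 0x10e9) (.lf 0))))) (.nd (.nd (.nd (.nd (.lf 0x1221) (.lf 0x2d3)) (.nd (.lf 0x362) (.lf 0))) (.nd (.nd (.lf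 0x451) (.lf 0)) (.nd (.lf 0x1c7) (.lf 0)))) (.nd (.nd (.nd (.lf 0x558) (.lf 0)) (.nd (.lf 0x56b) (.lf 0))) (.nd (.nd (.lf 0x1277) (.lf 0)) (.nd (.lf 0x11d0) (.lf 0)))))) (.nd (.nd (.nd (.nd (.nd (.lf 0x1845) (.lf 0x54b)) (.nd (.lf 0x21d) (.lf 0))) (.nd (.nd (.lf 0x78f) (.lf 0)) (.nd (.lf 0x1e4) (.lf 0)))) (.nd (.nd (.nd (.lf 0x1244) (.lf 0)) (.nd (.lf 0x4f7) (.lf 0))) (.nd (.nd (.lf 0x17cf) (.lf 0)) (.nd (.lf 0x14cd) (.lf 0))))) (.nd (.nd (.nd (.nd (.lf 0x2f8) (.lf 0x12f2)) (.nd (.lf 0x17e8) (.lf 0))) (.nd (.nd (.lf 0x137c) (.lf 0)) (.nd (.lf 0x170e) (.lf 0)))) (.nd (.nd (.nd (.lf 0x165f) (.lf 0)) (.nd (.lf 0x175a) (.lf 0))) (.nd (.nd (.lf 0x4af) (.lf 0)) (.nd (.lf 0x1672) (.lf 0)))))))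
def phQ_nbbabba : Tr := (.nd (.nd (.nd (.nd (.nd (.nd (.lf 0x426) (.lf 0x159)) (.nd (.lf 0x12ad) (.lf 0))) (.nd (.nd (.lf 0x15c0) (.lf 0)) (.nd (.lf 0x188d) (.lf 0)))) (.nd (.nd (.nd (.lf 0x1100) (.lf 0)) (.nd (.lf 0x1880) (.lf 0))) (.nd (.nd (.lf 0x1311) (.lf 0)) (.nd (.lf 0x563) (.lf 0))))) (.nd (.nd (.nd (.nd (.lf 0x1804) (.lf 0x1004)) (.nd (.lf 0x13c2) (.lf 0))) (.nd (.nd (.lf 0x143b) (.lf 0)) (.nd (.lf 0x1839) (.lf 0)))) (.nd (.nd (.nd (.lf 0x1261) (.lf 0)) (.nd (.lf 0x4f3) (.lf 0))) (.nd (.nd (.lf 0x1d2) (.lf 0)) (.nd (.lf 0x351) (.lf 0)))))) (.nd (.nd (.nd (.nd (.nd (.lf 0x14e9) (.lf 0x14cc)) (.nd (.lf 0x357) (.lf 0))) (.nd (.nd (.lf 0x21a) (.lf 0)) (.nd (.lf 0x1289) (.lf 0)))) (.nd (.nd (.nd (.lf 0x1711) (.lf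 0)) (.nd (.lf 0x1716) (.lf 0))) (.nd (.nd (.lf 0x64b) (.lf 0)) (.nd (.lf 0x26a) (.lf 0))))) (.nd (.nd (.nd (.nd (.lf 0x188) (.lf 0x504)) (.nd (.lf 0x161) (.lf 0))) (.nd (.nd (.lf 0x651) (.lf 0)) (.nd (.lf 0xe5) (.lf 0)))) (.nd (.nd (.nd (.lf 0x10ec) (.lf 0)) (.nd (.lf 0x40a) (.lf 0))) (.nd (.nd (.lf 0x8c2) (.lf 0)) (.nd (.lf 0x175) (.lf 0)))))))
def phQ_nbbabbb : Tr := (.nd (.nd (.nd (.nd (.nd (.nd (.lf 0x100e) (.lf 0x454)) (.nd (.lf 0x334) (.lf 0))) (.nd (.nd (.lf 0x2ec) (.lf 0)) (.nd (.lf 0x14dc) (.lf 0)))) (.nd (.nd (.nd (.lf 0x3d2) (.lf 0)) (.nd (.lf 0x517) (.lf 0))) (.nd (.nd (.lf 0x1513) (.lf 0)) (.nd (.lf 0x5e8) (.lf 0))))) (.nd (.nd (.nd (.nd (.lf 0x1333) (.lf 0x414)) (.nd (.lf 0x1464) (.lf 0))) (.nd (.nd (.lf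 0x1745) (.lf 0)) (.nd (.lf 0x8c0) (.lf 0)))) (.nd (.nd (.nd (.lf 0x13bf) (.lf 0)) (.nd (.lf 0x1401) (.lf 0))) (.nd (.nd (.lf 0x7b5) (.lf 0)) (.nd (.lf 0x17e3) (.lf 0)))))) (.nd (.nd (.nd (.nd (.nd (.lf 0x1876) (.lf 0x118b)) (.nd (.lf 0x1636) (.lf 0))) (.nd (.nd (.lf 0x15db) (.lf 0)) (.nd (.lf 0x10f9) (.lf 0)))) (.nd (.nd (.nd (.lf 0x1073) (.lf 0)) (.nd (.lf 0x11b2) (.lf 0))) (.nd (.nd (.lf 0x1124) (.lf 0)) (.nd (.lf 0x1408) (.lf 0))))) (.nd (.nd (.nd (.nd (.lf 0x422) (.lf 0x4a0)) (.nd (.lf 0x6d2) (.lf 0))) (.nd (.nd (.lf 0x61d) (.lf 0)) (.nd (.lf 0x5b3) (.lf 0)))) (.nd (.nd (.nd (.lf 0x1684) (.lf 0)) (.nd (.lf 0x8d2) (.lf 0))) (.nd (.nd (.lf 0x648) (.lf 0)) (.nd (.lf 0x6f4) (.lf 0)))))))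
def phQ_nbbbaaa : Tr := (.nd (.nd (.nd (.nd (.nd (.nd (.lf 0x0) (.lf 0x1475)) (.nd (.lf 0x1149) (.lf 0))) (.nd (.nd (.lf 0x397) (.lf 0)) (.nd (.lf 0x5ad) (.lf 0)))) (.nd (.nd (.nd (.lf 0x5) (.lf 0)) (.nd (.lf 0xc6) (.lf 0))) (.nd (.nd (.lf 0x77f) (.lf 0)) (.nd (.lf 0x13f5) (.lf 0))))) (.nd (.nd (.nd (.nd (.lf 0x1887) (.lf 0x7b2)) (.nd (.lf 0x1463) (.lf 0))) (.nd (.nd (.lf 0x18b) (.lf 0)) (.nd (.lf 0x1412) (.lf 0)))) (.nd (.nd (.nd (.lf 0x1454) (.lf 0)) (.nd (.lf 0x1434) (.lf 0))) (.nd (.nd (.lf 0x402) (.lf 0)) (.nd (.lf 0x16b3) (.lf 0)))))) (.nd (.nd (.nd (.nd (.nd (.lf 0x124b) (.lf 0x16a7)) (.nd (.lf 0x18d3) (.lf 0))) (.nd (.nd (.lf 0x708) (.lf 0)) (.nd (.lf 0x10b) (.lf 0)))) (.nd (.nd (.nd (.lf 0x669) (.lf 0)) (.nd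 (.lf 0x1458) (.lf 0))) (.nd (.nd (.lf 0x658) (.lf 0)) (.nd (.lf 0x330) (.lf 0))))) (.nd (.nd (.nd (.nd (.lf 0x87c) (.lf 0x833)) (.nd (.lf 0x34a) (.lf 0))) (.nd (.nd (.lf 0x1510) (.lf 0)) (.nd (.lf 0x731) (.lf 0)))) (.nd (.nd (.nd (.lf 0x48a) (.lf 0)) (.nd (.lf 0x752) (.lf 0))) (.nd (.nd (.lf 0x18e2) (.lf 0)) (.nd (.lf 0x179e) (.lf 0)))))))
def phQ_nbbbaab : Tr := (.nd (.nd (.nd (.nd (.nd (.nd (.lf 0x8d0) (.lf 0x15a0)) (.nd (.lf 0x127) (.lf 0))) (.nd (.nd (.lf 0x48b) (.lf 0)) (.nd (.lf 0x1c3) (.lf 0)))) (.nd (.nd (.nd (.lf 0x1546) (.lf 0)) (.nd (.lf 0xe6) (.lf 0))) (.nd (.nd (.lf 0x1584) (.lf 0)) (.nd (.lf 0x1140) (.lf 0))))) (.nd (.nd (.nd (.nd (.lf 0x626) (.lf 0x13ac)) (.nd (.lf 0x57c) (.lf 0))) (.nd (.nd (.lf 0x1468)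 (.lf 0)) (.nd (.lf 0x1439) (.lf 0)))) (.nd (.nd (.nd (.lf 0x2ff) (.lf 0)) (.nd (.lf 0x1424) (.lf 0))) (.nd (.nd (.lf 0x508) (.lf 0)) (.nd (.lf 0x560) (.lf 0)))))) (.nd (.nd (.nd (.nd (.nd (.lf 0x17f9) (.lf 0x769)) (.nd (.lf 0x543) (.lf 0))) (.nd (.nd (.lf 0x665) (.lf 0)) (.nd (.lf 0x3c) (.lf 0)))) (.nd (.nd (.nd (.lf 0x468) (.lf 0)) (.nd (.lf 0x1896) (.lf 0))) (.nd (.nd (.lf 0x69c) (.lf 0)) (.nd (.lf 0x10c) (.lf 0))))) (.nd (.nd (.nd (.nd (.lf 0x6b4) (.lf 0xd6)) (.nd (.lf 0x7d3) (.lf 0))) (.nd (.nd (.lf 0x10b9) (.lf 0)) (.nd (.lf 0xa7) (.lf 0)))) (.nd (.nd (.nd (.lf 0x1441) (.lf 0)) (.nd (.lf 0x14f9) (.lf 0))) (.nd (.nd (.lf 0x135e) (.lf 0)) (.nd (.lf 0x44a) (.lf 0)))))))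
def phQ_nbbbaba : Tr := (.nd (.nd (.nd (.nd (.nd (.nd (.lf 0x16ed) (.lf 0x1db)) (.nd (.lf 0x5b6) (.lf 0))) (.nd (.nd (.lf 0x1368) (.lf 0)) (.nd (.lf 0x15fb) (.lf 0)))) (.nd (.nd (.nd (.lf 0x101f) (.lf 0)) (.nd (.lf 0x162) (.lf 0))) (.nd (.nd (.lf 0x5c5) (.lf 0)) (.nd (.lf 0x7b4) (.lf 0))))) (.nd (.nd (.nd (.nd (.lf 0x17b3) (.lf 0x3f)) (.nd (.lf 0x154f) (.lf 0))) (.nd (.nd (.lf 0x18b3) (.lf 0)) (.nd (.lf 0x114a) (.lf 0)))) (.nd (.nd (.nd (.lf 0x10b7) (.lf 0)) (.nd (.lf 0x234) (.lf 0))) (.nd (.nd (.lf 0x232) (.lf 0)) (.nd (.lf 0x171a) (.lf 0)))))) (.nd (.nd (.nd (.nd (.nd (.lf 0x105) (.lf 0x116f)) (.nd (.lf 0x106) (.lf 0))) (.nd (.nd (.lf 0x9) (.lf 0)) (.nd (.lf 0x16f4) (.lf 0)))) (.nd (.nd (.nd (.lf 0x4e9) (.lf 0)) (.nd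 (.lf 0x11a3) (.lf 0))) (.nd (.nd (.lf 0x10c5) (.lf 0)) (.nd (.lf 0x8e4) (.lf 0))))) (.nd (.nd (.nd (.nd (.lf 0x16b6) (.lf 0x11cc)) (.nd (.lf 0x2c3) (.lf 0))) (.nd (.nd (.lf 0x1504) (.lf 0)) (.nd (.lf 0x150d) (.lf 0)))) (.nd (.nd (.nd (.lf 0x15b9) (.lf 0)) (.nd (.lf 0x10c1) (.lf 0))) (.nd (.nd (.lf 0x11a5) (.lf 0)) (.nd (.lf 0x13a8) (.lf 0)))))))
def phQ_nbbbabb : Tr := (.nd (.nd (.nd (.nd (.nd (.nd (.lf 0x1365) (.lf 0x116)) (.nd (.lf 0x14de) (.lf 0))) (.nd (.nd (.lf 0x623) (.lf 0)) (.nd (.lf 0x6bd) (.lf 0)))) (.nd (.nd (.nd (.lf 0x512) (.lf 0)) (.nd (.lf 0x1005) (.lf 0))) (.nd (.nd (.lf 0x4c3) (.lf 0)) (.nd (.lf 0x150) (.lf 0))))) (.nd (.nd (.nd (.nd (.lf 0x12e) (.lf 0x116b)) (.nd (.lf 0x867) (.lf 0))) (.nd (.nd (.lf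 0x852) (.lf 0)) (.nd (.lf 0x83b) (.lf 0)))) (.nd (.nd (.nd (.lf 0x110f) (.lf 0)) (.nd (.lf 0x10dc) (.lf 0))) (.nd (.nd (.lf 0x36) (.lf 0)) (.nd (.lf 0x707) (.lf 0)))))) (.nd (.nd (.nd (.nd (.nd (.lf 0x59) (.lf 0x174b)) (.nd (.lf 0x183b) (.lf 0))) (.nd (.nd (.lf 0x1888) (.lf 0)) (.nd (.lf 0x17c0) (.lf 0)))) (.nd (.nd (.nd (.lf 0x11f0) (.lf 0)) (.nd (.lf 0x1da) (.lf 0))) (.nd (.nd (.lf 0x1243) (.lf 0)) (.nd (.lf 0x8e) (.lf 0))))) (.nd (.nd (.nd (.nd (.lf 0x1593) (.lf 0x1727)) (.nd (.lf 0x159f) (.lf 0))) (.nd (.nd (.lf 0x1324) (.lf 0)) (.nd (.lf 0x1479) (.lf 0)))) (.nd (.nd (.nd (.lf 0x7d5) (.lf 0)) (.nd (.lf 0x796) (.lf 0))) (.nd (.nd (.lf 0x460) (.lf 0)) (.nd (.lf 0x1125) (.lf 0)))))))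
def phQ_nbbbbaa : Tr := (.nd (.nd (.nd (.nd (.nd (.nd (.lf 0x1134) (.lf 0x13b5)) (.nd (.lf 0x1019) (.lf 0))) (.nd (.nd (.lf 0x15d3) (.lf 0)) (.nd (.lf 0xcf) (.lf 0)))) (.nd (.nd (.nd (.lf 0x1021) (.lf 0)) (.nd (.lf 0x43a) (.lf 0))) (.nd (.nd (.lf 0x75d) (.lf 0)) (.nd (.lf 0x77e) (.lf 0))))) (.nd (.nd (.nd (.nd (.lf 0x1ba) (.lf 0x824)) (.nd (.lf 0x12b4) (.lf 0))) (.nd (.nd (.lf 0x140f) (.lf 0)) (.nd (.lf 0x23f) (.lf 0)))) (.nd (.nd (.nd (.lf 0x338) (.lf 0)) (.nd (.lf 0x8e7) (.lf 0))) (.nd (.nd (.lf 0x464) (.lf 0)) (.nd (.lf 0x170c) (.lf 0)))))) (.nd (.nd (.nd (.nd (.nd (.lf 0x17ac) (.lf 0x50c)) (.nd (.lf 0x1380) (.lf 0))) (.nd (.nd (.lf 0x1576) (.lf 0)) (.nd (.lf 0x167f) (.lf 0)))) (.nd (.nd (.nd (.lf 0x7) (.lf 0)) (.nd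 (.lf 0x807) (.lf 0))) (.nd (.nd (.lf 0x289) (.lf 0)) (.nd (.lf 0x582) (.lf 0))))) (.nd (.nd (.nd (.nd (.lf 0x822) (.lf 0x18ea)) (.nd (.lf 0x155b) (.lf 0))) (.nd (.nd (.lf 0x154a) (.lf 0)) (.nd (.lf 0x175b) (.lf 0)))) (.nd (.nd (.nd (.lf 0x1611) (.lf 0)) (.nd (.lf 0x1705) (.lf 0))) (.nd (.nd (.lf 0x13dd) (.lf 0)) (.nd (.lf 0x6cb) (.lf 0)))))))
def phQ_nbbbbab : Tr := (.nd (.nd (.nd (.nd (.nd (.nd (.lf 0x13f7) (.lf 0x15f8)) (.nd (.lf 0x13f1) (.lf 0))) (.nd (.nd (.lf 0x1e3) (.lf 0)) (.nd (.lf 0x183f) (.lf 0)))) (.nd (.nd (.nd (.lf 0x81a) (.lf 0)) (.nd (.lf 0x537) (.lf 0))) (.nd (.nd (.lf 0x17be) (.lf 0)) (.nd (.lf 0x3eb) (.lf 0))))) (.nd (.nd (.nd (.nd (.lf 0x431) (.lf 0x38a)) (.nd (.lf 0x1310) (.lf 0))) (.nd (.nd (.lf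 0x1564) (.lf 0)) (.nd (.lf 0x63e) (.lf 0)))) (.nd (.nd (.nd (.lf 0x12b3) (.lf 0)) (.nd (.lf 0x2c0) (.lf 0))) (.nd (.nd (.lf 0x1bb) (.lf 0)) (.nd (.lf 0x1776) (.lf 0)))))) (.nd (.nd (.nd (.nd (.nd (.lf 0x1f1) (.lf 0x140a)) (.nd (.lf 0x62b) (.lf 0))) (.nd (.nd (.lf 0x1673) (.lf 0)) (.nd (.lf 0x812) (.lf 0)))) (.nd (.nd (.nd (.lf 0x6b1) (.lf 0)) (.nd (.lf 0x7c9) (.lf 0))) (.nd (.nd (.lf 0x1224) (.lf 0)) (.nd (.lf 0x39e) (.lf 0))))) (.nd (.nd (.nd (.nd (.lf 0x8c) (.lf 0x15f4)) (.nd (.lf 0x1103) (.lf 0))) (.nd (.nd (.lf 0x31c) (.lf 0)) (.nd (.lf 0x25d) (.lf 0)))) (.nd (.nd (.nd (.lf 0x19e) (.lf 0)) (.nd (.lf 0x189d) (.lf 0))) (.nd (.nd (.lf 0x14f) (.lf 0)) (.nd (.lf 0x514) (.lf 0)))))))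
def phQ_nbbbbba : Tr := (.nd (.nd (.nd (.nd (.nd (.nd (.lf 0x1437) (.lf 0x110c)) (.nd (.lf 0x272) (.lf 0))) (.nd (.nd (.lf 0x1575) (.lf 0)) (.nd (.lf 0x576) (.lf 0)))) (.nd (.nd (.nd (.lf 0x15c9) (.lf 0)) (.nd (.lf 0x13ef) (.lf 0))) (.nd (.nd (.lf 0x1459) (.lf 0)) (.nd (.lf 0x4b5) (.lf 0))))) (.nd (.nd (.nd (.nd (.lf 0x16c2) (.lf 0x7db)) (.nd (.lf 0x1ca) (.lf 0))) (.nd (.nd (.lf 0x2bd) (.lf 0)) (.nd (.lf 0x497) (.lf 0)))) (.nd (.nd (.nd (.lf 0x18c0) (.lf 0)) (.nd (.lf 0x42d) (.lf 0))) (.nd (.nd (.lf 0x6fb) (.lf 0)) (.nd (.lf 0x2da) (.lf 0)))))) (.nd (.nd (.nd (.nd (.nd (.lf 0x1351) (.lf 0x145)) (.nd (.lf 0x12c3) (.lf 0))) (.nd (.nd (.lf 0x10bf) (.lf 0)) (.nd (.lf 0xa) (.lf 0)))) (.nd (.nd (.nd (.lf 0x10d3) (.lf 0))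 (.nd (.lf 0x133c) (.lf 0))) (.nd (.nd (.lf 0x14ee) (.lf 0)) (.nd (.lf 0x13db) (.lf 0))))) (.nd (.nd (.nd (.nd (.lf 0x1403) (.lf 0x3ad)) (.nd (.lf 0x132d) (.lf 0))) (.nd (.nd (.lf 0x1158) (.lf 0)) (.nd (.lf 0x106d) (.lf 0)))) (.nd (.nd (.nd (.lf 0x122d) (.lf 0)) (.nd (.lf 0x14af) (.lf 0))) (.nd (.nd (.lf 0x33d) (.lf 0)) (.nd (.lf 0x12a0) (.lf 0)))))))
def phQ_nbbbbbb : Tr := (.nd (.nd (.nd (.nd (.nd (.nd (.lf 0x11fd) (.lf 0x44c)) (.nd (.lf 0x6d8) (.lf 0))) (.nd (.nd (.lf 0x3ab) (.lf 0)) (.nd (.lf 0x1186) (.lf 0)))) (.nd (.nd (.nd (.lf 0x81b) (.lf 0)) (.nd (.lf 0x701) (.lf 0))) (.nd (.nd (.lf 0x7f2) (.lf 0)) (.nd (.lf 0x160c) (.lf 0))))) (.nd (.nd (.nd (.nd (.lf 0x1266) (.lf 0x18e7)) (.nd (.lf 0x30e) (.lf 0))) (.nd (.nd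 (.lf 0x588) (.lf 0)) (.nd (.lf 0x1264) (.lf 0)))) (.nd (.nd (.nd (.lf 0x156f) (.lf 0)) (.nd (.lf 0x172) (.lf 0))) (.nd (.nd (.lf 0x18a1) (.lf 0)) (.nd (.lf 0x7e) (.lf 0)))))) (.nd (.nd (.nd (.nd (.nd (.lf 0x1655) (.lf 0x239)) (.nd (.lf 0x1fd) (.lf 0))) (.nd (.nd (.lf 0x1488) (.lf 0)) (.nd (.lf 0x2a0) (.lf 0)))) (.nd (.nd (.nd (.lf 0x1e2) (.lf 0)) (.nd (.lf 0x79a) (.lf 0))) (.nd (.nd (.lf 0x64a) (.lf 0)) (.nd (.lf 0x17b6) (.lf 0))))) (.nd (.nd (.nd (.nd (.lf 0x4df) (.lf 0x3d9)) (.nd (.lf 0x1585) (.lf 0))) (.nd (.nd (.lf 0x5dd) (.lf 0)) (.nd (.lf 0x4d1) (.lf 0)))) (.nd (.nd (.nd (.lf 0x1597) (.lf 0)) (.nd (.lf 0x1f) (.lf 0))) (.nd (.nd (.lf 0x1520) (.lf 0)) (.nd (.lf 0x1076) (.lf 0)))))))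
def phQ : Tr := (.nd (.nd (.nd (.nd (.nd (.nd phQ_naaaaaa phQ_naaaaab) (.nd phQ_naaaaba phQ_naaaabb)) (.nd (.nd phQ_naaabaa phQ_naaabab) (.nd phQ_naaabba phQ_naaabbb))) (.nd (.nd (.nd phQ_naabaaa phQ_naabaab) (.nd phQ_naababa phQ_naababb)) (.nd (.nd phQ_naabbaa phQ_naabbab) (.nd phQ_naabbba phQ_naabbbb)))) (.nd (.nd (.nd (.nd phQ_nabaaaa phQ_nabaaab) (.nd phQ_nabaaba phQ_nabaabb)) (.nd (.nd phQ_nababaa phQ_nababab) (.nd phQ_nababba phQ_nababbb))) (.nd (.nd (.nd phQ_nabbaaa phQ_nabbaab) (.nd phQ_nabbaba phQ_nabbabb)) (.nd (.nd phQ_nabbbaa phQ_nabbbab) (.nd phQ_nabbbba phQ_nabbbbb))))) (.nd (.nd (.nd (.nd (.nd phQ_nbaaaaa phQ_nbaaaab) (.nd phQ_nbaaaba phQ_nbaaabb)) (.nd (.nd phQ_nbaabaa phQ_nbaabab) (.nd phQ_nbaabba phQ_nbaabbb)))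 (.nd (.nd (.nd phQ_nbabaaa phQ_nbabaab) (.nd phQ_nbababa phQ_nbababb)) (.nd (.nd phQ_nbabbaa phQ_nbabbab) (.nd phQ_nbabbba phQ_nbabbbb)))) (.nd (.nd (.nd (.nd phQ_nbbaaaa phQ_nbbaaab) (.nd phQ_nbbaaba phQ_nbbaabb)) (.nd (.nd phQ_nbbabaa phQ_nbbabab) (.nd phQ_nbbabba phQ_nbbabbb))) (.nd (.nd (.nd phQ_nbbbaaa phQ_nbbbaab) (.nd phQ_nbbbaba phQ_nbbbabb)) (.nd (.nd phQ_nbbbbaa phQ_nbbbbab) (.nd phQ_nbbbbba phQ_nbbbbbb))))))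
def sizeQ : List ℕ := [1, 300, 325, 300, 975, 78, 325]
def repQ : List ℕ := [0, 1, 3, 4, 5, 7, 10]
def labA_naaaaa : Tr := (.nd (.nd (.nd (.nd (.nd (.nd (.lf 0x0) (.lf 0x1)) (.nd (.lf 0x2) (.lf 0x1))) (.nd (.nd (.lf 0x3) (.lf 0x3)) (.nd (.lf 0x3) (.lf 0)))) (.nd (.nd (.nd (.lf 0x1) (.lf 0x1)) (.nd (.lf 0x3) (.lf 0x3))) (.nd (.nd (.lf 0x3) (.lf 0x1)) (.nd (.lf 0x1) (.lf 0))))) (.nd (.nd (.nd (.nd (.lf 0x3) (.lf 0x1)) (.nd (.lf 0x1) (.lf 0x3))) (.nd (.nd (.lf 0x3) (.lf 0x1)) (.nd (.lf 0x3) (.lf 0)))) (.nd (.nd (.nd (.lf 0x3) (.lf 0x1)) (.nd (.lf 0x1) (.lf 0x3))) (.nd (.nd (.lf 0x1) (.lf 0x3)) (.nd (.lf 0x3) (.lf 0)))))) (.nd (.nd (.nd (.nd (.nd (.lf 0x1) (.lf 0x3)) (.nd (.lf 0x1) (.lf 0x1))) (.nd (.nd (.lf 0x1) (.lf 0x1))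 (.nd (.lf 0x3) (.lf 0)))) (.nd (.nd (.nd (.lf 0x1) (.lf 0x3)) (.nd (.lf 0x3) (.lf 0x3))) (.nd (.nd (.lf 0x3) (.lf 0x1)) (.nd (.lf 0x3) (.lf 0))))) (.nd (.nd (.nd (.nd (.lf 0x3) (.lf 0x1)) (.nd (.lf 0x1) (.lf 0x3))) (.nd (.nd (.lf 0x1) (.lf 0x3)) (.nd (.lf 0x3) (.lf 0)))) (.nd (.nd (.nd (.lf 0x3) (.lf 0x1)) (.nd (.lf 0x3) (.lf 0))) (.nd (.nd (.lf 0x3) (.lf 0x3)) (.nd (.lf 0x3) (.lf 0)))))))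
def labA_naaaab : Tr := (.nd (.nd (.nd (.nd (.nd (.nd (.lf 0x3) (.lf 0x1)) (.nd (.lf 0x3) (.lf 0x3))) (.nd (.nd (.lf 0x1) (.lf 0x3)) (.nd (.lf 0x3) (.lf 0)))) (.nd (.nd (.nd (.lf 0x3) (.lf 0x1)) (.nd (.lf 0x3) (.lf 0x3))) (.nd (.nd (.lf 0x1) (.lf 0x3)) (.nd (.lf 0x3) (.lf 0))))) (.nd (.nd (.nd (.nd (.lf 0x3) (.lf 0x2)) (.nd (.lf 0x1) (.lf 0x3))) (.nd (.nd (.lf 0x1) (.lf 0x3)) (.nd (.lf 0x3) (.lf 0)))) (.nd (.nd (.nd (.lf 0x3) (.lf 0x1)) (.nd (.lf 0x3) (.lf 0x1))) (.nd (.nd (.lf 0x3) (.lf 0x1)) (.nd (.lf 0x3) (.lf 0)))))) (.nd (.nd (.nd (.nd (.nd (.lf 0x3) (.lf 0x3)) (.nd (.lf 0x3) (.lf 0x3))) (.nd (.nd (.lf 0x3) (.lf 0x3)) (.nd (.lf 0x3) (.lf 0)))) (.nd (.nd (.nd (.lf 0x3) (.lf 0x3)) (.nd (.lf 0x1) (.lf 0x1))) (.nd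 (.nd (.lf 0x2) (.lf 0x3)) (.nd (.lf 0x3) (.lf 0))))) (.nd (.nd (.nd (.nd (.lf 0x1) (.lf 0x1)) (.nd (.lf 0x3) (.lf 0x3))) (.nd (.nd (.lf 0x1) (.lf 0x3)) (.nd (.lf 0x3) (.lf 0)))) (.nd (.nd (.nd (.lf 0x1) (.lf 0x1)) (.nd (.lf 0x1) (.lf 0))) (.nd (.nd (.lf 0x3) (.lf 0x3)) (.nd (.lf 0x1) (.lf 0)))))))
def labA_naaaba : Tr := (.nd (.nd (.nd (.nd (.nd (.nd (.lf 0x3) (.lf 0x3)) (.nd (.lf 0x3) (.lf 0x3))) (.nd (.nd (.lf 0x3) (.lf 0x3)) (.nd (.lf 0x1) (.lf 0)))) (.nd (.nd (.nd (.lf 0x3) (.lf 0x3)) (.nd (.lf 0x1) (.lf 0x1))) (.nd (.nd (.lf 0x3) (.lf 0x1)) (.nd (.lf 0x3) (.lf 0))))) (.nd (.nd (.nd (.nd (.lf 0x1) (.lf 0x1)) (.nd (.lf 0x3) (.lf 0x1))) (.nd (.nd (.lf 0x3) (.lf 0x1)) (.nd (.lf 0x3) (.lf 0)))) (.nd (.nd (.nd (.lf 0x3)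 (.lf 0x3)) (.nd (.lf 0x3) (.lf 0x3))) (.nd (.nd (.lf 0x3) (.lf 0x1)) (.nd (.lf 0x2) (.lf 0)))))) (.nd (.nd (.nd (.nd (.nd (.lf 0x1) (.lf 0x3)) (.nd (.lf 0x3) (.lf 0x3))) (.nd (.nd (.lf 0x3) (.lf 0x1)) (.nd (.lf 0x1) (.lf 0)))) (.nd (.nd (.nd (.lf 0x1) (.lf 0x3)) (.nd (.lf 0x1) (.lf 0x1))) (.nd (.nd (.lf 0x3) (.lf 0x3)) (.nd (.lf 0x1) (.lf 0))))) (.nd (.nd (.nd (.nd (.lf 0x1) (.lf 0x1)) (.nd (.lf 0x1) (.lf 0x1))) (.nd (.nd (.lf 0x1) (.lf 0x3)) (.nd (.lf 0x3) (.lf 0)))) (.nd (.nd (.nd (.lf 0x3) (.lf 0x3)) (.nd (.lf 0x1) (.lf 0))) (.nd (.nd (.lf 0x3) (.lf 0x1)) (.nd (.lf 0x3) (.lf 0)))))))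
def labA_naaabb : Tr := (.nd (.nd (.nd (.nd (.nd (.nd (.lf 0x1) (.lf 0x3)) (.nd (.lf 0x1) (.lf 0x3))) (.nd (.nd (.lf 0x3) (.lf 0x3)) (.nd (.lf 0x3) (.lf 0)))) (.nd (.nd (.nd (.lf 0x3) (.lf 0x1)) (.nd (.lf 0x1) (.lf 0x1))) (.nd (.nd (.lf 0x1) (.lf 0x3)) (.nd (.lf 0x3) (.lf 0))))) (.nd (.nd (.nd (.nd (.lf 0x3) (.lf 0x3)) (.nd (.lf 0x1) (.lf 0x1))) (.nd (.nd (.lf 0x3) (.lf 0x3)) (.nd (.lf 0x1) (.lf 0)))) (.nd (.nd (.nd (.lf 0x3) (.lf 0x1)) (.nd (.lf 0x3) (.lf 0x3))) (.nd (.nd (.lf 0x3) (.lf 0x3)) (.nd (.lf 0x3) (.lf 0)))))) (.nd (.nd (.nd (.nd (.nd (.lf 0x1) (.lf 0x3)) (.nd (.lf 0x3) (.lf 0x1))) (.nd (.nd (.lf 0x3) (.lf 0x3)) (.nd (.lf 0x1) (.lf 0)))) (.nd (.nd (.nd (.lf 0x3) (.lf 0x1)) (.nd (.lf 0x1) (.lf 0x1))) (.nd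 (.nd (.lf 0x3) (.lf 0x1)) (.nd (.lf 0x3) (.lf 0))))) (.nd (.nd (.nd (.nd (.lf 0x2) (.lf 0x1)) (.nd (.lf 0x3) (.lf 0x1))) (.nd (.nd (.lf 0x3) (.lf 0x3)) (.nd (.lf 0x3) (.lf 0)))) (.nd (.nd (.nd (.lf 0x3) (.lf 0x3)) (.nd (.lf 0x1) (.lf 0))) (.nd (.nd (.lf 0x3) (.lf 0x2)) (.nd (.lf 0x3) (.lf 0)))))))
def labA_naabaa : Tr := (.nd (.nd (.nd (.nd (.nd (.nd (.lf 0x3) (.lf 0x2)) (.nd (.lf 0x1) (.lf 0x1))) (.nd (.nd (.lf 0x1) (.lf 0x3)) (.nd (.lf 0x1) (.lf 0)))) (.nd (.nd (.nd (.lf 0x1) (.lf 0x1)) (.nd (.lf 0x3) (.lf 0x1))) (.nd (.nd (.lf 0x3) (.lf 0x1)) (.nd (.lf 0x3) (.lf 0))))) (.nd (.nd (.nd (.nd (.lf 0x3) (.lf 0x3)) (.nd (.lf 0x1) (.lf 0x1))) (.nd (.nd (.lf 0x1) (.lf 0x3)) (.nd (.lf 0x1) (.lf 0)))) (.nd (.nd (.nd (.lf 0x3)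 (.lf 0x1)) (.nd (.lf 0x3) (.lf 0x3))) (.nd (.nd (.lf 0x1) (.lf 0x3)) (.nd (.lf 0x3) (.lf 0)))))) (.nd (.nd (.nd (.nd (.nd (.lf 0x1) (.lf 0x3)) (.nd (.lf 0x1) (.lf 0x1))) (.nd (.nd (.lf 0x3) (.lf 0x3)) (.nd (.lf 0x3) (.lf 0)))) (.nd (.nd (.nd (.lf 0x3) (.lf 0x3)) (.nd (.lf 0x3) (.lf 0x3))) (.nd (.nd (.lf 0x1) (.lf 0x1)) (.nd (.lf 0x1) (.lf 0))))) (.nd (.nd (.nd (.nd (.lf 0x3) (.lf 0x1)) (.nd (.lf 0x1) (.lf 0x3))) (.nd (.nd (.lf 0x3) (.lf 0x1)) (.nd (.lf 0x1) (.lf 0)))) (.nd (.nd (.nd (.lf 0x3) (.lf 0x3)) (.nd (.lf 0x3) (.lf 0))) (.nd (.nd (.lf 0x3) (.lf 0x3)) (.nd (.lf 0x3) (.lf 0)))))))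
def labA_naabab : Tr := (.nd (.nd (.nd (.nd (.nd (.nd (.lf 0x3) (.lf 0x1)) (.nd (.lf 0x3) (.lf 0x1))) (.nd (.nd (.lf 0x1) (.lf 0x3)) (.nd (.lf 0x1) (.lf 0)))) (.nd (.nd (.nd (.lf 0x3) (.lf 0x1)) (.nd (.lf 0x1) (.lf 0x1))) (.nd (.nd (.lf 0x3) (.lf 0x3)) (.nd (.lf 0x3) (.lf 0))))) (.nd (.nd (.nd (.nd (.lf 0x2) (.lf 0x3)) (.nd (.lf 0x1) (.lf 0x1))) (.nd (.nd (.lf 0x2) (.lf 0x3)) (.nd (.lf 0x2) (.lf 0)))) (.nd (.nd (.nd (.lf 0x1) (.lf 0x3)) (.nd (.lf 0x3) (.lf 0x1))) (.nd (.nd (.lf 0x2) (.lf 0x1)) (.nd (.lf 0x3) (.lf 0)))))) (.nd (.nd (.nd (.nd (.nd (.lf 0x3) (.lf 0x1)) (.nd (.lf 0x1) (.lf 0x3))) (.nd (.nd (.lf 0x3) (.lf 0x1)) (.nd (.lf 0x1) (.lf 0)))) (.nd (.nd (.nd (.lf 0x3) (.lf 0x1)) (.nd (.lf 0x3) (.lf 0x1))) (.nd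 (.nd (.lf 0x3) (.lf 0x3)) (.nd (.lf 0x1) (.lf 0))))) (.nd (.nd (.nd (.nd (.lf 0x1) (.lf 0x3)) (.nd (.lf 0x3) (.lf 0x3))) (.nd (.nd (.lf 0x4) (.lf 0x3)) (.nd (.lf 0x3) (.lf 0)))) (.nd (.nd (.nd (.lf 0x3) (.lf 0x1)) (.nd (.lf 0x3) (.lf 0))) (.nd (.nd (.lf 0x3) (.lf 0x3)) (.nd (.lf 0x4) (.lf 0)))))))
def labA_naabba : Tr := (.nd (.nd (.nd (.nd (.nd (.nd (.lf 0x1) (.lf 0x3)) (.nd (.lf 0x3) (.lf 0x3))) (.nd (.nd (.lf 0x3) (.lf 0x4)) (.nd (.lf 0x3) (.lf 0)))) (.nd (.nd (.nd (.lf 0x3) (.lf 0x3)) (.nd (.lf 0x1) (.lf 0x1))) (.nd (.nd (.lf 0x3) (.lf 0x1)) (.nd (.lf 0x3) (.lf 0))))) (.nd (.nd (.nd (.nd (.lf 0x3) (.lf 0x3)) (.nd (.lf 0x3) (.lf 0x3))) (.nd (.nd (.lf 0x2) (.lf 0x1)) (.nd (.lf 0x1) (.lf 0)))) (.nd (.nd (.nd (.lf 0x1)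 (.lf 0x3)) (.nd (.lf 0x3) (.lf 0x3))) (.nd (.nd (.lf 0x3) (.lf 0x3)) (.nd (.lf 0x2) (.lf 0)))))) (.nd (.nd (.nd (.nd (.nd (.lf 0x3) (.lf 0x1)) (.nd (.lf 0x3) (.lf 0x1))) (.nd (.nd (.lf 0x1) (.lf 0x3)) (.nd (.lf 0x3) (.lf 0)))) (.nd (.nd (.nd (.lf 0x3) (.lf 0x3)) (.nd (.lf 0x3) (.lf 0x3))) (.nd (.nd (.lf 0x1) (.lf 0x1)) (.nd (.lf 0x1) (.lf 0))))) (.nd (.nd (.nd (.nd (.lf 0x1) (.lf 0x3)) (.nd (.lf 0x3) (.lf 0x3))) (.nd (.nd (.lf 0x1) (.lf 0x1)) (.nd (.lf 0x3) (.lf 0)))) (.nd (.nd (.nd (.lf 0x3) (.lf 0x3)) (.nd (.lf 0x1) (.lf 0))) (.nd (.nd (.lf 0x1) (.lf 0x3)) (.nd (.lf 0x3) (.lf 0)))))))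
def labA_naabbb : Tr := (.nd (.nd (.nd (.nd (.nd (.nd (.lf 0x1) (.lf 0x1)) (.nd (.lf 0x3) (.lf 0x3))) (.nd (.nd (.lf 0x3) (.lf 0x3)) (.nd (.lf 0x1) (.lf 0)))) (.nd (.nd (.nd (.lf 0x1) (.lf 0x4)) (.nd (.lf 0x3) (.lf 0x1))) (.nd (.nd (.lf 0x2) (.lf 0x1)) (.nd (.lf 0x3) (.lf 0))))) (.nd (.nd (.nd (.nd (.lf 0x3) (.lf 0x3)) (.nd (.lf 0x1) (.lf 0x3))) (.nd (.nd (.lf 0x1) (.lf 0x3)) (.nd (.lf 0x1) (.lf 0)))) (.nd (.nd (.nd (.lf 0x3) (.lf 0x3)) (.nd (.lf 0x3) (.lf 0))) (.nd (.nd (.lf 0x1) (.lf 0x3)) (.nd (.lf 0x3) (.lf 0)))))) (.nd (.nd (.nd (.nd (.nd (.lf 0x3) (.lf 0x3)) (.nd (.lf 0x3) (.lf 0x3))) (.nd (.nd (.lf 0x3) (.lf 0x3)) (.nd (.lf 0x1) (.lf 0)))) (.nd (.nd (.nd (.lf 0x1) (.lf 0x3)) (.nd (.lf 0x1) (.lf 0x1))) (.nd (.nd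 (.lf 0x1) (.lf 0x3)) (.nd (.lf 0x3) (.lf 0))))) (.nd (.nd (.nd (.nd (.lf 0x1) (.lf 0x3)) (.nd (.lf 0x1) (.lf 0x1))) (.nd (.nd (.lf 0x3) (.lf 0x1)) (.nd (.lf 0x3) (.lf 0)))) (.nd (.nd (.nd (.lf 0x3) (.lf 0x1)) (.nd (.lf 0x3) (.lf 0))) (.nd (.nd (.lf 0x1) (.lf 0x3)) (.nd (.lf 0x3) (.lf 0)))))))
def labA_nabaaa : Tr := (.nd (.nd (.nd (.nd (.nd (.nd (.lf 0x2) (.lf 0x3)) (.nd (.lf 0x3) (.lf 0x3))) (.nd (.nd (.lf 0x3) (.lf 0x1)) (.nd (.lf 0x3) (.lf 0)))) (.nd (.nd (.nd (.lf 0x3) (.lf 0x3)) (.nd (.lf 0x1) (.lf 0x3))) (.nd (.nd (.lf 0x3) (.lf 0x3)) (.nd (.lf 0x3) (.lf 0))))) (.nd (.nd (.nd (.nd (.lf 0x1) (.lf 0x3)) (.nd (.lf 0x3) (.lf 0x3))) (.nd (.nd (.lf 0x3) (.lf 0x3)) (.nd (.lf 0x3) (.lf 0)))) (.nd (.nd (.nd (.lf 0x3) (.lf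 0x3)) (.nd (.lf 0x1) (.lf 0x3))) (.nd (.nd (.lf 0x1) (.lf 0x1)) (.nd (.lf 0x1) (.lf 0)))))) (.nd (.nd (.nd (.nd (.nd (.lf 0x3) (.lf 0x3)) (.nd (.lf 0x3) (.lf 0x3))) (.nd (.nd (.lf 0x1) (.lf 0x1)) (.nd (.lf 0x3) (.lf 0)))) (.nd (.nd (.nd (.lf 0x3) (.lf 0x3)) (.nd (.lf 0x3) (.lf 0x3))) (.nd (.nd (.lf 0x3) (.lf 0x1)) (.nd (.lf 0x3) (.lf 0))))) (.nd (.nd (.nd (.nd (.lf 0x1) (.lf 0x3)) (.nd (.lf 0x3) (.lf 0x3))) (.nd (.nd (.lf 0x3) (.lf 0x1)) (.nd (.lf 0x3) (.lf 0)))) (.nd (.nd (.nd (.lf 0x3) (.lf 0x1)) (.nd (.lf 0x1) (.lf 0))) (.nd (.nd (.lf 0x3) (.lf 0x1)) (.nd (.lf 0x3) (.lf 0)))))))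
def labA_nabaab : Tr := (.nd (.nd (.nd (.nd (.nd (.nd (.lf 0x2) (.lf 0x3)) (.nd (.lf 0x3) (.lf 0x3))) (.nd (.nd (.lf 0x1) (.lf 0x1)) (.nd (.lf 0x1) (.lf 0)))) (.nd (.nd (.nd (.lf 0x2) (.lf 0x1)) (.nd (.lf 0x1) (.lf 0x3))) (.nd (.nd (.lf 0x1) (.lf 0x3)) (.nd (.lf 0x1) (.lf 0))))) (.nd (.nd (.nd (.nd (.lf 0x1) (.lf 0x1)) (.nd (.lf 0x3) (.lf 0x3))) (.nd (.nd (.lf 0x1) (.lf 0x1)) (.nd (.lf 0x1) (.lf 0)))) (.nd (.nd (.nd (.lf 0x3) (.lf 0x1)) (.nd (.lf 0x3) (.lf 0x1))) (.nd (.nd (.lf 0x1) (.lf 0x3)) (.nd (.lf 0x3) (.lf 0)))))) (.nd (.nd (.nd (.nd (.nd (.lf 0x1) (.lf 0x3)) (.nd (.lf 0x3) (.lf 0x1))) (.nd (.nd (.lf 0x1) (.lf 0x1)) (.nd (.lf 0x3) (.lf 0)))) (.nd (.nd (.nd (.lf 0x3) (.lf 0x3)) (.nd (.lf 0x3) (.lf 0x1))) (.nd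 (.nd (.lf 0x1) (.lf 0x1)) (.nd (.lf 0x1) (.lf 0))))) (.nd (.nd (.nd (.nd (.lf 0x3) (.lf 0x3)) (.nd (.lf 0x2) (.lf 0x3))) (.nd (.nd (.lf 0x1) (.lf 0x3)) (.nd (.lf 0x3) (.lf 0)))) (.nd (.nd (.nd (.lf 0x1) (.lf 0x3)) (.nd (.lf 0x3) (.lf 0))) (.nd (.nd (.lf 0x1) (.lf 0x3)) (.nd (.lf 0x3) (.lf 0)))))))
def labA_nababa : Tr := (.nd (.nd (.nd (.nd (.nd (.nd (.lf 0x1) (.lf 0x1)) (.nd (.lf 0x3) (.lf 0x1))) (.nd (.nd (.lf 0x4) (.lf 0x1)) (.nd (.lf 0x1) (.lf 0)))) (.nd (.nd (.nd (.lf 0x3) (.lf 0x1)) (.nd (.lf 0x1) (.lf 0x1))) (.nd (.nd (.lf 0x3) (.lf 0x1)) (.nd (.lf 0x3) (.lf 0))))) (.nd (.nd (.nd (.nd (.lf 0x1) (.lf 0x2)) (.nd (.lf 0x3) (.lf 0x1))) (.nd (.nd (.lf 0x1) (.lf 0x3)) (.nd (.lf 0x1) (.lf 0)))) (.nd (.nd (.nd (.lf 0x1)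 (.lf 0x1)) (.nd (.lf 0x1) (.lf 0x3))) (.nd (.nd (.lf 0x3) (.lf 0x3)) (.nd (.lf 0x1) (.lf 0)))))) (.nd (.nd (.nd (.nd (.nd (.lf 0x2) (.lf 0x1)) (.nd (.lf 0x3) (.lf 0x1))) (.nd (.nd (.lf 0x1) (.lf 0x1)) (.nd (.lf 0x3) (.lf 0)))) (.nd (.nd (.nd (.lf 0x3) (.lf 0x2)) (.nd (.lf 0x3) (.lf 0x1))) (.nd (.nd (.lf 0x3) (.lf 0x1)) (.nd (.lf 0x3) (.lf 0))))) (.nd (.nd (.nd (.nd (.lf 0x3) (.lf 0x1)) (.nd (.lf 0x1) (.lf 0x3))) (.nd (.nd (.lf 0x3) (.lf 0x3)) (.nd (.lf 0x1) (.lf 0)))) (.nd (.nd (.nd (.lf 0x1) (.lf 0x1)) (.nd (.lf 0x1) (.lf 0))) (.nd (.nd (.lf 0x3) (.lf 0x1)) (.nd (.lf 0x3) (.lf 0)))))))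
def labA_nababb : Tr := (.nd (.nd (.nd (.nd (.nd (.nd (.lf 0x1) (.lf 0x3)) (.nd (.lf 0x1) (.lf 0x1))) (.nd (.nd (.lf 0x1) (.lf 0x3)) (.nd (.lf 0x3) (.lf 0)))) (.nd (.nd (.nd (.lf 0x2) (.lf 0x2)) (.nd (.lf 0x1) (.lf 0x3))) (.nd (.nd (.lf 0x3) (.lf 0x1)) (.nd (.lf 0x3) (.lf 0))))) (.nd (.nd (.nd (.nd (.lf 0x3) (.lf 0x1)) (.nd (.lf 0x3) (.lf 0x3))) (.nd (.nd (.lf 0x1) (.lf 0x1)) (.nd (.lf 0x3) (.lf 0)))) (.nd (.nd (.nd (.lf 0x1) (.lf 0x3)) (.nd (.lf 0x3) (.lf 0x3))) (.nd (.nd (.lf 0x1) (.lf 0x3)) (.nd (.lf 0x3) (.lf 0)))))) (.nd (.nd (.nd (.nd (.nd (.lf 0x3) (.lf 0x3)) (.nd (.lf 0x1) (.lf 0x1))) (.nd (.nd (.lf 0x3) (.lf 0x3)) (.nd (.lf 0x1) (.lf 0)))) (.nd (.nd (.nd (.lf 0x3) (.lf 0x1)) (.nd (.lf 0x3) (.lf 0x1))) (.nd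 (.nd (.lf 0x3) (.lf 0x3)) (.nd (.lf 0x3) (.lf 0))))) (.nd (.nd (.nd (.nd (.lf 0x1) (.lf 0x1)) (.nd (.lf 0x3) (.lf 0x1))) (.nd (.nd (.lf 0x3) (.lf 0x3)) (.nd (.lf 0x1) (.lf 0)))) (.nd (.nd (.nd (.lf 0x3) (.lf 0x1)) (.nd (.lf 0x3) (.lf 0))) (.nd (.nd (.lf 0x1) (.lf 0x1)) (.nd (.lf 0x3) (.lf 0)))))))
def labA_nabbaa : Tr := (.nd (.nd (.nd (.nd (.nd (.nd (.lf 0x1) (.lf 0x1)) (.nd (.lf 0x1) (.lf 0x3))) (.nd (.nd (.lf 0x3) (.lf 0x3)) (.nd (.lf 0x3) (.lf 0)))) (.nd (.nd (.nd (.lf 0x1) (.lf 0x1)) (.nd (.lf 0x3) (.lf 0x3))) (.nd (.nd (.lf 0x3) (.lf 0x3)) (.nd (.lf 0x1) (.lf 0))))) (.nd (.nd (.nd (.nd (.lf 0x2) (.lf 0x1)) (.nd (.lf 0x3) (.lf 0x3))) (.nd (.nd (.lf 0x3) (.lf 0x1)) (.nd (.lf 0x4) (.lf 0)))) (.nd (.nd (.nd (.lf 0x3)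 (.lf 0x3)) (.nd (.lf 0x2) (.lf 0x3))) (.nd (.nd (.lf 0x3) (.lf 0x3)) (.nd (.lf 0x3) (.lf 0)))))) (.nd (.nd (.nd (.nd (.nd (.lf 0x1) (.lf 0x3)) (.nd (.lf 0x3) (.lf 0x3))) (.nd (.nd (.lf 0x3) (.lf 0x2)) (.nd (.lf 0x3) (.lf 0)))) (.nd (.nd (.nd (.lf 0x3) (.lf 0x1)) (.nd (.lf 0x3) (.lf 0x3))) (.nd (.nd (.lf 0x3) (.lf 0x3)) (.nd (.lf 0x3) (.lf 0))))) (.nd (.nd (.nd (.nd (.lf 0x3) (.lf 0x3)) (.nd (.lf 0x3) (.lf 0x3))) (.nd (.nd (.lf 0x1) (.lf 0x3)) (.nd (.lf 0x3) (.lf 0)))) (.nd (.nd (.nd (.lf 0x1) (.lf 0x1)) (.nd (.lf 0x3) (.lf 0))) (.nd (.nd (.lf 0x3) (.lf 0x3)) (.nd (.lf 0x3) (.lf 0)))))))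
def labA_nabbab : Tr := (.nd (.nd (.nd (.nd (.nd (.nd (.lf 0x2) (.lf 0x3)) (.nd (.lf 0x1) (.lf 0x1))) (.nd (.nd (.lf 0x3) (.lf 0x3)) (.nd (.lf 0x1) (.lf 0)))) (.nd (.nd (.nd (.lf 0x1) (.lf 0x3)) (.nd (.lf 0x1) (.lf 0x3))) (.nd (.nd (.lf 0x3) (.lf 0x3)) (.nd (.lf 0x1) (.lf 0))))) (.nd (.nd (.nd (.nd (.lf 0x1) (.lf 0x1)) (.nd (.lf 0x1) (.lf 0x3))) (.nd (.nd (.lf 0x3) (.lf 0x1)) (.nd (.lf 0x3) (.lf 0)))) (.nd (.nd (.nd (.lf 0x3) (.lf 0x1)) (.nd (.lf 0x1) (.lf 0x1))) (.nd (.nd (.lf 0x3) (.lf 0x3)) (.nd (.lf 0x1) (.lf 0)))))) (.nd (.nd (.nd (.nd (.nd (.lf 0x3) (.lf 0x1)) (.nd (.lf 0x3) (.lf 0x3))) (.nd (.nd (.lf 0x3) (.lf 0x1)) (.nd (.lf 0x3) (.lf 0)))) (.nd (.nd (.nd (.lf 0x1) (.lf 0x2)) (.nd (.lf 0x3) (.lf 0x3))) (.nd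 (.nd (.lf 0x1) (.lf 0x3)) (.nd (.lf 0x1) (.lf 0))))) (.nd (.nd (.nd (.nd (.lf 0x3) (.lf 0x3)) (.nd (.lf 0x1) (.lf 0x3))) (.nd (.nd (.lf 0x3) (.lf 0x3)) (.nd (.lf 0x3) (.lf 0)))) (.nd (.nd (.nd (.lf 0x3) (.lf 0x3)) (.nd (.lf 0x3) (.lf 0))) (.nd (.nd (.lf 0x3) (.lf 0x3)) (.nd (.lf 0x1) (.lf 0)))))))
def labA_nabbba : Tr := (.nd (.nd (.nd (.nd (.nd (.nd (.lf 0x1) (.lf 0x3)) (.nd (.lf 0x3) (.lf 0x1))) (.nd (.nd (.lf 0x3) (.lf 0x3)) (.nd (.lf 0x1) (.lf 0)))) (.nd (.nd (.nd (.lf 0x3) (.lf 0x3)) (.nd (.lf 0x1) (.lf 0x1))) (.nd (.nd (.lf 0x1) (.lf 0x3)) (.nd (.lf 0x3) (.lf 0))))) (.nd (.nd (.nd (.nd (.lf 0x3) (.lf 0x1)) (.nd (.lf 0x1) (.lf 0x3))) (.nd (.nd (.lf 0x1) (.lf 0x3)) (.nd (.lf 0x3) (.lf 0)))) (.nd (.nd (.nd (.lf 0x3)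 (.lf 0x3)) (.nd (.lf 0x3) (.lf 0x1))) (.nd (.nd (.lf 0x3) (.lf 0x3)) (.nd (.lf 0x1) (.lf 0)))))) (.nd (.nd (.nd (.nd (.nd (.lf 0x3) (.lf 0x3)) (.nd (.lf 0x3) (.lf 0x1))) (.nd (.nd (.lf 0x3) (.lf 0x1)) (.nd (.lf 0x2) (.lf 0)))) (.nd (.nd (.nd (.lf 0x3) (.lf 0x1)) (.nd (.lf 0x3) (.lf 0x1))) (.nd (.nd (.lf 0x3) (.lf 0x3)) (.nd (.lf 0x1) (.lf 0))))) (.nd (.nd (.nd (.nd (.lf 0x1) (.lf 0x3)) (.nd (.lf 0x3) (.lf 0x3))) (.nd (.nd (.lf 0x3) (.lf 0x3)) (.nd (.lf 0x1) (.lf 0)))) (.nd (.nd (.nd (.lf 0x3) (.lf 0x2)) (.nd (.lf 0x3) (.lf 0))) (.nd (.nd (.lf 0x3) (.lf 0x3)) (.nd (.lf 0x3) (.lf 0)))))))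
def labA_nabbbb : Tr := (.nd (.nd (.nd (.nd (.nd (.nd (.lf 0x3) (.lf 0x2)) (.nd (.lf 0x3) (.lf 0x3))) (.nd (.nd (.lf 0x3) (.lf 0x3)) (.nd (.lf 0x3) (.lf 0)))) (.nd (.nd (.nd (.lf 0x3) (.lf 0x3)) (.nd (.lf 0x1) (.lf 0x3))) (.nd (.nd (.lf 0x1) (.lf 0x3)) (.nd (.lf 0x2) (.lf 0))))) (.nd (.nd (.nd (.nd (.lf 0x3) (.lf 0x3)) (.nd (.lf 0x3) (.lf 0x2))) (.nd (.nd (.lf 0x3) (.lf 0x3)) (.nd (.lf 0x3) (.lf 0)))) (.nd (.nd (.nd (.lf 0x1) (.lf 0x1)) (.nd (.lf 0x3) (.lf 0))) (.nd (.nd (.lf 0x3) (.lf 0x2)) (.nd (.lf 0x1) (.lf 0)))))) (.nd (.nd (.nd (.nd (.nd (.lf 0x1) (.lf 0x3)) (.nd (.lf 0x3) (.lf 0x3))) (.nd (.nd (.lf 0x1) (.lf 0x3)) (.nd (.lf 0x3) (.lf 0)))) (.nd (.nd (.nd (.lf 0x2) (.lf 0x1)) (.nd (.lf 0x3) (.lf 0x3))) (.nd (.nd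 (.lf 0x3) (.lf 0x3)) (.nd (.lf 0x3) (.lf 0))))) (.nd (.nd (.nd (.nd (.lf 0x1) (.lf 0x3)) (.nd (.lf 0x2) (.lf 0x1))) (.nd (.nd (.lf 0x1) (.lf 0x3)) (.nd (.lf 0x3) (.lf 0)))) (.nd (.nd (.nd (.lf 0x3) (.lf 0x3)) (.nd (.lf 0x1) (.lf 0))) (.nd (.nd (.lf 0x3) (.lf 0x3)) (.nd (.lf 0x3) (.lf 0)))))))
def labA_nbaaaa : Tr := (.nd (.nd (.nd (.nd (.nd (.nd (.lf 0x1) (.lf 0x3)) (.nd (.lf 0x3) (.lf 0x1))) (.nd (.nd (.lf 0x1) (.lf 0x3)) (.nd (.lf 0x1) (.lf 0)))) (.nd (.nd (.nd (.lf 0x1) (.lf 0x1)) (.nd (.lf 0x2) (.lf 0x1))) (.nd (.nd (.lf 0x1) (.lf 0x1)) (.nd (.lf 0x3) (.lf 0))))) (.nd (.nd (.nd (.nd (.lf 0x1) (.lf 0x3)) (.nd (.lf 0x3) (.lf 0x3))) (.nd (.nd (.lf 0x3) (.lf 0x1)) (.nd (.lf 0x3) (.lf 0)))) (.nd (.nd (.nd (.lf 0x2) (.lf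 0x3)) (.nd (.lf 0x3) (.lf 0x1))) (.nd (.nd (.lf 0x3) (.lf 0x3)) (.nd (.lf 0x3) (.lf 0)))))) (.nd (.nd (.nd (.nd (.nd (.lf 0x3) (.lf 0x3)) (.nd (.lf 0x3) (.lf 0x1))) (.nd (.nd (.lf 0x3) (.lf 0x1)) (.nd (.lf 0x1) (.lf 0)))) (.nd (.nd (.nd (.lf 0x1) (.lf 0x3)) (.nd (.lf 0x1) (.lf 0x3))) (.nd (.nd (.lf 0x1) (.lf 0x3)) (.nd (.lf 0x1) (.lf 0))))) (.nd (.nd (.nd (.nd (.lf 0x2) (.lf 0x1)) (.nd (.lf 0x3) (.lf 0x3))) (.nd (.nd (.lf 0x1) (.lf 0x1)) (.nd (.lf 0x2) (.lf 0)))) (.nd (.nd (.nd (.lf 0x3) (.lf 0x3)) (.nd (.lf 0x3) (.lf 0))) (.nd (.nd (.lf 0x3) (.lf 0x1)) (.nd (.lf 0x1) (.lf 0)))))))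
def labA_nbaaab : Tr := (.nd (.nd (.nd (.nd (.nd (.nd (.lf 0x3) (.lf 0x1)) (.nd (.lf 0x3) (.lf 0x3))) (.nd (.nd (.lf 0x4) (.lf 0x3)) (.nd (.lf 0x3) (.lf 0)))) (.nd (.nd (.nd (.lf 0x3) (.lf 0x1)) (.nd (.lf 0x3) (.lf 0x3))) (.nd (.nd (.lf 0x1) (.lf 0x3)) (.nd (.lf 0x1) (.lf 0))))) (.nd (.nd (.nd (.nd (.lf 0x1) (.lf 0x1)) (.nd (.lf 0x3) (.lf 0x1))) (.nd (.nd (.lf 0x1) (.lf 0x1)) (.nd (.lf 0x3) (.lf 0)))) (.nd (.nd (.nd (.lf 0x1) (.lf 0x3)) (.nd (.lf 0x3) (.lf 0x1))) (.nd (.nd (.lf 0x1) (.lf 0x1)) (.nd (.lf 0x1) (.lf 0)))))) (.nd (.nd (.nd (.nd (.nd (.lf 0x3) (.lf 0x3)) (.nd (.lf 0x3) (.lf 0x3))) (.nd (.nd (.lf 0x1) (.lf 0x3)) (.nd (.lf 0x3) (.lf 0)))) (.nd (.nd (.nd (.lf 0x3) (.lf 0x1)) (.nd (.lf 0x1) (.lf 0x1))) (.nd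 (.nd (.lf 0x3) (.lf 0x1)) (.nd (.lf 0x2) (.lf 0))))) (.nd (.nd (.nd (.nd (.lf 0x3) (.lf 0x1)) (.nd (.lf 0x3) (.lf 0x3))) (.nd (.nd (.lf 0x3) (.lf 0x1)) (.nd (.lf 0x3) (.lf 0)))) (.nd (.nd (.nd (.lf 0x3) (.lf 0x3)) (.nd (.lf 0x1) (.lf 0))) (.nd (.nd (.lf 0x3) (.lf 0x1)) (.nd (.lf 0x3) (.lf 0)))))))
def labA_nbaaba : Tr := (.nd (.nd (.nd (.nd (.nd (.nd (.lf 0x3) (.lf 0x1)) (.nd (.lf 0x3) (.lf 0x3))) (.nd (.nd (.lf 0x3) (.lf 0x3)) (.nd (.lf 0x1) (.lf 0)))) (.nd (.nd (.nd (.lf 0x3) (.lf 0x2)) (.nd (.lf 0x1) (.lf 0x1))) (.nd (.nd (.lf 0x3) (.lf 0x1)) (.nd (.lf 0x3) (.lf 0))))) (.nd (.nd (.nd (.nd (.lf 0x3) (.lf 0x1)) (.nd (.lf 0x3) (.lf 0x3))) (.nd (.nd (.lf 0x1) (.lf 0x3)) (.nd (.lf 0x2) (.lf 0)))) (.nd (.nd (.nd (.lf 0x2)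 (.lf 0x3)) (.nd (.lf 0x1) (.lf 0x2))) (.nd (.nd (.lf 0x3) (.lf 0x3)) (.nd (.lf 0x3) (.lf 0)))))) (.nd (.nd (.nd (.nd (.nd (.lf 0x3) (.lf 0x3)) (.nd (.lf 0x3) (.lf 0x3))) (.nd (.nd (.lf 0x3) (.lf 0x2)) (.nd (.lf 0x1) (.lf 0)))) (.nd (.nd (.nd (.lf 0x3) (.lf 0x3)) (.nd (.lf 0x3) (.lf 0x3))) (.nd (.nd (.lf 0x3) (.lf 0x1)) (.nd (.lf 0x1) (.lf 0))))) (.nd (.nd (.nd (.nd (.lf 0x1) (.lf 0x3)) (.nd (.lf 0x3) (.lf 0x1))) (.nd (.nd (.lf 0x1) (.lf 0x1)) (.nd (.lf 0x1) (.lf 0)))) (.nd (.nd (.nd (.lf 0x3) (.lf 0x3)) (.nd (.lf 0x3) (.lf 0))) (.nd (.nd (.lf 0x3) (.lf 0x3)) (.nd (.lf 0x1) (.lf 0)))))))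
def labA_nbaabb : Tr := (.nd (.nd (.nd (.nd (.nd (.nd (.lf 0x1) (.lf 0x3)) (.nd (.lf 0x1) (.lf 0x1))) (.nd (.nd (.lf 0x1) (.lf 0x1)) (.nd (.lf 0x3) (.lf 0)))) (.nd (.nd (.nd (.lf 0x2) (.lf 0x1)) (.nd (.lf 0x2) (.lf 0x3))) (.nd (.nd (.lf 0x3) (.lf 0x1)) (.nd (.lf 0x3) (.lf 0))))) (.nd (.nd (.nd (.nd (.lf 0x3) (.lf 0x2)) (.nd (.lf 0x3) (.lf 0x3))) (.nd (.nd (.lf 0x3) (.lf 0x2)) (.nd (.lf 0x1) (.lf 0)))) (.nd (.nd (.nd (.lf 0x1) (.lf 0x3)) (.nd (.lf 0x3) (.lf 0x1))) (.nd (.nd (.lf 0x1) (.lf 0x1)) (.nd (.lf 0x3) (.lf 0)))))) (.nd (.nd (.nd (.nd (.nd (.lf 0x1) (.lf 0x1)) (.nd (.lf 0x3) (.lf 0x3))) (.nd (.nd (.lf 0x1) (.lf 0x3)) (.nd (.lf 0x3) (.lf 0)))) (.nd (.nd (.nd (.lf 0x3) (.lf 0x3)) (.nd (.lf 0x1) (.lf 0x2))) (.nd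 (.nd (.lf 0x3) (.lf 0x3)) (.nd (.lf 0x3) (.lf 0))))) (.nd (.nd (.nd (.nd (.lf 0x3) (.lf 0x2)) (.nd (.lf 0x3) (.lf 0x1))) (.nd (.nd (.lf 0x3) (.lf 0x3)) (.nd (.lf 0x3) (.lf 0)))) (.nd (.nd (.nd (.lf 0x1) (.lf 0x3)) (.nd (.lf 0x1) (.lf 0))) (.nd (.nd (.lf 0x2) (.lf 0x3)) (.nd (.lf 0x3) (.lf 0)))))))
def labA_nbabaa : Tr := (.nd (.nd (.nd (.nd (.nd (.nd (.lf 0x3) (.lf 0x3)) (.nd (.lf 0x3) (.lf 0x3))) (.nd (.nd (.lf 0x1) (.lf 0x3)) (.nd (.lf 0x1) (.lf 0)))) (.nd (.nd (.nd (.lf 0x1) (.lf 0x3)) (.nd (.lf 0x3) (.lf 0x2))) (.nd (.nd (.lf 0x3) (.lf 0x4)) (.nd (.lf 0x1) (.lf 0))))) (.nd (.nd (.nd (.nd (.lf 0x3) (.lf 0x3)) (.nd (.lf 0x3) (.lf 0x3))) (.nd (.nd (.lf 0x1) (.lf 0x2)) (.nd (.lf 0x2) (.lf 0)))) (.nd (.nd (.nd (.lf 0x3)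 (.lf 0x3)) (.nd (.lf 0x3) (.lf 0x3))) (.nd (.nd (.lf 0x2) (.lf 0x1)) (.nd (.lf 0x3) (.lf 0)))))) (.nd (.nd (.nd (.nd (.nd (.lf 0x3) (.lf 0x3)) (.nd (.lf 0x1) (.lf 0x3))) (.nd (.nd (.lf 0x3) (.lf 0x3)) (.nd (.lf 0x3) (.lf 0)))) (.nd (.nd (.nd (.lf 0x1) (.lf 0x3)) (.nd (.lf 0x1) (.lf 0x1))) (.nd (.nd (.lf 0x3) (.lf 0x1)) (.nd (.lf 0x1) (.lf 0))))) (.nd (.nd (.nd (.nd (.lf 0x3) (.lf 0x3)) (.nd (.lf 0x1) (.lf 0x3))) (.nd (.nd (.lf 0x3) (.lf 0x3)) (.nd (.lf 0x3) (.lf 0)))) (.nd (.nd (.nd (.lf 0x3) (.lf 0x3)) (.nd (.lf 0x1) (.lf 0))) (.nd (.nd (.lf 0x3) (.lf 0x1)) (.nd (.lf 0x1) (.lf 0)))))))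
def labA_nbabab : Tr := (.nd (.nd (.nd (.nd (.nd (.nd (.lf 0x1) (.lf 0x3)) (.nd (.lf 0x3) (.lf 0x3))) (.nd (.nd (.lf 0x3) (.lf 0x1)) (.nd (.lf 0x1) (.lf 0)))) (.nd (.nd (.nd (.lf 0x3) (.lf 0x1)) (.nd (.lf 0x1) (.lf 0x3))) (.nd (.nd (.lf 0x1) (.lf 0x3)) (.nd (.lf 0x1) (.lf 0))))) (.nd (.nd (.nd (.nd (.lf 0x3) (.lf 0x3)) (.nd (.lf 0x3) (.lf 0x3))) (.nd (.nd (.lf 0x3) (.lf 0x3)) (.nd (.lf 0x3) (.lf 0)))) (.nd (.nd (.nd (.lf 0x3) (.lf 0x3)) (.nd (.lf 0x3) (.lf 0x3))) (.nd (.nd (.lf 0x3) (.lf 0x1)) (.nd (.lf 0x1) (.lf 0)))))) (.nd (.nd (.nd (.nd (.nd (.lf 0x2) (.lf 0x3)) (.nd (.lf 0x3) (.lf 0x3))) (.nd (.nd (.lf 0x3) (.lf 0x3)) (.nd (.lf 0x2) (.lf 0)))) (.nd (.nd (.nd (.lf 0x3) (.lf 0x3)) (.nd (.lf 0x3) (.lf 0x1))) (.nd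 (.nd (.lf 0x1) (.lf 0x3)) (.nd (.lf 0x3) (.lf 0))))) (.nd (.nd (.nd (.nd (.lf 0x4) (.lf 0x3)) (.nd (.lf 0x1) (.lf 0x3))) (.nd (.nd (.lf 0x3) (.lf 0x3)) (.nd (.lf 0x3) (.lf 0)))) (.nd (.nd (.nd (.lf 0x3) (.lf 0x3)) (.nd (.lf 0x3) (.lf 0))) (.nd (.nd (.lf 0x1) (.lf 0x3)) (.nd (.lf 0x3) (.lf 0)))))))
def labA_nbabba : Tr := (.nd (.nd (.nd (.nd (.nd (.nd (.lf 0x3) (.lf 0x3)) (.nd (.lf 0x3) (.lf 0x1))) (.nd (.nd (.lf 0x3) (.lf 0x3)) (.nd (.lf 0x3) (.lf 0)))) (.nd (.nd (.nd (.lf 0x3) (.lf 0x3)) (.nd (.lf 0x1) (.lf 0x3))) (.nd (.nd (.lf 0x1) (.lf 0x1)) (.nd (.lf 0x1) (.lf 0))))) (.nd (.nd (.nd (.nd (.lf 0x3) (.lf 0x3)) (.nd (.lf 0x1) (.lf 0x3))) (.nd (.nd (.lf 0x3) (.lf 0x3)) (.nd (.lf 0x1) (.lf 0)))) (.nd (.nd (.nd (.lf 0x3)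 (.lf 0x1)) (.nd (.lf 0x3) (.lf 0x3))) (.nd (.nd (.lf 0x3) (.lf 0x3)) (.nd (.lf 0x3) (.lf 0)))))) (.nd (.nd (.nd (.nd (.nd (.lf 0x3) (.lf 0x1)) (.nd (.lf 0x3) (.lf 0x3))) (.nd (.nd (.lf 0x3) (.lf 0x3)) (.nd (.lf 0x1) (.lf 0)))) (.nd (.nd (.nd (.lf 0x3) (.lf 0x3)) (.nd (.lf 0x1) (.lf 0x2))) (.nd (.nd (.lf 0x3) (.lf 0x1)) (.nd (.lf 0x1) (.lf 0))))) (.nd (.nd (.nd (.nd (.lf 0x3) (.lf 0x3)) (.nd (.lf 0x3) (.lf 0x3))) (.nd (.nd (.lf 0x1) (.lf 0x3)) (.nd (.lf 0x3) (.lf 0)))) (.nd (.nd (.nd (.lf 0x3) (.lf 0x1)) (.nd (.lf 0x3) (.lf 0))) (.nd (.nd (.lf 0x1) (.lf 0x1)) (.nd (.lf 0x1) (.lf 0)))))))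
def labA_nbabbb : Tr := (.nd (.nd (.nd (.nd (.nd (.nd (.lf 0x1) (.lf 0x3)) (.nd (.lf 0x3) (.lf 0x1))) (.nd (.nd (.lf 0x3) (.lf 0x3)) (.nd (.lf 0x3) (.lf 0)))) (.nd (.nd (.nd (.lf 0x3) (.lf 0x3)) (.nd (.lf 0x1) (.lf 0x1))) (.nd (.nd (.lf 0x2) (.lf 0x1)) (.nd (.lf 0x3) (.lf 0))))) (.nd (.nd (.nd (.nd (.lf 0x3) (.lf 0x1)) (.nd (.lf 0x1) (.lf 0x3))) (.nd (.nd (.lf 0x1) (.lf 0x1)) (.nd (.lf 0x3) (.lf 0)))) (.nd (.nd (.nd (.lf 0x3) (.lf 0x3)) (.nd (.lf 0x1) (.lf 0))) (.nd (.nd (.lf 0x1) (.lf 0x1)) (.nd (.lf 0x3) (.lf 0)))))) (.nd (.nd (.nd (.nd (.nd (.lf 0x3) (.lf 0x1)) (.nd (.lf 0x1) (.lf 0x3))) (.nd (.nd (.lf 0x1) (.lf 0x3)) (.nd (.lf 0x3) (.lf 0)))) (.nd (.nd (.nd (.lf 0x3) (.lf 0x1)) (.nd (.lf 0x3) (.lf 0x3))) (.nd (.nd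 (.lf 0x3) (.lf 0x3)) (.nd (.lf 0x3) (.lf 0))))) (.nd (.nd (.nd (.nd (.lf 0x1) (.lf 0x1)) (.nd (.lf 0x1) (.lf 0x1))) (.nd (.nd (.lf 0x1) (.lf 0x3)) (.nd (.lf 0x1) (.lf 0)))) (.nd (.nd (.nd (.lf 0x3) (.lf 0x1)) (.nd (.lf 0x3) (.lf 0))) (.nd (.nd (.lf 0x3) (.lf 0x3)) (.nd (.lf 0x1) (.lf 0)))))))
def labA_nbbaaa : Tr := (.nd (.nd (.nd (.nd (.nd (.nd (.lf 0x3) (.lf 0x3)) (.nd (.lf 0x3) (.lf 0x1))) (.nd (.nd (.lf 0x1) (.lf 0x1)) (.nd (.lf 0x1) (.lf 0)))) (.nd (.nd (.nd (.lf 0x1) (.lf 0x1)) (.nd (.lf 0x3) (.lf 0x3))) (.nd (.nd (.lf 0x3) (.lf 0x1)) (.nd (.lf 0x3) (.lf 0))))) (.nd (.nd (.nd (.nd (.lf 0x1) (.lf 0x3)) (.nd (.lf 0x3) (.lf 0x3))) (.nd (.nd (.lf 0x3) (.lf 0x3)) (.nd (.lf 0x3) (.lf 0)))) (.nd (.nd (.nd (.lf 0x3) (.lf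 0x1)) (.nd (.lf 0x2) (.lf 0x3))) (.nd (.nd (.lf 0x3) (.lf 0x3)) (.nd (.lf 0x2) (.lf 0)))))) (.nd (.nd (.nd (.nd (.nd (.lf 0x3) (.lf 0x1)) (.nd (.lf 0x3) (.lf 0x3))) (.nd (.nd (.lf 0x3) (.lf 0x3)) (.nd (.lf 0x3) (.lf 0)))) (.nd (.nd (.nd (.lf 0x3) (.lf 0x3)) (.nd (.lf 0x1) (.lf 0x3))) (.nd (.nd (.lf 0x3) (.lf 0x3)) (.nd (.lf 0x2) (.lf 0))))) (.nd (.nd (.nd (.nd (.lf 0x3) (.lf 0x3)) (.nd (.lf 0x3) (.lf 0x1))) (.nd (.nd (.lf 0x3) (.lf 0x1)) (.nd (.lf 0x3) (.lf 0)))) (.nd (.nd (.nd (.lf 0x1) (.lf 0x1)) (.nd (.lf 0x1) (.lf 0))) (.nd (.nd (.lf 0x1) (.lf 0x3)) (.nd (.lf 0x1) (.lf 0)))))))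
def labA_nbbaab : Tr := (.nd (.nd (.nd (.nd (.nd (.nd (.lf 0x3) (.lf 0x3)) (.nd (.lf 0x3) (.lf 0x1))) (.nd (.nd (.lf 0x3) (.lf 0x3)) (.nd (.lf 0x2) (.lf 0)))) (.nd (.nd (.nd (.lf 0x1) (.lf 0x2)) (.nd (.lf 0x1) (.lf 0x1))) (.nd (.nd (.lf 0x3) (.lf 0x1)) (.nd (.lf 0x1) (.lf 0))))) (.nd (.nd (.nd (.nd (.lf 0x3) (.lf 0x3)) (.nd (.lf 0x1) (.lf 0x1))) (.nd (.nd (.lf 0x3) (.lf 0x3)) (.nd (.lf 0x3) (.lf 0)))) (.nd (.nd (.nd (.lf 0x3) (.lf 0x3)) (.nd (.lf 0x1) (.lf 0x1))) (.nd (.nd (.lf 0x3) (.lf 0x1)) (.nd (.lf 0x3) (.lf 0)))))) (.nd (.nd (.nd (.nd (.nd (.lf 0x1) (.lf 0x1)) (.nd (.lf 0x1) (.lf 0x3))) (.nd (.nd (.lf 0x3) (.lf 0x1)) (.nd (.lf 0x3) (.lf 0)))) (.nd (.nd (.nd (.lf 0x3) (.lf 0x1)) (.nd (.lf 0x3) (.lf 0x1))) (.nd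 (.nd (.lf 0x3) (.lf 0x3)) (.nd (.lf 0x1) (.lf 0))))) (.nd (.nd (.nd (.nd (.lf 0x3) (.lf 0x3)) (.nd (.lf 0x3) (.lf 0x1))) (.nd (.nd (.lf 0x3) (.lf 0x3)) (.nd (.lf 0x3) (.lf 0)))) (.nd (.nd (.nd (.lf 0x3) (.lf 0x3)) (.nd (.lf 0x3) (.lf 0))) (.nd (.nd (.lf 0x2) (.lf 0x3)) (.nd (.lf 0x1) (.lf 0)))))))
def labA_nbbaba : Tr := (.nd (.nd (.nd (.nd (.nd (.nd (.lf 0x3) (.lf 0x2)) (.nd (.lf 0x3) (.lf 0x3))) (.nd (.nd (.lf 0x3) (.lf 0x3)) (.nd (.lf 0x1) (.lf 0)))) (.nd (.nd (.nd (.lf 0x3) (.lf 0x3)) (.nd (.lf 0x3) (.lf 0x3))) (.nd (.nd (.lf 0x1) (.lf 0x1)) (.nd (.lf 0x3) (.lf 0))))) (.nd (.nd (.nd (.nd (.lf 0x3) (.lf 0x1)) (.nd (.lf 0x3) (.lf 0x3))) (.nd (.nd (.lf 0x3) (.lf 0x3)) (.nd (.lf 0x1) (.lf 0)))) (.nd (.nd (.nd (.lf 0x1)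 (.lf 0x3)) (.nd (.lf 0x3) (.lf 0x1))) (.nd (.nd (.lf 0x1) (.lf 0x3)) (.nd (.lf 0x3) (.lf 0)))))) (.nd (.nd (.nd (.nd (.nd (.lf 0x3) (.lf 0x1)) (.nd (.lf 0x3) (.lf 0x3))) (.nd (.nd (.lf 0x1) (.lf 0x3)) (.nd (.lf 0x1) (.lf 0)))) (.nd (.nd (.nd (.lf 0x3) (.lf 0x3)) (.nd (.lf 0x3) (.lf 0x1))) (.nd (.nd (.lf 0x1) (.lf 0x3)) (.nd (.lf 0x3) (.lf 0))))) (.nd (.nd (.nd (.nd (.lf 0x3) (.lf 0x1)) (.nd (.lf 0x3) (.lf 0x3))) (.nd (.nd (.lf 0x3) (.lf 0x1)) (.nd (.lf 0x2) (.lf 0)))) (.nd (.nd (.nd (.lf 0x1) (.lf 0x3)) (.nd (.lf 0x3) (.lf 0))) (.nd (.nd (.lf 0x3) (.lf 0x1)) (.nd (.lf 0x3) (.lf 0)))))))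
def labA_nbbabb : Tr := (.nd (.nd (.nd (.nd (.nd (.nd (.lf 0x3) (.lf 0x3)) (.nd (.lf 0x1) (.lf 0x3))) (.nd (.nd (.lf 0x3) (.lf 0x1)) (.nd (.lf 0x1) (.lf 0)))) (.nd (.nd (.nd (.lf 0x3) (.lf 0x1)) (.nd (.lf 0x3) (.lf 0x3))) (.nd (.nd (.lf 0x1) (.lf 0x2)) (.nd (.lf 0x1) (.lf 0))))) (.nd (.nd (.nd (.nd (.lf 0x3) (.lf 0x1)) (.nd (.lf 0x3) (.lf 0x1))) (.nd (.nd (.lf 0x1) (.lf 0x3)) (.nd (.lf 0x3) (.lf 0)))) (.nd (.nd (.nd (.lf 0x3) (.lf 0x1)) (.nd (.lf 0x3) (.lf 0))) (.nd (.nd (.lf 0x1) (.lf 0x1)) (.nd (.lf 0x2) (.lf 0)))))) (.nd (.nd (.nd (.nd (.nd (.lf 0x3) (.lf 0x3)) (.nd (.lf 0x1) (.lf 0x3))) (.nd (.nd (.lf 0x3) (.lf 0x3)) (.nd (.lf 0x3) (.lf 0)))) (.nd (.nd (.nd (.lf 0x3) (.lf 0x2)) (.nd (.lf 0x1) (.lf 0x1))) (.nd (.nd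 (.lf 0x1) (.lf 0x3)) (.nd (.lf 0x2) (.lf 0))))) (.nd (.nd (.nd (.nd (.lf 0x1) (.lf 0x3)) (.nd (.lf 0x3) (.lf 0x1))) (.nd (.nd (.lf 0x1) (.lf 0x1)) (.nd (.lf 0x3) (.lf 0)))) (.nd (.nd (.nd (.lf 0x1) (.lf 0x3)) (.nd (.lf 0x1) (.lf 0))) (.nd (.nd (.lf 0x1) (.lf 0x1)) (.nd (.lf 0x1) (.lf 0)))))))
def labA_nbbbaa : Tr := (.nd (.nd (.nd (.nd (.nd (.nd (.lf 0x4) (.lf 0x2)) (.nd (.lf 0x1) (.lf 0x2))) (.nd (.nd (.lf 0x3) (.lf 0x1)) (.nd (.lf 0x3) (.lf 0)))) (.nd (.nd (.nd (.lf 0x3) (.lf 0x3)) (.nd (.lf 0x3) (.lf 0x3))) (.nd (.nd (.lf 0x1) (.lf 0x3)) (.nd (.lf 0x1) (.lf 0))))) (.nd (.nd (.nd (.nd (.lf 0x3) (.lf 0x3)) (.nd (.lf 0x3) (.lf 0x3))) (.nd (.nd (.lf 0x3) (.lf 0x1)) (.nd (.lf 0x1) (.lf 0)))) (.nd (.nd (.nd (.lf 0x1) (.lf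 0x1)) (.nd (.lf 0x1) (.lf 0x3))) (.nd (.nd (.lf 0x3) (.lf 0x3)) (.nd (.lf 0x3) (.lf 0)))))) (.nd (.nd (.nd (.nd (.nd (.lf 0x3) (.lf 0x3)) (.nd (.lf 0x1) (.lf 0x3))) (.nd (.nd (.lf 0x3) (.lf 0x1)) (.nd (.lf 0x1) (.lf 0)))) (.nd (.nd (.nd (.lf 0x1) (.lf 0x1)) (.nd (.lf 0x1) (.lf 0x3))) (.nd (.nd (.lf 0x3) (.lf 0x1)) (.nd (.lf 0x3) (.lf 0))))) (.nd (.nd (.nd (.nd (.lf 0x1) (.lf 0x1)) (.nd (.lf 0x3) (.lf 0x3))) (.nd (.nd (.lf 0x1) (.lf 0x3)) (.nd (.lf 0x1) (.lf 0)))) (.nd (.nd (.nd (.lf 0x1) (.lf 0x3)) (.nd (.lf 0x3) (.lf 0))) (.nd (.nd (.lf 0x3) (.lf 0x1)) (.nd (.lf 0x3) (.lf 0)))))))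
def labA_nbbbab : Tr := (.nd (.nd (.nd (.nd (.nd (.nd (.lf 0x1) (.lf 0x1)) (.nd (.lf 0x3) (.lf 0x3))) (.nd (.nd (.lf 0x3) (.lf 0x3)) (.nd (.lf 0x1) (.lf 0)))) (.nd (.nd (.nd (.lf 0x3) (.lf 0x1)) (.nd (.lf 0x1) (.lf 0x1))) (.nd (.nd (.lf 0x1) (.lf 0x3)) (.nd (.lf 0x3) (.lf 0))))) (.nd (.nd (.nd (.nd (.lf 0x3) (.lf 0x3)) (.nd (.lf 0x1) (.lf 0x1))) (.nd (.nd (.lf 0x3) (.lf 0x1)) (.nd (.lf 0x1) (.lf 0)))) (.nd (.nd (.nd (.lf 0x3) (.lf 0x1)) (.nd (.lf 0x3) (.lf 0x1))) (.nd (.nd (.lf 0x3) (.lf 0x3)) (.nd (.lf 0x2) (.lf 0)))))) (.nd (.nd (.nd (.nd (.nd (.lf 0x3) (.lf 0x3)) (.nd (.lf 0x3) (.lf 0x1))) (.nd (.nd (.lf 0x3) (.lf 0x3)) (.nd (.lf 0x3) (.lf 0)))) (.nd (.nd (.nd (.lf 0x1) (.lf 0x1)) (.nd (.lf 0x3) (.lf 0x3))) (.nd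 (.nd (.lf 0x3) (.lf 0x1)) (.nd (.lf 0x3) (.lf 0))))) (.nd (.nd (.nd (.nd (.lf 0x1) (.lf 0x1)) (.nd (.lf 0x3) (.lf 0x3))) (.nd (.nd (.lf 0x3) (.lf 0x3)) (.nd (.lf 0x1) (.lf 0)))) (.nd (.nd (.nd (.lf 0x3) (.lf 0x3)) (.nd (.lf 0x3) (.lf 0))) (.nd (.nd (.lf 0x1) (.lf 0x3)) (.nd (.lf 0x3) (.lf 0)))))))
def labA_nbbbba : Tr := (.nd (.nd (.nd (.nd (.nd (.nd (.lf 0x1) (.lf 0x1)) (.nd (.lf 0x3) (.lf 0x3))) (.nd (.nd (.lf 0x3) (.lf 0x1)) (.nd (.lf 0x3) (.lf 0)))) (.nd (.nd (.nd (.lf 0x3) (.lf 0x1)) (.nd (.lf 0x3) (.lf 0x3))) (.nd (.nd (.lf 0x3) (.lf 0x2)) (.nd (.lf 0x1) (.lf 0))))) (.nd (.nd (.nd (.nd (.lf 0x1) (.lf 0x3)) (.nd (.lf 0x1) (.lf 0x3))) (.nd (.nd (.lf 0x3) (.lf 0x3)) (.nd (.lf 0x3) (.lf 0)))) (.nd (.nd (.nd (.lf 0x3)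 (.lf 0x3)) (.nd (.lf 0x1) (.lf 0x3))) (.nd (.nd (.lf 0x3) (.lf 0x1)) (.nd (.lf 0x3) (.lf 0)))))) (.nd (.nd (.nd (.nd (.nd (.lf 0x3) (.lf 0x1)) (.nd (.lf 0x3) (.lf 0x1))) (.nd (.nd (.lf 0x1) (.lf 0x1)) (.nd (.lf 0x3) (.lf 0)))) (.nd (.nd (.nd (.lf 0x1) (.lf 0x1)) (.nd (.lf 0x1) (.lf 0x3))) (.nd (.nd (.lf 0x1) (.lf 0x3)) (.nd (.lf 0x1) (.lf 0))))) (.nd (.nd (.nd (.nd (.lf 0x3) (.lf 0x3)) (.nd (.lf 0x3) (.lf 0x3))) (.nd (.nd (.lf 0x3) (.lf 0x3)) (.nd (.lf 0x3) (.lf 0)))) (.nd (.nd (.nd (.lf 0x1) (.lf 0x1)) (.nd (.lf 0x3) (.lf 0))) (.nd (.nd (.lf 0x3) (.lf 0x3)) (.nd (.lf 0x3) (.lf 0)))))))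
def labA_nbbbbb : Tr := (.nd (.nd (.nd (.nd (.nd (.nd (.lf 0x3) (.lf 0x3)) (.nd (.lf 0x1) (.lf 0x1))) (.nd (.nd (.lf 0x3) (.lf 0x1)) (.nd (.lf 0x3) (.lf 0)))) (.nd (.nd (.nd (.lf 0x1) (.lf 0x1)) (.nd (.lf 0x1) (.lf 0x2))) (.nd (.nd (.lf 0x1) (.lf 0x1)) (.nd (.lf 0x3) (.lf 0))))) (.nd (.nd (.nd (.nd (.lf 0x1) (.lf 0x3)) (.nd (.lf 0x3) (.lf 0x3))) (.nd (.nd (.lf 0x3) (.lf 0x1)) (.nd (.lf 0x3) (.lf 0)))) (.nd (.nd (.nd (.lf 0x1) (.lf 0x1)) (.nd (.lf 0x3) (.lf 0))) (.nd (.nd (.lf 0x3) (.lf 0x2)) (.nd (.lf 0x3) (.lf 0)))))) (.nd (.nd (.nd (.nd (.nd (.lf 0x1) (.lf 0x3)) (.nd (.lf 0x3) (.lf 0x3))) (.nd (.nd (.lf 0x1) (.lf 0x3)) (.nd (.lf 0x3) (.lf 0)))) (.nd (.nd (.nd (.lf 0x3) (.lf 0x3)) (.nd (.lf 0x1) (.lf 0x3))) (.nd (.nd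 (.lf 0x1) (.lf 0x3)) (.nd (.lf 0x1) (.lf 0))))) (.nd (.nd (.nd (.nd (.lf 0x3) (.lf 0x3)) (.nd (.lf 0x3) (.lf 0x3))) (.nd (.nd (.lf 0x3) (.lf 0x3)) (.nd (.lf 0x3) (.lf 0)))) (.nd (.nd (.nd (.lf 0x3) (.lf 0x3)) (.nd (.lf 0x2) (.lf 0))) (.nd (.nd (.lf 0x3) (.lf 0x3)) (.nd (.lf 0x3) (.lf 0)))))))
def labA : Tr := (.nd (.nd (.nd (.nd (.nd labA_naaaaa labA_naaaab) (.nd labA_naaaba labA_naaabb)) (.nd (.nd labA_naabaa labA_naabab) (.nd labA_naabba labA_naabbb))) (.nd (.nd (.nd labA_nabaaa labA_nabaab) (.nd labA_nababa labA_nababb)) (.nd (.nd labA_nabbaa labA_nabbab) (.nd labA_nabbba labA_nabbbb)))) (.nd (.nd (.nd (.nd labA_nbaaaa labA_nbaaab) (.nd labA_nbaaba labA_nbaabb)) (.nd (.nd labA_nbabaa labA_nbabab) (.nd labA_nbabba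 labA_nbabbb))) (.nd (.nd (.nd labA_nbbaaa labA_nbbaab) (.nd labA_nbbaba labA_nbbabb)) (.nd (.nd labA_nbbbaa labA_nbbbab) (.nd labA_nbbbba labA_nbbbbb)))))
def depA_naaaaa : Tr := (.nd (.nd (.nd (.nd (.nd (.nd (.lf 0x0) (.lf 0x8)) (.nd (.lf 0x3) (.lf 0xa))) (.nd (.nd (.lf 0xa) (.lf 0xa)) (.nd (.lf 0x8) (.lf 0)))) (.nd (.nd (.nd (.lf 0xa) (.lf 0x6)) (.nd (.lf 0x7) (.lf 0x9))) (.nd (.nd (.lf 0xa) (.lf 0x6)) (.nd (.lf 0x8) (.lf 0))))) (.nd (.nd (.nd (.nd (.lf 0x9) (.lf 0x8)) (.nd (.lf 0xa) (.lf 0xb))) (.nd (.nd (.lf 0x6) (.lf 0xb)) (.nd (.lf 0x9) (.lf 0)))) (.nd (.nd (.nd (.lf 0x6) (.lf 0x7)) (.nd (.lf 0x7) (.lf 0xb))) (.nd (.nd (.lf 0xb) (.lf 0xb)) (.nd (.lf 0xa) (.lf 0)))))) (.nd (.nd (.nd (.nd (.nd (.lf 0x3) (.lf 0x3))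 (.nd (.lf 0xb) (.lf 0x6))) (.nd (.nd (.lf 0x7) (.lf 0x9)) (.nd (.lf 0xa) (.lf 0)))) (.nd (.nd (.nd (.lf 0xa) (.lf 0xb)) (.nd (.lf 0x9) (.lf 0x5))) (.nd (.nd (.lf 0xa) (.lf 0x7)) (.nd (.lf 0x6) (.lf 0))))) (.nd (.nd (.nd (.nd (.lf 0xb) (.lf 0xa)) (.nd (.lf 0xa) (.lf 0xb))) (.nd (.nd (.lf 0xa) (.lf 0x9)) (.nd (.lf 0x9) (.lf 0)))) (.nd (.nd (.nd (.lf 0xc) (.lf 0x8)) (.nd (.lf 0x9) (.lf 0))) (.nd (.nd (.lf 0xb) (.lf 0xa)) (.nd (.lf 0x6) (.lf 0)))))))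
def depA_naaaab : Tr := (.nd (.nd (.nd (.nd (.nd (.nd (.lf 0x9) (.lf 0x8)) (.nd (.lf 0x8) (.lf 0xb))) (.nd (.nd (.lf 0xa) (.lf 0x8)) (.nd (.lf 0xb) (.lf 0)))) (.nd (.nd (.nd (.lf 0xa) (.lf 0x8)) (.nd (.lf 0x9) (.lf 0x8))) (.nd (.nd (.lf 0xa) (.lf 0xc)) (.nd (.lf 0x7) (.lf 0))))) (.nd (.nd (.nd (.nd (.lf 0x6) (.lf 0x9)) (.nd (.lf 0x9) (.lf 0x9))) (.nd (.nd (.lf 0x8) (.lf 0x9)) (.nd (.lf 0x8) (.lf 0)))) (.nd (.nd (.nd (.lf 0x7) (.lf 0x7)) (.nd (.lf 0x9) (.lf 0x7))) (.nd (.nd (.lf 0xa) (.lf 0x7)) (.nd (.lf 0xb) (.lf 0)))))) (.nd (.nd (.nd (.nd (.nd (.lf 0xb) (.lf 0xa)) (.nd (.lf 0x8) (.lf 0x8))) (.nd (.nd (.lf 0x6) (.lf 0x6)) (.nd (.lf 0xb) (.lf 0)))) (.nd (.nd (.nd (.lf 0x9) (.lf 0x8)) (.nd (.lf 0xa) (.lf 0x9))) (.nd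 (.nd (.lf 0x3) (.lf 0x9)) (.nd (.lf 0x7) (.lf 0))))) (.nd (.nd (.nd (.nd (.lf 0x7) (.lf 0xa)) (.nd (.lf 0x8) (.lf 0x8))) (.nd (.nd (.lf 0xa) (.lf 0xa)) (.nd (.lf 0x7) (.lf 0)))) (.nd (.nd (.nd (.lf 0xa) (.lf 0x7)) (.nd (.lf 0x7) (.lf 0))) (.nd (.nd (.lf 0x9) (.lf 0xa)) (.nd (.lf 0x8) (.lf 0)))))))
def depA_naaaba : Tr := (.nd (.nd (.nd (.nd (.nd (.nd (.lf 0x9) (.lf 0x8)) (.nd (.lf 0xa) (.lf 0x6))) (.nd (.nd (.lf 0x8) (.lf 0x4)) (.nd (.lf 0x9) (.lf 0)))) (.nd (.nd (.nd (.lf 0xa) (.lf 0xa)) (.nd (.lf 0x6) (.lf 0x8))) (.nd (.nd (.lf 0x9) (.lf 0xa)) (.nd (.lf 0xc) (.lf 0))))) (.nd (.nd (.nd (.nd (.lf 0x8) (.lf 0x8)) (.nd (.lf 0x9) (.lf 0xa))) (.nd (.nd (.lf 0x9) (.lf 0xa)) (.nd (.lf 0x9) (.lf 0)))) (.nd (.nd (.nd (.lf 0x8)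 (.lf 0x9)) (.nd (.lf 0x8) (.lf 0xa))) (.nd (.nd (.lf 0x9) (.lf 0x9)) (.nd (.lf 0x4) (.lf 0)))))) (.nd (.nd (.nd (.nd (.nd (.lf 0x9) (.lf 0xa)) (.nd (.lf 0xa) (.lf 0x9))) (.nd (.nd (.lf 0x7) (.lf 0x9)) (.nd (.lf 0x9) (.lf 0)))) (.nd (.nd (.nd (.lf 0x9) (.lf 0x9)) (.nd (.lf 0x7) (.lf 0x7))) (.nd (.nd (.lf 0x9) (.lf 0xa)) (.nd (.lf 0x6) (.lf 0))))) (.nd (.nd (.nd (.nd (.lf 0xb) (.lf 0x7)) (.nd (.lf 0x6) (.lf 0x8))) (.nd (.nd (.lf 0x6) (.lf 0x9)) (.nd (.lf 0x8) (.lf 0)))) (.nd (.nd (.nd (.lf 0xb) (.lf 0x8)) (.nd (.lf 0x9) (.lf 0))) (.nd (.nd (.lf 0x9) (.lf 0x9)) (.nd (.lf 0xa) (.lf 0)))))))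
def depA_naaabb : Tr := (.nd (.nd (.nd (.nd (.nd (.nd (.lf 0x9) (.lf 0x9)) (.nd (.lf 0x9) (.lf 0x8))) (.nd (.nd (.lf 0x9) (.lf 0xb)) (.nd (.lf 0x8) (.lf 0)))) (.nd (.nd (.nd (.lf 0x8) (.lf 0x9)) (.nd (.lf 0x3) (.lf 0x8))) (.nd (.nd (.lf 0x5) (.lf 0x7)) (.nd (.lf 0x9) (.lf 0))))) (.nd (.nd (.nd (.nd (.lf 0x5) (.lf 0x7)) (.nd (.lf 0xb) (.lf 0xa))) (.nd (.nd (.lf 0x9) (.lf 0x8)) (.nd (.lf 0x9) (.lf 0)))) (.nd (.nd (.nd (.lf 0xa) (.lf 0xa)) (.nd (.lf 0xb) (.lf 0x9))) (.nd (.nd (.lf 0xb) (.lf 0xa)) (.nd (.lf 0xc) (.lf 0)))))) (.nd (.nd (.nd (.nd (.nd (.lf 0x7) (.lf 0x9)) (.nd (.lf 0xa) (.lf 0x9))) (.nd (.nd (.lf 0xa) (.lf 0xb)) (.nd (.lf 0x5) (.lf 0)))) (.nd (.nd (.nd (.lf 0xa) (.lf 0x8)) (.nd (.lf 0x7) (.lf 0x7))) (.nd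 (.nd (.lf 0xb) (.lf 0x9)) (.nd (.lf 0xb) (.lf 0))))) (.nd (.nd (.nd (.nd (.lf 0x3) (.lf 0x6)) (.nd (.lf 0xa) (.lf 0x6))) (.nd (.nd (.lf 0x4) (.lf 0x7)) (.nd (.lf 0xb) (.lf 0)))) (.nd (.nd (.nd (.lf 0x8) (.lf 0xb)) (.nd (.lf 0x8) (.lf 0))) (.nd (.nd (.lf 0x8) (.lf 0x5)) (.nd (.lf 0xa) (.lf 0)))))))
def depA_naabaa : Tr := (.nd (.nd (.nd (.nd (.nd (.nd (.lf 0xb) (.lf 0x8)) (.nd (.lf 0x4) (.lf 0x8))) (.nd (.nd (.lf 0xa) (.lf 0xb)) (.nd (.lf 0xa) (.lf 0)))) (.nd (.nd (.nd (.lf 0x9) (.lf 0x8)) (.nd (.lf 0x9) (.lf 0x8))) (.nd (.nd (.lf 0x8) (.lf 0x8)) (.nd (.lf 0xa) (.lf 0))))) (.nd (.nd (.nd (.nd (.lf 0xa) (.lf 0x9)) (.nd (.lf 0x9) (.lf 0x5))) (.nd (.nd (.lf 0x2) (.lf 0xa)) (.nd (.lf 0xb) (.lf 0)))) (.nd (.nd (.nd (.lf 0x7)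 (.lf 0x4)) (.nd (.lf 0x2) (.lf 0xa))) (.nd (.nd (.lf 0x7) (.lf 0x6)) (.nd (.lf 0x9) (.lf 0)))))) (.nd (.nd (.nd (.nd (.nd (.lf 0xa) (.lf 0x6)) (.nd (.lf 0xb) (.lf 0x7))) (.nd (.nd (.lf 0xb) (.lf 0x9)) (.nd (.lf 0xa) (.lf 0)))) (.nd (.nd (.nd (.lf 0x9) (.lf 0xb)) (.nd (.lf 0x8) (.lf 0xd))) (.nd (.nd (.lf 0x6) (.lf 0x7)) (.nd (.lf 0xc) (.lf 0))))) (.nd (.nd (.nd (.nd (.lf 0xa) (.lf 0x9)) (.nd (.lf 0x8) (.lf 0xb))) (.nd (.nd (.lf 0xc) (.lf 0x9)) (.nd (.lf 0x8) (.lf 0)))) (.nd (.nd (.nd (.lf 0xa) (.lf 0x9)) (.nd (.lf 0xb) (.lf 0))) (.nd (.nd (.lf 0xa) (.lf 0xa)) (.nd (.lf 0xa) (.lf 0)))))))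
def depA_naabab : Tr := (.nd (.nd (.nd (.nd (.nd (.nd (.lf 0x3) (.lf 0x4)) (.nd (.lf 0x8) (.lf 0x9))) (.nd (.nd (.lf 0xb) (.lf 0x7)) (.nd (.lf 0x9) (.lf 0)))) (.nd (.nd (.nd (.lf 0xa) (.lf 0x8)) (.nd (.lf 0x8) (.lf 0x9))) (.nd (.nd (.lf 0x6) (.lf 0xa)) (.nd (.lf 0x7) (.lf 0))))) (.nd (.nd (.nd (.nd (.lf 0x6) (.lf 0x8)) (.nd (.lf 0xb) (.lf 0xa))) (.nd (.nd (.lf 0x5) (.lf 0xb)) (.nd (.lf 0x1) (.lf 0)))) (.nd (.nd (.nd (.lf 0x9) (.lf 0x8)) (.nd (.lf 0x5) (.lf 0x8))) (.nd (.nd (.lf 0x8) (.lf 0xa)) (.nd (.lf 0x9) (.lf 0)))))) (.nd (.nd (.nd (.nd (.nd (.lf 0x7) (.lf 0x9)) (.nd (.lf 0x7) (.lf 0xb))) (.nd (.nd (.lf 0x9) (.lf 0xa)) (.nd (.lf 0x8) (.lf 0)))) (.nd (.nd (.nd (.lf 0x8) (.lf 0x6)) (.nd (.lf 0xb) (.lf 0xa))) (.nd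 (.nd (.lf 0xa) (.lf 0xa)) (.nd (.lf 0x7) (.lf 0))))) (.nd (.nd (.nd (.nd (.lf 0x9) (.lf 0xa)) (.nd (.lf 0x9) (.lf 0x9))) (.nd (.nd (.lf 0x3) (.lf 0xa)) (.nd (.lf 0x8) (.lf 0)))) (.nd (.nd (.nd (.lf 0x7) (.lf 0xa)) (.nd (.lf 0x9) (.lf 0))) (.nd (.nd (.lf 0x4) (.lf 0x8)) (.nd (.lf 0x2) (.lf 0)))))))
def depA_naabba : Tr := (.nd (.nd (.nd (.nd (.nd (.nd (.lf 0xb) (.lf 0x9)) (.nd (.lf 0xb) (.lf 0xa))) (.nd (.nd (.lf 0xa) (.lf 0x2)) (.nd (.lf 0xa) (.lf 0)))) (.nd (.nd (.nd (.lf 0xb) (.lf 0x7)) (.nd (.lf 0x6) (.lf 0xb))) (.nd (.nd (.lf 0x9) (.lf 0x9)) (.nd (.lf 0xb) (.lf 0))))) (.nd (.nd (.nd (.nd (.lf 0xb) (.lf 0x9)) (.nd (.lf 0x8) (.lf 0xa))) (.nd (.nd (.lf 0x4) (.lf 0xb)) (.nd (.lf 0x7) (.lf 0)))) (.nd (.nd (.nd (.lf 0x7)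 (.lf 0x8)) (.nd (.lf 0xa) (.lf 0x4))) (.nd (.nd (.lf 0x8) (.lf 0xb)) (.nd (.lf 0x7) (.lf 0)))))) (.nd (.nd (.nd (.nd (.nd (.lf 0xb) (.lf 0xa)) (.nd (.lf 0x9) (.lf 0x9))) (.nd (.nd (.lf 0x8) (.lf 0x9)) (.nd (.lf 0x5) (.lf 0)))) (.nd (.nd (.nd (.lf 0xa) (.lf 0x7)) (.nd (.lf 0x7) (.lf 0xa))) (.nd (.nd (.lf 0x9) (.lf 0x8)) (.nd (.lf 0xa) (.lf 0))))) (.nd (.nd (.nd (.nd (.lf 0x7) (.lf 0x5)) (.nd (.lf 0x8) (.lf 0xa))) (.nd (.nd (.lf 0x5) (.lf 0x6)) (.nd (.lf 0x8) (.lf 0)))) (.nd (.nd (.nd (.lf 0x5) (.lf 0x9)) (.nd (.lf 0x7) (.lf 0))) (.nd (.nd (.lf 0xa) (.lf 0x9)) (.nd (.lf 0x7) (.lf 0)))))))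
def depA_naabbb : Tr := (.nd (.nd (.nd (.nd (.nd (.nd (.lf 0xb) (.lf 0x6)) (.nd (.lf 0xb) (.lf 0x9))) (.nd (.nd (.lf 0xb) (.lf 0xb)) (.nd (.lf 0x8) (.lf 0)))) (.nd (.nd (.nd (.lf 0x8) (.lf 0x3)) (.nd (.lf 0x8) (.lf 0x9))) (.nd (.nd (.lf 0x3) (.lf 0x7)) (.nd (.lf 0x9) (.lf 0))))) (.nd (.nd (.nd (.nd (.lf 0x9) (.lf 0xa)) (.nd (.lf 0xb) (.lf 0xb))) (.nd (.nd (.lf 0x9) (.lf 0xb)) (.nd (.lf 0x5) (.lf 0)))) (.nd (.nd (.nd (.lf 0xb) (.lf 0x8)) (.nd (.lf 0x7) (.lf 0))) (.nd (.nd (.lf 0x7) (.lf 0x8)) (.nd (.lf 0x7) (.lf 0)))))) (.nd (.nd (.nd (.nd (.nd (.lf 0x5) (.lf 0xa)) (.nd (.lf 0xa) (.lf 0x7))) (.nd (.nd (.lf 0xa) (.lf 0x9)) (.nd (.lf 0x9) (.lf 0)))) (.nd (.nd (.nd (.lf 0xa) (.lf 0x6)) (.nd (.lf 0x9) (.lf 0x5))) (.nd (.nd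 (.lf 0x6) (.lf 0x8)) (.nd (.lf 0x9) (.lf 0))))) (.nd (.nd (.nd (.nd (.lf 0xb) (.lf 0xb)) (.nd (.lf 0xa) (.lf 0x9))) (.nd (.nd (.lf 0x9) (.lf 0x9)) (.nd (.lf 0x5) (.lf 0)))) (.nd (.nd (.nd (.lf 0xa) (.lf 0x6)) (.nd (.lf 0xa) (.lf 0))) (.nd (.nd (.lf 0xa) (.lf 0x9)) (.nd (.lf 0x6) (.lf 0)))))))
def depA_nabaaa : Tr := (.nd (.nd (.nd (.nd (.nd (.nd (.lf 0x0) (.lf 0x9)) (.nd (.lf 0xa) (.lf 0x4))) (.nd (.nd (.lf 0x5) (.lf 0x9)) (.nd (.lf 0xb) (.lf 0)))) (.nd (.nd (.nd (.lf 0xa) (.lf 0x9)) (.nd (.lf 0x9) (.lf 0x9))) (.nd (.nd (.lf 0xb) (.lf 0xa)) (.nd (.lf 0x8) (.lf 0))))) (.nd (.nd (.nd (.nd (.lf 0x6) (.lf 0xa)) (.nd (.lf 0xa) (.lf 0x7))) (.nd (.nd (.lf 0x9) (.lf 0xa)) (.nd (.lf 0xa) (.lf 0)))) (.nd (.nd (.nd (.lf 0x8) (.lf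 0x3)) (.nd (.lf 0xa) (.lf 0x9))) (.nd (.nd (.lf 0x4) (.lf 0xa)) (.nd (.lf 0x8) (.lf 0)))))) (.nd (.nd (.nd (.nd (.nd (.lf 0x9) (.lf 0x7)) (.nd (.lf 0xa) (.lf 0xa))) (.nd (.nd (.lf 0x9) (.lf 0x8)) (.nd (.lf 0xa) (.lf 0)))) (.nd (.nd (.nd (.lf 0x8) (.lf 0x8)) (.nd (.lf 0x6) (.lf 0x8))) (.nd (.nd (.lf 0x9) (.lf 0xa)) (.nd (.lf 0x9) (.lf 0))))) (.nd (.nd (.nd (.nd (.lf 0x6) (.lf 0xa)) (.nd (.lf 0xb) (.lf 0x8))) (.nd (.nd (.lf 0xa) (.lf 0xa)) (.nd (.lf 0x7) (.lf 0)))) (.nd (.nd (.nd (.lf 0x8) (.lf 0x6)) (.nd (.lf 0x8) (.lf 0))) (.nd (.nd (.lf 0x5) (.lf 0xb)) (.nd (.lf 0xb) (.lf 0)))))))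
def depA_nabaab : Tr := (.nd (.nd (.nd (.nd (.nd (.nd (.lf 0x6) (.lf 0x9)) (.nd (.lf 0xa) (.lf 0x8))) (.nd (.nd (.lf 0x9) (.lf 0x7)) (.nd (.lf 0x8) (.lf 0)))) (.nd (.nd (.nd (.lf 0x5) (.lf 0x9)) (.nd (.lf 0xa) (.lf 0x4))) (.nd (.nd (.lf 0x9) (.lf 0x9)) (.nd (.lf 0x7) (.lf 0))))) (.nd (.nd (.nd (.nd (.lf 0xa) (.lf 0x8)) (.nd (.lf 0xb) (.lf 0xa))) (.nd (.nd (.lf 0x9) (.lf 0xa)) (.nd (.lf 0x9) (.lf 0)))) (.nd (.nd (.nd (.lf 0x8) (.lf 0x9)) (.nd (.lf 0x9) (.lf 0xc))) (.nd (.nd (.lf 0xc) (.lf 0x6)) (.nd (.lf 0x9) (.lf 0)))))) (.nd (.nd (.nd (.nd (.nd (.lf 0x9) (.lf 0x9)) (.nd (.lf 0x6) (.lf 0x7))) (.nd (.nd (.lf 0x5) (.lf 0xa)) (.nd (.lf 0xa) (.lf 0)))) (.nd (.nd (.nd (.lf 0xa) (.lf 0xa)) (.nd (.lf 0xb) (.lf 0x9))) (.nd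 (.nd (.lf 0x7) (.lf 0x9)) (.nd (.lf 0xb) (.lf 0))))) (.nd (.nd (.nd (.nd (.lf 0xa) (.lf 0x6)) (.nd (.lf 0x4) (.lf 0x9))) (.nd (.nd (.lf 0x8) (.lf 0x9)) (.nd (.lf 0x8) (.lf 0)))) (.nd (.nd (.nd (.lf 0x5) (.lf 0x9)) (.nd (.lf 0x8) (.lf 0))) (.nd (.nd (.lf 0xa) (.lf 0x9)) (.nd (.lf 0xa) (.lf 0)))))))
def depA_nababa : Tr := (.nd (.nd (.nd (.nd (.nd (.nd (.lf 0x9) (.lf 0xb)) (.nd (.lf 0x8) (.lf 0x5))) (.nd (.nd (.lf 0x1) (.lf 0x8)) (.nd (.lf 0x6) (.lf 0)))) (.nd (.nd (.nd (.lf 0x8) (.lf 0x6)) (.nd (.lf 0x6) (.lf 0xb))) (.nd (.nd (.lf 0x8) (.lf 0xa)) (.nd (.lf 0x7) (.lf 0))))) (.nd (.nd (.nd (.nd (.lf 0xb) (.lf 0x5)) (.nd (.lf 0x4) (.lf 0xa))) (.nd (.nd (.lf 0xb) (.lf 0x8)) (.nd (.lf 0x8) (.lf 0)))) (.nd (.nd (.nd (.lf 0x9)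 (.lf 0x7)) (.nd (.lf 0xa) (.lf 0x9))) (.nd (.nd (.lf 0xb) (.lf 0x9)) (.nd (.lf 0x9) (.lf 0)))))) (.nd (.nd (.nd (.nd (.nd (.lf 0x5) (.lf 0x8)) (.nd (.lf 0xa) (.lf 0x8))) (.nd (.nd (.lf 0xb) (.lf 0x8)) (.nd (.lf 0x9) (.lf 0)))) (.nd (.nd (.nd (.lf 0xb) (.lf 0x6)) (.nd (.lf 0x6) (.lf 0x6))) (.nd (.nd (.lf 0x9) (.lf 0x9)) (.nd (.lf 0x4) (.lf 0))))) (.nd (.nd (.nd (.nd (.lf 0x9) (.lf 0x8)) (.nd (.lf 0x9) (.lf 0xa))) (.nd (.nd (.lf 0x6) (.lf 0x6)) (.nd (.lf 0xa) (.lf 0)))) (.nd (.nd (.nd (.lf 0xa) (.lf 0x4)) (.nd (.lf 0xb) (.lf 0))) (.nd (.nd (.lf 0x9) (.lf 0xa)) (.nd (.lf 0x7) (.lf 0)))))))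
def depA_nababb : Tr := (.nd (.nd (.nd (.nd (.nd (.nd (.lf 0x5) (.lf 0xc)) (.nd (.lf 0x8) (.lf 0xa))) (.nd (.nd (.lf 0x9) (.lf 0x9)) (.nd (.lf 0x9) (.lf 0)))) (.nd (.nd (.nd (.lf 0x5) (.lf 0x7)) (.nd (.lf 0x9) (.lf 0x9))) (.nd (.nd (.lf 0x9) (.lf 0x5)) (.nd (.lf 0x9) (.lf 0))))) (.nd (.nd (.nd (.nd (.lf 0xa) (.lf 0xa)) (.nd (.lf 0x2) (.lf 0x7))) (.nd (.nd (.lf 0x8) (.lf 0xa)) (.nd (.lf 0x7) (.lf 0)))) (.nd (.nd (.nd (.lf 0x8) (.lf 0xa)) (.nd (.lf 0x7) (.lf 0x9))) (.nd (.nd (.lf 0x7) (.lf 0xa)) (.nd (.lf 0x9) (.lf 0)))))) (.nd (.nd (.nd (.nd (.nd (.lf 0x6) (.lf 0x8)) (.nd (.lf 0xa) (.lf 0x9))) (.nd (.nd (.lf 0xb) (.lf 0xc)) (.nd (.lf 0xa) (.lf 0)))) (.nd (.nd (.nd (.lf 0x4) (.lf 0x5)) (.nd (.lf 0xc) (.lf 0x5))) (.nd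 (.nd (.lf 0x9) (.lf 0xb)) (.nd (.lf 0xb) (.lf 0))))) (.nd (.nd (.nd (.nd (.lf 0x9) (.lf 0x6)) (.nd (.lf 0xb) (.lf 0xa))) (.nd (.nd (.lf 0xa) (.lf 0xb)) (.nd (.lf 0xa) (.lf 0)))) (.nd (.nd (.nd (.lf 0xb) (.lf 0xa)) (.nd (.lf 0x9) (.lf 0))) (.nd (.nd (.lf 0x8) (.lf 0x7)) (.nd (.lf 0x9) (.lf 0)))))))
def depA_nabbaa : Tr := (.nd (.nd (.nd (.nd (.nd (.nd (.lf 0x7) (.lf 0xa)) (.nd (.lf 0x8) (.lf 0x8))) (.nd (.nd (.lf 0xa) (.lf 0x8)) (.nd (.lf 0x9) (.lf 0)))) (.nd (.nd (.nd (.lf 0x5) (.lf 0x9)) (.nd (.lf 0xa) (.lf 0xb))) (.nd (.nd (.lf 0xa) (.lf 0xa)) (.nd (.lf 0x9) (.lf 0))))) (.nd (.nd (.nd (.nd (.lf 0x6) (.lf 0x6)) (.nd (.lf 0x7) (.lf 0x7))) (.nd (.nd (.lf 0x9) (.lf 0x9)) (.nd (.lf 0x4) (.lf 0)))) (.nd (.nd (.nd (.lf 0x9)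 (.lf 0x7)) (.nd (.lf 0x2) (.lf 0x8))) (.nd (.nd (.lf 0x5) (.lf 0x9)) (.nd (.lf 0xb) (.lf 0)))))) (.nd (.nd (.nd (.nd (.nd (.lf 0x8) (.lf 0x9)) (.nd (.lf 0x9) (.lf 0x9))) (.nd (.nd (.lf 0x5) (.lf 0x4)) (.nd (.lf 0x9) (.lf 0)))) (.nd (.nd (.nd (.lf 0xa) (.lf 0x9)) (.nd (.lf 0x9) (.lf 0xb))) (.nd (.nd (.lf 0x7) (.lf 0xc)) (.nd (.lf 0xa) (.lf 0))))) (.nd (.nd (.nd (.nd (.lf 0xa) (.lf 0xa)) (.nd (.lf 0x5) (.lf 0xa))) (.nd (.nd (.lf 0xa) (.lf 0xa)) (.nd (.lf 0xa) (.lf 0)))) (.nd (.nd (.nd (.lf 0x8) (.lf 0x9)) (.nd (.lf 0x9) (.lf 0))) (.nd (.nd (.lf 0xa) (.lf 0x6)) (.nd (.lf 0xa) (.lf 0)))))))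
def depA_nabbab : Tr := (.nd (.nd (.nd (.nd (.nd (.nd (.lf 0x6) (.lf 0xa)) (.nd (.lf 0x7) (.lf 0x6))) (.nd (.nd (.lf 0x8) (.lf 0xb)) (.nd (.lf 0x5) (.lf 0)))) (.nd (.nd (.nd (.lf 0xa) (.lf 0x9)) (.nd (.lf 0x8) (.lf 0x8))) (.nd (.nd (.lf 0x8) (.lf 0x8)) (.nd (.lf 0x8) (.lf 0))))) (.nd (.nd (.nd (.nd (.lf 0x8) (.lf 0x9)) (.nd (.lf 0x8) (.lf 0x8))) (.nd (.nd (.lf 0x9) (.lf 0x9)) (.nd (.lf 0xa) (.lf 0)))) (.nd (.nd (.nd (.lf 0x9) (.lf 0x7)) (.nd (.lf 0x9) (.lf 0x9))) (.nd (.nd (.lf 0x5) (.lf 0x6)) (.nd (.lf 0x8) (.lf 0)))))) (.nd (.nd (.nd (.nd (.nd (.lf 0x8) (.lf 0xa)) (.nd (.lf 0xb) (.lf 0x6))) (.nd (.nd (.lf 0xc) (.lf 0x8)) (.nd (.lf 0x8) (.lf 0)))) (.nd (.nd (.nd (.lf 0xb) (.lf 0x6)) (.nd (.lf 0x9) (.lf 0x9))) (.nd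 (.nd (.lf 0xa) (.lf 0xb)) (.nd (.lf 0x4) (.lf 0))))) (.nd (.nd (.nd (.nd (.lf 0x9) (.lf 0xa)) (.nd (.lf 0x7) (.lf 0xb))) (.nd (.nd (.lf 0xb) (.lf 0x9)) (.nd (.lf 0x7) (.lf 0)))) (.nd (.nd (.nd (.lf 0x7) (.lf 0xb)) (.nd (.lf 0xb) (.lf 0))) (.nd (.nd (.lf 0x9) (.lf 0xa)) (.nd (.lf 0xa) (.lf 0)))))))
def depA_nabbba : Tr := (.nd (.nd (.nd (.nd (.nd (.nd (.lf 0x6) (.lf 0xb)) (.nd (.lf 0xb) (.lf 0x7))) (.nd (.nd (.lf 0xa) (.lf 0xb)) (.nd (.lf 0x9) (.lf 0)))) (.nd (.nd (.nd (.lf 0x8) (.lf 0xa)) (.nd (.lf 0xa) (.lf 0x9))) (.nd (.nd (.lf 0x7) (.lf 0x8)) (.nd (.lf 0xb) (.lf 0))))) (.nd (.nd (.nd (.nd (.lf 0x9) (.lf 0x8)) (.nd (.lf 0xa) (.lf 0xc))) (.nd (.nd (.lf 0xa) (.lf 0x7)) (.nd (.lf 0xd) (.lf 0)))) (.nd (.nd (.nd (.lf 0x7)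 (.lf 0x9)) (.nd (.lf 0xb) (.lf 0x9))) (.nd (.nd (.lf 0x7) (.lf 0x9)) (.nd (.lf 0x6) (.lf 0)))))) (.nd (.nd (.nd (.nd (.nd (.lf 0xb) (.lf 0x8)) (.nd (.lf 0x1) (.lf 0xa))) (.nd (.nd (.lf 0xa) (.lf 0x8)) (.nd (.lf 0x5) (.lf 0)))) (.nd (.nd (.nd (.lf 0x9) (.lf 0x6)) (.nd (.lf 0x9) (.lf 0xb))) (.nd (.nd (.lf 0x8) (.lf 0x7)) (.nd (.lf 0x9) (.lf 0))))) (.nd (.nd (.nd (.nd (.lf 0xa) (.lf 0x9)) (.nd (.lf 0xb) (.lf 0x8))) (.nd (.nd (.lf 0xb) (.lf 0xc)) (.nd (.lf 0xb) (.lf 0)))) (.nd (.nd (.nd (.lf 0x9) (.lf 0x7)) (.nd (.lf 0xb) (.lf 0))) (.nd (.nd (.lf 0x8) (.lf 0xc)) (.nd (.lf 0x7) (.lf 0)))))))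
def depA_nabbbb : Tr := (.nd (.nd (.nd (.nd (.nd (.nd (.lf 0x8) (.lf 0x3)) (.nd (.lf 0x8) (.lf 0x9))) (.nd (.nd (.lf 0xb) (.lf 0xa)) (.nd (.lf 0x7) (.lf 0)))) (.nd (.nd (.nd (.lf 0xa) (.lf 0xa)) (.nd (.lf 0x6) (.lf 0x7))) (.nd (.nd (.lf 0x9) (.lf 0x7)) (.nd (.lf 0x7) (.lf 0))))) (.nd (.nd (.nd (.nd (.lf 0x9) (.lf 0x8)) (.nd (.lf 0x9) (.lf 0x4))) (.nd (.nd (.lf 0xb) (.lf 0xb)) (.nd (.lf 0x8) (.lf 0)))) (.nd (.nd (.nd (.lf 0x5) (.lf 0x9)) (.nd (.lf 0xa) (.lf 0))) (.nd (.nd (.lf 0x8) (.lf 0x4)) (.nd (.lf 0x4) (.lf 0)))))) (.nd (.nd (.nd (.nd (.nd (.lf 0x9) (.lf 0x6)) (.nd (.lf 0xa) (.lf 0x4))) (.nd (.nd (.lf 0x9) (.lf 0x8)) (.nd (.lf 0x5) (.lf 0)))) (.nd (.nd (.nd (.lf 0x6) (.lf 0xa)) (.nd (.lf 0xa) (.lf 0xb))) (.nd (.nd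 (.lf 0x8) (.lf 0xb)) (.nd (.lf 0x7) (.lf 0))))) (.nd (.nd (.nd (.nd (.lf 0x9) (.lf 0xa)) (.nd (.lf 0x4) (.lf 0xa))) (.nd (.nd (.lf 0x8) (.lf 0x9)) (.nd (.lf 0x8) (.lf 0)))) (.nd (.nd (.nd (.lf 0x9) (.lf 0x8)) (.nd (.lf 0x5) (.lf 0))) (.nd (.nd (.lf 0xc) (.lf 0x9)) (.nd (.lf 0xa) (.lf 0)))))))
def depA_nbaaaa : Tr := (.nd (.nd (.nd (.nd (.nd (.nd (.lf 0x0) (.lf 0x7)) (.nd (.lf 0x8) (.lf 0xa))) (.nd (.nd (.lf 0x3) (.lf 0x9)) (.nd (.lf 0x5) (.lf 0)))) (.nd (.nd (.nd (.lf 0xa) (.lf 0x8)) (.nd (.lf 0x7) (.lf 0x9))) (.nd (.nd (.lf 0x9) (.lf 0xa)) (.nd (.lf 0xb) (.lf 0))))) (.nd (.nd (.nd (.nd (.lf 0xa) (.lf 0xb)) (.nd (.lf 0xa) (.lf 0x6))) (.nd (.nd (.lf 0xa) (.lf 0x9)) (.nd (.lf 0x8) (.lf 0)))) (.nd (.nd (.nd (.lf 0x3) (.lf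 0xb)) (.nd (.lf 0x9) (.lf 0x5))) (.nd (.nd (.lf 0x6) (.lf 0x9)) (.nd (.lf 0x8) (.lf 0)))))) (.nd (.nd (.nd (.nd (.nd (.lf 0x5) (.lf 0x7)) (.nd (.lf 0x9) (.lf 0xa))) (.nd (.nd (.lf 0xa) (.lf 0xa)) (.nd (.lf 0x9) (.lf 0)))) (.nd (.nd (.nd (.lf 0x7) (.lf 0xa)) (.nd (.lf 0x9) (.lf 0x9))) (.nd (.nd (.lf 0x4) (.lf 0x9)) (.nd (.lf 0x7) (.lf 0))))) (.nd (.nd (.nd (.nd (.lf 0x6) (.lf 0x3)) (.nd (.lf 0x8) (.lf 0x7))) (.nd (.nd (.lf 0x7) (.lf 0x6)) (.nd (.lf 0x5) (.lf 0)))) (.nd (.nd (.nd (.lf 0x9) (.lf 0x9)) (.nd (.lf 0xa) (.lf 0))) (.nd (.nd (.lf 0x9) (.lf 0xa)) (.nd (.lf 0x9) (.lf 0)))))))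
def depA_nbaaab : Tr := (.nd (.nd (.nd (.nd (.nd (.nd (.lf 0xb) (.lf 0x8)) (.nd (.lf 0x3) (.lf 0xb))) (.nd (.nd (.lf 0x1) (.lf 0x7)) (.nd (.lf 0x8) (.lf 0)))) (.nd (.nd (.nd (.lf 0x7) (.lf 0x6)) (.nd (.lf 0x8) (.lf 0x8))) (.nd (.nd (.lf 0x9) (.lf 0xb)) (.nd (.lf 0x7) (.lf 0))))) (.nd (.nd (.nd (.nd (.lf 0x7) (.lf 0xa)) (.nd (.lf 0x8) (.lf 0x3))) (.nd (.nd (.lf 0x8) (.lf 0xa)) (.nd (.lf 0xa) (.lf 0)))) (.nd (.nd (.nd (.lf 0x8) (.lf 0xb)) (.nd (.lf 0x6) (.lf 0xa))) (.nd (.nd (.lf 0x8) (.lf 0x6)) (.nd (.lf 0x3) (.lf 0)))))) (.nd (.nd (.nd (.nd (.nd (.lf 0x6) (.lf 0x9)) (.nd (.lf 0x8) (.lf 0x9))) (.nd (.nd (.lf 0x3) (.lf 0xa)) (.nd (.lf 0x9) (.lf 0)))) (.nd (.nd (.nd (.lf 0xa) (.lf 0xa)) (.nd (.lf 0x5) (.lf 0x7))) (.nd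 (.nd (.lf 0x9) (.lf 0x9)) (.nd (.lf 0x3) (.lf 0))))) (.nd (.nd (.nd (.nd (.lf 0xb) (.lf 0x8)) (.nd (.lf 0xa) (.lf 0xa))) (.nd (.nd (.lf 0x9) (.lf 0x6)) (.nd (.lf 0x9) (.lf 0)))) (.nd (.nd (.nd (.lf 0xa) (.lf 0xa)) (.nd (.lf 0x8) (.lf 0))) (.nd (.nd (.lf 0x8) (.lf 0x8)) (.nd (.lf 0x7) (.lf 0)))))))
def depA_nbaaba : Tr := (.nd (.nd (.nd (.nd (.nd (.nd (.lf 0xa) (.lf 0xa)) (.nd (.lf 0x7) (.lf 0xa))) (.nd (.nd (.lf 0x9) (.lf 0xa)) (.nd (.lf 0xa) (.lf 0)))) (.nd (.nd (.nd (.lf 0xa) (.lf 0x8)) (.nd (.lf 0x6) (.lf 0x9))) (.nd (.nd (.lf 0x7) (.lf 0x8)) (.nd (.lf 0xb) (.lf 0))))) (.nd (.nd (.nd (.nd (.lf 0xc) (.lf 0x8)) (.nd (.lf 0x6) (.lf 0xb))) (.nd (.nd (.lf 0x8) (.lf 0x7)) (.nd (.lf 0x7) (.lf 0)))) (.nd (.nd (.nd (.lf 0x6)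 (.lf 0xb)) (.nd (.lf 0x8) (.lf 0x5))) (.nd (.nd (.lf 0xb) (.lf 0x8)) (.nd (.lf 0x9) (.lf 0)))))) (.nd (.nd (.nd (.nd (.nd (.lf 0x2) (.lf 0x8)) (.nd (.lf 0xa) (.lf 0x7))) (.nd (.nd (.lf 0xa) (.lf 0x6)) (.nd (.lf 0x9) (.lf 0)))) (.nd (.nd (.nd (.lf 0xa) (.lf 0x8)) (.nd (.lf 0xa) (.lf 0x6))) (.nd (.nd (.lf 0x3) (.lf 0xb)) (.nd (.lf 0x9) (.lf 0))))) (.nd (.nd (.nd (.nd (.lf 0xa) (.lf 0x3)) (.nd (.lf 0x7) (.lf 0x9))) (.nd (.nd (.lf 0x7) (.lf 0x7)) (.nd (.lf 0xb) (.lf 0)))) (.nd (.nd (.nd (.lf 0xa) (.lf 0xa)) (.nd (.lf 0x9) (.lf 0))) (.nd (.nd (.lf 0xa) (.lf 0xa)) (.nd (.lf 0x6) (.lf 0)))))))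
def depA_nbaabb : Tr := (.nd (.nd (.nd (.nd (.nd (.nd (.lf 0xa) (.lf 0x9)) (.nd (.lf 0xa) (.lf 0x9))) (.nd (.nd (.lf 0x7) (.lf 0x7)) (.nd (.lf 0x9) (.lf 0)))) (.nd (.nd (.nd (.lf 0x1) (.lf 0xa)) (.nd (.lf 0x2) (.lf 0x9))) (.nd (.nd (.lf 0x8) (.lf 0x9)) (.nd (.lf 0xb) (.lf 0))))) (.nd (.nd (.nd (.nd (.lf 0xa) (.lf 0x7)) (.nd (.lf 0x6) (.lf 0xa))) (.nd (.nd (.lf 0x8) (.lf 0x6)) (.nd (.lf 0xa) (.lf 0)))) (.nd (.nd (.nd (.lf 0x8) (.lf 0xb)) (.nd (.lf 0xa) (.lf 0xa))) (.nd (.nd (.lf 0x9) (.lf 0x9)) (.nd (.lf 0x8) (.lf 0)))))) (.nd (.nd (.nd (.nd (.nd (.lf 0x7) (.lf 0x9)) (.nd (.lf 0x7) (.lf 0xa))) (.nd (.nd (.lf 0x9) (.lf 0xa)) (.nd (.lf 0x9) (.lf 0)))) (.nd (.nd (.nd (.lf 0x8) (.lf 0xa)) (.nd (.lf 0x8) (.lf 0x5))) (.nd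 (.nd (.lf 0xa) (.lf 0xc)) (.nd (.lf 0xb) (.lf 0))))) (.nd (.nd (.nd (.nd (.lf 0x7) (.lf 0x7)) (.nd (.lf 0xa) (.lf 0xa))) (.nd (.nd (.lf 0x8) (.lf 0xa)) (.nd (.lf 0x9) (.lf 0)))) (.nd (.nd (.nd (.lf 0x5) (.lf 0xa)) (.nd (.lf 0xa) (.lf 0))) (.nd (.nd (.lf 0x5) (.lf 0x8)) (.nd (.lf 0xa) (.lf 0)))))))
def depA_nbabaa : Tr := (.nd (.nd (.nd (.nd (.nd (.nd (.lf 0xa) (.lf 0x6)) (.nd (.lf 0xa) (.lf 0x8))) (.nd (.nd (.lf 0x5) (.lf 0x6)) (.nd (.lf 0x7) (.lf 0)))) (.nd (.nd (.nd (.lf 0x9) (.lf 0x8)) (.nd (.lf 0xa) (.lf 0x4))) (.nd (.nd (.lf 0x7) (.lf 0x3)) (.nd (.lf 0x6) (.lf 0))))) (.nd (.nd (.nd (.nd (.lf 0x6) (.lf 0x8)) (.nd (.lf 0xa) (.lf 0xa))) (.nd (.nd (.lf 0xa) (.lf 0x7)) (.nd (.lf 0x6) (.lf 0)))) (.nd (.nd (.nd (.lf 0xa)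 (.lf 0xa)) (.nd (.lf 0x6) (.lf 0xb))) (.nd (.nd (.lf 0x6) (.lf 0xa)) (.nd (.lf 0x8) (.lf 0)))))) (.nd (.nd (.nd (.nd (.nd (.lf 0xa) (.lf 0xb)) (.nd (.lf 0x8) (.lf 0x3))) (.nd (.nd (.lf 0x9) (.lf 0xb)) (.nd (.lf 0xa) (.lf 0)))) (.nd (.nd (.nd (.lf 0x7) (.lf 0x9)) (.nd (.lf 0xa) (.lf 0x8))) (.nd (.nd (.lf 0x7) (.lf 0xa)) (.nd (.lf 0x4) (.lf 0))))) (.nd (.nd (.nd (.nd (.lf 0xa) (.lf 0x1)) (.nd (.lf 0x8) (.lf 0xa))) (.nd (.nd (.lf 0xa) (.lf 0x8)) (.nd (.lf 0x9) (.lf 0)))) (.nd (.nd (.nd (.lf 0x7) (.lf 0x9)) (.nd (.lf 0x8) (.lf 0))) (.nd (.nd (.lf 0xa) (.lf 0x9)) (.nd (.lf 0xb) (.lf 0)))))))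
def depA_nbabab : Tr := (.nd (.nd (.nd (.nd (.nd (.nd (.lf 0xa) (.lf 0xa)) (.nd (.lf 0x7) (.lf 0xb))) (.nd (.nd (.lf 0xa) (.lf 0x7)) (.nd (.lf 0x9) (.lf 0)))) (.nd (.nd (.nd (.lf 0xc) (.lf 0x7)) (.nd (.lf 0x7) (.lf 0xa))) (.nd (.nd (.lf 0x7) (.lf 0x9)) (.nd (.lf 0x8) (.lf 0))))) (.nd (.nd (.nd (.nd (.lf 0x9) (.lf 0x8)) (.nd (.lf 0xb) (.lf 0xa))) (.nd (.nd (.lf 0xb) (.lf 0x7)) (.nd (.lf 0x6) (.lf 0)))) (.nd (.nd (.nd (.lf 0xa) (.lf 0xa)) (.nd (.lf 0x9) (.lf 0xa))) (.nd (.nd (.lf 0xc) (.lf 0xa)) (.nd (.lf 0xb) (.lf 0)))))) (.nd (.nd (.nd (.nd (.nd (.lf 0x5) (.lf 0x8)) (.nd (.lf 0x9) (.lf 0x9))) (.nd (.nd (.lf 0x3) (.lf 0x8)) (.nd (.lf 0x2) (.lf 0)))) (.nd (.nd (.nd (.lf 0xb) (.lf 0xc)) (.nd (.lf 0xb) (.lf 0x8))) (.nd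 (.nd (.lf 0xa) (.lf 0x9)) (.nd (.lf 0x9) (.lf 0))))) (.nd (.nd (.nd (.nd (.lf 0x4) (.lf 0xc)) (.nd (.lf 0x1) (.lf 0xa))) (.nd (.nd (.lf 0x8) (.lf 0xb)) (.nd (.lf 0x9) (.lf 0)))) (.nd (.nd (.nd (.lf 0x5) (.lf 0xa)) (.nd (.lf 0xb) (.lf 0))) (.nd (.nd (.lf 0x8) (.lf 0x7)) (.nd (.lf 0x8) (.lf 0)))))))
def depA_nbabba : Tr := (.nd (.nd (.nd (.nd (.nd (.nd (.lf 0xc) (.lf 0xa)) (.nd (.lf 0x6) (.lf 0x7))) (.nd (.nd (.lf 0xc) (.lf 0xb)) (.nd (.lf 0xb) (.lf 0)))) (.nd (.nd (.nd (.lf 0xb) (.lf 0xa)) (.nd (.lf 0xa) (.lf 0xb))) (.nd (.nd (.lf 0xc) (.lf 0xa)) (.nd (.lf 0x8) (.lf 0))))) (.nd (.nd (.nd (.nd (.lf 0xa) (.lf 0x8)) (.nd (.lf 0x7) (.lf 0xa))) (.nd (.nd (.lf 0x8) (.lf 0xc)) (.nd (.lf 0x9) (.lf 0)))) (.nd (.nd (.nd (.lf 0xa)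 (.lf 0x9)) (.nd (.lf 0xb) (.lf 0x9))) (.nd (.nd (.lf 0xc) (.lf 0x5)) (.nd (.lf 0xb) (.lf 0)))))) (.nd (.nd (.nd (.nd (.nd (.lf 0x8) (.lf 0x7)) (.nd (.lf 0x9) (.lf 0x4))) (.nd (.nd (.lf 0xa) (.lf 0x8)) (.nd (.lf 0x8) (.lf 0)))) (.nd (.nd (.nd (.lf 0xa) (.lf 0xa)) (.nd (.lf 0xa) (.lf 0x6))) (.nd (.nd (.lf 0xc) (.lf 0x6)) (.nd (.lf 0x8) (.lf 0))))) (.nd (.nd (.nd (.nd (.lf 0xb) (.lf 0x9)) (.nd (.lf 0x8) (.lf 0x8))) (.nd (.nd (.lf 0x9) (.lf 0xa)) (.nd (.lf 0x6) (.lf 0)))) (.nd (.nd (.nd (.lf 0x5) (.lf 0x7)) (.nd (.lf 0x8) (.lf 0))) (.nd (.nd (.lf 0x6) (.lf 0x8)) (.nd (.lf 0xa) (.lf 0)))))))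
def depA_nbabbb : Tr := (.nd (.nd (.nd (.nd (.nd (.nd (.lf 0xa) (.lf 0x4)) (.nd (.lf 0x7) (.lf 0x8))) (.nd (.nd (.lf 0x9) (.lf 0xb)) (.nd (.lf 0xb) (.lf 0)))) (.nd (.nd (.nd (.lf 0x9) (.lf 0xa)) (.nd (.lf 0x9) (.lf 0xa))) (.nd (.nd (.lf 0x6) (.lf 0x9)) (.nd (.lf 0xa) (.lf 0))))) (.nd (.nd (.nd (.nd (.lf 0xb) (.lf 0x6)) (.nd (.lf 0x9) (.lf 0xa))) (.nd (.nd (.lf 0x2) (.lf 0x8)) (.nd (.lf 0x7) (.lf 0)))) (.nd (.nd (.nd (.lf 0xa) (.lf 0x9)) (.nd (.lf 0x9) (.lf 0))) (.nd (.nd (.lf 0x3) (.lf 0x6)) (.nd (.lf 0xc) (.lf 0)))))) (.nd (.nd (.nd (.nd (.nd (.lf 0xa) (.lf 0x8)) (.nd (.lf 0x2) (.lf 0x8))) (.nd (.nd (.lf 0x8) (.lf 0xb)) (.nd (.lf 0x9) (.lf 0)))) (.nd (.nd (.nd (.lf 0x8) (.lf 0x9)) (.nd (.lf 0xa) (.lf 0x8))) (.nd (.nd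 (.lf 0x5) (.lf 0x9)) (.nd (.lf 0x9) (.lf 0))))) (.nd (.nd (.nd (.nd (.lf 0x9) (.lf 0x9)) (.nd (.lf 0x7) (.lf 0xa))) (.nd (.nd (.lf 0x7) (.lf 0x7)) (.nd (.lf 0x9) (.lf 0)))) (.nd (.nd (.nd (.lf 0x8) (.lf 0xa)) (.nd (.lf 0xa) (.lf 0))) (.nd (.nd (.lf 0xb) (.lf 0xb)) (.nd (.lf 0x7) (.lf 0)))))))
def depA_nbbaaa : Tr := (.nd (.nd (.nd (.nd (.nd (.nd (.lf 0x0) (.lf 0xa)) (.nd (.lf 0x8) (.lf 0xa))) (.nd (.nd (.lf 0x9) (.lf 0xa)) (.nd (.lf 0xa) (.lf 0)))) (.nd (.nd (.nd (.lf 0x8) (.lf 0x7)) (.nd (.lf 0x6) (.lf 0x9))) (.nd (.nd (.lf 0xc) (.lf 0x8)) (.nd (.lf 0x8) (.lf 0))))) (.nd (.nd (.nd (.nd (.lf 0x4) (.lf 0x9)) (.nd (.lf 0xb) (.lf 0xb))) (.nd (.nd (.lf 0x8) (.lf 0x7)) (.nd (.lf 0xa) (.lf 0)))) (.nd (.nd (.nd (.lf 0x7) (.lf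 0xa)) (.nd (.lf 0x4) (.lf 0xa))) (.nd (.nd (.lf 0x9) (.lf 0xa)) (.nd (.lf 0x7) (.lf 0)))))) (.nd (.nd (.nd (.nd (.nd (.lf 0xb) (.lf 0x5)) (.nd (.lf 0xb) (.lf 0xa))) (.nd (.nd (.lf 0x8) (.lf 0x9)) (.nd (.lf 0xa) (.lf 0)))) (.nd (.nd (.nd (.lf 0x9) (.lf 0xb)) (.nd (.lf 0xa) (.lf 0x6))) (.nd (.nd (.lf 0xa) (.lf 0xa)) (.nd (.lf 0x7) (.lf 0))))) (.nd (.nd (.nd (.nd (.lf 0x5) (.lf 0xa)) (.nd (.lf 0xb) (.lf 0x1))) (.nd (.nd (.lf 0x8) (.lf 0x6)) (.nd (.lf 0x9) (.lf 0)))) (.nd (.nd (.nd (.lf 0x9) (.lf 0x4)) (.nd (.lf 0x6) (.lf 0))) (.nd (.nd (.lf 0x8) (.lf 0x9)) (.nd (.lf 0x7) (.lf 0)))))))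
def depA_nbbaab : Tr := (.nd (.nd (.nd (.nd (.nd (.nd (.lf 0xc) (.lf 0x2)) (.nd (.lf 0x7) (.lf 0x6))) (.nd (.nd (.lf 0x8) (.lf 0x8)) (.nd (.lf 0x4) (.lf 0)))) (.nd (.nd (.nd (.lf 0x9) (.lf 0x7)) (.nd (.lf 0x9) (.lf 0x7))) (.nd (.nd (.lf 0xb) (.lf 0x9)) (.nd (.lf 0x7) (.lf 0))))) (.nd (.nd (.nd (.nd (.lf 0x9) (.lf 0xa)) (.nd (.lf 0x9) (.lf 0xb))) (.nd (.nd (.lf 0xa) (.lf 0xa)) (.nd (.lf 0xb) (.lf 0)))) (.nd (.nd (.nd (.lf 0xb) (.lf 0xa)) (.nd (.lf 0x8) (.lf 0x8))) (.nd (.nd (.lf 0x9) (.lf 0x8)) (.nd (.lf 0xa) (.lf 0)))))) (.nd (.nd (.nd (.nd (.nd (.lf 0x8) (.lf 0x9)) (.nd (.lf 0x7) (.lf 0xb))) (.nd (.nd (.lf 0x7) (.lf 0x8)) (.nd (.lf 0xa) (.lf 0)))) (.nd (.nd (.nd (.lf 0x9) (.lf 0x7)) (.nd (.lf 0x7) (.lf 0xa))) (.nd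 (.nd (.lf 0x6) (.lf 0x5)) (.nd (.lf 0xc) (.lf 0))))) (.nd (.nd (.nd (.nd (.lf 0x9) (.lf 0xb)) (.nd (.lf 0xa) (.lf 0xb))) (.nd (.nd (.lf 0x7) (.lf 0xb)) (.nd (.lf 0xb) (.lf 0)))) (.nd (.nd (.nd (.lf 0x9) (.lf 0x7)) (.nd (.lf 0x7) (.lf 0))) (.nd (.nd (.lf 0x6) (.lf 0x6)) (.nd (.lf 0xb) (.lf 0)))))))
def depA_nbbaba : Tr := (.nd (.nd (.nd (.nd (.nd (.nd (.lf 0x6) (.lf 0x6)) (.nd (.lf 0xb) (.lf 0x7))) (.nd (.nd (.lf 0xa) (.lf 0xa)) (.nd (.lf 0x9) (.lf 0)))) (.nd (.nd (.nd (.lf 0x9) (.lf 0xb)) (.nd (.lf 0xa) (.lf 0xb))) (.nd (.nd (.lf 0x7) (.lf 0xb)) (.nd (.lf 0x9) (.lf 0))))) (.nd (.nd (.nd (.nd (.lf 0x8) (.lf 0x4)) (.nd (.lf 0x9) (.lf 0xb))) (.nd (.nd (.lf 0xa) (.lf 0x9)) (.nd (.lf 0xb) (.lf 0)))) (.nd (.nd (.nd (.lf 0xb)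 (.lf 0x7)) (.nd (.lf 0x8) (.lf 0x8))) (.nd (.nd (.lf 0x8) (.lf 0x8)) (.nd (.lf 0xa) (.lf 0)))))) (.nd (.nd (.nd (.nd (.nd (.lf 0x6) (.lf 0x7)) (.nd (.lf 0x9) (.lf 0xb))) (.nd (.nd (.lf 0x6) (.lf 0x5)) (.nd (.lf 0x2) (.lf 0)))) (.nd (.nd (.nd (.lf 0x9) (.lf 0xc)) (.nd (.lf 0xa) (.lf 0x8))) (.nd (.nd (.lf 0x6) (.lf 0xb)) (.nd (.lf 0x6) (.lf 0))))) (.nd (.nd (.nd (.nd (.lf 0xa) (.lf 0x9)) (.nd (.lf 0xc) (.lf 0x7))) (.nd (.nd (.lf 0xb) (.lf 0x7)) (.nd (.lf 0x4) (.lf 0)))) (.nd (.nd (.nd (.lf 0x7) (.lf 0xa)) (.nd (.lf 0x8) (.lf 0))) (.nd (.nd (.lf 0x8) (.lf 0xa)) (.nd (.lf 0xb) (.lf 0)))))))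
def depA_nbbabb : Tr := (.nd (.nd (.nd (.nd (.nd (.nd (.lf 0x9) (.lf 0x9)) (.nd (.lf 0x8) (.lf 0xb))) (.nd (.nd (.lf 0x9) (.lf 0x9)) (.nd (.lf 0xa) (.lf 0)))) (.nd (.nd (.nd (.lf 0x5) (.lf 0x7)) (.nd (.lf 0xb) (.lf 0x7))) (.nd (.nd (.lf 0x6) (.lf 0x7)) (.nd (.lf 0x8) (.lf 0))))) (.nd (.nd (.nd (.nd (.lf 0x9) (.lf 0x9)) (.nd (.lf 0x4) (.lf 0x8))) (.nd (.nd (.lf 0x8) (.lf 0x8)) (.nd (.lf 0xa) (.lf 0)))) (.nd (.nd (.nd (.lf 0x8) (.lf 0x9)) (.nd (.lf 0x9) (.lf 0))) (.nd (.nd (.lf 0x5) (.lf 0x8)) (.nd (.lf 0x5) (.lf 0)))))) (.nd (.nd (.nd (.nd (.nd (.lf 0xb) (.lf 0x8)) (.nd (.lf 0x9) (.lf 0x5))) (.nd (.nd (.lf 0x4) (.lf 0x6)) (.nd (.lf 0xb) (.lf 0)))) (.nd (.nd (.nd (.lf 0xb) (.lf 0x5)) (.nd (.lf 0xa) (.lf 0x4))) (.nd (.nd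 (.lf 0x6) (.lf 0x9)) (.nd (.lf 0x2) (.lf 0))))) (.nd (.nd (.nd (.nd (.lf 0x8) (.lf 0x7)) (.nd (.lf 0x6) (.lf 0xa))) (.nd (.nd (.lf 0x8) (.lf 0xa)) (.nd (.lf 0xa) (.lf 0)))) (.nd (.nd (.nd (.lf 0x8) (.lf 0xb)) (.nd (.lf 0xb) (.lf 0))) (.nd (.nd (.lf 0x7) (.lf 0x7)) (.nd (.lf 0x7) (.lf 0)))))))
def depA_nbbbaa : Tr := (.nd (.nd (.nd (.nd (.nd (.nd (.lf 0x0) (.lf 0x5)) (.nd (.lf 0x4) (.lf 0x7))) (.nd (.nd (.lf 0x9) (.lf 0x7)) (.nd (.lf 0xb) (.lf 0)))) (.nd (.nd (.nd (.lf 0x7) (.lf 0xb)) (.nd (.lf 0xa) (.lf 0xa))) (.nd (.nd (.lf 0x7) (.lf 0x9)) (.nd (.lf 0x9) (.lf 0))))) (.nd (.nd (.nd (.nd (.lf 0xb) (.lf 0xb)) (.nd (.lf 0xb) (.lf 0xb))) (.nd (.nd (.lf 0xb) (.lf 0x8)) (.nd (.lf 0x6) (.lf 0)))) (.nd (.nd (.nd (.lf 0x8) (.lf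 0x9)) (.nd (.lf 0x8) (.lf 0x9))) (.nd (.nd (.lf 0x9) (.lf 0xb)) (.nd (.lf 0x7) (.lf 0)))))) (.nd (.nd (.nd (.nd (.nd (.lf 0x5) (.lf 0x5)) (.nd (.lf 0xa) (.lf 0xc))) (.nd (.nd (.lf 0xb) (.lf 0x9)) (.nd (.lf 0x5) (.lf 0)))) (.nd (.nd (.nd (.lf 0x9) (.lf 0xb)) (.nd (.lf 0xa) (.lf 0xa))) (.nd (.nd (.lf 0xb) (.lf 0x9)) (.nd (.lf 0xa) (.lf 0))))) (.nd (.nd (.nd (.nd (.lf 0xc) (.lf 0xb)) (.nd (.lf 0x6) (.lf 0xa))) (.nd (.nd (.lf 0x9) (.lf 0xb)) (.nd (.lf 0x8) (.lf 0)))) (.nd (.nd (.nd (.lf 0x9) (.lf 0x7)) (.nd (.lf 0xa) (.lf 0))) (.nd (.nd (.lf 0xc) (.lf 0xa)) (.nd (.lf 0x9) (.lf 0)))))))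
def depA_nbbbab : Tr := (.nd (.nd (.nd (.nd (.nd (.nd (.lf 0x9) (.lf 0x8)) (.nd (.lf 0xa) (.lf 0xb))) (.nd (.nd (.lf 0x8) (.lf 0xa)) (.nd (.lf 0x8) (.lf 0)))) (.nd (.nd (.nd (.lf 0x7) (.lf 0xb)) (.nd (.lf 0x9) (.lf 0x9))) (.nd (.nd (.lf 0x8) (.lf 0x7)) (.nd (.lf 0xa) (.lf 0))))) (.nd (.nd (.nd (.nd (.lf 0xb) (.lf 0x9)) (.nd (.lf 0x7) (.lf 0x8))) (.nd (.nd (.lf 0x8) (.lf 0x8)) (.nd (.lf 0x9) (.lf 0)))) (.nd (.nd (.nd (.lf 0xa) (.lf 0x7)) (.nd (.lf 0xb) (.lf 0x7))) (.nd (.nd (.lf 0xb) (.lf 0xa)) (.nd (.lf 0x6) (.lf 0)))))) (.nd (.nd (.nd (.nd (.nd (.lf 0xb) (.lf 0x6)) (.nd (.lf 0xa) (.lf 0x9))) (.nd (.nd (.lf 0xc) (.lf 0xa)) (.nd (.lf 0x9) (.lf 0)))) (.nd (.nd (.nd (.lf 0x9) (.lf 0xb)) (.nd (.lf 0x8) (.lf 0xa))) (.nd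 (.nd (.lf 0x9) (.lf 0xa)) (.nd (.lf 0x9) (.lf 0))))) (.nd (.nd (.nd (.nd (.lf 0x7) (.lf 0x8)) (.nd (.lf 0x8) (.lf 0xa))) (.nd (.nd (.lf 0x5) (.lf 0xb)) (.nd (.lf 0x5) (.lf 0)))) (.nd (.nd (.nd (.lf 0x6) (.lf 0x6)) (.nd (.lf 0xa) (.lf 0))) (.nd (.nd (.lf 0x6) (.lf 0x7)) (.nd (.lf 0xa) (.lf 0)))))))
def depA_nbbbba : Tr := (.nd (.nd (.nd (.nd (.nd (.nd (.lf 0x9) (.lf 0x5)) (.nd (.lf 0xb) (.lf 0xa))) (.nd (.nd (.lf 0xa) (.lf 0x9)) (.nd (.lf 0x8) (.lf 0)))) (.nd (.nd (.nd (.lf 0x9) (.lf 0xa)) (.nd (.lf 0xb) (.lf 0xa))) (.nd (.nd (.lf 0xa) (.lf 0x4)) (.nd (.lf 0x9) (.lf 0))))) (.nd (.nd (.nd (.nd (.lf 0xb) (.lf 0xa)) (.nd (.lf 0xb) (.lf 0x8))) (.nd (.nd (.lf 0xa) (.lf 0x7)) (.nd (.lf 0xa) (.lf 0)))) (.nd (.nd (.nd (.lf 0x9)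 (.lf 0xb)) (.nd (.lf 0xa) (.lf 0x9))) (.nd (.nd (.lf 0x9) (.lf 0x9)) (.nd (.lf 0xa) (.lf 0)))))) (.nd (.nd (.nd (.nd (.nd (.lf 0x8) (.lf 0xa)) (.nd (.lf 0x9) (.lf 0x9))) (.nd (.nd (.lf 0x8) (.lf 0xa)) (.nd (.lf 0xa) (.lf 0)))) (.nd (.nd (.nd (.lf 0x9) (.lf 0xa)) (.nd (.lf 0x8) (.lf 0xa))) (.nd (.nd (.lf 0xb) (.lf 0x9)) (.nd (.lf 0x9) (.lf 0))))) (.nd (.nd (.nd (.nd (.lf 0x8) (.lf 0xa)) (.nd (.lf 0xb) (.lf 0xb))) (.nd (.nd (.lf 0xa) (.lf 0xb)) (.nd (.lf 0xa) (.lf 0)))) (.nd (.nd (.nd (.lf 0x8) (.lf 0xc)) (.nd (.lf 0xa) (.lf 0))) (.nd (.nd (.lf 0xa) (.lf 0xa)) (.nd (.lf 0x9) (.lf 0)))))))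
def depA_nbbbbb : Tr := (.nd (.nd (.nd (.nd (.nd (.nd (.lf 0x9) (.lf 0xc)) (.nd (.lf 0xb) (.lf 0x9))) (.nd (.nd (.lf 0xb) (.lf 0x9)) (.nd (.lf 0xa) (.lf 0)))) (.nd (.nd (.nd (.lf 0xa) (.lf 0x9)) (.nd (.lf 0x8) (.lf 0x5))) (.nd (.nd (.lf 0x4) (.lf 0x9)) (.nd (.lf 0x9) (.lf 0))))) (.nd (.nd (.nd (.nd (.lf 0x8) (.lf 0xa)) (.nd (.lf 0x8) (.lf 0x9))) (.nd (.nd (.lf 0xc) (.lf 0x9)) (.nd (.lf 0x7) (.lf 0)))) (.nd (.nd (.nd (.lf 0x6) (.lf 0x8)) (.nd (.lf 0xb) (.lf 0))) (.nd (.nd (.lf 0xa) (.lf 0x3)) (.nd (.lf 0x9) (.lf 0)))))) (.nd (.nd (.nd (.nd (.nd (.lf 0xa) (.lf 0x4)) (.nd (.lf 0x8) (.lf 0xa))) (.nd (.nd (.lf 0x9) (.lf 0x8)) (.nd (.lf 0x7) (.lf 0)))) (.nd (.nd (.nd (.lf 0xb) (.lf 0x9)) (.nd (.lf 0x9) (.lf 0x7))) (.nd (.nd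 (.lf 0xa) (.lf 0x8)) (.nd (.lf 0xb) (.lf 0))))) (.nd (.nd (.nd (.nd (.lf 0xb) (.lf 0x8)) (.nd (.lf 0xa) (.lf 0x9))) (.nd (.nd (.lf 0xa) (.lf 0x7)) (.nd (.lf 0x9) (.lf 0)))) (.nd (.nd (.nd (.lf 0x8) (.lf 0xb)) (.nd (.lf 0x4) (.lf 0))) (.nd (.nd (.lf 0xb) (.lf 0xa)) (.nd (.lf 0xa) (.lf 0)))))))
def depA : Tr := (.nd (.nd (.nd (.nd (.nd depA_naaaaa depA_naaaab) (.nd depA_naaaba depA_naaabb)) (.nd (.nd depA_naabaa depA_naabab) (.nd depA_naabba depA_naabbb))) (.nd (.nd (.nd depA_nabaaa depA_nabaab) (.nd depA_nababa depA_nababb)) (.nd (.nd depA_nabbaa depA_nabbab) (.nd depA_nabbba depA_nabbbb)))) (.nd (.nd (.nd (.nd depA_nbaaaa depA_nbaaab) (.nd depA_nbaaba depA_nbaabb)) (.nd (.nd depA_nbabaa depA_nbabab) (.nd depA_nbabba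 depA_nbabbb))) (.nd (.nd (.nd depA_nbbaaa depA_nbbaab) (.nd depA_nbbaba depA_nbbabb)) (.nd (.nd depA_nbbbaa depA_nbbbab) (.nd depA_nbbbba depA_nbbbbb)))))
def phA_naaaaa : Tr := (.nd (.nd (.nd (.nd (.nd (.nd (.lf 0x0) (.lf 0x1632)) (.nd (.lf 0x2c6) (.lf 0x113f))) (.nd (.nd (.lf 0x5ec) (.lf 0x6c7)) (.nd (.lf 0x370) (.lf 0)))) (.nd (.nd (.nd (.lf 0x15e5) (.lf 0x86)) (.nd (.lf 0x15c4) (.lf 0x126d))) (.nd (.nd (.lf 0x319) (.lf 0x198)) (.nd (.lf 0x16b1) (.lf 0))))) (.nd (.nd (.nd (.nd (.lf 0x2b7) (.lf 0x1515)) (.nd (.lf 0x162f) (.lf 0x150b))) (.nd (.nd (.lf 0x3c) (.lf 0x679)) (.nd (.lf 0x535) (.lf 0)))) (.nd (.nd (.nd (.lf 0x1177) (.lf 0x1385)) (.nd (.lf 0x11ed) (.lf 0x1b9))) (.nd (.nd (.lf 0x16d9) (.lf 0x397)) (.nd (.lf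 0x138b) (.lf 0)))))) (.nd (.nd (.nd (.nd (.nd (.lf 0x1144) (.lf 0x2c4)) (.nd (.lf 0x304) (.lf 0x159a))) (.nd (.nd (.lf 0x14b4) (.lf 0x1172)) (.nd (.lf 0x11c3) (.lf 0)))) (.nd (.nd (.nd (.lf 0x167) (.lf 0xd8)) (.nd (.lf 0x485) (.lf 0x162d))) (.nd (.nd (.lf 0x14a5) (.lf 0x5ad)) (.nd (.lf 0x1427) (.lf 0))))) (.nd (.nd (.nd (.nd (.lf 0x148e) (.lf 0x85)) (.nd (.lf 0x17) (.lf 0x1094))) (.nd (.nd (.lf 0x5d9) (.lf 0x42e)) (.nd (.lf 0x12eb) (.lf 0)))) (.nd (.nd (.nd (.lf 0x1252) (.lf 0x10a5)) (.nd (.lf 0x16bd) (.lf 0))) (.nd (.nd (.lf 0x1509) (.lf 0x1134)) (.nd (.lf 0x177) (.lf 0)))))))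
def phA_naaaab : Tr := (.nd (.nd (.nd (.nd (.nd (.nd (.lf 0x558) (.lf 0x34c)) (.nd (.lf 0x128) (.lf 0x1645))) (.nd (.nd (.lf 0x681) (.lf 0x1215)) (.nd (.lf 0x12bd) (.lf 0)))) (.nd (.nd (.nd (.lf 0x1457) (.lf 0x1295)) (.nd (.lf 0x164f) (.lf 0x35f))) (.nd (.nd (.lf 0x694) (.lf 0x330)) (.nd (.lf 0x11b3) (.lf 0))))) (.nd (.nd (.nd (.nd (.lf 0x1126) (.lf 0x404)) (.nd (.lf 0x1584) (.lf 0x1214))) (.nd (.nd (.lf 0xa1) (.lf 0x15f4)) (.nd (.lf 0x2da) (.lf 0)))) (.nd (.nd (.nd (.lf 0x1283) (.lf 0x100e)) (.nd (.lf 0x4a2) (.lf 0x4ae))) (.nd (.nd (.lf 0x151a) (.lf 0x678)) (.nd (.lf 0x1242) (.lf 0)))))) (.nd (.nd (.nd (.nd (.nd (.lf 0x430) (.lf 0x2f4)) (.nd (.lf 0x1079) (.lf 0x138a))) (.nd (.nd (.lf 0x21) (.lf 0x46c)) (.nd (.lf 0x116f)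 (.lf 0)))) (.nd (.nd (.nd (.lf 0x11f8) (.lf 0x160b)) (.nd (.lf 0x10e7) (.lf 0x1364))) (.nd (.nd (.lf 0x1299) (.lf 0xbd)) (.nd (.lf 0x1194) (.lf 0))))) (.nd (.nd (.nd (.nd (.lf 0x1288) (.lf 0x51f)) (.nd (.lf 0x3ec) (.lf 0x10c4))) (.nd (.nd (.lf 0x1032) (.lf 0x9d)) (.nd (.lf 0x15d2) (.lf 0)))) (.nd (.nd (.nd (.lf 0x434) (.lf 0x28c)) (.nd (.lf 0x1620) (.lf 0))) (.nd (.nd (.lf 0x54a) (.lf 0x40)) (.nd (.lf 0x1dc) (.lf 0)))))))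
def phA_naaaba : Tr := (.nd (.nd (.nd (.nd (.nd (.nd (.lf 0x382) (.lf 0x1a6)) (.nd (.lf 0x5ce) (.lf 0x146c))) (.nd (.nd (.lf 0x549) (.lf 0x1014)) (.nd (.lf 0xe6) (.lf 0)))) (.nd (.nd (.nd (.lf 0x4dd) (.lf 0x1053)) (.nd (.lf 0x11db) (.lf 0x1216))) (.nd (.nd (.lf 0x157) (.lf 0x123b)) (.nd (.lf 0x11) (.lf 0))))) (.nd (.nd (.nd (.nd (.lf 0x3b4) (.lf 0x12ec)) (.nd (.lf 0x1117) (.lf 0x10b7))) (.nd (.nd (.lf 0x15f9) (.lf 0x387)) (.nd (.lf 0x1382) (.lf 0)))) (.nd (.nd (.nd (.lf 0x87) (.lf 0xc2)) (.nd (.lf 0x12f3) (.lf 0x108b))) (.nd (.nd (.lf 0x1408) (.lf 0x1494)) (.nd (.lf 0x1078) (.lf 0)))))) (.nd (.nd (.nd (.nd (.nd (.lf 0x1557) (.lf 0x1402)) (.nd (.lf 0x1443) (.lf 0x11cc))) (.nd (.nd (.lf 0x505) (.lf 0x2c9)) (.nd (.lf 0x31c)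 (.lf 0)))) (.nd (.nd (.nd (.lf 0x16d3) (.lf 0x123)) (.nd (.lf 0x11bb) (.lf 0x1a4))) (.nd (.nd (.lf 0x1300) (.lf 0x15fc)) (.nd (.lf 0x132) (.lf 0))))) (.nd (.nd (.nd (.nd (.lf 0x1451) (.lf 0x491)) (.nd (.lf 0x1423) (.lf 0x6c))) (.nd (.nd (.lf 0x6bc) (.lf 0x429)) (.nd (.lf 0x69b) (.lf 0)))) (.nd (.nd (.nd (.lf 0x11e6) (.lf 0x1269)) (.nd (.lf 0x21b) (.lf 0))) (.nd (.nd (.lf 0x36) (.lf 0x584)) (.nd (.lf 0x16cf) (.lf 0)))))))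
def phA_naaabb : Tr := (.nd (.nd (.nd (.nd (.nd (.nd (.lf 0x1197) (.lf 0x14b0)) (.nd (.lf 0x150) (.lf 0x57f))) (.nd (.nd (.lf 0x6a2) (.lf 0x1238)) (.nd (.lf 0x1209) (.lf 0)))) (.nd (.nd (.nd (.lf 0x3dc) (.lf 0x1547)) (.nd (.lf 0x144) (.lf 0x507))) (.nd (.nd (.lf 0x19f) (.lf 0x1405)) (.nd (.lf 0x1630) (.lf 0))))) (.nd (.nd (.nd (.nd (.lf 0x24a) (.lf 0x4bc)) (.nd (.lf 0x1166) (.lf 0x134d))) (.nd (.nd (.lf 0x454) (.lf 0x10d0)) (.nd (.lf 0x6cb) (.lf 0)))) (.nd (.nd (.nd (.lf 0x1040) (.lf 0x599)) (.nd (.lf 0x2fd) (.lf 0x16c6))) (.nd (.nd (.lf 0x100) (.lf 0xb0)) (.nd (.lf 0x168b) (.lf 0)))))) (.nd (.nd (.nd (.nd (.nd (.lf 0x1ed) (.lf 0x114d)) (.nd (.lf 0x12e6) (.lf 0x3c2))) (.nd (.nd (.lf 0x133d) (.lf 0x1384)) (.nd (.lf 0x14c4)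 (.lf 0)))) (.nd (.nd (.nd (.lf 0x73) (.lf 0x1234)) (.nd (.lf 0x385) (.lf 0x1678))) (.nd (.nd (.lf 0x164d) (.lf 0x142a)) (.nd (.lf 0x153) (.lf 0))))) (.nd (.nd (.nd (.nd (.lf 0x1335) (.lf 0x377)) (.nd (.lf 0x1284) (.lf 0x6c1))) (.nd (.nd (.lf 0x1a9) (.lf 0x6a3)) (.nd (.lf 0x3e8) (.lf 0)))) (.nd (.nd (.nd (.lf 0x148c) (.lf 0x17f)) (.nd (.lf 0x12f0) (.lf 0))) (.nd (.nd (.lf 0x514) (.lf 0x2c3)) (.nd (.lf 0x32a) (.lf 0)))))))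
def phA_naabaa : Tr := (.nd (.nd (.nd (.nd (.nd (.nd (.lf 0x1241) (.lf 0x281)) (.nd (.lf 0x1020) (.lf 0x13a1))) (.nd (.nd (.lf 0x113e) (.lf 0x537)) (.nd (.lf 0x308) (.lf 0)))) (.nd (.nd (.nd (.lf 0x5ed) (.lf 0x1070)) (.nd (.lf 0x1163) (.lf 0x106c))) (.nd (.nd (.lf 0xd0) (.lf 0x16d7)) (.nd (.lf 0x11ba) (.lf 0))))) (.nd (.nd (.nd (.nd (.lf 0x418) (.lf 0x1113)) (.nd (.lf 0x5ac) (.lf 0x3de))) (.nd (.nd (.lf 0x275) (.lf 0x31a)) (.nd (.lf 0x1359) (.lf 0)))) (.nd (.nd (.nd (.lf 0x405) (.lf 0x298)) (.nd (.lf 0x1465) (.lf 0x1010))) (.nd (.nd (.lf 0x1491) (.lf 0x63)) (.nd (.lf 0x1261) (.lf 0)))))) (.nd (.nd (.nd (.nd (.nd (.lf 0x15a7) (.lf 0x1d6)) (.nd (.lf 0x103f) (.lf 0x1289))) (.nd (.nd (.lf 0x403) (.lf 0x12cb)) (.nd (.lf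 0x122c) (.lf 0)))) (.nd (.nd (.nd (.lf 0x1606) (.lf 0xdd)) (.nd (.lf 0x91) (.lf 0x136))) (.nd (.nd (.lf 0x160a) (.lf 0x14e2)) (.nd (.lf 0x1467) (.lf 0))))) (.nd (.nd (.nd (.nd (.lf 0x125) (.lf 0x1380)) (.nd (.lf 0x569) (.lf 0x1415))) (.nd (.nd (.lf 0x1487) (.lf 0x46a)) (.nd (.lf 0x27d) (.lf 0)))) (.nd (.nd (.nd (.lf 0x4e5) (.lf 0x26c)) (.nd (.lf 0x1df) (.lf 0))) (.nd (.nd (.lf 0x226) (.lf 0x13fa)) (.nd (.lf 0x61c) (.lf 0)))))))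
def phA_naabab : Tr := (.nd (.nd (.nd (.nd (.nd (.nd (.lf 0x29) (.lf 0x11dd)) (.nd (.lf 0xce) (.lf 0x1490))) (.nd (.nd (.lf 0x3f) (.lf 0x5c4)) (.nd (.lf 0x1334) (.lf 0)))) (.nd (.nd (.nd (.lf 0x631) (.lf 0x10a1)) (.nd (.lf 0x11dc) (.lf 0x440))) (.nd (.nd (.lf 0xed) (.lf 0x4a5)) (.nd (.lf 0x636) (.lf 0))))) (.nd (.nd (.nd (.nd (.lf 0x1092) (.lf 0x1642)) (.nd (.lf 0x15c2) (.lf 0x1638))) (.nd (.nd (.lf 0x58f) (.lf 0x1217)) (.nd (.lf 0x2) (.lf 0)))) (.nd (.nd (.nd (.lf 0x1f5) (.lf 0x4e7)) (.nd (.lf 0x3aa) (.lf 0x1120))) (.nd (.nd (.lf 0x1349) (.lf 0x13ae)) (.nd (.lf 0x58e) (.lf 0)))))) (.nd (.nd (.nd (.nd (.nd (.lf 0xf7) (.lf 0x1151)) (.nd (.lf 0x288) (.lf 0x60f))) (.nd (.nd (.lf 0x1230) (.lf 0x45b)) (.nd (.lf 0x1624) (.lf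 0)))) (.nd (.nd (.nd (.lf 0x173) (.lf 0x644)) (.nd (.lf 0x10a9) (.lf 0x1250))) (.nd (.nd (.lf 0x1365) (.lf 0xe1)) (.nd (.lf 0x13a8) (.lf 0))))) (.nd (.nd (.nd (.nd (.lf 0x1411) (.lf 0x1628)) (.nd (.lf 0xb4) (.lf 0x1291))) (.nd (.nd (.lf 0x50c) (.lf 0x19a)) (.nd (.lf 0x2ac) (.lf 0)))) (.nd (.nd (.nd (.lf 0x11c1) (.lf 0x133c)) (.nd (.lf 0x1510) (.lf 0))) (.nd (.nd (.lf 0x420) (.lf 0x133f)) (.nd (.lf 0x1111) (.lf 0)))))))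
def phA_naabba : Tr := (.nd (.nd (.nd (.nd (.nd (.nd (.lf 0x15b7) (.lf 0x261)) (.nd (.lf 0x56d) (.lf 0x1524))) (.nd (.nd (.lf 0x340) (.lf 0x10a)) (.nd (.lf 0x12db) (.lf 0)))) (.nd (.nd (.nd (.lf 0x2cc) (.lf 0x3ab)) (.nd (.lf 0x12fe) (.lf 0x1534))) (.nd (.nd (.lf 0x23f) (.lf 0x10c7)) (.nd (.lf 0x106b) (.lf 0))))) (.nd (.nd (.nd (.nd (.lf 0x343) (.lf 0x1157)) (.nd (.lf 0x1598) (.lf 0x1e8))) (.nd (.nd (.lf 0x141e) (.lf 0x1654)) (.nd (.lf 0x130a) (.lf 0)))) (.nd (.nd (.nd (.lf 0x28a) (.lf 0x131e)) (.nd (.lf 0x444) (.lf 0x469))) (.nd (.nd (.lf 0x14ac) (.lf 0x442)) (.nd (.lf 0x3d7) (.lf 0)))))) (.nd (.nd (.nd (.nd (.nd (.lf 0x1582) (.lf 0x130e)) (.nd (.lf 0x1383) (.lf 0x1410))) (.nd (.nd (.lf 0x160d) (.lf 0x1311)) (.nd (.lf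 0x1f4) (.lf 0)))) (.nd (.nd (.nd (.lf 0x146e) (.lf 0x5d6)) (.nd (.lf 0x641) (.lf 0x118c))) (.nd (.nd (.lf 0x107b) (.lf 0x2b8)) (.nd (.lf 0x159d) (.lf 0))))) (.nd (.nd (.nd (.nd (.lf 0x148a) (.lf 0x125b)) (.nd (.lf 0x280) (.lf 0x402))) (.nd (.nd (.lf 0x4ea) (.lf 0x1327)) (.nd (.lf 0x14cb) (.lf 0)))) (.nd (.nd (.nd (.lf 0x1692) (.lf 0x155b)) (.nd (.lf 0x5dd) (.lf 0))) (.nd (.nd (.lf 0x18) (.lf 0x11de)) (.nd (.lf 0x103a) (.lf 0)))))))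
def phA_naabbb : Tr := (.nd (.nd (.nd (.nd (.nd (.nd (.lf 0x1503) (.lf 0x301)) (.nd (.lf 0x1553) (.lf 0x147f))) (.nd (.nd (.lf 0x286) (.lf 0x1287)) (.nd (.lf 0x161) (.lf 0)))) (.nd (.nd (.nd (.lf 0x5d0) (.lf 0x150c)) (.nd (.lf 0x209) (.lf 0x11cb))) (.nd (.nd (.lf 0x335) (.lf 0x613)) (.nd (.lf 0x1199) (.lf 0))))) (.nd (.nd (.nd (.nd (.lf 0x135e) (.lf 0x398)) (.nd (.lf 0x1f2) (.lf 0x160c))) (.nd (.nd (.lf 0x12c9) (.lf 0x2ef)) (.nd (.lf 0x4e3) (.lf 0)))) (.nd (.nd (.nd (.lf 0x517) (.lf 0x1549)) (.nd (.lf 0x1259) (.lf 0))) (.nd (.nd (.lf 0x11a4) (.lf 0x21d)) (.nd (.lf 0x194) (.lf 0)))))) (.nd (.nd (.nd (.nd (.nd (.lf 0x141d) (.lf 0xd6)) (.nd (.lf 0x13bd) (.lf 0x608))) (.nd (.nd (.lf 0x4e) (.lf 0x201)) (.nd (.lf 0x139b)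 (.lf 0)))) (.nd (.nd (.nd (.lf 0x352) (.lf 0x103c)) (.nd (.lf 0x42a) (.lf 0x1a1))) (.nd (.nd (.lf 0x12b1) (.lf 0x646)) (.nd (.lf 0x513) (.lf 0))))) (.nd (.nd (.nd (.nd (.lf 0x1fc) (.lf 0x37b)) (.nd (.lf 0x1434) (.lf 0x48))) (.nd (.nd (.lf 0x120a) (.lf 0x13ad)) (.nd (.lf 0x602) (.lf 0)))) (.nd (.nd (.nd (.lf 0x142) (.lf 0x16c1)) (.nd (.lf 0x12d0) (.lf 0))) (.nd (.nd (.lf 0x1297) (.lf 0x1565)) (.nd (.lf 0x15b3) (.lf 0)))))))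
def phA_nabaaa : Tr := (.nd (.nd (.nd (.nd (.nd (.nd (.lf 0x0) (.lf 0x14dc)) (.nd (.lf 0x5c6) (.lf 0x1420))) (.nd (.nd (.lf 0x1178) (.lf 0x10d1)) (.nd (.lf 0x49d) (.lf 0)))) (.nd (.nd (.nd (.lf 0x11f0) (.lf 0x108)) (.nd (.lf 0x17b) (.lf 0x2eb))) (.nd (.nd (.lf 0x1594) (.lf 0x1a8)) (.nd (.lf 0x147b) (.lf 0))))) (.nd (.nd (.nd (.nd (.lf 0x316) (.lf 0x1360)) (.nd (.lf 0x15f2) (.lf 0x2c5))) (.nd (.nd (.lf 0x53e) (.lf 0x16b6)) (.nd (.lf 0x1055) (.lf 0)))) (.nd (.nd (.nd (.lf 0x157f) (.lf 0x1029)) (.nd (.lf 0x84) (.lf 0x1201))) (.nd (.nd (.lf 0x1101) (.lf 0x1681)) (.nd (.lf 0x2f0) (.lf 0)))))) (.nd (.nd (.nd (.nd (.nd (.lf 0x350) (.lf 0x15f3)) (.nd (.lf 0x16cd) (.lf 0x1073))) (.nd (.nd (.lf 0x6d3) (.lf 0x11fb)) (.nd (.lf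 0x560) (.lf 0)))) (.nd (.nd (.nd (.lf 0x135d) (.lf 0x13b0)) (.nd (.lf 0x11e2) (.lf 0x1246))) (.nd (.nd (.lf 0x154a) (.lf 0x47d)) (.nd (.lf 0x129c) (.lf 0))))) (.nd (.nd (.nd (.nd (.lf 0x2b1) (.lf 0x1f)) (.nd (.lf 0x12fc) (.lf 0xc4))) (.nd (.nd (.lf 0x635) (.lf 0x1244)) (.nd (.lf 0x1636) (.lf 0)))) (.nd (.nd (.nd (.lf 0x1555) (.lf 0x10f9)) (.nd (.lf 0x1495) (.lf 0))) (.nd (.nd (.lf 0x11f4) (.lf 0x14af)) (.nd (.lf 0x1675) (.lf 0)))))))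
def phA_nabaab : Tr := (.nd (.nd (.nd (.nd (.nd (.nd (.lf 0x361) (.lf 0x1374)) (.nd (.lf 0x1109) (.lf 0x63c))) (.nd (.nd (.lf 0x1150) (.lf 0x14ae)) (.nd (.lf 0x120) (.lf 0)))) (.nd (.nd (.nd (.lf 0x685) (.lf 0x1452)) (.nd (.lf 0x297) (.lf 0x4c2))) (.nd (.nd (.lf 0x411) (.lf 0x53f)) (.nd (.lf 0x1f7) (.lf 0))))) (.nd (.nd (.nd (.nd (.lf 0x669) (.lf 0x16a8)) (.nd (.lf 0x47e) (.lf 0x139a))) (.nd (.nd (.lf 0x12e2) (.lf 0x1192)) (.nd (.lf 0x1440) (.lf 0)))) (.nd (.nd (.nd (.lf 0x157d) (.lf 0x1056)) (.nd (.lf 0x15bc) (.lf 0x467))) (.nd (.nd (.lf 0x68c) (.lf 0x9b)) (.nd (.lf 0x143a) (.lf 0)))))) (.nd (.nd (.nd (.nd (.nd (.lf 0xef) (.lf 0x18a)) (.nd (.lf 0x132c) (.lf 0x128a))) (.nd (.nd (.lf 0x14ea) (.lf 0x6b0)) (.nd (.lf 0x1339)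 (.lf 0)))) (.nd (.nd (.nd (.lf 0x17c) (.lf 0x4bf)) (.nd (.lf 0x325) (.lf 0x113d))) (.nd (.nd (.lf 0x1580) (.lf 0x1688)) (.nd (.lf 0x460) (.lf 0))))) (.nd (.nd (.nd (.nd (.lf 0x1326) (.lf 0x1e2)) (.nd (.lf 0x200) (.lf 0x126c))) (.nd (.nd (.lf 0x234) (.lf 0x43b)) (.nd (.lf 0x59e) (.lf 0)))) (.nd (.nd (.nd (.lf 0x144b) (.lf 0x1558)) (.nd (.lf 0x1087) (.lf 0))) (.nd (.nd (.lf 0x2d6) (.lf 0x12a4)) (.nd (.lf 0x46d) (.lf 0)))))))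
def phA_nababa : Tr := (.nd (.nd (.nd (.nd (.nd (.nd (.lf 0x15db) (.lf 0x240)) (.nd (.lf 0x4ac) (.lf 0x4c4))) (.nd (.nd (.lf 0x7) (.lf 0x512)) (.nd (.lf 0x1316) (.lf 0)))) (.nd (.nd (.nd (.lf 0x376) (.lf 0x135c)) (.nd (.lf 0x1198) (.lf 0x9f))) (.nd (.nd (.lf 0x13dc) (.lf 0x62c)) (.nd (.lf 0x3a0) (.lf 0))))) (.nd (.nd (.nd (.nd (.lf 0x155a) (.lf 0x313)) (.nd (.lf 0x135) (.lf 0x486))) (.nd (.nd (.lf 0x1621) (.lf 0x1421)) (.nd (.lf 0x16b8) (.lf 0)))) (.nd (.nd (.nd (.lf 0x15ed) (.lf 0x347)) (.nd (.lf 0x12d6) (.lf 0x1ee))) (.nd (.nd (.lf 0x166a) (.lf 0x44d)) (.nd (.lf 0x1312) (.lf 0)))))) (.nd (.nd (.nd (.nd (.nd (.lf 0x65e) (.lf 0x18b)) (.nd (.lf 0x105e) (.lf 0x1468))) (.nd (.nd (.lf 0x1470) (.lf 0x5a0)) (.nd (.lf 0x52d)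 (.lf 0)))) (.nd (.nd (.nd (.lf 0x453) (.lf 0x1154)) (.nd (.lf 0x1102) (.lf 0x1a))) (.nd (.nd (.lf 0x136c) (.lf 0x1265)) (.nd (.lf 0x11a9) (.lf 0))))) (.nd (.nd (.nd (.nd (.lf 0x13c1) (.lf 0x1c4)) (.nd (.lf 0x2af) (.lf 0x5c1))) (.nd (.nd (.lf 0x1027) (.lf 0x1063)) (.nd (.lf 0x1017) (.lf 0)))) (.nd (.nd (.nd (.lf 0x4bd) (.lf 0x101)) (.nd (.lf 0x1bf) (.lf 0))) (.nd (.nd (.lf 0x30f) (.lf 0x15c8)) (.nd (.lf 0x2aa) (.lf 0)))))))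
def phA_nababb : Tr := (.nd (.nd (.nd (.nd (.nd (.nd (.lf 0x3b6) (.lf 0x155c)) (.nd (.lf 0x10cc) (.lf 0x69c))) (.nd (.nd (.lf 0x12b9) (.lf 0x214)) (.nd (.lf 0x1184) (.lf 0)))) (.nd (.nd (.nd (.lf 0x3c8) (.lf 0x11c5)) (.nd (.lf 0x4e0) (.lf 0x152d))) (.nd (.nd (.lf 0x630) (.lf 0x414)) (.nd (.lf 0x455) (.lf 0))))) (.nd (.nd (.nd (.nd (.lf 0x274) (.lf 0x62f)) (.nd (.lf 0x122e) (.lf 0x2b))) (.nd (.nd (.lf 0x624) (.lf 0x13f)) (.nd (.lf 0x120d) (.lf 0)))) (.nd (.nd (.nd (.lf 0x6d7) (.lf 0x1438)) (.nd (.lf 0x15e6) (.lf 0x14cc))) (.nd (.nd (.lf 0x41c) (.lf 0x3df)) (.nd (.lf 0x1e) (.lf 0)))))) (.nd (.nd (.nd (.nd (.nd (.lf 0x11c6) (.lf 0x33f)) (.nd (.lf 0x15cf) (.lf 0x1604))) (.nd (.nd (.lf 0x118f) (.lf 0x1575)) (.nd (.lf 0x386)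 (.lf 0)))) (.nd (.nd (.nd (.lf 0x1211) (.lf 0x1207)) (.nd (.lf 0x16be) (.lf 0x119f))) (.nd (.nd (.lf 0x66d) (.lf 0x180)) (.nd (.lf 0x474) (.lf 0))))) (.nd (.nd (.nd (.nd (.lf 0x4b8) (.lf 0x10de)) (.nd (.lf 0x6ac) (.lf 0x12a1))) (.nd (.nd (.lf 0x1348) (.lf 0x128b)) (.nd (.lf 0x3ae) (.lf 0)))) (.nd (.nd (.nd (.lf 0x1666) (.lf 0x1528)) (.nd (.lf 0x15dc) (.lf 0))) (.nd (.nd (.lf 0x159c) (.lf 0x1571)) (.nd (.lf 0x137e) (.lf 0)))))))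
def phA_nabbaa : Tr := (.nd (.nd (.nd (.nd (.nd (.nd (.lf 0x147a) (.lf 0x1439)) (.nd (.lf 0x4d0) (.lf 0x661))) (.nd (.nd (.lf 0x2e6) (.lf 0x10ce)) (.nd (.lf 0x4b) (.lf 0)))) (.nd (.nd (.nd (.lf 0x207) (.lf 0x12c)) (.nd (.lf 0x5c) (.lf 0x1463))) (.nd (.nd (.lf 0x8) (.lf 0x156)) (.nd (.lf 0x55d) (.lf 0))))) (.nd (.nd (.nd (.nd (.lf 0x169f) (.lf 0x40f)) (.nd (.lf 0x1505) (.lf 0x10f7))) (.nd (.nd (.lf 0x144d) (.lf 0x150a)) (.nd (.lf 0x585) (.lf 0)))) (.nd (.nd (.nd (.lf 0x108e) (.lf 0x1050)) (.nd (.lf 0x354) (.lf 0x1370))) (.nd (.nd (.lf 0x43f) (.lf 0x10c8)) (.nd (.lf 0x10d8) (.lf 0)))))) (.nd (.nd (.nd (.nd (.nd (.lf 0x1b2) (.lf 0x1690)) (.nd (.lf 0x13d9) (.lf 0x506))) (.nd (.nd (.lf 0x692) (.lf 0x10c1)) (.nd (.lf 0x63d)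 (.lf 0)))) (.nd (.nd (.nd (.lf 0x148) (.lf 0x2c7)) (.nd (.lf 0x1350) (.lf 0x12d9))) (.nd (.nd (.lf 0x12c5) (.lf 0x1176)) (.nd (.lf 0x1674) (.lf 0))))) (.nd (.nd (.nd (.nd (.lf 0x11ea) (.lf 0x106a)) (.nd (.lf 0x62d) (.lf 0x1431))) (.nd (.nd (.lf 0x51b) (.lf 0x438)) (.nd (.lf 0x5b) (.lf 0)))) (.nd (.nd (.nd (.lf 0x15fb) (.lf 0x38d)) (.nd (.lf 0x117) (.lf 0))) (.nd (.nd (.lf 0x16a1) (.lf 0x12d4)) (.nd (.lf 0x6d8) (.lf 0)))))))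
def phA_nabbab : Tr := (.nd (.nd (.nd (.nd (.nd (.nd (.lf 0x4bb) (.lf 0x39f)) (.nd (.lf 0x2e3) (.lf 0x423))) (.nd (.nd (.lf 0x185) (.lf 0x1324)) (.nd (.lf 0x13b6) (.lf 0)))) (.nd (.nd (.nd (.lf 0x1599) (.lf 0xd2)) (.nd (.lf 0x18e) (.lf 0x394))) (.nd (.nd (.lf 0x1213) (.lf 0xe5)) (.nd (.lf 0x77) (.lf 0))))) (.nd (.nd (.nd (.nd (.lf 0xa5) (.lf 0x452)) (.nd (.lf 0x15a4) (.lf 0x13ee))) (.nd (.nd (.lf 0x6f) (.lf 0x583)) (.nd (.lf 0xc6) (.lf 0)))) (.nd (.nd (.nd (.lf 0x14d4) (.lf 0x42)) (.nd (.lf 0x1448) (.lf 0xda))) (.nd (.nd (.lf 0x41d) (.lf 0xec)) (.nd (.lf 0x4ed) (.lf 0)))))) (.nd (.nd (.nd (.nd (.nd (.lf 0x1376) (.lf 0x19e)) (.nd (.lf 0x12be) (.lf 0x1058))) (.nd (.nd (.lf 0x108d) (.lf 0x38)) (.nd (.lf 0x34) (.lf 0))))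 (.nd (.nd (.nd (.lf 0x654) (.lf 0x102a)) (.nd (.lf 0x2f) (.lf 0x1429))) (.nd (.nd (.lf 0x1486) (.lf 0x594)) (.nd (.lf 0x651) (.lf 0))))) (.nd (.nd (.nd (.nd (.lf 0x1535) (.lf 0x1290)) (.nd (.lf 0x128c) (.lf 0x143c))) (.nd (.nd (.lf 0x2fc) (.lf 0x1596)) (.nd (.lf 0x1424) (.lf 0)))) (.nd (.nd (.nd (.lf 0x130) (.lf 0x1065)) (.nd (.lf 0x12cc) (.lf 0))) (.nd (.nd (.lf 0x565) (.lf 0x11b7)) (.nd (.lf 0x23b) (.lf 0)))))))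
def phA_nabbba : Tr := (.nd (.nd (.nd (.nd (.nd (.nd (.lf 0x4ba) (.lf 0x574)) (.nd (.lf 0x12f7) (.lf 0x112b))) (.nd (.nd (.lf 0x38b) (.lf 0x16f)) (.nd (.lf 0x52e) (.lf 0)))) (.nd (.nd (.nd (.lf 0x1394) (.lf 0x4f2)) (.nd (.lf 0x107a) (.lf 0x117b))) (.nd (.nd (.lf 0x446) (.lf 0x1401)) (.nd (.lf 0x671) (.lf 0))))) (.nd (.nd (.nd (.nd (.lf 0x3f5) (.lf 0x5fb)) (.nd (.lf 0x191) (.lf 0x12b2))) (.nd (.nd (.lf 0x14a6) (.lf 0x140)) (.nd (.lf 0x475) (.lf 0)))) (.nd (.nd (.nd (.lf 0x472) (.lf 0x318)) (.nd (.lf 0x1b4) (.lf 0x15a))) (.nd (.nd (.lf 0x13a0) (.lf 0x166e)) (.nd (.lf 0x101a) (.lf 0)))))) (.nd (.nd (.nd (.nd (.nd (.lf 0x1208) (.lf 0x362)) (.nd (.lf 0x1003) (.lf 0x74))) (.nd (.nd (.lf 0x11b1) (.lf 0x6)) (.nd (.lf 0x36b)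 (.lf 0)))) (.nd (.nd (.nd (.lf 0x118a) (.lf 0xf9)) (.nd (.lf 0x696) (.lf 0x1219))) (.nd (.nd (.lf 0x1239) (.lf 0x156a)) (.nd (.lf 0x62a) (.lf 0))))) (.nd (.nd (.nd (.nd (.lf 0x10a7) (.lf 0x20a)) (.nd (.lf 0x609) (.lf 0x154e))) (.nd (.nd (.lf 0x242) (.lf 0x1182)) (.nd (.lf 0x1081) (.lf 0)))) (.nd (.nd (.nd (.lf 0x26d) (.lf 0x529)) (.nd (.lf 0x121) (.lf 0))) (.nd (.nd (.lf 0x1458) (.lf 0x127)) (.nd (.lf 0x1249) (.lf 0)))))))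
def phA_nabbbb : Tr := (.nd (.nd (.nd (.nd (.nd (.nd (.lf 0x1597) (.lf 0x299)) (.nd (.lf 0x163c) (.lf 0x184))) (.nd (.nd (.lf 0x149e) (.lf 0x14ce)) (.nd (.lf 0x14f7) (.lf 0)))) (.nd (.nd (.nd (.lf 0x4e1) (.lf 0x154b)) (.nd (.lf 0x105) (.lf 0x1530))) (.nd (.nd (.lf 0x105f) (.lf 0x437)) (.nd (.lf 0x4b6) (.lf 0))))) (.nd (.nd (.nd (.nd (.lf 0x10a2) (.lf 0x1128)) (.nd (.lf 0x163) (.lf 0xc1))) (.nd (.nd (.lf 0x1009) (.lf 0x1322)) (.nd (.lf 0x246) (.lf 0)))) (.nd (.nd (.nd (.lf 0x13de) (.lf 0x317)) (.nd (.lf 0x595) (.lf 0))) (.nd (.nd (.lf 0x5ae) (.lf 0x41e)) (.nd (.lf 0x461) (.lf 0)))))) (.nd (.nd (.nd (.nd (.nd (.lf 0x131c) (.lf 0x10ed)) (.nd (.lf 0x1635) (.lf 0x14))) (.nd (.nd (.lf 0x1698) (.lf 0x14c6)) (.nd (.lf 0x178)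 (.lf 0)))) (.nd (.nd (.nd (.lf 0x9a) (.lf 0x5a7)) (.nd (.lf 0x587) (.lf 0x50b))) (.nd (.nd (.lf 0x3b0) (.lf 0x13c0)) (.nd (.lf 0x1031) (.lf 0))))) (.nd (.nd (.nd (.nd (.lf 0x533) (.lf 0x15b0)) (.nd (.lf 0x3b1) (.lf 0x100f))) (.nd (.nd (.lf 0x483) (.lf 0x1210)) (.nd (.lf 0x3f1) (.lf 0)))) (.nd (.nd (.nd (.lf 0x11ae) (.lf 0x422)) (.nd (.lf 0x44b) (.lf 0))) (.nd (.nd (.lf 0x262) (.lf 0x1196)) (.nd (.lf 0x11e1) (.lf 0)))))))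
def phA_nbaaaa : Tr := (.nd (.nd (.nd (.nd (.nd (.nd (.lf 0x0) (.lf 0x16a3)) (.nd (.lf 0x57d) (.lf 0x541))) (.nd (.nd (.lf 0x115d) (.lf 0x231)) (.nd (.lf 0x43) (.lf 0)))) (.nd (.nd (.nd (.lf 0x1293) (.lf 0x632)) (.nd (.lf 0x1529) (.lf 0x1296))) (.nd (.nd (.lf 0x152e) (.lf 0x329)) (.nd (.lf 0x32f) (.lf 0))))) (.nd (.nd (.nd (.nd (.lf 0x58c) (.lf 0x6c4)) (.nd (.lf 0x3d2) (.lf 0x63b))) (.nd (.nd (.lf 0x18c) (.lf 0x1668)) (.nd (.lf 0x15f5) (.lf 0)))) (.nd (.nd (.nd (.lf 0x12c6) (.lf 0xa6)) (.nd (.lf 0x5c9) (.lf 0x13a5))) (.nd (.nd (.lf 0x1266) (.lf 0x1662)) (.nd (.lf 0x5f5) (.lf 0)))))) (.nd (.nd (.nd (.nd (.nd (.lf 0x16cc) (.lf 0x50)) (.nd (.lf 0x5dc) (.lf 0x192))) (.nd (.nd (.lf 0x365) (.lf 0x122)) (.nd (.lf 0x1cb) (.lf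 0)))) (.nd (.nd (.nd (.lf 0x4e2) (.lf 0x576)) (.nd (.lf 0x12af) (.lf 0x36c))) (.nd (.nd (.lf 0x13d1) (.lf 0x5f4)) (.nd (.lf 0x30a) (.lf 0))))) (.nd (.nd (.nd (.nd (.lf 0x407) (.lf 0x132b)) (.nd (.lf 0x1511) (.lf 0x16a))) (.nd (.nd (.lf 0x1042) (.lf 0xde)) (.nd (.lf 0x136b) (.lf 0)))) (.nd (.nd (.nd (.lf 0x106f) (.lf 0x16a2)) (.nd (.lf 0x1626) (.lf 0))) (.nd (.nd (.lf 0x4d4) (.lf 0x614)) (.nd (.lf 0x471) (.lf 0)))))))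
def phA_nbaaab : Tr := (.nd (.nd (.nd (.nd (.nd (.nd (.lf 0x51e) (.lf 0x391)) (.nd (.lf 0x25a) (.lf 0x1623))) (.nd (.nd (.lf 0x1007) (.lf 0x36d)) (.nd (.lf 0x1034) (.lf 0)))) (.nd (.nd (.nd (.lf 0x100b) (.lf 0x1338)) (.nd (.lf 0x31e) (.lf 0x15ae))) (.nd (.nd (.lf 0x16b5) (.lf 0x13c)) (.nd (.lf 0x4fc) (.lf 0))))) (.nd (.nd (.nd (.nd (.lf 0x3e9) (.lf 0x16d)) (.nd (.lf 0x159e) (.lf 0x123d))) (.nd (.nd (.lf 0x14d6) (.lf 0x520)) (.nd (.lf 0x13e7) (.lf 0)))) (.nd (.nd (.nd (.lf 0x142b) (.lf 0xac)) (.nd (.lf 0xf5) (.lf 0x3a9))) (.nd (.nd (.lf 0x2ec) (.lf 0x16ba)) (.nd (.lf 0x23d) (.lf 0)))))) (.nd (.nd (.nd (.nd (.nd (.lf 0x37c) (.lf 0x3c5)) (.nd (.lf 0x189) (.lf 0x6c6))) (.nd (.nd (.lf 0x32b) (.lf 0x15c6)) (.nd (.lf 0x153f)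 (.lf 0)))) (.nd (.nd (.nd (.lf 0x482) (.lf 0x30e)) (.nd (.lf 0x1043) (.lf 0x1480))) (.nd (.nd (.lf 0x510) (.lf 0x2e5)) (.nd (.lf 0x13bb) (.lf 0))))) (.nd (.nd (.nd (.nd (.lf 0x1574) (.lf 0x1fb)) (.nd (.lf 0x11e8) (.lf 0x131a))) (.nd (.nd (.lf 0x1098) (.lf 0x1db)) (.nd (.lf 0x1336) (.lf 0)))) (.nd (.nd (.nd (.lf 0x76) (.lf 0x171)) (.nd (.lf 0x1483) (.lf 0))) (.nd (.nd (.lf 0x1362) (.lf 0x1233)) (.nd (.lf 0x12a2) (.lf 0)))))))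
def phA_nbaaba : Tr := (.nd (.nd (.nd (.nd (.nd (.nd (.lf 0x15ca) (.lf 0x4cd)) (.nd (.lf 0x1c1) (.lf 0x141b))) (.nd (.nd (.lf 0x47f) (.lf 0x119a)) (.nd (.lf 0x13ca) (.lf 0)))) (.nd (.nd (.nd (.lf 0x40c) (.lf 0x545)) (.nd (.lf 0x16c) (.lf 0x547))) (.nd (.nd (.lf 0x6a9) (.lf 0x59c)) (.nd (.lf 0x285) (.lf 0))))) (.nd (.nd (.nd (.nd (.lf 0x138e) (.lf 0x15fa)) (.nd (.lf 0x126) (.lf 0x66c))) (.nd (.nd (.lf 0x3fd) (.lf 0x5e6)) (.nd (.lf 0xc9) (.lf 0)))) (.nd (.nd (.nd (.lf 0x13db) (.lf 0x94)) (.nd (.lf 0x14ca) (.lf 0x2ff))) (.nd (.nd (.lf 0x12d) (.lf 0x47b)) (.nd (.lf 0x2a4) (.lf 0)))))) (.nd (.nd (.nd (.nd (.nd (.lf 0x465) (.lf 0x458)) (.nd (.lf 0x5fc) (.lf 0x3a))) (.nd (.nd (.lf 0x12fa) (.lf 0x92)) (.nd (.lf 0x1083) (.lf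 0)))) (.nd (.nd (.nd (.lf 0x3bc) (.lf 0x1646)) (.nd (.lf 0x1ba) (.lf 0x11bd))) (.nd (.nd (.lf 0x413) (.lf 0x24e)) (.nd (.lf 0x6ab) (.lf 0))))) (.nd (.nd (.nd (.nd (.lf 0x1122) (.lf 0x1413)) (.nd (.lf 0x56a) (.lf 0x1533))) (.nd (.nd (.lf 0x129e) (.lf 0x5d1)) (.nd (.lf 0x133a) (.lf 0)))) (.nd (.nd (.nd (.lf 0x13df) (.lf 0x1444)) (.nd (.lf 0x1231) (.lf 0))) (.nd (.nd (.lf 0x3bd) (.lf 0x13a2)) (.nd (.lf 0xf2) (.lf 0)))))))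
def phA_nbaabb : Tr := (.nd (.nd (.nd (.nd (.nd (.nd (.lf 0x12bf) (.lf 0x1203)) (.nd (.lf 0x59d) (.lf 0x16d4))) (.nd (.nd (.lf 0x13e9) (.lf 0x3ce)) (.nd (.lf 0x5bc) (.lf 0)))) (.nd (.nd (.nd (.lf 0x1002) (.lf 0x7d)) (.nd (.lf 0x1099) (.lf 0x8a))) (.nd (.nd (.lf 0x1280) (.lf 0xc7)) (.nd (.lf 0x212) (.lf 0))))) (.nd (.nd (.nd (.nd (.lf 0x1631) (.lf 0x54)) (.nd (.lf 0x152b) (.lf 0x13b7))) (.nd (.nd (.lf 0x3ea) (.lf 0x32e)) (.nd (.lf 0x2a1) (.lf 0)))) (.nd (.nd (.nd (.lf 0x127d) (.lf 0x222)) (.nd (.lf 0x1337) (.lf 0x3ca))) (.nd (.nd (.lf 0x1396) (.lf 0x448)) (.nd (.lf 0x269) (.lf 0)))))) (.nd (.nd (.nd (.nd (.nd (.lf 0x15dd) (.lf 0x1477)) (.nd (.lf 0x27b) (.lf 0x1107))) (.nd (.nd (.lf 0x417) (.lf 0x117c)) (.nd (.lf 0x5f9)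 (.lf 0)))) (.nd (.nd (.nd (.lf 0x12dc) (.lf 0x496)) (.nd (.lf 0x1119) (.lf 0x1272))) (.nd (.nd (.lf 0x167f) (.lf 0x11e0)) (.nd (.lf 0x49e) (.lf 0))))) (.nd (.nd (.nd (.nd (.lf 0x2d1) (.lf 0x61)) (.nd (.lf 0x146d) (.lf 0x5b8))) (.nd (.nd (.lf 0x13ec) (.lf 0x248)) (.nd (.lf 0x35e) (.lf 0)))) (.nd (.nd (.nd (.lf 0x204) (.lf 0x1680)) (.nd (.lf 0x4c7) (.lf 0))) (.nd (.nd (.lf 0x165e) (.lf 0x169e)) (.nd (.lf 0x53) (.lf 0)))))))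
def phA_nbabaa : Tr := (.nd (.nd (.nd (.nd (.nd (.nd (.lf 0x1146) (.lf 0x266)) (.nd (.lf 0x363) (.lf 0x11a5))) (.nd (.nd (.lf 0x1c2) (.lf 0x5b3)) (.nd (.lf 0x16aa) (.lf 0)))) (.nd (.nd (.nd (.lf 0x3d6) (.lf 0x54e)) (.nd (.lf 0x1142) (.lf 0x78))) (.nd (.nd (.lf 0x3e0) (.lf 0x3f4)) (.nd (.lf 0x116c) (.lf 0))))) (.nd (.nd (.nd (.nd (.lf 0x427) (.lf 0x578)) (.nd (.lf 0x1568) (.lf 0x1375))) (.nd (.nd (.lf 0x4de) (.lf 0x11f3)) (.nd (.lf 0x16c9) (.lf 0)))) (.nd (.nd (.nd (.lf 0x122d) (.lf 0x165f)) (.nd (.lf 0x6a0) (.lf 0x1e5))) (.nd (.nd (.lf 0x69f) (.lf 0x250)) (.nd (.lf 0x629) (.lf 0)))))) (.nd (.nd (.nd (.nd (.nd (.lf 0x1aa) (.lf 0x579)) (.nd (.lf 0x12a8) (.lf 0x125a))) (.nd (.nd (.lf 0x1656) (.lf 0x1323)) (.nd (.lf 0x572)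 (.lf 0)))) (.nd (.nd (.nd (.lf 0x480) (.lf 0x130f)) (.nd (.lf 0x12bc) (.lf 0x195))) (.nd (.nd (.lf 0x2a2) (.lf 0x3af)) (.nd (.lf 0x1dd) (.lf 0))))) (.nd (.nd (.nd (.nd (.lf 0x14c8) (.lf 0x3)) (.nd (.lf 0x118e) (.lf 0x22))) (.nd (.nd (.lf 0x15a1) (.lf 0x4cb)) (.nd (.lf 0x5cb) (.lf 0)))) (.nd (.nd (.nd (.lf 0x53b) (.lf 0x1270)) (.nd (.lf 0x1038) (.lf 0))) (.nd (.nd (.lf 0x10ae) (.lf 0x490)) (.nd (.lf 0x4fa) (.lf 0)))))))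
def phA_nbabab : Tr := (.nd (.nd (.nd (.nd (.nd (.nd (.lf 0x147d) (.lf 0x412)) (.nd (.lf 0x1437) (.lf 0xa9))) (.nd (.nd (.lf 0x22f) (.lf 0x1616)) (.nd (.lf 0x14df) (.lf 0)))) (.nd (.nd (.nd (.lf 0x1538) (.lf 0x616)) (.nd (.lf 0x29e) (.lf 0x10d6))) (.nd (.nd (.lf 0x145d) (.lf 0xdb)) (.nd (.lf 0x4d6) (.lf 0))))) (.nd (.nd (.nd (.nd (.lf 0xfd) (.lf 0x598)) (.nd (.lf 0x1a0) (.lf 0x11a8))) (.nd (.nd (.lf 0x147e) (.lf 0x249)) (.nd (.lf 0x1c6) (.lf 0)))) (.nd (.nd (.nd (.lf 0x111d) (.lf 0x5f2)) (.nd (.lf 0x1513) (.lf 0x290))) (.nd (.nd (.lf 0x162b) (.lf 0x2bf)) (.nd (.lf 0x109f) (.lf 0)))))) (.nd (.nd (.nd (.nd (.nd (.lf 0x15de) (.lf 0x54f)) (.nd (.lf 0x10ff) (.lf 0xe2))) (.nd (.nd (.lf 0x12c4) (.lf 0x597)) (.nd (.lf 0x99)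 (.lf 0)))) (.nd (.nd (.nd (.lf 0x10d5) (.lf 0x5b6)) (.nd (.lf 0x208) (.lf 0x1051))) (.nd (.nd (.lf 0x1614) (.lf 0xf8)) (.nd (.lf 0x45e) (.lf 0))))) (.nd (.nd (.nd (.nd (.lf 0x149c) (.lf 0x1d8)) (.nd (.lf 0x1001) (.lf 0x8b))) (.nd (.nd (.lf 0x13ea) (.lf 0xfc)) (.nd (.lf 0x4a9) (.lf 0)))) (.nd (.nd (.nd (.lf 0x113b) (.lf 0x1699)) (.nd (.lf 0x366) (.lf 0))) (.nd (.nd (.lf 0xcc) (.lf 0x20d)) (.nd (.lf 0xf4) (.lf 0)))))))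
def phA_nbabba : Tr := (.nd (.nd (.nd (.nd (.nd (.nd (.lf 0x1353) (.lf 0x1682)) (.nd (.lf 0x52b) (.lf 0x13ce))) (.nd (.nd (.lf 0x30d) (.lf 0x351)) (.nd (.lf 0x65) (.lf 0)))) (.nd (.nd (.nd (.lf 0x509) (.lf 0x1158)) (.nd (.lf 0x145b) (.lf 0x10fc))) (.nd (.nd (.lf 0x344) (.lf 0x10e3)) (.nd (.lf 0x4c0) (.lf 0))))) (.nd (.nd (.nd (.nd (.lf 0x1b7) (.lf 0x15f7)) (.nd (.lf 0x1478) (.lf 0x22c))) (.nd (.nd (.lf 0x3c7) (.lf 0x15ba)) (.nd (.lf 0x152a) (.lf 0)))) (.nd (.nd (.nd (.lf 0x24b) (.lf 0x2d3)) (.nd (.lf 0x1586) (.lf 0x656))) (.nd (.nd (.lf 0x6d) (.lf 0x6cc)) (.nd (.lf 0x14c5) (.lf 0)))))) (.nd (.nd (.nd (.nd (.nd (.lf 0x12ac) (.lf 0x4b4)) (.nd (.lf 0x199) (.lf 0x14c2))) (.nd (.nd (.lf 0x57e) (.lf 0x543)) (.nd (.lf 0x5fa)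 (.lf 0)))) (.nd (.nd (.nd (.lf 0x1419) (.lf 0x101f)) (.nd (.lf 0x129a) (.lf 0x1035))) (.nd (.nd (.lf 0x263) (.lf 0x35c)) (.nd (.lf 0x1519) (.lf 0))))) (.nd (.nd (.nd (.nd (.lf 0x1025) (.lf 0x435)) (.nd (.lf 0x60b) (.lf 0x14f3))) (.nd (.nd (.lf 0x15d3) (.lf 0x5ca)) (.nd (.lf 0x163b) (.lf 0)))) (.nd (.nd (.nd (.lf 0x1602) (.lf 0x15d1)) (.nd (.lf 0x13be) (.lf 0))) (.nd (.nd (.lf 0x327) (.lf 0x15a0)) (.nd (.lf 0x1498) (.lf 0)))))))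
def phA_nbabbb : Tr := (.nd (.nd (.nd (.nd (.nd (.nd (.lf 0x315) (.lf 0x211)) (.nd (.lf 0x259) (.lf 0x1161))) (.nd (.nd (.lf 0x163d) (.lf 0x1356)) (.nd (.lf 0x10c5) (.lf 0)))) (.nd (.nd (.nd (.lf 0x13f5) (.lf 0x371)) (.nd (.lf 0x1026) (.lf 0x100a))) (.nd (.nd (.lf 0x1407) (.lf 0x13c2)) (.nd (.lf 0x13c4) (.lf 0))))) (.nd (.nd (.nd (.nd (.lf 0x138) (.lf 0x6ba)) (.nd (.lf 0x1367) (.lf 0x10a3))) (.nd (.nd (.lf 0x663) (.lf 0x169)) (.nd (.lf 0x5f3) (.lf 0)))) (.nd (.nd (.nd (.lf 0x306) (.lf 0x2cb)) (.nd (.lf 0x410) (.lf 0))) (.nd (.nd (.lf 0x15d) (.lf 0x1105)) (.nd (.lf 0x28f) (.lf 0)))))) (.nd (.nd (.nd (.nd (.nd (.lf 0x152c) (.lf 0x468)) (.nd (.lf 0x1663) (.lf 0x421))) (.nd (.nd (.lf 0x12c0) (.lf 0x1655)) (.nd (.lf 0x10bd)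 (.lf 0)))) (.nd (.nd (.nd (.lf 0x1189) (.lf 0x1471)) (.nd (.lf 0x37f) (.lf 0x11a6))) (.nd (.nd (.lf 0x124a) (.lf 0x1696)) (.nd (.lf 0x24c) (.lf 0))))) (.nd (.nd (.nd (.nd (.lf 0x481) (.lf 0x34a)) (.nd (.lf 0x478) (.lf 0x1167))) (.nd (.nd (.lf 0x15ad) (.lf 0x102b)) (.nd (.lf 0x121a) (.lf 0)))) (.nd (.nd (.nd (.lf 0x1097) (.lf 0x16ce)) (.nd (.lf 0x10c6) (.lf 0))) (.nd (.nd (.lf 0x1677) (.lf 0x1141)) (.nd (.lf 0x12e3) (.lf 0)))))))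
def phA_nbbaaa : Tr := (.nd (.nd (.nd (.nd (.nd (.nd (.lf 0x0) (.lf 0x1398)) (.nd (.lf 0x48c) (.lf 0x50f))) (.nd (.nd (.lf 0x1395) (.lf 0x15c)) (.nd (.lf 0x1074) (.lf 0)))) (.nd (.nd (.nd (.lf 0x6d0) (.lf 0x1bb)) (.nd (.lf 0x32c) (.lf 0x1eb))) (.nd (.nd (.lf 0x399) (.lf 0x24d)) (.nd (.lf 0x38a) (.lf 0))))) (.nd (.nd (.nd (.nd (.lf 0x1131) (.lf 0x374)) (.nd (.lf 0x4b2) (.lf 0x415))) (.nd (.nd (.lf 0x1661) (.lf 0x3fc)) (.nd (.lf 0x3da) (.lf 0)))) (.nd (.nd (.nd (.lf 0x14bc) (.lf 0x502)) (.nd (.lf 0x19c) (.lf 0x1371))) (.nd (.nd (.lf 0x691) (.lf 0x134)) (.nd (.lf 0x16) (.lf 0)))))) (.nd (.nd (.nd (.nd (.nd (.lf 0x12e7) (.lf 0x16bb)) (.nd (.lf 0x110f) (.lf 0x10f3))) (.nd (.nd (.lf 0x97) (.lf 0x13c5)) (.nd (.lf 0x6b6) (.lf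 0)))) (.nd (.nd (.nd (.lf 0x102d) (.lf 0x12a9)) (.nd (.lf 0x159f) (.lf 0x102))) (.nd (.nd (.lf 0x6a) (.lf 0x1008)) (.nd (.lf 0x345) (.lf 0))))) (.nd (.nd (.nd (.nd (.lf 0x508) (.lf 0x2d0)) (.nd (.lf 0x2e1) (.lf 0x1))) (.nd (.nd (.lf 0x135f) (.lf 0x14ba)) (.nd (.lf 0x145e) (.lf 0)))) (.nd (.nd (.nd (.lf 0x132d) (.lf 0x1651)) (.nd (.lf 0x10f2) (.lf 0))) (.nd (.nd (.lf 0x305) (.lf 0x1108)) (.nd (.lf 0x1268) (.lf 0)))))))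
def phA_nbbaab : Tr := (.nd (.nd (.nd (.nd (.nd (.nd (.lf 0x6a6) (.lf 0x22e)) (.nd (.lf 0x1641) (.lf 0x1644))) (.nd (.nd (.lf 0x239) (.lf 0xc3)) (.nd (.lf 0x13b1) (.lf 0)))) (.nd (.nd (.nd (.lf 0x1149) (.lf 0x46)) (.nd (.lf 0x4df) (.lf 0x6aa))) (.nd (.nd (.lf 0x59) (.lf 0x149)) (.nd (.lf 0x168) (.lf 0))))) (.nd (.nd (.nd (.nd (.lf 0x159) (.lf 0x3d4)) (.nd (.lf 0x16a5) (.lf 0x1160))) (.nd (.nd (.lf 0x2e9) (.lf 0x1248)) (.nd (.lf 0x5a8) (.lf 0)))) (.nd (.nd (.nd (.lf 0x639) (.lf 0xab)) (.nd (.lf 0x14c0) (.lf 0x13fb))) (.nd (.nd (.lf 0x3d9) (.lf 0x276)) (.nd (.lf 0x144c) (.lf 0)))))) (.nd (.nd (.nd (.nd (.nd (.lf 0x15d0) (.lf 0x1589)) (.nd (.lf 0x62) (.lf 0x166c))) (.nd (.nd (.lf 0x16a9) (.lf 0x257)) (.nd (.lf 0xb3) (.lf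 0)))) (.nd (.nd (.nd (.lf 0x1372) (.lf 0x620)) (.nd (.lf 0x12aa) (.lf 0x498))) (.nd (.nd (.lf 0x133e) (.lf 0x13b)) (.nd (.lf 0xcb) (.lf 0))))) (.nd (.nd (.nd (.nd (.lf 0x10e2) (.lf 0x3f2)) (.nd (.lf 0x10fe) (.lf 0x48f))) (.nd (.nd (.lf 0x232) (.lf 0x145c)) (.nd (.lf 0x13f7) (.lf 0)))) (.nd (.nd (.nd (.lf 0x4b0) (.lf 0x13ab)) (.nd (.lf 0x267) (.lf 0))) (.nd (.nd (.lf 0x154) (.lf 0x5cd)) (.nd (.lf 0x124e) (.lf 0)))))))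
def phA_nbbaba : Tr := (.nd (.nd (.nd (.nd (.nd (.nd (.lf 0x10ec) (.lf 0x14bb)) (.nd (.lf 0x1539) (.lf 0x5d2))) (.nd (.nd (.lf 0x501) (.lf 0x6da)) (.nd (.lf 0x165b) (.lf 0)))) (.nd (.nd (.nd (.lf 0x1435) (.lf 0x162)) (.nd (.lf 0x44c) (.lf 0x64))) (.nd (.nd (.lf 0x268) (.lf 0x62e)) (.nd (.lf 0x1116) (.lf 0))))) (.nd (.nd (.nd (.nd (.lf 0x12da) (.lf 0x20)) (.nd (.lf 0x1f1) (.lf 0x6b7))) (.nd (.nd (.lf 0x5af) (.lf 0x98)) (.nd (.lf 0x1588) (.lf 0)))) (.nd (.nd (.nd (.lf 0xf0) (.lf 0x45)) (.nd (.lf 0x66b) (.lf 0x1077))) (.nd (.nd (.lf 0x149b) (.lf 0x1514)) (.nd (.lf 0x1ea) (.lf 0)))))) (.nd (.nd (.nd (.nd (.nd (.lf 0x58) (.lf 0x289)) (.nd (.lf 0x605) (.lf 0x1320))) (.nd (.nd (.lf 0x338) (.lf 0xba)) (.nd (.lf 0x1275) (.lf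 0)))) (.nd (.nd (.nd (.lf 0x15bf) (.lf 0x1441)) (.nd (.lf 0x568) (.lf 0x1039))) (.nd (.nd (.lf 0x1301) (.lf 0x10f1)) (.nd (.lf 0x15cd) (.lf 0))))) (.nd (.nd (.nd (.nd (.lf 0x13d2) (.lf 0x9c)) (.nd (.lf 0x68b) (.lf 0x1045))) (.nd (.nd (.lf 0x23c) (.lf 0x48a)) (.nd (.lf 0x1b0) (.lf 0)))) (.nd (.nd (.nd (.lf 0x561) (.lf 0x140c)) (.nd (.lf 0xf6) (.lf 0))) (.nd (.nd (.lf 0x79) (.lf 0x244)) (.nd (.lf 0x3a7) (.lf 0)))))))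
def phA_nbbabb : Tr := (.nd (.nd (.nd (.nd (.nd (.nd (.lf 0x6bd) (.lf 0x612)) (.nd (.lf 0x11da) (.lf 0x4d3))) (.nd (.nd (.lf 0x123f) (.lf 0x380)) (.nd (.lf 0x163a) (.lf 0)))) (.nd (.nd (.nd (.lf 0x10ba) (.lf 0x1347)) (.nd (.lf 0x4f1) (.lf 0x15d6))) (.nd (.nd (.lf 0x1086) (.lf 0x1c5)) (.nd (.lf 0x14f0) (.lf 0))))) (.nd (.nd (.nd (.nd (.lf 0x670) (.lf 0x11e3)) (.nd (.lf 0x625) (.lf 0x117d))) (.nd (.nd (.lf 0xeb) (.lf 0x121d)) (.nd (.lf 0x13bc) (.lf 0)))) (.nd (.nd (.nd (.lf 0x1543) (.lf 0x6b5)) (.nd (.lf 0x121e) (.lf 0))) (.nd (.nd (.lf 0x6bb) (.lf 0x156b)) (.nd (.lf 0x526) (.lf 0)))))) (.nd (.nd (.nd (.nd (.nd (.lf 0x64d) (.lf 0x2b3)) (.nd (.lf 0x138d) (.lf 0x1508))) (.nd (.nd (.lf 0x1469) (.lf 0x109b)) (.nd (.lf 0x237)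 (.lf 0)))) (.nd (.nd (.nd (.lf 0x202) (.lf 0x114c)) (.nd (.lf 0x13af) (.lf 0x131))) (.nd (.nd (.lf 0x16bc) (.lf 0x14e8)) (.nd (.lf 0x1354) (.lf 0))))) (.nd (.nd (.nd (.nd (.lf 0x1257) (.lf 0x1b3)) (.nd (.lf 0x11d6) (.lf 0x67c))) (.nd (.nd (.lf 0x6a8) (.lf 0x15b1)) (.nd (.lf 0x5b0) (.lf 0)))) (.nd (.nd (.nd (.lf 0x13b4) (.lf 0x1665)) (.nd (.lf 0x1648) (.lf 0))) (.nd (.nd (.lf 0x563) (.lf 0x1613)) (.nd (.lf 0xdf) (.lf 0)))))))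
def phA_nbbbaa : Tr := (.nd (.nd (.nd (.nd (.nd (.nd (.lf 0x0) (.lf 0x14c)) (.nd (.lf 0x1298) (.lf 0x1016))) (.nd (.nd (.lf 0x1506) (.lf 0x11ab)) (.nd (.lf 0x164c) (.lf 0)))) (.nd (.nd (.nd (.lf 0x13fc) (.lf 0x15b4)) (.nd (.lf 0x4a8) (.lf 0x14e5))) (.nd (.nd (.lf 0x10df) (.lf 0x10f8)) (.nd (.lf 0x13f0) (.lf 0))))) (.nd (.nd (.nd (.nd (.lf 0x320) (.lf 0x23e)) (.nd (.lf 0x6af) (.lf 0x4ad))) (.nd (.nd (.lf 0x539) (.lf 0x1391)) (.nd (.lf 0x59a) (.lf 0)))) (.nd (.nd (.nd (.lf 0x49b) (.lf 0x134a)) (.nd (.lf 0x14d0) (.lf 0x108a))) (.nd (.nd (.lf 0x12ed) (.lf 0x12e1)) (.nd (.lf 0x31) (.lf 0)))))) (.nd (.nd (.nd (.nd (.nd (.lf 0x25b) (.lf 0x163e)) (.nd (.lf 0xca) (.lf 0x106d))) (.nd (.nd (.lf 0x16c8) (.lf 0x225)) (.nd (.lf 0x11a1)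 (.lf 0)))) (.nd (.nd (.nd (.lf 0x115a) (.lf 0x28d)) (.nd (.lf 0x328) (.lf 0x1576))) (.nd (.nd (.lf 0x3d) (.lf 0x1657)) (.nd (.lf 0x1022) (.lf 0))))) (.nd (.nd (.nd (.nd (.lf 0xb6) (.lf 0x162e)) (.nd (.lf 0x27) (.lf 0x2d2))) (.nd (.nd (.lf 0x21a) (.lf 0x14b)) (.nd (.lf 0x4ca) (.lf 0)))) (.nd (.nd (.nd (.lf 0x5f1) (.lf 0xc0)) (.nd (.lf 0x326) (.lf 0))) (.nd (.nd (.lf 0x20e) (.lf 0x3e)) (.nd (.lf 0x4cc) (.lf 0)))))))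
def phA_nbbbab : Tr := (.nd (.nd (.nd (.nd (.nd (.nd (.lf 0x1481) (.lf 0x1507)) (.nd (.lf 0x348) (.lf 0x1537))) (.nd (.nd (.lf 0x511) (.lf 0x11a2)) (.nd (.lf 0x39) (.lf 0)))) (.nd (.nd (.nd (.lf 0x116a) (.lf 0x13f6)) (.nd (.lf 0x1264) (.lf 0x12f1))) (.nd (.nd (.lf 0x515) (.lf 0x1267)) (.nd (.lf 0x161c) (.lf 0))))) (.nd (.nd (.nd (.nd (.lf 0x5e0) (.lf 0x1de)) (.nd (.lf 0x1062) (.lf 0x2a8))) (.nd (.nd (.lf 0x1ce) (.lf 0x1305)) (.nd (.lf 0x12c7) (.lf 0)))) (.nd (.nd (.nd (.lf 0x1418) (.lf 0x19b)) (.nd (.lf 0x1397) (.lf 0x12b))) (.nd (.nd (.lf 0x1453) (.lf 0x699)) (.nd (.lf 0x144a) (.lf 0)))))) (.nd (.nd (.nd (.nd (.nd (.lf 0x245) (.lf 0x1bd)) (.nd (.lf 0x122b) (.lf 0x400))) (.nd (.nd (.lf 0x310) (.lf 0x15c1)) (.nd (.lf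 0x2d) (.lf 0)))) (.nd (.nd (.nd (.lf 0x143d) (.lf 0x13ac)) (.nd (.lf 0x1a5) (.lf 0x53c))) (.nd (.nd (.lf 0x368) (.lf 0x37d)) (.nd (.lf 0x445) (.lf 0))))) (.nd (.nd (.nd (.nd (.lf 0x11f7) (.lf 0x1569)) (.nd (.lf 0x1390) (.lf 0x41b))) (.nd (.nd (.lf 0x13aa) (.lf 0x4eb)) (.nd (.lf 0x1204) (.lf 0)))) (.nd (.nd (.nd (.lf 0x137c) (.lf 0x2d4)) (.nd (.lf 0x4e4) (.lf 0))) (.nd (.nd (.lf 0x2fe) (.lf 0xb)) (.nd (.lf 0x14e4) (.lf 0)))))))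
def phA_nbbbba : Tr := (.nd (.nd (.nd (.nd (.nd (.nd (.lf 0x296) (.lf 0x11c2)) (.nd (.lf 0x12de) (.lf 0xa3))) (.nd (.nd (.lf 0x6c2) (.lf 0x44e)) (.nd (.lf 0x1173) (.lf 0)))) (.nd (.nd (.nd (.lf 0x14a2) (.lf 0x10a8)) (.nd (.lf 0x145f) (.lf 0x1f0))) (.nd (.nd (.lf 0x10b3) (.lf 0x5df)) (.nd (.lf 0xd1) (.lf 0))))) (.nd (.nd (.nd (.nd (.lf 0x160) (.lf 0x22d)) (.nd (.lf 0x648) (.lf 0x4c6))) (.nd (.nd (.lf 0x15bb) (.lf 0x1355)) (.nd (.lf 0x101b) (.lf 0)))) (.nd (.nd (.nd (.lf 0x383) (.lf 0x3a6)) (.nd (.lf 0xe3) (.lf 0x1618))) (.nd (.nd (.lf 0x10d2) (.lf 0x11d1)) (.nd (.lf 0x426) (.lf 0)))))) (.nd (.nd (.nd (.nd (.nd (.lf 0x10f4) (.lf 0x456)) (.nd (.lf 0x606) (.lf 0x15f1))) (.nd (.nd (.lf 0x51) (.lf 0x6ce)) (.nd (.lf 0x3ef)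 (.lf 0)))) (.nd (.nd (.nd (.lf 0x10d9) (.lf 0x14de)) (.nd (.lf 0x14b3) (.lf 0x39a))) (.nd (.nd (.lf 0x15) (.lf 0x64f)) (.nd (.lf 0x334) (.lf 0))))) (.nd (.nd (.nd (.nd (.lf 0x3ee) (.lf 0x1426)) (.nd (.lf 0x13d3) (.lf 0x14f9))) (.nd (.nd (.lf 0x15b5) (.lf 0x36f)) (.nd (.lf 0x14bf) (.lf 0)))) (.nd (.nd (.nd (.lf 0x4d7) (.lf 0x24f)) (.nd (.lf 0x1432) (.lf 0))) (.nd (.nd (.lf 0x1b1) (.lf 0x161e)) (.nd (.lf 0x1036) (.lf 0)))))))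
def phA_nbbbbb : Tr := (.nd (.nd (.nd (.nd (.nd (.nd (.lf 0x277) (.lf 0x13cd)) (.nd (.lf 0x1551) (.lf 0x7b))) (.nd (.nd (.lf 0x16c3) (.lf 0x26)) (.nd (.lf 0x11d3) (.lf 0)))) (.nd (.nd (.nd (.lf 0x26a) (.lf 0x197)) (.nd (.lf 0x16d0) (.lf 0x27e))) (.nd (.nd (.lf 0x3d1) (.lf 0x494)) (.nd (.lf 0x4dc) (.lf 0))))) (.nd (.nd (.nd (.nd (.lf 0x1195) (.lf 0x5e3)) (.nd (.lf 0x135a) (.lf 0x1be))) (.nd (.nd (.lf 0x5c0) (.lf 0x61d)) (.nd (.lf 0x355) (.lf 0)))) (.nd (.nd (.nd (.lf 0x1132) (.lf 0x1393)) (.nd (.lf 0x66) (.lf 0))) (.nd (.nd (.lf 0x11c8) (.lf 0x3bb)) (.nd (.lf 0x11ee) (.lf 0)))))) (.nd (.nd (.nd (.nd (.nd (.lf 0xa8) (.lf 0x1135)) (.nd (.lf 0x3be) (.lf 0x8f))) (.nd (.nd (.lf 0x668) (.lf 0x154f)) (.nd (.lf 0x12d1) (.lf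 0)))) (.nd (.nd (.nd (.lf 0x384) (.lf 0x10db)) (.nd (.lf 0x396) (.lf 0x530))) (.nd (.nd (.lf 0xa) (.lf 0x10e5)) (.nd (.lf 0x5e7) (.lf 0))))) (.nd (.nd (.nd (.nd (.lf 0x10a6) (.lf 0x133)) (.nd (.lf 0x105b) (.lf 0x11be))) (.nd (.nd (.lf 0x1672) (.lf 0x13e0)) (.nd (.lf 0x270) (.lf 0)))) (.nd (.nd (.nd (.lf 0x401) (.lf 0x14f)) (.nd (.lf 0x15df) (.lf 0))) (.nd (.nd (.lf 0x416) (.lf 0x4ce)) (.nd (.lf 0x122f) (.lf 0)))))))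
def phA : Tr := (.nd (.nd (.nd (.nd (.nd phA_naaaaa phA_naaaab) (.nd phA_naaaba phA_naaabb)) (.nd (.nd phA_naabaa phA_naabab) (.nd phA_naabba phA_naabbb))) (.nd (.nd (.nd phA_nabaaa phA_nabaab) (.nd phA_nababa phA_nababb)) (.nd (.nd phA_nabbaa phA_nabbab) (.nd phA_nabbba phA_nabbbb)))) (.nd (.nd (.nd (.nd phA_nbaaaa phA_nbaaab) (.nd phA_nbaaba phA_nbaabb)) (.nd (.nd phA_nbabaa phA_nbabab) (.nd phA_nbabba phA_nbabbb))) (.nd (.nd (.nd phA_nbbaaa phA_nbbaab) (.nd phA_nbbaba phA_nbbabb)) (.nd (.nd phA_nbbbaa phA_nbbbab) (.nd phA_nbbbba phA_nbbbbb)))))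
def sizeA : List ℕ := [1, 640, 80, 1024, 10]
def repA : List ℕ := [0, 1, 2, 3, 7]
def sCode : List ℕ := [0xf2a8677f25d067faf17696c213a46aff9ed226bde270eb3973a9295abd735a11cdb472264709d1f13ead9c20d5d8a55df15226b4621b3a606ae1ba48d4c19c5a9cf210be2a6195625d83360e0dfdf20d9793bc1a5ec8f827a071a12d62368f9d861b, 0xa5017ebcf31adc8cec443057b1164ec0897887c44a2e4ed64c282c881611dd09e06e723e0feb59a2c7902cf6f9d21525f219d6542a3e73324bedfa1c0cb7e345e60cc3596b5c93c7d94f41131d8fd58ebe8ebe4c17a2ad466de390b372d27b3dc4be]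
def sInv : List ℕ := [0xbe805430b559324bc58b59c11c8b540ad9431544da331c5fa555e79f3e7f789d2c80e41e2c5ab5dba52ddc6fa99db9326e3639837f2aa278feffe4da88e8c6277d5fc8edb0bb41f0bb444d49f93ab6022c9ebac756dc7820ba81cb4ff9c89510a66a, 0x967a80d48033a8d58e81a4cee49039350d94f50e2958608ac08df2527d915d88e1a344139bb91211a78ed55962942ddd4844c648acbf9ecee6960b3b4a07d2e76bea711ca5d3d46e2cc8f8e159e2d0c7da9a1a7238167f68a71d7f8368d930fcdb89]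
def gCode : List ℕ := [0x26ad75f18feeecba4b278acaf336094232e1a056675e16799e628ddd4dc0fdd9adf946c5ee45758dbcb2000004080875f964f52a628a57749a7404300000085e9a5da97021ac1140768213fa9b45530397571d72057b116c4bcd3b574e92d0000001, 0x224f7466dd8c0c8d3458eb0f0a82ce5d1669dd023fb9b0e7adc10de0365df7e913344cf2785621de8099535b6af5c3193f7e26d04a66c8a7bc51dda2837ab08af504d33cdfe7455bda98e8deb24326c2ed8bd1bff54da1935cffa80afcacd0000001]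
def gSrc : List ℕ := [6935, 5751]
def xIdx : ℕ := 0
def witG : Tr := (.nd (.nd (.lf 0x2000000) (.lf 0x4000)) (.nd (.lf 0x2000) (.lf 0x2006000)))
def tCode : List ℕ := [0xd50bc577bb0d0ffb6ed6ea1106a40b0245cfadde6bed7bb948c5a368edab87321fe5fef34142c92df20a213fa9b359e8a2c3c309d8f3c6c42c4a733057b11608d779d4e1a03c78d7867ff6b0925fde92c965ddd5c6167431b459c3e12525a0000001, 0x224f7466dd8c0c8d3458eb0f0a82ce5d1669dd023fb9b0e7adc10de0365df7e913344cf2785621de8099535b6af5c3193f7e26d04a66c8a7bc51dda2837ab08af504d33cdfe7455bda98e8deb24326c2ed8bd1bff54da1935cffa80afcacd0000001, 0xabac843cc184906dad9cb5db723d79cfb600e05c232cf6f9d5514a330ee7642e0183c6a6ef86768031222cf14d079e48a75dd16f54f4980237053fe518bacacd914c17f76130253deee1f9c839adafd6a46b0237d80c7b6b6b0b3087db68c0000001]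
def tSrc : List ℕ := [2, 4, 7]
def qGen : List ℕ := [0x2afa3f35c3193f44f1ebfa7da08d8931e58b212d2df7334235d7cf9b35c8fde7bb86f031a589d55159c4683a54fbd3bf32b7e285cc1bac4cdba0cf1e5e753db545964bd47cf8deddfaed869ad0ab3b4ce0010000dcdd7770000004cbeaf070000001, 0xda01055567fd462aa9ab11e3922fce5d16635ca2a57d1b1279e595b0f0858c960380d33901e286af43405c8640d7bb0d0f321743d7d9ee40264709d558de8d416c938959697f8bad22faec9defd85dfc9f46c516c2104a1000000432118280000001]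
def qSrc : List ℕ := [5891, 4149]
def kGen : List ℕ := [0x63a9c12c11d92a1106a4de6de68c21abc173b337aea2e20d186069215bc312592ec26d47aa351f7a0523be34c979e48a7bc4cf3af8833b3f14ec1b6a692e205e2d1cd3cff43000008077b333aefbb6df894332e8edcf43000000476ebfea0000001, 0x73099ac518baca47a2b1270c7d49255a5f25d424cd3b95ac821cb743def3a309092c8f187e2404754b935e025d0ad07cf89c5c315fbdde6951bac4e54de3d0b029ceed3e290500000804575b34bacd9683cdce0061fa604000000462ebf4c0000001]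
def kSrc : List ℕ := [4805, 4714]
def kList : List ℕ := [0x8000000400000020000001000000080000004000000200000010000000800000040000002000000100000008000000400000020000001000000080000004000000200000010000000800000040000002000000100000008000000400000020000001, 0x63a9c12c11d92a1106a4de6de68c21abc173b337aea2e20d186069215bc312592ec26d47aa351f7a0523be34c979e48a7bc4cf3af8833b3f14ec1b6a692e205e2d1cd3cff43000008077b333aefbb6df894332e8edcf43000000476ebfea0000001, 0x73099ac518baca47a2b1270c7d49255a5f25d424cd3b95ac821cb743def3a309092c8f187e2404754b935e025d0ad07cf89c5c315fbdde6951bac4e54de3d0b029ceed3e290500000804575b34bacd9683cdce0061fa604000000462ebf4c0000001, 0x3c8efed0b828800c0e8bcbaf3b7eeb196e83956f7add1b5dc67b1886436e0ab8fb84f16563eb6042581c49ae9c010fbcc8bc4cf3a0efeacdf14ec1b08afaea3d6aaffd3cff43000008021610832173c485a9cf218b858530000004f5a3f260000001,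 0x21a4cfbfba4c2e08adeea9352386d53e0cb2dd10d1c94b23837d2b2efec8da10dcd5060243e9a4a97ca552e1b43377829332c3e7c047fa38a7aca8004b1e799545773002d7c200000801510e9e93301d641fe09afad7cfe0000004348e4a10000001, 0x7efd6b468eafed5688dc25c319391e2af59828d4b2f453e72ad66560baccabddba0cf1a19fd3ed07f2299cd4a50449b17b00020002f9d14a000080091876cac19fce500001000000080ba4cafd0dd987e3038f60dbe0d7d00000046fd694e0000001, 0xc8f22d2fdd1676a2eb227532a74458dbcb29530b9ed8c08766ebd8a52a422d7fabd21f4606f83a3cc3a4a2f4a010fdd2b232c3e7c0006409a7aca80309506e2f95c5f002d7c20000080c19a1e88e1a344319ff100d8aca10000004359e8a20000001, 0x5e167995fdf8b8367240598105209796b7f2e93561ec20bf0ac4bd69e1bfe136dccd654bc58b56267ca447de19abf7ab189c5c315211da3d51bac4e94e35d0f4b6c95d3e290500000807a39f1764f69b7af5a2714f46e6f0000004883d89e0000001]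
def kPar : List ℕ := [0, 0, 4096, 4097, 2, 3, 4100, 4101]
def kTab : List ℕ := [1, 0, 4, 5, 2, 3, 7, 6, 2, 3, 0, 1, 6, 7, 4, 5]
def aGen : List ℕ := [0x3d18ccad6af3e90709ea049332ba4e942b44b3291478efd2a081c0932094b3a491f892cc2a81fd89422fc5424873be34c9ec9a3941611dd0a5a78bc3cdce000000004081894439d09e541644cb8e1e8b62647ef4b47b0705226b4600000020000001, 0xf5d298313e75fa6034794998b26e5c2eb8b5369f43167aab88f8e159f6a924403a2c1714ba473c26534206d2630f25b033da01055141efda816f2f14b8658e4bc58b521525f2b8622a3bd67ef27d3fd7c0a9080e2ce51b786184bd00000020000001]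
def aSrc : List ℕ := [4430, 9810]
def xT : List ℕ := [0x99fa1c48d3a9078c0d4707c7a85663a5f87b596c39b6c2dedbf731a1318b2b13e99d1427cdb897c0eb4c295649e777426a49f40f4c6fd8c6002000019d044b925dbf35c0415dd02e2ccf0508050de7642f25b0331a239b24e38beda95044a0000001, 0xa39344353664e26a6b3e2b6e5342686f3e21b020d51f878d64ed427b236b4e047a2b12c19fce5bf7ab18919b82a3956f7a4fee71a6dff69bdb387999b12d3cc410ee9d306a71db61a43ad4b731adba33fb050804948eee00080000d5c3b9b0000001, 0x9a9c0574a3bf77e76bea7beca73beb98032ea56aae657d1b3682592033d7c95675af9d486d2b75aad2b05e2f286fcd14bb01153a3e2b58eba3db749ea47d8a91c8ff1dfe7d770d8ac2983d86b0e651782dfe80bdcc150dc1a026470e0d4660000001]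
def xTw : List ℕ := [17697559, 13612324, 11905709]
def xS : List ℕ := [0x1771b7fd05b85b46de215f748107e70caca5405b0761d0f315260177990b464c6f8ca4e49eac49ec3d6443467ae8dabb95e7081072173c4847110fa9bd44d0b45dff57d9ee40ade73b794b888b8a71d7ff5d2983ed22090ce7ea6d254da85beca73b, 0x45428d835ca2a54f996d83e7f7893de744703e7ed9f1116aadebb11b73608b73c8b019122f92f6c45b771683ea6d3e2885e53ef2ffdefc3d623c3b0e5f572d1b435d6257fd065898e9a885ff4120b9e30f9eca27b6b0c4cf385691f9a0871777426a]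
def xSw : List ℕ := [237708858416, 59563135772]
def xA : ℕ := 1196
def unitIdx : List ℕ := [0, 1202, 3618, 1605, 3898, 1028, 1376, 2040, 2054, 3702, 971, 2228, 2917, 1546, 2468, 1182, 1440, 479, 697, 1293, 1852, 1980, 2297, 437, 960, 3420, 2519, 2219]
def combQ : List (List ℕ) := [[1, 3, 4, 5, 7, 8, 10, 13, 14, 19, 20, 21, 23, 28], [0, 1, 2, 3, 5, 8, 9, 11, 15, 16, 18, 19, 21, 22, 23, 24, 25, 28], [0], [1, 2, 5, 11, 13, 14, 15, 18, 19, 22, 24, 28], [1, 2, 4, 5, 7, 8, 9, 10, 12, 13, 14, 16, 18, 20, 22, 23, 25, 28], [0, 1, 3, 5, 9, 10, 12, 15, 16, 17, 18, 20, 24, 27, 28], [1, 2, 4, 10, 11, 12, 13, 14, 17, 19, 21, 27], [0, 2, 6, 14, 15, 18, 19, 20, 23, 24, 25], [1, 3, 5, 6, 7, 9, 11, 13, 15, 16, 18, 20, 22, 25], [0, 2,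 3, 4, 7, 9, 11, 13, 14, 15, 19, 20, 21, 24, 28], [3, 5, 8, 10, 11, 16, 17, 18, 20, 22, 24, 25, 27, 28], [0, 1, 2, 3, 6, 8, 10, 11, 12, 13, 15, 16, 21, 22, 23, 24, 25, 27, 28], [1, 2, 3, 5, 6, 7, 8, 10, 11, 12, 17, 20, 22, 23, 28], [0, 1, 2, 3, 6, 8, 9, 10, 18, 20, 22, 23, 25, 27, 28], [0, 4, 6, 12, 15, 19, 20, 23, 27, 28], [0, 3, 6, 8, 10, 11, 14, 16, 17, 20, 22, 23, 24, 25], [2, 3, 4, 6, 7, 9, 10, 13, 14, 15, 16, 19, 20, 21, 23, 25], [0, 1, 3, 5, 6, 10, 13, 16, 17, 18, 22, 24, 28], [1, 2, 4, 5, 6, 7, 8, 9, 10, 14, 16, 18, 20, 22, 23, 25, 27], [1, 2, 3, 6, 8, 9, 10, 11, 13, 14, 16, 17, 24, 27, 28], [13, 14, 15, 18, 21, 23, 24], [3, 5, 6, 7, 8, 11, 12, 13, 15, 17, 18, 19, 21, 22, 24, 27, 28], [7, 8, 9, 10, 15, 16, 17,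 18, 19, 21, 27, 28], [0, 2, 3, 5, 6, 7, 13, 16, 18, 19, 21, 24, 27, 28], [0, 2, 3, 5, 9, 10, 12, 13, 14, 15, 16, 17, 18, 19, 21, 25, 28], [4, 5, 6, 7, 12, 13, 16, 17, 21, 24, 28], [0, 5, 6, 7, 8, 12, 13, 14, 19, 23, 25, 27], [0, 5, 6, 7, 8, 11, 14, 17, 18, 19, 20, 21, 22, 23, 24, 25, 27]]
def combA : List (List ℕ) := [[1, 12, 22], [0], [1755], [8, 9, 10, 11, 12, 19, 20, 21, 27], [0, 1, 2, 3, 4, 5, 7, 10, 14, 16, 18, 19, 20, 21, 22, 23, 27, 28], [0, 2, 4, 8, 11, 13, 15, 16, 18, 19, 22, 25, 27, 28, 1755], [1, 3, 4, 6, 10, 11, 13, 14, 15, 17, 19, 20, 21, 23], [3, 4, 8, 9, 10, 11, 12, 14, 18, 19, 21, 27, 1755], [0, 2, 8, 10, 12, 13, 14, 15, 18, 19, 20, 22, 25, 27, 28], [0, 1, 2, 5, 6, 8, 9, 11, 12, 13, 15, 18, 19, 25, 28,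 1755], [0, 1, 2, 4, 6, 7, 10, 12, 15, 16, 19, 20, 27, 28], [0, 1, 5, 7, 9, 10, 11, 12, 13, 17, 22, 28, 1755], [0, 2, 5, 6, 7, 10, 11, 14, 17, 18, 20, 25, 27, 1755], [0, 2, 3, 6, 8, 9, 12, 13, 17, 18, 20, 21, 22, 23, 28, 1755], [1, 5, 6, 7, 10, 11, 14, 15, 16, 17, 19, 23, 25, 27, 28], [1, 3, 6, 8, 9, 10, 11, 15, 16, 18, 20, 22, 23], [0, 2, 4, 5, 8, 11, 13, 17, 18, 20, 22, 23, 25], [6, 8, 13, 17, 22, 27, 1755], [1, 4, 5, 7, 9, 12, 13, 14, 16, 19, 21, 22, 27, 28, 1755], [3, 4, 5, 9, 11, 12, 13, 16, 18, 19, 20, 23, 1755], [5, 6, 8, 9, 12, 13, 14, 16, 17, 18, 22, 1755], [0, 1, 3, 4, 9, 11, 12, 19, 21, 22, 23, 28, 1755], [0, 1, 3, 4, 10, 14, 15, 19, 20, 22, 27, 28], [2, 3, 6, 7, 13, 17, 18, 20, 21, 22, 25, 27, 28], [0, 1,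 3, 6, 7, 8, 9, 12, 16, 19, 22, 23, 25, 28, 1755], [0, 1, 2, 3, 5, 6, 7, 8, 9, 12, 13, 17, 18, 20, 22, 25, 28, 1755], [2, 4, 6, 7, 9, 10, 11, 12, 13, 15, 18, 19, 20, 22, 25, 27], [0, 2, 3, 4, 7, 8, 9, 12, 14, 16, 21, 22, 23, 25, 1755]]

end H94.RU.D
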