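import Cfsg.Agent.H94.RU.Code
import Cfsg.Agent.H94.RU.UData
import Cfsg.Agent.H94.RU.PtData
import Cfsg.Agent.H94.RU.WData
import Cfsg.Agent.H94.RU.QData
import Cfsg.Agent.H94.RU.VData
import Cfsg.Agent.H94.RU.RData
import Cfsg.Agent.H94.RU.AData
import Cfsg.Agent.H94.RU.APtData
import Cfsg.Agent.H94.RU.SmallData

/-! Boolean checks over the Rudvalis certificate. -/

namespace H94.RU

open D H94.J3

def U (i : ℕ) : ℕ := uT.get i
def Pt (i : ℕ) : ℕ := ptT.get i
def W (i : ℕ) : ℕ := wT.get i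
def Qt (i : ℕ) : ℕ := qT.get i
def V (i : ℕ) : ℕ := vT.get i
def Rt (i : ℕ) : ℕ := rT.get i
def Au (i : ℕ) : ℕ := aT.get i
def Apt (i : ℕ) : ℕ := paT.get i
def K (m : ℕ) : ℕ := kList.getD m 0
def gS (k : ℕ) : ℕ := sCode.getD k 0
def gG (k : ℕ) : ℕ := gCode.getD k 0
def gT (k : ℕ) : ℕ := tCode.getD k 0
def gQ (k : ℕ) : ℕ := qGen.getD k 0
def gK (k : ℕ) : ℕ := kGen.getD k 0
def gA (k : ℕ) : ℕ := aGen.getD k 0
def Xc : ℕ := gG xIdx
def Xj (j : ℕ) : ℕ := bif j == 0 then eye else Xc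

def tabU : ℕ → ℕ → ℕ
  | 0, i => tabT0.get i
  | _, i => tabT1.get i

def witU : ℕ → ℕ → ℕ
  | 0, i => witT0.get i
  | _, i => witT1.get i

def tabW : ℕ → ℕ → ℕ
  | 0, i => tabQ0.get i
  | 1, i => tabQ1.get i
  | _, i => tabQ2.get i

def witW : ℕ → ℕ → ℕ
  | 0, i => witQ0.get i
  | 1, i => witQ1.get i
  | _, i => witQ2.get i

def tabV : ℕ → ℕ → ℕ
  | 0, i => tabR0.get i
  | _, i => tabR1.get i

def witV : ℕ → ℕ → ℕ
  | 0, i => witR0.get i
  | _, i => witR1.get i

def tabA : ℕ → ℕ → ℕ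
  | 0, i => tabA0.get i
  | 1, i => tabA1.get i
  | _, i => tabA2.get i

def word2 (w : ℕ) : ℕ := mul (K (w % 8)) (V (w / 8))
def wordT (w : ℕ) : ℕ := mul (word2 (w % 8192)) (W (w / 8192))
def word1 (w : ℕ) : ℕ := mul (wordT (w % 2 ^ 25)) (Xj (w / 2 ^ 25))
def word0 (w : ℕ) : ℕ := mul (word1 (w % 2 ^ 26)) (U (w / 2 ^ 26))

def ok2 (w : ℕ) : Bool := decide (w / 8 < 975) && decide (w % 8 < 8)
def okT (w : ℕ) : Bool := decide (w / 8192 < 2304) && ok2 (w % 8192)
def ok1 (w : ℕ) : Bool := decide (w / 2 ^ 25 < 2) && okT (w % 2 ^ 25)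
def ok0 (w : ℕ) : Bool := decide (w / 2 ^ 26 < 4060) && ok1 (w % 2 ^ 26)

/-- Tree entry: index `0` is the identity, entry `i` is `gens k` times entry `q < i`. -/
def treeChk (ng : ℕ) (gens U par : ℕ → ℕ) (i : ℕ) : Bool :=
  bif i == 0 then U i == eye
  else decide (par i % 4096 < i) && decide (par i / 4096 < ng) &&
    (U i == mul (U (par i % 4096)) (gens (par i / 4096)))

/-- Points: in range, distinct through a sorting, the tree element moves the base point there. -/
def ptChk (n : ℕ) (pt U rk srt : ℕ → ℕ) (i : ℕ) : Bool :=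
  decide (pt i < 2 ^ 28) && decide (rk i < n) && (srt (rk i) == i) &&
    (i + 1 == n || decide (pt (srt i) < pt (srt (i + 1)))) && (mul (pt 0) (U i) == pt i)

def mapChk (n : ℕ) (pt : ℕ → ℕ) (g : ℕ) (tab : ℕ → ℕ) (i : ℕ) : Bool :=
  decide (tab i < n) && (mul (pt i) g == pt (tab i))

def uSch (k i : ℕ) : Bool :=
  ok1 (witU k i) && (mul (U i) (gS k) == mul (word1 (witU k i)) (U (tabU k i)))

def uChk (i : ℕ) : Bool :=
  treeChk 2 gS U parT.get i && ptChk 4060 Pt U rkT.get srtT.get i &&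
    mapChk 4060 Pt (gS 0) (tabU 0) i && mapChk 4060 Pt (gS 1) (tabU 1) i && uSch 0 i && uSch 1 i

def wSch (k i : ℕ) : Bool :=
  ok2 (witW k i) && (mul (W i) (gT k) == mul (word2 (witW k i)) (W (tabW k i)))

def wChk (i : ℕ) : Bool :=
  treeChk 3 gT W parQ.get i && ptChk 2304 Qt W rkQ.get srtQ.get i &&
    mapChk 2304 Qt (gT 0) (tabW 0) i && mapChk 2304 Qt (gT 1) (tabW 1) i &&
    mapChk 2304 Qt (gT 2) (tabW 2) i && wSch 0 i && wSch 1 i && wSch 2 i

def vSch (k i : ℕ) : Bool :=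
  decide (witV k i < 8) && (mul (V i) (gQ k) == mul (K (witV k i)) (V (tabV k i)))

def vChk (i : ℕ) : Bool :=
  treeChk 2 gQ V parR.get i && ptChk 975 Rt V rkR.get srtR.get i &&
    mapChk 975 Rt (gQ 0) (tabV 0) i && mapChk 975 Rt (gQ 1) (tabV 1) i && vSch 0 i && vSch 1 i

def aChk (i : ℕ) : Bool :=
  treeChk 3 gT Au parA.get i && ptChk 1755 Apt Au rkA.get srtA.get i &&
    mapChk 1755 Apt (gT 0) (tabA 0) i && mapChk 1755 Apt (gT 1) (tabA 1) i &&
    mapChk 1755 Apt (gT 2) (tabA 2) i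

def kChk : Bool :=
  (K 0 == eye) &&
    ((List.range 8).all fun m =>
      treeChk 2 gK K (fun t => kPar.getD t 0) m && decide (K m < 2 ^ 784) &&
      ((List.range 8).all fun l => (m == l || K m != K l)) &&
      (List.range 2).all fun k =>
        decide (kTab.getD (8 * k + m) 0 < 8) && (mul (K m) (gK k) == K (kTab.getD (8 * k + m) 0)))

def genChk : Bool :=
  ((List.range 2).all fun k =>
      (mul (gS k) (sInv.getD k 0) == eye) && (mul (sInv.getD k 0) (gS k) == eye)) &&
    ((List.range 2).all fun k =>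
      let s := gSrc.getD k 0
      decide (s / 4096 < 2) && decide (s % 4096 < 4060) &&
        (mul (gG k) (U (tabU (s / 4096) (s % 4096))) == mul (U (s % 4096)) (gS (s / 4096))) &&
        (mul (Pt 0) (gG k) == Pt 0) &&
        (List.range 2).all fun j =>
          ok1 (witG.get (2 * k + j)) && (mul (Xj j) (gG k) == word1 (witG.get (2 * k + j)))) &&
    decide (xIdx < 2) &&
    ((List.range 3).all fun k =>
      let s := tSrc.getD k 0
      decide (s / 4 < 2) && (mul (gT k) (Xj (s % 2)) == mul (Xj (s / 2 % 2)) (gG (s / 4)))) &&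
    ((List.range 2).all fun k =>
      let s := qSrc.getD k 0
      decide (s / 4096 < 3) && decide (s % 4096 < 2304) &&
        (mul (gQ k) (W (tabW (s / 4096) (s % 4096))) == mul (W (s % 4096)) (gT (s / 4096))) &&
        (mul (Qt 0) (gQ k) == Qt 0)) &&
    ((List.range 2).all fun k =>
      let s := kSrc.getD k 0
      decide (s / 4096 < 2) && decide (s % 4096 < 975) &&
        (mul (gK k) (V (tabV (s / 4096) (s % 4096))) == mul (V (s % 4096)) (gQ (s / 4096))) &&
        (mul (Rt 0) (gK k) == Rt 0)) &&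
    ((List.range 2).all fun k =>
      let s := aSrc.getD k 0
      decide (s / 4096 < 3) && decide (s % 4096 < 1755) &&
        (mul (gA k) (Au (tabA (s / 4096) (s % 4096))) == mul (Au (s % 4096)) (gT (s / 4096))) &&
        (mul (Apt 0) (gA k) == Apt 0)) &&
    ((List.range 3).all fun k => mul (Pt 0) (gT k) == Pt 0) &&
    (mul (Qt 0) Xc == Qt xA) && decide (xA < 2304)

/-- Suborbit forest. -/
def subChk (n ng nt : ℕ) (gens pt lab dep ph : ℕ → ℕ) (rep : List ℕ) (i : ℕ) : Bool :=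
  decide (lab i < nt) &&
    bif dep i == 0 then rep.getD (lab i) 0 == i
    else decide (ph i / 4096 < ng) && decide (ph i % 4096 < n) &&
      decide (dep (ph i % 4096) < dep i) && (lab (ph i % 4096) == lab i) &&
      (mul (pt (ph i % 4096)) (gens (ph i / 4096)) == pt i)

def sizeChk (n nt : ℕ) (lab : ℕ → ℕ) (sz : List ℕ) : Bool :=
  (List.range nt).all fun t => (List.range' 0 n).countP (fun i => lab i == t) == sz.getD t 0

/-- Subset sums containing the base orbit and dividing `n`. -/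
def sumsChk (n nt : ℕ) (sz : List ℕ) : Bool :=
  (List.range (2 ^ nt)).all fun T =>
    let s := ((List.range nt).map fun t => bif T.testBit t then sz.getD t 0 else 0).sum
    bif T.testBit 0 && (n % s == 0) then (T == 1 || T == 2 ^ nt - 1) else true

def pow13 (x : ℕ) : ℕ :=
  let x2 := mul x x
  let x4 := mul x2 x2
  let x8 := mul x4 x4
  mul (mul x8 x4) x

def pow29 (x : ℕ) : ℕ :=
  let x2 := mul x x
  let x4 := mul x2 x2
  let x8 := mul x4 x4
  mul (mul (mul (mul x8 x8) x8) x4) x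

def elemChk : Bool :=
  ((List.range 3).all fun k =>
      okT (xTw.getD k 0) && (xT.getD k 0 == wordT (xTw.getD k 0)) &&
        (pow13 (xT.getD k 0) == eye) && (pow13 (mul (xT.getD k 0) (gT k)) == eye)) &&
    ((List.range 2).all fun k =>
      ok0 (xSw.getD k 0) && (xS.getD k 0 == word0 (xSw.getD k 0)) &&
        (pow29 (xS.getD k 0) == eye) && (pow29 (mul (xS.getD k 0) (gS k)) == eye))

def xorPts (pt : ℕ → ℕ) (l : List ℕ) : ℕ := l.foldr (fun i acc => pt i ^^^ acc) 0

def spanChk : Bool :=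
  decide (unitIdx.length = 28) && decide (combQ.length = 28) && decide (combA.length = 28) &&
    ((List.range 28).all fun k =>
      decide (unitIdx.getD k 0 < 4060) && (Pt (unitIdx.getD k 0) == 2 ^ k) &&
      ((combQ.getD k []).all fun i => decide (i < 2304)) && (xorPts Qt (combQ.getD k []) == 2 ^ k) &&
      ((combA.getD k []).all fun i => decide (i < 1756)) &&
      (xorPts (fun i => bif i == 1755 then Qt 0 else Apt i) (combA.getD k []) == 2 ^ k))

/-- `x` is not in `T`. -/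
def notTChk (w : ℕ) : Bool := mul (word2 w) (W xA) != Xc

end H94.RU
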