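import Mathlib
import Cfsg.Agent.H94.RU.Act
import Cfsg.Prelude.Def_Sporadic
import Cfsg.Prelude.Def_Exceptional

/-! The Rudvalis group on 4060 points: simplicity and the Tits subgroup of a point stabiliser. -/

namespace H94.RU

open H94.J3 (allIn_spec)

attribute [local irreducible] H94.J3.Tr.get H94.RU.mul eye

theorem list_all_range {n : ℕ} {f : ℕ → Bool} (h : (List.range n).all f = true) {k : ℕ}
    (hk : k < n) : f k = true :=
  List.all_eq_true.1 h k (List.mem_range.2 hk)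

theorem sizes_of {n nt : ℕ} {lab : ℕ → ℕ} {sz : List ℕ} (h : sizeChk n nt lab sz = true) :
    ∀ t < nt, (List.range' 0 n).countP (fun i => lab i == t) = sz.getD t 0 := by
  intro t ht
  unfold sizeChk at h
  exact eq_of_beq (list_all_range (f := fun t => _ == _) h ht)

theorem sums_of {n nt : ℕ} {sz : List ℕ} (h : sumsChk n nt sz = true) :
    ∀ T < 2 ^ nt, T.testBit 0 = true →
      n % ((List.range nt).map fun t => bif T.testBit t then sz.getD t 0 else 0).sum = 0 →
      T = 1 ∨ T = 2 ^ nt - 1 := by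
  intro T hT h0 hs
  unfold sumsChk at h
  have := List.all_eq_true.1 h T (List.mem_range.2 hT)
  simp only [h0, hs, beq_self_eq_true, Bool.and_self, cond_true, Bool.or_eq_true, beq_iff_eq] at this
  exact this

theorem rep_pow13 {g : GA} {x : ℕ} (h : Rep g x) : Rep (g ^ 13) (pow13 x) := by
  have h2 := h.mul h
  have h4 := h2.mul h2
  have h8 := h4.mul h4
  have h13 := h.mul (h4.mul h8)
  rw [show g ^ 13 = g * ((g * g) * (g * g) * (((g * g) * (g * g)) * ((g * g) * (g * g)))) by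
    simp only [← pow_two, ← pow_add, ← pow_mul, ← pow_succ']; norm_num]
  exact h13

theorem rep_pow29 {g : GA} {x : ℕ} (h : Rep g x) : Rep (g ^ 29) (pow29 x) := by
  have h2 := h.mul h
  have h4 := h2.mul h2
  have h8 := h4.mul h4
  have h16 := h8.mul h8
  have h29 := h.mul (h4.mul (h8.mul h16))
  rw [show g ^ 29 = g * ((g * g) * (g * g) * (((g * g) * (g * g)) * ((g * g) * (g * g)) *
      ((((g * g) * (g * g)) * ((g * g) * (g * g))) * (((g * g) * (g * g)) * ((g * g) * (g * g)))))) by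
    simp only [← pow_two, ← pow_add, ← pow_mul, ← pow_succ']; norm_num]
  exact h29

theorem pow13_one {g : GA} {x : ℕ} (h : Rep g x) (he : pow13 x = eye) : g ^ 13 = 1 := by
  have := rep_pow13 h
  rw [he] at this
  exact this.eq rep_one

theorem pow29_one {g : GA} {x : ℕ} (h : Rep g x) (he : pow29 x = eye) : g ^ 29 = 1 := by
  have := rep_pow29 h
  rw [he] at this
  exact this.eq rep_one

theorem elem_parts :
    (∀ k : Fin 3, okT (D.xTw.getD k 0) = true ∧ D.xT.getD k 0 = wordT (D.xTw.getD k 0) ∧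
      pow13 (D.xT.getD k 0) = eye ∧ pow13 (mul (D.xT.getD k 0) (gT k)) = eye) ∧
    ∀ k : Fin 2, ok0 (D.xSw.getD k 0) = true ∧ D.xS.getD k 0 = word0 (D.xSw.getD k 0) ∧
      pow29 (D.xS.getD k 0) = eye ∧ pow29 (mul (D.xS.getD k 0) (gS k)) = eye := by
  have h := elem_ok
  unfold elemChk at h
  simp only [Bool.and_eq_true] at h
  refine ⟨fun k => ?_, fun k => ?_⟩
  · have := all_of h.1 k
    simp only [Bool.and_eq_true] at this
    exact ⟨this.1.1.1, eq_of_beq this.1.1.2, eq_of_beq this.1.2, eq_of_beq this.2⟩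
  · have := all_of h.2 k
    simp only [Bool.and_eq_true] at this
    exact ⟨this.1.1.1, eq_of_beq this.1.1.2, eq_of_beq this.1.2, eq_of_beq this.2⟩

theorem span_parts :
    (∀ k : Fin 28, D.unitIdx.getD k 0 < 4060 ∧ Pt (D.unitIdx.getD k 0) = 2 ^ (k : ℕ)) ∧
    (∀ k : Fin 28, (∀ i ∈ D.combQ.getD k [], i < 2304) ∧
      xorPts Qt (D.combQ.getD k []) = 2 ^ (k : ℕ)) ∧
    ∀ k : Fin 28, (∀ i ∈ D.combA.getD k [], i < 1756) ∧
      xorPts (fun i => bif i == 1755 then Qt 0 else Apt i) (D.combA.getD k []) = 2 ^ (k : ℕ) := by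
  have h := span_ok
  unfold spanChk at h
  simp only [Bool.and_eq_true] at h
  refine ⟨fun k => ?_, fun k => ?_, fun k => ?_⟩ <;>
    (have := all_of h.2 k
     simp only [Bool.and_eq_true, decide_eq_true_eq, List.all_eq_true] at this)
  · exact ⟨this.1.1.1.1.1, eq_of_beq this.1.1.1.1.2⟩
  · exact ⟨this.1.1.1.2, eq_of_beq this.1.1.2⟩
  · exact ⟨this.1.2, eq_of_beq this.2⟩

namespace Chain

variable (C : Chain)

theorem ptG_inj : ∀ i < 4060, ∀ j < 4060, toVec (Pt i) = toVec (Pt j) → i = j :=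
  (pt_facts fun j hj => (u_parts j hj).2.1).2

theorem actP : PAct 4060 Pt C.G :=
  pact_closure C.s ptG_inj fun k i =>
    ⟨⟨_, (map_of_chk (C.rep_s k) ((u_parts i i.isLt).2.2 k).1).1⟩,
      (map_of_chk (C.rep_s k) ((u_parts i i.isLt).2.2 k).1).2⟩

theorem actQ : PAct 2304 Qt C.T :=
  pact_closure C.t (pt_facts fun j hj => (w_parts j hj).2.1).2 fun k i =>
    ⟨⟨_, (map_of_chk (C.rep_t k) ((w_parts i i.isLt).2.2 k).1).1⟩,
      (map_of_chk (C.rep_t k) ((w_parts i i.isLt).2.2 k).1).2⟩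

theorem actA : PAct 1755 Apt C.T :=
  pact_closure C.t (pt_facts fun j hj => (a_parts j hj).2.1).2 fun k i =>
    ⟨⟨_, (map_of_chk (C.rep_t k) ((a_parts i i.isLt).2.2 k)).1⟩,
      (map_of_chk (C.rep_t k) ((a_parts i i.isLt).2.2 k)).2⟩

theorem actP_faithful {g : C.G} (h : C.actP.hom g = 1) : g = 1 := by
  refine Subtype.ext (eq_one_of_span Pt (fun k => [D.unitIdx.getD k 0]) (fun k => ?_) ?_)
  · show Pt _ ^^^ 0 = _
    rw [Nat.xor_zero]
    exact (span_parts.1 k).2
  · intro k i hi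
    rw [List.mem_singleton.1 hi]
    exact C.actP.fix_of_hom h _ (span_parts.1 k).1

theorem actQ_faithful {g : C.T} (h : C.actQ.hom g = 1) : g = 1 :=
  Subtype.ext (eq_one_of_span Qt (fun k => D.combQ.getD k []) (fun k => (span_parts.2.1 k).2)
    fun k i hi => C.actQ.fix_of_hom h i ((span_parts.2.1 k).1 i hi))

theorem actA_kernel {g : C.T} (h : C.actA.hom g = 1) : g * g = 1 := by
  refine Subtype.ext (sq_eq_one_of_span (fun i => bif i == 1755 then Qt 0 else Apt i) 1755
    (fun k => D.combA.getD k []) (fun k => (span_parts.2.2 k).2) fun k i hi hne => ?_)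
  have hlt : i < 1755 := by have := (span_parts.2.2 k).1 i hi; omega
  rw [show (i == 1755) = false by simp [hne]]
  exact C.actA.fix_of_hom h i hlt

theorem Ga_le {k : Fin 2} : C.ga k ∈ C.T := C.ga_mem k

theorem T_simple : IsSimpleGroup C.T := by
  have : Nontrivial C.T := Finite.one_lt_card_iff_nontrivial.1 (by rw [C.card_T]; norm_num)
  refine ⟨fun M hM => ?_⟩
  by_cases hbot : M = ⊥
  · exact Or.inl hbot
  right
  have hq := normal_dichotomy C.actQ.hom (⟨0, by norm_num⟩ : Fin 2304)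
    (fun i => ⟨⟨C.w i, C.w_mem i⟩, C.actQ.hom_eq (C.w_app i)⟩)
    (fun k => (⟨C.gq k, C.gq_mem k⟩ : C.T))
    (fun k => C.actQ.hom_eq (C.fix_Qt (Subgroup.subset_closure ⟨k, rfl⟩)))
    D.labQ.get D.depQ.get D.repQ D.sizeQ
    (sub_of_chk (fun i hi => allIn_spec subQ_ok (Nat.zero_le i) (by omega)) C.actQ
      (fun k => (⟨C.gq k, C.gq_mem k⟩ : C.T)) C.rep_gq)
    (sizes_of sizeQ_ok) (sums_of sumsQ_ok) (by decide +kernel) (by decide +kernel) (by norm_num) M
  have hQ : 2304 ∣ Nat.card M := hq.resolve_left fun h =>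
    hbot ((Subgroup.eq_bot_iff_forall M).2 fun m hm => C.actQ_faithful (h m hm))
  have ha := normal_dichotomy C.actA.hom (⟨0, by norm_num⟩ : Fin 1755)
    (fun i => ⟨⟨C.au i, C.au_mem i⟩, C.actA.hom_eq (C.au_app i)⟩)
    (fun k => (⟨C.ga k, C.ga_mem k⟩ : C.T))
    (fun k => C.actA.hom_eq (by
      rw [show ((⟨C.ga k, C.ga_mem k⟩ : C.T) : GA) = C.ga k from rfl, app_rep (C.rep_ga k),
        (gen_parts.2.2.2.2.2.2.1 k).2.2.2]))
    D.labA.get D.depA.get D.repA D.sizeA
    (sub_of_chk (fun i hi => allIn_spec subA_ok (Nat.zero_le i) (by omega)) C.actA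
      (fun k => (⟨C.ga k, C.ga_mem k⟩ : C.T)) C.rep_ga)
    (sizes_of sizeA_ok) (sums_of sumsA_ok) (by decide +kernel) (by decide +kernel) (by norm_num) M
  have hA : 1755 ∣ Nat.card M := by
    refine ha.resolve_left fun h => ?_
    have hp : IsPGroup 2 M := fun m => ⟨1, by
      rw [pow_one, pow_two]
      exact Subtype.ext (C.actA_kernel (h m m.2))⟩
    obtain ⟨e, he⟩ := (IsPGroup.iff_card (p := 2)).1 hp
    have h9 : 3 ∣ (2 : ℕ) ^ e := he ▸ Dvd.dvd.trans (by norm_num) hQ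
    have := Nat.le_of_dvd (by norm_num) (Nat.prime_three.dvd_of_dvd_pow h9)
    omega
  have hidx : M.index ∣ 10240 := index_dvd (by rw [C.card_T]) hA
  have hmem : ∀ y : C.T, (y : GA) ^ 13 = 1 → y ∈ M := fun y hy =>
    mem_of_pow (p := 13) (e := 3) (Subtype.ext (by simpa using hy)) hidx (by norm_num)
  have hgen : ∀ k, (⟨C.t k, Subgroup.subset_closure ⟨k, rfl⟩⟩ : C.T) ∈ M := fun k => by
    obtain ⟨h1, h2, h3, h4⟩ := elem_parts.1 k
    obtain ⟨x, hx, hxr⟩ := C.wordT_rep h1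
    rw [← h2] at hxr
    have hxM := hmem ⟨x, hx⟩ (pow13_one hxr h3)
    have htM : (⟨C.t k, Subgroup.subset_closure ⟨k, rfl⟩⟩ : C.T) * ⟨x, hx⟩ ∈ M :=
      hmem _ (show (C.t k * x) ^ 13 = 1 from pow13_one ((C.rep_t k).mul hxr) h4)
    exact (M.mul_mem_cancel_right hxM).1 htM
  refine (Subgroup.eq_top_iff' M).2 fun y => ?_
  have hle : C.T ≤ M.map C.T.subtype := (Subgroup.closure_le _).2 (by
    rintro _ ⟨k, rfl⟩
    exact ⟨_, hgen k, rfl⟩)
  obtain ⟨m, hm, he⟩ := hle y.2
  rwa [← Subtype.ext (a1 := m) (a2 := y) he]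

theorem G_simple : IsSimpleGroup C.G := by
  have : Nontrivial C.G := Finite.one_lt_card_iff_nontrivial.1 (by rw [C.card_G]; norm_num)
  refine ⟨fun M hM => ?_⟩
  by_cases hbot : M = ⊥
  · exact Or.inl hbot
  right
  have hg := normal_dichotomy C.actP.hom (⟨0, by norm_num⟩ : Fin 4060)
    (fun i => ⟨⟨C.u i, C.u_mem i⟩, C.actP.hom_eq (C.u_app i)⟩)
    (fun k => (⟨C.g1 k, C.g1_mem k⟩ : C.G))
    (fun k => C.actP.hom_eq (C.fix_Pt (Subgroup.subset_closure ⟨k, rfl⟩)))
    D.labG.get D.depG.get D.repG D.sizeG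
    (sub_of_chk (fun i hi => allIn_spec subG_ok (Nat.zero_le i) (by omega)) C.actP
      (fun k => (⟨C.g1 k, C.g1_mem k⟩ : C.G)) C.rep_g1)
    (sizes_of sizeG_ok) (sums_of sumsG_ok) (by decide +kernel) (by decide +kernel) (by norm_num) M
  have hG : 4060 ∣ Nat.card M := hg.resolve_left fun h =>
    hbot ((Subgroup.eq_bot_iff_forall M).2 fun m hm => C.actP_faithful (h m hm))
  have hidx : M.index ∣ 35942400 := index_dvd (by rw [C.card_G]) hG
  have hmem : ∀ y : C.G, (y : GA) ^ 29 = 1 → y ∈ M := fun y hy =>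
    mem_of_pow (p := 29) (e := 10) (Subtype.ext (by simpa using hy)) hidx (by norm_num)
  have hgen : ∀ k, (⟨C.s k, Subgroup.subset_closure ⟨k, rfl⟩⟩ : C.G) ∈ M := fun k => by
    obtain ⟨h1, h2, h3, h4⟩ := elem_parts.2 k
    obtain ⟨x, hx, hxr⟩ := C.word0_rep h1
    rw [← h2] at hxr
    have hxM := hmem ⟨x, hx⟩ (pow29_one hxr h3)
    have htM : (⟨C.s k, Subgroup.subset_closure ⟨k, rfl⟩⟩ : C.G) * ⟨x, hx⟩ ∈ M :=
      hmem _ (show (C.s k * x) ^ 29 = 1 from pow29_one ((C.rep_s k).mul hxr) h4)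
    exact (M.mul_mem_cancel_right hxM).1 htM
  refine (Subgroup.eq_top_iff' M).2 fun y => ?_
  have hle : C.G ≤ M.map C.G.subtype := (Subgroup.closure_le _).2 (by
    rintro _ ⟨k, rfl⟩
    exact ⟨_, hgen k, rfl⟩)
  obtain ⟨m, hm, he⟩ := hle y.2
  rwa [← Subtype.ext (a1 := m) (a2 := y) he]

end Chain

theorem simple_of_mulEquiv {A B : Type*} [Group A] [Group B] (e : A ≃* B) (h : IsSimpleGroup A) :
    IsSimpleGroup B := by
  have : Nontrivial B := e.injective.nontrivial
  exact IsSimpleGroup.isSimpleGroup_of_surjective e.toMonoidHom e.surjective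

theorem realization : ∃ H : Subgroup (Equiv.Perm (Fin 4060)), Cfsg.IsRu H ∧
    MulAction.IsPretransitive H (Fin 4060) ∧
    Nat.card (MulAction.stabilizer H (0 : Fin 4060)) = 35942400 ∧
    ∃ T : Subgroup (MulAction.stabilizer H (0 : Fin 4060)), Cfsg.IsTits T := by
  obtain ⟨C⟩ := nonempty_chain
  have hinj : Function.Injective C.actP.hom :=
    (injective_iff_map_eq_one _).2 fun g hg => C.actP_faithful hg
  have e := MonoidHom.ofInjective hinj
  have hcard : Nat.card C.actP.hom.range = 145926144000 := by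
    rw [← Nat.card_congr e.toEquiv, C.card_G]
  have htr : MulAction.IsPretransitive C.actP.hom.range (Fin 4060) := by
    refine (MulAction.isPretransitive_iff_base (0 : Fin 4060)).2 fun i => ?_
    refine ⟨⟨C.actP.hom ⟨C.u i, C.u_mem i⟩, ⟨_, rfl⟩⟩, ?_⟩
    exact C.actP.hom_eq (C.u_app i)
  refine ⟨C.actP.hom.range, ⟨simple_of_mulEquiv e C.G_simple, hcard⟩, htr, ?_, ?_⟩
  · have h := (MulAction.stabilizer C.actP.hom.range (0 : Fin 4060)).card_mul_index
    rw [MulAction.index_stabilizer_of_transitive, Nat.card_fin, hcard] at h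
    omega
  · let f : C.T →* MulAction.stabilizer C.actP.hom.range (0 : Fin 4060) :=
      ((C.actP.hom.rangeRestrict).comp (Subgroup.inclusion (C.T_le.trans C.G1_le))).codRestrict _
        fun t => by
          rw [MulAction.mem_stabilizer_iff]
          exact C.actP.hom_eq (C.fix_Pt (C.T_le t.2))
    have hf : Function.Injective f := by
      intro a b h
      have h' : C.actP.hom (Subgroup.inclusion _ a) = C.actP.hom (Subgroup.inclusion _ b) :=
        congrArg (fun x : MulAction.stabilizer C.actP.hom.range (0 : Fin 4060) =>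
          ((x : C.actP.hom.range) : Equiv.Perm (Fin 4060))) h
      exact Subgroup.inclusion_injective _ (hinj h')
    have eT := MonoidHom.ofInjective hf
    exact ⟨f.range, simple_of_mulEquiv eT C.T_simple, by rw [← Nat.card_congr eT.toEquiv, C.card_T]⟩

end H94.RU
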